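import Cfsg.Statements.S4071
-- import your own Cfsg.Agent.* helpers here
import Mathlib
import Cfsg.Agent.Lib.Helper6.PrimeIndex
import Cfsg.Agent.Lib.Helper17.Coprime
import Cfsg.Agent.Lib.Helper19.IrredCyclic

set_option autoImplicit false
open Cfsg

namespace Cfsg.Agent.S4071


open scoped Pointwise
variable {G : Type*} [Group G]

/-- the `p'`-elements of a subgroup `M` whose elements pairwise commute -/
def pPrimeElts (M : Subgroup G) (hM : ∀ a ∈ M, ∀ b ∈ M, a * b = b * a) (p : ℕ) (hp : p.Prime) :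
    Subgroup G where
  carrier := {g | g ∈ M ∧ ¬ p ∣ orderOf g}
  one_mem' := ⟨M.one_mem, by
    rw [orderOf_one]
    exact fun h => hp.one_lt.ne' (Nat.dvd_one.1 h)⟩
  mul_mem' := by
    rintro a b ⟨ha, ha'⟩ ⟨hb, hb'⟩
    refine ⟨M.mul_mem ha hb, fun h => ?_⟩
    have h1 : orderOf (a * b) ∣ Nat.lcm (orderOf a) (orderOf b) :=
      (show Commute a b from hM a ha b hb).orderOf_mul_dvd_lcm
    have h2 := (h.trans h1).trans (Nat.lcm_dvd_mul _ _)
    rcases (Nat.Prime.dvd_mul hp).1 h2 with h3 | h3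
    · exact ha' h3
    · exact hb' h3
  inv_mem' := by
    rintro a ⟨ha, ha'⟩
    exact ⟨M.inv_mem ha, by rwa [orderOf_inv]⟩

theorem mem_pPrimeElts (M : Subgroup G) (hM : ∀ a ∈ M, ∀ b ∈ M, a * b = b * a) (p : ℕ)
    (hp : p.Prime) (g : G) : g ∈ pPrimeElts M hM p hp ↔ g ∈ M ∧ ¬ p ∣ orderOf g := Iff.rfl

/-- image of the commutator map `a ↦ a⁻¹ * (x a x⁻¹)` on an abelian normal subgroup -/
def commImage (A : Subgroup G) [hA : A.Normal] (hAc : ∀ a ∈ A, ∀ b ∈ A, a * b = b * a) (x : G) :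
    Subgroup G where
  carrier := {b | ∃ a ∈ A, b = a⁻¹ * (x * a * x⁻¹)}
  one_mem' := ⟨1, A.one_mem, by group⟩
  mul_mem' := by
    rintro _ _ ⟨a, ha, rfl⟩ ⟨c, hc, rfl⟩
    refine ⟨a * c, A.mul_mem ha hc, ?_⟩
    have h1 : x * a * x⁻¹ ∈ A := hA.conj_mem a ha x
    have h2 : (x * a * x⁻¹) * c⁻¹ = c⁻¹ * (x * a * x⁻¹) := hAc _ h1 _ (A.inv_mem hc)
    have h3 : a⁻¹ * c⁻¹ = c⁻¹ * a⁻¹ := hAc _ (A.inv_mem ha) _ (A.inv_mem hc)
    calc a⁻¹ * (x * a * x⁻¹) * (c⁻¹ * (x * c * x⁻¹))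
        = a⁻¹ * ((x * a * x⁻¹) * c⁻¹) * (x * c * x⁻¹) := by group
      _ = a⁻¹ * (c⁻¹ * (x * a * x⁻¹)) * (x * c * x⁻¹) := by rw [h2]
      _ = (a⁻¹ * c⁻¹) * (x * (a * c) * x⁻¹) := by group
      _ = (a * c)⁻¹ * (x * (a * c) * x⁻¹) := by rw [h3, mul_inv_rev]
  inv_mem' := by
    rintro _ ⟨a, ha, rfl⟩
    refine ⟨a⁻¹, A.inv_mem ha, ?_⟩
    have h1 : x * a * x⁻¹ ∈ A := hA.conj_mem a ha x
    have h2 : a⁻¹ * (x * a * x⁻¹) = (x * a * x⁻¹) * a⁻¹ := hAc _ (A.inv_mem ha) _ h1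
    rw [h2]
    group

theorem commImage_le (A : Subgroup G) [hA : A.Normal] (hAc : ∀ a ∈ A, ∀ b ∈ A, a * b = b * a)
    (x : G) : commImage A hAc x ≤ A := by
  rintro _ ⟨a, ha, rfl⟩
  exact A.mul_mem (A.inv_mem ha) (hA.conj_mem a ha x)

theorem commImage_conj (A : Subgroup G) [hA : A.Normal] (hAc : ∀ a ∈ A, ∀ b ∈ A, a * b = b * a)
    (x : G) (b : G) (hb : b ∈ commImage A hAc x) : x * b * x⁻¹ ∈ commImage A hAc x := by
  obtain ⟨a, ha, rfl⟩ := hb
  exact ⟨x * a * x⁻¹, hA.conj_mem a ha x, by group⟩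

theorem commImage_conj' (A : Subgroup G) [hA : A.Normal] (hAc : ∀ a ∈ A, ∀ b ∈ A, a * b = b * a)
    (x : G) (b : G) (hb : b ∈ commImage A hAc x) : x⁻¹ * b * x ∈ commImage A hAc x := by
  obtain ⟨a, ha, rfl⟩ := hb
  refine ⟨x⁻¹ * a * x, ?_, by group⟩
  have := hA.conj_mem a ha x⁻¹
  rwa [inv_inv] at this

/-- a fixed point of `x` in the commutator image is trivial, when `x` has `p`-power order and the
element has order prime to `p`. -/
theorem commImage_fixed (A : Subgroup G) [hA : A.Normal] (hAc : ∀ a ∈ A, ∀ b ∈ A, a * b = b * a)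
    (x : G) (p k : ℕ) (hp : p.Prime) (hk : orderOf x = p ^ k) (b : G)
    (hb : b ∈ commImage A hAc x) (hpb : ¬ p ∣ orderOf b) (hfix : x * b * x⁻¹ = b) : b = 1 := by
  obtain ⟨a, ha, hba⟩ := hb
  have h1 : x * a * x⁻¹ = a * b := by rw [hba]; group
  have h2 : ∀ n : ℕ, x ^ n * a * (x ^ n)⁻¹ = a * b ^ n := by
    intro n
    induction n with
    | zero => simp
    | succ n ih =>
      have h3 : x ^ (n + 1) * a * (x ^ (n + 1))⁻¹ = x * (x ^ n * a * (x ^ n)⁻¹) * x⁻¹ := by
        rw [pow_succ']; group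
      rw [h3, ih]
      have h4 : x * (a * b ^ n) * x⁻¹ = (x * a * x⁻¹) * (x * b * x⁻¹) ^ n := by
        rw [conj_pow]; group
      rw [h4, h1, hfix, pow_succ']
      group
  have h5 := h2 (orderOf x)
  rw [pow_orderOf_eq_one, one_mul, inv_one, mul_one] at h5
  have h6 : b ^ orderOf x = 1 := by
    have : a * b ^ orderOf x = a * 1 := by rw [mul_one]; exact h5.symm
    exact mul_left_cancel this
  rw [hk] at h6
  obtain ⟨j, -, hj⟩ := (Nat.dvd_prime_pow hp).1 (orderOf_dvd_of_pow_eq_one h6)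
  rcases j with _ | j
  · rw [pow_zero] at hj
    exact orderOf_eq_one_iff.1 hj
  · exact absurd (hj ▸ dvd_pow_self p (Nat.succ_ne_zero j)) hpb

theorem forward [Finite G] [Group.IsSolvable G] (hnn : ¬ Group.IsNilpotent G)
    (hSN : ∀ H : Subgroup G, ¬ IsMulCommutative H → Subgroup.normalizer (H : Set G) = H) :
    ∃ (x : G) (A : Subgroup G) (p : ℕ), p.Prime ∧ A.Normal ∧ IsMulCommutative A ∧
      (∃ k : ℕ, orderOf x = p ^ k) ∧
      ¬ p ∣ Nat.card A ∧ (Subgroup.zpowers x).IsComplement' A ∧ x ^ p ∈ Subgroup.center G ∧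
      ∀ a : G, a ∈ A → a ≠ 1 → x * a * x⁻¹ ≠ a := by
  classical
  have hnt : (⊥ : Subgroup G) ≠ ⊤ := by
    intro h
    apply hnn
    have h1 : ∀ a : G, a = 1 := fun a => Subgroup.mem_bot.1 (h ▸ Subgroup.mem_top a)
    haveI : Subsingleton G := ⟨fun a b => by rw [h1 a, h1 b]⟩
    infer_instance
  obtain ⟨M, hMn, -, hMi⟩ :=
    Cfsg.Agent.Lib.Helper6.exists_normal_prime_index (⊥ : Subgroup G) hnt inferInstance
  haveI := hMn
  obtain ⟨p, hpM⟩ : ∃ p, M.index = p := ⟨_, rfl⟩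
  have hp : p.Prime := hpM ▸ hMi
  haveI : Fact p.Prime := ⟨hp⟩
  -- `M` is abelian
  have hMab : IsMulCommutative M := by
    by_contra h
    have h1 := hSN M h
    rw [Subgroup.normalizer_eq_top] at h1
    have h2 : M.index = 1 := by rw [← h1]; exact Subgroup.index_top
    rw [h2] at hMi
    exact Nat.not_prime_one hMi
  have hMc : ∀ a ∈ M, ∀ b ∈ M, a * b = b * a := fun a ha b hb =>
    congrArg Subtype.val (hMab.is_comm.comm (⟨a, ha⟩ : M) ⟨b, hb⟩)
  set A := pPrimeElts M hMc p hp with hAdef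
  have hAM : A ≤ M := fun a ha => ha.1
  have hAc : ∀ a ∈ A, ∀ b ∈ A, a * b = b * a := fun a ha b hb => hMc a ha.1 b hb.1
  haveI hAn : A.Normal := by
    refine ⟨fun a ha g => ⟨hMn.conj_mem a ha.1 g, ?_⟩⟩
    have h1 : orderOf (g * a * g⁻¹) = orderOf a := by
      have := MulEquiv.orderOf_eq (MulAut.conj g) a
      simpa using this
    rw [h1]
    exact ha.2
  have hpA : ¬ p ∣ Nat.card A := by
    intro h
    obtain ⟨z, hz⟩ := exists_prime_orderOf_dvd_card' p h
    have h1 : orderOf (z : G) = p := by rw [Subgroup.orderOf_coe]; exact hz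
    exact z.2.2 (h1 ▸ dvd_rfl)
  -- a `p`-element outside `M`
  obtain ⟨P⟩ : Nonempty (Sylow p G) := inferInstance
  have hPM : ¬ (P : Subgroup G) ≤ M := by
    intro h
    have h1 : M.index ∣ (P : Subgroup G).index := Subgroup.index_dvd_of_le h
    rw [hpM] at h1
    exact P.not_dvd_index h1
  obtain ⟨x, hxP, hxM⟩ := SetLike.not_le_iff_exists.1 hPM
  obtain ⟨k, hk⟩ : ∃ k, orderOf x = p ^ k := by
    obtain ⟨k, hk⟩ := P.2 ⟨x, hxP⟩
    have h1 : x ^ p ^ k = 1 := congrArg Subtype.val hk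
    obtain ⟨j, -, hj⟩ := (Nat.dvd_prime_pow hp).1 (orderOf_dvd_of_pow_eq_one h1)
    exact ⟨j, hj⟩
  -- `G ⧸ A` is a `p`-group
  have hQp : IsPGroup p (G ⧸ A) := by
    intro y
    obtain ⟨g, rfl⟩ := QuotientGroup.mk_surjective y
    have hm : g ^ p ∈ M := hpM ▸ M.pow_index_mem g
    obtain ⟨i, j, hdec, ⟨k', hk'⟩, hcop⟩ :=
      Cfsg.Agent.Lib.Helper17.exists_p_pprime_decomp p (g ^ p)
    refine ⟨k' + 1, ?_⟩
    rw [← QuotientGroup.mk_pow, QuotientGroup.eq_one_iff]
    have h1 : g ^ p ^ (k' + 1) = (g ^ p) ^ p ^ k' := by rw [pow_succ', pow_mul]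
    have h2 : (g ^ p) ^ p ^ k' = ((g ^ p) ^ i) ^ p ^ k' * ((g ^ p) ^ j) ^ p ^ k' := by
      conv_lhs => rw [hdec]
      exact ((Commute.refl (g ^ p)).zpow_zpow i j).mul_pow _
    have h3 : ((g ^ p) ^ i) ^ p ^ k' = 1 := by rw [← hk']; exact pow_orderOf_eq_one _
    rw [h1, h2, h3, one_mul]
    refine ⟨M.pow_mem (M.zpow_mem hm j) _, ?_⟩
    intro hdvd
    have h4 : orderOf (((g ^ p) ^ j) ^ p ^ k') ∣ orderOf ((g ^ p) ^ j) := orderOf_pow_dvd _
    exact (Nat.Prime.coprime_iff_not_dvd hp).1 hcop.symm (hdvd.trans h4)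
  have hMx : M ⊔ Subgroup.zpowers x = ⊤ :=
    Cfsg.Agent.Lib.Helper19.IrredCyclic.sup_zpowers_eq_top M hp hpM hxM
  -- `x` does not centralize `A`
  have hxA : ¬ ∀ a ∈ A, x * a = a * x := by
    intro hc
    apply hnn
    have hAZ : A ≤ Subgroup.center G := by
      intro a ha
      have h1 : M ⊔ Subgroup.zpowers x ≤ Subgroup.centralizer {a} := by
        rw [sup_le_iff]
        constructor
        · intro m hm
          rw [Subgroup.mem_centralizer_iff]
          intro h hh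
          rw [Set.mem_singleton_iff.1 hh]
          exact hMc a ha.1 m hm
        · rw [Subgroup.zpowers_le, Subgroup.mem_centralizer_iff]
          intro h hh
          rw [Set.mem_singleton_iff.1 hh]
          exact (hc a ha).symm
      rw [hMx] at h1
      rw [Subgroup.mem_center_iff]
      intro g
      have h2 := Subgroup.mem_centralizer_iff.1 (h1 (Subgroup.mem_top g)) a rfl
      exact h2.symm
    haveI : Group.IsNilpotent (G ⧸ A) := hQp.isNilpotent
    apply Subgroup.isNilpotent_of_ker_le_center (QuotientGroup.mk' A)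
    rw [QuotientGroup.ker_mk']
    exact hAZ
  set K := A ⊔ Subgroup.zpowers x with hKdef
  have hxK : x ∈ K := (le_sup_right : Subgroup.zpowers x ≤ K) (Subgroup.mem_zpowers x)
  have hAK : A ≤ K := le_sup_left
  have hKnab : ¬ IsMulCommutative K := by
    intro h
    apply hxA
    intro a ha
    exact congrArg Subtype.val (h.is_comm.comm (⟨x, hxK⟩ : K) ⟨a, hAK ha⟩)
  have hKN := hSN K hKnab
  have hKtop : K = ⊤ := by
    haveI : Group.IsNilpotent (G ⧸ A) := hQp.isNilpotent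
    have hnc := normalizerCondition_iff_only_full_group_self_normalizing.1
      (Group.normalizerCondition_of_isNilpotent (G := G ⧸ A))
    have h2 : (K.map (QuotientGroup.mk' A)).comap (QuotientGroup.mk' A) = K := by
      rw [Subgroup.comap_map_eq, QuotientGroup.ker_mk']
      exact sup_eq_left.2 hAK
    have h1 := hnc (K.map (QuotientGroup.mk' A)) (by
      apply le_antisymm _ Subgroup.le_normalizer
      intro y hy
      obtain ⟨g, rfl⟩ := QuotientGroup.mk_surjective y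
      have h3 : g ∈ (Subgroup.normalizer
          ((K.map (QuotientGroup.mk' A) : Subgroup (G ⧸ A)) : Set (G ⧸ A))).comap
          (QuotientGroup.mk' A) := hy
      rw [Subgroup.comap_normalizer_eq_of_surjective _ (QuotientGroup.mk'_surjective A), h2,
        hKN] at h3
      exact ⟨g, h3, rfl⟩)
    rw [h1, Subgroup.comap_top] at h2
    exact h2.symm
  have hdisj : Disjoint (Subgroup.zpowers x) A := by
    rw [Subgroup.disjoint_def]
    intro g hgx hgA
    have h1 : orderOf g ∣ p ^ k := by rw [← hk]; exact orderOf_dvd_of_mem_zpowers hgx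
    obtain ⟨j, -, hj⟩ := (Nat.dvd_prime_pow hp).1 h1
    rcases j with _ | j
    · rw [pow_zero] at hj
      exact orderOf_eq_one_iff.1 hj
    · exact absurd (hj ▸ dvd_pow_self p (Nat.succ_ne_zero j)) hgA.2
  have hcompl : (Subgroup.zpowers x).IsComplement' A := by
    apply Subgroup.isComplement'_of_disjoint_and_mul_eq_univ hdisj
    have h1 : ((Subgroup.zpowers x ⊔ A : Subgroup G) : Set G) = (Subgroup.zpowers x : Set G) * A :=
      Subgroup.mul_normal _ _
    rw [← h1, sup_comm, ← hKdef, hKtop]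
    rfl
  have hxp : x ^ p ∈ Subgroup.center G := by
    have hxpM : x ^ p ∈ M := hpM ▸ M.pow_index_mem x
    have h1 : K ≤ Subgroup.centralizer {x ^ p} := by
      rw [hKdef, sup_le_iff]
      constructor
      · intro a ha
        rw [Subgroup.mem_centralizer_iff]
        intro h hh
        rw [Set.mem_singleton_iff.1 hh]
        exact hMc _ hxpM a ha.1
      · rw [Subgroup.zpowers_le, Subgroup.mem_centralizer_iff]
        intro h hh
        rw [Set.mem_singleton_iff.1 hh, ← pow_succ, ← pow_succ']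
    rw [hKtop] at h1
    rw [Subgroup.mem_center_iff]
    intro g
    exact (Subgroup.mem_centralizer_iff.1 (h1 (Subgroup.mem_top g)) _ rfl).symm
  refine ⟨x, A, p, hp, hAn, ⟨⟨fun a b => Subtype.ext (hAc a a.2 b b.2)⟩⟩, ⟨k, hk⟩, hpA, hcompl,
    hxp, ?_⟩
  -- fixed-point-freeness
  intro a haA ha1 hfix
  set B := commImage A hAc x with hBdef
  have hBA : B ≤ A := commImage_le A hAc x
  -- `B` is normal in `G`
  haveI hBn : B.Normal := by
    rw [← Subgroup.normalizer_eq_top_iff, eq_top_iff, ← hKtop, hKdef, sup_le_iff]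
    constructor
    · intro c hc
      rw [Subgroup.mem_normalizer_iff]
      intro h
      constructor
      · intro hh
        have : c * h * c⁻¹ = h := by
          rw [hAc c hc h (hBA hh)]; group
        rw [this]; exact hh
      · intro hh
        have h1 : h ∈ A := by
          have := hAn.conj_mem _ (hBA hh) c⁻¹
          have h2 : c⁻¹ * (c * h * c⁻¹) * c⁻¹⁻¹ = h := by group
          rwa [h2] at this
        have : c * h * c⁻¹ = h := by
          rw [hAc c hc h h1]; group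
        rwa [this] at hh
    · rw [Subgroup.zpowers_le, Subgroup.mem_normalizer_iff]
      intro h
      constructor
      · intro hh
        exact commImage_conj A hAc x h hh
      · intro hh
        have := commImage_conj' A hAc x _ hh
        have h2 : x⁻¹ * (x * h * x⁻¹) * x = h := by group
        rwa [h2] at this
  set H := B ⊔ Subgroup.zpowers x with hHdef
  have hxH : x ∈ H := (le_sup_right : Subgroup.zpowers x ≤ H) (Subgroup.mem_zpowers x)
  have hBH : B ≤ H := le_sup_left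
  have hHnab : ¬ IsMulCommutative H := by
    intro h
    apply hxA
    intro c hc
    have hb : c⁻¹ * (x * c * x⁻¹) ∈ B := ⟨c, hc, rfl⟩
    have h1 : x * (c⁻¹ * (x * c * x⁻¹)) = (c⁻¹ * (x * c * x⁻¹)) * x :=
      congrArg Subtype.val (h.is_comm.comm (⟨x, hxH⟩ : H) ⟨_, hBH hb⟩)
    have h2 : c⁻¹ * (x * c * x⁻¹) = 1 := by
      apply commImage_fixed A hAc x p k hp hk _ hb (hBA hb).2
      rw [h1]; group
    have h3 : x * c * x⁻¹ = c := by
      have : c * (c⁻¹ * (x * c * x⁻¹)) = c * 1 := by rw [h2]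
      rw [mul_one, mul_inv_cancel_left] at this
      exact this
    calc x * c = (x * c * x⁻¹) * x := by group
      _ = c * x := by rw [h3]
  have hHN := hSN H hHnab
  -- `a` centralizes `H`
  have haH : a ∈ H := by
    rw [← hHN]
    apply Subgroup.centralizer_le_normalizer
    have h1 : H ≤ Subgroup.centralizer {a} := by
      rw [hHdef, sup_le_iff]
      constructor
      · intro b hb
        rw [Subgroup.mem_centralizer_iff]
        intro h hh
        rw [Set.mem_singleton_iff.1 hh]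
        exact hAc a haA b (hBA hb)
      · rw [Subgroup.zpowers_le, Subgroup.mem_centralizer_iff]
        intro h hh
        rw [Set.mem_singleton_iff.1 hh]
        calc a * x = (x * a * x⁻¹) * x := by rw [hfix]
          _ = x * a := by group
    rw [Subgroup.mem_centralizer_iff]
    intro h hh
    exact (Subgroup.mem_centralizer_iff.1 (h1 hh) a rfl).symm
  have h1 : ((B ⊔ Subgroup.zpowers x : Subgroup G) : Set G) = (B : Set G) * Subgroup.zpowers x :=
    Subgroup.normal_mul _ _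
  have h2 : a ∈ (B : Set G) * (Subgroup.zpowers x : Set G) := by
    rw [← h1]; exact haH
  obtain ⟨b, hb, z, hz, hbz⟩ := Set.mem_mul.1 h2
  have hzA : z ∈ A := by
    have : z = b⁻¹ * a := by rw [← hbz]; group
    rw [this]
    exact A.mul_mem (A.inv_mem (hBA hb)) haA
  have hz1 : z = 1 := (Subgroup.disjoint_def.1 hdisj) hz hzA
  have hab : a = b := by rw [← hbz, hz1, mul_one]
  apply ha1
  exact commImage_fixed A hAc x p k hp hk a (hab ▸ hb) haA.2 hfix

theorem backward [Finite G] (x : G) (A : Subgroup G) (p : ℕ) (hp : p.Prime) [hAn : A.Normal]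
    (hAc : ∀ a ∈ A, ∀ b ∈ A, a * b = b * a) (k : ℕ) (hk : orderOf x = p ^ k)
    (hcompl : (Subgroup.zpowers x).IsComplement' A) (hxp : x ^ p ∈ Subgroup.center G)
    (hfpf : ∀ a : G, a ∈ A → a ≠ 1 → x * a * x⁻¹ ≠ a)
    (H : Subgroup G) (hH : ¬ IsMulCommutative H) : Subgroup.normalizer (H : Set G) = H := by
  classical
  -- decomposition of elements
  have hdec : ∀ g : G, ∃ n : ℕ, ∃ a ∈ A, g = x ^ n * a := by
    intro g
    obtain ⟨⟨s, a⟩, hsa⟩ := hcompl.2 g
    have hs : (s : G) ∈ Submonoid.powers x := mem_powers_iff_mem_zpowers.2 s.2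
    obtain ⟨n, hn⟩ := (Submonoid.mem_powers_iff _ _).1 hs
    refine ⟨n, a, a.2, ?_⟩
    rw [hn]
    exact hsa.symm
  -- a noncommuting pair
  obtain ⟨h₁, hh₁, h₂, hh₂, hne⟩ : ∃ h₁ ∈ H, ∃ h₂ ∈ H, h₁ * h₂ ≠ h₂ * h₁ := by
    by_contra hno
    push Not at hno
    exact hH ⟨⟨fun a b => Subtype.ext (hno a a.2 b b.2)⟩⟩
  -- an element of `H` of the form `x^i a` with `p ∤ i`
  obtain ⟨y, hyH, i, a, haA, hya, hpi⟩ :
      ∃ y ∈ H, ∃ i : ℕ, ∃ a ∈ A, y = x ^ i * a ∧ ¬ p ∣ i := by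
    obtain ⟨i₁, a₁, ha₁, e₁⟩ := hdec h₁
    obtain ⟨i₂, a₂, ha₂, e₂⟩ := hdec h₂
    by_cases hp1 : p ∣ i₁
    · by_cases hp2 : p ∣ i₂
      · exfalso
        apply hne
        obtain ⟨j₁, rfl⟩ := hp1
        obtain ⟨j₂, rfl⟩ := hp2
        have hc1 : ∀ g : G, g * x ^ (p * j₁) = x ^ (p * j₁) * g := by
          intro g
          rw [pow_mul]
          exact Subgroup.mem_center_iff.1 (Subgroup.pow_mem _ hxp j₁) g
        have hc2 : ∀ g : G, g * x ^ (p * j₂) = x ^ (p * j₂) * g := by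
          intro g
          rw [pow_mul]
          exact Subgroup.mem_center_iff.1 (Subgroup.pow_mem _ hxp j₂) g
        rw [e₁, e₂]
        calc x ^ (p * j₁) * a₁ * (x ^ (p * j₂) * a₂)
            = x ^ (p * j₁) * (a₁ * x ^ (p * j₂)) * a₂ := by group
          _ = x ^ (p * j₁) * (x ^ (p * j₂) * a₁) * a₂ := by rw [hc2 a₁]
          _ = (x ^ (p * j₁) * x ^ (p * j₂)) * (a₁ * a₂) := by group
          _ = (x ^ (p * j₂) * x ^ (p * j₁)) * (a₂ * a₁) := by
              rw [hAc a₁ ha₁ a₂ ha₂, hc1 (x ^ (p * j₂))]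
          _ = x ^ (p * j₂) * (x ^ (p * j₁) * a₂) * a₁ := by group
          _ = x ^ (p * j₂) * (a₂ * x ^ (p * j₁)) * a₁ := by rw [hc1 a₂]
          _ = x ^ (p * j₂) * a₂ * (x ^ (p * j₁) * a₁) := by group
      · exact ⟨h₂, hh₂, i₂, a₂, ha₂, e₂, hp2⟩
    · exact ⟨h₁, hh₁, i₁, a₁, ha₁, e₁, hp1⟩
  -- `x` is a power of `x ^ i`
  obtain ⟨t, ht⟩ : ∃ t : ℕ, (x ^ i) ^ t = x := by
    rcases k with _ | k
    · rw [pow_zero, orderOf_eq_one_iff] at hk
      exact ⟨0, by rw [hk]; simp⟩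
    · have hcop : Nat.Coprime i (p ^ (k + 1)) :=
        Nat.Coprime.pow_right _ ((Nat.Prime.coprime_iff_not_dvd hp).2 hpi).symm
      have h1 : 1 < p ^ (k + 1) := Nat.one_lt_pow (Nat.succ_ne_zero k) hp.one_lt
      obtain ⟨m, -, hm⟩ := Nat.exists_mul_mod_eq_one_of_coprime hcop h1
      refine ⟨m, ?_⟩
      rw [← pow_mul, ← pow_mod_orderOf, hk, hm, pow_one]
  -- conjugation by `y` on `A`
  have hyconj : ∀ b ∈ A, y * b * y⁻¹ = x ^ i * b * (x ^ i)⁻¹ := by
    intro b hb
    rw [hya]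
    have h1 : a * b * a⁻¹ = b := by rw [hAc a haA b hb]; group
    calc x ^ i * a * b * (x ^ i * a)⁻¹ = x ^ i * (a * b * a⁻¹) * (x ^ i)⁻¹ := by group
      _ = x ^ i * b * (x ^ i)⁻¹ := by rw [h1]
  have hyfpf : ∀ b ∈ A, y * b * y⁻¹ = b → b = 1 := by
    intro b hb hfix
    rw [hyconj b hb] at hfix
    by_contra hb1
    apply hfpf b hb hb1
    have h1 : x ^ i * b = b * x ^ i := by
      calc x ^ i * b = (x ^ i * b * (x ^ i)⁻¹) * x ^ i := by group
        _ = b * x ^ i := by rw [hfix]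
    have h2 : x * b = b * x := by
      have h3 : Commute (x ^ i) b := h1
      have h4 := h3.pow_left t
      rw [ht] at h4
      exact h4
    rw [h2]; group
  -- the main step: elements of `A` normalizing `H` lie in `H`
  have hmain : ∀ b ∈ A, b ∈ Subgroup.normalizer (H : Set G) → b ∈ H := by
    intro b hbA hbN
    have hyA : ∀ c ∈ A, y * c * y⁻¹ ∈ A := fun c hc => hAn.conj_mem c hc y
    have hε : ∀ c ∈ H ⊓ A, c * (y * c⁻¹ * y⁻¹) ∈ H ⊓ A := by
      intro c hc
      refine ⟨H.mul_mem hc.1 (H.mul_mem (H.mul_mem hyH (H.inv_mem hc.1)) (H.inv_mem hyH)),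
        A.mul_mem hc.2 (hyA _ (A.inv_mem hc.2))⟩
    let f : ↥(H ⊓ A) → ↥(H ⊓ A) := fun c => ⟨(c : G) * (y * (c : G)⁻¹ * y⁻¹), hε c c.2⟩
    have hεinj : ∀ c ∈ A, ∀ d ∈ A, c * (y * c⁻¹ * y⁻¹) = d * (y * d⁻¹ * y⁻¹) → c = d := by
      intro c hc d hd hcd
      have h1 : y * (d⁻¹ * c) * y⁻¹ = d⁻¹ * c := by
        have h2 : y * (d⁻¹ * c) * y⁻¹ = (y * d⁻¹ * y⁻¹) * (y * c⁻¹ * y⁻¹)⁻¹ := by group
        have h3 : (y * c⁻¹ * y⁻¹) = c⁻¹ * (d * (y * d⁻¹ * y⁻¹)) := by rw [← hcd]; group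
        rw [h2, h3]
        group
      have h8 := hyfpf _ (A.mul_mem (A.inv_mem hd) hc) h1
      calc c = d * (d⁻¹ * c) := by group
        _ = d := by rw [h8, mul_one]
    have hfinj : Function.Injective f := by
      intro c d hcd
      apply Subtype.ext
      exact hεinj c c.2.2 d d.2.2 (congrArg Subtype.val hcd)
    have hfsurj : Function.Surjective f := Finite.injective_iff_surjective.1 hfinj
    -- `ε b ∈ H ⊓ A`
    have hbε : b * (y * b⁻¹ * y⁻¹) ∈ H ⊓ A := by
      refine ⟨?_, A.mul_mem hbA (hyA _ (A.inv_mem hbA))⟩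
      have h1 : b * y * b⁻¹ ∈ H := (Subgroup.mem_normalizer_iff.1 hbN y).1 hyH
      have h2 : b * (y * b⁻¹ * y⁻¹) = (b * y * b⁻¹) * y⁻¹ := by group
      rw [h2]
      exact H.mul_mem h1 (H.inv_mem hyH)
    obtain ⟨c, hc⟩ := hfsurj ⟨_, hbε⟩
    have h3 : (c : G) = b := hεinj c c.2.2 b hbA (congrArg Subtype.val hc)
    rw [← h3]
    exact c.2.1
  apply le_antisymm _ Subgroup.le_normalizer
  intro g hg
  obtain ⟨s, a', ha', hga⟩ := hdec g
  -- `g = b * y ^ (t * s)` with `b ∈ A`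
  have hb : g * (y ^ (t * s))⁻¹ ∈ A := by
    rw [← QuotientGroup.eq_one_iff (N := A)]
    have e1 : ((y : G) : G ⧸ A) = ((x ^ i : G) : G ⧸ A) := by
      rw [hya, QuotientGroup.mk_mul, (QuotientGroup.eq_one_iff a).2 haA, mul_one]
    have e2 : ((g : G) : G ⧸ A) = ((x ^ s : G) : G ⧸ A) := by
      rw [hga, QuotientGroup.mk_mul, (QuotientGroup.eq_one_iff a').2 ha', mul_one]
    rw [QuotientGroup.mk_mul, QuotientGroup.mk_inv, QuotientGroup.mk_pow, e1, e2,
      ← QuotientGroup.mk_pow, pow_mul, ht, mul_inv_cancel]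
  have hyN : y ∈ Subgroup.normalizer (H : Set G) := Subgroup.le_normalizer hyH
  have hbN : g * (y ^ (t * s))⁻¹ ∈ Subgroup.normalizer (H : Set G) :=
    Subgroup.mul_mem _ hg (Subgroup.inv_mem _ (Subgroup.pow_mem _ hyN _))
  have hbH := hmain _ hb hbN
  have : g = g * (y ^ (t * s))⁻¹ * y ^ (t * s) := by group
  rw [this]
  exact H.mul_mem hbH (H.pow_mem hyH _)

/-- Let G be a finite solvable non-nilpotent group. Every non-abelian subgroup of G is self-normalizing if and only if G is a semidirect product ⟨x⟩ ⋉ A in which ⟨x⟩ is a p-group for some prime p, A is a normal abelian subgroup of order prime to p, x^p is central in G, and x acts fixed-point-freely on A (no non-identity element of A commutes with x). -/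
theorem result {G : Type*} [Group G] [Finite G]
    [Group.IsSolvable G] (hnn : ¬ Group.IsNilpotent G) :
    (∀ H : Subgroup G, ¬ IsMulCommutative H → Subgroup.normalizer (H : Set G) = H) ↔
    ∃ (x : G) (A : Subgroup G) (p : ℕ), p.Prime ∧ A.Normal ∧ IsMulCommutative A ∧ (∃ k : ℕ, orderOf x = p ^ k) ∧
      ¬ p ∣ Nat.card A ∧ (Subgroup.zpowers x).IsComplement' A ∧ x ^ p ∈ Subgroup.center G ∧
      ∀ a : G, a ∈ A → a ≠ 1 → x * a * x⁻¹ ≠ a := by
  constructor
  · intro hSN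
    exact forward hnn hSN
  · rintro ⟨x, A, p, hp, hAn, hAc, ⟨k, hk⟩, -, hcompl, hxp, hfpf⟩ H hH
    haveI := hAn
    exact backward x A p hp
      (fun a ha b hb => congrArg Subtype.val (hAc.is_comm.comm (⟨a, ha⟩ : A) ⟨b, hb⟩))
      k hk hcompl hxp hfpf H hH

end Cfsg.Agent.S4071
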