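import Cfsg.Statements.S4074
import Mathlib
-- import your own Cfsg.Agent.* helpers here

set_option autoImplicit false
open Cfsg

namespace Cfsg.Agent.S4074

open DihedralGroup in
/-- parity hom on the dihedral group of even degree -/
noncomputable def par (n : ℕ) (h2 : 2 ∣ n) : DihedralGroup n →* Multiplicative (ZMod 2) :=
  MonoidHom.mk'
    (fun x => match x with
      | DihedralGroup.r i => Multiplicative.ofAdd (ZMod.castHom h2 (ZMod 2) i)
      | DihedralGroup.sr i => Multiplicative.ofAdd (ZMod.castHom h2 (ZMod 2) i))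
    (by
      have hneg : ∀ x : ZMod 2, -x = x := ZMod.neg_eq_self_mod_two
      rintro (i | i) (j | j)
      · simp only [DihedralGroup.r_mul_r, map_add, ofAdd_add]
      · simp only [DihedralGroup.r_mul_sr]
        rw [← ofAdd_add, map_sub, sub_eq_add_neg, hneg, add_comm]
      · simp only [DihedralGroup.sr_mul_r, map_add, ofAdd_add]
      · simp only [DihedralGroup.sr_mul_sr]
        rw [← ofAdd_add, map_sub, sub_eq_add_neg, hneg, add_comm])

theorem par_r (n : ℕ) (h2 : 2 ∣ n) (i : ZMod n) :
    par n h2 (DihedralGroup.r i) = Multiplicative.ofAdd (ZMod.castHom h2 (ZMod 2) i) := rfl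

theorem par_sr (n : ℕ) (h2 : 2 ∣ n) (i : ZMod n) :
    par n h2 (DihedralGroup.sr i) = Multiplicative.ofAdd (ZMod.castHom h2 (ZMod 2) i) := rfl

theorem odd_case (n : ℕ) (hodd : Odd n) (H : Subgroup (DihedralGroup n)) (hH : ¬ IsMulCommutative H) :
    Subgroup.normalizer (H : Set (DihedralGroup n)) = H := by
  apply le_antisymm _ Subgroup.le_normalizer
  obtain ⟨m, hm⟩ := hodd
  have h2m : ((2 : ZMod n) * m) = -1 := by
    have : ((2 * m + 1 : ℕ) : ZMod n) = 0 := by rw [← hm]; exact ZMod.natCast_self n
    push_cast at this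
    linear_combination this
  -- H contains a reflection
  obtain ⟨i, hi⟩ : ∃ i : ZMod n, DihedralGroup.sr i ∈ H := by
    by_contra hcon
    push Not at hcon
    apply hH
    constructor
    constructor
    rintro ⟨x, hx⟩ ⟨y, hy⟩
    apply Subtype.ext
    rcases x with a | a
    · rcases y with b | b
      · simp [add_comm]
      · exact absurd hy (hcon b)
    · exact absurd hx (hcon a)
  -- rotations in the normalizer lie in H
  have hrot : ∀ j : ZMod n, DihedralGroup.r j ∈ Subgroup.normalizer (H : Set (DihedralGroup n)) →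
      DihedralGroup.r j ∈ H := by
    intro j hj
    have h1 := (Subgroup.mem_normalizer_iff.mp hj (DihedralGroup.sr i)).mp hi
    have h2 : DihedralGroup.sr i * (DihedralGroup.r j * DihedralGroup.sr i * (DihedralGroup.r j)⁻¹) ∈ H :=
      H.mul_mem hi h1
    have h3 : DihedralGroup.sr i * (DihedralGroup.r j * DihedralGroup.sr i * (DihedralGroup.r j)⁻¹) =
        DihedralGroup.r (-(2 * j)) := by
      simp only [DihedralGroup.inv_r, DihedralGroup.r_mul_sr, DihedralGroup.sr_mul_r,
        DihedralGroup.sr_mul_sr]
      congr 1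
      ring
    rw [h3] at h2
    have h4 := H.pow_mem h2 m
    rw [DihedralGroup.r_pow] at h4
    have h5 : -(2 * j) * (m : ZMod n) = j := by
      linear_combination (-j) * h2m
    rwa [h5] at h4
  intro g hg
  rcases g with j | j
  · exact hrot j hg
  · have h1 : DihedralGroup.sr j * DihedralGroup.sr i ∈ Subgroup.normalizer (H : Set (DihedralGroup n)) :=
      Subgroup.mul_mem _ hg (Subgroup.le_normalizer hi)
    rw [DihedralGroup.sr_mul_sr] at h1
    have h2 := hrot _ h1
    have h3 : DihedralGroup.sr j = DihedralGroup.r (i - j) * (DihedralGroup.sr i)⁻¹ := by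
      simp
    rw [h3]
    exact H.mul_mem h2 (H.inv_mem hi)

theorem four_case (H : Subgroup (DihedralGroup 4)) (hH : ¬ IsMulCommutative H) :
    Subgroup.normalizer (H : Set (DihedralGroup 4)) = H := by
  have hcard : Nat.card (DihedralGroup 4) = 8 := by rw [DihedralGroup.nat_card]
  have hdvd : Nat.card H ∣ 8 := by rw [← hcard]; exact Subgroup.card_subgroup_dvd_card H
  have hmem : Nat.card H ∈ Nat.divisors 8 := Nat.mem_divisors.mpr ⟨hdvd, by norm_num⟩
  have hdiv : Nat.divisors 8 = {1, 2, 4, 8} := by decide
  rw [hdiv] at hmem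
  simp only [Finset.mem_insert, Finset.mem_singleton] at hmem
  have htop : H = ⊤ := by
    rcases hmem with h | h | h | h
    · exfalso
      apply hH
      have : Subsingleton H := (Nat.card_eq_one_iff_unique.mp h).1
      exact ⟨⟨fun a b => Subsingleton.elim _ _⟩⟩
    · exfalso
      apply hH
      have : Fact (Nat.Prime 2) := ⟨Nat.prime_two⟩
      have : IsCyclic H := isCyclic_of_prime_card h
      exact IsCyclic.isMulCommutative
    · exfalso
      apply hH
      have : Fact (Nat.Prime 2) := ⟨Nat.prime_two⟩
      exact IsPGroup.isMulCommutative_of_card_eq_prime_sq (G := H) (p := 2) (by rw [h]; norm_num)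
    · exact Subgroup.eq_top_of_card_eq H (by rw [h, hcard])
  rw [htop]
  exact Subgroup.normalizer_eq_top (⊤ : Subgroup (DihedralGroup 4))

/-- For n > 2, every non-abelian subgroup of the dihedral group of order 2n is self-normalizing if and only if n = 4 or n is odd. -/
theorem result (n : ℕ) (hn : 2 < n) :
    (∀ H : Subgroup (DihedralGroup n), ¬ IsMulCommutative H → Subgroup.normalizer (H : Set (DihedralGroup n)) = H) ↔
    (n = 4 ∨ Odd n) := by
  constructor
  · intro h
    by_contra hcon
    push Not at hcon
    obtain ⟨hn4, hnodd⟩ := hcon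
    have heven : Even n := Nat.not_odd_iff_even.mp hnodd
    have h2 : 2 ∣ n := heven.two_dvd
    have hn6 : 6 ≤ n := by
      obtain ⟨k, hk⟩ := heven
      omega
    set H : Subgroup (DihedralGroup n) := (par n h2).ker with hHdef
    have hr2 : DihedralGroup.r (2 : ZMod n) ∈ H := by
      rw [hHdef, MonoidHom.mem_ker, par_r, map_ofNat]
      rfl
    have hs0 : DihedralGroup.sr (0 : ZMod n) ∈ H := by
      rw [hHdef, MonoidHom.mem_ker, par_sr, map_zero]
      rfl
    have hr1 : DihedralGroup.r (1 : ZMod n) ∉ H := by
      rw [hHdef, MonoidHom.mem_ker, par_r, map_one]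
      decide
    have hna : ¬ IsMulCommutative H := by
      intro hc
      have := hc.is_comm.comm ⟨_, hr2⟩ ⟨_, hs0⟩
      have h1 := congrArg Subtype.val this
      simp only [Subgroup.coe_mul, DihedralGroup.r_mul_sr, DihedralGroup.sr_mul_r, zero_sub, zero_add] at h1
      have h3 := DihedralGroup.sr.inj h1
      have h4 : ((4 : ℕ) : ZMod n) = 0 := by
        push_cast
        linear_combination -h3
      rw [ZMod.natCast_eq_zero_iff] at h4
      have := Nat.le_of_dvd (by norm_num) h4
      omega
    have h5 := h H hna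
    have h6 : Subgroup.normalizer (H : Set (DihedralGroup n)) = ⊤ := Subgroup.normalizer_eq_top H
    rw [h6] at h5
    apply hr1
    rw [← h5]
    exact Subgroup.mem_top _
  · rintro (rfl | hodd) H hH
    · exact four_case H hH
    · exact odd_case n hodd H hH

end Cfsg.Agent.S4074
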