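import Cfsg.Statements.S4075
import Mathlib
-- import your own Cfsg.Agent.* helpers here

set_option autoImplicit false
open Cfsg

namespace Cfsg.Agent.S4075

/-- Let G be a finite nilpotent group. Every non-abelian subgroup of G is self-normalizing if and only if G is abelian or G is a minimal non-abelian p-group for some prime p (non-abelian of prime-power order with every proper subgroup abelian). -/
theorem result {G : Type*} [Group G] [Finite G]
    [Group.IsNilpotent G] :
    (∀ H : Subgroup G, ¬ IsMulCommutative H → Subgroup.normalizer (H : Set G) = H) ↔
    (IsMulCommutative G ∨ (IsPrimePow (Nat.card G) ∧ ¬ IsMulCommutative G ∧ ∀ H : Subgroup G, H ≠ ⊤ → IsMulCommutative H)) := by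
  constructor
  · intro h
    by_cases hab : IsMulCommutative G
    · exact Or.inl hab
    · right
      have hprop : ∀ H : Subgroup G, H ≠ ⊤ → IsMulCommutative H := by
        intro H hH
        by_contra hna
        have h1 := h H hna
        have h2 := Group.normalizerCondition_of_isNilpotent (G := G) H (lt_top_iff_ne_top.mpr hH)
        rw [h1] at h2
        exact lt_irrefl _ h2
      refine ⟨?_, hab, hprop⟩
      by_contra hnpp
      apply hab
      obtain ⟨e⟩ := (Group.isNilpotent_of_finite_tfae (G := G)).out 0 4 rfl rfl |>.mp inferInstance
      have hntriv : Nat.card G ≠ 1 := by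
        intro h1
        have : Subsingleton G := (Nat.card_eq_one_iff_unique.mp h1).1
        exact hab ⟨⟨fun a b => Subsingleton.elim _ _⟩⟩
      have hS : ∀ (p : (Nat.card G).primeFactors) (P : Sylow p G), IsMulCommutative (P : Subgroup G) := by
        intro p P
        apply hprop
        intro htop
        apply hnpp
        have hp : (p : ℕ).Prime := Nat.prime_of_mem_primeFactors p.2
        have : Fact (p : ℕ).Prime := ⟨hp⟩
        have hc : Nat.card (P : Subgroup G) = (p : ℕ) ^ (Nat.card G).factorization p := Sylow.card_eq_multiplicity P
        rw [htop, Subgroup.card_top] at hc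
        rw [hc]
        refine ⟨p, (Nat.card G).factorization p, Nat.prime_iff.mp hp, ?_, rfl⟩
        apply Nat.pos_of_ne_zero
        intro h0
        rw [h0, pow_zero] at hc
        exact hntriv hc
      constructor
      constructor
      intro a b
      obtain ⟨a', rfl⟩ := e.surjective a
      obtain ⟨b', rfl⟩ := e.surjective b
      rw [← map_mul, ← map_mul]
      congr 1
      funext p P
      have := (hS p P).is_comm.comm (a' p P) (b' p P)
      exact this
  · rintro (hab | ⟨_, hna, hprop⟩) H hH
    · exact absurd (inferInstance : IsMulCommutative H) hH
    · have : H = ⊤ := by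
        by_contra hne
        exact hH (hprop H hne)
      rw [this]
      exact Subgroup.normalizer_eq_top (⊤ : Subgroup G)

end Cfsg.Agent.S4075
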