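import Cfsg.Statements.S4082
import Cfsg.Agent.Lib.Helper29.DihedralLike
import Cfsg.Agent.Lib.Helper14.DihedralCrit
import Cfsg.Agent.Lib.Helper10.CNGroup
import Cfsg.Agent.Lib.Helper29.Frobenius

set_option autoImplicit false
set_option linter.unusedSectionVars false
set_option linter.style.haveILetI false
open Cfsg

namespace Cfsg.Agent.S4082

open Subgroup Cfsg.Agent.Lib.Helper29

/-- a group with a normal Sylow `p`-subgroup `S` and cyclic quotient is `S⟨y⟩` with `y` of
order prime to `p` -/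
theorem exists_coprime_generator {H : Type*} [Group H] [Finite H] {p : ℕ} [hp : Fact p.Prime]
    (S : Subgroup H) [S.Normal]
    (hidx : ¬ p ∣ S.index) (hc : IsCyclic (H ⧸ S)) :
    ∃ y : H, (orderOf y).Coprime p ∧ ∀ x : H, ∃ s ∈ S, ∃ i : ℤ, x = s * y ^ i := by
  obtain ⟨gbar, hgbar⟩ := hc.exists_generator
  obtain ⟨h, rfl⟩ := QuotientGroup.mk_surjective gbar
  obtain ⟨a, m, hm, hord⟩ := Nat.exists_eq_pow_mul_and_not_dvd (orderOf_pos h).ne' p
    hp.out.ne_one
  refine ⟨h ^ p ^ a, ?_, ?_⟩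
  · rw [orderOf_pow_of_dvd (pow_ne_zero _ hp.out.ne_zero)
      (by rw [hord]; exact dvd_mul_right _ _), hord,
      Nat.mul_div_cancel_left _ (pow_pos hp.out.pos _)]
    exact (Nat.Coprime.symm ((Nat.Prime.coprime_iff_not_dvd hp.out).mpr hm))
  · have hcop : (Nat.card (H ⧸ S)).Coprime (p ^ a) := by
      apply Nat.Coprime.pow_right
      rw [Nat.coprime_comm]
      exact (Nat.Prime.coprime_iff_not_dvd hp.out).mpr hidx
    set k : ℤ := (Nat.card (H ⧸ S)).gcdB (p ^ a) with hk
    have hgk : ((h : H ⧸ S) ^ p ^ a) ^ k = (h : H ⧸ S) := (powCoprime hcop).left_inv (h : H ⧸ S)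
    intro x
    obtain ⟨j, hj⟩ := Subgroup.mem_zpowers_iff.mp (hgbar (x : H ⧸ S))
    refine ⟨x * ((h ^ p ^ a) ^ (k * j))⁻¹, ?_, k * j, by group⟩
    rw [← QuotientGroup.eq_one_iff]
    rw [QuotientGroup.mk_mul, QuotientGroup.mk_inv, QuotientGroup.mk_zpow, QuotientGroup.mk_pow,
      zpow_mul, hgk, hj, mul_inv_cancel]

/-- `H = S⟨y⟩` with `S` a cyclic `p`-group centralized by `y` of order prime to `p` is cyclic -/
theorem isCyclic_of_cover {H : Type*} [Group H] [Finite H] {p : ℕ} [hp : Fact p.Prime]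
    (S : Subgroup H) (hS : IsPGroup p S)
    (hcyc : IsCyclic S) (y : H) (hy : (orderOf y).Coprime p) (hcomm : ∀ s ∈ S, s * y = y * s)
    (hcov : ∀ x : H, ∃ s ∈ S, ∃ i : ℤ, x = s * y ^ i) : IsCyclic H := by
  obtain ⟨s₀, hs₀⟩ := hcyc.exists_generator
  obtain ⟨k, hk⟩ := (IsPGroup.iff_orderOf.mp hS) s₀
  have hk' : orderOf (s₀ : H) = p ^ k := by rw [Subgroup.orderOf_coe]; exact hk
  have hc : Commute (s₀ : H) y := hcomm _ s₀.2
  set g : H := (s₀ : H) * y with hg
  have hcop : (p ^ k).Coprime (orderOf y) :=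
    Nat.Coprime.pow_left k hy.symm
  have hyg : y ∈ zpowers g := by
    apply Cfsg.Agent.Lib.Helper10.mem_of_pow_mem_of_coprime (zpowers g) y hcop
    · have : y ^ p ^ k = g ^ p ^ k := by
        rw [hg, hc.mul_pow, ← hk', pow_orderOf_eq_one, one_mul]
      rw [this]; exact pow_mem (mem_zpowers g) _
    · rw [pow_orderOf_eq_one]; exact one_mem _
  have hsg : (s₀ : H) ∈ zpowers g := by
    apply Cfsg.Agent.Lib.Helper10.mem_of_pow_mem_of_coprime (zpowers g) (s₀ : H) hcop.symm
    · have : (s₀ : H) ^ orderOf y = g ^ orderOf y := by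
        rw [hg, hc.mul_pow, pow_orderOf_eq_one, mul_one]
      rw [this]; exact pow_mem (mem_zpowers g) _
    · rw [← hk', pow_orderOf_eq_one]; exact one_mem _
  refine ⟨⟨g, fun x => ?_⟩⟩
  obtain ⟨s, hs, i, rfl⟩ := hcov x
  obtain ⟨j, hj⟩ := Subgroup.mem_zpowers_iff.mp (hs₀ ⟨s, hs⟩)
  have hs' : s = (s₀ : H) ^ j := by
    have := congrArg Subtype.val hj
    simpa using this.symm
  rw [hs']
  exact mul_mem (zpow_mem hsg j) (zpow_mem hyg i)

/-- `H = S⟨y⟩` with `S` a cyclic `p`-group (`p` odd) inverted by the involution `y` is dihedral -/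
theorem dihedral_of_cover {H : Type*} [Group H] [Finite H] {p : ℕ} [hp : Fact p.Prime]
    (hp2 : p ≠ 2) (S : Subgroup H) (hS : IsPGroup p S)
    (hcyc : IsCyclic S) (y : H) (hy2 : y * y = 1) (hy1 : y ≠ 1)
    (hinv : ∀ s ∈ S, y * s * y⁻¹ = s⁻¹)
    (hcov : ∀ x : H, ∃ s ∈ S, ∃ i : ℤ, x = s * y ^ i) :
    ∃ n : ℕ, Nonempty (H ≃* DihedralGroup (p ^ n)) := by
  obtain ⟨s₀, hs₀⟩ := hcyc.exists_generator
  obtain ⟨k, hk⟩ := (IsPGroup.iff_orderOf.mp hS) s₀
  have hk' : orderOf (s₀ : H) = p ^ k := by rw [Subgroup.orderOf_coe]; exact hk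
  have hcardS : Nat.card S = p ^ k := by
    rw [← hk]; exact (orderOf_eq_card_of_forall_mem_zpowers hs₀).symm
  have hyinv : y⁻¹ = y := inv_eq_of_mul_eq_one_right hy2
  have hyord : orderOf y = 2 := by
    haveI : Fact (Nat.Prime 2) := ⟨Nat.prime_two⟩
    exact orderOf_eq_prime (by rw [pow_two]; exact hy2) hy1
  have hpodd : Odd p := hp.out.odd_of_ne_two hp2
  have hcop : (p ^ k).Coprime 2 := Nat.Coprime.pow_left k (Nat.coprime_two_right.mpr hpodd)
  have hSz : S = zpowers (s₀ : H) := by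
    apply le_antisymm
    · intro s hs
      obtain ⟨j, hj⟩ := Subgroup.mem_zpowers_iff.mp (hs₀ ⟨s, hs⟩)
      have := congrArg Subtype.val hj
      rw [Subgroup.mem_zpowers_iff]
      exact ⟨j, by simpa using this⟩
    · exact zpowers_le.mpr s₀.2
  have hyS : y ∉ S := by
    intro hyS
    have h1 : orderOf y ∣ p ^ k := by
      rw [← hcardS, ← Subgroup.orderOf_mk y hyS]; exact orderOf_dvd_natCard _
    rw [hyord] at h1
    have := Nat.Coprime.eq_one_of_dvd hcop.symm h1
    omega
  have hY2 : Nat.card (zpowers y) = 2 := by rw [Nat.card_zpowers, hyord]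
  have hcard : Nat.card H = 2 * p ^ k := by
    have hle : Nat.card H ≤ p ^ k * 2 := by
      let f : ↥S × ↥(zpowers y) → H := fun q => (q.1 : H) * (q.2 : H)
      have hf : Function.Surjective f := by
        intro x
        obtain ⟨s, hs, i, rfl⟩ := hcov x
        exact ⟨(⟨s, hs⟩, ⟨y ^ i, zpow_mem (mem_zpowers y) i⟩), rfl⟩
      have := Nat.card_le_card_of_surjective f hf
      rwa [Nat.card_prod, hcardS, hY2] at this
    have h4 : p ^ k ∣ Nat.card H := hcardS ▸ Subgroup.card_subgroup_dvd_card _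
    have h3 : 2 ∣ Nat.card H := hY2 ▸ Subgroup.card_subgroup_dvd_card _
    have h5 : p ^ k * 2 ∣ Nat.card H := Nat.Coprime.mul_dvd_of_dvd_of_dvd hcop h4 h3
    have hpos : 0 < Nat.card H := Nat.card_pos
    have := Nat.le_of_dvd hpos h5
    omega
  refine ⟨k, ?_⟩
  apply Cfsg.Agent.Lib.Helper14.nonempty_mulEquiv_dihedral (p ^ k) hcard (s₀ : H) y
  · rw [← hk', pow_orderOf_eq_one]
  · exact hy2
  · have := hinv _ s₀.2
    rwa [hyinv] at this
  · exact hk'
  · rw [← hSz]; exact hyS


/-- in a finite cyclic group, the solutions of `x ^ n = 1` are the powers of any element of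
order `n` -/
theorem mem_zpowers_of_orderOf_eq {C : Type*} [Group C] [Finite C] [IsCyclic C] {n : ℕ}
    (hn : 0 < n) (q x : C) (hq : orderOf q = n) (hx : x ^ n = 1) : x ∈ zpowers q := by
  classical
  haveI := Fintype.ofFinite C
  have h1 : (Finset.univ.filter (fun a : C => a ^ n = 1)).card ≤ n :=
    IsCyclic.card_pow_eq_one_le hn
  set Z : Finset C := (Finset.univ.filter (fun a : C => a ∈ zpowers q)) with hZ
  have hZsub : Z ⊆ Finset.univ.filter (fun a : C => a ^ n = 1) := by
    intro a ha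
    simp only [hZ, Finset.mem_filter, Finset.mem_univ, true_and] at ha ⊢
    obtain ⟨i, rfl⟩ := Subgroup.mem_zpowers_iff.mp ha
    rw [← zpow_natCast, ← zpow_mul, mul_comm, zpow_mul, zpow_natCast, ← hq, pow_orderOf_eq_one,
      one_zpow]
  have hZcard : Z.card = n := by
    rw [← hq, ← Nat.card_zpowers, Nat.card_eq_fintype_card, Fintype.card_subtype]
  have h2 := Finset.eq_of_subset_of_card_le hZsub (by rw [hZcard]; exact h1)
  have hx' : x ∈ Finset.univ.filter (fun a : C => a ^ n = 1) := by simp [hx]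
  rw [← h2] at hx'
  simpa [hZ] using hx'

section Decomp

variable {G : Type*} [Group G]

theorem conj_zpow_mem (R : Subgroup G) (x : G) (hx : x ∈ normalizer (R : Set G)) (i : ℤ)
    (r : G) (hr : r ∈ R) : x ^ i * r * (x ^ i)⁻¹ ∈ R :=
  (mem_normalizer_iff.mp (zpow_mem hx i) r).mp hr

theorem decomp (R : Subgroup G) (x : G) (hx : x ∈ normalizer (R : Set G)) :
    ∀ h ∈ closure ((R : Set G) ∪ {x}), ∃ r ∈ R, ∃ i : ℤ, h = r * x ^ i := by
  intro h hh
  induction hh using Subgroup.closure_induction with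
  | mem a ha =>
    rcases ha with ha | ha
    · exact ⟨a, ha, 0, by simp⟩
    · rw [Set.mem_singleton_iff] at ha
      exact ⟨1, one_mem _, 1, by simp [ha]⟩
  | one => exact ⟨1, one_mem _, 0, by simp⟩
  | mul a b _ _ iha ihb =>
    obtain ⟨r1, hr1, i1, rfl⟩ := iha
    obtain ⟨r2, hr2, i2, rfl⟩ := ihb
    refine ⟨r1 * (x ^ i1 * r2 * (x ^ i1)⁻¹), mul_mem hr1 (conj_zpow_mem R x hx i1 r2 hr2),
      i1 + i2, ?_⟩
    rw [zpow_add]; group
  | inv a _ iha =>
    obtain ⟨r1, hr1, i1, rfl⟩ := iha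
    refine ⟨x ^ (-i1) * r1⁻¹ * (x ^ (-i1))⁻¹, conj_zpow_mem R x hx (-i1) _ (inv_mem hr1),
      -i1, ?_⟩
    group

end Decomp


section Hyp

variable {G : Type*} [Group G] [Finite G] {p : ℕ} [hp : Fact p.Prime]

/-- the hypothesis of the statement applies to `R⟨x⟩` for a `p`-subgroup `R` normalized by `x` -/
theorem hyp_closure
    (hyp : ∀ H : Subgroup G, (∀ S : Sylow p ↥H, (S : Subgroup ↥H).Normal) →
        (∀ (S : Sylow p ↥H) [(S : Subgroup ↥H).Normal], IsCyclic (↥H ⧸ (S : Subgroup ↥H))) →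
        IsCyclic H ∨ (∃ n : ℕ, Nonempty (H ≃* DihedralGroup (p ^ n))))
    (R : Subgroup G) (hR : IsPGroup p R) (x : G) (hx : x ∈ normalizer (R : Set G)) :
    IsCyclic ↥(closure ((R : Set G) ∪ {x})) ∨
      ∃ n : ℕ, Nonempty (↥(closure ((R : Set G) ∪ {x})) ≃* DihedralGroup (p ^ n)) := by
  set H := closure ((R : Set G) ∪ {x}) with hH
  have hRH : R ≤ H := fun r hr => subset_closure (Or.inl hr)
  have hxH : x ∈ H := subset_closure (Or.inr rfl)
  have hdec := decomp R x hx
  have hHN : H ≤ normalizer (R : Set G) := by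
    rw [hH, closure_le]
    rintro a (ha | ha)
    · exact le_normalizer ha
    · rw [Set.mem_singleton_iff] at ha; rw [ha]; exact hx
  have hcomm : ∀ a ∈ H, ∀ b ∈ H, a * b * a⁻¹ * b⁻¹ ∈ R := by
    intro a ha b hb
    obtain ⟨r1, hr1, i1, rfl⟩ := hdec a ha
    obtain ⟨r2, hr2, i2, rfl⟩ := hdec b hb
    have : r1 * x ^ i1 * (r2 * x ^ i2) * (r1 * x ^ i1)⁻¹ * (r2 * x ^ i2)⁻¹ =
        r1 * (x ^ i1 * r2 * (x ^ i1)⁻¹) * (x ^ i2 * r1⁻¹ * (x ^ i2)⁻¹) * r2⁻¹ := by group
    rw [this]
    exact mul_mem (mul_mem (mul_mem hr1 (conj_zpow_mem R x hx i1 r2 hr2))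
      (conj_zpow_mem R x hx i2 _ (inv_mem hr1))) (inv_mem hr2)
  have hRS : ∀ S : Sylow p ↥H, R.subgroupOf H ≤ S := by
    intro S
    have hR' : IsPGroup p (R.subgroupOf H) :=
      hR.of_equiv (Subgroup.subgroupOfEquivOfLe hRH).symm
    obtain ⟨S', hS'⟩ := hR'.exists_le_sylow
    obtain ⟨g, rfl⟩ := MulAction.exists_smul_eq ↥H S' S
    intro r hr
    refine (mem_smul_sylow_iff g r S').mpr ?_
    apply hS'
    rw [mem_subgroupOf] at hr ⊢
    have h1 : (g : G)⁻¹ ∈ normalizer (R : Set G) := inv_mem (hHN g.2)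
    have h2 := (mem_normalizer_iff.mp h1 (r : G)).mp hr
    simpa using h2
  apply hyp H
  · intro S
    constructor
    intro s hs h
    have h1 : h * s * h⁻¹ * s⁻¹ ∈ (S : Subgroup ↥H) := by
      apply hRS S
      rw [mem_subgroupOf]
      simpa using hcomm (h : G) h.2 (s : G) s.2
    have : h * s * h⁻¹ = (h * s * h⁻¹ * s⁻¹) * s := by group
    rw [this]; exact mul_mem h1 hs
  · intro S _
    refine ⟨⟨((⟨x, hxH⟩ : ↥H) : ↥H ⧸ (S : Subgroup ↥H)), fun q => ?_⟩⟩
    obtain ⟨h, rfl⟩ := QuotientGroup.mk_surjective q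
    obtain ⟨r, hr, i, hi⟩ := hdec (h : G) h.2
    have hrS : (⟨r, hRH hr⟩ : ↥H) ∈ (S : Subgroup ↥H) := hRS S (mem_subgroupOf.mpr hr)
    refine ⟨i, ?_⟩
    have h2 : h = (⟨r, hRH hr⟩ : ↥H) * (⟨x, hxH⟩ : ↥H) ^ i := Subtype.ext (by simpa using hi)
    show ((⟨x, hxH⟩ : ↥H) : ↥H ⧸ (S : Subgroup ↥H)) ^ i = (h : ↥H ⧸ (S : Subgroup ↥H))
    rw [h2, QuotientGroup.mk_mul, QuotientGroup.mk_zpow, (QuotientGroup.eq_one_iff _).mpr hrS,
      one_mul]

/-- under the hypothesis, an element normalizing a `p`-subgroup `R` centralizes it, or is an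
involution inverting it -/
theorem claimD (hp2 : p ≠ 2)
    (hyp : ∀ H : Subgroup G, (∀ S : Sylow p ↥H, (S : Subgroup ↥H).Normal) →
        (∀ (S : Sylow p ↥H) [(S : Subgroup ↥H).Normal], IsCyclic (↥H ⧸ (S : Subgroup ↥H))) →
        IsCyclic H ∨ (∃ n : ℕ, Nonempty (H ≃* DihedralGroup (p ^ n))))
    (R : Subgroup G) (hR : IsPGroup p R) (x : G) (hx : x ∈ normalizer (R : Set G)) :
    x ∈ centralizer (R : Set G) ∨ (x * x = 1 ∧ ∀ r ∈ R, x * r * x⁻¹ = r⁻¹) := by
  have hpodd : Odd p := hp.out.odd_of_ne_two hp2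
  have hRH : R ≤ closure ((R : Set G) ∪ {x}) := fun r hr => subset_closure (Or.inl hr)
  have hxH : x ∈ closure ((R : Set G) ∪ {x}) := subset_closure (Or.inr rfl)
  rcases hyp_closure hyp R hR x hx with hc | ⟨n, ⟨e⟩⟩
  · left
    rw [mem_centralizer_iff]
    intro r hr
    obtain ⟨g, hg⟩ := hc.exists_generator
    obtain ⟨a, ha⟩ := mem_zpowers_iff.mp (hg ⟨r, hRH hr⟩)
    obtain ⟨b, hb⟩ := mem_zpowers_iff.mp (hg ⟨x, hxH⟩)
    have h1 : (⟨r, hRH hr⟩ : ↥(closure ((R : Set G) ∪ {x}))) * ⟨x, hxH⟩ =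
        ⟨x, hxH⟩ * ⟨r, hRH hr⟩ := by
      rw [← ha, ← hb, ← zpow_add, ← zpow_add, add_comm]
    exact congrArg Subtype.val h1
  · have hD : DihLike (closure ((R : Set G) ∪ {x})) :=
      dihLike_of_mulEquiv_dihedralGroup _ _ e
    obtain ⟨c, hcH, hcard, hout⟩ := hD
    have hRc : ∀ r ∈ R, r ∈ zpowers c := by
      intro r hr
      by_contra hrc
      have h1 := hout r (hRH hr) hrc
      obtain ⟨k, hk⟩ := (IsPGroup.iff_orderOf.mp hR) ⟨r, hr⟩
      rw [Subgroup.orderOf_mk] at hk
      have h2 : orderOf r ∣ 2 := orderOf_dvd_of_pow_eq_one h1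
      have h3 : (orderOf r).Coprime 2 := by
        rw [hk]; exact Nat.Coprime.pow_left k (Nat.coprime_two_right.mpr hpodd)
      have h4 := Nat.Coprime.eq_one_of_dvd h3 h2
      rw [orderOf_eq_one_iff] at h4
      exact hrc (h4 ▸ one_mem _)
    by_cases hxc : x ∈ zpowers c
    · left
      rw [mem_centralizer_iff]
      intro r hr
      obtain ⟨a, ha⟩ := mem_zpowers_iff.mp (hRc r hr)
      obtain ⟨b, hb⟩ := mem_zpowers_iff.mp hxc
      rw [← ha, ← hb, ← zpow_add, ← zpow_add, add_comm]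
    · right
      have hxx : x * x = 1 := by rw [← pow_two]; exact hout x hxH hxc
      refine ⟨hxx, fun r hr => ?_⟩
      have h1 : x * r ∉ zpowers c := by
        intro h
        apply hxc
        have : x = (x * r) * r⁻¹ := by group
        rw [this]; exact mul_mem h (inv_mem (hRc r hr))
      have h2 := hout (x * r) (mul_mem hxH (hRH hr)) h1
      rw [pow_two] at h2
      have hxinv : x⁻¹ = x := inv_eq_of_mul_eq_one_right hxx
      rw [hxinv]
      exact eq_inv_of_mul_eq_one_left (by rw [← h2]; group)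

end Hyp


section Forward

variable {G : Type*} [Group G] [Finite G] {p : ℕ} [hp : Fact p.Prime]

theorem forward (hp2 : p ≠ 2) (P : Sylow p G)
    (hyp : ∀ H : Subgroup G, (∀ S : Sylow p ↥H, (S : Subgroup ↥H).Normal) →
        (∀ (S : Sylow p ↥H) [(S : Subgroup ↥H).Normal], IsCyclic (↥H ⧸ (S : Subgroup ↥H))) →
        IsCyclic H ∨ (∃ n : ℕ, Nonempty (H ≃* DihedralGroup (p ^ n)))) :
    (IsCyclic P ∧
      (Subgroup.normalizer ((P : Subgroup G) : Set G) =
          Subgroup.centralizer ((P : Subgroup G) : Set G) ∨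
       ((Subgroup.centralizer ((P : Subgroup G) : Set G)).relIndex
          (Subgroup.normalizer ((P : Subgroup G) : Set G)) = 2 ∧
        ∀ Q : Subgroup G, Q ≤ P → Nat.card Q = p →
          IsMulCommutative ↥(Subgroup.centralizer (Q : Set G)) ∧
          ∀ x : G, x ∈ Subgroup.normalizer (Q : Set G) → x ∉ Subgroup.centralizer (Q : Set G) →
            orderOf x = 2 ∧ ∀ c : G, c ∈ Subgroup.centralizer (Q : Set G) →
              x * c * x⁻¹ = c⁻¹))) := by
  have hpodd : Odd p := hp.out.odd_of_ne_two hp2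
  have hPcyc : IsCyclic P := by
    have h1 : (1 : G) ∈ normalizer ((P : Subgroup G) : Set G) := one_mem _
    have hH : closure (((P : Subgroup G) : Set G) ∪ {1}) = P := by
      apply le_antisymm
      · rw [closure_le]
        rintro a (ha | ha)
        · exact ha
        · rw [Set.mem_singleton_iff] at ha; rw [ha]; exact one_mem _
      · exact fun r hr => subset_closure (Or.inl hr)
    rcases hyp_closure hyp P P.isPGroup' 1 h1 with hc | ⟨n, ⟨e⟩⟩
    · exact (MulEquiv.subgroupCongr hH).isCyclic.mp hc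
    · exfalso
      have hcard : Nat.card (P : Subgroup G) = 2 * p ^ n := by
        rw [← Nat.card_congr (MulEquiv.subgroupCongr hH).toEquiv, Nat.card_congr e.toEquiv,
          DihedralGroup.nat_card]
      obtain ⟨k, hk⟩ := (IsPGroup.iff_card).mp P.isPGroup'
      rw [hk] at hcard
      have h2 : Odd (p ^ k) := hpodd.pow
      rw [hcard] at h2
      exact (Nat.not_odd_iff_even.mpr (even_two_mul _)) h2
  refine ⟨hPcyc, ?_⟩
  by_cases hNC : normalizer ((P : Subgroup G) : Set G) = centralizer ((P : Subgroup G) : Set G)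
  · exact Or.inl hNC
  · right
    have hCN := Subgroup.centralizer_le_normalizer ((P : Subgroup G) : Set G)
    obtain ⟨x₀, hx₀N, hx₀C⟩ : ∃ x₀ ∈ normalizer ((P : Subgroup G) : Set G),
        x₀ ∉ centralizer ((P : Subgroup G) : Set G) := by
      by_contra hcon
      push Not at hcon
      exact hNC (le_antisymm hcon hCN)
    rcases claimD hp2 hyp P P.isPGroup' x₀ hx₀N with h | ⟨hx₀2, hx₀inv⟩
    · exact absurd h hx₀C
    constructor
    · rw [relIndex_eq_two_iff_exists_notMem_and]
      refine ⟨x₀, hx₀N, hx₀C, fun b hb => ?_⟩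
      rcases claimD hp2 hyp P P.isPGroup' b hb with h | ⟨_, hbinv⟩
      · exact Or.inr h
      · left
        rw [mem_centralizer_iff]
        intro r hr
        have h1 := hx₀inv r hr
        have h2 := hbinv r⁻¹ (inv_mem hr)
        rw [inv_inv] at h2
        calc r * (b * x₀) = (b * r⁻¹ * b⁻¹) * (b * x₀) := by rw [h2]
          _ = b * r⁻¹ * x₀ := by group
          _ = b * (x₀ * r * x₀⁻¹) * x₀ := by rw [h1]
          _ = b * x₀ * r := by group
    · intro Q hQP hQcard
      have hQp : IsPGroup p Q := IsPGroup.of_card (n := 1) (by rw [hQcard, pow_one])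
      have hx₀NQ : x₀ ∈ normalizer (Q : Set G) := by
        apply mem_normalizer_fintype
        intro q hq
        rw [hx₀inv q (hQP hq)]; exact inv_mem hq
      have hx₀CQ : x₀ ∉ centralizer (Q : Set G) := by
        intro hcon
        haveI : Nontrivial Q := by
          rw [← Finite.one_lt_card_iff_nontrivial, hQcard]; exact hp.out.one_lt
        obtain ⟨q, hq⟩ := exists_ne (1 : Q)
        have h1 := mem_centralizer_iff.mp hcon q q.2
        have h2 := hx₀inv q (hQP q.2)
        have h3 : (q : G)⁻¹ = q := by rw [← h2, ← h1]; group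
        have h4 : (q : G) ^ 2 = 1 := by
          rw [pow_two]; nth_rewrite 1 [← h3]; exact inv_mul_cancel _
        have h5 : orderOf (q : G) ∣ 2 := orderOf_dvd_of_pow_eq_one h4
        have h6 : orderOf (q : G) ∣ p := by
          rw [← hQcard, Subgroup.orderOf_coe]; exact orderOf_dvd_natCard q
        have h7 : orderOf (q : G) ∣ Nat.gcd 2 p := Nat.dvd_gcd h5 h6
        have h8 : Nat.gcd 2 p = 1 := Nat.coprime_two_left.mpr hpodd
        rw [h8, Nat.dvd_one, orderOf_eq_one_iff] at h7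
        exact hq (Subtype.ext h7)
      have key : ∀ x ∈ normalizer (Q : Set G), x ∉ centralizer (Q : Set G) → x * x = 1 := by
        intro x hxN hxC
        rcases claimD hp2 hyp Q hQp x hxN with h | ⟨h, _⟩
        · exact absurd h hxC
        · exact h
      have hCNQ := Subgroup.centralizer_le_normalizer (Q : Set G)
      have inv_all : ∀ x ∈ normalizer (Q : Set G), x ∉ centralizer (Q : Set G) →
          ∀ c ∈ centralizer (Q : Set G), x * c * x⁻¹ = c⁻¹ := by
        intro x hxN hxC c hc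
        have hxx := key x hxN hxC
        have hxc : x * c ∉ centralizer (Q : Set G) := by
          intro h; apply hxC
          have : x = (x * c) * c⁻¹ := by group
          rw [this]; exact mul_mem h (inv_mem hc)
        have h2 := key (x * c) (mul_mem hxN (hCNQ hc)) hxc
        have hxinv : x⁻¹ = x := inv_eq_of_mul_eq_one_right hxx
        rw [hxinv]
        exact eq_inv_of_mul_eq_one_left (by rw [← h2]; group)
      constructor
      · refine ⟨⟨fun a b => ?_⟩⟩
        have ha := inv_all x₀ hx₀NQ hx₀CQ a a.2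
        have hb := inv_all x₀ hx₀NQ hx₀CQ b b.2
        have hab := inv_all x₀ hx₀NQ hx₀CQ (a * b) (mul_mem a.2 b.2)
        apply Subtype.ext
        have h1 : (a : G)⁻¹ * (b : G)⁻¹ = ((a : G) * b)⁻¹ := by
          rw [← ha, ← hb, ← hab]; group
        have h2 := congrArg (·⁻¹) h1
        simp only [mul_inv_rev, inv_inv] at h2
        simpa using h2.symm
      · intro x hxN hxC
        refine ⟨?_, inv_all x hxN hxC⟩
        haveI : Fact (Nat.Prime 2) := ⟨Nat.prime_two⟩
        apply orderOf_eq_prime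
        · rw [pow_two]; exact key x hxN hxC
        · rintro rfl; exact hxC (one_mem _)

end Forward


section Backward

variable {G : Type*} [Group G] [Finite G] {p : ℕ} [hp : Fact p.Prime]

theorem backward (hp2 : p ≠ 2) (P : Sylow p G)
    (hR : IsCyclic P ∧
      (Subgroup.normalizer ((P : Subgroup G) : Set G) =
          Subgroup.centralizer ((P : Subgroup G) : Set G) ∨
       ((Subgroup.centralizer ((P : Subgroup G) : Set G)).relIndex
          (Subgroup.normalizer ((P : Subgroup G) : Set G)) = 2 ∧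
        ∀ Q : Subgroup G, Q ≤ P → Nat.card Q = p →
          IsMulCommutative ↥(Subgroup.centralizer (Q : Set G)) ∧
          ∀ x : G, x ∈ Subgroup.normalizer (Q : Set G) → x ∉ Subgroup.centralizer (Q : Set G) →
            orderOf x = 2 ∧ ∀ c : G, c ∈ Subgroup.centralizer (Q : Set G) →
              x * c * x⁻¹ = c⁻¹)))
    (H : Subgroup G) (hnorm : ∀ S : Sylow p ↥H, (S : Subgroup ↥H).Normal)
    (hquot : ∀ (S : Sylow p ↥H) [(S : Subgroup ↥H).Normal],
      IsCyclic (↥H ⧸ (S : Subgroup ↥H))) :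
    IsCyclic H ∨ (∃ n : ℕ, Nonempty (H ≃* DihedralGroup (p ^ n))) := by
  obtain ⟨hPcyc, hcases⟩ := hR
  let S₀ : Sylow p ↥H := default
  haveI hS₀n : (S₀ : Subgroup ↥H).Normal := hnorm S₀
  obtain ⟨y, hycop, hcov⟩ :=
    exists_coprime_generator (S₀ : Subgroup ↥H) S₀.not_dvd_index (hquot S₀)
  have hS2 : IsPGroup p (S₀ : Subgroup ↥H) := S₀.isPGroup'
  have hSG : IsPGroup p ((S₀ : Subgroup ↥H).map H.subtype) := hS2.map _
  obtain ⟨P', hP'⟩ := hSG.exists_le_sylow
  obtain ⟨g, rfl⟩ := MulAction.exists_smul_eq G P P'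
  let c : ↥H →* G := (MulAut.conj g⁻¹).toMonoidHom.comp H.subtype
  have hc_apply : ∀ h : ↥H, c h = g⁻¹ * (h : G) * g := by
    intro h; simp [c]
  have hc_inj : Function.Injective c :=
    (MulAut.conj g⁻¹).injective.comp H.subtype_injective
  have hcS : ∀ s ∈ (S₀ : Subgroup ↥H), c s ∈ P := by
    intro s hs
    rw [hc_apply]
    exact (mem_smul_sylow_iff g _ P).mp (hP' (Subgroup.mem_map_of_mem _ hs))
  have hScyc : IsCyclic (S₀ : Subgroup ↥H) := by
    have h1 : (S₀ : Subgroup ↥H).map c ≤ P := by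
      rintro _ ⟨s, hs, rfl⟩; exact hcS s hs
    haveI := hPcyc
    have h2 : IsCyclic ((S₀ : Subgroup ↥H).map c) := Subgroup.isCyclic_of_le h1
    exact ((S₀ : Subgroup ↥H).equivMapOfInjective c hc_inj).isCyclic.mpr h2
  have hcyc_case : (∀ s ∈ (S₀ : Subgroup ↥H), s * y = y * s) → IsCyclic H := fun hcomm =>
    isCyclic_of_cover (S₀ : Subgroup ↥H) hS2 hScyc y hycop hcomm hcov
  haveI : IsMulCommutative (P : Subgroup G) := hPcyc.isMulCommutative
  rcases hcases with hNC | ⟨_, hQ⟩
  · left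
    apply hcyc_case
    intro s hs
    have hx : c s ∈ P := hcS s hs
    have hy : ((c y)⁻¹)⁻¹ * c s * (c y)⁻¹ ∈ P := by
      rw [inv_inv, ← map_inv, ← map_mul, ← map_mul]
      exact hcS _ (hS₀n.conj_mem s hs y)
    obtain ⟨n, hn, hn2⟩ := P.conj_eq_normalizer_conj_of_mem (c s) (c y)⁻¹ hx hy
    have hn' : n ∈ normalizer ((P : Subgroup G) : Set G) := hn
    rw [hNC] at hn'
    have h3 : n⁻¹ * c s * n = c s := by
      have := mem_centralizer_iff.mp hn' (c s) hx
      rw [mul_assoc, this]; group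
    rw [h3, inv_inv] at hn2
    apply hc_inj
    rw [map_mul, map_mul]
    calc c s * c y = (c y * c s * (c y)⁻¹) * c y := by rw [hn2]
      _ = c y * c s := by group
  · by_cases hbot : (S₀ : Subgroup ↥H) = ⊥
    · left
      apply hcyc_case
      intro s hs
      rw [hbot, Subgroup.mem_bot] at hs
      rw [hs, one_mul, mul_one]
    · obtain ⟨q, hq⟩ : ∃ q : (S₀ : Subgroup ↥H), orderOf q = p := by
        apply exists_prime_orderOf_dvd_card' p
        obtain ⟨k, hk⟩ := (IsPGroup.iff_card).mp hS2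
        have hk0 : k ≠ 0 := by
          rintro rfl
          apply hbot
          rw [pow_zero] at hk
          exact Subgroup.card_eq_one.mp hk
        rw [hk]; exact dvd_pow_self p hk0
      set Q : Subgroup G := zpowers (c q) with hQdef
      have hcq_ord : orderOf (c q) = p := by
        rw [orderOf_injective c hc_inj, Subgroup.orderOf_coe, hq]
      have hQP : Q ≤ P := zpowers_le.mpr (hcS q q.2)
      have hQcard : Nat.card Q = p := by rw [Nat.card_zpowers, hcq_ord]
      obtain ⟨hQcomm, hQinv⟩ := hQ Q hQP hQcard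
      have hyN : c y ∈ normalizer (Q : Set G) := by
        have h1 : c y * c q * (c y)⁻¹ ∈ Q := by
          have hmem : y * q * y⁻¹ ∈ (S₀ : Subgroup ↥H) := hS₀n.conj_mem q q.2 y
          haveI := hScyc
          have h2 := mem_zpowers_of_orderOf_eq hp.out.pos q ⟨y * q * y⁻¹, hmem⟩ hq (by
            apply Subtype.ext
            have h3 : ((q : ↥H)) ^ p = 1 := by
              have h4 := pow_orderOf_eq_one q
              rw [hq] at h4
              have h5 := congrArg Subtype.val h4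
              simpa using h5
            simp only [Subgroup.coe_pow, Subgroup.coe_one]
            rw [conj_pow, h3]; group)
          obtain ⟨i, hi⟩ := mem_zpowers_iff.mp h2
          have hi' : (q : ↥H) ^ i = y * q * y⁻¹ := by
            have := congrArg Subtype.val hi
            simpa using this
          rw [← map_inv, ← map_mul, ← map_mul, ← hi', map_zpow]
          exact zpow_mem (mem_zpowers _) i
        apply mem_normalizer_fintype
        intro n hn
        obtain ⟨j, rfl⟩ := mem_zpowers_iff.mp hn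
        rw [← conj_zpow]
        exact zpow_mem h1 j
      have hPCQ : (P : Subgroup G) ≤ centralizer (Q : Set G) := by
        intro x hx
        rw [mem_centralizer_iff]
        intro z hz
        have := mul_comm' (⟨z, hQP hz⟩ : (P : Subgroup G)) ⟨x, hx⟩
        exact congrArg Subtype.val this
      by_cases hyC : c y ∈ centralizer (Q : Set G)
      · left
        apply hcyc_case
        intro s hs
        have h1 := mul_comm' (⟨c s, hPCQ (hcS s hs)⟩ : centralizer (Q : Set G)) ⟨c y, hyC⟩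
        apply hc_inj
        rw [map_mul, map_mul]
        exact congrArg Subtype.val h1
      · right
        obtain ⟨hord, hinv⟩ := hQinv (c y) hyN hyC
        have hy_ord : orderOf y = 2 := by rw [← hord, orderOf_injective c hc_inj]
        have hy2 : y * y = 1 := by rw [← pow_two, ← hy_ord, pow_orderOf_eq_one]
        have hy1 : y ≠ 1 := by
          rintro rfl
          simp at hy_ord
        apply dihedral_of_cover hp2 (S₀ : Subgroup ↥H) hS2 hScyc y hy2 hy1 _ hcov
        intro s hs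
        apply hc_inj
        rw [map_mul, map_mul, map_inv, map_inv]
        exact hinv (c s) (hPCQ (hcS s hs))

end Backward

theorem result {G : Type*} [Group G] [Finite G] {p : ℕ}
    [Fact p.Prime] (hp : p ≠ 2) (P : Sylow p G) :
    (∀ H : Subgroup G, (∀ S : Sylow p ↥H, (S : Subgroup ↥H).Normal) →
        (∀ (S : Sylow p ↥H) [(S : Subgroup ↥H).Normal], IsCyclic (↥H ⧸ (S : Subgroup ↥H))) →
        IsCyclic H ∨ (∃ n : ℕ, Nonempty (H ≃* DihedralGroup (p ^ n)))) ↔
    (IsCyclic P ∧
      (Subgroup.normalizer ((P : Subgroup G) : Set G) = Subgroup.centralizer ((P : Subgroup G) : Set G) ∨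
       ((Subgroup.centralizer ((P : Subgroup G) : Set G)).relIndex (Subgroup.normalizer ((P : Subgroup G) : Set G)) = 2 ∧
        ∀ Q : Subgroup G, Q ≤ P → Nat.card Q = p →
          IsMulCommutative ↥(Subgroup.centralizer (Q : Set G)) ∧
          ∀ x : G, x ∈ Subgroup.normalizer (Q : Set G) → x ∉ Subgroup.centralizer (Q : Set G) →
            orderOf x = 2 ∧ ∀ c : G, c ∈ Subgroup.centralizer (Q : Set G) → x * c * x⁻¹ = c⁻¹))) :=
  ⟨forward hp P, fun h H hn hq => backward hp P h H hn hq⟩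

end Cfsg.Agent.S4082
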