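import Cfsg.Statements.S4083
import Cfsg.Agent.Lib.Helper29.DihedralLike
import Cfsg.Agent.Lib.Helper14.DihedralCrit
import Cfsg.Agent.Lib.Helper4.Klein1
import Cfsg.Agent.Lib.Helper1.QuaternionSylow
import Cfsg.Agent.S0992
import Cfsg.Agent.Lib.Helper10.CNGroup
import Cfsg.Agent.Lib.Helper29.MinNonPNilpotent

set_option autoImplicit false
set_option linter.unusedSectionVars false
set_option linter.style.haveILetI false
open Cfsg

namespace Cfsg.Agent.S4083

open Subgroup Cfsg.Agent.Lib.Helper29

/-- recognition of `A₄`: order 12 with a core-free subgroup of order 3 -/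
theorem nonempty_mulEquiv_A4 {H : Type*} [Group H] [Finite H] (hcard : Nat.card H = 12)
    (Y : Subgroup H) (hY : Nat.card Y = 3) (hcore : Y.normalCore = ⊥) :
    Nonempty (H ≃* alternatingGroup (Fin 4)) := by
  classical
  have hidx : Y.index = 4 := by
    have := Subgroup.card_mul_index Y
    rw [hY, hcard] at this
    omega
  have hcardQ : Nat.card (H ⧸ Y) = 4 := hidx
  have e : (H ⧸ Y) ≃ Fin 4 := Finite.equivFinOfCardEq hcardQ
  let φ : H →* Equiv.Perm (H ⧸ Y) := MulAction.toPermHom H (H ⧸ Y)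
  have hφ : Function.Injective φ := by
    rw [← MonoidHom.ker_eq_bot_iff, ← Subgroup.normalCore_eq_ker, hcore]
  let ψ : H →* Equiv.Perm (Fin 4) := (e.permCongrHom).toMonoidHom.comp φ
  have hψ : Function.Injective ψ := (e.permCongrHom).injective.comp hφ
  have hrange : Nat.card ψ.range = 12 := by
    rw [← hcard]
    exact (Nat.card_congr (MonoidHom.ofInjective hψ).toEquiv).symm
  have hidx2 : ψ.range.index = 2 := by
    have := Subgroup.card_mul_index ψ.range
    rw [hrange, Nat.card_perm, Nat.card_fin] at this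
    have h24 : Nat.factorial 4 = 24 := rfl
    rw [h24] at this
    omega
  have hA := Equiv.Perm.eq_alternatingGroup_of_index_eq_two hidx2
  exact ⟨(MonoidHom.ofInjective hψ).trans (MulEquiv.subgroupCongr hA)⟩


/-- a group with a normal Sylow 2-subgroup `S` and cyclic quotient is `S⟨y⟩` with `y` of odd
order -/
theorem exists_odd_generator {H : Type*} [Group H] [Finite H] (S : Subgroup H) [S.Normal]
    (hidx : ¬ 2 ∣ S.index) (hc : IsCyclic (H ⧸ S)) :
    ∃ y : H, Odd (orderOf y) ∧ ∀ x : H, ∃ s ∈ S, ∃ i : ℤ, x = s * y ^ i := by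
  obtain ⟨gbar, hgbar⟩ := hc.exists_generator
  obtain ⟨h, rfl⟩ := QuotientGroup.mk_surjective gbar
  obtain ⟨a, m, hm, hord⟩ := Nat.exists_eq_two_pow_mul_odd (orderOf_pos h).ne'
  refine ⟨h ^ 2 ^ a, ?_, ?_⟩
  · rw [orderOf_pow_of_dvd (by positivity) (by rw [hord]; exact dvd_mul_right _ _), hord,
      Nat.mul_div_cancel_left _ (by positivity)]
    exact hm
  · have hcop : (Nat.card (H ⧸ S)).Coprime (2 ^ a) := by
      apply Nat.Coprime.pow_right
      rw [Nat.coprime_comm]
      exact (Nat.Prime.coprime_iff_not_dvd Nat.prime_two).mpr hidx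
    set k : ℤ := (Nat.card (H ⧸ S)).gcdB (2 ^ a) with hk
    have hgk : ((h : H ⧸ S) ^ 2 ^ a) ^ k = (h : H ⧸ S) := (powCoprime hcop).left_inv (h : H ⧸ S)
    intro x
    obtain ⟨j, hj⟩ := Subgroup.mem_zpowers_iff.mp (hgbar (x : H ⧸ S))
    refine ⟨x * ((h ^ 2 ^ a) ^ (k * j))⁻¹, ?_, k * j, by group⟩
    rw [← QuotientGroup.eq_one_iff]
    rw [QuotientGroup.mk_mul, QuotientGroup.mk_inv, QuotientGroup.mk_zpow, QuotientGroup.mk_pow,
      zpow_mul, hgk, hj, mul_inv_cancel]


/-- `H = S⟨y⟩` with `S` a cyclic 2-group centralized by `y` of odd order is cyclic -/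
theorem isCyclic_of_cover {H : Type*} [Group H] [Finite H] (S : Subgroup H) (hS : IsPGroup 2 S)
    (hcyc : IsCyclic S) (y : H) (hy : Odd (orderOf y)) (hcomm : ∀ s ∈ S, s * y = y * s)
    (hcov : ∀ x : H, ∃ s ∈ S, ∃ i : ℤ, x = s * y ^ i) : IsCyclic H := by
  obtain ⟨s₀, hs₀⟩ := hcyc.exists_generator
  obtain ⟨k, hk⟩ := (IsPGroup.iff_orderOf.mp hS) s₀
  have hk' : orderOf (s₀ : H) = 2 ^ k := by rw [Subgroup.orderOf_coe]; exact hk
  have hc : Commute (s₀ : H) y := hcomm _ s₀.2
  set g : H := (s₀ : H) * y with hg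
  have hcop : (2 ^ k).Coprime (orderOf y) :=
    Nat.Coprime.pow_left k (Nat.coprime_two_left.mpr hy)
  have hyg : y ∈ zpowers g := by
    apply Cfsg.Agent.Lib.Helper10.mem_of_pow_mem_of_coprime (zpowers g) y hcop
    · have : y ^ 2 ^ k = g ^ 2 ^ k := by
        rw [hg, hc.mul_pow, ← hk', pow_orderOf_eq_one, one_mul]
      rw [this]; exact pow_mem (mem_zpowers g) _
    · rw [pow_orderOf_eq_one]; exact one_mem _
  have hsg : (s₀ : H) ∈ zpowers g := by
    apply Cfsg.Agent.Lib.Helper10.mem_of_pow_mem_of_coprime (zpowers g) (s₀ : H) hcop.symm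
    · have : (s₀ : H) ^ orderOf y = g ^ orderOf y := by
        rw [hg, hc.mul_pow, pow_orderOf_eq_one, mul_one]
      rw [this]; exact pow_mem (mem_zpowers g) _
    · rw [← hk', pow_orderOf_eq_one]; exact one_mem _
  refine ⟨⟨g, fun x => ?_⟩⟩
  obtain ⟨s, hs, i, rfl⟩ := hcov x
  obtain ⟨j, hj⟩ := Subgroup.mem_zpowers_iff.mp (hs₀ ⟨s, hs⟩)
  have hs' : s = (s₀ : H) ^ j := by
    have := congrArg Subtype.val hj
    simpa using this.symm
  rw [hs']
  exact mul_mem (zpow_mem hsg j) (zpow_mem hyg i)


/-- a noncyclic `DihLike` 2-subgroup contains a four-group and is dihedral -/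
theorem dihLike_noncyclic {G : Type*} [Group G] [Finite G] (S : Subgroup G) (hS : IsPGroup 2 S)
    (hD : DihLike S) (hnc : ¬ IsCyclic S) :
    (∃ K : Subgroup G, K ≤ S ∧ Nat.card K = 4 ∧ ∀ k ∈ K, k ^ 2 = 1) ∧
      ∃ n : ℕ, Nonempty (↥S ≃* DihedralGroup (2 ^ n)) := by
  obtain ⟨c, hcS, hcard, hout⟩ := hD
  have hzS : zpowers c ≤ S := zpowers_le.mpr hcS
  obtain ⟨x, hxS, hxc⟩ : ∃ x ∈ S, x ∉ zpowers c := by
    by_contra hcon
    push Not at hcon
    apply hnc
    have : S = zpowers c := le_antisymm hcon hzS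
    rw [this]; infer_instance
  obtain ⟨k, hk⟩ := (IsPGroup.iff_orderOf.mp hS) ⟨c, hcS⟩
  rw [Subgroup.orderOf_mk] at hk
  -- the order of `S`
  have hcardS : Nat.card S = 2 * orderOf c := by
    have h1 := Subgroup.relIndex_mul_relIndex ⊥ (zpowers c) S bot_le hzS
    rw [Subgroup.relIndex_bot_left, Subgroup.relIndex_bot_left, Nat.card_zpowers] at h1
    have h2 : (zpowers c).relIndex S ≠ 1 := by
      intro h
      exact hxc (Subgroup.relIndex_eq_one.mp h hxS)
    have h3 : (zpowers c).relIndex S ≠ 0 := by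
      rw [Subgroup.relIndex]; exact Subgroup.index_ne_zero_of_finite
    have h4 : 0 < orderOf c := orderOf_pos c
    have h5 : 2 ≤ (zpowers c).relIndex S := by omega
    nlinarith
  have hxx : x * x = 1 := by rw [← pow_two]; exact hout x hxS hxc
  have hxinv : x⁻¹ = x := inv_eq_of_mul_eq_one_right hxx
  have hxcx : x * c * x = c⁻¹ := by
    have h1 : x * c ∉ zpowers c := by
      intro h
      apply hxc
      have : x = (x * c) * c⁻¹ := by group
      rw [this]
      exact mul_mem h (inv_mem (mem_zpowers c))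
    have h2 := hout (x * c) (mul_mem hxS hcS) h1
    rw [pow_two] at h2
    have : x * c * x * c = 1 := by rw [← h2]; group
    exact eq_inv_of_mul_eq_one_left this
  constructor
  · -- the four-group
    have hk0 : k ≠ 0 := by
      rintro rfl
      rw [pow_zero] at hk
      rw [hk] at hcardS
      apply hnc
      haveI : Fact (Nat.Prime (Nat.card S)) := ⟨by rw [hcardS]; exact Nat.prime_two⟩
      exact isCyclic_of_prime_card rfl
    obtain ⟨j, rfl⟩ := Nat.exists_eq_succ_of_ne_zero hk0
    set z := c ^ 2 ^ j with hz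
    have hzz : z * z = 1 := by
      rw [hz, ← pow_add, ← two_mul, ← pow_succ', ← hk, pow_orderOf_eq_one]
    have hz1 : z ≠ 1 := by
      intro h
      have := orderOf_dvd_of_pow_eq_one h
      rw [hk] at this
      have h2 := Nat.le_of_dvd (by positivity) this
      have h3 : 2 ^ j < 2 ^ (j + 1) := Nat.pow_lt_pow_right (by norm_num) (by omega)
      omega
    have hzmem : z ∈ zpowers c := pow_mem (mem_zpowers c) _
    have hxz : z * x = x * z := by
      have h1 : ∀ i : ℕ, x * c ^ i * x = (c ^ i)⁻¹ := by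
        intro i
        induction i with
        | zero => simp [hxx]
        | succ i ih =>
          calc x * c ^ (i + 1) * x = (x * c ^ i * x) * (x * c * x) := by
                rw [pow_succ]
                have : x * (c ^ i * c) * x = x * c ^ i * (x * x) * c * x := by rw [hxx]; group
                rw [this]; group
            _ = (c ^ i)⁻¹ * c⁻¹ := by rw [ih, hxcx]
            _ = (c ^ (i + 1))⁻¹ := by
                rw [pow_succ, mul_inv_rev]
                exact ((Commute.refl c).pow_left i).inv_inv.eq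
      have h2 := h1 (2 ^ j)
      have hzinv : z⁻¹ = z := inv_eq_of_mul_eq_one_right hzz
      rw [← hz, hzinv] at h2
      calc z * x = (x * z * x) * x := by rw [h2]
        _ = x * z * (x * x) := by group
        _ = x * z := by rw [hxx, mul_one]
    have hx1 : x ≠ 1 := fun h => hxc (h ▸ one_mem _)
    have hzx : z ≠ x := fun h => hxc (h ▸ hzmem)
    refine ⟨Cfsg.Agent.Lib.Helper4.kleinOf z x hzz hxx hxz, ?_,
      Cfsg.Agent.Lib.Helper4.card_kleinOf hzz hxx hxz hz1 hx1 hzx, ?_⟩
    · intro w hw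
      rcases Cfsg.Agent.Lib.Helper4.mem_kleinOf.mp hw with rfl | rfl | rfl | rfl
      · exact one_mem _
      · exact hzS hzmem
      · exact hxS
      · exact mul_mem (hzS hzmem) hxS
    · intro w hw
      rcases Cfsg.Agent.Lib.Helper4.mem_kleinOf.mp hw with rfl | rfl | rfl | rfl
      · simp
      · rw [pow_two]; exact hzz
      · rw [pow_two]; exact hxx
      · rw [pow_two]
        calc z * x * (z * x) = z * (x * z) * x := by group
          _ = z * (z * x) * x := by rw [hxz]
          _ = (z * z) * (x * x) := by group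
          _ = 1 := by rw [hzz, hxx, mul_one]
  · -- dihedral
    refine ⟨k, ?_⟩
    rw [← hk]
    apply Cfsg.Agent.Lib.Helper14.nonempty_mulEquiv_dihedral (orderOf c) hcardS ⟨c, hcS⟩ ⟨x, hxS⟩
    · exact Subtype.ext (by simp [pow_orderOf_eq_one])
    · exact Subtype.ext (by simpa using hxx)
    · exact Subtype.ext (by simpa using hxcx)
    · rw [Subgroup.orderOf_mk]
    · intro hmem
      apply hxc
      obtain ⟨i, hi⟩ := Subgroup.mem_zpowers_iff.mp hmem
      have := congrArg Subtype.val hi
      rw [Subgroup.mem_zpowers_iff]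
      exact ⟨i, by simpa using this⟩


/-- central elements of a dihedral group `D_m`, `m ≥ 3`, are rotations -/
theorem center_le_rotations {m : ℕ} (hm : 3 ≤ m) :
    center (DihedralGroup m) ≤ zpowers (DihedralGroup.r 1) := by
  intro x hx
  cases x with
  | r i =>
    obtain ⟨k, hk⟩ : ∃ k : ℤ, (k : ZMod m) = i := ZMod.intCast_surjective i
    exact Subgroup.mem_zpowers_iff.mpr ⟨k, by rw [DihedralGroup.r_one_zpow, hk]⟩
  | sr i =>
    exfalso
    have h1 := (mem_center_iff.mp hx) (DihedralGroup.r 1)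
    rw [DihedralGroup.r_mul_sr, DihedralGroup.sr_mul_r] at h1
    have h2 : i - 1 = i + 1 := by injection h1
    have h3 : (2 : ZMod m) = 0 := by
      have : (i + 1) - (i - 1) = 0 := by rw [h2]; ring
      have h4 : (i + 1) - (i - 1) = 2 := by ring
      rw [h4] at this; exact this
    have h5 : ((2 : ℕ) : ZMod m) = 0 := by exact_mod_cast h3
    rw [ZMod.natCast_eq_zero_iff] at h5
    have := Nat.le_of_dvd (by norm_num) h5
    omega

/-- a group of order 4 and exponent 2 is not cyclic -/
theorem not_isCyclic_of_four {K : Type*} [Group K] (h4 : Nat.card K = 4)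
    (h2 : ∀ k : K, k ^ 2 = 1) : ¬ IsCyclic K := by
  intro hc
  obtain ⟨g, hg⟩ := hc.exists_generator
  have h1 : orderOf g = 4 := by rw [orderOf_eq_card_of_forall_mem_zpowers hg, h4]
  have h3 := orderOf_dvd_of_pow_eq_one (h2 g)
  rw [h1] at h3
  omega

theorem normal_of_forall_comm {H : Type*} [Group H] (hc : ∀ a b : H, a * b = b * a)
    (S : Subgroup H) : S.Normal :=
  ⟨fun n hn g => by rw [hc g n, mul_inv_cancel_right]; exact hn⟩


section Forward

variable {G : Type*} [Group G] [Finite G]

theorem card_A4 : Nat.card (alternatingGroup (Fin 4)) = 12 := by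
  rw [nat_card_alternatingGroup, Nat.card_fin]
  rfl

/-- the hypothesis applied to a 2-subgroup -/
theorem two_group_case
    (hyp : ∀ H : Subgroup G, (∀ S : Sylow 2 ↥H, (S : Subgroup ↥H).Normal) →
        (∀ (S : Sylow 2 ↥H) [(S : Subgroup ↥H).Normal], IsCyclic (↥H ⧸ (S : Subgroup ↥H))) →
        IsCyclic H ∨ (∃ n : ℕ, Nonempty (H ≃* DihedralGroup (2 ^ n))) ∨
          Nonempty (H ≃* alternatingGroup (Fin 4)))
    (H : Subgroup G) (hH : IsPGroup 2 H) :
    IsCyclic H ∨ ∃ n : ℕ, Nonempty (H ≃* DihedralGroup (2 ^ n)) := by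
  have hsyl : ∀ S : Sylow 2 ↥H, (S : Subgroup ↥H) = ⊤ := fun S =>
    (S.is_maximal' (Q := ⊤) (hH.to_subgroup ⊤) le_top).symm
  rcases hyp H (fun S => by rw [hsyl S]; infer_instance) (fun S _ => by
      haveI : Subsingleton (↥H ⧸ (S : Subgroup ↥H)) := by
        rw [← Finite.card_le_one_iff_subsingleton, ← Subgroup.index_eq_card,
          Subgroup.index_eq_one.mpr (hsyl S)]
      exact isCyclic_of_subsingleton) with h | h | ⟨⟨e⟩⟩
  · exact Or.inl h
  · exact Or.inr h
  · exfalso
    obtain ⟨k, hk⟩ := (IsPGroup.iff_card (p := 2)).mp hH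
    rw [Nat.card_congr e.toEquiv, card_A4] at hk
    have hk4 : k < 4 := by
      by_contra hcon
      have : 2 ^ 4 ≤ 2 ^ k := Nat.pow_le_pow_right (by norm_num) (by omega)
      omega
    interval_cases k <;> omega


/-- under the hypothesis, an element of odd order centralizing a four-group is trivial -/
theorem abelian_case
    (hyp : ∀ H : Subgroup G, (∀ S : Sylow 2 ↥H, (S : Subgroup ↥H).Normal) →
        (∀ (S : Sylow 2 ↥H) [(S : Subgroup ↥H).Normal], IsCyclic (↥H ⧸ (S : Subgroup ↥H))) →
        IsCyclic H ∨ (∃ n : ℕ, Nonempty (H ≃* DihedralGroup (2 ^ n))) ∨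
          Nonempty (H ≃* alternatingGroup (Fin 4)))
    (K : Subgroup G) (hK4 : Nat.card K = 4) (hK2 : ∀ k ∈ K, k ^ 2 = 1) (y : G)
    (hyC : y ∈ centralizer (K : Set G)) (hodd : Odd (orderOf y)) : y = 1 := by
  haveI : Fact (Nat.Prime 2) := ⟨Nat.prime_two⟩
  -- `K` is abelian
  have hKab : ∀ a ∈ K, ∀ b ∈ K, a * b = b * a := by
    intro a ha b hb
    have h1 := hK2 a ha
    have h2 := hK2 b hb
    have h3 := hK2 (a * b) (mul_mem ha hb)
    rw [pow_two] at h1 h2 h3
    have ha' : a⁻¹ = a := inv_eq_of_mul_eq_one_right h1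
    have hb' : b⁻¹ = b := inv_eq_of_mul_eq_one_right h2
    have h4 : (a * b)⁻¹ = a * b := inv_eq_of_mul_eq_one_right h3
    rw [mul_inv_rev, ha', hb'] at h4
    exact h4.symm
  have hK2grp : IsPGroup 2 K := by
    intro k
    exact ⟨1, by
      have := hK2 (k : G) k.2
      exact Subtype.ext (by simpa using this)⟩
  -- the abelian subgroup `H = K⟨y⟩`
  have hcomm : ∀ a ∈ ((K : Set G) ∪ {y}), ∀ b ∈ ((K : Set G) ∪ {y}), a * b = b * a := by
    rintro a (ha | ha) b (hb | hb)
    · exact hKab a ha b hb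
    · rw [Set.mem_singleton_iff] at hb; subst hb
      exact mem_centralizer_iff.mp hyC a ha
    · rw [Set.mem_singleton_iff] at ha; subst ha
      exact (mem_centralizer_iff.mp hyC b hb).symm
    · rw [Set.mem_singleton_iff] at ha hb; subst ha; subst hb; rfl
  set H : Subgroup G := closure ((K : Set G) ∪ {y}) with hH
  have hKH : K ≤ H := fun k hk => subset_closure (Or.inl hk)
  have hyH : y ∈ H := subset_closure (Or.inr rfl)
  have hHle : H ≤ centralizer ((K : Set G) ∪ {y}) := by
    rw [hH, closure_le]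
    intro a ha
    rw [SetLike.mem_coe, mem_centralizer_iff]
    intro b hb
    exact hcomm b hb a ha
  have hHab : ∀ a b : ↥H, a * b = b * a := by
    intro a b
    have h1 : H ≤ centralizer (H : Set G) := by
      rw [hH, closure_le]
      intro a ha
      rw [SetLike.mem_coe, mem_centralizer_iff]
      intro b hb
      have hb' : b ∈ centralizer ((K : Set G) ∪ {y}) := hHle hb
      exact (mem_centralizer_iff.mp hb' a ha).symm
    have := mem_centralizer_iff.mp (h1 b.2) (a : G) a.2
    exact Subtype.ext this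
  -- decomposition of elements of `H`
  have hdecomp : ∀ h ∈ H, ∃ k ∈ K, ∃ i : ℤ, h = k * y ^ i := by
    intro h hh
    induction hh using Subgroup.closure_induction with
    | mem x hx =>
      rcases hx with hx | hx
      · exact ⟨x, hx, 0, by simp⟩
      · rw [Set.mem_singleton_iff] at hx
        exact ⟨1, one_mem _, 1, by simp [hx]⟩
    | one => exact ⟨1, one_mem _, 0, by simp⟩
    | mul a b _ _ iha ihb =>
      obtain ⟨k1, hk1, i1, rfl⟩ := iha
      obtain ⟨k2, hk2, i2, rfl⟩ := ihb
      refine ⟨k1 * k2, mul_mem hk1 hk2, i1 + i2, ?_⟩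
      have hc : Commute (y ^ i1) k2 := by
        have : Commute y k2 := (mem_centralizer_iff.mp hyC k2 hk2).symm
        exact this.zpow_left i1
      rw [zpow_add]
      calc k1 * y ^ i1 * (k2 * y ^ i2) = k1 * (y ^ i1 * k2) * y ^ i2 := by group
        _ = k1 * (k2 * y ^ i1) * y ^ i2 := by rw [hc.eq]
        _ = k1 * k2 * (y ^ i1 * y ^ i2) := by group
    | inv a _ iha =>
      obtain ⟨k1, hk1, i1, rfl⟩ := iha
      refine ⟨k1⁻¹, inv_mem hk1, -i1, ?_⟩
      have hc : Commute (y ^ i1) k1 := by
        have : Commute y k1 := (mem_centralizer_iff.mp hyC k1 hk1).symm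
        exact this.zpow_left i1
      rw [mul_inv_rev, zpow_neg]
      exact (hc.inv_inv).eq
  rcases hyp H (fun S => normal_of_forall_comm hHab _) (fun S _ => by
      -- the quotient is generated by the image of `y`
      refine ⟨⟨((⟨y, hyH⟩ : ↥H) : ↥H ⧸ (S : Subgroup ↥H)), fun q => ?_⟩⟩
      obtain ⟨h, rfl⟩ := QuotientGroup.mk_surjective q
      obtain ⟨k, hk, i, hi⟩ := hdecomp (h : G) h.2
      have hkS : (⟨k, hKH hk⟩ : ↥H) ∈ (S : Subgroup ↥H) := by
        have h1 : IsPGroup 2 ↥(K.subgroupOf H) :=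
          hK2grp.of_equiv (Subgroup.subgroupOfEquivOfLe hKH).symm
        exact le_of_isPGroup_of_normal_sylow S (K.subgroupOf H) h1
          (Subgroup.mem_subgroupOf.mpr hk)
      refine ⟨i, ?_⟩
      have h2 : h = (⟨k, hKH hk⟩ : ↥H) * (⟨y, hyH⟩ : ↥H) ^ i := Subtype.ext (by simpa using hi)
      show ((⟨y, hyH⟩ : ↥H) : ↥H ⧸ (S : Subgroup ↥H)) ^ i = (h : ↥H ⧸ (S : Subgroup ↥H))
      rw [h2, QuotientGroup.mk_mul, QuotientGroup.mk_zpow,
        (QuotientGroup.eq_one_iff _).mpr hkS, one_mul]) with h | ⟨n, ⟨e⟩⟩ | ⟨⟨e⟩⟩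
  · -- cyclic: impossible
    exfalso
    haveI := h
    have h1 : IsCyclic ↥(K.subgroupOf H) := inferInstance
    have h2 : IsCyclic ↥K := (Subgroup.subgroupOfEquivOfLe hKH).isCyclic.mp h1
    exact not_isCyclic_of_four hK4 (fun k => Subtype.ext (by simpa using hK2 (k : G) k.2)) h2
  · -- dihedral 2-group
    have hcardH : Nat.card H = 2 ^ (n + 1) := by
      rw [Nat.card_congr e.toEquiv, DihedralGroup.nat_card, pow_succ, mul_comm]
    have h1 : orderOf y ∣ 2 ^ (n + 1) := by
      rw [← hcardH, ← Subgroup.orderOf_mk y hyH]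
      exact orderOf_dvd_natCard _
    have h2 : (orderOf y).Coprime (2 ^ (n + 1)) :=
      Nat.Coprime.pow_right _ (Nat.coprime_two_right.mpr hodd)
    exact orderOf_eq_one_iff.mp (Nat.Coprime.eq_one_of_dvd h2 h1)
  · -- `A₄` is not abelian
    exfalso
    have h1 : center (alternatingGroup (Fin 4)) = ⊤ := by
      rw [eq_top_iff]
      intro a _
      rw [mem_center_iff]
      intro b
      have := hHab (e.symm b) (e.symm a)
      rw [← map_mul, ← map_mul] at this
      exact e.symm.injective this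
    rw [alternatingGroup.center_eq_bot (by simp)] at h1
    have h2 : Nat.card (⊥ : Subgroup (alternatingGroup (Fin 4))) = 12 := by
      rw [h1, Subgroup.card_top, card_A4]
    simp at h2


theorem forward (P : Sylow 2 G)
    (hyp : ∀ H : Subgroup G, (∀ S : Sylow 2 ↥H, (S : Subgroup ↥H).Normal) →
        (∀ (S : Sylow 2 ↥H) [(S : Subgroup ↥H).Normal], IsCyclic (↥H ⧸ (S : Subgroup ↥H))) →
        IsCyclic H ∨ (∃ n : ℕ, Nonempty (H ≃* DihedralGroup (2 ^ n))) ∨
          Nonempty (H ≃* alternatingGroup (Fin 4))) :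
    IsCyclic P ∨
      ((∃ n : ℕ, 1 ≤ n ∧ Nonempty ((P : Subgroup G) ≃* DihedralGroup (2 ^ n))) ∧
        ∀ K : Subgroup G, K ≤ P → Nat.card K = 4 → (∀ k ∈ K, k ^ 2 = 1) →
          Subgroup.centralizer (K : Set G) = K) := by
  rcases two_group_case hyp P P.isPGroup' with hcyc | ⟨n, ⟨e⟩⟩
  · exact Or.inl hcyc
  · by_cases hn : n = 0
    · left
      subst hn
      have hc : Nat.card (P : Subgroup G) = 2 := by
        rw [Nat.card_congr e.toEquiv, DihedralGroup.nat_card]; norm_num
      haveI : Fact (Nat.Prime (Nat.card (P : Subgroup G))) := ⟨by rw [hc]; exact Nat.prime_two⟩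
      exact isCyclic_of_prime_card rfl
    · right
      refine ⟨⟨n, by omega, ⟨e⟩⟩, ?_⟩
      intro K _ hK4 hK2
      -- `K` is abelian, so `K ≤ C(K)`
      have hKab : ∀ a ∈ K, ∀ b ∈ K, a * b = b * a := by
        intro a ha b hb
        have h1 := hK2 a ha
        have h2 := hK2 b hb
        have h3 := hK2 (a * b) (mul_mem ha hb)
        rw [pow_two] at h1 h2 h3
        have ha' : a⁻¹ = a := inv_eq_of_mul_eq_one_right h1
        have hb' : b⁻¹ = b := inv_eq_of_mul_eq_one_right h2
        have h4 : (a * b)⁻¹ = a * b := inv_eq_of_mul_eq_one_right h3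
        rw [mul_inv_rev, ha', hb'] at h4
        exact h4.symm
      have hKC : K ≤ centralizer (K : Set G) := by
        intro a ha
        rw [mem_centralizer_iff]
        intro b hb
        exact hKab b hb a ha
      -- `C(K)` is a 2-group
      have hC2 : IsPGroup 2 ↥(centralizer (K : Set G)) := by
        intro x
        obtain ⟨a, m, hm, hord⟩ := Nat.exists_eq_two_pow_mul_odd (orderOf_pos (x : G)).ne'
        refine ⟨a, ?_⟩
        have h1 : orderOf ((x : G) ^ 2 ^ a) = m := by
          rw [orderOf_pow_of_dvd (by positivity) (by rw [hord]; exact dvd_mul_right _ _), hord,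
            Nat.mul_div_cancel_left _ (by positivity)]
        have h2 := abelian_case hyp K hK4 hK2 ((x : G) ^ 2 ^ a) (pow_mem x.2 _) (h1 ▸ hm)
        exact Subtype.ext (by simpa using h2)
      rcases two_group_case hyp (centralizer (K : Set G)) hC2 with hcyc | ⟨j, ⟨eC⟩⟩
      · exfalso
        haveI := hcyc
        have h1 : IsCyclic ↥(K.subgroupOf (centralizer (K : Set G))) := inferInstance
        have h2 : IsCyclic ↥K := (Subgroup.subgroupOfEquivOfLe hKC).isCyclic.mp h1
        exact not_isCyclic_of_four hK4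
          (fun k => Subtype.ext (by simpa using hK2 (k : G) k.2)) h2
      · have hcardC : Nat.card (centralizer (K : Set G)) = 2 * 2 ^ j := by
          rw [Nat.card_congr eC.toEquiv, DihedralGroup.nat_card]
        have hle := Subgroup.card_le_of_le hKC
        rw [hK4, hcardC] at hle
        rcases Nat.lt_or_ge j 2 with hj | hj
        · -- `j ≤ 1`: orders force equality
          have hj1 : j = 1 := by
            interval_cases j
            · norm_num at hle
            · rfl
          subst hj1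
          exact (Subgroup.eq_of_le_of_card_ge hKC (by rw [hK4, hcardC]; norm_num)).symm
        · -- `j ≥ 2`: a central four-group in a dihedral group of order at least 8
          exfalso
          have h3 : 3 ≤ 2 ^ j := by
            calc 3 ≤ 2 ^ 2 := by norm_num
              _ ≤ 2 ^ j := Nat.pow_le_pow_right (by norm_num) hj
          set K' : Subgroup (DihedralGroup (2 ^ j)) :=
            (K.subgroupOf (centralizer (K : Set G))).map eC.toMonoidHom with hK'
          have hK'c : K' ≤ center (DihedralGroup (2 ^ j)) := by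
            rintro _ ⟨k, hk, rfl⟩
            rw [mem_center_iff]
            intro d
            obtain ⟨c, rfl⟩ := eC.surjective d
            show eC c * eC k = eC k * eC c
            rw [← map_mul, ← map_mul]
            congr 1
            apply Subtype.ext
            show (c : G) * (k : G) = (k : G) * (c : G)
            exact (mem_centralizer_iff.mp c.2 (k : G) (Subgroup.mem_subgroupOf.mp hk)).symm
          have hK'cyc : IsCyclic ↥K' := by
            have hle' : K' ≤ zpowers (DihedralGroup.r 1) := hK'c.trans (center_le_rotations h3)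
            have h1 : IsCyclic ↥(K'.subgroupOf (zpowers (DihedralGroup.r 1))) := inferInstance
            exact (Subgroup.subgroupOfEquivOfLe hle').isCyclic.mp h1
          have e1 : ↥K ≃* ↥K' :=
            ((Subgroup.subgroupOfEquivOfLe hKC).symm).trans
              ((K.subgroupOf (centralizer (K : Set G))).equivMapOfInjective eC.toMonoidHom
                eC.injective)
          have h2 : IsCyclic ↥K := e1.isCyclic.mpr hK'cyc
          exact not_isCyclic_of_four hK4
            (fun k => Subtype.ext (by simpa using hK2 (k : G) k.2)) h2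

end Forward


section Backward

variable {G : Type*} [Group G] [Finite G]

/-- the centralizer hypothesis for all four-subgroups of `G` -/
theorem centralizer_four (P : Sylow 2 G)
    (hcent : ∀ K : Subgroup G, K ≤ P → Nat.card K = 4 → (∀ k ∈ K, k ^ 2 = 1) →
      Subgroup.centralizer (K : Set G) = K)
    (K : Subgroup G) (hK4 : Nat.card K = 4) (hK2 : ∀ k ∈ K, k ^ 2 = 1) :
    Subgroup.centralizer (K : Set G) = K := by
  haveI : Fact (Nat.Prime 2) := ⟨Nat.prime_two⟩
  have hK2grp : IsPGroup 2 K := by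
    intro k
    exact ⟨1, by
      have := hK2 (k : G) k.2
      exact Subtype.ext (by simpa using this)⟩
  obtain ⟨S, hS⟩ := hK2grp.exists_le_sylow
  obtain ⟨g, rfl⟩ := MulAction.exists_smul_eq G P S
  set K' : Subgroup G := K.map (MulAut.conj g⁻¹).toMonoidHom with hK'
  have hmem : ∀ x : G, x ∈ K' ↔ g * x * g⁻¹ ∈ K := by
    intro x
    constructor
    · rintro ⟨k, hk, rfl⟩
      have : g * ((MulAut.conj g⁻¹).toMonoidHom k) * g⁻¹ = k := by
        simp [MulAut.conj_apply]; group
      rw [this]; exact hk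
    · intro hx
      refine ⟨g * x * g⁻¹, hx, ?_⟩
      simp [MulAut.conj_apply]; group
  have hK'P : K' ≤ P := by
    intro x hx
    have h1 := (mem_smul_sylow_iff g _ P).mp (hS ((hmem x).mp hx))
    have h2 : g⁻¹ * (g * x * g⁻¹) * g = x := by group
    rwa [h2] at h1
  have hK'4 : Nat.card K' = 4 := by
    rw [hK', Subgroup.card_map_of_injective (MulAut.conj g⁻¹).injective, hK4]
  have hK'2 : ∀ k ∈ K', k ^ 2 = 1 := by
    intro k hk
    have h1 := hK2 _ ((hmem k).mp hk)
    have h2 : (g * k * g⁻¹) ^ 2 = g * k ^ 2 * g⁻¹ := by rw [pow_two, pow_two]; group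
    rw [h2] at h1
    have : k ^ 2 = g⁻¹ * (g * k ^ 2 * g⁻¹) * g := by group
    rw [this, h1]; group
  have hC' := hcent K' hK'P hK'4 hK'2
  ext x
  constructor
  · intro hx
    have h1 : g⁻¹ * x * g ∈ centralizer (K' : Set G) := by
      rw [mem_centralizer_iff]
      intro k hk
      have h2 := mem_centralizer_iff.mp hx _ ((hmem k).mp hk)
      calc k * (g⁻¹ * x * g) = g⁻¹ * ((g * k * g⁻¹) * x) * g := by group
        _ = g⁻¹ * (x * (g * k * g⁻¹)) * g := by rw [h2]
        _ = g⁻¹ * x * g * k := by group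
    rw [hC'] at h1
    have h3 := (hmem _).mp h1
    have h4 : g * (g⁻¹ * x * g) * g⁻¹ = x := by group
    rwa [h4] at h3
  · intro hx
    rw [mem_centralizer_iff]
    intro k hk
    have h1 := hK2 k hk
    have h2 := hK2 x hx
    have h3 := hK2 (k * x) (mul_mem hk hx)
    rw [pow_two] at h1 h2 h3
    have ha' : k⁻¹ = k := inv_eq_of_mul_eq_one_right h1
    have hb' : x⁻¹ = x := inv_eq_of_mul_eq_one_right h2
    have h4 : (k * x)⁻¹ = k * x := inv_eq_of_mul_eq_one_right h3
    rw [mul_inv_rev, ha', hb'] at h4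
    exact h4.symm


theorem DihLike.comap_subtype (H : Subgroup G) (S : Subgroup ↥H)
    (h : DihLike (S.map H.subtype)) : DihLike S := by
  obtain ⟨c, hc, hcard, hout⟩ := h
  obtain ⟨c₀, hc₀, rfl⟩ := hc
  refine ⟨c₀, hc₀, ?_, ?_⟩
  · rw [Subgroup.card_map_of_injective H.subtype_injective] at hcard
    rwa [orderOf_injective H.subtype H.subtype_injective] at hcard
  · intro x hx hxc
    have h1 : H.subtype x ∉ zpowers (H.subtype c₀) := by
      intro hmem
      apply hxc
      obtain ⟨i, hi⟩ := Subgroup.mem_zpowers_iff.mp hmem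
      rw [Subgroup.mem_zpowers_iff]
      refine ⟨i, ?_⟩
      apply H.subtype_injective
      rw [map_zpow]; exact hi
    have h2 := hout _ (Subgroup.mem_map_of_mem _ hx) h1
    apply H.subtype_injective
    rw [map_pow, h2, map_one]

theorem isCyclic_of_sylow_cyclic (P : Sylow 2 G) (hP : IsCyclic P) (R : Subgroup G)
    (hR : IsPGroup 2 R) : IsCyclic R := by
  haveI : Fact (Nat.Prime 2) := ⟨Nat.prime_two⟩
  obtain ⟨S, hS⟩ := hR.exists_le_sylow
  obtain ⟨g, rfl⟩ := MulAction.exists_smul_eq G P S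
  have e : (P : Subgroup G) ≃* ((g • P : Sylow 2 G) : Subgroup G) := by
    rw [Sylow.coe_subgroup_smul]
    exact Subgroup.equivSMul (MulAut.conj g) (P : Subgroup G)
  haveI : IsCyclic ((g • P : Sylow 2 G) : Subgroup G) := e.isCyclic.mp hP
  haveI : IsCyclic (R.subgroupOf ((g • P : Sylow 2 G) : Subgroup G)) := inferInstance
  exact (Subgroup.subgroupOfEquivOfLe hS).isCyclic.mp inferInstance

theorem centralizer_four_sub (P : Sylow 2 G)
    (hcent : ∀ K : Subgroup G, K ≤ P → Nat.card K = 4 → (∀ k ∈ K, k ^ 2 = 1) →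
      Subgroup.centralizer (K : Set G) = K)
    (H : Subgroup G) (K : Subgroup ↥H) (hK4 : Nat.card K = 4) (hK2 : ∀ k ∈ K, k ^ 2 = 1) :
    centralizer (K : Set ↥H) ≤ K := by
  have hKG4 : Nat.card (K.map H.subtype) = 4 := by
    rw [Subgroup.card_map_of_injective H.subtype_injective, hK4]
  have hKG2 : ∀ k ∈ K.map H.subtype, k ^ 2 = 1 := by
    rintro _ ⟨k, hk, rfl⟩
    rw [← map_pow, hK2 k hk, map_one]
  have hC := centralizer_four P hcent (K.map H.subtype) hKG4 hKG2
  intro x hx
  have h1 : H.subtype x ∈ centralizer ((K.map H.subtype : Subgroup G) : Set G) := by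
    rw [mem_centralizer_iff]
    rintro _ ⟨k, hk, rfl⟩
    have := mem_centralizer_iff.mp hx k hk
    rw [← map_mul, ← map_mul, this]
  rw [hC] at h1
  obtain ⟨k, hk, hkx⟩ := h1
  have := H.subtype_injective hkx
  rwa [← this]

theorem backward (P : Sylow 2 G)
    (hP : IsCyclic P ∨
      ((∃ n : ℕ, 1 ≤ n ∧ Nonempty ((P : Subgroup G) ≃* DihedralGroup (2 ^ n))) ∧
        ∀ K : Subgroup G, K ≤ P → Nat.card K = 4 → (∀ k ∈ K, k ^ 2 = 1) →
          Subgroup.centralizer (K : Set G) = K))
    (H : Subgroup G) (hnorm : ∀ S : Sylow 2 ↥H, (S : Subgroup ↥H).Normal)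
    (hquot : ∀ (S : Sylow 2 ↥H) [(S : Subgroup ↥H).Normal],
      IsCyclic (↥H ⧸ (S : Subgroup ↥H))) :
    IsCyclic H ∨ (∃ n : ℕ, Nonempty (H ≃* DihedralGroup (2 ^ n))) ∨
          Nonempty (H ≃* alternatingGroup (Fin 4)) := by
  haveI : Fact (Nat.Prime 2) := ⟨Nat.prime_two⟩
  let S₀ : Sylow 2 ↥H := default
  haveI hS₀n : (S₀ : Subgroup ↥H).Normal := hnorm S₀
  obtain ⟨y, hyodd, hcov⟩ :=
    exists_odd_generator (S₀ : Subgroup ↥H) S₀.not_dvd_index (hquot S₀)
  have hS2 : IsPGroup 2 (S₀ : Subgroup ↥H) := S₀.isPGroup'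
  have hynorm : y ∈ normalizer ((S₀ : Subgroup ↥H) : Set ↥H) := by
    rw [Subgroup.normalizer_eq_top]; exact mem_top y
  have hSG2 : IsPGroup 2 ((S₀ : Subgroup ↥H).map H.subtype) := hS2.map _
  have hycop : (orderOf y).Coprime 2 := Nat.coprime_two_right.mpr hyodd
  have hcyc_case : IsCyclic (S₀ : Subgroup ↥H) →
      y ∈ centralizer ((S₀ : Subgroup ↥H) : Set ↥H) → IsCyclic H := by
    intro hc hyc
    exact isCyclic_of_cover (S₀ : Subgroup ↥H) hS2 hc y hyodd
      (fun s hs => mem_centralizer_iff.mp hyc s hs) hcov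
  rcases hP with hPc | ⟨⟨n, hn, ⟨e⟩⟩, hcent⟩
  · left
    have hScyc : IsCyclic (S₀ : Subgroup ↥H) := by
      have h1 := isCyclic_of_sylow_cyclic P hPc _ hSG2
      exact ((S₀ : Subgroup ↥H).equivMapOfInjective H.subtype
        H.subtype_injective).isCyclic.mpr h1
    haveI := hScyc
    exact hcyc_case hScyc
      (Cfsg.Agent.Lib.Helper1.mem_centralizer_of_mem_normalizer_cyclic_two _ hS2 y hynorm hyodd)
  · have hD : DihLike (S₀ : Subgroup ↥H) := by
      apply DihLike.comap_subtype
      exact DihLike.of_isPGroup P (dihLike_of_mulEquiv_dihedralGroup _ _ e) _ hSG2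
    by_cases hyc : y ∈ centralizer ((S₀ : Subgroup ↥H) : Set ↥H)
    · by_cases hScyc : IsCyclic (S₀ : Subgroup ↥H)
      · exact Or.inl (hcyc_case hScyc hyc)
      · right; left
        obtain ⟨⟨K, hKS, hK4, hK2⟩, m, ⟨eS⟩⟩ := dihLike_noncyclic _ hS2 hD hScyc
        have hyK : y ∈ K := by
          apply centralizer_four_sub P hcent H K hK4 hK2
          exact Subgroup.centralizer_le hKS hyc
        have htop : (S₀ : Subgroup ↥H) = ⊤ := by
          rw [eq_top_iff]
          intro x _
          obtain ⟨s, hs, i, rfl⟩ := hcov x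
          exact mul_mem hs (zpow_mem (hKS hyK) i)
        exact ⟨m, ⟨(Subgroup.topEquiv.symm.trans (MulEquiv.subgroupCongr htop.symm)).trans eS⟩⟩
    · right; right
      have hK : IsKleinFour (S₀ : Subgroup ↥H) := by
        rcases mem_centralizer_or_isKleinFour _ hS2 hD y hynorm hycop with h | h
        · exact absurd h hyc
        · exact h
      have hS4 : Nat.card (S₀ : Subgroup ↥H) = 4 := hK.card_four
      have hSexp : ∀ k ∈ (S₀ : Subgroup ↥H), k ^ 2 = 1 := by
        intro k hk
        have h1 : (⟨k, hk⟩ : (S₀ : Subgroup ↥H)) ^ 2 = 1 := by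
          have := Monoid.pow_exponent_eq_one (⟨k, hk⟩ : (S₀ : Subgroup ↥H))
          rwa [hK.exponent_two] at this
        have := congrArg Subtype.val h1
        simpa using this
      have hcentS : centralizer ((S₀ : Subgroup ↥H) : Set ↥H) ≤ S₀ :=
        centralizer_four_sub P hcent H _ hS4 hSexp
      have hy3 : y ^ 3 ∈ centralizer ((S₀ : Subgroup ↥H) : Set ↥H) := by
        set yn : normalizer ((S₀ : Subgroup ↥H) : Set ↥H) := ⟨y, hynorm⟩ with hyn
        set φ := (S₀ : Subgroup ↥H).normalizerMonoidHom yn with hφ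
        have h1 : orderOf φ ∣ orderOf y := by
          have := orderOf_map_dvd (S₀ : Subgroup ↥H).normalizerMonoidHom yn
          rwa [Subgroup.orderOf_mk] at this
        have h2 : orderOf φ ∣ 6 :=
          (orderOf_dvd_natCard φ).trans (Cfsg.Agent.S0992.card_mulAut_kleinFour_dvd _)
        have h3 : orderOf φ ∣ 3 := by
          have h7 : (orderOf φ).Coprime 2 := Nat.Coprime.coprime_dvd_left h1 hycop
          have h6 : orderOf φ ∣ 2 * 3 := h2
          exact h7.dvd_of_dvd_mul_left h6
        have h8 : φ ^ 3 = 1 := orderOf_dvd_iff_pow_eq_one.mp h3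
        have h9 : yn ^ 3 ∈ (S₀ : Subgroup ↥H).normalizerMonoidHom.ker := by
          rw [MonoidHom.mem_ker, map_pow]; exact h8
        rw [Subgroup.normalizerMonoidHom_ker] at h9
        exact h9
      have hy3S : y ^ 3 ∈ (S₀ : Subgroup ↥H) := hcentS hy3
      have hinf : (S₀ : Subgroup ↥H) ⊓ zpowers y = ⊥ := by
        apply Disjoint.eq_bot
        apply Subgroup.disjoint_of_coprime_natCard
        rw [hS4, Nat.card_zpowers]
        have : Nat.Coprime (2 ^ 2) (orderOf y) := Nat.Coprime.pow_left 2 hycop.symm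
        simpa using this
      have hy31 : y ^ 3 = 1 := by
        have : y ^ 3 ∈ (S₀ : Subgroup ↥H) ⊓ zpowers y := ⟨hy3S, pow_mem (mem_zpowers y) 3⟩
        rw [hinf] at this
        exact Subgroup.mem_bot.mp this
      have hy1 : y ≠ 1 := by
        rintro rfl
        exact hyc (one_mem _)
      have hy3ord : orderOf y = 3 := by
        haveI : Fact (Nat.Prime 3) := ⟨Nat.prime_three⟩
        exact orderOf_eq_prime hy31 hy1
      have hY3 : Nat.card (zpowers y) = 3 := by rw [Nat.card_zpowers, hy3ord]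
      have hcard : Nat.card H = 12 := by
        have hle : Nat.card H ≤ 12 := by
          let f : ↥(S₀ : Subgroup ↥H) × ↥(zpowers y) → ↥H := fun p => (p.1 : ↥H) * (p.2 : ↥H)
          have hf : Function.Surjective f := by
            intro x
            obtain ⟨s, hs, i, rfl⟩ := hcov x
            exact ⟨(⟨s, hs⟩, ⟨y ^ i, zpow_mem (mem_zpowers y) i⟩), rfl⟩
          have := Nat.card_le_card_of_surjective f hf
          rwa [Nat.card_prod, hS4, hY3] at this
        have h4 : 4 ∣ Nat.card H := hS4 ▸ Subgroup.card_subgroup_dvd_card _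
        have h3 : 3 ∣ Nat.card H := hY3 ▸ Subgroup.card_subgroup_dvd_card _
        have hpos : 0 < Nat.card H := Nat.card_pos
        omega
      have hcore : (zpowers y).normalCore = ⊥ := by
        rw [eq_bot_iff]
        intro n hn
        have hnY : n ∈ zpowers y := Subgroup.normalCore_le _ hn
        have hnc : n ∈ centralizer ((S₀ : Subgroup ↥H) : Set ↥H) := by
          rw [mem_centralizer_iff]
          intro s hs
          have h1 : n * s * n⁻¹ * s⁻¹ ∈ (S₀ : Subgroup ↥H) :=
            mul_mem (hS₀n.conj_mem s hs n) (inv_mem hs)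
          have h2 : n * s * n⁻¹ * s⁻¹ ∈ (zpowers y).normalCore := by
            have : n * s * n⁻¹ * s⁻¹ = n * (s * n⁻¹ * s⁻¹) := by group
            rw [this]
            exact mul_mem hn ((Subgroup.normalCore_normal _).conj_mem _ (inv_mem hn) s)
          have h3 : n * s * n⁻¹ * s⁻¹ ∈ (S₀ : Subgroup ↥H) ⊓ zpowers y :=
            ⟨h1, Subgroup.normalCore_le _ h2⟩
          rw [hinf, Subgroup.mem_bot] at h3
          calc s * n = (n * s * n⁻¹ * s⁻¹) * s * n := by rw [h3, one_mul]
            _ = n * s := by group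
        have : n ∈ (S₀ : Subgroup ↥H) ⊓ zpowers y := ⟨hcentS hnc, hnY⟩
        rw [hinf] at this
        exact this
      exact nonempty_mulEquiv_A4 hcard (zpowers y) hY3 hcore

end Backward

theorem result {G : Type*} [Group G] [Finite G] (P : Sylow 2 G) :
    (∀ H : Subgroup G, (∀ S : Sylow 2 ↥H, (S : Subgroup ↥H).Normal) →
        (∀ (S : Sylow 2 ↥H) [(S : Subgroup ↥H).Normal], IsCyclic (↥H ⧸ (S : Subgroup ↥H))) →
        IsCyclic H ∨ (∃ n : ℕ, Nonempty (H ≃* DihedralGroup (2 ^ n))) ∨ Nonempty (H ≃* alternatingGroup (Fin 4))) ↔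
    (IsCyclic P ∨
      ((∃ n : ℕ, 1 ≤ n ∧ Nonempty ((P : Subgroup G) ≃* DihedralGroup (2 ^ n))) ∧
        ∀ K : Subgroup G, K ≤ P → Nat.card K = 4 → (∀ k ∈ K, k ^ 2 = 1) → Subgroup.centralizer (K : Set G) = K)) :=
  ⟨forward P, fun h H hn hq => backward P h H hn hq⟩

end Cfsg.Agent.S4083
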