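import Cfsg.Statements.S4084
import Mathlib
-- import your own Cfsg.Agent.* helpers here

set_option autoImplicit false
open Cfsg

namespace Cfsg.Agent.S4084

theorem aux {G H : Type*} [Group G] [Finite G] [Group H] [Finite H] (e : G ≃ H)
    (he : ∀ x y : G, Commute x y ↔ Commute (e x) (e y))
    {p q : ℕ} (hp : p.Prime) (hq : q.Prime) (hpq : p ≠ q) :
    (∃ g : G, orderOf g = p * q) → (∃ h : H, orderOf h = p * q) := by
  rintro ⟨g, hg⟩
  -- double centralizers
  set A : Subgroup G := Subgroup.centralizer (Subgroup.centralizer ({g} : Set G) : Set G) with hA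
  set B : Subgroup H := Subgroup.centralizer (Subgroup.centralizer ({e g} : Set H) : Set H) with hB
  have memA : ∀ y : G, y ∈ A ↔ ∀ z : G, Commute z g → Commute y z := by
    intro y
    rw [hA, Subgroup.mem_centralizer_iff]
    constructor
    · intro h z hz
      have : z ∈ Subgroup.centralizer ({g} : Set G) := by
        rw [Subgroup.mem_centralizer_iff]
        intro w hw
        rw [Set.mem_singleton_iff] at hw
        rw [hw]; exact hz.eq.symm
      exact (h z this).symm
    · intro h z hz
      have : Commute z g := by
        rw [SetLike.mem_coe, Subgroup.mem_centralizer_iff] at hz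
        exact (hz g rfl).symm
      exact (h z this).eq.symm
  have memB : ∀ y : H, y ∈ B ↔ ∀ z : H, Commute z (e g) → Commute y z := by
    intro y
    rw [hB, Subgroup.mem_centralizer_iff]
    constructor
    · intro h z hz
      have : z ∈ Subgroup.centralizer ({e g} : Set H) := by
        rw [Subgroup.mem_centralizer_iff]
        intro w hw
        rw [Set.mem_singleton_iff] at hw
        rw [hw]; exact hz.eq.symm
      exact (h z this).symm
    · intro h z hz
      have : Commute z (e g) := by
        rw [SetLike.mem_coe, Subgroup.mem_centralizer_iff] at hz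
        exact (hz (e g) rfl).symm
      exact (h z this).eq.symm
  have hAB : ∀ y : G, y ∈ A ↔ e y ∈ B := by
    intro y
    rw [memA, memB]
    constructor
    · intro h w hw
      obtain ⟨z, rfl⟩ := e.surjective w
      exact (he y z).mp (h z ((he z g).mpr hw))
    · intro h z hz
      exact (he y z).mpr (h (e z) ((he z g).mp hz))
  have hcard : Nat.card A = Nat.card B := by
    apply Nat.card_congr
    exact e.subtypeEquiv hAB
  have hgA : g ∈ A := by
    rw [memA]; intro z hz; exact hz.symm
  have hdvd : p * q ∣ Nat.card B := by
    rw [← hcard, ← hg]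
    have := Subgroup.orderOf_dvd_natCard A hgA
    exact this
  -- B is abelian
  have hBcomm : ∀ a b : H, a ∈ B → b ∈ B → Commute a b := by
    intro a b ha hb
    rw [memB] at ha hb
    exact ha b (hb (e g) (Commute.refl _))
  have : Fact p.Prime := ⟨hp⟩
  have : Fact q.Prime := ⟨hq⟩
  obtain ⟨a, ha⟩ := exists_prime_orderOf_dvd_card' (G := B) p (dvd_trans (dvd_mul_right p q) hdvd)
  obtain ⟨b, hb⟩ := exists_prime_orderOf_dvd_card' (G := B) q (dvd_trans (dvd_mul_left q p) hdvd)
  refine ⟨(a : H) * (b : H), ?_⟩
  have hcomm : Commute (a : H) (b : H) := hBcomm _ _ a.2 b.2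
  rw [hcomm.orderOf_mul_eq_mul_orderOf_of_coprime, Subgroup.orderOf_coe, Subgroup.orderOf_coe, ha, hb]
  rw [Subgroup.orderOf_coe, Subgroup.orderOf_coe, ha, hb]
  exact (Nat.coprime_primes hp hq).mpr hpq

/-- Let G and H be finite groups whose commuting graphs are isomorphic: there is a bijection e : G → H with x, y commuting exactly when e(x), e(y) commute. Then G and H have the same prime graph: for distinct primes p, q, G has an element of order pq if and only if H does (and #G = #H, so the prime divisors agree). -/
theorem result {G H : Type*} [Group G] [Finite G] [Group H] [Finite H] (e : G ≃ H)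
    (he : ∀ x y : G, Commute x y ↔ Commute (e x) (e y))
    {p q : ℕ} (hp : p.Prime) (hq : q.Prime) (hpq : p ≠ q) :
    (∃ g : G, orderOf g = p * q) ↔ (∃ h : H, orderOf h = p * q) := by
  refine ⟨aux e he hp hq hpq, aux e.symm ?_ hp hq hpq⟩
  intro x y
  rw [he, e.apply_symm_apply, e.apply_symm_apply]

end Cfsg.Agent.S4084
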