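import Cfsg.Statements.S4086
import Mathlib
import Cfsg.Agent.Lib.Helper21.Cyclic
-- import your own Cfsg.Agent.* helpers here

set_option autoImplicit false
open Cfsg

namespace Cfsg.Agent.S4086

open Cfsg.Agent.Lib.Helper21

/-- For a finite group G the following are equivalent: every non-identity element has prime-power order; whenever two elements generate a cyclic subgroup, one of them is a power of the other (the enhanced power graph of G coincides with its power graph). -/
theorem result {G : Type*} [Group G] [Finite G] :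
    (∀ g : G, g ≠ 1 → IsPrimePow (orderOf g)) ↔
    (∀ x y : G, IsCyclic ↥(Subgroup.closure ({x, y} : Set G)) → (x ∈ Subgroup.zpowers y ∨ y ∈ Subgroup.zpowers x)) := by
  constructor
  · intro h x y hcyc
    obtain ⟨z, hz⟩ := hcyc.exists_generator
    set g : G := (z : G) with hg
    have hmem : ∀ w : G, w ∈ Subgroup.closure ({x, y} : Set G) → w ∈ Subgroup.zpowers g := by
      intro w hw
      obtain ⟨k, hk⟩ := Subgroup.mem_zpowers_iff.mp (hz ⟨w, hw⟩)
      rw [Subgroup.mem_zpowers_iff]
      refine ⟨k, ?_⟩
      have := congrArg Subtype.val hk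
      simpa using this
    have hxg : x ∈ Subgroup.zpowers g := hmem x (Subgroup.subset_closure (by simp))
    have hyg : y ∈ Subgroup.zpowers g := hmem y (Subgroup.subset_closure (by simp))
    by_cases hg1 : g = 1
    · left
      rw [hg1, Subgroup.zpowers_one_eq_bot, Subgroup.mem_bot] at hxg
      rw [hxg]; exact one_mem _
    · obtain ⟨p, k, hp, hk, hpk⟩ := h g hg1
      have hp' : p.Prime := Nat.prime_iff.mpr hp
      have hxo : orderOf x ∣ p ^ k := by
        rw [hpk]; exact orderOf_dvd_of_mem_zpowers hxg
      have hyo : orderOf y ∣ p ^ k := by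
        rw [hpk]; exact orderOf_dvd_of_mem_zpowers hyg
      obtain ⟨i, _, hi⟩ := (Nat.dvd_prime_pow hp').mp hxo
      obtain ⟨j, _, hj⟩ := (Nat.dvd_prime_pow hp').mp hyo
      rcases le_total i j with hij | hij
      · left
        apply mem_zpowers_of_orderOf_dvd g x y hxg hyg
        rw [hi, hj]; exact pow_dvd_pow p hij
      · right
        apply mem_zpowers_of_orderOf_dvd g y x hyg hxg
        rw [hi, hj]; exact pow_dvd_pow p hij
  · intro h g hg1
    by_contra hnpp
    set n := orderOf g with hn
    have hnpos : 0 < n := orderOf_pos g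
    have hn1 : n ≠ 1 := by
      intro h1
      exact hg1 (orderOf_eq_one_iff.mp h1)
    rw [isPrimePow_iff_unique_prime_dvd] at hnpp
    have hp : n.minFac.Prime := Nat.minFac_prime hn1
    have hpn : n.minFac ∣ n := Nat.minFac_dvd n
    have : ∃ q : ℕ, q.Prime ∧ q ∣ n ∧ q ≠ n.minFac := by
      by_contra hcon
      push Not at hcon
      exact hnpp ⟨n.minFac, ⟨hp, hpn⟩, fun q hq => hcon q hq.1 hq.2⟩
    obtain ⟨q, hq, hqn, hqp⟩ := this
    set p := n.minFac with hpdef
    set x := g ^ (n / p) with hx
    set y := g ^ (n / q) with hy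
    have hox : orderOf x = p := orderOf_pow_orderOf_div hnpos.ne' hpn
    have hoy : orderOf y = q := orderOf_pow_orderOf_div hnpos.ne' hqn
    have hxg : x ∈ Subgroup.zpowers g := Subgroup.pow_mem _ (Subgroup.mem_zpowers g) _
    have hyg : y ∈ Subgroup.zpowers g := Subgroup.pow_mem _ (Subgroup.mem_zpowers g) _
    have hle : Subgroup.closure ({x, y} : Set G) ≤ Subgroup.zpowers g := by
      rw [Subgroup.closure_le]
      intro w hw
      rcases hw with rfl | rfl
      · exact hxg
      · exact hyg
    have hcyc : IsCyclic ↥(Subgroup.closure ({x, y} : Set G)) := Subgroup.isCyclic_of_le hle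
    rcases h x y hcyc with hxy | hyx
    · have := orderOf_dvd_of_mem_zpowers hxy
      rw [hox, hoy] at this
      exact hqp ((Nat.prime_dvd_prime_iff_eq hp hq).mp this).symm
    · have := orderOf_dvd_of_mem_zpowers hyx
      rw [hox, hoy] at this
      exact hqp ((Nat.prime_dvd_prime_iff_eq hq hp).mp this)

end Cfsg.Agent.S4086
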