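import Cfsg.Statements.S4089
import Cfsg.Agent.Lib.Helper9.Radical

set_option autoImplicit false
open Cfsg

namespace Cfsg.Agent.S4089

/-- Let G be a finite group, p a prime and H a p-subgroup of G. Then the set of elements g of G such that H is subnormal in the subgroup generated by H and g is the union of the normalizers N_G(R) over the subgroups R of G containing H with R = O_p(N_G(R)); and this set does not change when H is replaced by the intersection of all Sylow p-subgroups of G containing H. -/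
theorem result {G : Type*} [Group G] [Finite G] (p : ℕ) [Fact p.Prime]
    (H : Subgroup G) (hH : IsPGroup p H) :
    {g : G | ((H).subgroupOf (H ⊔ Subgroup.zpowers g)).IsSubnormal} =
      {g : G | ∃ R : Subgroup G, H ≤ R ∧ (Cfsg.pCore p (Subgroup.normalizer (R : Set G))).map (Subgroup.normalizer (R : Set G)).subtype = R ∧ g ∈ Subgroup.normalizer (R : Set G)} ∧
    ∀ g : G, (((H).subgroupOf (H ⊔ Subgroup.zpowers g)).IsSubnormal ↔
      (((sInf {K : Subgroup G | ∃ Q : Sylow p G, H ≤ (Q : Subgroup G) ∧ K = (Q : Subgroup G)})).subgroupOf ((sInf {K : Subgroup G | ∃ Q : Sylow p G, H ≤ (Q : Subgroup G) ∧ K = (Q : Subgroup G)}) ⊔ Subgroup.zpowers g)).IsSubnormal) := by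
  classical
  -- the main equivalence, for an arbitrary `p`-subgroup
  have main : ∀ H' : Subgroup G, IsPGroup p ↥H' → ∀ g : G,
      ((H').subgroupOf (H' ⊔ Subgroup.zpowers g)).IsSubnormal ↔
        ∃ R : Subgroup G, H' ≤ R ∧ (Cfsg.pCore p (Subgroup.normalizer (R : Set G))).map
          (Subgroup.normalizer (R : Set G)).subtype = R ∧ g ∈ Subgroup.normalizer (R : Set G) := by
    intro H' hH' g
    have hHX : H' ≤ H' ⊔ Subgroup.zpowers g := le_sup_left
    rw [Cfsg.Agent.Lib.Helper9.isSubnormal_subgroupOf_iff_le_pCoreOf hH' hHX]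
    constructor
    · intro hle
      obtain ⟨R, hR₀R, hRrad, hXR⟩ := Cfsg.Agent.Lib.Helper9.exists_radical_ge
        (X := H' ⊔ Subgroup.zpowers g)
        (Cfsg.Agent.Lib.Helper16.pCoreOf_isPGroup (p := p) (H' ⊔ Subgroup.zpowers g))
        (Cfsg.Agent.Lib.Helper16.le_normalizer_pCoreOf _)
      refine ⟨R, hle.trans hR₀R, hRrad, hXR ?_⟩
      exact Subgroup.mem_sup_right (Subgroup.mem_zpowers g)
    · rintro ⟨R, hHR, hRrad, hg⟩
      have hRp : IsPGroup p ↥R := by
        rw [← hRrad]; exact Cfsg.Agent.Lib.Helper16.pCoreOf_isPGroup (p := p) _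
      have hXN : H' ⊔ Subgroup.zpowers g ≤ Subgroup.normalizer (R : Set G) := by
        apply sup_le (hHR.trans Subgroup.le_normalizer)
        rw [Subgroup.zpowers_le]; exact hg
      have h1 : R ⊓ (H' ⊔ Subgroup.zpowers g) ≤ Cfsg.pCoreOf p (H' ⊔ Subgroup.zpowers g) := by
        apply Cfsg.Agent.Lib.Helper16.le_pCoreOf inf_le_right _ (hRp.to_le inf_le_left)
        intro x hx
        rw [Subgroup.mem_normalizer_iff]
        intro y
        have hxR := Subgroup.mem_normalizer_iff.mp (hXN hx) y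
        constructor
        · rintro ⟨hy1, hy2⟩
          exact ⟨hxR.mp hy1, Subgroup.mul_mem _ (Subgroup.mul_mem _ hx hy2) (Subgroup.inv_mem _ hx)⟩
        · rintro ⟨hy1, hy2⟩
          refine ⟨hxR.mpr hy1, ?_⟩
          have : y = x⁻¹ * (x * y * x⁻¹) * x := by group
          rw [this]
          exact Subgroup.mul_mem _ (Subgroup.mul_mem _ (Subgroup.inv_mem _ hx) hy2) hx
      exact (le_inf hHR hHX).trans h1
  constructor
  · ext g
    exact main H hH g
  · intro g
    set Hs := sInf {K : Subgroup G | ∃ Q : Sylow p G, H ≤ (Q : Subgroup G) ∧ K = (Q : Subgroup G)}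
      with hHs
    obtain ⟨Q₀, hQ₀⟩ := hH.exists_le_sylow
    have hHsp : IsPGroup p ↥Hs := Q₀.isPGroup'.to_le (sInf_le ⟨Q₀, hQ₀, rfl⟩)
    have hHHs : H ≤ Hs := by
      apply le_sInf
      rintro K ⟨Q, hQ, rfl⟩
      exact hQ
    rw [main H hH g, main Hs hHsp g]
    constructor
    · rintro ⟨R, hHR, hRrad, hg⟩
      refine ⟨R, ?_, hRrad, hg⟩
      refine le_trans ?_ (Cfsg.Agent.Lib.Helper9.sInf_sylow_le_of_radical (p := p) hRrad)
      apply sInf_le_sInf
      rintro K ⟨Q, hQ, rfl⟩
      exact ⟨Q, hHR.trans hQ, rfl⟩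
    · rintro ⟨R, hHR, hRrad, hg⟩
      exact ⟨R, hHHs.trans hHR, hRrad, hg⟩

end Cfsg.Agent.S4089
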