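import Cfsg.Statements.S4090
import Mathlib
import Cfsg.Agent.Lib.Helper4.Casolo9

set_option autoImplicit false
open scoped BigOperators
open Cfsg

namespace Cfsg.Agent.S4090


/-- Let G be a finite p-solvable group, H a p-subgroup of G and P a Sylow p-subgroup, and fix a chain of normal subgroups 1 = M₀ ≤ M₁ ≤ ⋯ ≤ Mₙ = G of G each of whose factors is a p-group or a p'-group. Then the number of elements g of G such that H is subnormal in the subgroup generated by H and g equals the order of P times the product, over the factors Mᵢ₊₁/Mᵢ of order prime to p, of the order of the centralizer of H in Mᵢ₊₁/Mᵢ (counted as the number of u ∈ Mᵢ₊₁ with [h, u] ∈ Mᵢ for all h ∈ H, divided by the order of Mᵢ). -/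
theorem result {G : Type*} [Group G] [Finite G] (p : ℕ) [Fact p.Prime]
    (hG : Cfsg.IsPSolvable p G) (H : Subgroup G) (hH : IsPGroup p H) (P : Sylow p G)
    (n : ℕ) (M : Fin (n + 1) → Subgroup G) (h0 : M 0 = ⊥) (hn : M (Fin.last n) = ⊤) (hmono : Monotone M)
    (hnormal : ∀ i, (M i).Normal)
    (hfac : ∀ i : Fin n, (∃ m : ℕ, (M i.castSucc).relIndex (M i.succ) = p ^ m) ∨ ((M i.castSucc).relIndex (M i.succ)).Coprime p) :
    Nat.card {g : G // ((H).subgroupOf (H ⊔ Subgroup.zpowers g)).IsSubnormal} =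
      Nat.card (P : Subgroup G) *
        ∏ i : Fin n, (if ((M i.castSucc).relIndex (M i.succ)).Coprime p then
          Nat.card {u : G // u ∈ M i.succ ∧ ∀ h ∈ H, h * u * h⁻¹ * u⁻¹ ∈ M i.castSucc} / Nat.card (M i.castSucc)
          else 1) := by
  have hlt : ∀ k : ℕ, min k n < n + 1 := fun k => Nat.lt_succ_of_le (min_le_right k n)
  obtain ⟨S, hS⟩ : ∃ S : ℕ → Subgroup G, S = fun k => M ⟨min k n, hlt k⟩ := ⟨_, rfl⟩
  have hSk : ∀ k, S k = M ⟨min k n, hlt k⟩ := fun k => by rw [hS]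
  have hSc : ∀ i : Fin n, S (i : ℕ) = M i.castSucc := by
    intro i
    rw [hSk]
    have : (⟨min (i : ℕ) n, hlt _⟩ : Fin (n + 1)) = i.castSucc :=
      Fin.ext (Nat.min_eq_left i.2.le)
    rw [this]
  have hSs : ∀ i : Fin n, S ((i : ℕ) + 1) = M i.succ := by
    intro i
    rw [hSk]
    have : (⟨min ((i : ℕ) + 1) n, hlt _⟩ : Fin (n + 1)) = i.succ :=
      Fin.ext (Nat.min_eq_left i.2)
    rw [this]
  have hSN : ∀ k, (S k).Normal := fun k => by rw [hSk]; exact hnormal _
  have hSmono : ∀ k, S k ≤ S (k + 1) := by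
    intro k
    rw [hSk, hSk]
    apply hmono
    show min k n ≤ min (k + 1) n
    exact min_le_min_right n (Nat.le_succ k)
  have hSfac : ∀ k < n, (∃ m : ℕ, (S k).relIndex (S (k + 1)) = p ^ m) ∨
      ((S k).relIndex (S (k + 1))).Coprime p := by
    intro k hk
    have h1 := hSc ⟨k, hk⟩
    have h2 := hSs ⟨k, hk⟩
    simp only at h1 h2
    rw [h1, h2]
    exact hfac ⟨k, hk⟩
  have hS0 : S 0 = ⊥ := by
    rw [hSk, ← h0]
    have : (⟨min 0 n, hlt _⟩ : Fin (n + 1)) = 0 := Fin.ext (Nat.zero_min n)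
    rw [this]
  have hSn : S n = ⊤ := by
    rw [hSk, ← hn]
    have : (⟨min n n, hlt _⟩ : Fin (n + 1)) = Fin.last n := Fin.ext (min_self n)
    rw [this]
  rw [Cfsg.Agent.Lib.Helper4.Casolo.casolo p hH P,
    ← Cfsg.Agent.Lib.Helper4.Casolo.card_X_b p H P,
    Cfsg.Agent.Lib.Helper4.Casolo.chain_formula p P hH S hSN hSmono n hSfac hS0 hSn]
  congr 1
  rw [← Fin.prod_univ_eq_prod_range]
  apply Finset.prod_congr rfl
  intro i _
  rw [hSc i, hSs i]
  rfl

end Cfsg.Agent.S4090
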