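import Cfsg.Statements.S4092
import Mathlib
import Cfsg.Agent.Lib.Helper21.SylowBasic
-- import your own Cfsg.Agent.* helpers here

set_option autoImplicit false
open Cfsg

namespace Cfsg.Agent.S4092

open Cfsg.Agent.Lib.Helper21
/-- Sunflower count: Sylow subgroups pairwise meeting in `D` contribute many `p`-elements. -/
theorem sunflower_count {G : Type*} [Group G] [Finite G] (p : ℕ) [Fact p.Prime]
    (T : Finset (Sylow p G)) (hT : T.Nonempty) (D : Subgroup G) (n : ℕ)
    (hcard : ∀ S ∈ T, Nat.card (S : Subgroup G) = n)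
    (hD : ∀ S ∈ T, D ≤ (S : Subgroup G))
    (hpair : ∀ S ∈ T, ∀ S' ∈ T, S ≠ S' → (S : Subgroup G) ⊓ (S' : Subgroup G) ≤ D) :
    Nat.card D + T.card * (n - Nat.card D) ≤ Nat.card {g : G // ∃ k : ℕ, orderOf g = p ^ k} := by
  classical
  have := Fintype.ofFinite G
  let Ufin : Finset G := Finset.univ.filter (fun g => ∃ k : ℕ, orderOf g = p ^ k)
  let Dfin : Finset G := Finset.univ.filter (fun g => g ∈ D)
  let A : Sylow p G → Finset G := fun S => (Finset.univ.filter (fun g => g ∈ (S : Subgroup G))) \ Dfin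
  have hU : Nat.card {g : G // ∃ k : ℕ, orderOf g = p ^ k} = Ufin.card := by
    rw [Nat.card_eq_fintype_card, Fintype.card_subtype]
  have hDc : Nat.card D = Dfin.card := by
    rw [Nat.card_eq_fintype_card, Fintype.card_subtype]
  have hSc : ∀ S : Sylow p G, Nat.card (S : Subgroup G) = (Finset.univ.filter (fun g => g ∈ (S : Subgroup G))).card := by
    intro S
    rw [Nat.card_eq_fintype_card, Fintype.card_subtype]
  have hAc : ∀ S ∈ T, (A S).card = n - Nat.card D := by
    intro S hS
    have hsub : Dfin ⊆ Finset.univ.filter (fun g => g ∈ (S : Subgroup G)) := by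
      intro g hg
      simp only [Dfin, Finset.mem_filter, Finset.mem_univ, true_and] at hg ⊢
      exact hD S hS hg
    rw [Finset.card_sdiff_of_subset hsub, ← hSc, hcard S hS, hDc]
  have hdisj : (T : Set (Sylow p G)).PairwiseDisjoint A := by
    intro S hS S' hS' hne
    rw [Function.onFun, Finset.disjoint_left]
    intro g hg hg'
    simp only [A, Dfin, Finset.mem_sdiff, Finset.mem_filter, Finset.mem_univ, true_and] at hg hg'
    exact hg.2 (hpair S hS S' hS' hne ⟨hg.1, hg'.1⟩)
  have hdisjD : Disjoint Dfin (T.biUnion A) := by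
    rw [Finset.disjoint_left]
    intro g hg hg'
    rw [Finset.mem_biUnion] at hg'
    obtain ⟨S, _, hgS⟩ := hg'
    simp only [A, Finset.mem_sdiff] at hgS
    exact hgS.2 hg
  have hsubU : Dfin ∪ T.biUnion A ⊆ Ufin := by
    intro g hg
    simp only [Ufin, Finset.mem_filter, Finset.mem_univ, true_and]
    rw [Finset.mem_union, Finset.mem_biUnion] at hg
    obtain ⟨S0, hS0⟩ := hT
    have hgS : ∃ S ∈ T, g ∈ (S : Subgroup G) := by
      rcases hg with hg | ⟨S, hS, hgS⟩
      · simp only [Dfin, Finset.mem_filter, Finset.mem_univ, true_and] at hg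
        exact ⟨S0, hS0, hD S0 hS0 hg⟩
      · simp only [A, Finset.mem_sdiff, Finset.mem_filter, Finset.mem_univ, true_and] at hgS
        exact ⟨S, hS, hgS.1⟩
    obtain ⟨S, _, hgS⟩ := hgS
    obtain ⟨k, hk⟩ := (IsPGroup.iff_orderOf.mp S.2) ⟨g, hgS⟩
    exact ⟨k, by rw [← hk, Subgroup.orderOf_mk]⟩
  rw [hU]
  refine le_trans ?_ (Finset.card_le_card hsubU)
  rw [Finset.card_union_of_disjoint hdisjD, Finset.card_biUnion hdisj, Finset.sum_congr rfl hAc,
    Finset.sum_const, smul_eq_mul, hDc]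

/-- Let G be a finite group, p a prime and P a Sylow p-subgroup of G that is not normal in G. Then G has at least p·#P elements of p-power order (the identity included). -/
theorem result {G : Type*} [Group G] [Finite G] (p : ℕ) [Fact p.Prime]
    (P : Sylow p G) (hP : ¬ (P : Subgroup G).Normal) :
    p * Nat.card (P : Subgroup G) ≤ Nat.card {g : G // ∃ k : ℕ, orderOf g = p ^ k} := by
  classical
  have hp : p.Prime := Fact.out
  have := Fintype.ofFinite (Sylow p G)
  -- two distinct Sylows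
  have hex : ∃ Q : Sylow p G, Q ≠ P := by
    by_contra hcon
    push Not at hcon
    have : Subsingleton (Sylow p G) := ⟨fun a b => (hcon a).trans (hcon b).symm⟩
    exact hP (Sylow.normal_of_subsingleton P)
  obtain ⟨Q0, hQ0⟩ := hex
  -- choose a pair with maximal intersection
  let s : Set (Sylow p G × Sylow p G) := {pr | pr.1 ≠ pr.2}
  have hsne : s.Nonempty := ⟨(Q0, P), hQ0⟩
  obtain ⟨⟨P₁, P₂⟩, hne, hmax⟩ := Set.exists_max_image s
    (fun pr => Nat.card ↥((pr.1 : Subgroup G) ⊓ (pr.2 : Subgroup G))) (Set.toFinite s) hsne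
  have hne' : P₁ ≠ P₂ := hne
  set D := (P₁ : Subgroup G) ⊓ (P₂ : Subgroup G) with hD
  set n := Nat.card (P : Subgroup G) with hn
  have hcardS : ∀ S : Sylow p G, Nat.card (S : Subgroup G) = n := by
    intro S; rw [hn, Sylow.card_eq_multiplicity, Sylow.card_eq_multiplicity]
  have hpair : ∀ S S' : Sylow p G, D ≤ (S : Subgroup G) → D ≤ (S' : Subgroup G) → S ≠ S' →
      (S : Subgroup G) ⊓ (S' : Subgroup G) ≤ D := by
    intro S S' hS hS' hSS'
    have hle : D ≤ (S : Subgroup G) ⊓ (S' : Subgroup G) := le_inf hS hS'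
    have hc : Nat.card ↥((S : Subgroup G) ⊓ (S' : Subgroup G)) ≤ Nat.card ↥D := hmax (S, S') hSS'
    have := Subgroup.eq_of_le_of_card_ge hle hc
    rw [this]
  have hDP₁ : D ≠ (P₁ : Subgroup G) := by
    intro h
    have hle : (P₁ : Subgroup G) ≤ (P₂ : Subgroup G) := by rw [← h]; exact inf_le_right
    exact hne' (Sylow.ext (P₁.is_maximal' P₂.2 hle).symm)
  obtain ⟨r, hrP, hrN, hrD⟩ := exists_mem_normalizer_not_mem' P₁.2 (inf_le_left : D ≤ _) hDP₁
  set R := (P₁ : Subgroup G) ⊓ Subgroup.normalizer (D : Set G) with hR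
  have hRp : IsPGroup p R := P₁.2.to_le inf_le_left
  have hrR : r ∈ R := ⟨hrP, hrN⟩
  let W' : SubMulAction ↥R (Sylow p G) :=
    { carrier := {S | D ≤ (S : Subgroup G)}
      smul_mem' := by
        intro t S hS d hd
        show d ∈ (((t : G) • S : Sylow p G) : Subgroup G)
        rw [mem_sylow_smul_iff']
        apply hS
        have htN : (t : G)⁻¹ ∈ Subgroup.normalizer (D : Set G) := Subgroup.inv_mem _ t.2.2
        have := (Subgroup.mem_normalizer_iff.mp htN d).mp hd
        simpa using this }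
  have hP₁W : P₁ ∈ W' := (inf_le_left : D ≤ _)
  have hP₂W : P₂ ∈ W' := (inf_le_right : D ≤ _)
  -- fixed points
  have hfix : ∀ x : ↥W', x ∈ MulAction.fixedPoints ↥R ↥W' → x = ⟨P₁, hP₁W⟩ := by
    intro x hx
    have h1 : (x : Sylow p G) ∈ MulAction.fixedPoints ↥R (Sylow p G) := by
      intro t
      have := hx t
      exact congrArg Subtype.val this
    rw [hRp.sylow_mem_fixedPoints_iff] at h1
    by_contra hxne
    have hxne' : (x : Sylow p G) ≠ P₁ := fun h => hxne (Subtype.ext h)
    have := hpair x P₁ x.2 (inf_le_left : D ≤ _) hxne' ⟨h1 hrR, hrP⟩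
    exact hrD this
  have hfixmem : (⟨P₁, hP₁W⟩ : ↥W') ∈ MulAction.fixedPoints ↥R ↥W' := by
    intro t
    apply Subtype.ext
    show (t : G) • P₁ = P₁
    rw [Sylow.smul_eq_iff_mem_normalizer]
    exact Subgroup.le_normalizer t.2.1
  have hfixcard : Nat.card (MulAction.fixedPoints ↥R ↥W') = 1 := by
    rw [Nat.card_eq_one_iff_unique]
    refine ⟨⟨fun a b => ?_⟩, ⟨⟨_, hfixmem⟩⟩⟩
    apply Subtype.ext
    rw [hfix a.1 a.2, hfix b.1 b.2]
  have hcong := hRp.card_modEq_card_fixedPoints (↥W')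
  rw [hfixcard] at hcong
  have hW2 : 2 ≤ Nat.card ↥W' := by
    have hnt : Nontrivial ↥W' := ⟨⟨⟨P₁, hP₁W⟩, ⟨P₂, hP₂W⟩, fun h => hne' (congrArg Subtype.val h)⟩⟩
    exact Finite.one_lt_card_iff_nontrivial.mpr hnt
  have hWp : p + 1 ≤ Nat.card ↥W' := by
    have h1 : Nat.card ↥W' % p = 1 % p := hcong
    have h2 : 1 % p = 1 := Nat.mod_eq_of_lt hp.one_lt
    rw [h2] at h1
    have h3 := Nat.div_add_mod (Nat.card ↥W') p
    rw [h1] at h3
    generalize Nat.card ↥W' / p = q at h3
    have h4 : 1 ≤ q := by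
      by_contra h5
      have hq0 : q = 0 := by omega
      rw [hq0] at h3
      omega
    have : p * 1 ≤ p * q := Nat.mul_le_mul_left p h4
    omega
  -- the finset of Sylows containing D
  let T : Finset (Sylow p G) := Finset.univ.filter (fun S => D ≤ (S : Subgroup G))
  have hTcard : T.card = Nat.card ↥W' := by
    rw [Nat.card_eq_fintype_card, ← Fintype.card_subtype]
    rfl
  have hTne : T.Nonempty := ⟨P₁, by simp only [T, Finset.mem_filter, Finset.mem_univ, true_and]; exact inf_le_left⟩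
  have hcount := sunflower_count p T hTne D n (fun S _ => hcardS S)
    (fun S hS => by simpa only [T, Finset.mem_filter, Finset.mem_univ, true_and] using hS)
    (fun S hS S' hS' hSS' => hpair S S'
      (by simpa only [T, Finset.mem_filter, Finset.mem_univ, true_and] using hS)
      (by simpa only [T, Finset.mem_filter, Finset.mem_univ, true_and] using hS') hSS')
  -- arithmetic
  have hDn : p * Nat.card ↥D ≤ n := by
    obtain ⟨a, ha⟩ := IsPGroup.iff_card.mp P₁.2
    obtain ⟨b, hb⟩ := IsPGroup.iff_card.mp (P₁.2.to_le (inf_le_left : D ≤ _))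
    rw [hcardS P₁] at ha
    have hlt : Nat.card ↥D < n := by
      rw [← hcardS P₁]
      by_contra hge
      rw [not_lt] at hge
      exact hDP₁ (Subgroup.eq_of_le_of_card_ge inf_le_left hge)
    rw [ha, hb] at hlt ⊢
    have hba : b < a := (Nat.pow_lt_pow_iff_right hp.one_lt).mp hlt
    calc p * p ^ b = p ^ (b + 1) := by rw [pow_succ, mul_comm]
      _ ≤ p ^ a := Nat.pow_le_pow_right hp.pos hba
  refine le_trans ?_ hcount
  rw [hTcard]
  have hdn : Nat.card ↥D ≤ n := le_trans (Nat.le_mul_of_pos_left _ hp.pos) hDn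
  obtain ⟨m, hm⟩ : ∃ m, n = Nat.card ↥D + m := ⟨n - Nat.card ↥D, by omega⟩
  have hm' : n - Nat.card ↥D = m := by omega
  rw [hm']
  have h1 : (p + 1) * m ≤ Nat.card ↥W' * m := Nat.mul_le_mul_right m hWp
  rw [hm] at hDn ⊢
  nlinarith

end Cfsg.Agent.S4092
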