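import Cfsg.Statements.S4093
import Mathlib
import Cfsg.Agent.Lib.Helper1.Transport
-- import your own Cfsg.Agent.* helpers here

set_option autoImplicit false
open scoped BigOperators
open Cfsg

namespace Cfsg.Agent.S4093

open Subgroup Pointwise
open Cfsg.Agent.Lib.Helper1

/-- the set of `N`-conjugates of `x` -/
def conjSet {G : Type*} [Group G] (N : Subgroup G) (x : G) : Set G :=
  {g | ∃ n ∈ N, g = n * x * n⁻¹}

lemma card_conjSet {G : Type*} [Group G] [Finite G] (N : Subgroup G) (x : G) :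
    Nat.card (conjSet N x) = Nat.card N / Nat.card ↥(N ⊓ Subgroup.centralizer ({x} : Set G)) := by
  let _ : MulAction N G := MulAction.compHom G ((MulAut.conj : G →* MulAut G).comp N.subtype)
  have hsmul : ∀ (n : N) (g : G), n • g = (n : G) * g * (n : G)⁻¹ := fun n g => rfl
  have horb : MulAction.orbit N x = conjSet N x := by
    ext g
    rw [MulAction.mem_orbit_iff]
    constructor
    · rintro ⟨n, rfl⟩
      exact ⟨n, n.2, hsmul n x⟩
    · rintro ⟨n, hn, rfl⟩
      exact ⟨⟨n, hn⟩, hsmul _ x⟩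
  have hstab : MulAction.stabilizer N x = (N ⊓ Subgroup.centralizer ({x} : Set G)).subgroupOf N := by
    ext n
    rw [MulAction.mem_stabilizer_iff, mem_subgroupOf, hsmul, Subgroup.mem_inf,
      Subgroup.mem_centralizer_singleton_iff]
    constructor
    · intro h
      exact ⟨n.2, mul_inv_eq_iff_eq_mul.mp h⟩
    · rintro ⟨-, h⟩
      rw [h]; group
  have h1 := MulAction.index_stabilizer N x
  rw [horb, hstab] at h1
  have h2 := Subgroup.card_mul_index ((N ⊓ Subgroup.centralizer ({x} : Set G)).subgroupOf N)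
  rw [Nat.card_congr (subgroupOfEquivOfLe (inf_le_left : N ⊓ Subgroup.centralizer ({x} : Set G) ≤ N)).toEquiv] at h2
  rw [Nat.card_coe_set_eq, ← h1]
  exact (Nat.div_eq_of_eq_mul_right Nat.card_pos h2.symm).symm


/-- Let G be a finite group with a normal subgroup N complementing a Sylow p-subgroup P (a normal p-complement). Then the number of elements of G of p-power order equals the sum over x ∈ P of the index of C_N(x) in N. -/
theorem result {G : Type*} [Group G] [Finite G] (p : ℕ) [Fact p.Prime]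
    (P : Sylow p G) (N : Subgroup G) [N.Normal] (hNP : N.IsComplement' (P : Subgroup G)) :
    Nat.card {g : G // ∃ k : ℕ, orderOf g = p ^ k} =
      ∑ᶠ x : (P : Subgroup G), Nat.card N / Nat.card ↥(N ⊓ Subgroup.centralizer ({(x : G)} : Set G)) := by
  classical
  have : Fintype (P : Subgroup G) := Fintype.ofFinite _
  have hP : ∀ x : (P : Subgroup G), ∀ g ∈ conjSet N (x : G), ∃ k : ℕ, orderOf g = p ^ k := by
    rintro x g ⟨n, hn, rfl⟩
    have h1 : orderOf (n * (x : G) * n⁻¹) = orderOf (x : G) := by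
      have := MulEquiv.orderOf_eq (MulAut.conj n) (x : G)
      simpa using this
    rw [h1, Subgroup.orderOf_coe]
    obtain ⟨k, hk⟩ := P.2 x
    have h2 : orderOf x ∣ p ^ k := orderOf_dvd_of_pow_eq_one hk
    obtain ⟨j, -, hj⟩ := (Nat.dvd_prime_pow Fact.out).mp h2
    exact ⟨j, hj⟩
  have hbij : Function.Bijective
      (fun z : (Σ x : (P : Subgroup G), conjSet N (x : G)) =>
        (⟨z.2.1, hP z.1 z.2.1 z.2.2⟩ : {g : G // ∃ k : ℕ, orderOf g = p ^ k})) := by
    constructor
    · rintro ⟨x, g, hg⟩ ⟨x', g', hg'⟩ h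
      have hgg : g = g' := congrArg Subtype.val h
      subst hgg
      obtain ⟨n, hn, h1⟩ := hg
      obtain ⟨m, hm, h2⟩ := hg'
      have hxx : x = x' := by
        have h3 : (x' : G) = (m⁻¹ * n) * x * (m⁻¹ * n)⁻¹ := by
          have : (x' : G) = m⁻¹ * g * m := by rw [h2]; group
          rw [this, h1]; group
        have hc : m⁻¹ * n ∈ N := mul_mem (inv_mem hm) hn
        have h4 : (x' : G) * (x : G)⁻¹ ∈ N := by
          have : (x' : G) * (x : G)⁻¹ = (m⁻¹ * n) * ((x : G) * (m⁻¹ * n)⁻¹ * (x : G)⁻¹) := by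
            rw [h3]; group
          rw [this]
          exact mul_mem hc (‹N.Normal›.conj_mem _ (inv_mem hc) _)
        have h5 : (x' : G) * (x : G)⁻¹ ∈ (P : Subgroup G) := mul_mem x'.2 (inv_mem x.2)
        have h6 := Subgroup.disjoint_def.mp hNP.disjoint h4 h5
        apply Subtype.ext
        exact (mul_inv_eq_one.mp h6).symm
      subst hxx
      rfl
    · rintro ⟨g, k, hk⟩
      have hT : IsPGroup p (zpowers g) := IsPGroup.of_card (n := k) (by rw [Nat.card_zpowers, hk])
      obtain ⟨Q, hQ⟩ := hT.exists_le_sylow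
      obtain ⟨a, ha⟩ := MulAction.exists_smul_eq G Q P
      have hgQ : g ∈ (Q : Subgroup G) := hQ (mem_zpowers g)
      have hgP : a * g * a⁻¹ ∈ (P : Subgroup G) := by
        rw [← ha, mem_sylow_smul_iff]
        have : a⁻¹ * (a * g * a⁻¹) * a = g := by group
        rw [this]; exact hgQ
      obtain ⟨n, hn, u, hu, hnu⟩ := IsComplement'.exists_mul_eq hNP a⁻¹
      have ha' : a = u⁻¹ * n⁻¹ := by
        have : a⁻¹⁻¹ = (n * u)⁻¹ := by rw [hnu]
        rw [inv_inv, mul_inv_rev] at this
        exact this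
      have hxP : n⁻¹ * g * n ∈ (P : Subgroup G) := by
        have : n⁻¹ * g * n = u * (a * g * a⁻¹) * u⁻¹ := by rw [ha']; group
        rw [this]
        exact mul_mem (mul_mem hu hgP) (inv_mem hu)
      refine ⟨⟨⟨n⁻¹ * g * n, hxP⟩, g, n, hn, ?_⟩, rfl⟩
      show g = n * (n⁻¹ * g * n) * n⁻¹
      group
  rw [← Nat.card_congr (Equiv.ofBijective _ hbij), Nat.card_sigma, finsum_eq_sum_of_fintype]
  apply Finset.sum_congr rfl
  intro x _
  exact card_conjSet N (x : G)

end Cfsg.Agent.S4093
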