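import Cfsg.Statements.S4097
import Cfsg.Agent.Lib.Helper21.TwoFrobA
import Cfsg.Agent.Lib.Helper8.SupNormalizer

set_option autoImplicit false
open Cfsg

namespace Cfsg.Agent.S4097


open scoped Pointwise

universe u

/-- Lemma L: if `A` lies in an abelian normal subgroup then `A` is central. -/
theorem central_of_normal_abelian {G : Type*} [Group G] (A : Subgroup G)
    (hc : ∀ S : Subgroup G, A ≤ S → Group.IsSolvable S → ∀ a ∈ A, ∀ s ∈ S, a * s = s * a)
    (B : Subgroup G) [B.Normal] (hB : ∀ x ∈ B, ∀ y ∈ B, x * y = y * x) (hAB : A ≤ B) :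
    A ≤ Subgroup.center G := by
  intro a ha
  rw [Subgroup.mem_center_iff]
  intro g
  have hBs : Group.IsSolvable B :=
    Group.isSolvable_of_comm (fun x y => Subtype.ext (hB x x.2 y y.2))
  have hZs : Group.IsSolvable (Subgroup.zpowers g) :=
    Group.isSolvable_of_comm (fun x y => by
      obtain ⟨i, hi⟩ := Subgroup.mem_zpowers_iff.mp x.2
      obtain ⟨j, hj⟩ := Subgroup.mem_zpowers_iff.mp y.2
      apply Subtype.ext
      show (x : G) * (y : G) = (y : G) * (x : G)
      rw [← hi, ← hj, ← zpow_add, ← zpow_add, add_comm])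
  have hS : Group.IsSolvable ↥(B ⊔ Subgroup.zpowers g) :=
    Cfsg.Agent.Lib.Helper8.isSolvable_sup_of_le_normalizer hBs hZs
      (by rw [Subgroup.normalizer_eq_top]; exact le_top)
  exact (hc _ (le_trans hAB le_sup_left) hS a ha g
    ((le_sup_right : Subgroup.zpowers g ≤ B ⊔ Subgroup.zpowers g) (Subgroup.mem_zpowers g))).symm

theorem aux : ∀ (n : ℕ) (G : Type u) [Group G] [Finite G], Nat.card G = n → ∀ (A : Subgroup G),
    Group.IsSolvable A →
    (∀ S : Subgroup G, A ≤ S → Group.IsSolvable S → ∀ a ∈ A, ∀ s ∈ S, a * s = s * a) →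
    A ≤ Subgroup.center G := by
  intro n
  induction n using Nat.strong_induction_on with
  | _ n IH =>
  intro G _ _ hn A hA hc
  by_contra hnot
  have hAab : ∀ x ∈ A, ∀ y ∈ A, x * y = y * x := fun x hx y hy => hc A le_rfl hA x hx y hy
  set C : Subgroup G := Subgroup.centralizer (A : Set G) with hC
  have hAC : A ≤ C := fun a ha => Subgroup.mem_centralizer_iff.mpr (fun b hb => hAab b hb a ha)
  have hCtop : C ≠ ⊤ := by
    intro h
    apply hnot
    intro a ha
    rw [Subgroup.mem_center_iff]
    intro g
    have hg : g ∈ C := h ▸ Subgroup.mem_top g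
    exact (Subgroup.mem_centralizer_iff.mp hg a ha).symm
  -- proper overgroups of `A` centralize `A`
  have hprop : ∀ H : Subgroup G, A ≤ H → H ≠ ⊤ → H ≤ C := by
    intro H hAH hH
    have hcard : Nat.card H < n := by
      rw [← hn]
      exact lt_of_le_of_ne (Subgroup.card_le_card_group H)
        (fun h => hH ((Subgroup.card_eq_iff_eq_top H).mp h))
    have hsolv : Group.IsSolvable (A.subgroupOf H) :=
      Group.isSolvable_of_isSolvable_injective (f := (Subgroup.subgroupOfEquivOfLe hAH).toMonoidHom)
        (Subgroup.subgroupOfEquivOfLe hAH).injective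
    have key := IH _ hcard H rfl (A.subgroupOf H) hsolv (by
      intro S' hAS' hS' a ha s hs
      have hsolvS : Group.IsSolvable (S'.map H.subtype) :=
        Group.isSolvable_of_surjective (f := (S'.equivMapOfInjective H.subtype H.subtype_injective).toMonoidHom)
          (S'.equivMapOfInjective H.subtype H.subtype_injective).surjective
      have hAS : A ≤ S'.map H.subtype := by
        intro x hx
        exact ⟨⟨x, hAH hx⟩, hAS' (Subgroup.mem_subgroupOf.mpr hx), rfl⟩
      have := hc _ hAS hsolvS (a : G) (Subgroup.mem_subgroupOf.mp ha) (s : G) ⟨s, hs, rfl⟩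
      exact Subtype.ext this)
    intro h hh
    rw [Subgroup.mem_centralizer_iff]
    intro a ha
    have ha' : (⟨a, hAH ha⟩ : H) ∈ A.subgroupOf H := Subgroup.mem_subgroupOf.mpr ha
    have h1 := Subgroup.mem_center_iff.mp (key ha') ⟨h, hh⟩
    have h2 := congrArg Subtype.val h1
    exact h2.symm
  -- the centre is trivial
  have hZ : Subgroup.center G = ⊥ := by
    by_contra hZne
    apply hnot
    set Z := Subgroup.center G with hZdef
    have hcardQ : Nat.card (G ⧸ Z) < n := by
      rw [← hn, ← Subgroup.index_eq_card, ← Subgroup.card_mul_index Z]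
      have h1 : 1 < Nat.card Z := (Subgroup.one_lt_card_iff_ne_bot Z).mpr hZne
      have h2 : 0 < Z.index := Nat.pos_of_ne_zero Subgroup.index_ne_zero_of_finite
      nlinarith
    have hsolvQ : Group.IsSolvable (A.map (QuotientGroup.mk' Z)) :=
      Group.isSolvable_of_surjective (f := (QuotientGroup.mk' Z).subgroupMap A)
        ((QuotientGroup.mk' Z).subgroupMap_surjective A)
    have key := IH _ hcardQ (G ⧸ Z) rfl (A.map (QuotientGroup.mk' Z)) hsolvQ (by
      intro Sb hASb hSb a ha s hs
      obtain ⟨a, haA, rfl⟩ := ha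
      obtain ⟨s, rfl⟩ := QuotientGroup.mk'_surjective Z s
      set S : Subgroup G := Sb.comap (QuotientGroup.mk' Z) with hSdef
      have hAS : A ≤ S := fun x hx => hASb ⟨x, hx, rfl⟩
      have hsS : s ∈ S := hs
      have hsolvS : Group.IsSolvable S := by
        have hZS : Group.IsSolvable (Z.subgroupOf S) :=
          Group.isSolvable_of_comm (fun x y => by
            apply Subtype.ext
            apply Subtype.ext
            have hx : (x : G) ∈ Z := Subgroup.mem_subgroupOf.mp x.2
            exact (Subgroup.mem_center_iff.mp hx (y : G)).symm)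
        refine Group.isSolvable_of_ker_le_range (Z.subgroupOf S).subtype
          ((QuotientGroup.mk' Z).subgroupComap Sb) ?_
        intro x hx
        rw [MonoidHom.mem_ker] at hx
        have h1 : (QuotientGroup.mk' Z) (x : G) = 1 := congrArg Subtype.val hx
        rw [Subgroup.range_subtype, Subgroup.mem_subgroupOf]
        rw [← QuotientGroup.ker_mk' Z, MonoidHom.mem_ker]
        exact h1
      have := hc S hAS hsolvS a haA s hsS
      rw [← map_mul, ← map_mul, this])
    -- `B = A Z` is an abelian normal subgroup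
    have hAn : (A.map (QuotientGroup.mk' Z)).Normal := by
      refine ⟨fun x hx g => ?_⟩
      have := Subgroup.mem_center_iff.mp (key hx) g
      rw [this, mul_inv_cancel_right]
      exact hx
    set B : Subgroup G := (A.map (QuotientGroup.mk' Z)).comap (QuotientGroup.mk' Z) with hBdef
    have : B.Normal := hAn.comap _
    have hBmem : ∀ x ∈ B, ∃ a ∈ A, ∃ z ∈ Z, x = a * z := by
      intro x hx
      obtain ⟨a, haA, hax⟩ := hx
      refine ⟨a, haA, a⁻¹ * x, ?_, by group⟩
      have := (QuotientGroup.eq (s := Z)).mp hax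
      exact this
    refine central_of_normal_abelian A hc B ?_ (fun x hx => ⟨x, hx, rfl⟩)
    intro x hx y hy
    obtain ⟨a, haA, z, hz, rfl⟩ := hBmem x hx
    obtain ⟨b, hbA, w, hw, rfl⟩ := hBmem y hy
    have hz' := Subgroup.mem_center_iff.mp hz
    have hw' := Subgroup.mem_center_iff.mp hw
    have hab := hAab a haA b hbA
    calc a * z * (b * w) = a * (z * (b * w)) := by group
      _ = a * ((b * w) * z) := by rw [← hz' (b * w)]
      _ = (a * b) * w * z := by group
      _ = (b * a) * w * z := by rw [hab]
      _ = b * (a * w) * z := by group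
      _ = b * (w * a) * z := by rw [hw' a]
      _ = b * w * (a * z) := by group
  -- `C` is self-normalizing
  have hNC : Subgroup.normalizer (C : Set G) ≤ C := by
    by_cases hN : Subgroup.normalizer (C : Set G) = ⊤
    · exfalso
      have : C.Normal := Subgroup.normalizer_eq_top_iff.mp hN
      apply hnot
      refine central_of_normal_abelian A hc ((Subgroup.center C).map C.subtype) ?_ ?_
      · rintro _ ⟨x, hx, rfl⟩ _ ⟨y, hy, rfl⟩
        have := Subgroup.mem_center_iff.mp hx y
        exact (congrArg Subtype.val this).symm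
      · intro a ha
        refine ⟨⟨a, hAC ha⟩, ?_, rfl⟩
        show (⟨a, hAC ha⟩ : C) ∈ Subgroup.center C
        rw [Subgroup.mem_center_iff]
        intro c
        apply Subtype.ext
        exact (Subgroup.mem_centralizer_iff.mp c.2 a ha).symm
    · exact hprop _ (le_trans hAC Subgroup.le_normalizer) hN
  -- two conjugates of `A` generate `G`
  have hgen : ∀ g : G, g ∉ C → A ⊔ (MulAut.conj g • A) = ⊤ := by
    intro g hg
    by_contra hne
    have h1 : A ⊔ (MulAut.conj g • A) ≤ C := hprop _ le_sup_left hne
    have h2 : MulAut.conj g • A ≤ C := le_trans le_sup_right h1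
    have h3 : A ≤ MulAut.conj g⁻¹ • C := by
      intro a ha
      rw [Cfsg.Agent.Lib.Helper18.mem_conj_smul_iff, inv_inv]
      apply h2
      rw [Cfsg.Agent.Lib.Helper18.mem_conj_smul_iff]
      have e : g⁻¹ * (g * a * g⁻¹) * g = a := by group
      rw [e]; exact ha
    have h4 : MulAut.conj g⁻¹ • C ≠ ⊤ := by
      intro h
      apply hCtop
      rw [eq_top_iff]
      intro x _
      have hx : g⁻¹ * x * g ∈ MulAut.conj g⁻¹ • C := h ▸ Subgroup.mem_top _
      rw [Cfsg.Agent.Lib.Helper18.mem_conj_smul_iff, inv_inv] at hx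
      have e : g * (g⁻¹ * x * g) * g⁻¹ = x := by group
      rwa [e] at hx
    have h5 : MulAut.conj g⁻¹ • C ≤ C := hprop _ h3 h4
    have h6 : g⁻¹ ∈ Subgroup.normalizer (C : Set G) := by
      apply Cfsg.Agent.Lib.Helper1.mem_normalizer_of_forall_conj_mem
      intro x hx
      apply h5
      rw [Cfsg.Agent.Lib.Helper18.mem_conj_smul_iff, inv_inv]
      have e : g * (g⁻¹ * x * g) * g⁻¹ = x := by group
      rw [e]; exact hx
    exact hg (inv_inv g ▸ C.inv_mem (hNC h6))
  -- `C` is a Frobenius complement
  have hAne : A ≠ ⊥ := by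
    intro h
    apply hnot
    rw [h]; exact bot_le
  have hFrob : Cfsg.IsFrobeniusComplement C := by
    refine ⟨?_, hCtop, ?_⟩
    · intro h
      apply hAne
      rw [eq_bot_iff, ← h]; exact hAC
    · intro g hg
      rw [eq_bot_iff]
      intro z hz
      obtain ⟨hz1, hz2⟩ := Subgroup.mem_inf.mp hz
      rw [Cfsg.Agent.Lib.Helper18.mem_conj_smul_iff] at hz2
      rw [Subgroup.mem_bot]
      have hzc : z ∈ Subgroup.center G := by
        have hle : A ⊔ (MulAut.conj g • A) ≤ Subgroup.centralizer ({z} : Set G) := by
          apply sup_le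
          · intro a ha
            rw [Subgroup.mem_centralizer_singleton_iff]
            exact Subgroup.mem_centralizer_iff.mp hz1 a ha
          · intro x hx
            rw [Cfsg.Agent.Lib.Helper18.mem_conj_smul_iff] at hx
            rw [Subgroup.mem_centralizer_singleton_iff]
            have h := Subgroup.mem_centralizer_iff.mp hz2 _ hx
            calc x * z = g * ((g⁻¹ * x * g) * (g⁻¹ * z * g)) * g⁻¹ := by group
              _ = g * ((g⁻¹ * z * g) * (g⁻¹ * x * g)) * g⁻¹ := by rw [h]
              _ = z * x := by group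
        rw [hgen g hg] at hle
        rw [Subgroup.mem_center_iff]
        intro y
        have hy := hle (Subgroup.mem_top y)
        rw [Subgroup.mem_centralizer_singleton_iff] at hy
        exact hy
      rw [hZ] at hzc
      exact Subgroup.mem_bot.mp hzc
  obtain ⟨K, hK, -⟩ := Cfsg.Agent.CharLib.frob_setup C hFrob
  obtain ⟨hKn, hcomp, hKne, -, -, hKnil⟩ :=
    Cfsg.Agent.Lib.Helper21.TwoFrob.frob_facts C K hFrob hK.symm
  have := hKn
  have hKs : Group.IsSolvable K := inferInstance
  have hS : Group.IsSolvable ↥(K ⊔ A) :=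
    Cfsg.Agent.Lib.Helper8.isSolvable_sup_of_le_normalizer hKs hA
      (by rw [Subgroup.normalizer_eq_top]; exact le_top)
  have hKC : K ≤ C := by
    intro k hk
    rw [Subgroup.mem_centralizer_iff]
    intro a ha
    exact hc _ le_sup_right hS a ha k ((le_sup_left : K ≤ K ⊔ A) hk)
  apply hKne
  have hdisj := hcomp.disjoint
  rw [eq_bot_iff]
  intro k hk
  have := hdisj.le_bot (Subgroup.mem_inf.mpr ⟨hk, hKC hk⟩)
  exact this

/-- Let A be a solvable subgroup of a finite group G such that A lies in the centre of every solvable subgroup of G containing A. Then A lies in the centre of G. -/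
theorem result {G : Type*} [Group G] [Finite G]
    (A : Subgroup G) (hA : Group.IsSolvable A)
    (hc : ∀ S : Subgroup G, A ≤ S → Group.IsSolvable S → ∀ a ∈ A, ∀ s ∈ S, a * s = s * a) : A ≤ Subgroup.center G := by
  exact aux _ G rfl A hA hc

end Cfsg.Agent.S4097
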