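import Cfsg.Statements.S4106
import Mathlib
import Cfsg.Agent.Lib.Helper21.Frobenius
import Cfsg.Agent.Lib.Helper21.SylowBasic
-- import your own Cfsg.Agent.* helpers here

set_option autoImplicit false
open Cfsg

namespace Cfsg.Agent.S4106

open Cfsg.Agent.Lib.Helper21
open scoped Classical

universe u

/-- the `π`-part of `n` -/
noncomputable def piPart (π : Set ℕ) (n : ℕ) : ℕ :=
  (n.factorization.filter (· ∈ π)).prod (fun q k => q ^ k)

theorem piPart_factorization (π : Set ℕ) (n : ℕ) :
    (piPart π n).factorization = n.factorization.filter (· ∈ π) := by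
  apply Nat.prod_pow_factorization_eq_self
  intro q hq
  have hq' : q ∈ n.factorization.support := by
    rw [Finsupp.support_filter] at hq
    exact (Finset.mem_filter.mp hq).1
  exact Nat.prime_of_mem_primeFactors (by simpa using hq')

theorem piPart_ne_zero (π : Set ℕ) (n : ℕ) : piPart π n ≠ 0 := by
  unfold piPart
  rw [Finsupp.prod_ne_zero_iff]
  intro q hq
  have hq' : q ∈ n.factorization.support := by
    rw [Finsupp.support_filter] at hq
    exact (Finset.mem_filter.mp hq).1
  have : q.Prime := Nat.prime_of_mem_primeFactors (by simpa using hq')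
  exact pow_ne_zero _ this.ne_zero

theorem piPart_le_of_dvd (π : Set ℕ) {a b : ℕ} (hab : a ∣ b) (hb : b ≠ 0) : piPart π a ≤ piPart π b := by
  have ha : a ≠ 0 := fun h => hb (by rw [h] at hab; exact Nat.eq_zero_of_zero_dvd hab)
  apply Nat.le_of_dvd (Nat.pos_of_ne_zero (piPart_ne_zero π b))
  rw [← Nat.factorization_le_iff_dvd (piPart_ne_zero π a) (piPart_ne_zero π b),
    piPart_factorization, piPart_factorization]
  intro q
  rw [Finsupp.filter_apply, Finsupp.filter_apply]
  split_ifs
  · exact (Nat.factorization_le_iff_dvd ha hb).mpr hab q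
  · exact le_rfl

theorem piPart_split (π : Set ℕ) (n p : ℕ) (hp : p.Prime) (hpπ : p ∈ π) :
    piPart π n = p ^ n.factorization p * piPart (π \ {p}) n := by
  apply Nat.eq_of_factorization_eq (piPart_ne_zero π n)
    (mul_ne_zero (pow_ne_zero _ hp.ne_zero) (piPart_ne_zero _ n))
  intro q
  rw [Nat.factorization_mul (pow_ne_zero _ hp.ne_zero) (piPart_ne_zero _ n), piPart_factorization,
    piPart_factorization, hp.factorization_pow, Finsupp.add_apply, Finsupp.filter_apply,
    Finsupp.filter_apply, Finsupp.single_apply]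
  by_cases hqp : p = q
  · subst hqp
    simp [hpπ]
  · have hqp' : q ≠ p := fun h => hqp h.symm
    simp [hqp, hqp']

theorem eq_piPart (π : Set ℕ) (n m : ℕ) (hn : n ≠ 0) (hm : m ∣ n)
    (hmπ : ∀ q : ℕ, q.Prime → q ∣ m → q ∈ π) (hm' : ∀ q ∈ π, ¬ q ∣ n / m) : m = piPart π n := by
  have hm0 : m ≠ 0 := fun h => hn (by rw [h] at hm; exact Nat.eq_zero_of_zero_dvd hm)
  have hnm : m * (n / m) = n := Nat.mul_div_cancel' hm
  have hnm0 : n / m ≠ 0 := fun h => hn (by rw [← hnm, h, mul_zero])
  apply Nat.eq_of_factorization_eq hm0 (piPart_ne_zero π n)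
  intro q
  rw [piPart_factorization, Finsupp.filter_apply]
  by_cases hq : q.Prime
  · split_ifs with hqπ
    · have h1 : n.factorization q = m.factorization q + (n / m).factorization q := by
        conv_lhs => rw [← hnm]
        rw [Nat.factorization_mul hm0 hnm0, Finsupp.add_apply]
      rw [h1, Nat.factorization_eq_zero_of_not_dvd (hm' q hqπ), add_zero]
    · apply Nat.factorization_eq_zero_of_not_dvd
      intro hd
      exact hqπ (hmπ q hq hd)
  · rw [Nat.factorization_eq_zero_of_not_prime _ hq, Nat.factorization_eq_zero_of_not_prime _ hq]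
    simp

/-- a conjugacy class of `π`-elements -/
def IsPiClass {X : Type*} [Group X] (π : Set ℕ) (C : ConjClasses X) : Prop :=
  ∀ q : ℕ, q.Prime → (∃ g : X, ConjClasses.mk g = C ∧ q ∣ orderOf g) → q ∈ π

theorem orderOf_eq_of_mk_eq {X : Type*} [Group X] {g g' : X}
    (h : ConjClasses.mk g' = ConjClasses.mk g) : orderOf g' = orderOf g := by
  rw [ConjClasses.mk_eq_mk_iff_isConj, isConj_iff] at h
  obtain ⟨c, hc⟩ := h
  rw [← hc]
  exact ((MulAut.conj c).orderOf_eq g').symm

theorem isPiClass_mk {X : Type*} [Group X] (π : Set ℕ) (g : X)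
    (hg : ∀ q : ℕ, q.Prime → q ∣ orderOf g → q ∈ π) : IsPiClass π (ConjClasses.mk g) := by
  rintro q hq ⟨g', hg', hqg'⟩
  rw [orderOf_eq_of_mk_eq hg'] at hqg'
  exact hg q hq hqg'

theorem exists_rep_of_isPiClass {X : Type*} [Group X] (π : Set ℕ) (C : ConjClasses X)
    (hC : IsPiClass π C) : ∃ g : X, ConjClasses.mk g = C ∧ ∀ q : ℕ, q.Prime → q ∣ orderOf g → q ∈ π := by
  obtain ⟨g, hg⟩ := ConjClasses.exists_rep C
  exact ⟨g, hg, fun q hq hqg => hC q hq ⟨g, hg, hqg⟩⟩

/-- decomposition of a `π`-element into its `p`-part, conjugated into a fixed Sylow subgroup, and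
its `p'`-part. -/
theorem exists_decomp {G : Type*} [Group G] [Finite G] (π : Set ℕ) (p : ℕ) [hp : Fact p.Prime]
    (P : Sylow p G) (g : G) (hg : ∀ q : ℕ, q.Prime → q ∣ orderOf g → q ∈ π) :
    ∃ (u : (P : Subgroup G)) (v : G), v ∈ Subgroup.centralizer ({(u : G)} : Set G) ∧
      (∀ q : ℕ, q.Prime → q ∣ orderOf v → q ∈ π \ {p}) ∧
      ConjClasses.mk ((u : G) * v) = ConjClasses.mk g := by
  have hn0 : orderOf g ≠ 0 := (orderOf_pos g).ne'
  set n := orderOf g with hn
  set a := p ^ n.factorization p with ha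
  set b := n / a with hb
  have hab : a * b = n := Nat.ordProj_mul_ordCompl_eq_self n p
  have hcop : Nat.Coprime a b := Nat.Coprime.pow_left _ (Nat.coprime_ordCompl hp.out hn0)
  obtain ⟨e₁, e₂, h1, h2, h3, h4, h5⟩ := exists_crt_exponents a b hcop
  have hgn : g ^ (a * b) = 1 := by rw [hab, hn]; exact pow_orderOf_eq_one g
  have hu₀ : (g ^ e₁) ^ a = 1 := by
    obtain ⟨c, hc⟩ := h2
    rw [← pow_mul, hc, mul_comm b c, mul_assoc, mul_comm b a, mul_comm c, pow_mul, hgn, one_pow]
  have hv₀ : (g ^ e₂) ^ b = 1 := by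
    obtain ⟨c, hc⟩ := h3
    rw [← pow_mul, hc, mul_comm a c, mul_assoc, mul_comm c, pow_mul, hgn, one_pow]
  have hguv : g = g ^ e₁ * g ^ e₂ := by
    rw [← pow_add]
    exact (pow_eq_self_of_modEq_one g (a * b) (e₁ + e₂) hgn h5).symm
  -- conjugate `g ^ e₁` into `P`
  have hpg : IsPGroup p (Subgroup.zpowers (g ^ e₁)) := by
    apply IsPGroup.of_card_dvd_pow (n := n.factorization p)
    rw [Nat.card_zpowers]
    exact orderOf_dvd_of_pow_eq_one hu₀
  obtain ⟨Q, hQ⟩ := hpg.exists_le_sylow
  obtain ⟨s, hs⟩ := MulAction.exists_smul_eq G P Q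
  have hmem : g ^ e₁ ∈ ((s • P : Sylow p G) : Subgroup G) := by
    rw [hs]; exact hQ (Subgroup.mem_zpowers _)
  rw [mem_sylow_smul_iff'] at hmem
  refine ⟨⟨s⁻¹ * g ^ e₁ * s, hmem⟩, s⁻¹ * g ^ e₂ * s, ?_, ?_, ?_⟩
  · rw [Subgroup.mem_centralizer_singleton_iff]
    have hc : g ^ e₂ * g ^ e₁ = g ^ e₁ * g ^ e₂ := by rw [← pow_add, ← pow_add, add_comm]
    calc s⁻¹ * g ^ e₂ * s * (s⁻¹ * g ^ e₁ * s) = s⁻¹ * (g ^ e₂ * g ^ e₁) * s := by group
      _ = s⁻¹ * (g ^ e₁ * g ^ e₂) * s := by rw [hc]
      _ = s⁻¹ * g ^ e₁ * s * (s⁻¹ * g ^ e₂ * s) := by group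
  · intro q hq hqv
    have hord : orderOf (s⁻¹ * g ^ e₂ * s) = orderOf (g ^ e₂) := by
      have := (MulAut.conj s⁻¹).orderOf_eq (g ^ e₂)
      simpa using this
    rw [hord] at hqv
    have hqb : q ∣ b := hqv.trans (orderOf_dvd_of_pow_eq_one hv₀)
    refine ⟨hg q hq (hqb.trans (Dvd.intro_left a hab)), ?_⟩
    intro hqp
    rw [Set.mem_singleton_iff] at hqp
    rw [hqp] at hqb
    exact Nat.not_dvd_ordCompl hp.out hn0 hqb
  · rw [ConjClasses.mk_eq_mk_iff_isConj, isConj_iff]
    refine ⟨s, ?_⟩
    conv_rhs => rw [hguv]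
    group

theorem card_piClasses_le : ∀ (r : ℕ) (G : Type u) [Group G] [Finite G] (π : Set ℕ),
    Set.ncard {q : ℕ | q ∈ (Nat.card G).primeFactors ∧ q ∈ π} = r →
    Nat.card {C : ConjClasses G // IsPiClass π C} ≤ piPart π (Nat.card G) := by
  intro r
  induction r using Nat.strong_induction_on with
  | _ r ih =>
    intro G _ _ π hr
    have hfin : ∀ (n : ℕ) (π' : Set ℕ), {q : ℕ | q ∈ n.primeFactors ∧ q ∈ π'}.Finite := by
      intro n π'
      apply Set.Finite.subset (Finset.finite_toSet n.primeFactors)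
      intro q hq
      exact hq.1
    by_cases hr0 : r = 0
    · -- only the trivial class
      rw [hr0, Set.ncard_eq_zero (hfin _ _)] at hr
      have hsub : Subsingleton {C : ConjClasses G // IsPiClass π C} := by
        constructor
        rintro ⟨C, hC⟩ ⟨C', hC'⟩
        apply Subtype.ext
        have key : ∀ (D : ConjClasses G), IsPiClass π D → D = ConjClasses.mk 1 := by
          intro D hD
          obtain ⟨g, hg, hgπ⟩ := exists_rep_of_isPiClass π D hD
          have h1 : orderOf g = 1 := by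
            by_contra hne
            obtain ⟨q, hq, hqg⟩ := Nat.exists_prime_and_dvd hne
            have hqG : q ∈ (Nat.card G).primeFactors :=
              Nat.mem_primeFactors.mpr ⟨hq, hqg.trans (orderOf_dvd_natCard g), Nat.card_pos.ne'⟩
            have : q ∈ {q : ℕ | q ∈ (Nat.card G).primeFactors ∧ q ∈ π} := ⟨hqG, hgπ q hq hqg⟩
            rw [hr] at this
            exact this
          rw [orderOf_eq_one_iff] at h1
          rw [← hg, h1]
        exact (key C hC).trans (key C' hC').symm
      have h1 : Nat.card {C : ConjClasses G // IsPiClass π C} ≤ 1 :=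
        Finite.card_le_one_iff_subsingleton.mpr hsub
      exact h1.trans (Nat.one_le_iff_ne_zero.mpr (piPart_ne_zero π _))
    · -- pick a prime `p ∈ π` dividing `|G|`
      have hne : {q : ℕ | q ∈ (Nat.card G).primeFactors ∧ q ∈ π}.Nonempty := by
        apply Set.nonempty_of_ncard_ne_zero
        rw [hr]; exact hr0
      obtain ⟨p, hpmem⟩ := hne
      obtain ⟨hpmem1, hpπ⟩ := hpmem
      obtain ⟨hpp, hpG, _⟩ := Nat.mem_primeFactors.mp hpmem1
      have : Fact p.Prime := ⟨hpp⟩
      let P : Sylow p G := default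
      have hdata : ∀ C : {C : ConjClasses G // IsPiClass π C},
          ∃ (u : (P : Subgroup G)) (v : G), v ∈ Subgroup.centralizer ({(u : G)} : Set G) ∧
            (∀ q : ℕ, q.Prime → q ∣ orderOf v → q ∈ π \ {p}) ∧
            ConjClasses.mk ((u : G) * v) = C.1 := by
        rintro ⟨C, hC⟩
        obtain ⟨g, hg, hgπ⟩ := exists_rep_of_isPiClass π C hC
        obtain ⟨u, v, h1, h2, h3⟩ := exists_decomp π p P g hgπ
        exact ⟨u, v, h1, h2, h3.trans hg⟩
      choose ψ vv hcent hπ' hmk using hdata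
      have : Fintype (P : Subgroup G) := Fintype.ofFinite _
      rw [← Nat.card_congr (Equiv.sigmaFiberEquiv ψ), Nat.card_sigma]
      -- bound each fibre
      have hfib : ∀ u : (P : Subgroup G),
          Nat.card {C : {C : ConjClasses G // IsPiClass π C} // ψ C = u} ≤
            piPart (π \ {p}) (Nat.card G) := by
        intro u
        have hIH : Nat.card {D : ConjClasses (Subgroup.centralizer ({(u : G)} : Set G)) //
            IsPiClass (π \ {p}) D} ≤ piPart (π \ {p}) (Nat.card (Subgroup.centralizer ({(u : G)} : Set G))) := by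
          apply ih _ _ (Subgroup.centralizer ({(u : G)} : Set G)) (π \ {p}) rfl
          rw [← hr]
          apply Set.ncard_lt_ncard _ (hfin _ _)
          rw [Set.ssubset_iff_of_subset]
          · exact ⟨p, ⟨hpmem1, hpπ⟩, fun h2 => h2.2.2 rfl⟩
          · intro q hq
            have hq'' := Nat.mem_primeFactors.mp hq.1
            exact ⟨Nat.mem_primeFactors.mpr ⟨hq''.1, hq''.2.1.trans (Subgroup.card_subgroup_dvd_card _),
              Nat.card_pos.ne'⟩, hq.2.1⟩
        refine le_trans ?_ (hIH.trans (piPart_le_of_dvd _ (Subgroup.card_subgroup_dvd_card _) Nat.card_pos.ne'))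
        let F : {C : {C : ConjClasses G // IsPiClass π C} // ψ C = u} →
            {D : ConjClasses (Subgroup.centralizer ({(u : G)} : Set G)) // IsPiClass (π \ {p}) D} :=
          fun C => ⟨ConjClasses.mk ⟨vv C.1, by have := hcent C.1; rw [C.2] at this; exact this⟩, by
            apply isPiClass_mk
            intro q hq hqv
            rw [Subgroup.orderOf_mk] at hqv
            exact hπ' C.1 q hq hqv⟩
        apply Nat.card_le_card_of_injective F
        rintro ⟨C₁, h₁⟩ ⟨C₂, h₂⟩ hF
        have hF' := congrArg Subtype.val hF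
        simp only [F] at hF'
        rw [ConjClasses.mk_eq_mk_iff_isConj, isConj_iff] at hF'
        obtain ⟨z, hz⟩ := hF'
        have hz' : (z : G) * vv C₁ * (z : G)⁻¹ = vv C₂ := by
          have := congrArg Subtype.val hz
          simpa using this
        have hzu : (z : G) * (u : G) = (u : G) * z := by
          have := z.2
          rw [Subgroup.mem_centralizer_singleton_iff] at this
          exact this
        apply Subtype.ext
        apply Subtype.ext
        rw [← hmk C₁, ← hmk C₂, h₁, h₂, ConjClasses.mk_eq_mk_iff_isConj, isConj_iff]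
        refine ⟨z, ?_⟩
        rw [← hz']
        calc (z : G) * ((u : G) * vv C₁) * (z : G)⁻¹ = ((z : G) * (u : G)) * vv C₁ * (z : G)⁻¹ := by group
          _ = ((u : G) * z) * vv C₁ * (z : G)⁻¹ := by rw [hzu]
          _ = (u : G) * ((z : G) * vv C₁ * (z : G)⁻¹) := by group
      calc ∑ u : (P : Subgroup G), Nat.card {C : {C : ConjClasses G // IsPiClass π C} // ψ C = u}
          ≤ ∑ _u : (P : Subgroup G), piPart (π \ {p}) (Nat.card G) := Finset.sum_le_sum (fun u _ => hfib u)
        _ = Nat.card (P : Subgroup G) * piPart (π \ {p}) (Nat.card G) := by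
          rw [Finset.sum_const, Finset.card_univ, smul_eq_mul, ← Nat.card_eq_fintype_card]
        _ = piPart π (Nat.card G) := by
          rw [piPart_split π _ p hpp hpπ, P.card_eq_multiplicity]

/-- Let G be a finite group, π a set of primes and m the π-part of the order of G. Then the number of conjugacy classes of G consisting of π-elements (elements whose order is divisible only by primes in π) is at most m. -/
theorem result {G : Type*} [Group G] [Finite G]
    (π : Set ℕ) (hπ : ∀ q ∈ π, q.Prime)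
    (m : ℕ) (hm : m ∣ Nat.card G) (hmπ : ∀ q : ℕ, q.Prime → q ∣ m → q ∈ π)
    (hm' : ∀ q ∈ π, ¬ q ∣ Nat.card G / m) :
    Nat.card {C : ConjClasses G // ∀ q : ℕ, q.Prime → (∃ g : G, ConjClasses.mk g = C ∧ q ∣ orderOf g) → q ∈ π} ≤ m := by
  rw [eq_piPart π (Nat.card G) m Nat.card_pos.ne' hm hmπ hm']
  exact card_piClasses_le _ G π rfl

end Cfsg.Agent.S4106
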