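import Cfsg.Statements.S4107
import Cfsg.Agent.Lib.Helper1.Coprime
import Cfsg.Agent.Lib.Helper1.Fitting
import Cfsg.Agent.Lib.Helper12.Cores

set_option autoImplicit false
open Cfsg

namespace Cfsg.Agent.S4107

/-- If `O_q(G) ≰ N` then `N` is a `q`-group. -/
theorem isPGroup_of_not_le {G : Type*} [Group G] [Finite G] (N : Subgroup G) [hN : N.Normal]
    (heq : ∀ x : G, x ∉ N → ∀ n ∈ N, orderOf (x * n) = orderOf x) (q : ℕ) [hq : Fact q.Prime]
    (hle : ¬ Cfsg.pCore q G ≤ N) : IsPGroup q ↥N := by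
  obtain ⟨x, hxQ, hxN⟩ := SetLike.not_le_iff_exists.mp hle
  have hQn : (Cfsg.pCore q G).Normal := Cfsg.Agent.Lib.Helper1.pCore_normal q G
  have hQp : IsPGroup q ↥(Cfsg.pCore q G) := Cfsg.Agent.Lib.Helper12.pCore_isPGroup' q
  have hN'n : (Cfsg.pCore q G ⊓ N).Normal := Subgroup.normal_inf_normal _ _
  have hN'p : IsPGroup q ↥(Cfsg.pCore q G ⊓ N) := hQp.to_le inf_le_left
  -- `q'`-elements of `N` are trivial
  have key : ∀ n ∈ N, (orderOf n).Coprime q → n = 1 := by
    intro n hn hcop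
    have hA : Subgroup.zpowers n ≤ N := (Subgroup.zpowers_le).mpr hn
    have hnorm : Subgroup.zpowers n ≤ Subgroup.normalizer ((Cfsg.pCore q G ⊓ N : Subgroup G) : Set G) :=
      le_trans le_top (Subgroup.normalizer_eq_top_iff.mpr hN'n).ge
    have hcard : Nat.Coprime (Nat.card (Subgroup.zpowers n)) (Nat.card ↥(Cfsg.pCore q G ⊓ N)) := by
      obtain ⟨k, hk⟩ := IsPGroup.iff_card.mp hN'p
      rw [Nat.card_zpowers, hk]
      exact Nat.Coprime.pow_right k hcop
    have hsolv : Group.IsSolvable (Subgroup.zpowers n) ∨ Group.IsSolvable ↥(Cfsg.pCore q G ⊓ N) := by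
      left
      apply Group.isSolvable_of_comm
      intro a b
      exact mul_comm' a b
    have hx : ∀ a ∈ Subgroup.zpowers n, x⁻¹ * a * x * a⁻¹ ∈ Cfsg.pCore q G ⊓ N := by
      intro a ha
      refine ⟨?_, ?_⟩
      · have h1 : a * x * a⁻¹ ∈ Cfsg.pCore q G := hQn.conj_mem x hxQ a
        have e : x⁻¹ * a * x * a⁻¹ = x⁻¹ * (a * x * a⁻¹) := by group
        rw [e]
        exact Subgroup.mul_mem _ (Subgroup.inv_mem _ hxQ) h1
      · have h1 : x⁻¹ * a * x⁻¹⁻¹ ∈ N := hN.conj_mem a (hA ha) x⁻¹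
        rw [inv_inv] at h1
        exact N.mul_mem h1 (N.inv_mem (hA ha))
    obtain ⟨m, hm, hc⟩ := Cfsg.Agent.Lib.Helper1.exists_mul_mem_centralizer hnorm hcard hsolv x hx
    have hx'N : x * m ∉ N := by
      intro h
      apply hxN
      have := N.mul_mem h (N.inv_mem hm.2)
      rwa [mul_inv_cancel_right] at this
    have hx'Q : x * m ∈ Cfsg.pCore q G := Subgroup.mul_mem _ hxQ hm.1
    have hcomm : Commute (x * m) n :=
      ((Subgroup.mem_centralizer_iff.mp hc) n (Subgroup.mem_zpowers n)).symm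
    have hord : ∃ j : ℕ, orderOf (x * m) = q ^ j := by
      obtain ⟨k, hk⟩ := hQp ⟨x * m, hx'Q⟩
      have h1 : (x * m) ^ q ^ k = 1 := by
        have := congrArg Subtype.val hk
        simpa using this
      have h2 := orderOf_dvd_of_pow_eq_one h1
      obtain ⟨j, _, hj⟩ := (Nat.dvd_prime_pow hq.out).mp h2
      exact ⟨j, hj⟩
    obtain ⟨j, hj⟩ := hord
    have hcop2 : (orderOf (x * m)).Coprime (orderOf n) := by
      rw [hj]
      exact Nat.Coprime.pow_left j hcop.symm
    have h1 := hcomm.orderOf_mul_eq_mul_orderOf_of_coprime hcop2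
    rw [heq (x * m) hx'N n hn] at h1
    have hpos : 0 < orderOf (x * m) := orderOf_pos _
    have h2 : orderOf n = 1 := by
      have : orderOf (x * m) * 1 = orderOf (x * m) * orderOf n := by rw [mul_one]; exact h1
      exact (Nat.eq_of_mul_eq_mul_left hpos this).symm
    exact orderOf_eq_one_iff.mp h2
  intro g
  have ho : orderOf (g : G) ≠ 0 := (orderOf_pos _).ne'
  obtain ⟨k, m, hm, hkm⟩ := Nat.exists_eq_pow_mul_and_not_dvd ho q hq.out.ne_one
  refine ⟨k, ?_⟩
  have h1 : orderOf ((g : G) ^ q ^ k) = m := by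
    rw [orderOf_pow_of_dvd (pow_ne_zero k hq.out.ne_zero) (Dvd.intro _ hkm.symm), hkm,
      Nat.mul_div_cancel_left _ (pow_pos hq.out.pos k)]
  have h2 : (g : G) ^ q ^ k = 1 := by
    apply key _ (N.pow_mem g.2 _)
    rw [h1]
    exact ((Nat.Prime.coprime_iff_not_dvd hq.out).mpr hm).symm
  apply Subtype.ext
  simpa using h2

/-- Let G be a finite group and N a proper non-trivial normal subgroup such that for every x outside N all elements of the coset xN have the same order as x. Then N ≤ F(G) or F(G) ≤ N, where F(G) is the Fitting subgroup; and if N is properly contained in F(G) then F(G) has prime-power order. -/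
theorem result {G : Type*} [Group G] [Finite G] (N : Subgroup G) [N.Normal] (hN1 : N ≠ ⊥) (hN2 : N ≠ ⊤)
    (heq : ∀ x : G, x ∉ N → ∀ n ∈ N, orderOf (x * n) = orderOf x) :
    (N ≤ Cfsg.fittingSubgroup G ∨ Cfsg.fittingSubgroup G ≤ N) ∧
    (N < Cfsg.fittingSubgroup G → IsPrimePow (Nat.card (Cfsg.fittingSubgroup G))) := by
  have hex : ¬ Cfsg.fittingSubgroup G ≤ N → ∃ q : ℕ, ∃ _ : Fact q.Prime, ¬ Cfsg.pCore q G ≤ N := by
    intro hFN
    by_contra hcon
    apply hFN
    rw [Cfsg.Agent.Lib.Helper1.fittingSubgroup_eq_iSup_pCore]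
    apply iSup_le
    intro r
    by_contra hr
    exact hcon ⟨(r : ℕ), ⟨r.2⟩, hr⟩
  have hNle : ∀ (q : ℕ) [Fact q.Prime], IsPGroup q ↥N → N ≤ Cfsg.fittingSubgroup G := by
    intro q _ hp
    exact Cfsg.Agent.Lib.Helper1.le_fittingSubgroup inferInstance hp.isNilpotent
  refine ⟨?_, ?_⟩
  · by_cases hFN : Cfsg.fittingSubgroup G ≤ N
    · exact Or.inr hFN
    · left
      obtain ⟨q, hq, hle⟩ := hex hFN
      exact hNle q (isPGroup_of_not_le N heq q hle)
  · intro hlt
    have hFN : ¬ Cfsg.fittingSubgroup G ≤ N := fun h => (lt_irrefl _ (lt_of_lt_of_le hlt h))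
    obtain ⟨q, hq, hle⟩ := hex hFN
    have hNq := isPGroup_of_not_le N heq q hle
    have hother : ∀ r : Nat.Primes, (r : ℕ) ≠ q → Cfsg.pCore (r : ℕ) G = ⊥ := by
      intro r hrq
      haveI : Fact (Nat.Prime (r : ℕ)) := ⟨r.2⟩
      by_contra hne
      have hrp : IsPGroup (r : ℕ) ↥(Cfsg.pCore (r : ℕ) G) :=
        Cfsg.Agent.Lib.Helper12.pCore_isPGroup' (r : ℕ)
      by_cases hrN : Cfsg.pCore (r : ℕ) G ≤ N
      · have h1 : IsPGroup q ↥(Cfsg.pCore (r : ℕ) G) := hNq.to_le hrN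
        have h2 := IsPGroup.disjoint_of_ne (r : ℕ) q hrq _ _ hrp h1
        exact hne (disjoint_self.mp h2)
      · have h1 := isPGroup_of_not_le N heq (r : ℕ) hrN
        have h2 := IsPGroup.disjoint_of_ne (r : ℕ) q hrq _ _ h1 hNq
        exact hN1 (disjoint_self.mp h2)
    have hF : Cfsg.fittingSubgroup G = Cfsg.pCore q G := by
      rw [Cfsg.Agent.Lib.Helper1.fittingSubgroup_eq_iSup_pCore]
      apply le_antisymm
      · apply iSup_le
        intro r
        by_cases hrq : (r : ℕ) = q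
        · rw [hrq]
        · rw [hother r hrq]; exact bot_le
      · exact le_iSup (fun r : Nat.Primes => Cfsg.pCore (r : ℕ) G) ⟨q, hq.out⟩
    rw [hF]
    have hQp : IsPGroup q ↥(Cfsg.pCore q G) := Cfsg.Agent.Lib.Helper12.pCore_isPGroup' q
    obtain ⟨k, hk⟩ := IsPGroup.iff_card.mp hQp
    rw [hk, isPrimePow_nat_iff]
    refine ⟨q, k, hq.out, ?_, rfl⟩
    rcases Nat.eq_zero_or_pos k with h0 | h0
    · exfalso
      rw [h0, pow_zero] at hk
      have hbot : Cfsg.pCore q G = ⊥ := Subgroup.card_eq_one.mp hk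
      apply hN1
      rw [eq_bot_iff, ← hbot, ← hF]
      exact hlt.le
    · exact h0

end Cfsg.Agent.S4107
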