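import Cfsg.Statements.S4108
import Mathlib
import Cfsg.Agent.Lib.Helper1.Basic
-- import your own Cfsg.Agent.* helpers here

set_option autoImplicit false
open Cfsg

namespace Cfsg.Agent.S4108

open Subgroup Pointwise
open Cfsg.Agent.Lib.Helper1

lemma malnormal_aux {G : Type*} [Group G] (N H : Subgroup G) [N.Normal]
    (hdisj : ∀ a ∈ N, a ∈ H → a = 1)
    (hfix : ∀ h ∈ H, h ≠ 1 → ∀ n ∈ N, n * h = h * n → n = 1) :
    ∀ g ∈ N ⊔ H, g ∉ H → ∀ a ∈ H, g⁻¹ * a * g ∈ H → a = 1 := by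
  intro g hg hgH a ha hag
  rw [← SetLike.mem_coe, Subgroup.normal_mul, Set.mem_mul] at hg
  obtain ⟨n, hn, h, hh, rfl⟩ := hg
  have hn1 : n ≠ 1 := by
    rintro rfl
    apply hgH
    rw [one_mul]; exact hh
  have hb : n⁻¹ * a * n ∈ H := by
    have : n⁻¹ * a * n = h * ((n * h)⁻¹ * a * (n * h)) * h⁻¹ := by group
    rw [this]
    exact mul_mem (mul_mem hh hag) (inv_mem hh)
  have h1 : a⁻¹ * (n⁻¹ * a * n) ∈ N := by
    have : a⁻¹ * (n⁻¹ * a * n) = (a⁻¹ * n⁻¹ * a⁻¹⁻¹) * n := by group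
    rw [this]
    exact mul_mem (‹N.Normal›.conj_mem _ (inv_mem hn) _) hn
  have h2 : a⁻¹ * (n⁻¹ * a * n) ∈ H := mul_mem (inv_mem ha) hb
  have h3 := hdisj _ h1 h2
  have h4 : n * a = a * n := by
    have : n⁻¹ * a * n = a := by
      have := inv_mul_eq_one.mp h3
      exact this.symm
    calc n * a = n * (n⁻¹ * a * n) := by rw [this]
      _ = a * n := by group
  by_contra ha1
  exact hn1 (hfix a ha ha1 n hn h4)

lemma ker_aux2 {G : Type*} [Group G] [Finite G] (N H : Subgroup G) [N.Normal]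
    (hfix : ∀ h ∈ H, h ≠ 1 → ∀ n ∈ N, n * h = h * n → n = 1) :
    ∀ x ∈ N ⊔ H, x ∉ N → ∃ m ∈ N, m⁻¹ * x * m ∈ H := by
  intro x hx hxN
  rw [← SetLike.mem_coe, Subgroup.normal_mul, Set.mem_mul] at hx
  obtain ⟨n, hn, h, hh, rfl⟩ := hx
  have hh1 : h ≠ 1 := by
    rintro rfl
    apply hxN
    rw [mul_one]; exact hn
  have hmem : ∀ m : N, (m : G) * h * (m : G)⁻¹ * h⁻¹ ∈ N := by
    intro m
    have : (m : G) * h * (m : G)⁻¹ * h⁻¹ = (m : G) * (h * (m : G)⁻¹ * h⁻¹) := by group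
    rw [this]
    exact mul_mem m.2 (‹N.Normal›.conj_mem _ (inv_mem m.2) _)
  have hinj : Function.Injective (fun m : N => (⟨(m : G) * h * (m : G)⁻¹ * h⁻¹, hmem m⟩ : N)) := by
    intro m m' hmm
    have h1 : (m : G) * h * (m : G)⁻¹ * h⁻¹ = (m' : G) * h * (m' : G)⁻¹ * h⁻¹ :=
      congrArg Subtype.val hmm
    have h2 : (m : G) * h * (m : G)⁻¹ = (m' : G) * h * (m' : G)⁻¹ := mul_right_cancel h1
    have h3 : ((m' : G)⁻¹ * (m : G)) * h = h * ((m' : G)⁻¹ * (m : G)) := by
      calc ((m' : G)⁻¹ * (m : G)) * h = (m' : G)⁻¹ * ((m : G) * h * (m : G)⁻¹) * (m : G) := by group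
        _ = (m' : G)⁻¹ * ((m' : G) * h * (m' : G)⁻¹) * (m : G) := by rw [h2]
        _ = h * ((m' : G)⁻¹ * (m : G)) := by group
    have h4 := hfix h hh hh1 _ (mul_mem (inv_mem m'.2) m.2) h3
    apply Subtype.ext
    have := inv_mul_eq_one.mp h4
    exact this.symm
  obtain ⟨m, hm⟩ := (Finite.injective_iff_surjective.mp hinj) ⟨n, hn⟩
  have hm' : (m : G) * h * (m : G)⁻¹ * h⁻¹ = n := congrArg Subtype.val hm
  refine ⟨m, m.2, ?_⟩
  have : (m : G)⁻¹ * (n * h) * (m : G) = h := by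
    rw [← hm']; group
  rw [this]; exact hh


/-- Let G be a finite group, p a prime and N a proper non-trivial normal p-subgroup such that for every x outside N all elements of the coset xN have the same order as x. Then every non-trivial subgroup H of G of order prime to p acts fixed-point-freely on N: NH is a Frobenius group with complement H and kernel N. -/
theorem result {G : Type*} [Group G] [Finite G] (N : Subgroup G) [N.Normal] (hN1 : N ≠ ⊥) (hN2 : N ≠ ⊤)
    (heq : ∀ x : G, x ∉ N → ∀ n ∈ N, orderOf (x * n) = orderOf x)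
    (p : ℕ) [Fact p.Prime] (hNp : IsPGroup p N) :
    ∀ H : Subgroup G, H ≠ ⊥ → (Nat.card H).Coprime p →
      Cfsg.IsFrobeniusComplement (H.subgroupOf (N ⊔ H)) ∧ Cfsg.frobeniusKernel (H.subgroupOf (N ⊔ H)) = (N.subgroupOf (N ⊔ H) : Set ↥(N ⊔ H)) := by
  intro H hH1 hHp
  have hordN : ∀ n ∈ N, ∃ k : ℕ, orderOf n = p ^ k := by
    intro n hn
    obtain ⟨k, hk⟩ := hNp ⟨n, hn⟩
    have h1 : n ^ p ^ k = 1 := congrArg Subtype.val hk
    obtain ⟨j, -, hj⟩ := (Nat.dvd_prime_pow Fact.out).mp (orderOf_dvd_of_pow_eq_one h1)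
    exact ⟨j, hj⟩
  have hcop : ∀ h ∈ H, ∀ n ∈ N, (orderOf h).Coprime (orderOf n) := by
    intro h hh n hn
    obtain ⟨k, hk⟩ := hordN n hn
    rw [hk]
    apply Nat.Coprime.pow_right
    have h1 : orderOf h ∣ Nat.card H := by
      have := orderOf_dvd_natCard (⟨h, hh⟩ : H)
      rwa [Subgroup.orderOf_mk] at this
    exact Nat.Coprime.coprime_dvd_left h1 hHp
  have hdisj : ∀ a ∈ N, a ∈ H → a = 1 := by
    intro a haN haH
    have := hcop a haH a haN
    rw [Nat.coprime_self] at this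
    exact orderOf_eq_one_iff.mp this
  have hfix : ∀ h ∈ H, h ≠ 1 → ∀ n ∈ N, n * h = h * n → n = 1 := by
    intro h hh hh1 n hn hnh
    have hhN : h ∉ N := fun hN => hh1 (hdisj h hN hh)
    have h1 := heq h hhN n hn
    have hc : Commute h n := hnh.symm
    rw [hc.orderOf_mul_eq_mul_orderOf_of_coprime (hcop h hh n hn)] at h1
    have h2 : orderOf n = 1 := by
      have hpos : 0 < orderOf h := orderOf_pos h
      have : orderOf h * orderOf n = orderOf h * 1 := by rw [h1, mul_one]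
      exact Nat.eq_of_mul_eq_mul_left hpos this
    exact orderOf_eq_one_iff.mp h2
  have hHL : H ≤ N ⊔ H := le_sup_right
  have hNL : N ≤ N ⊔ H := le_sup_left
  refine ⟨⟨?_, ?_, ?_⟩, ?_⟩
  · rw [Ne, Subgroup.subgroupOf_eq_bot]
    intro hd
    apply hH1
    rw [eq_bot_iff]
    intro a ha
    exact Subgroup.disjoint_def.mp hd ha (hHL ha)
  · rw [Ne, Subgroup.subgroupOf_eq_top]
    intro hle
    apply hN1
    rw [eq_bot_iff]
    intro a ha
    exact hdisj a ha (hle (hNL ha))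
  · intro g hg
    rw [eq_bot_iff]
    intro a ha
    obtain ⟨ha1, ha2⟩ := Subgroup.mem_inf.mp ha
    rw [mem_conj_smul_iff, mem_subgroupOf] at ha2
    rw [mem_subgroupOf] at ha1 hg
    have := malnormal_aux N H hdisj hfix (g : G) g.2 hg (a : G) ha1 (by simpa using ha2)
    rw [Subgroup.mem_bot]
    exact Subtype.ext this
  · ext x
    simp only [frobeniusKernel, Set.mem_ofPred_eq, SetLike.mem_coe, mem_subgroupOf]
    constructor
    · intro hx
      by_contra hxN
      obtain ⟨m, hm, hmx⟩ := ker_aux2 N H hfix (x : G) x.2 hxN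
      rcases hx with rfl | hx
      · exact hxN (one_mem N)
      · apply hx ⟨m, hNL hm⟩
        rw [mem_conj_smul_iff, mem_subgroupOf]
        simpa using hmx
    · intro hxN
      by_cases hx1 : x = 1
      · left; exact hx1
      · right
        intro g hg
        rw [mem_conj_smul_iff, mem_subgroupOf] at hg
        have h1 : (g : G)⁻¹ * (x : G) * (g : G) ∈ H := by simpa using hg
        have h2 : (g : G)⁻¹ * (x : G) * (g : G) ∈ N := by
          have := ‹N.Normal›.conj_mem _ hxN (g : G)⁻¹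
          simpa using this
        have h3 := hdisj _ h2 h1
        apply hx1
        apply Subtype.ext
        have : (x : G) = (g : G) * ((g : G)⁻¹ * (x : G) * (g : G)) * (g : G)⁻¹ := by group
        rw [this, h3]; simp

end Cfsg.Agent.S4108
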