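import Cfsg.Statements.S4113
import Mathlib
-- import your own Cfsg.Agent.* helpers here

set_option autoImplicit false
open Cfsg

namespace Cfsg.Agent.S4113

/-- Let G be a finite group, M ≤ N non-trivial proper normal subgroups, and H a subgroup with HM = G and H ∩ M = 1. Then every element of G outside N acts fixed-point-freely on M (C_G(x) ≤ N for every x ∈ M, x ≠ 1) if and only if H ∩ gHg⁻¹ ≤ H ∩ N for every g outside H, with H proper and non-trivial and H ∩ N proper in H. -/
theorem result {G : Type*} [Group G] [Finite G] (N M : Subgroup G) [N.Normal] [M.Normal] (hMN : M ≤ N) (hM1 : M ≠ ⊥) (hN2 : N ≠ ⊤)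
    (H : Subgroup G) (hHM : H ⊔ M = ⊤) (hHM' : H ⊓ M = ⊥) :
    (∀ x ∈ M, x ≠ 1 → Subgroup.centralizer ({x} : Set G) ≤ N) ↔
      (H ≠ ⊥ ∧ H ≠ ⊤ ∧ H ⊓ N < H ∧ ∀ g : G, g ∉ H → H ⊓ H.map (MulAut.conj g).toMonoidHom ≤ N) := by
  have hMn : M.Normal := inferInstance
  have hdisj : ∀ y : G, y ∈ H → y ∈ M → y = 1 := by
    intro y hyH hyM
    have : y ∈ H ⊓ M := ⟨hyH, hyM⟩
    rw [hHM', Subgroup.mem_bot] at this
    exact this
  have hdecomp : ∀ g : G, ∃ h ∈ H, ∃ m ∈ M, g = h * m := by
    intro g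
    have hg : g ∈ ((H ⊔ M : Subgroup G) : Set G) := by rw [hHM]; trivial
    rw [Subgroup.mul_normal] at hg
    obtain ⟨h, hh, m, hm, rfl⟩ := hg
    exact ⟨h, hh, m, hm, rfl⟩
  have hdecomp' : ∀ g : G, ∃ m ∈ M, ∃ h ∈ H, g = m * h := by
    intro g
    have hg : g ∈ ((M ⊔ H : Subgroup G) : Set G) := by rw [sup_comm, hHM]; trivial
    rw [Subgroup.normal_mul] at hg
    obtain ⟨m, hm, h, hh, rfl⟩ := hg
    exact ⟨m, hm, h, hh, rfl⟩
  constructor
  · intro hC
    refine ⟨?_, ?_, ?_, ?_⟩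
    · intro hH
      apply hN2
      rw [hH, bot_sup_eq] at hHM
      rw [eq_top_iff, ← hHM]
      exact hMN
    · intro hH
      apply hM1
      rw [hH, top_inf_eq] at hHM'
      exact hHM'
    · refine lt_of_le_of_ne inf_le_left ?_
      intro he
      apply hN2
      have hHN : H ≤ N := by rw [← he]; exact inf_le_right
      rw [eq_top_iff, ← hHM]
      exact sup_le hHN hMN
    · intro g hg y hy
      obtain ⟨hyH, hyc⟩ := hy
      obtain ⟨h', hh', hy'⟩ := hyc
      have hy'' : g * h' * g⁻¹ = y := by simpa [MulAut.conj_apply] using hy'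
      obtain ⟨m, hm, h₀, hh₀, rfl⟩ := hdecomp' g
      have hm1 : m ≠ 1 := by
        rintro rfl
        apply hg
        simpa using hh₀
      set h'' := h₀ * h' * h₀⁻¹ with hh''
      have hh''H : h'' ∈ H := H.mul_mem (H.mul_mem hh₀ hh') (H.inv_mem hh₀)
      have hy3 : y = m * h'' * m⁻¹ := by rw [← hy'', hh'']; group
      have h1 : y * h''⁻¹ ∈ M := by
        have : h'' * m⁻¹ * h''⁻¹ ∈ M := hMn.conj_mem _ (M.inv_mem hm) h''
        have h2 := M.mul_mem hm this
        convert h2 using 1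
        rw [hy3]; group
      have h2 : y * h''⁻¹ ∈ H := H.mul_mem hyH (H.inv_mem hh''H)
      have h3 := hdisj _ h2 h1
      have h4 : y = h'' := by rw [mul_inv_eq_one] at h3; exact h3
      have h5 : h'' ∈ Subgroup.centralizer ({m} : Set G) := by
        rw [Subgroup.mem_centralizer_singleton_iff]
        rw [h4] at hy3
        symm
        calc m * h'' = (m * h'' * m⁻¹) * m := by group
          _ = h'' * m := by rw [← hy3]
      rw [h4]
      exact hC m hm hm1 h5
  · rintro ⟨_, _, _, hTI⟩ x hxM hx1 c hc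
    rw [Subgroup.mem_centralizer_singleton_iff] at hc
    by_contra hcN
    obtain ⟨h, hh, m', hm', rfl⟩ := hdecomp c
    have hhN : h ∉ N := by
      intro hhN
      exact hcN (N.mul_mem hhN (hMN hm'))
    have hA : ∀ m ∈ M, m * h = h * m → m = 1 := by
      intro m hm hcomm
      by_contra hm1
      have hmH : m ∉ H := fun hmH => hm1 (hdisj m hmH hm)
      apply hhN
      apply hTI m hmH
      refine ⟨hh, h, hh, ?_⟩
      simp only [MulEquiv.coe_toMonoidHom, MulAut.conj_apply]
      rw [hcomm]; group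
    -- the map `a ↦ h⁻¹ a h a⁻¹` on `M`
    let φ : M → M := fun a => ⟨h⁻¹ * a * h * (a : G)⁻¹, by
      have h1 : h⁻¹ * a * h⁻¹⁻¹ ∈ M := hMn.conj_mem _ a.2 h⁻¹
      rw [inv_inv] at h1
      exact M.mul_mem h1 (M.inv_mem a.2)⟩
    have hφinj : Function.Injective φ := by
      intro a b hab
      have h1 : h⁻¹ * a * h * (a : G)⁻¹ = h⁻¹ * b * h * (b : G)⁻¹ := congrArg Subtype.val hab
      have h2 : ((b : G)⁻¹ * a) * h = h * ((b : G)⁻¹ * a) := by
        have h3 : (a : G) * h * (a : G)⁻¹ = b * h * (b : G)⁻¹ := by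
          have := congrArg (fun z => h * z) h1
          simpa [mul_assoc] using this
        calc ((b : G)⁻¹ * a) * h = (b : G)⁻¹ * (a * h * (a : G)⁻¹) * a := by group
          _ = (b : G)⁻¹ * (b * h * (b : G)⁻¹) * a := by rw [h3]
          _ = h * ((b : G)⁻¹ * a) := by group
      have h4 := hA _ (M.mul_mem (M.inv_mem b.2) a.2) h2
      apply Subtype.ext
      rw [inv_mul_eq_one] at h4
      exact h4.symm
    have hφsurj : Function.Surjective φ := Finite.injective_iff_surjective.mp hφinj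
    obtain ⟨a, ha⟩ := hφsurj ⟨m', hm'⟩
    have ha' : h⁻¹ * a * h * (a : G)⁻¹ = m' := congrArg Subtype.val ha
    have hc' : (a : G) * h * (a : G)⁻¹ = h * m' := by rw [← ha']; group
    rw [← hc'] at hc
    have hx' : ((a : G)⁻¹ * x * a) * h = h * ((a : G)⁻¹ * x * a) := by
      calc ((a : G)⁻¹ * x * a) * h = (a : G)⁻¹ * (x * (a * h * (a : G)⁻¹)) * a := by group
        _ = (a : G)⁻¹ * ((a * h * (a : G)⁻¹) * x) * a := by rw [hc]
        _ = h * ((a : G)⁻¹ * x * a) := by group
    have hx'M : (a : G)⁻¹ * x * a ∈ M := by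
      have := hMn.conj_mem x hxM (a : G)⁻¹
      rwa [inv_inv] at this
    have := hA _ hx'M hx'
    apply hx1
    have h5 : x = a * ((a : G)⁻¹ * x * a) * (a : G)⁻¹ := by group
    rw [h5, this]; group

end Cfsg.Agent.S4113
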