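import Cfsg.Statements.S4115
import Mathlib
import Cfsg.Agent.Lib.Helper21.TIHallC
-- import your own Cfsg.Agent.* helpers here

set_option autoImplicit false
universe u
open Cfsg

namespace Cfsg.Agent.S4115

/-- Let G be a finite group and H a subgroup that meets each of its conjugates by elements outside N_G(H) trivially and whose order is coprime to its index in N_G(H). Then H has a normal complement in N_G(H) if and only if H has a normal complement in G. Moreover, if H is not normal in G and has a normal complement in N_G(H), then H is isomorphic to a Frobenius complement of some finite Frobenius group. -/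
theorem result {G : Type u} [Group G] [Finite G] (H : Subgroup G)
    (hTI : Cfsg.IsTISubset (H : Set G)) (hHall : (Nat.card H).Coprime (H.subgroupOf (Subgroup.normalizer (H : Set G))).index) :
    ((∃ K : Subgroup (Subgroup.normalizer (H : Set G)), K.Normal ∧ K.IsComplement' (H.subgroupOf (Subgroup.normalizer (H : Set G)))) ↔
      (∃ N : Subgroup G, N.Normal ∧ N.IsComplement' H)) ∧
    (¬ H.Normal → (∃ K : Subgroup (Subgroup.normalizer (H : Set G)), K.Normal ∧ K.IsComplement' (H.subgroupOf (Subgroup.normalizer (H : Set G)))) →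
      ∃ (F : Type u) (_ : Group F) (_ : Finite F) (C : Subgroup F), Cfsg.IsFrobeniusComplement C ∧ Nonempty (H ≃* C)) := by
  have hfwd : (∃ K : Subgroup (Subgroup.normalizer (H : Set G)), K.Normal ∧
      K.IsComplement' (H.subgroupOf (Subgroup.normalizer (H : Set G)))) →
      (∃ N : Subgroup G, N.Normal ∧ N.IsComplement' H) := by
    rintro ⟨K, hKn, hK⟩
    exact Cfsg.Agent.Lib.Helper21.TIHall.exists_normal_complement H hTI hHall K hK
  refine ⟨⟨hfwd, ?_⟩, ?_⟩
  · rintro ⟨G₀, hG₀n, hG₀⟩
    refine ⟨G₀.subgroupOf (Subgroup.normalizer (H : Set G)), inferInstance, ?_⟩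
    exact Cfsg.Agent.Lib.Helper21.TIHall.subgroupOf_isComplement' H _ Subgroup.le_normalizer G₀ hG₀
  · intro hnn hK
    obtain ⟨G₀, hG₀n, hG₀⟩ := hfwd hK
    have hHallG := Cfsg.Agent.Lib.Helper21.TIHall.hall_of_ti H hTI hHall
    obtain ⟨p, P₁, hp, hP₁p, hP₁G₀, hHP₁, hP₁N⟩ :=
      Cfsg.Agent.Lib.Helper21.TIHall.exists_invariant_pgroup H hTI hHallG hnn G₀ hG₀
    have hH1 : H ≠ ⊥ := by
      rintro rfl
      exact hnn inferInstance
    exact Cfsg.Agent.Lib.Helper21.TIHall.exists_frobenius_of_invariant H hTI hHallG hH1 G₀ hG₀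
      p hp P₁ hP₁p hP₁G₀ hHP₁ hP₁N

end Cfsg.Agent.S4115
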