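import Cfsg.Statements.S4117
import Mathlib
import Cfsg.Agent.Lib.Helper20.ActionBridge
import Cfsg.Agent.Lib.Helper20.ZGroupCoprime

set_option autoImplicit false
open Cfsg

namespace Cfsg.Agent.S4117

open Pointwise
open Cfsg.Agent.Lib.Helper20

/-- Let A be a finite group acting on the finite group G by automorphisms with the orders of A and G coprime, and suppose every Sylow subgroup of G is cyclic. Then the fixed-point subgroup C_G(A) is a Hall subgroup of G (its order is coprime to its index), the subgroup [G, A] generated by the elements g⁻¹·a(g) is cyclic and normal with [G, A] ∩ C_G(A) = 1 and [G, A]·C_G(A) = G. -/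
theorem result {G A : Type*} [Group G] [Finite G] [Group A] [Finite A]
    [MulDistribMulAction A G] (hcop : (Nat.card A).Coprime (Nat.card G))
    (hcyc : ∀ (p : ℕ) [Fact p.Prime] (P : Sylow p G), IsCyclic (P : Subgroup G)) :
    (Nat.card (MulAction.fixedPoints A G : Set G)).Coprime (Nat.card G / Nat.card (MulAction.fixedPoints A G : Set G)) ∧
    IsCyclic (Subgroup.closure {y : G | ∃ (a : A) (g : G), y = g⁻¹ * a • g}) ∧
    (Subgroup.closure {y : G | ∃ (a : A) (g : G), y = g⁻¹ * a • g}).Normal ∧
    (Subgroup.closure {y : G | ∃ (a : A) (g : G), y = g⁻¹ * a • g} : Set G) ∩ MulAction.fixedPoints A G = {1} ∧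
    Subgroup.closure {y : G | ∃ (a : A) (g : G), y = g⁻¹ * a • g} ⊔ Subgroup.closure (MulAction.fixedPoints A G) = ⊤ := by
  classical
  obtain ⟨S, hS⟩ : ∃ S : Subgroup G,
      S = Subgroup.closure {y : G | ∃ (a : A) (g : G), y = g⁻¹ * a • g} := ⟨_, rfl⟩
  rw [← hS]
  have hinj : Function.Injective (SemidirectProduct.inl : G →* Sd A G) :=
    SemidirectProduct.inl_injective
  -- the Z-group hypothesis, transported
  haveI hZG : IsZGroup G := ⟨fun p hp P => by haveI : Fact p.Prime := ⟨hp⟩; exact hcyc p P⟩
  haveI hZ : IsZGroup ↥(sdG A G) :=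
    IsZGroup.of_injective (f := (sdGEquiv A G).symm.toMonoidHom) (sdGEquiv A G).symm.injective
  have hcop' : (Nat.card (sdA A G)).Coprime (Nat.card (sdG A G)) := by
    rw [card_sdA, card_sdG]; exact hcop
  obtain ⟨hcyc', hnorm, hdisj, hsup, hcopr, hcard⟩ :=
    zgroup_coprime_internal (sdA A G) (sdG A G) sdA_le_normalizer hcop' hZ
  have hD : ⁅sdG A G, sdA A G⁆ = S.map (SemidirectProduct.inl : G →* Sd A G) := by
    rw [hS]; exact sd_commutator_eq
  rw [hD] at hcyc' hnorm hdisj hsup hcopr hcard
  have hCset := sd_fixedPoints_image (A := A) (G := G)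
  have hcardC : Nat.card (MulAction.fixedPoints A G : Set G) =
      Nat.card ↥(sdG A G ⊓ Subgroup.centralizer ((sdA A G : Subgroup (Sd A G)) : Set (Sd A G))) := by
    have h1 := Nat.card_image_of_injective hinj (MulAction.fixedPoints A G)
    rw [hCset] at h1
    exact h1.symm
  have hcardS : Nat.card ↥(S.map (SemidirectProduct.inl : G →* Sd A G)) = Nat.card S :=
    Subgroup.card_map_of_injective hinj
  refine ⟨?_, ?_, ?_, ?_, ?_⟩
  · -- Hall
    rw [hcardC]
    have hdiv : Nat.card G /
        Nat.card ↥(sdG A G ⊓ Subgroup.centralizer ((sdA A G : Subgroup (Sd A G)) : Set (Sd A G))) =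
        Nat.card ↥(S.map (SemidirectProduct.inl : G →* Sd A G)) := by
      rw [← card_sdG (A := A) (G := G), ← hcard]
      exact Nat.mul_div_cancel _ Nat.card_pos
    rw [hdiv]
    exact hcopr
  · -- cyclic
    exact isCyclic_of_surjective (S.equivMapOfInjective _ hinj).symm (MulEquiv.surjective _)
  · -- normal
    constructor
    intro x hx g
    have h1 : (SemidirectProduct.inl g : Sd A G) ∈ sdG A G := ⟨g, rfl⟩
    have h2 := (Subgroup.mem_normalizer_iff.mp (hnorm h1) (SemidirectProduct.inl x)).mp
      (Subgroup.mem_map_of_mem _ hx)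
    rw [← map_inv, ← map_mul, ← map_mul] at h2
    exact (Subgroup.mem_map_iff_mem hinj).mp h2
  · -- trivial intersection
    ext x
    simp only [Set.mem_inter_iff, SetLike.mem_coe, Set.mem_singleton_iff]
    constructor
    · rintro ⟨hxS, hxF⟩
      have h1 : (SemidirectProduct.inl x : Sd A G) ∈ S.map (SemidirectProduct.inl : G →* Sd A G) ⊓
          (sdG A G ⊓ Subgroup.centralizer ((sdA A G : Subgroup (Sd A G)) : Set (Sd A G))) :=
        ⟨Subgroup.mem_map_of_mem _ hxS, ⟨x, rfl⟩, (sd_mem_centralizer_iff x).mpr hxF⟩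
      rw [hdisj, Subgroup.mem_bot] at h1
      exact hinj (h1.trans (map_one _).symm)
    · rintro rfl
      exact ⟨S.one_mem, fun a => smul_one a⟩
  · -- product
    apply Subgroup.map_injective hinj
    rw [Subgroup.map_sup, MonoidHom.map_closure, hCset, Subgroup.closure_eq, hsup,
      ← MonoidHom.range_eq_map]
    rfl

end Cfsg.Agent.S4117
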