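import Cfsg.Statements.S4125
import Cfsg.Agent.Lib.Lead.QBA
import Cfsg.Agent.Lib.Helper2.QBB
import Cfsg.Agent.Lib.Helper15.QBUcore
import Cfsg.Agent.Lib.Helper15.QBE
import Cfsg.Agent.Lib.Helper9.QBN1
import Cfsg.Agent.Lib.Helper18.QBN2
import Cfsg.Agent.Lib.Helper6.Orb.Wrap
import Cfsg.Agent.Lib.Helper1.Fitting

set_option autoImplicit false
open Cfsg

namespace Cfsg.Agent.S4125


/-- index of a Sylow subgroup is prime to `q`. -/
theorem sylow_index_coprime {G : Type*} [Group G] [Finite G] (q : ℕ) [Fact q.Prime] (Q : Sylow q G) :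
    (Q : Subgroup G).index.Coprime q := by
  rw [Nat.coprime_comm]
  exact (Nat.Prime.coprime_iff_not_dvd Fact.out).mpr (Sylow.not_dvd_index Q)

/-- a subgroup containing a Sylow subgroup has index prime to `q`. -/
theorem index_coprime_of_sylow_le {G : Type*} [Group G] [Finite G] (q : ℕ) [Fact q.Prime] (Q : Sylow q G)
    (L : Subgroup G) (h : (Q : Subgroup G) ≤ L) : L.index.Coprime q :=
  Nat.Coprime.coprime_dvd_left (Subgroup.index_dvd_of_le h) (sylow_index_coprime q Q)

/-- the `p`-core has order prime to `q ≠ p`. -/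
theorem card_pCore_coprime {G : Type*} [Group G] [Finite G] (p q : ℕ) [Fact p.Prime] [Fact q.Prime]
    (hpq : p ≠ q) : (Nat.card (Cfsg.pCore p G)).Coprime q := by
  obtain ⟨n, hn⟩ := IsPGroup.iff_card.mp (Cfsg.Agent.Lib.Helper1.pCore_isPGroup p G)
  rw [hn]
  exact Nat.Coprime.pow_left n ((Nat.coprime_primes Fact.out Fact.out).mpr hpq)

/-- Let G be a finite group and q a prime dividing its order such that every element of q-power order has a conjugacy class of prime-power size. Then G is q-solvable of q-length 1: there are normal subgroups K ≤ L of G with K of order prime to q, L/K a q-group and L of index prime to q. Moreover there is a prime p such that every element of q-power order has a class of p-power size (one prime serving for all of them), and for a Sylow q-subgroup Q: if p = q then Q is normal with a normal complement (a direct factor), while if p ≠ q then Q is abelian, the product of Q with the largest normal p-subgroup O_p(G) is normal in G, and G/O_{q'}(G) is solvable,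 where O_{q'}(G) is the largest normal subgroup of order prime to q. -/
theorem result {G : Type*} [Group G] [Finite G] (q : ℕ) [Fact q.Prime] (hq : q ∣ Nat.card G)
    (hBaer : ∀ x : G, (∃ k : ℕ, orderOf x = q ^ k) → ∃ (r : ℕ) (a : ℕ), r.Prime ∧ (Subgroup.centralizer ({x} : Set G)).index = r ^ a) (Q : Sylow q G) :
    (∃ K L : Subgroup G, K.Normal ∧ L.Normal ∧ K ≤ L ∧ (Nat.card K).Coprime q ∧ (∃ m : ℕ, K.relIndex L = q ^ m) ∧ L.index.Coprime q) ∧
    ∃ p : ℕ, p.Prime ∧ (∀ x : G, (∃ k : ℕ, orderOf x = q ^ k) → ∃ a : ℕ, (Subgroup.centralizer ({x} : Set G)).index = p ^ a) ∧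
      (p = q → (Q : Subgroup G).Normal ∧ ∃ N : Subgroup G, N.Normal ∧ N.IsComplement' (Q : Subgroup G)) ∧
      (p ≠ q → IsMulCommutative (Q : Subgroup G) ∧ (Cfsg.pCore p G ⊔ (Q : Subgroup G)).Normal ∧
        ∀ _h : (Cfsg.pPrimeCore q G).Normal, Group.IsSolvable (G ⧸ Cfsg.pPrimeCore q G)) := by
  classical
  obtain ⟨p, hp, hall⟩ := Cfsg.Agent.Lib.Helper15.QBLeaf.exists_prime_forall_of q hBaer
    (fun p r a b hp hr hpr hpq hrq ha hb x y hx hy hxi hyi =>
      Cfsg.Agent.Lib.Lead.QBLeaf.false_of_two_types q hBaer p r a b hp hr hpr hpq hrq ha hb x y hx hy hxi hyi)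
    (fun r a b hr hrq ha hb x y hx hy hxi hyi =>
      Cfsg.Agent.Lib.Helper2.QBLeaf.false_of_mixed q hBaer r a b hr hrq ha hb x y hx hy hxi hyi)
  have : Fact p.Prime := ⟨hp⟩
  obtain ⟨m, hm⟩ := IsPGroup.iff_card.mp Q.2
  by_cases hpq : p = q
  · -- the prime is `q`
    have hall' : ∀ x : G, (∃ k : ℕ, orderOf x = q ^ k) →
        ∃ a : ℕ, (Subgroup.centralizer ({x} : Set G)).index = q ^ a := by
      intro x hx
      obtain ⟨a, ha⟩ := hall x hx
      exact ⟨a, by rw [ha, hpq]⟩
    obtain ⟨hQn, N, hNn, hNc⟩ := Cfsg.Agent.Lib.Helper15.QBLeaf.direct_factor_of_eq q hall' Q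
    refine ⟨⟨⊥, (Q : Subgroup G), inferInstance, hQn, bot_le, ?_, ⟨m, ?_⟩, sylow_index_coprime q Q⟩,
      q, Fact.out, hall', fun _ => ⟨hQn, N, hNn, hNc⟩, fun h => absurd rfl h⟩
    · simp
    · rw [Subgroup.relIndex_bot_left]; exact hm
  · -- the prime is different from `q`
    obtain ⟨hab, hLn⟩ := Cfsg.Agent.Lib.Helper9.QBLeaf.normal_sup_of_ne q p hpq hall Q
    have hUn : (Cfsg.pCore p G).Normal := Cfsg.Agent.Lib.Helper1.pCore_normal p G
    have hUc : (Nat.card (Cfsg.pCore p G)).Coprime q := card_pCore_coprime p q hpq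
    have hcomm : ∀ u ∈ (Q : Subgroup G), ∀ v ∈ (Q : Subgroup G), u * v = v * u := by
      intro u hu v hv
      have := hab.is_comm.comm (⟨u, hu⟩ : (Q : Subgroup G)) ⟨v, hv⟩
      exact congrArg Subtype.val this
    refine ⟨⟨Cfsg.pCore p G, Cfsg.pCore p G ⊔ (Q : Subgroup G), hUn, hLn, le_sup_left, hUc, ⟨m, ?_⟩,
      index_coprime_of_sylow_le q Q _ le_sup_right⟩,
      p, hp, hall, fun h => absurd h hpq, fun _ => ⟨hab, hLn, ?_⟩⟩
    · -- |UQ : U| = |Q : U ⊓ Q| = |Q|
      have := hUn
      rw [sup_comm, Subgroup.relIndex_sup_right, ← hm]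
      have hinf : (Cfsg.pCore p G) ⊓ (Q : Subgroup G) = ⊥ := by
        have h1 : (Nat.card ((Cfsg.pCore p G) ⊓ (Q : Subgroup G) : Subgroup G)) ∣
            Nat.card (Cfsg.pCore p G) := Subgroup.card_dvd_of_le inf_le_left
        have h2 : (Nat.card ((Cfsg.pCore p G) ⊓ (Q : Subgroup G) : Subgroup G)) ∣
            Nat.card (Q : Subgroup G) := Subgroup.card_dvd_of_le inf_le_right
        rw [hm] at h2
        have h3 : (Nat.card (Cfsg.pCore p G)).Coprime (q ^ m) := Nat.Coprime.pow_right m hUc
        exact Subgroup.card_eq_one.mp (Nat.eq_one_of_dvd_coprimes h3 h1 h2)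
      rw [← Subgroup.inf_relIndex_right, hinf, Subgroup.relIndex_bot_left]
    · -- solvability of `G ⧸ O_{q'}(G)`
      intro hn
      have := hn
      have := hLn
      have hUK : Cfsg.pCore p G ≤ Cfsg.pPrimeCore q G := by
        unfold Cfsg.pPrimeCore
        exact le_sSup ⟨hUn, hUc⟩
      set f := QuotientGroup.mk' (Cfsg.pPrimeCore q G) with hf
      have hfs : Function.Surjective f := QuotientGroup.mk'_surjective _
      set V : Subgroup (G ⧸ Cfsg.pPrimeCore q G) := (Q : Subgroup G).map f with hV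
      have hVL : V = (Cfsg.pCore p G ⊔ (Q : Subgroup G)).map f := by
        rw [Subgroup.map_sup]
        have : (Cfsg.pCore p G).map f = ⊥ := by
          rw [eq_bot_iff]
          rintro _ ⟨u, hu, rfl⟩
          rw [Subgroup.mem_bot]
          exact (QuotientGroup.eq_one_iff u).mpr (hUK hu)
        rw [this, bot_sup_eq]
      have hVn : V.Normal := by
        rw [hVL]
        exact Subgroup.Normal.map hLn f hfs
      have hVab : ∀ x ∈ V, ∀ y ∈ V, x * y = y * x := by
        rintro _ ⟨u, hu, rfl⟩ _ ⟨v, hv, rfl⟩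
        rw [← map_mul, ← map_mul, hcomm u hu v hv]
      have hVq : IsPGroup q V := IsPGroup.map Q.2 f
      have hVidx : V.index.Coprime q :=
        Nat.Coprime.coprime_dvd_left (Subgroup.index_map_dvd (Q : Subgroup G) hfs)
          (sylow_index_coprime q Q)
      have hVself : Subgroup.centralizer (V : Set (G ⧸ Cfsg.pPrimeCore q G)) ≤ V :=
        Cfsg.Agent.Lib.Helper18.QBLeaf.centralizer_map_le q hn (Cfsg.pCore p G ⊔ (Q : Subgroup G)) Q le_sup_right
          (sup_le_sup_right hUK _) hcomm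
      have hVcls : ∀ v ∈ V, ∃ a : ℕ,
          (Subgroup.centralizer ({v} : Set (G ⧸ Cfsg.pPrimeCore q G))).index = p ^ a := by
        rintro _ ⟨u, hu, rfl⟩
        have hord : ∃ k : ℕ, orderOf u = q ^ k := by
          obtain ⟨k, hk⟩ := (IsPGroup.iff_orderOf.mp Q.2) ⟨u, hu⟩
          exact ⟨k, by rw [← hk, Subgroup.orderOf_mk]⟩
        obtain ⟨a, ha⟩ := hall u hord
        have hle : (Subgroup.centralizer ({u} : Set G)).map f ≤
            Subgroup.centralizer ({f u} : Set (G ⧸ Cfsg.pPrimeCore q G)) := by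
          rintro _ ⟨g, hg, rfl⟩
          have hg := Subgroup.mem_centralizer_iff.mp (SetLike.mem_coe.mp hg)
          rw [Subgroup.mem_centralizer_iff]
          intro y hy
          rw [Set.mem_singleton_iff] at hy
          subst hy
          rw [← map_mul, ← map_mul, hg u rfl]
        have hdvd : (Subgroup.centralizer ({f u} : Set (G ⧸ Cfsg.pPrimeCore q G))).index ∣ p ^ a := by
          rw [← ha]
          exact (Subgroup.index_dvd_of_le hle).trans (Subgroup.index_map_dvd _ hfs)
        obtain ⟨b, _, hb⟩ := (Nat.dvd_prime_pow hp).mp hdvd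
        exact ⟨b, hb⟩
      exact Cfsg.Agent.Lib.Helper6.Orb.isSolvable_of_abelian_sylow_pPow_classes hpq V hVab hVq hVidx hVself hVcls

end Cfsg.Agent.S4125
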