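import Cfsg.Statements.S4138
-- import your own Cfsg.Agent.* helpers here
import Cfsg.Agent.Lib.Helper22.TwoCopI

set_option autoImplicit false
open Cfsg

namespace Cfsg.Agent.S4138

open Cfsg.Agent.Lib.Helper17.ClassGraph Cfsg.Agent.Lib.Helper22.TwoCop

/-- Let G be a finite group whose two largest conjugacy class sizes m > n > 1 are coprime, and let x, y ∈ G have classes of sizes n and m respectively. Then C_G(x) and C_G(y) are abelian, and G/Z(G) is a Frobenius group with kernel C_G(x)/Z(G) and complement C_G(y)/Z(G). -/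
theorem result {G : Type*} [Group G] [Finite G] (m n : ℕ) (hmn : n < m) (hn : 1 < n)
    (hcop : m.Coprime n) (htop : ∀ z : G, (Subgroup.centralizer ({z} : Set G)).index ≤ m) (hsecond : ∀ z : G, (Subgroup.centralizer ({z} : Set G)).index < m → (Subgroup.centralizer ({z} : Set G)).index ≤ n)
    (x y : G) (hx : (Subgroup.centralizer ({x} : Set G)).index = n) (hy : (Subgroup.centralizer ({y} : Set G)).index = m) :
    IsMulCommutative (Subgroup.centralizer ({x} : Set G)) ∧ IsMulCommutative (Subgroup.centralizer ({y} : Set G)) ∧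
    Cfsg.IsFrobeniusComplement ((Subgroup.centralizer ({y} : Set G)).map (QuotientGroup.mk' (Subgroup.center G))) ∧
    Cfsg.frobeniusKernel ((Subgroup.centralizer ({y} : Set G)).map (QuotientGroup.mk' (Subgroup.center G))) =
      ((Subgroup.centralizer ({x} : Set G)).map (QuotientGroup.mk' (Subgroup.center G)) : Set (G ⧸ Subgroup.center G)) := by
  have h : Hyp G m n := ⟨hmn, hn, hcop, htop, hsecond⟩
  replace hx : ind x = n := hx
  replace hy : ind y = m := hy
  have hm1 : m ≠ 1 := by omega
  have hn1 : n ≠ 1 := by omega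
  have hsplit : Split (fun g : G => ind g = m) (fun g : G => ind g = n) :=
    { monoA := fun g g' hd hg => h.eq_m_of_dvd (hg ▸ hd)
      monoB := fun g g' hd hg => h.eq_n_of_dvd (hg ▸ hd)
      cop := fun a b ha hb => by
        change (ind a).Coprime (ind b)
        rw [ha, hb]; exact h.hcop
      cov := fun g hg => h.cov hx hy g hg
      neA := fun g hg => by
        change ind g = m at hg
        rw [hg]; exact hm1
      neB := fun g hg => by
        change ind g = n at hg
        rw [hg]; exact hn1 }
  obtain ⟨c⟩ := hsplit.exists_ctx ⟨y, hy⟩ ⟨x, hx⟩ (fun x' b hx' hb g => h.comm_mem_T hb hx' g)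
  have hxF : x ∈ c.F := by
    rw [c.memF]
    intro hxm
    change ind x = m at hxm
    omega
  have hFle : c.F ≤ Subgroup.centralizer ({x} : Set G) := by
    intro f hf
    rw [mem_centralizer_singleton]
    exact c.commute_F hf hxF
  have hleF : Subgroup.centralizer ({x} : Set G) ≤ c.F := by
    intro f hf
    rw [c.memF]
    intro hfm
    rw [mem_centralizer_singleton] at hf
    exact h.not_commute hx hfm (show Commute f x from hf).symm
  have hFeq : c.F = Subgroup.centralizer ({x} : Set G) := le_antisymm hFle hleF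
  have hcompl : c.Compl (Subgroup.centralizer ({y} : Set G)) := by
    refine ⟨Subgroup.center_le_centralizer _, ?_, ?_⟩
    · rintro f ⟨hfF, hfy⟩
      by_contra hfz
      have := h.ind_eq_m_of_mem_cent hx hy hfy hfz
      exact (c.memF f).mp hfF this
    · intro g
      obtain ⟨a, ha, b, hb, hab⟩ := Cfsg.Agent.Lib.Helper4.forall_mul_of_coprime_index
        (Subgroup.centralizer ({x} : Set G)) (Subgroup.centralizer ({y} : Set G))
        (by change (ind x).Coprime (ind y); rw [hx, hy]; exact h.hcop.symm) g
      exact ⟨a, hleF ha, b, hb, hab⟩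
  obtain ⟨q, hq, hqn, y', hcy, e, hy'q⟩ := h.exists_qelt_same_cent hx hy
  have hy'm : ind y' = m := by rw [ind, hcy]; exact hy
  have hy'1 : ind y' ≠ 1 := by rw [hy'm]; exact hm1
  have hy'o : (orderOf y').Coprime (Nat.card c.T) := by
    have h1 : Nat.card c.T ∣ m := by
      have := c.dvdT y hy
      rwa [hy] at this
    have h2 : orderOf y' ∣ q ^ e := orderOf_dvd_of_pow_eq_one hy'q
    have hqm := h.prime_dvd_n_not_dvd_m hq hqn
    have h3 : (q ^ e).Coprime m :=
      Nat.Coprime.pow_left e ((Nat.Prime.coprime_iff_not_dvd hq).mpr hqm)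
    exact Nat.Coprime.coprime_dvd_left h2 (Nat.Coprime.coprime_dvd_right h1 h3)
  obtain ⟨hfrob, hker⟩ := conclusion_of_compl c hcompl hy'o hy'1
  refine ⟨⟨⟨fun a b => ?_⟩⟩, ⟨⟨fun a b => ?_⟩⟩, hfrob, ?_⟩
  · exact Subtype.ext (c.commute_F (hleF a.2) (hleF b.2)).eq
  · exact Subtype.ext (h.cent_abelian hx hy a a.2 b b.2).eq
  · rw [hker, hFeq]

end Cfsg.Agent.S4138
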