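import Cfsg.Statements.S4139
import Cfsg.Agent.Lib.Helper27.ClassSizeNilp

set_option autoImplicit false
open Cfsg

namespace Cfsg.Agent.S4139

open Cfsg.Agent.Lib.Helper27.ClassSizeNilp in
/-- Let G and H be finite groups such that for every natural number k, G and H have the same number of conjugacy classes of size k. If H is nilpotent then G is nilpotent. -/
theorem result {G H : Type*} [Group G] [Finite G] [Group H] [Finite H]
    (hH : Group.IsNilpotent H)
    (h : ∀ k : ℕ, Nat.card {C : ConjClasses G // Nat.card C.carrier = k} = Nat.card {C : ConjClasses H // Nat.card C.carrier = k}) :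
    Group.IsNilpotent G := by
  obtain ⟨Φ, hΦ⟩ := exists_equiv h
  have hcard : Nat.card G = Nat.card H := Nat.card_congr Φ
  have hcen : Nat.card (Subgroup.center G) = Nat.card (Subgroup.center H) := by
    have := card_congr_of_equiv Φ hΦ (fun k => k = 1)
    simp only [cs_eq_one_iff] at this
    exact this
  apply ((Group.isNilpotent_of_finite_tfae (G := G)).out 0 3 rfl rfl).mpr
  intro p hp P
  haveI := hp
  obtain ⟨PH⟩ : Nonempty (Sylow p H) := inferInstance
  obtain ⟨j, hj1, hj2⟩ := nilpotent_count hH p PH
  rw [← hcen] at hj1
  obtain ⟨K', hK'⟩ := Sylow.exists_subgroup_card_pow_prime p hj1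
  have hKc : Nat.card (K'.map (Subgroup.center G).subtype) = p ^ j := by
    rw [← hK']
    exact Nat.card_congr
      (K'.equivMapOfInjective _ (Subgroup.center G).subtype_injective).symm.toEquiv
  refine sylow_normal_of_count p (K'.map (Subgroup.center G).subtype)
    (Subgroup.map_subtype_le _) j hKc P ?_
  rw [card_congr_of_equiv Φ hΦ (fun k => ¬ p ∣ k), P.card_eq_multiplicity, hcard,
    ← PH.card_eq_multiplicity]
  exact hj2

end Cfsg.Agent.S4139
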