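import Cfsg.Statements.S4142
-- import your own Cfsg.Agent.* helpers here


set_option autoImplicit false
open Cfsg

namespace Cfsg.Agent.S4142

theorem camina_aux {G : Type*} [Group G] [Finite G] (N : Subgroup G) [N.Normal] (g : G) :
    (∀ n ∈ N, ∃ x : G, x * g * x⁻¹ = g * n) ↔
      Nat.card (Subgroup.centralizer ({g} : Set G)) =
        Nat.card (Subgroup.centralizer ({(QuotientGroup.mk g : G ⧸ N)} : Set (G ⧸ N))) := by
  classical
  set C := Subgroup.centralizer ({g} : Set G) with hC
  set Cbar := Subgroup.centralizer ({(QuotientGroup.mk g : G ⧸ N)} : Set (G ⧸ N)) with hCbar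
  set D := Cbar.comap (QuotientGroup.mk' N) with hD
  have hmemD : ∀ x, x ∈ D ↔ g⁻¹ * x * g * x⁻¹ ∈ N := by
    intro x
    rw [hD, Subgroup.mem_comap, hCbar, Subgroup.mem_centralizer_iff]
    simp only [Set.mem_singleton_iff, forall_eq, QuotientGroup.mk'_apply]
    rw [← QuotientGroup.mk_mul, ← QuotientGroup.mk_mul, QuotientGroup.eq]
    have e : (g * x)⁻¹ * (x * g) = x⁻¹ * (g⁻¹ * x * g) := by group
    rw [e, Subgroup.Normal.mem_comm_iff inferInstance]
  have hmemC : ∀ x, x ∈ C ↔ x * g * x⁻¹ = g := by
    intro x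
    rw [hC, Subgroup.mem_centralizer_iff]
    simp only [Set.mem_singleton_iff, forall_eq]
    constructor
    · intro h; rw [← h]; group
    · intro h
      have : x * g = (x * g * x⁻¹) * x := by group
      rw [this, h]
  have hCD : C ≤ D := by
    intro x hx
    rw [hmemD]
    have : g⁻¹ * x * g * x⁻¹ = g⁻¹ * (x * g * x⁻¹) := by group
    rw [this, (hmemC x).mp hx]
    simp
  -- cardinalities
  have hcardD : Nat.card D = Nat.card Cbar * Nat.card N := by
    have h1 : D.index = Cbar.index := Subgroup.index_comap_of_surjective Cbar (QuotientGroup.mk'_surjective N)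
    have h2 := Subgroup.card_mul_index D
    have h3 := Subgroup.card_mul_index Cbar
    have h4 := Subgroup.card_mul_index N
    rw [Subgroup.index_eq_card N] at h4
    have hpos : 0 < Cbar.index := Nat.pos_of_ne_zero Subgroup.index_ne_zero_of_finite
    apply Nat.eq_of_mul_eq_mul_right hpos
    rw [← h1, h2, h1]
    calc Nat.card G = Nat.card N * Nat.card (G ⧸ N) := h4.symm
      _ = Nat.card N * (Nat.card Cbar * Cbar.index) := by rw [h3]
      _ = Nat.card Cbar * Nat.card N * Cbar.index := by ring
  have hcardD' : Nat.card D = Nat.card C * Nat.card (D ⧸ C.subgroupOf D) := by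
    have h1 := Subgroup.card_mul_index (C.subgroupOf D)
    rw [Subgroup.index_eq_card] at h1
    rw [← h1, Nat.card_congr (Subgroup.subgroupOfEquivOfLe hCD).toEquiv]
  -- the map ψ
  let ψ : D ⧸ C.subgroupOf D → N := Quotient.lift
    (fun x : D => (⟨g⁻¹ * (x : G) * g * (x : G)⁻¹, (hmemD x).mp x.2⟩ : N)) (by
      intro a b hab
      have hab' : a⁻¹ * b ∈ C.subgroupOf D := QuotientGroup.leftRel_apply.mp hab
      rw [Subgroup.mem_subgroupOf, hmemC] at hab'
      apply Subtype.ext
      simp only [Subgroup.coe_mul, Subgroup.coe_inv] at hab' ⊢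
      have : (b : G) * g * (b : G)⁻¹ = (a : G) * (((a : G)⁻¹ * b) * g * ((a : G)⁻¹ * b)⁻¹) * (a : G)⁻¹ := by group
      have e1 : g⁻¹ * (b : G) * g * (b : G)⁻¹ = g⁻¹ * ((b : G) * g * (b : G)⁻¹) := by group
      rw [e1, this, hab']
      group)
  have hψ : ∀ x : D, ψ (QuotientGroup.mk x) = ⟨g⁻¹ * (x : G) * g * (x : G)⁻¹, (hmemD x).mp x.2⟩ := fun x => rfl
  have hψinj : Function.Injective ψ := by
    intro a b
    induction a using QuotientGroup.induction_on with
    | H a =>
    induction b using QuotientGroup.induction_on with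
    | H b =>
    intro h
    rw [hψ, hψ] at h
    have h' := congrArg Subtype.val h
    simp only at h'
    rw [QuotientGroup.eq, Subgroup.mem_subgroupOf, hmemC]
    simp only [Subgroup.coe_mul, Subgroup.coe_inv]
    have h2 : (a : G) * g * (a : G)⁻¹ = (b : G) * g * (b : G)⁻¹ := by
      have := congrArg (fun z => g * z) h'
      simpa [mul_assoc] using this
    calc (a : G)⁻¹ * b * g * ((a : G)⁻¹ * b)⁻¹ = (a : G)⁻¹ * ((b : G) * g * (b : G)⁻¹) * a := by group
      _ = (a : G)⁻¹ * ((a : G) * g * (a : G)⁻¹) * a := by rw [h2]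
      _ = g := by group
  have hsurj_iff : Function.Surjective ψ ↔ ∀ n ∈ N, ∃ x : G, x * g * x⁻¹ = g * n := by
    constructor
    · intro hs n hn
      obtain ⟨q, hq⟩ := hs ⟨n, hn⟩
      induction q using QuotientGroup.induction_on with
      | H x =>
      rw [hψ] at hq
      have h' := congrArg Subtype.val hq
      simp only at h'
      refine ⟨x, ?_⟩
      rw [← h']; group
    · intro h n
      obtain ⟨x, hx⟩ := h n.1 n.2
      have hxD : x ∈ D := by
        rw [hmemD]
        have : g⁻¹ * x * g * x⁻¹ = g⁻¹ * (x * g * x⁻¹) := by group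
        rw [this, hx]
        simp
      refine ⟨QuotientGroup.mk ⟨x, hxD⟩, ?_⟩
      rw [hψ]
      apply Subtype.ext
      simp only
      have : g⁻¹ * x * g * x⁻¹ = g⁻¹ * (x * g * x⁻¹) := by group
      rw [this, hx]; group
  rw [← hsurj_iff]
  have hCpos : 0 < Nat.card C := Nat.card_pos
  have hNpos : 0 < Nat.card N := Nat.card_pos
  constructor
  · intro hs
    have hb : Function.Bijective ψ := ⟨hψinj, hs⟩
    have hcard := Nat.card_eq_of_bijective ψ hb
    have : Nat.card C * Nat.card N = Nat.card Cbar * Nat.card N := by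
      rw [← hcardD, hcardD', hcard]
    exact Nat.eq_of_mul_eq_mul_right hNpos this
  · intro hcard
    have : Nat.card (D ⧸ C.subgroupOf D) = Nat.card N := by
      have h1 : Nat.card C * Nat.card (D ⧸ C.subgroupOf D) = Nat.card C * Nat.card N := by
        rw [← hcardD', hcardD, hcard]
      exact Nat.eq_of_mul_eq_mul_left hCpos h1
    exact (hψinj.bijective_of_nat_card_le (le_of_eq this.symm)).2

/-- Let G be a finite group and N a normal subgroup. Then the conjugacy class of every element g outside N is a union of cosets of N (gn is conjugate to g for all n ∈ N) if and only if for every g outside N the centralizer of g in G has the same order as the centralizer of gN in G/N. -/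
theorem result {G : Type*} [Group G] [Finite G] (N : Subgroup G) [N.Normal] :
    (∀ g : G, g ∉ N → ∀ n ∈ N, ∃ x : G, x * g * x⁻¹ = g * n) ↔
      ∀ g : G, g ∉ N → Nat.card (Subgroup.centralizer ({g} : Set G)) =
        Nat.card (Subgroup.centralizer ({(QuotientGroup.mk g : G ⧸ N)} : Set (G ⧸ N))) := by
  constructor
  · intro h g hg
    exact (camina_aux N g).mp (h g hg)
  · intro h g hg
    exact (camina_aux N g).mpr (h g hg)

end Cfsg.Agent.S4142
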