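import Cfsg.Statements.S4150
-- import your own Cfsg.Agent.* helpers here
import Mathlib
import Cfsg.Agent.Lib.Helper18.AGenH
import Cfsg.Agent.Lib.Helper13.ThreePrimes

set_option autoImplicit false
open Cfsg

namespace Cfsg.Agent.S4150

/-- Let m ≥ 5. Then there are primes p < q with m/2 ≤ p and q ≤ m such that any two elements x, y of the alternating group of degree m with x of order p and y of order q generate a subgroup isomorphic to an alternating group of some degree d ≥ 5. -/
theorem result (m : ℕ) (hm : 5 ≤ m) :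
    ∃ p q : ℕ, p.Prime ∧ q.Prime ∧ m ≤ 2 * p ∧ p < q ∧ q ≤ m ∧
      ∀ x y : alternatingGroup (Fin m), orderOf x = p → orderOf y = q →
        ∃ d : ℕ, 5 ≤ d ∧ Nonempty (Subgroup.closure ({x, y} : Set (alternatingGroup (Fin m))) ≃* alternatingGroup (Fin d)) := by
  classical
  have key : ∀ p q : ℕ, p.Prime → q.Prime → p < q → m ≤ 2 * p → q ≤ m → 5 ≤ q →
      (∀ d, q ≤ d → d ≤ m →
        (p = 3 ∨ p + 3 ≤ d ∨ q + 3 ≤ d ∨ (p = 5 ∧ d = 7) ∨ (p = 11 ∧ d = 13))) →
      (m = 2 * p → (q + 3 ≤ 2 * p ∨ (p = 3 ∧ q = 5))) →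
      ∃ p q : ℕ, p.Prime ∧ q.Prime ∧ m ≤ 2 * p ∧ p < q ∧ q ≤ m ∧
        ∀ x y : alternatingGroup (Fin m), orderOf x = p → orderOf y = q →
          ∃ d : ℕ, 5 ≤ d ∧ Nonempty (Subgroup.closure ({x, y} : Set (alternatingGroup (Fin m)))
            ≃* alternatingGroup (Fin d)) := by
    intro p q hp hq hpq h2p hqm hq5 hA hB
    refine ⟨p, q, hp, hq, h2p, hpq, hqm, fun x y hx hy => ?_⟩
    exact Cfsg.Agent.Lib.Helper18.AGen.two_primes_generate hp hq hpq
      (by rw [Fintype.card_fin]; exact h2p) hq5 (by rw [Fintype.card_fin]; exact hA)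
      (by rw [Fintype.card_fin]; exact hB) x y hx hy
  by_cases h6 : m ≤ 6
  · exact key 3 5 Nat.prime_three Nat.prime_five (by norm_num) (by omega) (by omega) le_rfl
      (fun d _ _ => Or.inl rfl) (fun _ => Or.inr ⟨rfl, rfl⟩)
  by_cases h10 : m ≤ 10
  · exact key 5 7 Nat.prime_five (by norm_num) (by norm_num) (by omega) (by omega) (by norm_num)
      (fun d h1 h2 => by omega) (fun h => by omega)
  by_cases h14 : m ≤ 14
  · exact key 7 11 (by norm_num) (by norm_num) (by norm_num) (by omega) (by omega) (by norm_num)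
      (fun d h1 h2 => by omega) (fun h => by omega)
  by_cases h16 : m ≤ 16
  · exact key 11 13 (by norm_num) (by norm_num) (by norm_num) (by omega) (by omega) (by norm_num)
      (fun d h1 h2 => by omega) (fun h => by omega)
  by_cases h17 : m = 17
  · subst h17
    exact key 11 17 (by norm_num) (by norm_num) (by norm_num) (by omega) (by omega) (by norm_num)
      (fun d h1 h2 => by omega) (fun h => by omega)
  obtain ⟨p1, p2, p3, hp1, hp2, hp3, h1, h12, h23, h3⟩ :=
    Cfsg.Agent.Lib.Helper13.ThreePrimes.exists_three_primes (m / 2) (by omega)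
  have o1 : p1 % 2 = 1 := Nat.odd_iff.mp (hp1.odd_of_ne_two (by omega))
  have o2 : p2 % 2 = 1 := Nat.odd_iff.mp (hp2.odd_of_ne_two (by omega))
  have o3 : p3 % 2 = 1 := Nat.odd_iff.mp (hp3.odd_of_ne_two (by omega))
  exact key p1 p3 hp1 hp3 (by omega) (by omega) (by omega) (by omega)
    (fun d h1 h2 => by omega) (fun h => by omega)

end Cfsg.Agent.S4150
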