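import Cfsg.Statements.S4153
-- import your own Cfsg.Agent.* helpers here
import Cfsg.Agent.Lib.Helper22.Basic

set_option autoImplicit false
open Cfsg

namespace Cfsg.Agent.S4153


/-- For a Sylow `Q` of `G` and normal `N`: `|Q ∩ N| * |Q N / N| = |Q|`. -/
theorem card_inf_mul_card_map {G : Type*} [Group G] [Finite G] (N : Subgroup G) [N.Normal]
    (Q : Subgroup G) :
    Nat.card (Q ⊓ N : Subgroup G) * Nat.card (Q.map (QuotientGroup.mk' N)) = Nat.card Q := by
  have h1 := Subgroup.relIndex_ker (K := Q) (QuotientGroup.mk' N)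
  rw [QuotientGroup.ker_mk'] at h1
  rw [← h1, ← Subgroup.inf_relIndex_left]
  exact Cfsg.Agent.Lib.Helper22.card_mul_relIndex_of_le inf_le_left

theorem fiber_aux {G : Type*} [Group G] [Finite G] (p : ℕ) [Fact p.Prime] (N : Subgroup G)
    [N.Normal] (y : G ⧸ N) (hy : ∃ k : ℕ, orderOf y = p ^ k) :
    ∃ (Q : Sylow p G),
      Nat.card (Q ⊓ N : Subgroup G) ≤
        Nat.card {x : G // (∃ k : ℕ, orderOf x = p ^ k) ∧ (x : G ⧸ N) = y} ∧
      (N ≤ Subgroup.center G →
        Nat.card {x : G // (∃ k : ℕ, orderOf x = p ^ k) ∧ (x : G ⧸ N) = y} ≤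
          Nat.card (Q ⊓ N : Subgroup G)) := by
  obtain ⟨k, hk⟩ := hy
  have hpg : IsPGroup p (Subgroup.zpowers y) := IsPGroup.of_card (n := k) (by rw [Nat.card_zpowers, hk])
  obtain ⟨Qbar, hQbar⟩ := hpg.exists_le_sylow
  obtain ⟨Q, hQ⟩ := Sylow.mapSurjective_surjective (QuotientGroup.mk'_surjective N) p Qbar
  have hyQ : y ∈ (Q : Subgroup G).map (QuotientGroup.mk' N) := by
    have : y ∈ (Qbar : Subgroup (G ⧸ N)) := hQbar (Subgroup.mem_zpowers y)
    rw [← hQ] at this
    exact this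
  obtain ⟨s, hsQ, hsy⟩ := hyQ
  have hsy' : (s : G ⧸ N) = y := hsy
  have hQp : ∀ z ∈ (Q : Subgroup G), ∃ k : ℕ, orderOf z = p ^ k := by
    intro z hz
    obtain ⟨j, hj⟩ := IsPGroup.iff_orderOf.1 Q.isPGroup' ⟨z, hz⟩
    exact ⟨j, by rw [← hj, ← Subgroup.orderOf_coe]⟩
  refine ⟨Q, ?_, ?_⟩
  · refine Nat.card_le_card_of_injective
      (fun m => ⟨s * (m : G), hQp _ (mul_mem hsQ (Subgroup.mem_inf.1 m.2).1), ?_⟩) ?_
    · rw [QuotientGroup.mk_mul, hsy', (QuotientGroup.eq_one_iff _).2 (Subgroup.mem_inf.1 m.2).2,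
        mul_one]
    · intro m m' h
      simp only [Subtype.mk.injEq] at h
      exact Subtype.ext (mul_left_cancel h)
  · intro hcen
    refine Nat.card_le_card_of_injective (fun x => ⟨s⁻¹ * (x : G), ?_⟩) ?_
    · have hmN : s⁻¹ * (x : G) ∈ N := QuotientGroup.eq.1 (hsy'.trans x.2.2.symm)
      have hmc : s⁻¹ * (x : G) ∈ Subgroup.center G := hcen hmN
      refine Subgroup.mem_inf.2 ⟨?_, hmN⟩
      -- the cyclic group generated by m is a normal p-subgroup
      have hcomm : Commute s⁻¹ (x : G) := by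
        have h1 := Subgroup.mem_center_iff.1 hmc s
        -- s * (s⁻¹ * x) = (s⁻¹ * x) * s
        have h2 : (x : G) * s = s * (x : G) := by
          calc (x : G) * s = s * ((s⁻¹ * (x : G)) * s) := by group
            _ = s * (s * (s⁻¹ * (x : G))) := by rw [h1]
            _ = s * (x : G) := by group
        exact (Commute.inv_left (h2.symm : Commute s (x : G)))
      obtain ⟨a, ha⟩ := hQp s hsQ
      obtain ⟨b, hb⟩ := x.2.1
      have hord : orderOf (s⁻¹ * (x : G)) ∣ p ^ (a + b) := by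
        refine (hcomm.orderOf_mul_dvd_lcm).trans (Nat.lcm_dvd ?_ ?_)
        · rw [orderOf_inv, ha]; exact pow_dvd_pow p (Nat.le_add_right a b)
        · rw [hb]; exact pow_dvd_pow p (Nat.le_add_left b a)
      have hpz : IsPGroup p (Subgroup.zpowers (s⁻¹ * (x : G))) :=
        IsPGroup.of_card_dvd_pow (n := a + b) (by rw [Nat.card_zpowers]; exact hord)
      have hnorm : (Subgroup.zpowers (s⁻¹ * (x : G))).Normal := by
        refine ⟨fun n hn g => ?_⟩
        have hnc : n ∈ Subgroup.center G :=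
          (Subgroup.zpowers_le.2 hmc) hn
        have := Subgroup.mem_center_iff.1 hnc g
        rw [this, mul_assoc, mul_inv_cancel, mul_one]
        exact hn
      exact hpz.le_sylow_of_normal Q (Subgroup.mem_zpowers _)
    · intro x x' h
      simp only [Subtype.mk.injEq] at h
      exact Subtype.ext (mul_left_cancel h)

/-- Let G be a finite group, p a prime, N a normal subgroup, P a Sylow p-subgroup of G and P̄ a Sylow p-subgroup of G/N. Count the elements of p-power order, the identity included. Then (number of such elements of G/N)/#P̄ ≤ (number of such elements of G)/#P, stated as a cross-multiplied inequality, with equality when N is central. -/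
theorem result {G : Type*} [Group G] [Finite G] (p : ℕ) [Fact p.Prime] (N : Subgroup G) [N.Normal]
    (P : Sylow p G) (Pbar : Sylow p (G ⧸ N)) :
    Nat.card {g : (G ⧸ N) // ∃ k : ℕ, orderOf g = p ^ k} * Nat.card (P : Subgroup G) ≤ Nat.card {g : G // ∃ k : ℕ, orderOf g = p ^ k} * Nat.card (Pbar : Subgroup (G ⧸ N)) ∧
    (N ≤ Subgroup.center G → Nat.card {g : (G ⧸ N) // ∃ k : ℕ, orderOf g = p ^ k} * Nat.card (P : Subgroup G) = Nat.card {g : G // ∃ k : ℕ, orderOf g = p ^ k} * Nat.card (Pbar : Subgroup (G ⧸ N))) := by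
  classical
  have := Fintype.ofFinite G
  -- the constant c
  have hc : ∀ Q : Sylow p G, Nat.card (Q ⊓ N : Subgroup G) * Nat.card (Pbar : Subgroup (G ⧸ N)) =
      Nat.card (P : Subgroup G) := by
    intro Q
    have h1 := card_inf_mul_card_map N (Q : Subgroup G)
    have h2 : Nat.card ((Q : Subgroup G).map (QuotientGroup.mk' N)) =
        Nat.card (Pbar : Subgroup (G ⧸ N)) := by
      have := (Q.mapSurjective (QuotientGroup.mk'_surjective N)).card_eq_multiplicity
      rw [Sylow.coe_mapSurjective] at this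
      rw [this, Pbar.card_eq_multiplicity]
    rw [h2] at h1
    rw [h1, Q.card_eq_multiplicity, P.card_eq_multiplicity]
  have hposbar : 0 < Nat.card (Pbar : Subgroup (G ⧸ N)) := Nat.card_pos
  have hceq : ∀ Q : Sylow p G, Nat.card (Q ⊓ N : Subgroup G) = Nat.card (P ⊓ N : Subgroup G) := by
    intro Q
    exact Nat.eq_of_mul_eq_mul_right hposbar ((hc Q).trans (hc P).symm)
  -- the map on p-elements
  have hΦ : ∀ x : {g : G // ∃ k : ℕ, orderOf g = p ^ k},
      ∃ k : ℕ, orderOf ((x : G) : G ⧸ N) = p ^ k := by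
    intro x
    obtain ⟨k, hk⟩ := x.2
    have : orderOf ((x : G) : G ⧸ N) ∣ p ^ k := by
      rw [← hk]; exact orderOf_map_dvd (QuotientGroup.mk' N) (x : G)
    obtain ⟨j, _, hj⟩ := (Nat.dvd_prime_pow (Fact.out : p.Prime)).1 this
    exact ⟨j, hj⟩
  let Φ : {g : G // ∃ k : ℕ, orderOf g = p ^ k} → {g : G ⧸ N // ∃ k : ℕ, orderOf g = p ^ k} :=
    fun x => ⟨((x : G) : G ⧸ N), hΦ x⟩
  have : Fintype {g : G ⧸ N // ∃ k : ℕ, orderOf g = p ^ k} := Fintype.ofFinite _
  have hsum : Nat.card {g : G // ∃ k : ℕ, orderOf g = p ^ k} =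
      ∑ y : {g : G ⧸ N // ∃ k : ℕ, orderOf g = p ^ k},
        Nat.card {x : G // (∃ k : ℕ, orderOf x = p ^ k) ∧ (x : G ⧸ N) = (y : G ⧸ N)} := by
    rw [← Nat.card_congr (Equiv.sigmaFiberEquiv Φ), Nat.card_sigma]
    refine Finset.sum_congr rfl (fun y _ => ?_)
    refine Nat.card_congr ⟨fun x => ⟨x.1.1, x.1.2, congrArg Subtype.val x.2⟩,
      fun x => ⟨⟨x.1, x.2.1⟩, Subtype.ext x.2.2⟩, ?_, ?_⟩
    · intro x; rfl
    · intro x; rfl
  refine ⟨?_, ?_⟩
  · have hge : Nat.card {g : (G ⧸ N) // ∃ k : ℕ, orderOf g = p ^ k} * Nat.card (P ⊓ N : Subgroup G) ≤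
        Nat.card {g : G // ∃ k : ℕ, orderOf g = p ^ k} := by
      rw [hsum, Nat.card_eq_fintype_card, ← Finset.card_univ, ← smul_eq_mul, ← Finset.sum_const]
      refine Finset.sum_le_sum (fun y _ => ?_)
      obtain ⟨Q, hQ1, _⟩ := fiber_aux p N y.1 y.2
      rw [← hceq Q]; exact hQ1
    calc Nat.card {g : (G ⧸ N) // ∃ k : ℕ, orderOf g = p ^ k} * Nat.card (P : Subgroup G)
        = (Nat.card {g : (G ⧸ N) // ∃ k : ℕ, orderOf g = p ^ k} * Nat.card (P ⊓ N : Subgroup G)) *
            Nat.card (Pbar : Subgroup (G ⧸ N)) := by rw [← hc P]; ring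
      _ ≤ _ := Nat.mul_le_mul_right _ hge
  · intro hcen
    have heq : Nat.card {g : (G ⧸ N) // ∃ k : ℕ, orderOf g = p ^ k} * Nat.card (P ⊓ N : Subgroup G) =
        Nat.card {g : G // ∃ k : ℕ, orderOf g = p ^ k} := by
      rw [hsum, Nat.card_eq_fintype_card, ← Finset.card_univ, ← smul_eq_mul, ← Finset.sum_const]
      refine Finset.sum_congr rfl (fun y _ => ?_)
      obtain ⟨Q, hQ1, hQ2⟩ := fiber_aux p N y.1 y.2
      rw [← hceq Q]; exact le_antisymm hQ1 (hQ2 hcen)
    rw [← heq, ← hc P]; ring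

end Cfsg.Agent.S4153
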