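import Cfsg.Statements.S4154
-- import your own Cfsg.Agent.* helpers here

set_option autoImplicit false
open Cfsg

namespace Cfsg.Agent.S4154

/-- Let G be a finite group and α an automorphism of G such that every element of G is the product of an element fixed by α and an element of the form g⁻¹α(g). If N is a normal α-invariant subgroup, then the automorphism ᾱ induced on G/N has the same property, and every coset fixed by ᾱ contains an element fixed by α (so the fixed points of ᾱ are the images of the fixed points of α). -/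
theorem result {G : Type*} [Group G] [Finite G] (α : MulAut G)
    (hccp : ∀ x : G, ∃ c g : G, α c = c ∧ x = c * (g⁻¹ * α g))
    (N : Subgroup G) [N.Normal] (hN : ∀ n ∈ N, α n ∈ N) :
    (∀ x : G, ∃ c g : G, c⁻¹ * α c ∈ N ∧ x⁻¹ * (c * (g⁻¹ * α g)) ∈ N) ∧
    (∀ x : G, x⁻¹ * α x ∈ N → ∃ c : G, α c = c ∧ c⁻¹ * x ∈ N) := by
  classical
  constructor
  · intro x
    obtain ⟨c, g, hc, hx⟩ := hccp x
    refine ⟨c, g, ?_, ?_⟩
    · rw [hc]; simp
    · rw [← hx]; simp
  · -- the fixed point subgroup
    set C : Subgroup G := MonoidHom.eqLocus α.toMonoidHom (MonoidHom.id G) with hCdef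
    have hmemC : ∀ c, c ∈ C ↔ α c = c := fun c => Iff.rfl
    -- S = {x | x⁻¹ α x ∈ N}
    let S : Subgroup G :=
      { carrier := {x | x⁻¹ * α x ∈ N}
        one_mem' := by simp
        mul_mem' := by
          intro a b ha hb
          simp only [Set.mem_setOf_eq] at ha hb ⊢
          have e : (a * b)⁻¹ * α (a * b) = b⁻¹ * (a⁻¹ * α a) * b * (b⁻¹ * α b) := by
            rw [map_mul]; group
          rw [e]
          have h1 : b⁻¹ * (a⁻¹ * α a) * b ∈ N := by
            have := Subgroup.Normal.conj_mem (inferInstance : N.Normal) _ ha b⁻¹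
            simpa using this
          exact N.mul_mem h1 hb
        inv_mem' := by
          intro a ha
          simp only [Set.mem_setOf_eq] at ha ⊢
          have e : a⁻¹⁻¹ * α a⁻¹ = a * (a⁻¹ * α a)⁻¹ * a⁻¹ := by
            rw [map_inv]; group
          rw [e]
          exact Subgroup.Normal.conj_mem inferInstance _ (N.inv_mem ha) a }
    have hmemS : ∀ x, x ∈ S ↔ x⁻¹ * α x ∈ N := fun x => Iff.rfl
    -- for s ∈ S, s * (α s)⁻¹ ∈ N
    have hS' : ∀ s ∈ S, s * (α s)⁻¹ ∈ N := by
      intro s hs
      have h1 : (s⁻¹ * α s)⁻¹ ∈ N := N.inv_mem ((hmemS s).mp hs)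
      have h2 := Subgroup.Normal.conj_mem (inferInstance : N.Normal) _ h1 s
      have e : s * (s⁻¹ * α s)⁻¹ * s⁻¹ = s * (α s)⁻¹ := by group
      rwa [e] at h2
    let π := QuotientGroup.mk' N
    -- ψ : G ⧸ S → G ⧸ N
    let ψ : G ⧸ S → G ⧸ N := Quotient.lift (fun g : G => π (g * (α g)⁻¹)) (by
      intro a b hab
      have hab' : a⁻¹ * b ∈ S := QuotientGroup.leftRel_apply.mp hab
      have h1 := hS' _ hab'
      show π (a * (α a)⁻¹) = π (b * (α b)⁻¹)
      symm
      refine (QuotientGroup.mk'_eq_mk' N).mpr ⟨(α a) * ((a⁻¹ * b) * (α (a⁻¹ * b))⁻¹)⁻¹ * (α a)⁻¹, ?_, ?_⟩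
      · exact Subgroup.Normal.conj_mem inferInstance _ (N.inv_mem h1) _
      · rw [map_mul, map_inv]; group)
    have hψ : ∀ g : G, ψ (QuotientGroup.mk g) = π (g * (α g)⁻¹) := fun g => rfl
    -- surjection (C.map π) × (G ⧸ S) → G ⧸ N
    let F : (C.map π) × (G ⧸ S) → G ⧸ N := fun p => (p.1 : G ⧸ N) * ψ p.2
    have hF : Function.Surjective F := by
      intro y
      obtain ⟨y, rfl⟩ := QuotientGroup.mk'_surjective N y
      obtain ⟨c, g, hc, hy⟩ := hccp y
      refine ⟨(⟨π c, Subgroup.mem_map_of_mem π ((hmemC c).mpr hc)⟩, QuotientGroup.mk g⁻¹), ?_⟩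
      show π c * ψ (QuotientGroup.mk g⁻¹) = π y
      rw [hψ, ← map_mul, hy, map_inv, inv_inv]
    have hcard1 : Nat.card (G ⧸ N) ≤ Nat.card (C.map π) * S.index := by
      have := Nat.card_le_card_of_surjective F hF
      rwa [Nat.card_prod, ← Subgroup.index_eq_card] at this
    have hidx : (C.map π).index ≤ S.index := by
      have h1 := Subgroup.card_mul_index (C.map π)
      rw [← h1] at hcard1
      exact Nat.le_of_mul_le_mul_left hcard1 Nat.card_pos
    have hidx2 : (C.map π).index = (C ⊔ N).index := by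
      rw [Subgroup.index_map, QuotientGroup.ker_mk', MonoidHom.range_eq_top_of_surjective _ (QuotientGroup.mk'_surjective N), Subgroup.index_top, mul_one]
    have hES : C ⊔ N ≤ S := by
      apply sup_le
      · intro c hc
        rw [hmemS, (hmemC c).mp hc]; simp
      · intro n hn
        rw [hmemS]
        exact N.mul_mem (N.inv_mem hn) (hN n hn)
    have hSE : S ≤ C ⊔ N := by
      rw [← Subgroup.relIndex_eq_one]
      have h1 := Subgroup.relIndex_mul_index hES
      rw [← hidx2] at h1
      have hSpos : 0 < S.index := Nat.pos_of_ne_zero Subgroup.index_ne_zero_of_finite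
      have hrpos : 0 < (C ⊔ N).relIndex S := Nat.pos_of_ne_zero (Subgroup.index_ne_zero_of_finite (H := (C ⊔ N).subgroupOf S))
      have : (C ⊔ N).relIndex S * S.index ≤ 1 * S.index := by rw [h1, one_mul]; exact hidx
      have := Nat.le_of_mul_le_mul_right this hSpos
      omega
    intro x hx
    have hxE : x ∈ C ⊔ N := hSE ((hmemS x).mpr hx)
    rw [Subgroup.mem_sup_of_normal_right] at hxE
    obtain ⟨c, hc, n, hn, rfl⟩ := hxE
    refine ⟨c, (hmemC c).mp hc, ?_⟩
    have : c⁻¹ * (c * n) = n := by group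
    rw [this]; exact hn

end Cfsg.Agent.S4154
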