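import Cfsg.Statements.S4155
import Cfsg.Agent.S4107
import Cfsg.Agent.S0016
import Cfsg.Agent.Lib.Helper9.FpfUnique

set_option autoImplicit false
open Cfsg

namespace Cfsg.Agent.S4155

open scoped IsMulCommutative

/-- The centre of `O_r(G)`, viewed in `G`. -/
def zCore (r : ℕ) (G : Type*) [Group G] : Subgroup G :=
  (Subgroup.center ↥(Cfsg.pCore r G)).map (Cfsg.pCore r G).subtype

theorem zCore_le (r : ℕ) (G : Type*) [Group G] : zCore r G ≤ Cfsg.pCore r G :=
  Subgroup.map_subtype_le _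

instance zCore_normal (r : ℕ) (G : Type*) [Group G] [Finite G] [Fact r.Prime] : (zCore r G).Normal := by
  haveI : (Cfsg.pCore r G).Normal := Cfsg.Agent.Lib.Helper1.pCore_normal r G
  unfold zCore
  exact ConjAct.normal_of_characteristic_of_normal

instance zCore_comm (r : ℕ) (G : Type*) [Group G] : IsMulCommutative ↥(zCore r G) := by
  constructor
  constructor
  rintro ⟨_, ⟨a, ha, rfl⟩⟩ ⟨_, ⟨b, hb, rfl⟩⟩
  apply Subtype.ext
  show ((a : ↥(Cfsg.pCore r G)) : G) * (b : G) = (b : G) * (a : G)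
  have := (Subgroup.mem_center_iff.mp ha) b
  exact (congrArg Subtype.val this).symm

theorem fitting_le_centralizer_zCore (r : ℕ) (G : Type*) [Group G] [Finite G] [hr : Fact r.Prime] :
    Cfsg.fittingSubgroup G ≤ Subgroup.centralizer (zCore r G : Set G) := by
  rw [Cfsg.Agent.Lib.Helper1.fittingSubgroup_eq_iSup_pCore]
  apply iSup_le
  intro p
  haveI : Fact (Nat.Prime (p : ℕ)) := ⟨p.2⟩
  intro x hx
  rw [Subgroup.mem_centralizer_iff]
  rintro _ ⟨c, hc, rfl⟩
  by_cases hpr : (p : ℕ) = r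
  · have hx' : x ∈ Cfsg.pCore r G := by rw [← hpr]; exact hx
    have := (Subgroup.mem_center_iff.mp hc) ⟨x, hx'⟩
    exact (congrArg Subtype.val this).symm
  · exact (Cfsg.Agent.Lib.Helper1.pCore_commute hpr x (c : G) hx c.2).eq.symm

theorem zCore_ne_bot (r : ℕ) (G : Type*) [Group G] [Finite G] [hr : Fact r.Prime]
    (h : Cfsg.pCore r G ≠ ⊥) : zCore r G ≠ ⊥ := by
  haveI : Nontrivial ↥(Cfsg.pCore r G) := (Subgroup.nontrivial_iff_ne_bot _).mpr h
  haveI hcnt : Nontrivial ↥(Subgroup.center ↥(Cfsg.pCore r G)) :=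
    IsPGroup.center_nontrivial (Cfsg.Agent.Lib.Helper12.pCore_isPGroup' r)
  intro hbot
  unfold zCore at hbot
  rw [Subgroup.map_eq_bot_iff_of_injective _ (Subgroup.subtype_injective _)] at hbot
  exact (Subgroup.nontrivial_iff_ne_bot _).mp hcnt hbot

theorem pCore_ne_bot_of_dvd {G : Type*} [Group G] [Finite G] (N : Subgroup G) [hN : N.Normal]
    (hnil : Group.IsNilpotent N) (r : ℕ) [hr : Fact r.Prime] (hdvd : r ∣ Nat.card N) :
    Cfsg.pCore r G ≠ ⊥ := by
  obtain ⟨P⟩ : Nonempty (Sylow r N) := inferInstance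
  have : (P : Subgroup N).Characteristic := Sylow.characteristic_of_normal P inferInstance
  have h1 : ((P : Subgroup N).map N.subtype).Normal := inferInstance
  have h2 : IsPGroup r ((P : Subgroup N).map N.subtype) := P.isPGroup'.map N.subtype
  have h3 : (P : Subgroup N).map N.subtype ≤ Cfsg.pCore r G := Cfsg.Agent.Lib.Helper1.le_pCore h1 h2
  intro hbot
  rw [hbot, le_bot_iff, Subgroup.map_eq_bot_iff_of_injective _ (Subgroup.subtype_injective _)] at h3
  exact P.ne_bot_of_dvd_card hdvd h3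

/-- The action of `G ⧸ N` on `Z(O_r(G))` when `N` centralizes it. -/
noncomputable def quotHom (r : ℕ) (G : Type*) [Group G] [Finite G] [Fact r.Prime] (N : Subgroup G)
    [N.Normal] (hN : N ≤ Subgroup.centralizer (zCore r G : Set G)) : G ⧸ N →* MulAut ↥(zCore r G) :=
  QuotientGroup.lift N (MulAut.conjNormal (H := zCore r G)) (by
    intro n hn
    rw [MonoidHom.mem_ker]
    ext v
    rw [MulAut.conjNormal_apply, MulAut.one_apply]
    have := (Subgroup.mem_centralizer_iff.mp (hN hn)) (v : G) v.2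
    rw [← this, mul_inv_cancel_right])

theorem quotHom_mk (r : ℕ) (G : Type*) [Group G] [Finite G] [Fact r.Prime] (N : Subgroup G)
    [N.Normal] (hN : N ≤ Subgroup.centralizer (zCore r G : Set G)) (x : G) (v : ↥(zCore r G)) :
    ((quotHom r G N hN (QuotientGroup.mk' N x) v : ↥(zCore r G)) : G) = x * v * x⁻¹ := by
  unfold quotHom
  rw [QuotientGroup.mk'_apply, QuotientGroup.lift_mk, MulAut.conjNormal_apply]

theorem quotHom_pow_fix (r : ℕ) (G : Type*) [Group G] [Finite G] [Fact r.Prime] (N : Subgroup G)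
    [N.Normal] (hN : N ≤ Subgroup.centralizer (zCore r G : Set G)) (g : G ⧸ N) (v : ↥(zCore r G))
    (h : quotHom r G N hN g v = v) (k : ℕ) : quotHom r G N hN (g ^ k) v = v := by
  induction k with
  | zero => rw [pow_zero, map_one, MulAut.one_apply]
  | succ k ih => rw [pow_succ, map_mul, MulAut.mul_apply, h, ih]

theorem fpf_aux {G : Type*} [Group G] [Finite G] (N : Subgroup G) [N.Normal]
    (heq : ∀ x : G, x ∉ N → ∀ n ∈ N, orderOf (x * n) = orderOf x) (r q : ℕ) [hr : Fact r.Prime]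
    [hq : Fact q.Prime] (hrq : r ≠ q) (hZN : zCore r G ≤ N)
    (hNc : N ≤ Subgroup.centralizer (zCore r G : Set G)) (xb : G ⧸ N) (hxb1 : xb ≠ 1)
    (hxbq : ∃ a : ℕ, orderOf xb = q ^ a) (v : ↥(zCore r G)) (hfix : quotHom r G N hNc xb v = v) :
    v = 1 := by
  obtain ⟨y, rfl⟩ := QuotientGroup.mk'_surjective N xb
  have ho : orderOf y ≠ 0 := (orderOf_pos _).ne'
  obtain ⟨e, m, hm, hem⟩ := Nat.exists_eq_pow_mul_and_not_dvd ho r hr.out.ne_one
  have hxo : orderOf (y ^ r ^ e) = m := by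
    rw [orderOf_pow_of_dvd (pow_ne_zero e hr.out.ne_zero) (Dvd.intro _ hem.symm), hem,
      Nat.mul_div_cancel_left _ (pow_pos hr.out.pos e)]
  have hxfix := quotHom_pow_fix r G N hNc _ v hfix (r ^ e)
  rw [← map_pow] at hxfix
  have hconj : y ^ r ^ e * (v : G) * (y ^ r ^ e)⁻¹ = (v : G) := by
    rw [← quotHom_mk r G N hNc, hxfix]
  have hxN : y ^ r ^ e ∉ N := by
    intro hmem
    have h1 : (QuotientGroup.mk' N y) ^ r ^ e = 1 := by
      rw [← map_pow]; exact (QuotientGroup.eq_one_iff _).mpr hmem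
    have h2 := orderOf_dvd_of_pow_eq_one h1
    obtain ⟨a, ha⟩ := hxbq
    rw [ha] at h2
    have hcop : Nat.Coprime (q ^ a) (r ^ e) :=
      Nat.Coprime.pow _ _ ((Nat.coprime_primes hq.out hr.out).mpr hrq.symm)
    have h3 := Nat.Coprime.eq_one_of_dvd hcop h2
    rw [← ha] at h3
    exact hxb1 (orderOf_eq_one_iff.mp h3)
  have hvo : ∃ j : ℕ, orderOf (v : G) = r ^ j := by
    have hQp : IsPGroup r ↥(Cfsg.pCore r G) := Cfsg.Agent.Lib.Helper12.pCore_isPGroup' r
    obtain ⟨k, hk⟩ := hQp ⟨(v : G), zCore_le r G v.2⟩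
    have h1 : (v : G) ^ r ^ k = 1 := by
      have := congrArg Subtype.val hk
      simpa using this
    have h2 := orderOf_dvd_of_pow_eq_one h1
    obtain ⟨j, _, hj⟩ := (Nat.dvd_prime_pow hr.out).mp h2
    exact ⟨j, hj⟩
  obtain ⟨j, hj⟩ := hvo
  have hcomm : Commute (y ^ r ^ e) (v : G) := by
    show y ^ r ^ e * (v : G) = (v : G) * y ^ r ^ e
    have := congrArg (· * y ^ r ^ e) hconj
    simpa [mul_assoc] using this
  have hcop2 : (orderOf (y ^ r ^ e)).Coprime (orderOf (v : G)) := by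
    rw [hxo, hj]
    exact Nat.Coprime.pow_right j ((Nat.Prime.coprime_iff_not_dvd hr.out).mpr hm).symm
  have h1 := hcomm.orderOf_mul_eq_mul_orderOf_of_coprime hcop2
  rw [heq _ hxN (v : G) (hZN v.2)] at h1
  have hpos : 0 < orderOf (y ^ r ^ e) := orderOf_pos _
  have h2 : orderOf (v : G) = 1 := by
    have : orderOf (y ^ r ^ e) * 1 = orderOf (y ^ r ^ e) * orderOf (v : G) := by
      rw [mul_one]; exact h1
    exact (Nat.eq_of_mul_eq_mul_left hpos this).symm
  apply Subtype.ext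
  exact orderOf_eq_one_iff.mp h2

/-- Let G be a finite group and N a proper non-trivial normal nilpotent subgroup whose order is not a prime power, such that for every x outside N all elements of the coset xN have the same order as x. Then N is the Fitting subgroup of G, and for every prime q every Sylow q-subgroup of G/N is cyclic or generalized quaternion. -/
theorem result {G : Type*} [Group G] [Finite G] (N : Subgroup G) [N.Normal] (hN1 : N ≠ ⊥) (hN2 : N ≠ ⊤)
    (heq : ∀ x : G, x ∉ N → ∀ n ∈ N, orderOf (x * n) = orderOf x)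
    (hnil : Group.IsNilpotent N) (hnpp : ¬ IsPrimePow (Nat.card N)) :
    N = Cfsg.fittingSubgroup G ∧
    ∀ (q : ℕ) [Fact q.Prime] (Q : Sylow q (G ⧸ N)), IsCyclic (Q : Subgroup (G ⧸ N)) ∨ ∃ n : ℕ, Nonempty ((Q : Subgroup (G ⧸ N)) ≃* QuaternionGroup (2 ^ n)) := by
  have h4107 := Cfsg.Agent.S4107.result N hN1 hN2 heq
  have hNF : N ≤ Cfsg.fittingSubgroup G :=
    Cfsg.Agent.Lib.Helper1.le_fittingSubgroup inferInstance hnil
  have hcard1 : Nat.card ↥N ≠ 1 := fun h => hN1 (Subgroup.card_eq_one.mp h)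
  have hFN : Cfsg.fittingSubgroup G ≤ N := by
    by_contra hnot
    have hlt : N < Cfsg.fittingSubgroup G := lt_of_le_of_ne hNF (fun h => hnot (h ▸ le_rfl))
    have hpp := h4107.2 hlt
    rw [isPrimePow_nat_iff] at hpp
    obtain ⟨r, k, hr, hk, hrk⟩ := hpp
    have hdvd : Nat.card ↥N ∣ r ^ k := hrk ▸ Subgroup.card_dvd_of_le hNF
    obtain ⟨j, hj, hNj⟩ := (Nat.dvd_prime_pow hr).mp hdvd
    apply hnpp
    rw [isPrimePow_nat_iff]
    refine ⟨r, j, hr, ?_, hNj.symm⟩
    rcases Nat.eq_zero_or_pos j with h0 | h0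
    · exfalso; rw [h0, pow_zero] at hNj; exact hcard1 hNj
    · exact h0
  have hNeq : N = Cfsg.fittingSubgroup G := le_antisymm hNF hFN
  refine ⟨hNeq, ?_⟩
  intro q hq Q
  -- a prime `r ≠ q` dividing `|N|`
  have hex : ∃ r : ℕ, r.Prime ∧ r ∣ Nat.card ↥N ∧ r ≠ q := by
    by_contra hcon
    push_neg at hcon
    have hpow := Nat.eq_prime_pow_of_unique_prime_dvd (n := Nat.card ↥N) (p := q)
      Nat.card_pos.ne' (fun {d} hd hdn => hcon d hd hdn)
    apply hnpp
    rw [isPrimePow_nat_iff]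
    refine ⟨q, _, hq.out, ?_, hpow.symm⟩
    rcases Nat.eq_zero_or_pos (Nat.card ↥N).primeFactorsList.length with h0 | h0
    · exfalso; rw [h0, pow_zero] at hpow; exact hcard1 hpow
    · exact h0
  obtain ⟨r, hr, hrN, hrq⟩ := hex
  haveI : Fact r.Prime := ⟨hr⟩
  have hNc : N ≤ Subgroup.centralizer (zCore r G : Set G) :=
    hNF.trans (fitting_le_centralizer_zCore r G)
  have hZN : zCore r G ≤ N := by
    refine (zCore_le r G).trans (le_trans ?_ hFN)
    exact Cfsg.Agent.Lib.Helper1.le_fittingSubgroup (Cfsg.Agent.Lib.Helper1.pCore_normal r G)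
      (Cfsg.Agent.Lib.Helper12.pCore_isPGroup' r).isNilpotent
  have hVne : zCore r G ≠ ⊥ := zCore_ne_bot r G (pCore_ne_bot_of_dvd N hnil r hrN)
  haveI : Nontrivial ↥(zCore r G) := (Subgroup.nontrivial_iff_ne_bot _).mpr hVne
  letI : MulDistribMulAction ↥(Q : Subgroup (G ⧸ N)) ↥(zCore r G) :=
    MulDistribMulAction.compHom ↥(zCore r G)
      ((quotHom r G N hNc).comp (Q : Subgroup (G ⧸ N)).subtype)
  have hf : Cfsg.Agent.Lib.Helper9.IsFpfAction ↥(Q : Subgroup (G ⧸ N)) ↥(zCore r G) := by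
    intro b hb v hv
    apply fpf_aux N heq r q hrq hZN hNc (b : G ⧸ N) (fun h => hb (Subtype.ext h)) ?_ v hv
    obtain ⟨k, hk⟩ := Q.isPGroup' b
    have h1 : (b : G ⧸ N) ^ q ^ k = 1 := by
      have := congrArg Subtype.val hk
      simpa using this
    have h2 := orderOf_dvd_of_pow_eq_one h1
    obtain ⟨j, _, hj⟩ := (Nat.dvd_prime_pow hq.out).mp h2
    exact ⟨j, hj⟩
  have huniq := hf.subgroup_eq_of_card_eq_prime q Q.isPGroup'
  rcases Cfsg.Agent.S0016.result q Q.isPGroup' huniq with h | ⟨_, n, hn⟩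
  · exact Or.inl h
  · exact Or.inr ⟨n, hn⟩

end Cfsg.Agent.S4155
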