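import Cfsg.Statements.S4156
import Mathlib
-- import your own Cfsg.Agent.* helpers here


set_option autoImplicit false
open Cfsg

namespace Cfsg.Agent.S4156


noncomputable def permRep (n : ℕ) (F : Type*) [Field F] :
    Equiv.Perm (Fin (n+1)) →* Matrix (Fin n) (Fin n) F where
  toFun σ := Matrix.of fun j i =>
    (if Fin.castSucc j = σ (Fin.castSucc i) then (1:F) else 0) -
      (if Fin.castSucc j = σ (Fin.last n) then 1 else 0)
  map_one' := by
    ext j i
    simp only [Matrix.of_apply, Equiv.Perm.coe_one, id_eq, Fin.castSucc_inj, Matrix.one_apply]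
    have : Fin.castSucc j ≠ Fin.last n := Fin.castSucc_ne_last j
    simp [this]
  map_mul' σ τ := by
    ext l i
    simp only [Matrix.mul_apply, Matrix.of_apply, Equiv.Perm.mul_apply]
    set A : Fin (n+1) → F := fun j' => (if Fin.castSucc l = σ j' then (1:F) else 0) -
      (if Fin.castSucc l = σ (Fin.last n) then 1 else 0) with hA
    set B : Fin (n+1) → F := fun j' => (if j' = τ (Fin.castSucc i) then (1:F) else 0) -
      (if j' = τ (Fin.last n) then 1 else 0) with hB
    have hAN : A (Fin.last n) = 0 := sub_self _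
    have h1 : ∑ j : Fin n, A (Fin.castSucc j) * B (Fin.castSucc j) =
        ∑ j' : Fin (n+1), A j' * B j' := by
      rw [Fin.sum_univ_castSucc, hAN, zero_mul, add_zero]
    have h2 : ∑ j' : Fin (n+1), A j' * B j' = A (τ (Fin.castSucc i)) - A (τ (Fin.last n)) := by
      simp only [hB, mul_sub, Finset.sum_sub_distrib, mul_ite, mul_one, mul_zero,
        Finset.sum_ite_eq', Finset.mem_univ, if_true]
    have h3 : ∑ j : Fin n, A (Fin.castSucc j) * B (Fin.castSucc j) =
        A (τ (Fin.castSucc i)) - A (τ (Fin.last n)) := h1.trans h2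
    simp only [hA, hB] at h3
    rw [h3, sub_sub_sub_cancel_right]
    rfl

theorem permRep_apply (n : ℕ) (F : Type*) [Field F] (σ : Equiv.Perm (Fin (n+1))) (j i : Fin n) :
    permRep n F σ j i = (if Fin.castSucc j = σ (Fin.castSucc i) then (1:F) else 0) -
      (if Fin.castSucc j = σ (Fin.last n) then 1 else 0) := rfl

theorem det_permRep_eq_one (n : ℕ) (hn : 5 ≤ n) (F : Type*) [Field F]
    (σ : alternatingGroup (Fin (n + 1))) : (permRep n F (σ : Equiv.Perm (Fin (n+1)))).det = 1 := by
  let d : alternatingGroup (Fin (n + 1)) →* F :=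
    (Matrix.detMonoidHom (n := Fin n) (R := F)).comp
      ((permRep n F).comp (alternatingGroup (Fin (n + 1))).subtype)
  have hker : commutator (alternatingGroup (Fin (n + 1))) ≤ d.toHomUnits.ker :=
    Abelianization.commutator_subset_ker d.toHomUnits
  have htop : commutator (alternatingGroup (Fin (n + 1))) = ⊤ :=
    commutator_alternatingGroup_eq_top (by simp; omega)
  rw [htop] at hker
  have hσ : σ ∈ d.toHomUnits.ker := hker (Subgroup.mem_top σ)
  rw [MonoidHom.mem_ker] at hσ
  have := congrArg Units.val hσ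
  simpa [d] using this

noncomputable def altToSL (n : ℕ) (hn : 5 ≤ n) (F : Type*) [Field F] :
    alternatingGroup (Fin (n + 1)) →* Matrix.SpecialLinearGroup (Fin n) F where
  toFun σ := (⟨permRep n F (σ : Equiv.Perm (Fin (n+1))), det_permRep_eq_one n hn F σ⟩ :
    Matrix.SpecialLinearGroup (Fin n) F)
  map_one' := by
    apply Subtype.ext
    show permRep n F ((1 : alternatingGroup (Fin (n + 1))) : Equiv.Perm (Fin (n+1))) = 1
    rw [Subgroup.coe_one, map_one]
  map_mul' σ τ := by
    apply Subtype.ext
    show permRep n F ((σ * τ : alternatingGroup (Fin (n + 1))) : Equiv.Perm (Fin (n+1))) =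
      permRep n F (σ : Equiv.Perm (Fin (n+1))) * permRep n F (τ : Equiv.Perm (Fin (n+1)))
    rw [Subgroup.coe_mul, map_mul]

/-- Let n ≥ 5 and F a finite field. Then the projective special linear group PSL_n(F) contains a subgroup isomorphic to the alternating group of degree n + 1. -/
theorem result (n : ℕ) (hn : 5 ≤ n) (F : Type*) [Field F] [Finite F] :
    ∃ f : alternatingGroup (Fin (n + 1)) →* Matrix.ProjectiveSpecialLinearGroup (Fin n) F, Function.Injective f := by
  classical
  let f : alternatingGroup (Fin (n + 1)) →* Matrix.ProjectiveSpecialLinearGroup (Fin n) F :=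
    (QuotientGroup.mk' (Subgroup.center (Matrix.SpecialLinearGroup (Fin n) F))).comp
      (altToSL n hn F)
  refine ⟨f, ?_⟩
  have hsimple : IsSimpleGroup (alternatingGroup (Fin (n + 1))) :=
    alternatingGroup.isSimpleGroup (by simp; omega)
  rw [← MonoidHom.ker_eq_bot_iff]
  rcases hsimple.eq_bot_or_eq_top_of_normal f.ker inferInstance with h | h
  · exact h
  · exfalso
    -- the 3-cycle (0 1 2)
    let a : Fin (n + 1) := ⟨0, by omega⟩
    let b : Fin (n + 1) := ⟨1, by omega⟩
    let d : Fin (n + 1) := ⟨2, by omega⟩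
    have hab : a ≠ b := by simp [a, b, Fin.ext_iff]
    have had : a ≠ d := by simp [a, d, Fin.ext_iff]
    have hbd : b ≠ d := by simp [b, d, Fin.ext_iff]
    have hcmem : Equiv.swap a b * Equiv.swap b d ∈ alternatingGroup (Fin (n + 1)) := by
      rw [Equiv.Perm.mem_alternatingGroup, Equiv.Perm.sign_mul, Equiv.Perm.sign_swap hab,
        Equiv.Perm.sign_swap hbd]
      simp
    have hc : (⟨Equiv.swap a b * Equiv.swap b d, hcmem⟩ : alternatingGroup (Fin (n + 1))) ∈ f.ker := by
      rw [h]; trivial
    rw [MonoidHom.mem_ker] at hc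
    have hc2 : altToSL n hn F ⟨Equiv.swap a b * Equiv.swap b d, hcmem⟩ ∈
        Subgroup.center (Matrix.SpecialLinearGroup (Fin n) F) :=
      (QuotientGroup.eq_one_iff _).1 hc
    obtain ⟨r, _, hr⟩ := Matrix.SpecialLinearGroup.mem_center_iff.1 hc2
    have hentry := congrFun (congrFun hr (⟨1, by omega⟩ : Fin n)) (⟨0, by omega⟩ : Fin n)
    have h10 : (⟨1, by omega⟩ : Fin n) ≠ (⟨0, by omega⟩ : Fin n) := by simp [Fin.ext_iff]
    rw [Matrix.scalar_apply, Matrix.diagonal_apply_ne _ h10] at hentry
    have hval : (altToSL n hn F ⟨Equiv.swap a b * Equiv.swap b d, hcmem⟩ :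
        Matrix (Fin n) (Fin n) F) (⟨1, by omega⟩ : Fin n) (⟨0, by omega⟩ : Fin n) = 1 := by
      show permRep n F (Equiv.swap a b * Equiv.swap b d) _ _ = 1
      rw [permRep_apply]
      have e1 : Fin.castSucc (⟨0, by omega⟩ : Fin n) = a := rfl
      have e2 : Fin.castSucc (⟨1, by omega⟩ : Fin n) = b := rfl
      have hla : Fin.last n ≠ a := by simp [a, Fin.ext_iff]; omega
      have hlb : Fin.last n ≠ b := by simp [b, Fin.ext_iff]; omega
      have hld : Fin.last n ≠ d := by simp [d, Fin.ext_iff]; omega
      have c1 : (Equiv.swap a b * Equiv.swap b d) a = b := by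
        rw [Equiv.Perm.mul_apply, Equiv.swap_apply_of_ne_of_ne hab had, Equiv.swap_apply_left]
      have c2 : (Equiv.swap a b * Equiv.swap b d) (Fin.last n) = Fin.last n := by
        rw [Equiv.Perm.mul_apply, Equiv.swap_apply_of_ne_of_ne hlb hld,
          Equiv.swap_apply_of_ne_of_ne hla hlb]
      rw [e1, e2, c1, c2, if_pos rfl, if_neg hlb.symm, sub_zero]
    rw [hval] at hentry
    exact zero_ne_one hentry

end Cfsg.Agent.S4156
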