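import Cfsg.Statements.S4160
import Mathlib
-- import your own Cfsg.Agent.* helpers here

set_option autoImplicit false
open Cfsg

namespace Cfsg.Agent.S4160

/-- a subgroup of index prime to `p` contains a Sylow `p`-subgroup. -/
theorem exists_sylow_le_of_not_dvd_index {G : Type*} [Group G] [Finite G] {p : ℕ} [hpp : Fact p.Prime]
    (B : Subgroup G) (h : ¬ p ∣ B.index) :
    ∃ S : Sylow p G, (S : Subgroup G) ≤ B := by
  obtain ⟨P₀⟩ : Nonempty (Sylow p B) := inferInstance
  have hpg : IsPGroup p ((P₀ : Subgroup B).map B.subtype) := P₀.isPGroup'.map B.subtype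
  have hidx2 : ¬ p ∣ ((P₀ : Subgroup B).map B.subtype).index := by
    rw [Subgroup.index_map_subtype]
    exact Nat.Prime.not_dvd_mul hpp.out P₀.not_dvd_index h
  refine ⟨hpg.toSylow hidx2, ?_⟩
  show (P₀ : Subgroup B).map B.subtype ≤ B
  exact Subgroup.map_subtype_le _

/-- The set of non-identity elements lying in some conjugate of `H`. -/
def conjCover {G : Type*} [Group G] (H : Subgroup G) : Set G :=
  {x | x ≠ 1 ∧ ∃ g : G, g⁻¹ * x * g ∈ H}

/-- The non-identity elements lying in some conjugate of `H` number at most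
`[G:N(H)]·(|H|−1)`. -/
theorem ncard_conjCover_le {G : Type*} [Group G] [Finite G] (H : Subgroup G) :
    (conjCover H).ncard ≤ (Subgroup.normalizer (H : Set G)).index * (Nat.card H - 1) := by
  classical
  have hcard : Nat.card {h : H // h ≠ 1} = Nat.card H - 1 := by
    have := Set.ncard_compl ({1} : Set H)
    rw [Set.ncard_singleton] at this
    rw [← this]
    rfl
  rw [← hcard, Subgroup.index_eq_card, ← Nat.card_prod, ← Nat.card_coe_set_eq]
  let f : (G ⧸ Subgroup.normalizer (H : Set G)) × {h : H // h ≠ 1} → conjCover H := fun qh =>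
    ⟨qh.1.out * (qh.2.1 : G) * qh.1.out⁻¹, by
      refine ⟨?_, qh.1.out, ?_⟩
      · intro h1
        apply qh.2.2
        have : (qh.2.1 : G) = 1 := by
          have h2 : (qh.2.1 : G) = qh.1.out⁻¹ * (qh.1.out * (qh.2.1 : G) * qh.1.out⁻¹) * qh.1.out := by
            group
          rw [h2, h1]; group
        exact Subtype.ext this
      · have : qh.1.out⁻¹ * (qh.1.out * (qh.2.1 : G) * qh.1.out⁻¹) * qh.1.out = (qh.2.1 : G) := by
          group
        rw [this]; exact qh.2.1.2⟩
  apply Nat.card_le_card_of_surjective f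
  rintro ⟨x, hx1, g, hg⟩
  obtain ⟨n, hn⟩ : ∃ n : Subgroup.normalizer (H : Set G),
      (QuotientGroup.mk g : G ⧸ Subgroup.normalizer (H : Set G)).out = g * n :=
    QuotientGroup.mk_out_eq_mul _ g
  have hmem : (g * n)⁻¹ * x * (g * n) ∈ H := by
    have h2 : (g * n)⁻¹ * x * (g * n) = (n : G)⁻¹ * (g⁻¹ * x * g) * ((n : G)⁻¹)⁻¹ := by group
    rw [h2]
    have hn' : (n : G)⁻¹ ∈ Subgroup.normalizer (H : Set G) := inv_mem n.2
    exact (Subgroup.mem_normalizer_iff.mp hn' _).mp hg
  refine ⟨⟨QuotientGroup.mk g, ⟨⟨(g * n)⁻¹ * x * (g * n), hmem⟩, ?_⟩⟩, ?_⟩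
  · intro h1
    apply hx1
    have h2 : (g * n)⁻¹ * x * (g * n) = 1 := congrArg Subtype.val h1
    have h3 : x = (g * n) * ((g * n)⁻¹ * x * (g * n)) * (g * n)⁻¹ := by group
    rw [h3, h2]; group
  · apply Subtype.ext
    show (QuotientGroup.mk g : G ⧸ Subgroup.normalizer (H : Set G)).out *
      ((g * n)⁻¹ * x * (g * n)) * (QuotientGroup.mk g : G ⧸ Subgroup.normalizer (H : Set G)).out⁻¹ = x
    rw [hn]; group

/-- If `G` minus the identity is covered by the conjugates of `H` and `K`, one of `H`, `K`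
is self-normalizing. -/
theorem self_normalizing_of_cover {G : Type*} [Group G] [Finite G] (H K : Subgroup G)
    (hcov : ∀ x : G, x ≠ 1 → x ∈ conjCover H ∨ x ∈ conjCover K) :
    Subgroup.normalizer (H : Set G) = H ∨ Subgroup.normalizer (K : Set G) = K := by
  by_contra hcon
  push Not at hcon
  obtain ⟨hH, hK⟩ := hcon
  have key : ∀ L : Subgroup G, Subgroup.normalizer (L : Set G) ≠ L →
      2 * ((Subgroup.normalizer (L : Set G)).index * Nat.card L) ≤ Nat.card G := by
    intro L hL
    have h1 := (Subgroup.normalizer (L : Set G)).index_mul_card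
    have hle : L ≤ Subgroup.normalizer (L : Set G) := Subgroup.le_normalizer
    have hdvd : Nat.card L ∣ Nat.card (Subgroup.normalizer (L : Set G)) :=
      Subgroup.card_dvd_of_le hle
    obtain ⟨c, hc⟩ := hdvd
    have hc2 : 2 ≤ c := by
      by_contra hlt
      push Not at hlt
      interval_cases c
      · have : 0 < Nat.card (Subgroup.normalizer (L : Set G)) := Nat.card_pos
        omega
      · apply hL
        exact (Subgroup.eq_of_le_of_card_ge hle (by omega)).symm
    rw [← h1, hc]
    calc 2 * ((Subgroup.normalizer (L : Set G)).index * Nat.card L)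
        ≤ c * ((Subgroup.normalizer (L : Set G)).index * Nat.card L) :=
          Nat.mul_le_mul_right _ hc2
      _ = (Subgroup.normalizer (L : Set G)).index * (Nat.card L * c) := by ring
  have kH := key H hH
  have kK := key K hK
  have cH := ncard_conjCover_le H
  have cK := ncard_conjCover_le K
  have hsub : ({1}ᶜ : Set G) ⊆ conjCover H ∪ conjCover K := by
    intro x hx
    exact hcov x hx
  have h1 : ({1}ᶜ : Set G).ncard ≤ (conjCover H ∪ conjCover K).ncard :=
    Set.ncard_le_ncard hsub (Set.toFinite _)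
  have h2 := Set.ncard_union_le (conjCover H) (conjCover K)
  have h3 := Set.ncard_compl ({1} : Set G)
  rw [Set.ncard_singleton] at h3
  have ia : 0 < (Subgroup.normalizer (H : Set G)).index := Nat.pos_of_ne_zero Subgroup.index_ne_zero_of_finite
  have ib : 0 < (Subgroup.normalizer (K : Set G)).index := Nat.pos_of_ne_zero Subgroup.index_ne_zero_of_finite
  have pH : 0 < Nat.card H := Nat.card_pos
  have pK : 0 < Nat.card K := Nat.card_pos
  rw [Nat.mul_sub_one] at cH cK
  have xa : (Subgroup.normalizer (H : Set G)).index ≤ (Subgroup.normalizer (H : Set G)).index * Nat.card H :=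
    Nat.le_mul_of_pos_right _ pH
  have xb : (Subgroup.normalizer (K : Set G)).index ≤ (Subgroup.normalizer (K : Set G)).index * Nat.card K :=
    Nat.le_mul_of_pos_right _ pK
  omega

theorem hasNormalPComplement_of_self_normalizing {G : Type*} [Group G] [Finite G] (p : ℕ)
    [Fact p.Prime] (P : Sylow p G)
    (hN : Subgroup.normalizer ((Subgroup.centralizer ((P : Subgroup G) : Set G) : Subgroup G) : Set G)
      = Subgroup.centralizer ((P : Subgroup G) : Set G)) :
    Cfsg.HasNormalPComplement p G := by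
  have hP : Subgroup.normalizer ((P : Subgroup G) : Set G) ≤ Subgroup.centralizer ((P : Subgroup G) : Set G) := by
    rw [← hN]
    intro n hn
    rw [Subgroup.mem_normalizer_iff] at hn ⊢
    have key : ∀ m : G, m ∈ Subgroup.normalizer ((P : Subgroup G) : Set G) → ∀ c : G,
        c ∈ Subgroup.centralizer ((P : Subgroup G) : Set G) →
        m * c * m⁻¹ ∈ Subgroup.centralizer ((P : Subgroup G) : Set G) := by
      intro m hm c hc
      rw [Subgroup.mem_centralizer_iff] at hc ⊢
      intro y hy
      have hy' : m⁻¹ * y * m⁻¹⁻¹ ∈ (P : Subgroup G) :=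
        (Subgroup.mem_normalizer_iff.mp (inv_mem hm) y).mp hy
      have := hc _ hy'
      calc y * (m * c * m⁻¹) = m * ((m⁻¹ * y * m⁻¹⁻¹) * c) * m⁻¹ := by group
        _ = m * (c * (m⁻¹ * y * m⁻¹⁻¹)) * m⁻¹ := by rw [this]
        _ = m * c * m⁻¹ * y := by group
    intro c
    constructor
    · intro hc
      exact key n (Subgroup.mem_normalizer_iff.mpr hn) c hc
    · intro hc
      have := key n⁻¹ (inv_mem (Subgroup.mem_normalizer_iff.mpr hn)) _ hc
      have h2 : n⁻¹ * (n * c * n⁻¹) * n⁻¹⁻¹ = c := by group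
      rwa [h2] at this
  exact ⟨P, (MonoidHom.transferSylow P hP).ker, inferInstance,
    MonoidHom.ker_transferSylow_isComplement' P hP⟩

theorem mem_conjCover_of_not_dvd {G : Type*} [Group G] [Finite G] (p : ℕ)
    [Fact p.Prime] (P : Sylow p G) (x : G) (hx : x ≠ 1)
    (h : ¬ p ∣ (Subgroup.centralizer ({x} : Set G)).index) :
    x ∈ conjCover (Subgroup.centralizer ((P : Subgroup G) : Set G)) := by
  obtain ⟨S, hS⟩ := exists_sylow_le_of_not_dvd_index (p := p) _ h
  obtain ⟨g, hg⟩ := MulAction.exists_smul_eq G S P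
  refine ⟨hx, g⁻¹, ?_⟩
  rw [Subgroup.mem_centralizer_iff]
  intro y hy
  -- y ∈ P = g • S, so g⁻¹ y g ∈ S ≤ C(x)
  have hy2 : y ∈ ((g • S : Sylow p G) : Subgroup G) := by rw [hg]; exact hy
  rw [Sylow.coe_subgroup_smul, Subgroup.mem_pointwise_smul_iff_inv_smul_mem] at hy2
  have hy3 : g⁻¹ * y * g ∈ (S : Subgroup G) := by
    have : (MulAut.conj g)⁻¹ • y = g⁻¹ * y * g := by
      rw [← map_inv, MulAut.smul_def, MulAut.conj_apply, inv_inv]
    rwa [this] at hy2
  have hc := hS hy3
  rw [Subgroup.mem_centralizer_iff] at hc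
  have hc2 := hc x rfl
  calc y * (g⁻¹⁻¹ * x * g⁻¹) = g * ((g⁻¹ * y * g) * x) * g⁻¹ := by group
    _ = g * (x * (g⁻¹ * y * g)) * g⁻¹ := by rw [hc2]
    _ = g⁻¹⁻¹ * x * g⁻¹ * y := by group


/-- Let G be a finite group and p ≠ q primes each dividing the size of some conjugacy class of G, such that no conjugacy class size is divisible by pq. Then G has a normal p-complement or a normal q-complement. -/
theorem result {G : Type*} [Group G] [Finite G] (p q : ℕ) (hp : p.Prime) (hq : q.Prime) (hpq : p ≠ q)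
    (hp' : ∃ x : G, p ∣ (Subgroup.centralizer ({x} : Set G)).index) (hq' : ∃ x : G, q ∣ (Subgroup.centralizer ({x} : Set G)).index) (h : ∀ x : G, ¬ p * q ∣ (Subgroup.centralizer ({x} : Set G)).index) :
    Cfsg.HasNormalPComplement p G ∨ Cfsg.HasNormalPComplement q G := by
  have := Fact.mk hp
  have := Fact.mk hq
  obtain ⟨P⟩ : Nonempty (Sylow p G) := inferInstance
  obtain ⟨Q⟩ : Nonempty (Sylow q G) := inferInstance
  have hcov : ∀ x : G, x ≠ 1 → x ∈ conjCover (Subgroup.centralizer ((P : Subgroup G) : Set G)) ∨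
      x ∈ conjCover (Subgroup.centralizer ((Q : Subgroup G) : Set G)) := by
    intro x hx
    by_cases h1 : p ∣ (Subgroup.centralizer ({x} : Set G)).index
    · right
      apply mem_conjCover_of_not_dvd q Q x hx
      intro h2
      exact h x (Nat.Coprime.mul_dvd_of_dvd_of_dvd ((Nat.coprime_primes hp hq).mpr hpq) h1 h2)
    · left
      exact mem_conjCover_of_not_dvd p P x hx h1
  rcases self_normalizing_of_cover _ _ hcov with h1 | h1
  · left; exact hasNormalPComplement_of_self_normalizing p P h1
  · right; exact hasNormalPComplement_of_self_normalizing q Q h1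

end Cfsg.Agent.S4160
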