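import Cfsg.Statements.S4168
-- import your own Cfsg.Agent.* helpers here
import Cfsg.Agent.Lib.Helper22.Basic

set_option autoImplicit false
open Cfsg

namespace Cfsg.Agent.S4168

/-- Let L be a finite quasisimple group (perfect with L/Z(L) simple). Then every prime dividing the order of the centre Z(L) also divides the order of L/Z(L). -/
theorem result {L : Type*} [Group L] [Finite L] (hL : Cfsg.IsQuasisimple L)
    (p : ℕ) (hp : p.Prime) (hdiv : p ∣ Nat.card (Subgroup.center L)) : p ∣ (Subgroup.center L).index := by
  classical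
  by_contra hnd
  haveI : Fact p.Prime := ⟨hp⟩
  haveI : Group.IsPerfect L := hL.1
  obtain ⟨P⟩ : Nonempty (Sylow p L) := inferInstance
  have hPZ : (P : Subgroup L) ≤ Subgroup.center L :=
    Cfsg.Agent.Lib.Helper22.sylow_le_of_not_dvd_index P (Subgroup.center L) hnd
  have hNC : Subgroup.normalizer (P : Set L) ≤ Subgroup.centralizer (P : Set L) := by
    intro g _
    rw [Subgroup.mem_centralizer_iff]
    intro h hh
    exact ((Subgroup.mem_center_iff.mp (hPZ hh)) g).symm
  have hbot := Cfsg.Agent.Lib.Helper22.sylow_eq_bot_of_isPerfect P hNC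
  -- but p ∣ |L|
  have hpL : p ∣ Nat.card L := hdiv.trans (Subgroup.card_subgroup_dvd_card _)
  have := P.ne_bot_of_dvd_card hpL
  exact this hbot

end Cfsg.Agent.S4168
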