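import Cfsg.Statements.S4170
-- import your own Cfsg.Agent.* helpers here
import Mathlib

set_option autoImplicit false
open scoped Pointwise
open Cfsg

namespace Cfsg.Agent.S4170

/-- Let p be an odd prime and G a nontrivial group of permutations of a finite set Ω that is generated by its elements of p-power order. Then Ω has two disjoint nonempty subsets Δ₁ and Δ₂ such that the index in G of the subgroup of elements mapping Δ₁ onto Δ₁ and Δ₂ onto Δ₂ (and hence also the complement of their union onto itself) is divisible by p. -/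
theorem result {Ω : Type*} [Fintype Ω] (p : ℕ) [Fact p.Prime] (hp : p ≠ 2) (G : Subgroup (Equiv.Perm Ω)) (hG : G ≠ ⊥) (hgen : Subgroup.closure {g : G | ∃ k : ℕ, orderOf g = p ^ k} = ⊤) :
    ∃ Δ₁ Δ₂ : Set Ω, Δ₁.Nonempty ∧ Δ₂.Nonempty ∧ Disjoint Δ₁ Δ₂ ∧ p ∣ (MulAction.stabilizer G Δ₁ ⊓ MulAction.stabilizer G Δ₂).index := by
  classical
  have hp := (Fact.out : p.Prime)
  -- Step 1: an element of order p
  obtain ⟨x, hx⟩ : ∃ x : G, orderOf x = p := by
    have hex : ∃ g : G, (∃ k : ℕ, orderOf g = p ^ k) ∧ g ≠ 1 := by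
      by_contra hcon
      push Not at hcon
      have h1 : Subgroup.closure {g : G | ∃ k : ℕ, orderOf g = p ^ k} ≤ ⊥ := by
        rw [Subgroup.closure_le]
        intro g hg
        rw [SetLike.mem_coe, Subgroup.mem_bot]
        exact hcon g hg
      rw [hgen] at h1
      apply hG
      rw [Subgroup.eq_bot_iff_forall]
      intro g hg
      have h2 : (⟨g, hg⟩ : G) ∈ (⊥ : Subgroup G) := h1 (Subgroup.mem_top _)
      rw [Subgroup.mem_bot] at h2
      exact congrArg Subtype.val h2
    obtain ⟨g, ⟨k, hk⟩, hg1⟩ := hex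
    have hk0 : k ≠ 0 := by
      rintro rfl
      rw [pow_zero, orderOf_eq_one_iff] at hk
      exact hg1 hk
    have hdvd : p ∣ Nat.card G := by
      have h1 : p ∣ orderOf g := by rw [hk]; exact dvd_pow_self p hk0
      exact h1.trans (orderOf_dvd_natCard g)
    exact exists_prime_orderOf_dvd_card' p hdvd
  have hx1 : x ≠ 1 := by
    intro h
    rw [h, orderOf_one] at hx
    exact hp.one_lt.ne hx
  obtain ⟨a, ha⟩ : ∃ a : Ω, x • a ≠ a := by
    by_contra hcon
    push Not at hcon
    apply hx1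
    apply Subtype.ext
    apply Equiv.ext
    intro ω
    exact hcon ω
  -- Step 2: the orbit of `a` under `x`
  set Z : Subgroup G := Subgroup.zpowers x with hZ
  set S : Set Ω := MulAction.orbit Z a with hS
  have haS : a ∈ S := MulAction.mem_orbit_self a
  have hxaS : x • a ∈ S := ⟨⟨x, Subgroup.mem_zpowers x⟩, rfl⟩
  have hxS : x • S = S := MulAction.smul_orbit (⟨x, Subgroup.mem_zpowers x⟩ : Z) a
  have hScard : S.ncard ∣ p := by
    rw [hS, ← MulAction.index_stabilizer, ← hx, ← Nat.card_zpowers]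
    exact Subgroup.index_dvd_card _
  have hSfin : S.Finite := Set.toFinite S
  have hΔ2card : (S \ {a}).ncard < p := by
    have h1 : (S \ {a}).ncard < S.ncard := Set.ncard_diff_singleton_lt_of_mem haS hSfin
    have h2 : S.ncard ≤ p := Nat.le_of_dvd hp.pos hScard
    omega
  refine ⟨{a}, S \ {a}, Set.singleton_nonempty a, ⟨x • a, hxaS, ha⟩, Set.disjoint_sdiff_right, ?_⟩
  by_contra hnd
  set T : Subgroup G :=
    MulAction.stabilizer G ({a} : Set Ω) ⊓ MulAction.stabilizer G (S \ {a}) with hT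
  set N : Subgroup G := MulAction.stabilizer G S with hN
  have hTN : T ≤ N := by
    intro g hg
    rw [hT, Subgroup.mem_inf, MulAction.mem_stabilizer_iff, MulAction.mem_stabilizer_iff] at hg
    rw [hN, MulAction.mem_stabilizer_iff]
    have h1 : S = {a} ∪ (S \ {a}) := by
      rw [Set.union_diff_self, Set.union_eq_self_of_subset_left (Set.singleton_subset_iff.mpr haS)]
    rw [h1, Set.smul_set_union, hg.1, hg.2]
  have hxN : x ∈ N := by rw [hN, MulAction.mem_stabilizer_iff]; exact hxS
  have hrel : ¬ p ∣ (T.subgroupOf N).index := by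
    intro h
    apply hnd
    have h1 : T.relIndex N ∣ T.index := Subgroup.relIndex_dvd_index_of_le hTN
    exact h.trans h1
  -- Step 3: fixed point on cosets
  let x' : N := ⟨x, hxN⟩
  have hPg : IsPGroup p (Subgroup.zpowers x') := by
    apply IsPGroup.of_card (n := 1)
    rw [Nat.card_zpowers, pow_one, ← hx]
    exact Subgroup.orderOf_mk x hxN
  have hcard : ¬ p ∣ Nat.card (N ⧸ T.subgroupOf N) := hrel
  obtain ⟨q, hq⟩ := hPg.nonempty_fixed_point_of_prime_not_dvd_card (N ⧸ T.subgroupOf N) hcard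
  obtain ⟨n, rfl⟩ := QuotientGroup.mk_surjective q
  have hfix := hq ⟨x', Subgroup.mem_zpowers x'⟩
  have hfix' : ((x' * n : N) : N ⧸ T.subgroupOf N) = (n : N ⧸ T.subgroupOf N) := hfix
  have hmem : n⁻¹ * (x' * n) ∈ T.subgroupOf N := by
    rw [← QuotientGroup.eq]
    exact hfix'.symm
  set y : G := ((n⁻¹ * (x' * n) : N) : G) with hy
  have hyT : y ∈ T := by rwa [Subgroup.mem_subgroupOf] at hmem
  have hyeq : y = (n : G)⁻¹ * x * n := by simp [hy, x', mul_assoc]
  have hyord : orderOf y = p := by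
    have h1 : y = MulAut.conj (n : G)⁻¹ x := by rw [hyeq]; simp [MulAut.conj_apply]
    rw [h1, MulEquiv.orderOf_eq, hx]
  rw [hT, Subgroup.mem_inf, MulAction.mem_stabilizer_iff, MulAction.mem_stabilizer_iff] at hyT
  have hya : y • a = a := by
    have h1 : y • a ∈ y • ({a} : Set Ω) := Set.smul_mem_smul_set (Set.mem_singleton a)
    rw [hyT.1] at h1
    exact h1
  have hyS : ∀ s ∈ S, y • s = s := by
    intro s hs
    by_cases hsa : s = a
    · rw [hsa]; exact hya
    have hsΔ : s ∈ S \ {a} := ⟨hs, hsa⟩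
    set Q : Subgroup G := Subgroup.zpowers y with hQ
    have hQp : IsPGroup p Q := by
      apply IsPGroup.of_card (n := 1)
      rw [Nat.card_zpowers, pow_one, hyord]
    have hQle : Q ≤ MulAction.stabilizer G (S \ {a}) := by
      rw [hQ, Subgroup.zpowers_le, MulAction.mem_stabilizer_iff]; exact hyT.2
    have hsub : MulAction.orbit Q s ⊆ S \ {a} := by
      rintro _ ⟨q, rfl⟩
      have h1 := hQle q.2
      rw [MulAction.mem_stabilizer_iff] at h1
      have h2 : (q : G) • s ∈ (q : G) • (S \ {a}) := Set.smul_mem_smul_set hsΔ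
      rw [h1] at h2
      exact h2
    have hle : (MulAction.orbit Q s).ncard ≤ (S \ {a}).ncard :=
      Set.ncard_le_ncard hsub (Set.toFinite _)
    obtain ⟨j, hj⟩ := hQp.index (MulAction.stabilizer Q s)
    rw [MulAction.index_stabilizer] at hj
    have hj0 : j = 0 := by
      by_contra h
      have h3 : p ≤ p ^ j := Nat.le_self_pow h p
      omega
    rw [hj0, pow_zero, Set.ncard_eq_one] at hj
    obtain ⟨b, hb⟩ := hj
    have h1 : s ∈ MulAction.orbit Q s := MulAction.mem_orbit_self s
    have h2 : y • s ∈ MulAction.orbit Q s := ⟨⟨y, Subgroup.mem_zpowers y⟩, rfl⟩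
    rw [hb, Set.mem_singleton_iff] at h1 h2
    rw [h2, h1]
  -- Step 4: contradiction
  apply ha
  have hn : (n : G) • S = S := MulAction.mem_stabilizer_iff.mp n.2
  have h1 : (n : G)⁻¹ • a ∈ S := by
    have h2 : (n : G)⁻¹ • a ∈ (n : G)⁻¹ • S := Set.smul_mem_smul_set haS
    rwa [inv_smul_eq_iff.mpr hn.symm] at h2
  have h2 := hyS _ h1
  have hxeq : x = (n : G) * y * (n : G)⁻¹ := by rw [hyeq]; group
  rw [hxeq, mul_smul, mul_smul, h2, smul_inv_smul]

end Cfsg.Agent.S4170
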