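import Cfsg.Statements.S4177
-- import your own Cfsg.Agent.* helpers here
import Cfsg.Agent.Lib.Helper22.ConjCount
import Cfsg.Agent.Lib.Helper22.Basic

set_option autoImplicit false
open Cfsg

namespace Cfsg.Agent.S4177


theorem invariants_le_span {k V H : Type*} [Field k] [AddCommGroup V] [Module k V] [Group H]
    [Fintype H] (hchar : ¬ ringChar k ∣ Nat.card H) (ρ : Representation k H V) (a : V)
    (hspan : Submodule.span k {u : V | ∃ h : H, ρ h a = u} = ⊤) :
    ρ.invariants ≤ Submodule.span k {∑ h : H, ρ h a} := by
  intro v hv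
  have hS : ∀ w : V, (∑ h : H, ρ h w) ∈ Submodule.span k {∑ h : H, ρ h a} := by
    intro w
    have hw : w ∈ Submodule.span k {u : V | ∃ h : H, ρ h a = u} := by rw [hspan]; trivial
    induction hw using Submodule.span_induction with
    | mem u hu =>
      obtain ⟨h₀, rfl⟩ := hu
      have : ∑ h : H, ρ h (ρ h₀ a) = ∑ h : H, ρ h a := by
        have : ∀ h : H, ρ h (ρ h₀ a) = ρ (h * h₀) a := by intro h; rw [map_mul]; rfl
        simp_rw [this]
        exact Fintype.sum_equiv (Equiv.mulRight h₀) _ _ (fun h => rfl)
      rw [this]; exact Submodule.mem_span_singleton_self _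
    | zero => simp
    | add x y _ _ hx hy => simp only [map_add, Finset.sum_add_distrib]; exact add_mem hx hy
    | smul c x _ hx => simp only [map_smul, ← Finset.smul_sum]; exact Submodule.smul_mem _ c hx
  have hv' : ∑ h : H, ρ h v = (Nat.card H : k) • v := by
    rw [Finset.sum_congr rfl (fun h _ => hv h)]
    simp [Nat.card_eq_fintype_card, Nat.cast_smul_eq_nsmul]
  have hne : (Nat.card H : k) ≠ 0 := fun h0 => hchar ((ringChar.spec k _).1 h0)
  have : v = (Nat.card H : k)⁻¹ • ∑ h : H, ρ h v := by
    rw [hv', smul_smul, inv_mul_cancel₀ hne, one_smul]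
  rw [this]; exact Submodule.smul_mem _ _ (hS v)

/-- Let k be a field whose characteristic does not divide the order of the finite group H (for instance a field of characteristic zero), and ρ a k-linear representation of H on V. Let a be a vector whose H-orbit spans V. Then the space of H-fixed vectors has dimension at most 1, and every vector b whose H-orbit has size coprime to the size of the orbit of a is fixed by H. -/
theorem result {k V H : Type*} [Field k] [AddCommGroup V] [Module k V] [Group H] [Finite H]
    (hchar : ¬ ringChar k ∣ Nat.card H) (ρ : Representation k H V) (a : V)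
    (hspan : Submodule.span k {u : V | ∃ h : H, ρ h a = u} = ⊤) :
    Module.finrank k ρ.invariants ≤ 1 ∧
    ∀ b : V, (Nat.card {u : V | ∃ h : H, ρ h a = u}).Coprime (Nat.card {u : V | ∃ h : H, ρ h b = u}) → ∀ h : H, ρ h b = b := by
  classical
  have := Fintype.ofFinite H
  refine ⟨?_, ?_⟩
  · have h1 := invariants_le_span hchar ρ a hspan
    calc Module.finrank k ρ.invariants
        ≤ Module.finrank k (Submodule.span k {∑ h : H, ρ h a}) := Submodule.finrank_mono h1
      _ ≤ 1 := by
        have := finrank_span_le_card (R := k) ({∑ h : H, ρ h a} : Set V)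
        simpa using this
  · intro b hcop g
    letI act : MulAction H V := MulAction.compHom V (ρ : H →* Module.End k V)
    have hsmul : ∀ (h : H) (v : V), h • v = ρ h v := fun h v => rfl
    have horb : ∀ v : V, {u : V | ∃ h : H, ρ h v = u} = MulAction.orbit H v := by
      intro v; ext u; rfl
    rw [horb a, horb b, Nat.card_coe_set_eq, Nat.card_coe_set_eq,
      ← MulAction.index_stabilizer, ← MulAction.index_stabilizer] at hcop
    set A := MulAction.stabilizer H a with hA
    set B := MulAction.stabilizer H b with hB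
    -- A.relIndex B = A.index
    have hrel : A.relIndex B = A.index := by
      have h1 : A.relIndex B * B.index = (A ⊓ B).index := by
        rw [← Subgroup.inf_relIndex_right]
        exact Subgroup.relIndex_mul_index inf_le_right
      have h2 : A.index ∣ (A ⊓ B).index := Subgroup.index_dvd_of_le inf_le_left
      rw [← h1] at h2
      have h3 : A.index ∣ A.relIndex B := hcop.dvd_of_dvd_mul_right h2
      have h4 : A.relIndex B ≤ A.index := by
        have := Subgroup.relIndex_le_of_le_right (H := A) (K := B) (L := ⊤) le_top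
          (by rw [Subgroup.relIndex_top_right]; exact Subgroup.index_ne_zero_of_finite)
        rwa [Subgroup.relIndex_top_right] at this
      have hpos : 0 < A.relIndex B := Nat.pos_of_ne_zero (Subgroup.index_ne_zero_of_finite (H := A.subgroupOf B))
      exact le_antisymm h4 (Nat.le_of_dvd hpos h3)
    have hcard : Nat.card B = A.index * Nat.card (B ⊓ A : Subgroup H) := by
      rw [← Cfsg.Agent.Lib.Helper22.card_mul_relIndex_of_le (inf_le_left : B ⊓ A ≤ B),
        Subgroup.inf_relIndex_left, hrel, mul_comm]
    have hBA : ∀ h : H, ∃ c ∈ B, ρ h a = ρ c a := by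
      intro h
      obtain ⟨c, hc, hch⟩ := Cfsg.Agent.Lib.Helper22.exists_mem_of_card_eq_index_mul_card_inf B A hcard h
      refine ⟨c, hc, ?_⟩
      have : ρ (c⁻¹ * h) a = a := hch
      calc ρ h a = ρ (c * (c⁻¹ * h)) a := by rw [mul_inv_cancel_left]
        _ = ρ c (ρ (c⁻¹ * h) a) := by rw [map_mul]; rfl
        _ = ρ c a := by rw [this]
    -- apply the lemma to B
    let ρ' : Representation k B V := (ρ : H →* Module.End k V).comp B.subtype
    have hρ' : ∀ (β : B) (v : V), ρ' β v = ρ (β : H) v := fun β v => rfl
    have hspan' : Submodule.span k {u : V | ∃ β : B, ρ' β a = u} = ⊤ := by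
      rw [← hspan]
      congr 1
      ext u
      constructor
      · rintro ⟨β, rfl⟩; exact ⟨(β : H), rfl⟩
      · rintro ⟨h, rfl⟩
        obtain ⟨c, hc, hch⟩ := hBA h
        exact ⟨⟨c, hc⟩, hch.symm⟩
    have hcharB : ¬ ringChar k ∣ Nat.card B := fun hd =>
      hchar (hd.trans (Subgroup.card_subgroup_dvd_card B))
    have hbinv : b ∈ ρ'.invariants := by
      intro β
      exact β.2
    have hb := invariants_le_span hcharB ρ' a hspan' hbinv
    obtain ⟨c, hc⟩ := Submodule.mem_span_singleton.1 hb
    -- relation between the two sums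
    have hrelsum : (Nat.card B : k) • ∑ h : H, ρ h a = (Nat.card H : k) • ∑ β : B, ρ' β a := by
      have e1 : ∑ β : B, ∑ h : H, ρ ((β : H) * h) a = (Nat.card B : k) • ∑ h : H, ρ h a := by
        have : ∀ β : B, ∑ h : H, ρ ((β : H) * h) a = ∑ h : H, ρ h a := fun β =>
          Fintype.sum_equiv (Equiv.mulLeft (β : H)) _ _ (fun h => rfl)
        rw [Finset.sum_congr rfl (fun β _ => this β)]
        simp [Nat.card_eq_fintype_card, Nat.cast_smul_eq_nsmul]
      have e2 : ∑ β : B, ∑ h : H, ρ ((β : H) * h) a = (Nat.card H : k) • ∑ β : B, ρ' β a := by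
        rw [Finset.sum_comm]
        have : ∀ h : H, ∑ β : B, ρ ((β : H) * h) a = ∑ β : B, ρ' β a := by
          intro h
          obtain ⟨c, hc, hch⟩ := hBA h
          have : ∀ β : B, ρ ((β : H) * h) a = ρ' (β * ⟨c, hc⟩) a := by
            intro β
            rw [hρ', map_mul, Subgroup.coe_mul, map_mul]
            show ρ (β : H) (ρ h a) = ρ (β : H) (ρ c a)
            rw [hch]
          simp_rw [this]
          exact Fintype.sum_equiv (Equiv.mulRight (⟨c, hc⟩ : B)) _ _ (fun β => rfl)
        rw [Finset.sum_congr rfl (fun h _ => this h)]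
        simp [Nat.card_eq_fintype_card, Nat.cast_smul_eq_nsmul]
      rw [← e1, e2]
    have hneH : (Nat.card H : k) ≠ 0 := fun h0 => hchar ((ringChar.spec k _).1 h0)
    have hsinv : ρ g (∑ h : H, ρ h a) = ∑ h : H, ρ h a := by
      rw [map_sum]
      have : ∀ h : H, ρ g (ρ h a) = ρ (g * h) a := by intro h; rw [map_mul]; rfl
      simp_rw [this]
      exact Fintype.sum_equiv (Equiv.mulLeft g) _ _ (fun h => rfl)
    have ht : ∑ β : B, ρ' β a = (Nat.card H : k)⁻¹ • (Nat.card B : k) • ∑ h : H, ρ h a := by
      rw [hrelsum, smul_smul, inv_mul_cancel₀ hneH, one_smul]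
    rw [← hc, ht]
    simp only [map_smul, hsinv]

end Cfsg.Agent.S4177
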