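import Cfsg.Statements.S4176
import Cfsg.Agent.Lib.Helper25.PComplement
import Cfsg.Agent.Lib.Helper25.PSolvableSub
import Cfsg.Agent.Lib.Helper25.OrbitSum
import Cfsg.Agent.S4177
-- import your own Cfsg.Agent.* helpers here

set_option autoImplicit false
open Cfsg

namespace Cfsg.Agent.S4176

open Cfsg.Agent.Lib.Helper25

/-- core: vectors fixed by a `p'`-subgroup transitive on the orbit of `a` are multiples of the
orbit sum. -/
theorem fixed_eq_smul_orbit_sum {k V H : Type*} [Field k] (p : ℕ) [Fact p.Prime] [CharP k p]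
    [AddCommGroup V] [Module k V] [Group H] [Fintype H] [DecidableEq V]
    (ρ : Representation k H V) (a : V)
    (hspan : Submodule.span k {u : V | ∃ h : H, ρ h a = u} = ⊤)
    (L : Subgroup H) (hL : (Nat.card L).Coprime p)
    (htrans : ∀ h : H, ∃ c ∈ L, ρ h a = ρ c a) (v : V) (hv : ∀ l ∈ L, ρ l v = v) :
    ∃ c : k, v = c • ∑ u ∈ Finset.univ.image (fun h : H => ρ h a), u := by
  classical
  letI : Fintype L := Fintype.ofFinite L
  let ρL : Representation k L V := (ρ : H →* Module.End k V).comp L.subtype
  have hρL : ∀ (l : L) (w : V), ρL l w = ρ (l : H) w := fun l w => rfl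
  have hspanL : Submodule.span k {u : V | ∃ l : L, ρL l a = u} = ⊤ := by
    rw [← hspan]
    congr 1
    ext u
    constructor
    · rintro ⟨l, rfl⟩; exact ⟨(l : H), rfl⟩
    · rintro ⟨h, rfl⟩
      obtain ⟨c, hc, hch⟩ := htrans h
      exact ⟨⟨c, hc⟩, hch.symm⟩
  have hchar : ¬ ringChar k ∣ Nat.card L := by
    rw [ringChar.eq k p]
    intro hd
    have h1 : p ∣ Nat.gcd (Nat.card L) p := Nat.dvd_gcd hd dvd_rfl
    rw [hL] at h1
    exact (Fact.out : p.Prime).one_lt.ne' (Nat.dvd_one.mp h1)
  have hvinv : v ∈ ρL.invariants := fun l => hv l l.2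
  have h1 := Cfsg.Agent.S4177.invariants_le_span hchar ρL a hspanL hvinv
  obtain ⟨c, hc⟩ := Submodule.mem_span_singleton.1 h1
  have h2 := sum_rho_eq_smul_orbit_sum ρL a
  have himg : Finset.univ.image (fun l : L => ρL l a) = Finset.univ.image (fun h : H => ρ h a) := by
    ext u
    simp only [Finset.mem_image, Finset.mem_univ, true_and]
    constructor
    · rintro ⟨l, rfl⟩; exact ⟨(l : H), rfl⟩
    · rintro ⟨h, rfl⟩
      obtain ⟨c, hc, hch⟩ := htrans h
      exact ⟨⟨c, hc⟩, hch.symm⟩
  rw [himg] at h2
  refine ⟨c * (Nat.card {s : L // ρL s a = a} : k), ?_⟩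
  rw [← hc, h2, mul_smul, Nat.cast_smul_eq_nsmul]

/-- Let k be a field of prime characteristic p, H a finite p-soluble group and ρ a k-linear representation of H on V. Let a be a vector that is fixed by some Sylow p-subgroup of H and whose H-orbit spans V. Then the space of H-fixed vectors has dimension at most 1, and every vector b whose H-orbit has size coprime to the size of the orbit of a is fixed by H. -/
theorem result {k V H : Type*} [Field k] (p : ℕ) [Fact p.Prime] [CharP k p] [AddCommGroup V] [Module k V]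
    [Group H] [Finite H] (hsol : Cfsg.IsPSolvable p H) (ρ : Representation k H V) (a : V)
    (hfix : ∃ P : Sylow p H, ∀ x : H, x ∈ (P : Subgroup H) → ρ x a = a)
    (hspan : Submodule.span k {u : V | ∃ h : H, ρ h a = u} = ⊤) :
    Module.finrank k ρ.invariants ≤ 1 ∧
    ∀ b : V, (Nat.card {u : V | ∃ h : H, ρ h a = u}).Coprime (Nat.card {u : V | ∃ h : H, ρ h b = u}) → ∀ h : H, ρ h b = b := by
  classical
  letI : Fintype H := Fintype.ofFinite H
  have hp : p.Prime := Fact.out
  obtain ⟨P, hP⟩ := hfix
  letI act : MulAction H V := MulAction.compHom V (ρ : H →* Module.End k V)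
  have hsmul : ∀ (h : H) (v : V), h • v = ρ h v := fun h v => rfl
  have horb : ∀ v : V, {u : V | ∃ h : H, ρ h v = u} = MulAction.orbit H v := by
    intro v; ext u; rfl
  set A := MulAction.stabilizer H a with hA
  have hPA : (P : Subgroup H) ≤ A := fun x hx => hP x hx
  have hAp : ¬ p ∣ A.index := fun hd =>
    P.not_dvd_index (hd.trans (Subgroup.index_dvd_of_le hPA))
  have hAcop : ∀ n : ℕ, Nat.Coprime A.index (p ^ n) := fun n =>
    Nat.Coprime.pow_right n ((Nat.Prime.coprime_iff_not_dvd hp).mpr hAp).symm
  have htrans_of : ∀ L : Subgroup H, Nat.Coprime A.index L.index →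
      ∀ h : H, ∃ c ∈ L, ρ h a = ρ c a := by
    intro L hcop h
    obtain ⟨c, hc, hch⟩ := exists_mem_of_coprime_index L A hcop h
    refine ⟨c, hc, ?_⟩
    have h1 : ρ (c⁻¹ * h) a = a := hch
    calc ρ h a = ρ (c * (c⁻¹ * h)) a := by rw [mul_inv_cancel_left]
      _ = ρ c (ρ (c⁻¹ * h) a) := by rw [map_mul]; rfl
      _ = ρ c a := by rw [h1]
  refine ⟨?_, ?_⟩
  · obtain ⟨K, hKc, n, hKn⟩ := exists_isPCompl p hsol
    have htr := htrans_of K (by rw [hKn]; exact hAcop n)
    have hle : ρ.invariants ≤
        Submodule.span k {∑ u ∈ Finset.univ.image (fun h : H => ρ h a), u} := by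
      intro v hv
      obtain ⟨c, hc⟩ := fixed_eq_smul_orbit_sum p ρ a hspan K hKc htr v (fun l _ => hv l)
      rw [hc]
      exact Submodule.smul_mem _ _ (Submodule.mem_span_singleton_self _)
    calc Module.finrank k ρ.invariants
        ≤ Module.finrank k (Submodule.span k
            {∑ u ∈ Finset.univ.image (fun h : H => ρ h a), u}) := Submodule.finrank_mono hle
      _ ≤ 1 := by
        have := finrank_span_le_card (R := k)
          ({∑ u ∈ Finset.univ.image (fun h : H => ρ h a), u} : Set V)
        simpa using this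
  · intro b hcop g
    rw [horb a, horb b, Nat.card_coe_set_eq, Nat.card_coe_set_eq,
      ← MulAction.index_stabilizer, ← MulAction.index_stabilizer] at hcop
    set B := MulAction.stabilizer H b with hB
    have hsolB : Cfsg.IsPSolvable p B := isPSolvable_subgroup p hsol B
    obtain ⟨K', hK'c, n, hK'n⟩ := exists_isPCompl p hsolB
    set L : Subgroup H := K'.map B.subtype with hL
    have hLc : (Nat.card L).Coprime p := by
      have : Nat.card L = Nat.card K' :=
        Nat.card_congr (K'.equivMapOfInjective B.subtype B.subtype_injective).symm.toEquiv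
      rw [this]; exact hK'c
    have hLidx : L.index = p ^ n * B.index := by
      rw [hL, Subgroup.index_map_subtype, hK'n]
    have hLB : L ≤ B := Subgroup.map_subtype_le K'
    have htr := htrans_of L (by rw [hLidx]; exact Nat.Coprime.mul_right (hAcop n) hcop)
    obtain ⟨c, hc⟩ := fixed_eq_smul_orbit_sum p ρ a hspan L hLc htr b (fun l hl => hLB hl)
    rw [hc, map_smul, rho_orbit_sum]

end Cfsg.Agent.S4176
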