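import Cfsg.Statements.S4178
-- import your own Cfsg.Agent.* helpers here


set_option autoImplicit false
open Cfsg

namespace Cfsg.Agent.S4178

theorem index_le_ncard_of_stab {H₀ : Type*} [Group H₀] [Finite H₀] {X : Type*} [MulAction H₀ X]
    (R : Subgroup H₀) (x : X) (S : Set X) (hS : S.Finite)
    (hstab : MulAction.stabilizer H₀ x ≤ R) (horb : MulAction.orbit H₀ x ⊆ S) :
    R.index ≤ S.ncard := by
  have h1 : R.index ∣ (MulAction.stabilizer H₀ x).index := Subgroup.index_dvd_of_le hstab
  have h2 : (MulAction.stabilizer H₀ x).index = (MulAction.orbit H₀ x).ncard :=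
    MulAction.index_stabilizer H₀ x
  have h3 : (MulAction.stabilizer H₀ x).index ≠ 0 := Subgroup.index_ne_zero_of_finite
  have h4 : R.index ≤ (MulAction.stabilizer H₀ x).index := Nat.le_of_dvd (Nat.pos_of_ne_zero h3) h1
  rw [h2] at h4
  exact h4.trans (Set.ncard_le_ncard horb hS)

theorem ncard_submodule_diff_zero {F V : Type*} [Field F] [Fintype F] [AddCommGroup V] [Module F V]
    [FiniteDimensional F V] (W : Submodule F V) :
    ((W : Set V) \ {0}).ncard = Fintype.card F ^ Module.finrank F W - 1 := by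
  classical
  haveI : Finite V := Module.finite_of_finite F
  haveI : Fintype W := Fintype.ofFinite W
  rw [Set.ncard_diff_singleton_of_mem (W.zero_mem), ← Nat.card_coe_set_eq]
  have : Nat.card W = Fintype.card F ^ Module.finrank F W := by
    rw [Nat.card_eq_fintype_card]
    exact Module.card_eq_pow_finrank
  rw [← this]
  rfl

/-- Let F be a finite field with q elements, V a non-zero finite-dimensional F-space of dimension d, H a group of invertible linear maps of V, and R the subgroup of H generated by the elements of H that fix some non-zero vector (have eigenvalue 1). Then the index of R in H is at most q^d − 1; and if H leaves invariant some proper non-zero subspace, the index is at most q^(d/2) − 1. -/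
theorem result {F V : Type*} [Field F] [Fintype F] [AddCommGroup V] [Module F V] [FiniteDimensional F V] [Nontrivial V]
    (H : Subgroup (V ≃ₗ[F] V)) :
    (Subgroup.closure {h : ↥H | ∃ v : V, v ≠ 0 ∧ (h : V ≃ₗ[F] V) v = v}).index ≤ Fintype.card F ^ Module.finrank F V - 1 ∧
    ((∃ W : Submodule F V, W ≠ ⊥ ∧ W ≠ ⊤ ∧ ∀ h ∈ H, ∀ w ∈ W, h w ∈ W) →
      ((Subgroup.closure {h : ↥H | ∃ v : V, v ≠ 0 ∧ (h : V ≃ₗ[F] V) v = v}).index : ℝ) ≤ Real.sqrt ((Fintype.card F : ℝ) ^ Module.finrank F V) - 1) := by
  classical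
  haveI : Finite V := Module.finite_of_finite F
  haveI : Finite (V ≃ₗ[F] V) := Finite.of_injective (fun e : V ≃ₗ[F] V => (e : V → V)) (fun a b h => by
    ext x; exact congrFun h x)
  haveI : Finite (Module.Dual F V) := Module.finite_of_finite F
  set R := Subgroup.closure {h : ↥H | ∃ v : V, v ≠ 0 ∧ (h : V ≃ₗ[F] V) v = v} with hR
  -- bound via a submodule W ≠ ⊥ invariant under H
  have key1 : ∀ W : Submodule F V, W ≠ ⊥ → (∀ h ∈ H, ∀ w ∈ W, h w ∈ W) →
      R.index ≤ Fintype.card F ^ Module.finrank F W - 1 := by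
    intro W hW hinv
    obtain ⟨v, hvW, hv0⟩ := Submodule.exists_mem_ne_zero_of_ne_bot hW
    rw [← ncard_submodule_diff_zero W]
    apply index_le_ncard_of_stab R v _ (Set.toFinite _)
    · intro h hh
      apply Subgroup.subset_closure
      exact ⟨v, hv0, hh⟩
    · rintro _ ⟨h, rfl⟩
      refine ⟨hinv h.1 h.2 v hvW, ?_⟩
      intro h0
      apply hv0
      have : (h : V ≃ₗ[F] V) v = 0 := h0
      exact (LinearEquiv.map_eq_zero_iff _).mp this
  -- dual action
  let act : MulAction ↥H (Module.Dual F V) :=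
    { smul := fun h f => f.comp ((h⁻¹ : ↥H) : V ≃ₗ[F] V).toLinearMap
      one_smul := by
        intro f
        show f.comp (((1 : ↥H)⁻¹ : ↥H) : V ≃ₗ[F] V).toLinearMap = f
        ext x; simp
      mul_smul := by
        intro a b f
        show f.comp (((a * b)⁻¹ : ↥H) : V ≃ₗ[F] V).toLinearMap =
          (f.comp ((b⁻¹ : ↥H) : V ≃ₗ[F] V).toLinearMap).comp ((a⁻¹ : ↥H) : V ≃ₗ[F] V).toLinearMap
        ext x
        simp [mul_inv_rev] }
  have hact : ∀ (h : ↥H) (f : Module.Dual F V) (x : V),
      (@HSMul.hSMul _ _ _ (@instHSMul _ _ act.toSMul) h f) x = f (((h⁻¹ : ↥H) : V ≃ₗ[F] V) x) :=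
    fun h f x => rfl
  have key2 : ∀ W : Submodule F V, W ≠ ⊤ → (∀ h ∈ H, ∀ w ∈ W, h w ∈ W) →
      R.index ≤ Fintype.card F ^ Module.finrank F W.dualAnnihilator - 1 := by
    intro W hW hinv
    have hne : W.dualAnnihilator ≠ ⊥ := by
      intro h
      exact hW (Submodule.dualAnnihilator_eq_bot_iff.mp h)
    obtain ⟨f, hfW, hf0⟩ := Submodule.exists_mem_ne_zero_of_ne_bot hne
    rw [← ncard_submodule_diff_zero W.dualAnnihilator]
    apply @index_le_ncard_of_stab ↥H _ _ (Module.Dual F V) act R f _ (Set.toFinite _)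
    · intro h hh
      -- h fixes f, so h⁻¹ - 1 is not surjective, hence not injective
      have hfix : ∀ x : V, f (((h⁻¹ : ↥H) : V ≃ₗ[F] V) x) = f x := by
        intro x
        have := congrArg (fun g : Module.Dual F V => g x) ((@MulAction.mem_stabilizer_iff _ _ _ act _ _).mp hh)
        simpa [hact] using this
      set T : V →ₗ[F] V := (((h⁻¹ : ↥H) : V ≃ₗ[F] V).toLinearMap - LinearMap.id) with hT
      have hTf : ∀ x, f (T x) = 0 := by
        intro x
        show f (((h⁻¹ : ↥H) : V ≃ₗ[F] V) x - x) = 0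
        rw [map_sub, hfix x, sub_self]
      have hnsurj : ¬ Function.Surjective T := by
        intro hs
        apply hf0
        ext x
        obtain ⟨y, rfl⟩ := hs x
        simpa using hTf y
      have hninj : ¬ Function.Injective T := fun hi => hnsurj (LinearMap.injective_iff_surjective.mp hi)
      rw [← LinearMap.ker_eq_bot] at hninj
      obtain ⟨v, hvker, hv0⟩ := Submodule.exists_mem_ne_zero_of_ne_bot hninj
      apply Subgroup.subset_closure
      refine ⟨v, hv0, ?_⟩
      have h1 : ((h⁻¹ : ↥H) : V ≃ₗ[F] V) v = v := by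
        have : T v = 0 := hvker
        simp only [hT, LinearMap.sub_apply, LinearMap.id_apply, sub_eq_zero] at this
        exact this
      have h2 : ((h : ↥H) : V ≃ₗ[F] V) (((h⁻¹ : ↥H) : V ≃ₗ[F] V) v) = v := by
        have : ((h * h⁻¹ : ↥H) : V ≃ₗ[F] V) v = v := by simp
        simpa [Subgroup.coe_mul, LinearEquiv.mul_apply] using this
      rw [h1] at h2
      exact h2
    · rintro _ ⟨h, rfl⟩
      refine ⟨?_, ?_⟩
      · rw [SetLike.mem_coe, Submodule.mem_dualAnnihilator]
        intro w hw
        show (@HSMul.hSMul _ _ _ (@instHSMul _ _ act.toSMul) h f) w = 0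
        rw [hact]
        exact (Submodule.mem_dualAnnihilator f).mp hfW _ (hinv _ (h⁻¹).2 w hw)
      · intro h0
        apply hf0
        have h0' : (@HSMul.hSMul _ _ _ (@instHSMul _ _ act.toSMul) h f) = 0 := h0
        ext x
        have := congrArg (fun g : Module.Dual F V => g (((h : ↥H) : V ≃ₗ[F] V) x)) h0'
        simp only [hact] at this
        have hx : ((h⁻¹ : ↥H) : V ≃ₗ[F] V) (((h : ↥H) : V ≃ₗ[F] V) x) = x := by
          have : ((h⁻¹ * h : ↥H) : V ≃ₗ[F] V) x = x := by simp
          simpa [Subgroup.coe_mul, LinearEquiv.mul_apply] using this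
        rw [hx] at this
        simpa using this
  constructor
  · have := key1 ⊤ top_ne_bot (fun _ _ _ _ => Submodule.mem_top)
    rwa [finrank_top] at this
  · rintro ⟨W, hW1, hW2, hinv⟩
    have h1 := key1 W hW1 hinv
    have h2 := key2 W hW2 hinv
    have hsum := Subspace.finrank_add_finrank_dualAnnihilator_eq W
    set e := Module.finrank F W
    set e' := Module.finrank F W.dualAnnihilator
    set q := Fintype.card F
    have hq : 1 ≤ q := Fintype.card_pos
    have hqe : 1 ≤ q ^ e := Nat.one_le_pow _ _ hq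
    have hqe' : 1 ≤ q ^ e' := Nat.one_le_pow _ _ hq
    have h1' : R.index + 1 ≤ q ^ e := by omega
    have h2' : R.index + 1 ≤ q ^ e' := by omega
    have hmul : (R.index + 1) * (R.index + 1) ≤ q ^ Module.finrank F V := by
      rw [← hsum, pow_add]
      exact Nat.mul_le_mul h1' h2'
    have hreal : ((R.index : ℝ) + 1) ^ 2 ≤ (q : ℝ) ^ Module.finrank F V := by
      have := (Nat.cast_le (α := ℝ)).mpr hmul
      push_cast at this
      nlinarith [this]
    have hsq : (R.index : ℝ) + 1 ≤ Real.sqrt ((q : ℝ) ^ Module.finrank F V) :=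
      Real.le_sqrt_of_sq_le hreal
    linarith

end Cfsg.Agent.S4178
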