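import Cfsg.Statements.S4182
-- import your own Cfsg.Agent.* helpers here
import Mathlib

set_option autoImplicit false
open Cfsg

namespace Cfsg.Agent.S4182

universe u v

open scoped Pointwise

/-- the set of `p`-elements -/
def pel (p : ℕ) (G : Type*) [Group G] : Set G := {g : G | ∃ k : ℕ, orderOf g = p ^ k}

theorem pel_conj {p : ℕ} {G : Type*} [Group G] (g x : G) (hx : x ∈ pel p G) :
    MulAut.conj g x ∈ pel p G := by
  obtain ⟨k, hk⟩ := hx
  exact ⟨k, by rw [MulEquiv.orderOf_eq]; exact hk⟩

/-- a `p`-group is not the union of at most `p` proper subgroups -/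
theorem pgroup_not_covered {G : Type*} [Group G] [Finite G] {p : ℕ} [hp : Fact p.Prime] (hG : IsPGroup p G)
    {ι : Type*} [Fintype ι] (H : ι → Subgroup G) (hH : ∀ i, H i ≠ ⊤) (hcov : ∀ g : G, ∃ i, g ∈ H i) :
    p + 1 ≤ Fintype.card ι := by
  classical
  by_contra hlt
  have hn : Fintype.card ι ≤ p := by omega
  have : Fintype G := Fintype.ofFinite G
  obtain ⟨i₀, -⟩ := hcov 1
  -- each H i has order at most |G| / p
  have hidx : ∀ i, Nat.card (H i) * p ≤ Nat.card G := by
    intro i
    have h1 : (H i).index ≠ 1 := fun h => hH i (Subgroup.index_eq_one.mp h)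
    obtain ⟨k, hk⟩ := hG.index (H i)
    have h2 : p ≤ (H i).index := by
      rw [hk]
      rcases Nat.eq_zero_or_pos k with h0 | hpos
      · rw [h0, pow_zero] at hk; exact absurd hk h1
      · calc p = p ^ 1 := (pow_one p).symm
          _ ≤ p ^ k := Nat.pow_le_pow_right hp.out.pos hpos
    calc Nat.card (H i) * p ≤ Nat.card (H i) * (H i).index := Nat.mul_le_mul_left _ h2
      _ = Nat.card G := (H i).card_mul_index
  have hp2 : 2 ≤ p := hp.out.two_le
  have hGpos : 0 < Nat.card G := Nat.card_pos
  -- counting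
  have hsub : (Finset.univ : Finset G) \ {1} ⊆
      (Finset.univ : Finset ι).biUnion (fun i => (Finset.univ.filter (fun g => g ∈ H i)) \ {1}) := by
    intro g hg
    rw [Finset.mem_sdiff] at hg
    obtain ⟨i, hi⟩ := hcov g
    rw [Finset.mem_biUnion]
    refine ⟨i, Finset.mem_univ _, ?_⟩
    rw [Finset.mem_sdiff]
    exact ⟨by simp [hi], hg.2⟩
  have h1 := Finset.card_le_card hsub
  have h2 := Finset.card_biUnion_le (s := (Finset.univ : Finset ι))
    (t := fun i => (Finset.univ.filter (fun g => g ∈ H i)) \ {1})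
  have h3 : ∀ i, ((Finset.univ.filter (fun g => g ∈ H i)) \ {1}).card + 1 = Nat.card (H i) := by
    intro i
    have : ({1} : Finset G) ⊆ Finset.univ.filter (fun g => g ∈ H i) := by
      intro g hg
      rw [Finset.mem_singleton] at hg
      simp [hg, (H i).one_mem]
    rw [Finset.card_sdiff_of_subset this, Finset.card_singleton]
    have h4 : (Finset.univ.filter (fun g => g ∈ H i)).card = Nat.card (H i) := by
      rw [Nat.card_eq_fintype_card, Fintype.card_subtype]
    have h5 : 0 < Nat.card (H i) := Nat.card_pos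
    omega
  have h6 : ((Finset.univ : Finset G) \ {1}).card + 1 = Nat.card G := by
    rw [Finset.card_sdiff_of_subset (Finset.subset_univ _), Finset.card_singleton, Finset.card_univ,
      Nat.card_eq_fintype_card]
    have : 0 < Fintype.card G := Fintype.card_pos
    omega
  -- bound the sum
  obtain ⟨q, hq⟩ : p ∣ Nat.card G := by
    have := hidx i₀
    obtain ⟨k, hk⟩ := IsPGroup.iff_card.mp hG
    rcases Nat.eq_zero_or_pos k with h0 | hpos
    · exfalso
      rw [h0, pow_zero] at hk
      have := hH i₀
      apply this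
      have hsub : Subsingleton G := (Nat.card_eq_one_iff_unique.mp hk).1
      exact Subsingleton.elim _ _
    · rw [hk]; exact dvd_pow_self p (by omega)
  have h7 : ∀ i, ((Finset.univ.filter (fun g => g ∈ H i)) \ {1}).card ≤ q - 1 := by
    intro i
    have h8 := hidx i
    rw [hq, mul_comm] at h8
    have h9 : Nat.card (H i) ≤ q := Nat.le_of_mul_le_mul_left h8 hp.out.pos
    have := h3 i
    omega
  have h10 : ∑ i : ι, ((Finset.univ.filter (fun g => g ∈ H i)) \ {1}).card ≤ Fintype.card ι * (q - 1) := by
    calc ∑ i : ι, ((Finset.univ.filter (fun g => g ∈ H i)) \ {1}).card ≤ ∑ _i : ι, (q - 1) :=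
          Finset.sum_le_sum (fun i _ => h7 i)
      _ = Fintype.card ι * (q - 1) := by rw [Finset.sum_const, Finset.card_univ, smul_eq_mul]
  have h11 : Fintype.card ι * (q - 1) ≤ p * (q - 1) := Nat.mul_le_mul_right _ hn
  have hq1 : 1 ≤ q := by
    rcases Nat.eq_zero_or_pos q with h0 | h
    · rw [h0, mul_zero] at hq; omega
    · exact h
  have h12 : p * (q - 1) + p = Nat.card G := by
    rw [hq]
    have : q = (q - 1) + 1 := by omega
    conv_rhs => rw [this, mul_add, mul_one]
  omega

/-- conjugation preserves "generated by `p`-elements" -/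
theorem closure_pel_conj {p : ℕ} {G : Type*} [Group G] (g : G) (K : Subgroup G)
    (hK : Subgroup.closure (pel p G ∩ (K : Set G)) = K) :
    Subgroup.closure (pel p G ∩ ((K.map (MulAut.conj g).toMonoidHom : Subgroup G) : Set G)) =
      K.map (MulAut.conj g).toMonoidHom := by
  apply le_antisymm
  · rw [Subgroup.closure_le]
    exact Set.inter_subset_right
  · conv_lhs => rw [← hK]
    rw [MonoidHom.map_closure]
    apply Subgroup.closure_mono
    rintro _ ⟨y, ⟨hy1, hy2⟩, rfl⟩
    exact ⟨pel_conj g y hy1, Subgroup.mem_map_of_mem _ hy2⟩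

theorem map_conj_eq_of_mem {G : Type*} [Group G] (M : Subgroup G) (x : G) (hx : x ∈ M) :
    M.map (MulAut.conj x).toMonoidHom = M := by
  ext y
  constructor
  · rintro ⟨m, hm, rfl⟩
    simp only [MulEquiv.coe_toMonoidHom, MulAut.conj_apply]
    exact M.mul_mem (M.mul_mem hx hm) (M.inv_mem hx)
  · intro hy
    refine ⟨x⁻¹ * y * x, M.mul_mem (M.mul_mem (M.inv_mem hx) hy) hx, ?_⟩
    simp only [MulEquiv.coe_toMonoidHom, MulAut.conj_apply]; group

theorem main (p : ℕ) [hp : Fact p.Prime] {ι : Type v} [Fintype ι] :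
    ∀ (n : ℕ) (G : Type u) [Group G] [Finite G], Nat.card G = n →
    Subgroup.closure (pel p G) = ⊤ → ∀ (H : ι → Subgroup G), (∀ i, H i ≠ ⊤) →
    (∀ g ∈ pel p G, ∃ i, g ∈ H i) → p + 1 ≤ Fintype.card ι := by
  intro n
  induction n using Nat.strong_induction_on with
  | _ n ih =>
  intro G _ _ hn hgen H hH hcov
  by_contra hlt
  classical
  have hιp : Fintype.card ι ≤ p := by omega
  -- the family of proper subgroups generated by `p`-elements
  set 𝒦 : Set (Subgroup G) := {K | K ≠ ⊤ ∧ Subgroup.closure (pel p G ∩ (K : Set G)) = K} with h𝒦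
  have hstar : ∀ K ∈ 𝒦, ∃ i, K ≤ H i := by
    rintro K ⟨hKtop, hKgen⟩
    by_contra hno
    simp only [not_exists] at hno
    apply hlt
    have hcard : Nat.card K < n := by
      rw [← hn]
      exact lt_of_le_of_ne (Subgroup.card_le_card_group K)
        (fun h => hKtop ((Subgroup.card_eq_iff_eq_top K).mp h))
    refine ih (Nat.card K) hcard K rfl ?_ (fun i => (H i).subgroupOf K) ?_ ?_
    · rw [eq_top_iff]
      intro g _
      have hg : (g : G) ∈ Subgroup.closure (pel p G ∩ (K : Set G)) := by rw [hKgen]; exact g.2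
      have hmap : (Subgroup.closure (pel p K)).map K.subtype =
          Subgroup.closure (pel p G ∩ (K : Set G)) := by
        rw [MonoidHom.map_closure]
        congr 1
        ext y
        constructor
        · rintro ⟨z, ⟨k, hk⟩, rfl⟩
          refine ⟨⟨k, ?_⟩, z.2⟩
          rw [← hk]
          exact Subgroup.orderOf_coe z
        · rintro ⟨⟨k, hk⟩, hyK⟩
          refine ⟨⟨y, hyK⟩, ⟨k, ?_⟩, rfl⟩
          rw [← hk]
          exact (Subgroup.orderOf_coe (⟨y, hyK⟩ : K)).symm
      rw [← hmap] at hg
      obtain ⟨z, hz, hzg⟩ := hg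
      have : z = g := Subtype.ext hzg
      rw [← this]; exact hz
    · intro i h
      exact hno i (Subgroup.subgroupOf_eq_top.mp h)
    · intro g hg
      obtain ⟨k, hk⟩ := hg
      obtain ⟨i, hi⟩ := hcov (g : G) ⟨k, by rw [← hk]; exact Subgroup.orderOf_coe g⟩
      exact ⟨i, by rw [Subgroup.mem_subgroupOf]; exact hi⟩
  -- maximal members
  have h𝒦fin : 𝒦.Finite := Set.toFinite _
  have hmaxex : ∀ K ∈ 𝒦, ∃ M, K ≤ M ∧ Maximal (· ∈ 𝒦) M := fun K hK => h𝒦fin.exists_le_maximal hK
  set 𝒦m : Set (Subgroup G) := {M | Maximal (· ∈ 𝒦) M} with h𝒦m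
  -- at most p maximal members
  have hcardm : Nat.card 𝒦m ≤ p := by
    have hf : ∀ M : 𝒦m, ∃ i, (M : Subgroup G) ≤ H i := fun M => hstar M.1 M.2.1
    choose f hf using hf
    have hinj : Function.Injective f := by
      intro M M' hMM'
      have hsup : (M : Subgroup G) ⊔ (M' : Subgroup G) ∈ 𝒦 := by
        constructor
        · intro htop
          apply hH (f M)
          rw [eq_top_iff, ← htop]
          exact sup_le (hf M) (by rw [hMM']; exact hf M')
        · apply le_antisymm
          · rw [Subgroup.closure_le]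
            exact Set.inter_subset_right
          · apply sup_le
            · conv_lhs => rw [← M.2.1.2]
              apply Subgroup.closure_mono
              exact Set.inter_subset_inter_right _ (by exact_mod_cast (le_sup_left : (M : Subgroup G) ≤ _))
            · conv_lhs => rw [← M'.2.1.2]
              apply Subgroup.closure_mono
              exact Set.inter_subset_inter_right _ (by exact_mod_cast (le_sup_right : (M' : Subgroup G) ≤ _))
      have h1 : (M : Subgroup G) ⊔ (M' : Subgroup G) ≤ M := M.2.2 hsup le_sup_left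
      have h2 : (M : Subgroup G) ⊔ (M' : Subgroup G) ≤ M' := M'.2.2 hsup le_sup_right
      apply Subtype.ext
      exact le_antisymm (le_sup_left.trans h2) (le_sup_right.trans h1)
    calc Nat.card 𝒦m ≤ Nat.card ι := Nat.card_le_card_of_injective f hinj
      _ = Fintype.card ι := Nat.card_eq_fintype_card
      _ ≤ p := hιp
  -- every p-element lies in a maximal member
  have hmem : ∀ x ∈ pel p G, ∃ M ∈ 𝒦m, x ∈ M := by
    intro x hx
    have hz : Subgroup.zpowers x ∈ 𝒦 := by
      constructor
      · intro htop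
        obtain ⟨i, hi⟩ := hcov x hx
        apply hH i
        rw [eq_top_iff, ← htop]
        exact (Subgroup.zpowers_le).mpr hi
      · apply le_antisymm
        · rw [Subgroup.closure_le]
          exact Set.inter_subset_right
        · rw [Subgroup.zpowers_le]
          exact Subgroup.subset_closure ⟨hx, Subgroup.mem_zpowers x⟩
    obtain ⟨M, hxM, hM⟩ := hmaxex _ hz
    exact ⟨M, hM, hxM (Subgroup.mem_zpowers x)⟩
  -- conjugation preserves 𝒦 and 𝒦m
  have hconj𝒦 : ∀ (g : G) (K : Subgroup G), K ∈ 𝒦 → K.map (MulAut.conj g).toMonoidHom ∈ 𝒦 := by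
    rintro g K ⟨hK1, hK2⟩
    refine ⟨?_, closure_pel_conj g K hK2⟩
    intro htop
    apply hK1
    have := congrArg (Subgroup.map (MulAut.conj g⁻¹).toMonoidHom) htop
    rw [Subgroup.map_map] at this
    have hid : (MulAut.conj g⁻¹).toMonoidHom.comp (MulAut.conj g).toMonoidHom = MonoidHom.id G := by
      ext y; simp [MulAut.conj_apply]; group
    rw [hid, Subgroup.map_id] at this
    rw [this]
    rw [eq_top_iff]
    intro y _
    exact ⟨g * y * g⁻¹, Subgroup.mem_top _, by simp [MulAut.conj_apply]; group⟩
  have hconjm : ∀ (g : G) (M : Subgroup G), M ∈ 𝒦m → M.map (MulAut.conj g).toMonoidHom ∈ 𝒦m := by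
    intro g M hM
    refine ⟨hconj𝒦 g M hM.1, ?_⟩
    intro K hK hle
    -- conjugate back
    have h1 := hconj𝒦 g⁻¹ K hK
    have hid : ∀ L : Subgroup G, (L.map (MulAut.conj g).toMonoidHom).map (MulAut.conj g⁻¹).toMonoidHom = L := by
      intro L
      rw [Subgroup.map_map]
      have hid : (MulAut.conj g⁻¹).toMonoidHom.comp (MulAut.conj g).toMonoidHom = MonoidHom.id G := by
        ext y; simp [MulAut.conj_apply]; group
      rw [hid, Subgroup.map_id]
    have hid' : ∀ L : Subgroup G, (L.map (MulAut.conj g⁻¹).toMonoidHom).map (MulAut.conj g).toMonoidHom = L := by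
      intro L
      rw [Subgroup.map_map]
      have hid : (MulAut.conj g).toMonoidHom.comp (MulAut.conj g⁻¹).toMonoidHom = MonoidHom.id G := by
        ext y; simp [MulAut.conj_apply]; group
      rw [hid, Subgroup.map_id]
    have h2 : M ≤ K.map (MulAut.conj g⁻¹).toMonoidHom := by
      have := Subgroup.map_mono (f := (MulAut.conj g⁻¹).toMonoidHom) hle
      rwa [hid] at this
    have h3 := hM.2 h1 h2
    have := Subgroup.map_mono (f := (MulAut.conj g).toMonoidHom) h3
    rwa [hid'] at this
  -- every p-element normalizes every maximal member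
  have hnorm : ∀ x ∈ pel p G, ∀ M ∈ 𝒦m, M.map (MulAut.conj x).toMonoidHom = M := by
    intro x hx M hM
    let _ : MulAction G (Subgroup G) := MulAction.compHom _ (MulAut.conj : G →* MulAut G)
    have hsmul : ∀ (g : G) (L : Subgroup G), g • L = L.map (MulAut.conj g).toMonoidHom := fun g L => rfl
    have hPx : IsPGroup p (Subgroup.zpowers x) := by
      obtain ⟨k, hk⟩ := hx
      exact IsPGroup.of_card (n := k) (by rw [Nat.card_zpowers, hk])
    obtain ⟨j, hj⟩ := hPx.card_orbit M
    have horb : MulAction.orbit (Subgroup.zpowers x) M ⊆ 𝒦m := by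
      rintro _ ⟨y, rfl⟩
      exact hconjm (y : G) M hM
    rcases Nat.eq_zero_or_pos j with h0 | hpos
    · rw [h0, pow_zero] at hj
      have hsub : Subsingleton (MulAction.orbit (Subgroup.zpowers x) M) :=
        (Nat.card_eq_one_iff_unique.mp hj).1
      have h1 : (⟨M, MulAction.mem_orbit_self M⟩ : MulAction.orbit (Subgroup.zpowers x) M) =
          ⟨(⟨x, Subgroup.mem_zpowers x⟩ : Subgroup.zpowers x) • M, MulAction.mem_orbit _ _⟩ :=
        Subsingleton.elim _ _
      have h2 := congrArg Subtype.val h1
      exact h2.symm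
    · have hge : p ≤ Nat.card (MulAction.orbit (Subgroup.zpowers x) M) := by
        rw [hj]
        calc p = p ^ 1 := (pow_one p).symm
          _ ≤ p ^ j := Nat.pow_le_pow_right hp.out.pos hpos
      have heq : MulAction.orbit (Subgroup.zpowers x) M = 𝒦m := by
        apply Set.eq_of_subset_of_ncard_le horb _ (Set.toFinite _)
        rw [← Nat.card_coe_set_eq, ← Nat.card_coe_set_eq]
        omega
      obtain ⟨M₀, hM₀, hxM₀⟩ := hmem x hx
      rw [← heq] at hM₀
      obtain ⟨y, hy⟩ := hM₀
      have hy' : (y : G) • M = M₀ := hy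
      have hyz : (y : G) ∈ Subgroup.zpowers x := y.2
      generalize (y : G) = yy at hy' hyz
      have hxM : x ∈ M := by
        have h3 : x ∈ M.map (MulAut.conj yy).toMonoidHom := by
          rw [← hsmul, hy']; exact hxM₀
        obtain ⟨m, hm, hmx⟩ := h3
        simp only [MulEquiv.coe_toMonoidHom, MulAut.conj_apply] at hmx
        have hcomm : yy * x = x * yy := by
          obtain ⟨k, hk⟩ := Subgroup.mem_zpowers_iff.mp hyz
          rw [← hk]
          exact ((Commute.refl x).zpow_left k).eq
        have h4 : m = yy⁻¹ * x * yy := by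
          calc m = yy⁻¹ * (yy * m * yy⁻¹) * yy := by group
            _ = yy⁻¹ * x * yy := by rw [hmx]
        have : m = x := by
          rw [h4, mul_assoc, ← hcomm, ← mul_assoc, inv_mul_cancel, one_mul]
        rw [← this]; exact hm
      exact map_conj_eq_of_mem M x hxM
  -- maximal members are normal
  have hnormal : ∀ M ∈ 𝒦m, M.Normal := by
    intro M hM
    rw [← Subgroup.normalizer_eq_top_iff, eq_top_iff, ← hgen, Subgroup.closure_le]
    intro x hx
    have h1 := hnorm x hx M hM
    rw [SetLike.mem_coe, Subgroup.mem_normalizer_iff]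
    intro h
    constructor
    · intro hh
      rw [← h1]
      exact ⟨h, hh, by simp [MulAut.conj_apply]⟩
    · intro hh
      rw [← h1] at hh
      obtain ⟨m, hm, hmx⟩ := hh
      simp only [MulEquiv.coe_toMonoidHom, MulAut.conj_apply] at hmx
      have : m = h := by
        have := mul_left_cancel (mul_right_cancel hmx)
        exact this
      rw [← this]; exact hm
  -- a Sylow p-subgroup
  obtain ⟨P⟩ : Nonempty (Sylow p G) := inferInstance
  by_cases hPtop : (P : Subgroup G) = ⊤
  · have hG : IsPGroup p G := by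
      intro g
      obtain ⟨k, hk⟩ := P.isPGroup' ⟨g, by rw [hPtop]; trivial⟩
      exact ⟨k, by simpa using congrArg Subtype.val hk⟩
    apply hlt
    exact pgroup_not_covered hG H hH (fun g => hcov g (IsPGroup.iff_orderOf.mp hG g))
  · have hP𝒦 : (P : Subgroup G) ∈ 𝒦 := by
      refine ⟨hPtop, le_antisymm ?_ ?_⟩
      · rw [Subgroup.closure_le]
        exact Set.inter_subset_right
      · intro g hg
        apply Subgroup.subset_closure
        refine ⟨?_, hg⟩
        obtain ⟨k, hk⟩ := IsPGroup.iff_orderOf.mp P.isPGroup' ⟨g, hg⟩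
        exact ⟨k, by rw [← hk]; exact Subgroup.orderOf_coe (⟨g, hg⟩ : (P : Subgroup G))⟩
    obtain ⟨M, hPM, hM⟩ := hmaxex _ hP𝒦
    have hMn : M.Normal := hnormal M hM
    apply hM.1.1
    rw [eq_top_iff, ← hgen, Subgroup.closure_le]
    intro x hx
    have hPx : IsPGroup p (Subgroup.zpowers x) := by
      obtain ⟨k, hk⟩ := hx
      exact IsPGroup.of_card (n := k) (by rw [Nat.card_zpowers, hk])
    obtain ⟨Q, hQ⟩ := hPx.exists_le_sylow
    obtain ⟨g, hg⟩ := MulAction.exists_smul_eq G P Q
    have hxQ : x ∈ (Q : Subgroup G) := hQ (Subgroup.mem_zpowers x)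
    rw [← hg, Sylow.coe_subgroup_smul, Subgroup.mem_pointwise_smul_iff_inv_smul_mem] at hxQ
    have h5 : g⁻¹ * x * g ∈ M := by
      apply hPM
      have : (MulAut.conj g)⁻¹ • x = g⁻¹ * x * g := by
        rw [← map_inv, MulAut.smul_def, MulAut.conj_apply, inv_inv]
      rw [← this]; exact hxQ
    have h6 := hMn.conj_mem _ h5 g
    have h7 : g * (g⁻¹ * x * g) * g⁻¹ = x := by group
    rw [h7] at h6
    exact h6

/-- Let p be a prime and G a finite group generated by its p-elements. If a finite family of proper subgroups of G covers the set of p-elements of G (every element of p-power order lies in one of them), then the family has at least p + 1 members. -/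
theorem result {G : Type*} [Group G] [Finite G] (p : ℕ) [Fact p.Prime] (hgen : Subgroup.closure {g : G | ∃ k : ℕ, orderOf g = p ^ k} = ⊤)
    {ι : Type*} [Fintype ι] (K : ι → Subgroup G) (hK : ∀ i, K i ≠ ⊤)
    (hcov : ∀ g : G, (∃ k : ℕ, orderOf g = p ^ k) → ∃ i, g ∈ K i) :
    p + 1 ≤ Fintype.card ι := by
  exact main p (Nat.card G) G rfl hgen K hK (fun g hg => hcov g hg)

end Cfsg.Agent.S4182
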