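import Cfsg.Statements.S4184
-- import your own Cfsg.Agent.* helpers here
import Cfsg.Agent.Lib.Helper22.ClsSetC

set_option autoImplicit false
open Cfsg

namespace Cfsg.Agent.S4184

open Cfsg.Agent.Lib.Helper22.ClsSet

/-- Let G and M be finite groups with trivial centres and the same set of conjugacy class sizes, and suppose the prime graph of M is disconnected: the prime divisors of #M split into two non-empty parts such that M has no element of order pq with p in one part and q in the other. Then #G = #M. -/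
theorem result {G M : Type*}
    [Group G] [Finite G] [Group M] [Finite M] (hZG : Subgroup.center G = ⊥) (hZM : Subgroup.center M = ⊥)
    (h : Set.range (fun g : G => (Subgroup.centralizer ({g} : Set G)).index) = Set.range (fun g : M => (Subgroup.centralizer ({g} : Set M)).index))
    (hdisc : ∃ A : Set ℕ, (∃ a ∈ A, a.Prime ∧ a ∣ Nat.card M) ∧ (∃ b ∉ A, b.Prime ∧ b ∣ Nat.card M) ∧
      ∀ a ∈ A, ∀ b ∉ A, a.Prime → b.Prime → a ∣ Nat.card M → b ∣ Nat.card M → ¬ ∃ x : M, orderOf x = a * b) :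
    Nat.card G = Nat.card M := by
  classical
  obtain ⟨A, ⟨a, haA, hap, had⟩, ⟨b, hbA, hbp, hbd⟩, hno⟩ := hdisc
  have hn0 : Nat.card M ≠ 0 := Nat.card_pos.ne'
  obtain ⟨mA, hmA⟩ : ∃ mA, mA = part (Nat.card M) (fun p => p ∈ A) := ⟨_, rfl⟩
  obtain ⟨mB, hmB⟩ : ∃ mB, mB = part (Nat.card M) (fun p => ¬ p ∈ A) := ⟨_, rfl⟩
  have hprod : mA * mB = Nat.card M := by
    rw [hmA, hmB]
    exact part_mul_part _ hn0 _
  have hcop : Nat.Coprime mA mB := by
    rw [hmA, hmB]
    exact part_coprime _ _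
  have hMA : ∀ x : M, ∀ u : ℕ, u.Prime → u ∣ orderOf x → u ∈ A → mB ∣ idx x := by
    intro x u hu hux huA
    rw [hmB]
    apply part_dvd_idx (fun p => ¬ p ∈ A) x u hu hux (not_not.2 huA)
    intro b' hb' hPb hbd' hex
    exact hno u huA b' hPb hu hb' (dvd_trans hux (orderOf_dvd_natCard x)) hbd' hex
  have hMB : ∀ x : M, ∀ u : ℕ, u.Prime → u ∣ orderOf x → u ∉ A → mA ∣ idx x := by
    intro x u hu hux huA
    rw [hmA]
    apply part_dvd_idx (fun p => p ∈ A) x u hu hux huA
    intro a' ha' hPa had' hex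
    obtain ⟨y, hy⟩ := hex
    exact hno a' hPa u huA ha' hu had' (dvd_trans hux (orderOf_dvd_natCard x))
      ⟨y, by rw [hy, mul_comm]⟩
  have hMtype : ∀ x : M, x ≠ 1 → mB ∣ idx x ∨ mA ∣ idx x := by
    intro x hx
    have hord : orderOf x ≠ 1 := fun h1 => hx (orderOf_eq_one_iff.1 h1)
    obtain ⟨u, hu, hux⟩ := Nat.exists_prime_and_dvd hord
    by_cases huA : u ∈ A
    · exact Or.inl (hMA x u hu hux huA)
    · exact Or.inr (hMB x u hu hux huA)
  have hMnt : Nontrivial M := by
    rw [← Finite.one_lt_card_iff_nontrivial]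
    have h1 := Nat.le_of_dvd (Nat.pos_of_ne_zero hn0) had
    have h2 := hap.two_le
    omega
  have htr : ∀ g : G, ∃ x : M, idx x = idx g := by
    intro g
    have h1 : idx g ∈ Set.range (fun g : G => (Subgroup.centralizer ({g} : Set G)).index) := ⟨g, rfl⟩
    rw [h] at h1
    obtain ⟨x, hx⟩ := h1
    exact ⟨x, hx⟩
  have htr' : ∀ x : M, ∃ g : G, idx g = idx x := by
    intro x
    have h1 : idx x ∈ Set.range (fun g : M => (Subgroup.centralizer ({g} : Set M)).index) := ⟨x, rfl⟩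
    rw [← h] at h1
    obtain ⟨g, hg⟩ := h1
    exact ⟨g, hg⟩
  have hT : TwoType G mA mB := by
    refine ⟨hcop, ?_, ?_, ?_, hZG, by rw [hprod]; exact hn0⟩
    · intro g
      obtain ⟨x, hx⟩ := htr g
      rw [← hx, hprod]
      exact Subgroup.index_dvd_card _
    · intro g hg
      obtain ⟨x, hx⟩ := htr g
      rw [← hx]
      apply hMtype
      rintro rfl
      rw [idx_one] at hx
      exact hg hx.symm
    · intro g
      obtain ⟨x, hx⟩ := htr g
      rw [← hx, hprod]
      exact not_card_dvd_idx hMnt x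
  have hbmB : b ∣ mB := by
    rw [hmB]
    exact dvd_part_of_prime _ hn0 _ b hbp hbd hbA
  have hamA : a ∣ mA := by
    rw [hmA]
    exact dvd_part_of_prime _ hn0 _ a hap had haA
  have hexA : ∃ g : G, g ≠ 1 ∧ mB ∣ idx g := by
    haveI : Fact a.Prime := ⟨hap⟩
    obtain ⟨x, hx⟩ := exists_prime_orderOf_dvd_card' a had
    have h1 := hMA x a hap (by rw [hx]) haA
    obtain ⟨g, hg⟩ := htr' x
    refine ⟨g, ?_, hg ▸ h1⟩
    rintro rfl
    rw [idx_one] at hg
    rw [← hg] at h1
    have h2 := Nat.eq_one_of_dvd_one (hbmB.trans h1)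
    exact hbp.one_lt.ne' h2
  have hexB : ∃ g : G, g ≠ 1 ∧ mA ∣ idx g := by
    haveI : Fact b.Prime := ⟨hbp⟩
    obtain ⟨x, hx⟩ := exists_prime_orderOf_dvd_card' b hbd
    have h1 := hMB x b hbp (by rw [hx]) hbA
    obtain ⟨g, hg⟩ := htr' x
    refine ⟨g, ?_, hg ▸ h1⟩
    rintro rfl
    rw [idx_one] at hg
    rw [← hg] at h1
    have h2 := Nat.eq_one_of_dvd_one (hamA.trans h1)
    exact hap.one_lt.ne' h2
  rw [hT.card_eq hexA hexB, hprod]

end Cfsg.Agent.S4184
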