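import Cfsg.Statements.S4188
import Cfsg.Agent.Lib.Helper23.TwoLinC

set_option autoImplicit false
open Cfsg

namespace Cfsg.Agent.S4188

open scoped Pointwise in
/-- Let G be a finite group that is the semidirect product of a normal abelian subgroup N of odd order by a 2-subgroup P, and suppose N is the unique minimal normal subgroup of G. Then the index of the Frattini subgroup of P in P is at most #N − 1. -/
theorem result {G : Type*} [Group G] [Finite G] (N P : Subgroup G) (hN : N.Normal) (hNab : IsMulCommutative ↥N) (hNodd : Odd (Nat.card ↥N)) (hP : IsPGroup 2 ↥P) (hdisj : N ⊓ P = ⊥) (hprod : N ⊔ P = ⊤) (hmin : N ≠ ⊥ ∧ ∀ M : Subgroup G, M.Normal → M ≠ ⊥ → N ≤ M) : (frattini ↥P).index ≤ Nat.card ↥N - 1 := by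
  classical
  obtain ⟨hNne, hNmin⟩ := hmin
  have hN' := hN
  -- a prime `r` dividing `|N|`
  have hcard1 : Nat.card N ≠ 1 := fun h => hNne ((Subgroup.eq_bot_iff_card N).mpr h)
  obtain ⟨r, hr, hrdvd⟩ := Nat.exists_prime_and_dvd hcard1
  have hrF : Fact r.Prime := ⟨hr⟩
  have hr2 : r ≠ 2 := by
    rintro rfl
    exact (Nat.not_even_iff_odd.mpr hNodd) (even_iff_two_dvd.mpr hrdvd)
  have hcomm : ∀ a b : G, a ∈ N → b ∈ N → a * b = b * a := by
    intro a b ha hb
    have : (⟨a, ha⟩ : N) * ⟨b, hb⟩ = ⟨b, hb⟩ * ⟨a, ha⟩ := mul_comm' _ _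
    exact congrArg Subtype.val this
  -- the subgroup of elements of `N` killed by `r`
  let Ω : Subgroup G :=
    { carrier := {x | x ∈ N ∧ x ^ r = 1}
      one_mem' := ⟨N.one_mem, one_pow _⟩
      mul_mem' := by
        rintro a b ⟨ha, ha'⟩ ⟨hb, hb'⟩
        refine ⟨N.mul_mem ha hb, ?_⟩
        have hc : Commute a b := hcomm a b ha hb
        rw [hc.mul_pow, ha', hb', one_mul]
      inv_mem' := by
        rintro a ⟨ha, ha'⟩
        exact ⟨N.inv_mem ha, by rw [inv_pow, ha', inv_one]⟩ }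
  have hΩmem : ∀ x : G, x ∈ Ω ↔ x ∈ N ∧ x ^ r = 1 := fun x => Iff.rfl
  have hΩn : Ω.Normal := by
    refine ⟨fun x hx g => ?_⟩
    rw [hΩmem] at hx ⊢
    refine ⟨hN.conj_mem x hx.1 g, ?_⟩
    rw [conj_pow, hx.2]; group
  have hΩne : Ω ≠ ⊥ := by
    obtain ⟨x, hx⟩ := exists_prime_orderOf_dvd_card' r hrdvd
    intro hbot
    have hxΩ : (x : G) ∈ Ω := by
      rw [hΩmem]
      refine ⟨x.2, ?_⟩
      have : x ^ r = 1 := by rw [← hx]; exact pow_orderOf_eq_one x
      have h2 := congrArg Subtype.val this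
      simpa using h2
    rw [hbot, Subgroup.mem_bot] at hxΩ
    have hx1 : x = 1 := Subtype.ext hxΩ
    rw [hx1, orderOf_one] at hx
    exact hr.one_lt.ne hx
  have hNΩ : N ≤ Ω := hNmin Ω hΩn hΩne
  have hNp : IsPGroup r N := by
    intro g
    refine ⟨1, ?_⟩
    rw [pow_one]
    apply Subtype.ext
    have := ((hΩmem _).mp (hNΩ g.2)).2
    simpa using this
  obtain ⟨n, hn⟩ := (IsPGroup.iff_card (p := r) (G := N)).mp hNp
  have hn1 : 1 ≤ n := by
    by_contra h
    have h0 : n = 0 := by omega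
    rw [h0, pow_zero] at hn
    exact hcard1 hn
  letI : CommGroup ↥N := { (inferInstance : Group ↥N) with mul_comm := fun a b => mul_comm' a b }
  -- the conjugation action of `P` on `N`
  let ρ : ↥P →* MulAut ↥N := (MulAut.conjNormal (H := N)).comp P.subtype
  have hρapp : ∀ (p : P) (x : N), ((ρ p x : N) : G) = (p : G) * x * (p : G)⁻¹ := by
    intro p x
    exact MulAut.conjNormal_apply _ _
  have hker : ∀ c : P, c ∈ ρ.ker → ∀ x : G, x ∈ N → (c : G) * x * (c : G)⁻¹ = x := by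
    intro c hc x hx
    rw [MonoidHom.mem_ker] at hc
    have := hρapp c ⟨x, hx⟩
    rw [hc] at this
    exact this.symm
  have hC'n : (ρ.ker.map P.subtype).Normal := by
    refine ⟨fun c hc g => ?_⟩
    obtain ⟨c0, hc0, rfl⟩ := hc
    have hg : g ∈ ((N ⊔ P : Subgroup G) : Set G) := by rw [hprod]; exact Set.mem_univ g
    rw [Subgroup.normal_mul] at hg
    obtain ⟨a, ha, p, hp, rfl⟩ := Set.mem_mul.mp hg
    have hd0 : (⟨p, hp⟩ : P) * c0 * (⟨p, hp⟩ : P)⁻¹ ∈ ρ.ker :=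
      (MonoidHom.normal_ker ρ).conj_mem c0 hc0 ⟨p, hp⟩
    refine ⟨(⟨p, hp⟩ : P) * c0 * (⟨p, hp⟩ : P)⁻¹, hd0, ?_⟩
    have h1 := hker _ hd0 a⁻¹ (N.inv_mem ha)
    set d : G := (((⟨p, hp⟩ : P) * c0 * (⟨p, hp⟩ : P)⁻¹ : P) : G) with hd
    have hd' : d = p * (c0 : G) * p⁻¹ := by
      rw [hd]; simp
    have h2 : d * a⁻¹ = a⁻¹ * d := by
      calc d * a⁻¹ = d * a⁻¹ * d⁻¹ * d := by group
        _ = a⁻¹ * d := by rw [h1]
    show P.subtype _ = _
    rw [Subgroup.coe_subtype]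
    show d = a * p * (c0 : G) * (a * p)⁻¹
    calc d = a * (a⁻¹ * d) := by group
      _ = a * (d * a⁻¹) := by rw [h2]
      _ = a * (p * (c0 : G) * p⁻¹) * a⁻¹ := by rw [hd']; group
      _ = a * p * (c0 : G) * (a * p)⁻¹ := by group
  have hC' : ρ.ker.map P.subtype = ⊥ := by
    by_contra hne
    have h1 : N ≤ ρ.ker.map P.subtype := hNmin _ hC'n hne
    have h2 : ρ.ker.map P.subtype ≤ P := Subgroup.map_subtype_le _
    apply hNne
    rw [eq_bot_iff, ← hdisj]
    exact le_inf le_rfl (h1.trans h2)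
  have hρinj : Function.Injective ρ := by
    rw [← MonoidHom.ker_eq_bot_iff]
    exact (Subgroup.map_eq_bot_iff_of_injective _ P.subtype_injective).mp hC'
  have hmain := Cfsg.Agent.Lib.Helper23.TwoLin.frattini_index_le_bnd r hr hr2 n hn1 ↥N ↥P hn hP ρ hρinj
  have hnum := Cfsg.Agent.Lib.Helper23.TwoLin.bnd_le_pow_sub_one r n hr hr2 hn1
  rw [hn]
  exact hmain.trans hnum

end Cfsg.Agent.S4188
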