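import Cfsg.Statements.S4218
-- import your own Cfsg.Agent.* helpers here
import Mathlib
import Cfsg.Agent.S4207
import Cfsg.Agent.Lib.Helper12.HallHigman
import Cfsg.Agent.Lib.Helper12.PPrimeP
import Cfsg.Agent.Lib.Helper1.PGroup
import Cfsg.Agent.Lib.Helper24.PSolvable

set_option autoImplicit false
open Cfsg
open scoped commutatorElement

namespace Cfsg.Agent.S4218


section aut
variable {R : Type*} [Group R]

theorem map_mem_frattini (α : MulAut R) {y : R} (hy : y ∈ frattini R) : α y ∈ frattini R := by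
  have h := (frattini_characteristic (G := R)).fixed α
  have h2 : y ∈ (frattini R).comap α.toMonoidHom := by rw [h]; exact hy
  exact h2

/-- automorphisms acting trivially modulo the Frattini subgroup -/
def frattiniTrivAut (R : Type*) [Group R] : Subgroup (MulAut R) where
  carrier := {α | ∀ x : R, α x * x⁻¹ ∈ frattini R}
  one_mem' := by
    intro x
    simp
  mul_mem' := by
    intro α β hα hβ x
    have h1 : (α * β) x * x⁻¹ = α (β x * x⁻¹) * (α x * x⁻¹) := by
      simp [MulAut.mul_apply]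
    rw [h1]
    exact mul_mem (map_mem_frattini α (hβ x)) (hα x)
  inv_mem' := by
    intro α hα x
    have h1 : α⁻¹ x * x⁻¹ = (α (α⁻¹ x) * (α⁻¹ x)⁻¹)⁻¹ := by
      simp
    rw [h1]
    exact inv_mem (hα _)

theorem mem_frattiniTrivAut {α : MulAut R} :
    α ∈ frattiniTrivAut R ↔ ∀ x : R, α x * x⁻¹ ∈ frattini R := Iff.rfl

instance frattiniTrivAut_normal : (frattiniTrivAut R).Normal where
  conj_mem := by
    intro α hα γ x
    have h1 : (γ * α * γ⁻¹) x * x⁻¹ = γ (α (γ⁻¹ x) * (γ⁻¹ x)⁻¹) := by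
      simp [MulAut.mul_apply]
    rw [h1]
    exact map_mem_frattini γ (hα _)

theorem frattiniTrivAut_isPGroup [Finite R] {p : ℕ} [Fact p.Prime] (hR : IsPGroup p R) :
    IsPGroup p (frattiniTrivAut R) := by
  have hp : p.Prime := Fact.out
  obtain ⟨n, hn⟩ := (IsPGroup.iff_card (p := p)).mp hR
  have h1 : (frattini R).index ∣ p ^ n := hn ▸ Subgroup.index_dvd_card _
  obtain ⟨r, _, hr⟩ := (Nat.dvd_prime_pow hp).mp h1
  have h2 := Cfsg.Agent.S4207.result hn hr (frattiniTrivAut R) (fun α hα x => hα x)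
  obtain ⟨k, _, hk⟩ := (Nat.dvd_prime_pow hp).mp h2
  exact IsPGroup.of_card hk

end aut

section conj
variable {G : Type*} [Group G] (P N : Subgroup G) [hP : P.Normal] [hN : N.Normal]

theorem map_conjNormal_subgroupOf (g : G) :
    (N.subgroupOf P).map ((MulAut.conjNormal g : ↥P ≃* ↥P) : ↥P →* ↥P) = N.subgroupOf P := by
  ext x
  rw [Subgroup.mem_map]
  constructor
  · rintro ⟨y, hy, rfl⟩
    rw [Subgroup.mem_subgroupOf] at hy ⊢
    show ((MulAut.conjNormal g y : ↥P) : G) ∈ N
    rw [MulAut.conjNormal_apply]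
    exact hN.conj_mem _ hy g
  · intro hx
    refine ⟨(MulAut.conjNormal g : ↥P ≃* ↥P).symm x, ?_, ?_⟩
    · rw [Subgroup.mem_subgroupOf] at hx ⊢
      rw [MulAut.conjNormal_symm_apply]
      have := hN.conj_mem _ hx g⁻¹
      simpa using this
    · exact (MulAut.conjNormal g : ↥P ≃* ↥P).apply_symm_apply x

/-- the conjugation action of `G` on `P / (N ∩ P)` -/
noncomputable def conjQuot : G →* MulAut (↥P ⧸ N.subgroupOf P) :=
  MonoidHom.mk' (fun g => QuotientGroup.congr (N.subgroupOf P) (N.subgroupOf P) (MulAut.conjNormal g)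
      (map_conjNormal_subgroupOf P N g)) (by
    intro a b
    ext x
    induction x using QuotientGroup.induction_on with
    | H x => simp [MulAut.mul_apply, map_mul])

theorem conjQuot_mk (g : G) (x : ↥P) :
    conjQuot P N g (QuotientGroup.mk x) = QuotientGroup.mk (MulAut.conjNormal g x) := by
  simp [conjQuot]

end conj

/-- Let `G` be a finite `p`-solvable group, `N₀ = O_{p'}(G)`, `P₁ = O_{p',p}(G)`, and let `F ≤ P₁` be the preimage of the Frattini subgroup of `P₁/N₀`. Then an element `g` of `G` induces the identity on `P₁/F` by conjugation (that is, `g x g⁻¹ x⁻¹ ∈ F` for all `x ∈ P₁`) if and only if `g ∈ P₁`: the group `G/P₁` acts faithfully on `P₁/F`. -/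
theorem result {G : Type*} [Group G] [Finite G] {p : ℕ} [Fact p.Prime] (hG : Cfsg.IsPSolvable p G) (g : G) : (∀ x ∈ Cfsg.pPrimePCore p G, g * x * g⁻¹ * x⁻¹ ∈ ((frattini (↥(Cfsg.pPrimePCore p G) ⧸ (Cfsg.pPrimeCore p G).subgroupOf (Cfsg.pPrimePCore p G))).comap (QuotientGroup.mk' ((Cfsg.pPrimeCore p G).subgroupOf (Cfsg.pPrimePCore p G)))).map (Cfsg.pPrimePCore p G).subtype) ↔ g ∈ Cfsg.pPrimePCore p G := by
  classical
  have hp : p.Prime := Fact.out
  haveI hN₀n : (Cfsg.pPrimeCore p G).Normal := Cfsg.Agent.Lib.Helper12.pPrimeCore_normal' p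
  haveI hP₁n : (Cfsg.pPrimePCore p G).Normal := Cfsg.Agent.Lib.Helper12.pPrimePCore_normal' p
  set N₀ := Cfsg.pPrimeCore p G with hN₀
  set P₁ := Cfsg.pPrimePCore p G with hP₁
  set N' := N₀.subgroupOf P₁ with hN'
  -- the quotient `R = P₁ / N₀` is a `p`-group
  have hR : IsPGroup p (↥P₁ ⧸ N') := by
    obtain ⟨a, ha⟩ := Cfsg.Agent.Lib.Helper12.relIndex_pPrimeCore_pPrimePCore (G := G) p
    apply IsPGroup.of_card (n := a)
    rw [← Subgroup.index_eq_card]
    exact ha
  have hcomm : commutator (↥P₁ ⧸ N') ≤ frattini (↥P₁ ⧸ N') :=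
    Cfsg.Agent.Lib.Helper1.IsPGroup.commutator_le_frattini hR
  -- description of membership in `F`
  have hF : ∀ y : ↥P₁, ((y : G) ∈ ((frattini (↥P₁ ⧸ N')).comap (QuotientGroup.mk' N')).map P₁.subtype ↔
      (QuotientGroup.mk y : ↥P₁ ⧸ N') ∈ frattini (↥P₁ ⧸ N')) := by
    intro y
    rw [Subgroup.mem_map]
    constructor
    · rintro ⟨z, hz, hzy⟩
      have : z = y := Subtype.ext hzy
      rw [← this]
      exact hz
    · intro h
      exact ⟨y, h, rfl⟩
  constructor
  · -- faithful direction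
    intro hg
    let ψ := conjQuot P₁ N₀
    have hA₀ : IsPGroup p (frattiniTrivAut (↥P₁ ⧸ N')) := frattiniTrivAut_isPGroup hR
    -- the quotient group
    let π := QuotientGroup.mk' N₀
    have hπ : Function.Surjective π := QuotientGroup.mk'_surjective N₀
    have hGbar : Cfsg.IsPSolvable p (G ⧸ N₀) :=
      Cfsg.Agent.Lib.Helper24.isPSolvable_of_surjective p π hπ hG
    have hObar : Cfsg.pPrimeCore p (G ⧸ N₀) = ⊥ :=
      Cfsg.Agent.Lib.Helper24.pPrimeCore_quotient_eq_bot' (G := G) p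
    have hHH := Cfsg.Agent.Lib.Helper12.centralizer_pCore_le_pCore p hGbar hObar
    have hmemP₁ : ∀ t : G, t ∈ P₁ ↔ π t ∈ Cfsg.pCore p (G ⧸ N₀) := fun t => Iff.rfl
    -- the kernel of ψ lies in P₁
    have hker : ∀ t : G, ψ t = 1 → t ∈ P₁ := by
      intro t ht
      rw [hmemP₁]
      apply hHH
      rw [Subgroup.mem_centralizer_iff]
      intro u hu
      obtain ⟨x, rfl⟩ := hπ u
      have hx : x ∈ P₁ := hu
      have h1 : ψ t (QuotientGroup.mk ⟨x, hx⟩) = QuotientGroup.mk ⟨x, hx⟩ := by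
        rw [ht]; rfl
      rw [conjQuot_mk, QuotientGroup.eq] at h1
      rw [Subgroup.mem_subgroupOf] at h1
      have h2 : (t * x * t⁻¹)⁻¹ * x ∈ N₀ := by
        simpa [MulAut.conjNormal_apply] using h1
      have h3 : π (t * x * t⁻¹) = π x := by
        apply QuotientGroup.eq.mpr
        exact h2
      have h4 : π t * π x * (π t)⁻¹ = π x := by
        have h5 : π (t * x * t⁻¹) = π t * π x * (π t)⁻¹ := by
          rw [map_mul, map_mul, map_inv]
        rw [← h5, h3]
      calc π x * π t = (π t * π x * (π t)⁻¹) * π t := by rw [h4]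
        _ = π t * π x := by group
    -- the subgroup K of elements acting trivially on the Frattini quotient
    let K : Subgroup G := (frattiniTrivAut (↥P₁ ⧸ N')).comap ψ
    haveI hKn : K.Normal := Subgroup.Normal.comap inferInstance ψ
    have hgK : g ∈ K := by
      show ψ g ∈ frattiniTrivAut (↥P₁ ⧸ N')
      rw [mem_frattiniTrivAut]
      intro r
      induction r using QuotientGroup.induction_on with
      | H x =>
        rw [conjQuot_mk]
        have h1 := hg x x.2
        have h2 : g * (x : G) * g⁻¹ * (x : G)⁻¹ = ((MulAut.conjNormal g x * x⁻¹ : ↥P₁) : G) := by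
          simp [MulAut.conjNormal_apply]
        rw [h2, hF] at h1
        exact h1
    haveI hKπn : (K.map π).Normal := Subgroup.Normal.map hKn π hπ
    have hKπ : IsPGroup p ↥(K.map π) := by
      rintro ⟨y, hy⟩
      obtain ⟨k, hk, rfl⟩ := Subgroup.mem_map.mp hy
      obtain ⟨a, ha⟩ := hA₀ ⟨ψ k, hk⟩
      have ha' : ψ (k ^ (p ^ a)) = 1 := by
        rw [map_pow]
        have := congrArg Subtype.val ha
        rw [SubgroupClass.coe_pow, OneMemClass.coe_one] at this
        exact this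
      have h1 : k ^ (p ^ a) ∈ P₁ := hker _ ha'
      rw [hmemP₁] at h1
      obtain ⟨b, hb⟩ := (Cfsg.Agent.Lib.Helper12.pCore_isPGroup' (X := G ⧸ N₀) p) ⟨_, h1⟩
      have hb' : π (k ^ (p ^ a)) ^ (p ^ b) = 1 := by
        have := congrArg Subtype.val hb
        rw [SubgroupClass.coe_pow, OneMemClass.coe_one] at this
        exact this
      refine ⟨a + b, ?_⟩
      apply Subtype.ext
      rw [SubgroupClass.coe_pow, OneMemClass.coe_one]
      show π k ^ (p ^ (a + b)) = 1
      rw [pow_add, pow_mul, ← map_pow]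
      exact hb'
    have hKle : K.map π ≤ Cfsg.pCore p (G ⧸ N₀) :=
      Cfsg.Agent.Lib.Helper12.le_pCore' p _ hKπn hKπ
    rw [hmemP₁]
    exact hKle (Subgroup.mem_map_of_mem π hgK)
  · -- elements of P₁ act trivially
    intro hg x hx
    have h2 : g * x * g⁻¹ * x⁻¹ = ((⁅(⟨g, hg⟩ : ↥P₁), ⟨x, hx⟩⁆ : ↥P₁) : G) := by
      simp [commutatorElement_def]
    rw [h2, hF]
    apply hcomm
    have h3 : (QuotientGroup.mk ⁅(⟨g, hg⟩ : ↥P₁), ⟨x, hx⟩⁆ : ↥P₁ ⧸ N') =
        ⁅(QuotientGroup.mk ⟨g, hg⟩ : ↥P₁ ⧸ N'), QuotientGroup.mk ⟨x, hx⟩⁆ := by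
      rw [commutatorElement_def, commutatorElement_def]
      rfl
    rw [h3, commutator_def]
    exact Subgroup.commutator_mem_commutator (Subgroup.mem_top _) (Subgroup.mem_top _)

end Cfsg.Agent.S4218
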