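import Cfsg.Statements.S4189
-- import your own Cfsg.Agent.* helpers here
import Mathlib
import Cfsg.Agent.S4207
import Cfsg.Agent.S4218
import Cfsg.Agent.Lib.Helper1.PGroup
import Cfsg.Agent.Lib.Helper18.UniqueInvolution

set_option autoImplicit false
open Cfsg
open scoped commutatorElement

namespace Cfsg.Agent.S4189


section general

/-- in a nilpotent group, a subgroup contained in its own commutator with the whole group is trivial -/
theorem eq_bot_of_le_commutator_top {G : Type*} [Group G] [hG : Group.IsNilpotent G] (H : Subgroup G)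
    (h : H ≤ ⁅H, (⊤ : Subgroup G)⁆) : H = ⊥ := by
  have key : ∀ n : ℕ, H ≤ (⊤ : Subgroup G).lowerCentralSeries n := by
    intro n
    induction n with
    | zero => exact le_top
    | succ n ih =>
      rw [Subgroup.lowerCentralSeries_succ]
      exact le_trans h (Subgroup.commutator_mono ih le_rfl)
  have h2 := key (Group.nilpotencyClass G)
  rw [lowerCentralSeries_nilpotencyClass] at h2
  exact eq_bot_iff.mpr h2

/-- an automorphism of a group of order 4 and exponent 2 that fixes a nonidentity element is an involution -/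
theorem aut_sq_of_fixed {Q : Type*} [Group Q] (hQ : Nat.card Q = 4) (hexp : ∀ x : Q, x * x = 1)
    (β : Q ≃* Q) (u : Q) (hu : u ≠ 1) (hβ : β u = u) (v : Q) : β (β v) = v := by
  haveI : Finite Q := Nat.finite_of_card_ne_zero (by rw [hQ]; norm_num)
  have hord : orderOf u = 2 := by
    haveI : Fact (Nat.Prime 2) := ⟨Nat.prime_two⟩
    exact orderOf_eq_prime (by rw [pow_two]; exact hexp u) hu
  have hcard : Nat.card (Subgroup.zpowers u) = 2 := by rw [Nat.card_zpowers, hord]
  have hidx : (Subgroup.zpowers u).index = 2 := by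
    have := Subgroup.card_mul_index (Subgroup.zpowers u)
    rw [hcard, hQ] at this
    omega
  have hmem : ∀ w : Q, w ∈ Subgroup.zpowers u ↔ w = 1 ∨ w = u := by
    intro w
    constructor
    · intro hw
      rw [← mem_powers_iff_mem_zpowers, Submonoid.mem_powers_iff] at hw
      obtain ⟨k, rfl⟩ := hw
      rcases Nat.even_or_odd k with ⟨j, rfl⟩ | ⟨j, rfl⟩
      · left
        rw [← two_mul, pow_mul, pow_two, hexp, one_pow]
      · right
        rw [pow_succ, pow_mul, pow_two, hexp, one_pow, one_mul]
    · rintro (rfl | rfl)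
      · exact one_mem _
      · exact Subgroup.mem_zpowers _
  have hfix : ∀ w ∈ Subgroup.zpowers u, β w = w := by
    intro w hw
    rcases (hmem w).mp hw with rfl | rfl
    · exact map_one β
    · exact hβ
  by_cases hv : v ∈ Subgroup.zpowers u
  · rw [hfix v hv, hfix v hv]
  · have hβv : β v ∉ Subgroup.zpowers u := by
      intro h
      apply hv
      have h1 : β (β v) = β v := hfix _ h
      have h2 : β v = v := β.injective h1
      rw [← h2]; exact h
    have h3 : v⁻¹ * β v ∈ Subgroup.zpowers u := by
      rw [Subgroup.mul_mem_iff_of_index_two hidx]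
      constructor
      · intro h; exact absurd (inv_mem_iff.mp h) hv
      · intro h; exact absurd h hβv
    obtain ⟨w, hw, hvw⟩ : ∃ w ∈ Subgroup.zpowers u, β v = v * w :=
      ⟨v⁻¹ * β v, h3, by group⟩
    rw [hvw, map_mul, hvw, hfix w hw, mul_assoc, hexp, mul_one]

end general

section setup
variable {P : Type*} [Group P] [Finite P]

theorem frattini_eq_commutator (hP : IsPGroup 2 P) (hna : ¬ IsMulCommutative P)
    (h4 : (commutator P).index = 4) : frattini P = commutator P := by
  haveI : Fact (Nat.Prime 2) := ⟨Nat.prime_two⟩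
  have hle : commutator P ≤ frattini P := Cfsg.Agent.Lib.Helper1.IsPGroup.commutator_le_frattini hP
  obtain ⟨n, hn⟩ := (IsPGroup.iff_card (p := 2)).mp hP
  have hdvd : (frattini P).index ∣ 4 := by
    rw [← h4]; exact Subgroup.index_dvd_of_le hle
  have hidx : (frattini P).index = 4 := by
    have h1 : (frattini P).index ∣ 2 ^ 2 := by norm_num; exact hdvd
    obtain ⟨r, hr2, hr⟩ := (Nat.dvd_prime_pow Nat.prime_two).mp h1
    obtain ⟨x, hx⟩ := Cfsg.Agent.S4207.exists_gen_tuple hn hr
    have hx' : Subgroup.closure (Set.range x) = ⊤ := frattini_nongenerating hx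
    interval_cases r
    · -- generated by no element
      exfalso
      apply hna
      have hbot : (⊤ : Subgroup P) = ⊥ := by
        rw [← hx', Subgroup.closure_eq_bot_iff]
        rintro _ ⟨i, rfl⟩
        exact i.elim0
      refine ⟨⟨fun a b => ?_⟩⟩
      have ha : a ∈ (⊤ : Subgroup P) := Subgroup.mem_top a
      have hb : b ∈ (⊤ : Subgroup P) := Subgroup.mem_top b
      rw [hbot, Subgroup.mem_bot] at ha hb
      rw [ha, hb]
    · -- generated by one element
      exfalso
      apply hna
      have hz : Subgroup.zpowers (x 0) = ⊤ := by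
        rw [← hx', Subgroup.zpowers_eq_closure]
        congr 1
        ext y
        constructor
        · rintro rfl; exact ⟨0, rfl⟩
        · rintro ⟨i, rfl⟩
          have : i = 0 := Subsingleton.elim _ _
          rw [this]; rfl
      refine ⟨⟨fun a b => ?_⟩⟩
      have ha : a ∈ Subgroup.zpowers (x 0) := by rw [hz]; trivial
      have hb : b ∈ Subgroup.zpowers (x 0) := by rw [hz]; trivial
      obtain ⟨i, rfl⟩ := Subgroup.mem_zpowers_iff.mp ha
      obtain ⟨j, rfl⟩ := Subgroup.mem_zpowers_iff.mp hb
      rw [← zpow_add, ← zpow_add, add_comm]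
    · rw [hr]; norm_num
  symm
  apply Subgroup.eq_of_le_of_card_ge hle
  have h1 := Subgroup.card_mul_index (frattini P)
  have h2 := Subgroup.card_mul_index (commutator P)
  rw [hidx] at h1
  rw [h4] at h2
  omega

theorem exists_gen_pair (hP : IsPGroup 2 P) (hidx : (frattini P).index = 4) :
    ∃ x y : P, Subgroup.closure {x, y} = ⊤ := by
  haveI : Fact (Nat.Prime 2) := ⟨Nat.prime_two⟩
  obtain ⟨n, hn⟩ := (IsPGroup.iff_card (p := 2)).mp hP
  obtain ⟨x, hx⟩ := Cfsg.Agent.S4207.exists_gen_tuple (r := 2) hn (by rw [hidx]; norm_num)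
  have hx' : Subgroup.closure (Set.range x) = ⊤ := frattini_nongenerating hx
  refine ⟨x 0, x 1, ?_⟩
  rw [← hx']
  congr 1
  ext y
  constructor
  · rintro (rfl | rfl)
    · exact ⟨0, rfl⟩
    · exact ⟨1, rfl⟩
  · rintro ⟨i, rfl⟩
    fin_cases i
    · left; rfl
    · right; rfl

theorem exists_odd_aut (haut : ¬ IsPGroup 2 (MulAut P)) :
    ∃ (α : MulAut P) (q : ℕ), q.Prime ∧ q ≠ 2 ∧ orderOf α = q := by
  haveI : Fact (Nat.Prime 2) := ⟨Nat.prime_two⟩
  haveI : Finite (MulAut P) := Finite.of_injective (fun α : MulAut P => (α : P → P))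
    (fun a b h => MulEquiv.ext (congrFun h))
  by_contra hcon
  push Not at hcon
  apply haut
  have hcard0 : Nat.card (MulAut P) ≠ 0 := Nat.card_pos.ne'
  have hall : ∀ q : ℕ, q.Prime → q ∣ Nat.card (MulAut P) → q = 2 := by
    intro q hq hdvd
    by_contra hq2
    haveI : Fact q.Prime := ⟨hq⟩
    obtain ⟨α, hα⟩ := exists_prime_orderOf_dvd_card' q hdvd
    exact hcon α q hq hq2 hα
  have := Nat.eq_prime_pow_of_unique_prime_dvd hcard0 (fun {q} hq hd => hall q hq hd)
  exact IsPGroup.of_card this

end setup

section cosets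
variable {P : Type*} [Group P] [Finite P]

theorem map_commutator_eq (β : MulAut P) : (commutator P).map (β : P →* P) = commutator P :=
  Subgroup.characteristic_iff_map_eq.mp inferInstance β

theorem card_quot (h4 : (commutator P).index = 4) : Nat.card (P ⧸ commutator P) = 4 := by
  rw [← Subgroup.index_eq_card, h4]

theorem quot_exp (hP : IsPGroup 2 P) (hD : frattini P = commutator P) (v : P ⧸ commutator P) :
    v * v = 1 := by
  haveI : Fact (Nat.Prime 2) := ⟨Nat.prime_two⟩
  induction v using QuotientGroup.induction_on with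
  | H g =>
    rw [← QuotientGroup.mk_mul, QuotientGroup.eq_one_iff, ← hD, ← pow_two]
    exact Cfsg.Agent.Lib.Helper1.IsPGroup.pow_mem_frattini hP g

/-- an automorphism of odd prime order fixes no nontrivial coset of the commutator subgroup -/
theorem no_fixed_coset (hP : IsPGroup 2 P) (hD : frattini P = commutator P)
    (h4 : (commutator P).index = 4) (β : MulAut P) (q : ℕ) (hq : q.Prime) (hq2 : q ≠ 2)
    (hβ : orderOf β = q) (g : P) (hg : g ∉ commutator P) : g⁻¹ * β g ∉ commutator P := by
  haveI : Fact (Nat.Prime 2) := ⟨Nat.prime_two⟩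
  intro hfix
  let βbar : (P ⧸ commutator P) ≃* (P ⧸ commutator P) :=
    QuotientGroup.congr (commutator P) (commutator P) β (map_commutator_eq β)
  have hβbar : ∀ x : P, βbar (QuotientGroup.mk x) = QuotientGroup.mk (β x) := fun x => rfl
  have hu : (QuotientGroup.mk g : P ⧸ commutator P) ≠ 1 := by
    intro h; exact hg ((QuotientGroup.eq_one_iff g).mp h)
  have hfix' : βbar (QuotientGroup.mk g) = QuotientGroup.mk g := by
    rw [hβbar]
    exact (QuotientGroup.eq.mpr (by simpa using (inv_mem hfix))).symm ▸ rfl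
  have hsq := aut_sq_of_fixed (card_quot h4) (quot_exp hP hD) βbar _ hu hfix'
  -- `β * β` acts trivially modulo the Frattini subgroup
  have hmem : β * β ∈ Cfsg.Agent.S4218.frattiniTrivAut P := by
    rw [Cfsg.Agent.S4218.mem_frattiniTrivAut]
    intro x
    rw [hD, MulAut.mul_apply, ← QuotientGroup.eq_one_iff, QuotientGroup.mk_mul,
      QuotientGroup.mk_inv, ← hβbar, ← hβbar, hsq, mul_inv_cancel]
  have hB : IsPGroup 2 (Cfsg.Agent.S4218.frattiniTrivAut P) :=
    Cfsg.Agent.S4218.frattiniTrivAut_isPGroup hP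
  obtain ⟨k, hk⟩ := hB ⟨β * β, hmem⟩
  have hk' : (β * β) ^ (2 ^ k) = 1 := by
    have := congrArg Subtype.val hk
    rw [SubgroupClass.coe_pow, OneMemClass.coe_one] at this
    exact this
  have h1 : β ^ (2 ^ (k + 1)) = 1 := by
    rw [pow_succ, mul_comm, pow_mul, pow_two]
    exact hk'
  have h2 : q ∣ 2 ^ (k + 1) := hβ ▸ orderOf_dvd_of_pow_eq_one h1
  have h3 : q ∣ 2 := hq.dvd_of_dvd_pow h2
  exact hq2 ((Nat.prime_dvd_prime_iff_eq hq Nat.prime_two).mp h3)

/-- the three nontrivial cosets are `g₀ D`, `β(g₀) D`, `β²(g₀) D` -/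
theorem three_cosets (hP : IsPGroup 2 P) (hD : frattini P = commutator P)
    (h4 : (commutator P).index = 4) (β : MulAut P) (q : ℕ) (hq : q.Prime) (hq2 : q ≠ 2)
    (hβ : orderOf β = q) (g₀ : P) (hg₀ : g₀ ∉ commutator P) (g : P) :
    g ∈ commutator P ∨ g₀⁻¹ * g ∈ commutator P ∨ (β g₀)⁻¹ * g ∈ commutator P ∨
      (β (β g₀))⁻¹ * g ∈ commutator P := by
  classical
  have hβg₀ : β g₀ ∉ commutator P := by
    intro h
    apply hg₀
    have h1 : β g₀ ∈ (commutator P).map (β : P →* P) := by rw [map_commutator_eq]; exact h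
    obtain ⟨y, hy, hyg⟩ := Subgroup.mem_map.mp h1
    have : y = g₀ := β.injective hyg
    rw [← this]; exact hy
  have hββ : orderOf (β * β) = q := by
    rw [← pow_two, Nat.Coprime.orderOf_pow, hβ]
    rw [hβ]
    exact (Nat.coprime_primes hq Nat.prime_two).mpr hq2
  have h01 := no_fixed_coset hP hD h4 β q hq hq2 hβ g₀ hg₀
  have h12 := no_fixed_coset hP hD h4 β q hq hq2 hβ (β g₀) hβg₀
  have h02 := no_fixed_coset hP hD h4 (β * β) q hq hq2 hββ g₀ hg₀
  rw [MulAut.mul_apply] at h02
  letI : Fintype (P ⧸ commutator P) := Fintype.ofFinite _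
  let u : P → P ⧸ commutator P := fun x => QuotientGroup.mk x
  have hne : ∀ a b : P, a⁻¹ * b ∉ commutator P → u a ≠ u b := by
    intro a b hab h
    exact hab (QuotientGroup.eq.mp h)
  have hne1 : ∀ a : P, a ∉ commutator P → (1 : P ⧸ commutator P) ≠ u a := by
    intro a ha h
    exact ha ((QuotientGroup.eq_one_iff a).mp h.symm)
  have hββg₀ : β (β g₀) ∉ commutator P := by
    intro h
    apply hβg₀
    have h1 : β (β g₀) ∈ (commutator P).map (β : P →* P) := by rw [map_commutator_eq]; exact h
    obtain ⟨y, hy, hyg⟩ := Subgroup.mem_map.mp h1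
    have : y = β g₀ := β.injective hyg
    rw [← this]; exact hy
  let s : Finset (P ⧸ commutator P) := {1, u g₀, u (β g₀), u (β (β g₀))}
  have hs : s.card = 4 := by
    rw [Finset.card_insert_of_notMem, Finset.card_insert_of_notMem, Finset.card_insert_of_notMem,
      Finset.card_singleton]
    · simp only [Finset.mem_singleton]
      exact hne _ _ h12
    · simp only [Finset.mem_insert, Finset.mem_singleton, not_or]
      exact ⟨hne _ _ h01, hne _ _ h02⟩
    · simp only [Finset.mem_insert, Finset.mem_singleton, not_or]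
      exact ⟨hne1 _ hg₀, hne1 _ hβg₀, hne1 _ hββg₀⟩
  have hsuniv : s = Finset.univ := by
    apply Finset.eq_univ_of_card
    rw [hs, ← Nat.card_eq_fintype_card, card_quot h4]
  have hmem : u g ∈ s := by rw [hsuniv]; exact Finset.mem_univ _
  simp only [s, Finset.mem_insert, Finset.mem_singleton] at hmem
  rcases hmem with h | h | h | h
  · left; exact (QuotientGroup.eq_one_iff g).mp h
  · right; left; exact QuotientGroup.eq.mp h.symm
  · right; right; left; exact QuotientGroup.eq.mp h.symm
  · right; right; right; exact QuotientGroup.eq.mp h.symm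

end cosets

section gamma3
variable {P : Type*} [Group P]

/-- `γ₃(P) = [P', P]` -/
abbrev gam3 (P : Type*) [Group P] : Subgroup P := ⁅commutator P, (⊤ : Subgroup P)⁆

theorem gam3_le : gam3 P ≤ commutator P := by
  rw [Subgroup.commutator_le]
  intro a _ b _
  rw [commutator_def]
  exact Subgroup.commutator_mem_commutator (Subgroup.mem_top _) (Subgroup.mem_top _)

theorem comm_mem_gam3 (d g : P) (hd : d ∈ commutator P) : ⁅d, g⁆ ∈ gam3 P :=
  Subgroup.commutator_mem_commutator hd (Subgroup.mem_top g)

theorem comm_mem_gam3' (d g : P) (hd : d ∈ commutator P) : ⁅g, d⁆ ∈ gam3 P := by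
  have h : gam3 P = ⁅(⊤ : Subgroup P), commutator P⁆ := Subgroup.commutator_comm _ _
  rw [h]
  exact Subgroup.commutator_mem_commutator (Subgroup.mem_top g) hd

theorem comm_sq_mem (x y : P) (hx : x * x ∈ commutator P) : ⁅x, y⁆ * ⁅x, y⁆ ∈ gam3 P := by
  have hc : ⁅x, y⁆ ∈ commutator P := by
    rw [commutator_def]
    exact Subgroup.commutator_mem_commutator (Subgroup.mem_top _) (Subgroup.mem_top _)
  have h1 : ⁅x, y⁆ * ⁅x, y⁆ = ⁅x, ⁅x, y⁆⁆⁻¹ * ⁅x * x, y⁆ := by
    simp only [commutatorElement_def]; group
  rw [h1]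
  exact mul_mem (inv_mem (comm_mem_gam3' _ _ hc)) (comm_mem_gam3 _ _ hx)

/-- `P' = ⟨[x,y]⟩ γ₃` for generators `x, y` -/
theorem mem_or (x y : P) (hgen : Subgroup.closure {x, y} = ⊤) (hx : x * x ∈ commutator P)
    (d : P) (hd : d ∈ commutator P) : d ∈ gam3 P ∨ ⁅x, y⁆⁻¹ * d ∈ gam3 P := by
  set c := ⁅x, y⁆ with hc
  have hcD : c ∈ commutator P := by
    rw [commutator_def]
    exact Subgroup.commutator_mem_commutator (Subgroup.mem_top _) (Subgroup.mem_top _)
  have hcc : c * c ∈ gam3 P := comm_sq_mem x y hx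
  let M : Subgroup P := gam3 P ⊔ Subgroup.zpowers c
  have hMD : M ≤ commutator P := sup_le gam3_le (Subgroup.zpowers_le.mpr hcD)
  haveI hMn : M.Normal := ⟨fun m hm g => by
    have h1 : g * m * g⁻¹ = ⁅g, m⁆ * m := by simp only [commutatorElement_def]; group
    rw [h1]
    exact mul_mem (Subgroup.mem_sup_left (comm_mem_gam3' _ _ (hMD hm))) hm⟩
  let π := QuotientGroup.mk' M
  have hxy : π x * π y = π y * π x := by
    have h1 : π ⁅x, y⁆ = 1 :=
      (QuotientGroup.eq_one_iff _).mpr (Subgroup.mem_sup_right (Subgroup.mem_zpowers c))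
    rw [commutatorElement_def, map_mul, map_mul, map_mul, map_inv, map_inv] at h1
    calc π x * π y = (π x * π y * (π x)⁻¹ * (π y)⁻¹) * π y * π x := by group
      _ = π y * π x := by rw [h1, one_mul]
  have hcl : Subgroup.closure {π x, π y} = ⊤ := by
    have := congrArg (Subgroup.map π) hgen
    rw [MonoidHom.map_closure, Subgroup.map_top_of_surjective π (QuotientGroup.mk'_surjective M),
      Set.image_pair] at this
    exact this
  have hxy' : Commute (π x) (π y) := hxy
  have hcen : ∀ g : P ⧸ M, Commute g (π x) ∧ Commute g (π y) := by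
    intro g
    have hg : g ∈ Subgroup.closure {π x, π y} := by rw [hcl]; trivial
    induction hg using Subgroup.closure_induction with
    | mem z hz =>
      rcases hz with rfl | rfl
      · exact ⟨Commute.refl _, hxy'⟩
      · exact ⟨hxy'.symm, Commute.refl _⟩
    | one => exact ⟨Commute.one_left _, Commute.one_left _⟩
    | mul a b _ _ iha ihb => exact ⟨iha.1.mul_left ihb.1, iha.2.mul_left ihb.2⟩
    | inv a _ iha => exact ⟨iha.1.inv_left, iha.2.inv_left⟩
  have hcomm : IsMulCommutative (P ⧸ M) := by
    refine ⟨⟨fun g h => ?_⟩⟩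
    have hh : h ∈ Subgroup.closure {π x, π y} := by rw [hcl]; trivial
    show Commute g h
    induction hh using Subgroup.closure_induction with
    | mem z hz =>
      rcases hz with rfl | rfl
      · exact (hcen g).1
      · exact (hcen g).2
    | one => exact Commute.one_right g
    | mul a b _ _ iha ihb => exact iha.mul_right ihb
    | inv a _ iha => exact iha.inv_right
  have hDM : commutator P ≤ M := Subgroup.Normal.quotient_commutative_iff_commutator_le.mp hcomm
  obtain ⟨n, hn, z, hz, rfl⟩ := Subgroup.mem_sup_of_normal_left.mp (hDM hd)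
  obtain ⟨k, rfl⟩ := Subgroup.mem_zpowers_iff.mp hz
  have hpow : ∀ j : ℤ, c ^ (2 * j) ∈ gam3 P := by
    intro j
    rw [zpow_mul, zpow_two]
    exact zpow_mem hcc j
  rcases Int.even_or_odd' k with ⟨j, rfl | rfl⟩
  · left
    exact mul_mem hn (hpow j)
  · right
    have h1 : c⁻¹ * (n * c ^ (2 * j + 1)) = (c⁻¹ * n * c⁻¹⁻¹) * c ^ (2 * j) := by
      rw [zpow_add, zpow_one]; group
    rw [h1]
    haveI : (gam3 P).Normal := inferInstance
    exact mul_mem (Subgroup.Normal.conj_mem inferInstance n hn c⁻¹) (hpow j)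

end gamma3

section core
variable {P : Type*} [Group P] [Finite P]

theorem map_gam3_eq (β : MulAut P) : (gam3 P).map (β : P →* P) = gam3 P :=
  Subgroup.characteristic_iff_map_eq.mp inferInstance β

theorem core (hP : IsPGroup 2 P) (hna : ¬ IsMulCommutative P) (hD : frattini P = commutator P)
    (h4 : (commutator P).index = 4) (β : MulAut P) (q : ℕ) (hq : q.Prime) (hq2 : q ≠ 2)
    (hβ : orderOf β = q) : Nonempty (P ≃* QuaternionGroup 2) := by
  classical
  haveI : Fact (Nat.Prime 2) := ⟨Nat.prime_two⟩
  haveI hnil : Group.IsNilpotent P := hP.isNilpotent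
  haveI hNn : (gam3 P).Normal := inferInstance
  have hsqD : ∀ g : P, g * g ∈ commutator P := by
    intro g
    rw [← hD, ← pow_two]
    exact Cfsg.Agent.Lib.Helper1.IsPGroup.pow_mem_frattini hP g
  have hidxΦ : (frattini P).index = 4 := by rw [hD]; exact h4
  obtain ⟨x, y, hgen⟩ := exists_gen_pair hP hidxΦ
  set c := ⁅x, y⁆ with hc
  have hcD : c ∈ commutator P := by
    rw [commutator_def]
    exact Subgroup.commutator_mem_commutator (Subgroup.mem_top _) (Subgroup.mem_top _)
  have hcc : c * c ∈ gam3 P := comm_sq_mem x y (hsqD x)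
  have hmo : ∀ d ∈ commutator P, d ∈ gam3 P ∨ c⁻¹ * d ∈ gam3 P :=
    fun d hd => mem_or x y hgen (hsqD x) d hd
  -- an element outside `D`
  have hDne : ∃ g₀ : P, g₀ ∉ commutator P := by
    by_contra hcon
    push Not at hcon
    have : commutator P = ⊤ := eq_top_iff.mpr (fun g _ => hcon g)
    rw [this, Subgroup.index_top] at h4
    omega
  obtain ⟨a, hA⟩ := hDne
  obtain ⟨b, hb⟩ : ∃ b : P, b = β a := ⟨_, rfl⟩
  -- squares of elements of `D` lie in `γ₃`
  have hdd : ∀ d ∈ commutator P, d * d ∈ gam3 P := by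
    intro d hd
    rcases hmo d hd with h | h
    · exact mul_mem h h
    · have h1 : d * d = (c * c) * (c⁻¹ * (c⁻¹ * d) * c⁻¹⁻¹) * (c⁻¹ * d) := by group
      rw [h1]
      exact mul_mem (mul_mem hcc (hNn.conj_mem _ h c⁻¹)) h
  -- the property "g² ∈ γ₃" is constant on cosets of `D` and invariant under `β`
  have hcoset : ∀ g d : P, g * g ∈ gam3 P → d ∈ commutator P → (g * d) * (g * d) ∈ gam3 P := by
    intro g d hg hd
    have h1 : (g * d) * (g * d) = (g * g) * ⁅g⁻¹, d⁆ * (d * d) := by
      simp only [commutatorElement_def]; group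
    rw [h1]
    exact mul_mem (mul_mem hg (comm_mem_gam3' _ _ hd)) (hdd d hd)
  have hβinv : ∀ g : P, g * g ∈ gam3 P → β g * β g ∈ gam3 P := by
    intro g hg
    rw [← map_mul, ← map_gam3_eq β]
    exact Subgroup.mem_map_of_mem _ hg
  -- not every square lies in `γ₃`
  have hnotall : ¬ ∀ g : P, g * g ∈ gam3 P := by
    intro hall
    apply hna
    have hcomm : IsMulCommutative (P ⧸ gam3 P) := by
      have hsq1 : ∀ v : P ⧸ gam3 P, v * v = 1 := by
        intro v
        induction v using QuotientGroup.induction_on with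
        | H g =>
          rw [← QuotientGroup.mk_mul, QuotientGroup.eq_one_iff]
          exact hall g
      refine ⟨⟨fun a b => ?_⟩⟩
      have ha : a⁻¹ = a := inv_eq_of_mul_eq_one_left (hsq1 a)
      have hb : b⁻¹ = b := inv_eq_of_mul_eq_one_left (hsq1 b)
      have hab : (a * b)⁻¹ = a * b := inv_eq_of_mul_eq_one_left (hsq1 (a * b))
      rw [← hab, mul_inv_rev, ha, hb]
    have hle : commutator P ≤ gam3 P :=
      Subgroup.Normal.quotient_commutative_iff_commutator_le.mp hcomm
    have hbot : commutator P = ⊥ := eq_bot_of_le_commutator_top _ hle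
    refine ⟨⟨fun a b => ?_⟩⟩
    have h1 : ⁅a, b⁆ ∈ commutator P := by
      rw [commutator_def]
      exact Subgroup.commutator_mem_commutator (Subgroup.mem_top _) (Subgroup.mem_top _)
    rw [hbot, Subgroup.mem_bot, commutatorElement_eq_one_iff_mul_comm] at h1
    exact h1
  -- hence no element outside `D` has its square in `γ₃`
  have hsq : ∀ g : P, g ∉ commutator P → g * g ∉ gam3 P := by
    intro g₁ hg₁ hcon
    apply hnotall
    intro g
    have hcase := three_cosets hP hD h4 β q hq hq2 hβ g₁ hg₁ g
    have hrew : ∀ a : P, g = a * (a⁻¹ * g) := fun a => by group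
    rcases hcase with h | h | h | h
    · exact hdd g h
    · rw [hrew g₁]; exact hcoset _ _ hcon h
    · rw [hrew (β g₁)]; exact hcoset _ _ (hβinv _ hcon) h
    · rw [hrew (β (β g₁))]; exact hcoset _ _ (hβinv _ (hβinv _ hcon)) h
  -- `γ₃ ≤ γ₄`, so `γ₃ = 1`
  have hkey : ∀ d ∈ commutator P, ∀ g : P, g ∉ commutator P →
      ⁅d, g⁆ ∈ ⁅gam3 P, (⊤ : Subgroup P)⁆ := by
    intro d hd g hg
    have hs : g * g ∈ commutator P := hsqD g
    have hs' : c⁻¹ * (g * g) ∈ gam3 P := (hmo _ hs).resolve_left (hsq g hg)
    rcases hmo d hd with h | h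
    · exact Subgroup.commutator_mem_commutator h (Subgroup.mem_top g)
    · have hn : (g * g)⁻¹ * d ∈ gam3 P := by
        have h1 : (g * g)⁻¹ * d = (c⁻¹ * (g * g))⁻¹ * (c⁻¹ * d) := by group
        rw [h1]
        exact mul_mem (inv_mem hs') h
      have h2 : ⁅d, g⁆ = (g * g) * ⁅(g * g)⁻¹ * d, g⁆ * (g * g)⁻¹ := by
        simp only [commutatorElement_def]; group
      rw [h2]
      haveI : (⁅gam3 P, (⊤ : Subgroup P)⁆).Normal := inferInstance
      exact Subgroup.Normal.conj_mem inferInstance _
        (Subgroup.commutator_mem_commutator hn (Subgroup.mem_top g)) _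
  have hN : gam3 P = ⊥ := by
    apply eq_bot_of_le_commutator_top
    rw [Subgroup.commutator_le]
    intro d hd g _
    by_cases hg : g ∈ commutator P
    · have hg1 : a⁻¹ * g ∉ commutator P := by
        intro h
        apply hA
        have := mul_mem hg (inv_mem h)
        rwa [mul_inv_rev, inv_inv, mul_inv_cancel_left] at this
      have h1 : ⁅d, g⁆ = ⁅d, a⁆ * (a * ⁅d, a⁻¹ * g⁆ * a⁻¹) := by
        simp only [commutatorElement_def]; group
      rw [h1]
      haveI : (⁅gam3 P, (⊤ : Subgroup P)⁆).Normal := inferInstance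
      exact mul_mem (hkey d hd a hA)
        (Subgroup.Normal.conj_mem inferInstance _ (hkey d hd _ hg1) _)
    · exact hkey d hd g hg
  -- now `D = {1, c}` is central of order 2 and squares outside `D` equal `c`
  have hDel : ∀ d ∈ commutator P, d = 1 ∨ d = c := by
    intro d hd
    rcases hmo d hd with h | h
    · left; rwa [hN, Subgroup.mem_bot] at h
    · right
      rw [hN, Subgroup.mem_bot] at h
      exact (inv_mul_eq_one.mp h).symm
  have hc2 : c * c = 1 := by rwa [hN, Subgroup.mem_bot] at hcc
  have hsqc : ∀ g : P, g ∉ commutator P → g * g = c := by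
    intro g hg
    rcases hDel _ (hsqD g) with h | h
    · exfalso
      apply hsq g hg
      rw [h]; exact one_mem _
    · exact h
  have hc1 : c ≠ 1 := by
    intro h
    have := hsqc a hA
    apply hsq a hA
    rw [this, h]; exact one_mem _
  -- the two generators
  have hbD : b ∉ commutator P := by
    intro h
    apply hA
    rw [hb] at h
    have h1 : β a ∈ (commutator P).map (β : P →* P) := by rw [map_commutator_eq]; exact h
    obtain ⟨z, hz, hzg⟩ := Subgroup.mem_map.mp h1
    have : z = a := β.injective hzg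
    rw [← this]; exact hz
  have hab : a⁻¹ * b ∉ commutator P := by
    rw [hb]; exact no_fixed_coset hP hD h4 β q hq hq2 hβ a hA
  have ha2 : a * a = c := hsqc a hA
  have hb2 : b * b = c := hsqc b hbD
  have ha4 : a ^ 4 = 1 := by
    have : a ^ 4 = (a * a) * (a * a) := by
      rw [show (4 : ℕ) = 2 + 2 from rfl, pow_add, pow_two]
    rw [this, ha2, hc2]
  have horda : orderOf a = 2 * 2 := by
    have h1 : ¬ a ^ 2 ^ 1 = 1 := by
      rw [pow_one, pow_two, ha2]; exact hc1
    have h2 : a ^ 2 ^ (1 + 1) = 1 := by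
      norm_num; exact ha4
    have := orderOf_eq_prime_pow h1 h2
    rw [this]; norm_num
  have hbaD : b * a ∉ commutator P := by
    intro h
    apply hab
    have hDn : (commutator P).Normal := inferInstance
    have h1 : a⁻¹ * b = (a⁻¹ * (b * a) * a⁻¹⁻¹) * (a * a)⁻¹ := by group
    rw [h1]
    exact mul_mem (hDn.conj_mem _ h _) (inv_mem (hsqD a))
  have hba2 : (b * a) * (b * a) = c := hsqc _ hbaD
  have hconj : b * a * b⁻¹ = a⁻¹ := by
    have h1 : b * a * b = a := by
      have : (b * a) * (b * a) = a * a := by rw [hba2, ha2]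
      calc b * a * b = ((b * a) * (b * a)) * a⁻¹ := by group
        _ = a := by rw [this]; group
    have h2 : a⁻¹ = a * (a * a) := by
      have h5 : a * (a * (a * a)) = 1 := by
        rw [← ha4, show (4 : ℕ) = 2 + 2 from rfl, pow_add, pow_two]; group
      exact (inv_eq_of_mul_eq_one_right h5)
    have h3 : (b * b)⁻¹ = b * b := by
      rw [hb2]; exact inv_eq_of_mul_eq_one_left hc2
    calc b * a * b⁻¹ = (b * a * b) * (b * b)⁻¹ := by group
      _ = a * (b * b) := by rw [h1, h3]
      _ = a * (a * a) := by rw [hb2, ha2]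
      _ = a⁻¹ := h2.symm
  -- powers of `a`
  have hapow : ∀ k : ℤ, a ^ k ∈ commutator P ∨ a⁻¹ * a ^ k ∈ commutator P := by
    intro k
    have hpow : ∀ j : ℤ, a ^ (2 * j) ∈ commutator P := by
      intro j
      rw [zpow_mul, zpow_two]
      exact zpow_mem (hsqD a) j
    rcases Int.even_or_odd' k with ⟨j, rfl | rfl⟩
    · left; exact hpow j
    · right
      have : a⁻¹ * a ^ (2 * j + 1) = a ^ (2 * j) := by
        rw [zpow_add, zpow_one]; group
      rw [this]; exact hpow j
  have hbnot : b ∉ Subgroup.zpowers a := by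
    intro h
    obtain ⟨k, hk⟩ := Subgroup.mem_zpowers_iff.mp h
    rcases hapow k with h1 | h1
    · rw [hk] at h1; exact hbD h1
    · rw [hk] at h1; exact hab h1
  -- orders
  have hcardD : Nat.card (commutator P) = 2 := by
    have hDz : commutator P = Subgroup.zpowers c := by
      apply le_antisymm
      · intro d hd
        rcases hDel d hd with rfl | rfl
        · exact one_mem _
        · exact Subgroup.mem_zpowers _
      · exact Subgroup.zpowers_le.mpr hcD
    rw [hDz, Nat.card_zpowers]
    exact orderOf_eq_prime (by rw [pow_two]; exact hc2) hc1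
  have hcardP : Nat.card P = 8 := by
    have := Subgroup.card_mul_index (commutator P)
    rw [hcardD, h4] at this
    omega
  have hidxa : (Subgroup.zpowers a).index = 2 := by
    have := Subgroup.card_mul_index (Subgroup.zpowers a)
    rw [Nat.card_zpowers, horda, hcardP] at this
    omega
  have hall : ∀ g : P, g ∈ Subgroup.zpowers a ∨ ∃ h ∈ Subgroup.zpowers a, g = b * h := by
    intro g
    by_cases hg : g ∈ Subgroup.zpowers a
    · exact Or.inl hg
    · right
      refine ⟨b⁻¹ * g, ?_, by group⟩
      rw [Subgroup.mul_mem_iff_of_index_two hidxa]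
      constructor
      · intro h; exact absurd (inv_mem_iff.mp h) hbnot
      · intro h; exact absurd h hg
  exact Cfsg.Agent.Lib.Helper18.nonempty_mulEquiv_quaternionGroup a b 2 horda
    (by rw [pow_two, pow_two, hb2, ha2]) hconj hbnot hall

end core

/-- Let P be a finite non-abelian 2-group whose commutator subgroup has index 4 and whose automorphism group is not a 2-group (some automorphism has order that is not a power of 2). Then P is isomorphic to the quaternion group of order 8. -/
theorem result {P : Type*} [Group P] [Finite P] (hP : IsPGroup 2 P) (hna : ¬ IsMulCommutative P) (h4 : (commutator P).index = 4) (haut : ¬ IsPGroup 2 (MulAut P)) : Nonempty (P ≃* QuaternionGroup 2) := by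
  have hD := frattini_eq_commutator hP hna h4
  obtain ⟨α, q, hq, hq2, hα⟩ := exists_odd_aut haut
  exact core hP hna hD h4 α q hq hq2 hα

end Cfsg.Agent.S4189
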