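import Cfsg.Statements.S4194
import Cfsg.Agent.Lib.Helper19.CaminaHerzog

set_option autoImplicit false
open Cfsg

namespace Cfsg.Agent.S4194

/-- A finite group G has commutative Sylow 2-subgroups if and only if every 2-element of G (element of order a power of 2) is 2-central, that is, its centralizer contains a Sylow 2-subgroup of G. -/
theorem result {G : Type*} [Group G] [Finite G] (P : Sylow 2 G) :
    IsMulCommutative (P : Subgroup G) ↔ ∀ x : G, (∃ k : ℕ, orderOf x = 2 ^ k) → (∃ Q : Sylow 2 G, (Q : Subgroup G) ≤ Subgroup.centralizer ({x} : Set G)) := by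
  have : Fact (Nat.Prime 2) := ⟨Nat.prime_two⟩
  constructor
  · intro hcomm x hx
    obtain ⟨k, hk⟩ := hx
    have hz : IsPGroup 2 (Subgroup.zpowers x) := by
      apply IsPGroup.of_card (n := k)
      rw [Nat.card_zpowers, hk]
    obtain ⟨Q, hQ⟩ := hz.exists_le_sylow
    refine ⟨Q, ?_⟩
    obtain ⟨g, hg⟩ := Cfsg.Agent.Lib.Helper19.CH.sylow_conj P Q
    have hxQ : x ∈ (Q : Subgroup G) := hQ (Subgroup.mem_zpowers x)
    rw [hg] at hxQ ⊢
    obtain ⟨p', hp', rfl⟩ := hxQ
    rintro _ ⟨p, hp, rfl⟩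
    rw [Subgroup.mem_centralizer_singleton_iff]
    have h1 : p * p' = p' * p :=
      congrArg Subtype.val (mul_comm' (⟨p, hp⟩ : (P : Subgroup G)) ⟨p', hp'⟩)
    rw [← map_mul, ← map_mul, h1]
  · intro h
    have hyp : Cfsg.Agent.Lib.Helper19.CH.Hyp G := by
      intro x hx h2
      obtain ⟨Q, hQ⟩ := h x hx
      exact Q.not_dvd_index (dvd_trans h2 (Subgroup.index_dvd_of_le hQ))
    have hmain := Cfsg.Agent.Lib.Helper19.CH.main_aux (Nat.card G) G rfl hyp P
    exact ⟨⟨fun a b => Subtype.ext (hmain a a.2 b b.2)⟩⟩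

end Cfsg.Agent.S4194
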