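import Cfsg.Statements.S4195
-- import your own Cfsg.Agent.* helpers here

set_option autoImplicit false
open Cfsg

namespace Cfsg.Agent.S4195

/-- Let x be a non-identity element of a finite group G whose centralizer contains a Sylow 2-subgroup of G. If x is conjugate to its inverse, then x has order 2. -/
theorem result {G : Type*} [Group G] [Finite G] (x : G) (hx : x ≠ 1) (P : Sylow 2 G) (hP : (P : Subgroup G) ≤ Subgroup.centralizer ({x} : Set G)) (hreal : IsConj x x⁻¹) : orderOf x = 2 := by
  classical
  haveI : Fact (Nat.Prime 2) := ⟨Nat.prime_two⟩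
  obtain ⟨g, hg⟩ := isConj_iff.mp hreal
  -- it suffices to show x = x⁻¹
  have key : x = x⁻¹ := by
    by_contra hne
    -- the extended centralizer D
    let D : Subgroup G :=
      { carrier := {h | h * x * h⁻¹ = x ∨ h * x * h⁻¹ = x⁻¹}
        one_mem' := by left; simp
        mul_mem' := by
          intro a b ha hb
          have e : a * b * x * (a * b)⁻¹ = a * (b * x * b⁻¹) * a⁻¹ := by group
          rcases hb with hb | hb <;> rcases ha with ha | ha
          · left; rw [e, hb, ha]
          · right; rw [e, hb, ha]
          · right; rw [e, hb]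
            have : a * x⁻¹ * a⁻¹ = (a * x * a⁻¹)⁻¹ := by group
            rw [this, ha]
          · left; rw [e, hb]
            have : a * x⁻¹ * a⁻¹ = (a * x * a⁻¹)⁻¹ := by group
            rw [this, ha, inv_inv]
        inv_mem' := by
          intro a ha
          rcases ha with ha | ha
          · left
            have : a⁻¹ * x * a⁻¹⁻¹ = a⁻¹ * (a * x * a⁻¹) * a := by rw [ha]; group
            rw [this]; group
          · right
            have h1 : a * x⁻¹ * a⁻¹ = x := by
              have : a * x⁻¹ * a⁻¹ = (a * x * a⁻¹)⁻¹ := by group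
              rw [this, ha, inv_inv]
            have : a⁻¹ * x * a⁻¹⁻¹ = a⁻¹ * (a * x⁻¹ * a⁻¹) * a := by rw [h1]; group
            rw [this]; group }
    have hmemD : ∀ h, h ∈ D ↔ (h * x * h⁻¹ = x ∨ h * x * h⁻¹ = x⁻¹) := fun h => Iff.rfl
    have hmemC : ∀ h, h ∈ Subgroup.centralizer ({x} : Set G) ↔ h * x * h⁻¹ = x := by
      intro h
      rw [Subgroup.mem_centralizer_iff]
      constructor
      · intro hh
        have := hh x rfl
        rw [← this]; group
      · intro hh y hy
        rw [Set.mem_singleton_iff] at hy
        subst hy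
        have : h * y = (h * y * h⁻¹) * h := by group
        rw [this, hh]
    have hCD : Subgroup.centralizer ({x} : Set G) ≤ D := by
      intro h hh
      exact Or.inl ((hmemC h).mp hh)
    have hrel : (Subgroup.centralizer ({x} : Set G)).relIndex D = 2 := by
      rw [Subgroup.relIndex_eq_two_iff]
      refine ⟨g, Or.inr hg, ?_⟩
      intro b hb
      have e : b * g * x * (b * g)⁻¹ = b * (g * x * g⁻¹) * b⁻¹ := by group
      rcases hb with hb | hb
      · refine Or.inr ⟨(hmemC b).mpr hb, ?_⟩
        rw [hmemC, e, hg]
        have : b * x⁻¹ * b⁻¹ = (b * x * b⁻¹)⁻¹ := by group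
        rw [this, hb]
        exact fun h => hne h.symm
      · refine Or.inl ⟨?_, ?_⟩
        · rw [hmemC, e, hg]
          have : b * x⁻¹ * b⁻¹ = (b * x * b⁻¹)⁻¹ := by group
          rw [this, hb, inv_inv]
        · rw [hmemC, hb]
          exact fun h => hne h.symm
    have h2 : 2 ∣ (Subgroup.centralizer ({x} : Set G)).index := by
      rw [← Subgroup.relIndex_mul_index hCD, hrel]
      exact dvd_mul_right _ _
    have h3 : 2 ∣ (P : Subgroup G).index := h2.trans (Subgroup.index_dvd_of_le hP)
    exact P.not_dvd_index h3
  have hx2 : x ^ 2 = 1 := by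
    rw [pow_two]
    nth_rewrite 2 [key]
    exact mul_inv_cancel x
  exact orderOf_eq_prime hx2 hx

end Cfsg.Agent.S4195
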