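import Cfsg.Statements.S4196
-- import your own Cfsg.Agent.* helpers here
import Cfsg.Agent.S4195

set_option autoImplicit false
open Cfsg

namespace Cfsg.Agent.S4196

open scoped Pointwise in
theorem conj_mem_of_smul_eq {G : Type*} [Group G] {p : ℕ} (P Q : Sylow p G) (g : G)
    (hg : g • Q = P) (a : G) (ha : a ∈ (Q : Subgroup G)) : g * a * g⁻¹ ∈ (P : Subgroup G) := by
  have h1 : MulAut.conj g • a ∈ MulAut.conj g • (Q : Subgroup G) :=
    Subgroup.smul_mem_pointwise_smul a (MulAut.conj g) (Q : Subgroup G) ha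
  rw [← hg, Sylow.smul_def, Sylow.pointwise_smul_def]
  simpa [MulAut.smul_def] using h1

/-- A finite group G has elementary abelian Sylow 2-subgroups (commutative with every element squaring to the identity) if and only if every 2-element of G has a Sylow 2-subgroup in its centralizer and is conjugate to its inverse. -/
theorem result {G : Type*} [Group G] [Finite G] (P : Sylow 2 G) :
    (IsMulCommutative (P : Subgroup G) ∧ ∀ x ∈ (P : Subgroup G), x ^ 2 = 1) ↔
      ∀ x : G, (∃ k : ℕ, orderOf x = 2 ^ k) → (∃ Q : Sylow 2 G, (Q : Subgroup G) ≤ Subgroup.centralizer ({x} : Set G)) ∧ IsConj x x⁻¹ := by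
  classical
  have : Fact (Nat.Prime 2) := ⟨Nat.prime_two⟩
  constructor
  · rintro ⟨hcomm, hexp⟩ x ⟨k, hk⟩
    rw [isMulCommutative_iff_of_setLike] at hcomm
    -- zpowers x is a 2-group
    have hpg : IsPGroup 2 (Subgroup.zpowers x) := by
      rw [IsPGroup.iff_card, Nat.card_zpowers]
      exact ⟨k, hk⟩
    obtain ⟨Q, hQ⟩ := hpg.exists_le_sylow
    obtain ⟨g, hg⟩ := MulAction.exists_smul_eq G Q P
    -- elements of Q conjugate into P
    have hconjP : ∀ a ∈ (Q : Subgroup G), g * a * g⁻¹ ∈ (P : Subgroup G) :=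
      fun a ha => conj_mem_of_smul_eq P Q g hg a ha
    have hQcomm : ∀ a ∈ (Q : Subgroup G), ∀ b ∈ (Q : Subgroup G), a * b = b * a := by
      intro a ha b hb
      have := hcomm _ (hconjP a ha) _ (hconjP b hb)
      have h2 : g * (a * b) * g⁻¹ = g * (b * a) * g⁻¹ := by
        calc g * (a * b) * g⁻¹ = (g * a * g⁻¹) * (g * b * g⁻¹) := by group
          _ = (g * b * g⁻¹) * (g * a * g⁻¹) := this
          _ = g * (b * a) * g⁻¹ := by group
      exact mul_left_cancel (mul_right_cancel h2)
    have hQexp : ∀ a ∈ (Q : Subgroup G), a ^ 2 = 1 := by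
      intro a ha
      have := hexp _ (hconjP a ha)
      have h2 : g * a ^ 2 * g⁻¹ = 1 := by
        calc g * a ^ 2 * g⁻¹ = (g * a * g⁻¹) ^ 2 := by rw [pow_two, pow_two]; group
          _ = 1 := this
      have h3 : g * a ^ 2 * g⁻¹ = g * 1 * g⁻¹ := by rw [h2]; group
      exact mul_left_cancel (mul_right_cancel h3)
    have hxQ : x ∈ (Q : Subgroup G) := hQ (Subgroup.mem_zpowers x)
    refine ⟨⟨Q, ?_⟩, ?_⟩
    · intro q hq
      rw [Subgroup.mem_centralizer_iff]
      intro y hy
      rw [Set.mem_singleton_iff] at hy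
      subst hy
      exact hQcomm _ hxQ _ hq
    · have hxx : x ^ 2 = 1 := hQexp x hxQ
      have : x⁻¹ = x := by
        rw [inv_eq_iff_mul_eq_one, ← pow_two]; exact hxx
      rw [this]
  · intro h
    have hexp : ∀ x ∈ (P : Subgroup G), x ^ 2 = 1 := by
      intro x hx
      by_cases hx1 : x = 1
      · rw [hx1]; simp
      · have hord : ∃ k : ℕ, orderOf x = 2 ^ k := by
          obtain ⟨k, hk⟩ := (IsPGroup.iff_orderOf.mp P.2) ⟨x, hx⟩
          refine ⟨k, ?_⟩
          rw [← hk]
          exact (Subgroup.orderOf_mk x hx).symm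
        obtain ⟨⟨Q, hQ⟩, hreal⟩ := h x hord
        have := Cfsg.Agent.S4195.result x hx1 Q hQ hreal
        rw [← this]
        exact pow_orderOf_eq_one x
    refine ⟨?_, hexp⟩
    rw [isMulCommutative_iff_of_setLike]
    intro a ha b hb
    have ha2 := hexp a ha
    have hb2 := hexp b hb
    have hab2 := hexp (a * b) (Subgroup.mul_mem _ ha hb)
    have hainv : a⁻¹ = a := by rw [inv_eq_iff_mul_eq_one, ← pow_two]; exact ha2
    have hbinv : b⁻¹ = b := by rw [inv_eq_iff_mul_eq_one, ← pow_two]; exact hb2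
    have habinv : (a * b)⁻¹ = a * b := by rw [inv_eq_iff_mul_eq_one, ← pow_two]; exact hab2
    calc a * b = (a * b)⁻¹ := habinv.symm
      _ = b⁻¹ * a⁻¹ := mul_inv_rev a b
      _ = b * a := by rw [hainv, hbinv]

end Cfsg.Agent.S4196
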