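import Cfsg.Statements.S4203
import Cfsg.Agent.S4337
-- import your own Cfsg.Agent.* helpers here

set_option autoImplicit false
open Cfsg

namespace Cfsg.Agent.S4203

open Subgroup

/-- number theory: a prime or prime square congruent to 1 mod the largest prime must be 4 -/
theorem index_eq_four {p q d n : ℕ} (hp : p.Prime) (hq : q.Prime) (hd : d = q ∨ d = q ^ 2)
    (hdn : d ∣ n) (hmax : ∀ r : ℕ, r.Prime → r ∣ n → r ≤ p) (hmod : d ≡ 1 [MOD p]) :
    d = 4 := by
  have hqd : q ∣ d := by
    rcases hd with rfl | rfl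
    · exact dvd_rfl
    · exact dvd_pow_self q (by norm_num)
  have hqp : q ≤ p := hmax q hq (hqd.trans hdn)
  have hpd : ¬ p ∣ d := by
    intro h
    have h0 : d ≡ 0 [MOD p] := (Nat.modEq_zero_iff_dvd).mpr h
    have h1 : (0 : ℕ) ≡ 1 [MOD p] := h0.symm.trans hmod
    have h2 : p ∣ 1 := by
      have := (Nat.modEq_iff_dvd' (by norm_num : (0:ℕ) ≤ 1)).mp h1
      simpa using this
    exact hp.one_lt.ne' (Nat.dvd_one.mp h2)
  have hqne : q ≠ p := by
    intro h
    exact hpd (h ▸ hqd)
  have hqlt : q < p := lt_of_le_of_ne hqp hqne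
  have hq2 : 2 ≤ q := hq.two_le
  rcases hd with rfl | rfl
  · exfalso
    have h1 := hmod
    unfold Nat.ModEq at h1
    rw [Nat.mod_eq_of_lt hqlt, Nat.mod_eq_of_lt hp.one_lt] at h1
    omega
  · have h1 : p ∣ q ^ 2 - 1 := (Nat.modEq_iff_dvd' (Nat.one_le_pow _ _ (by omega))).mp hmod.symm
    have h2 : q ^ 2 - 1 = (q - 1) * (q + 1) := by
      have : q ^ 2 = (q - 1) * (q + 1) + 1 := by
        obtain ⟨k, rfl⟩ : ∃ k, q = k + 1 := ⟨q - 1, by omega⟩
        simp; ring
      omega
    rw [h2] at h1
    rcases (Nat.Prime.dvd_mul hp).mp h1 with h3 | h3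
    · exfalso
      have := Nat.le_of_dvd (by omega) h3
      omega
    · have h4 := Nat.le_of_dvd (by omega) h3
      have h5 : p = q + 1 := by omega
      -- consecutive primes
      have h6 : q = 2 := by
        rcases hq.eq_two_or_odd with h | h
        · exact h
        · exfalso
          have h7 : p % 2 = 0 := by omega
          rcases hp.eq_two_or_odd with h8 | h8
          · omega
          · omega
      rw [h6]
      norm_num


/-- Sylow counting: a subgroup containing the normaliser of a Sylow subgroup has index `≡ 1`. -/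
theorem index_modEq_one_of_normalizer_le {N : Type*} [Group N] [Finite N] {p : ℕ} [Fact p.Prime]
    (P : Sylow p N) (D : Subgroup N) (hND : normalizer ((P : Subgroup N) : Set N) ≤ D) :
    D.index ≡ 1 [MOD p] := by
  have hPD : (P : Subgroup N) ≤ D := le_normalizer.trans hND
  have h1 : Nat.card (Sylow p N) ≡ 1 [MOD p] := card_sylow_modEq_one p N
  rw [P.card_eq_index_normalizer] at h1
  have h2 : Nat.card (Sylow p D) ≡ 1 [MOD p] := card_sylow_modEq_one p D
  rw [(P.subtype hPD).card_eq_index_normalizer] at h2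
  have h2' : (normalizer (((P.subtype hPD : Sylow p D) : Subgroup D) : Set D)).index ≡ 1 [MOD p] := h2
  rw [Sylow.coe_subtype, ← subgroupOf_normalizer_eq hPD] at h2'
  have h3 : (normalizer ((P : Subgroup N) : Set N)).relIndex D * D.index
      = (normalizer ((P : Subgroup N) : Set N)).index := relIndex_mul_index hND
  have h4 : (normalizer ((P : Subgroup N) : Set N)).relIndex D ≡ 1 [MOD p] := h2'
  calc D.index = 1 * D.index := (one_mul _).symm
    _ ≡ (normalizer ((P : Subgroup N) : Set N)).relIndex D * D.index [MOD p] :=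
        Nat.ModEq.mul_right _ h4.symm
    _ = (normalizer ((P : Subgroup N) : Set N)).index := h3
    _ ≡ 1 [MOD p] := h1

/-- `|G : M| = |N : N ∩ M|` when `N` is normal and `N M = G`. -/
theorem index_eq_relIndex_of_sup_eq_top {G : Type*} [Group G] [Finite G] (N M : Subgroup G)
    [N.Normal] (h : M ⊔ N = ⊤) : M.index = M.relIndex N := by
  have h1 : N.relIndex M = N.index := by
    rw [← relIndex_sup_right M N, h, relIndex_top_right]
  have e1 : M.index * Nat.card M = Nat.card G := M.index_mul_card
  have e2 : N.index * Nat.card N = Nat.card G := N.index_mul_card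
  have e3 : Nat.card M = N.relIndex M * Nat.card ↥(M ⊓ N) := by
    have h2 : (⊥ : Subgroup G).relIndex (M ⊓ N) * (M ⊓ N).relIndex M = (⊥ : Subgroup G).relIndex M :=
      relIndex_mul_relIndex _ _ _ bot_le inf_le_left
    rw [relIndex_bot_left, relIndex_bot_left, inf_comm, inf_relIndex_right] at h2
    rw [← h2, mul_comm, inf_comm]
  have e4 : Nat.card N = M.relIndex N * Nat.card ↥(M ⊓ N) := by
    have h2 : (⊥ : Subgroup G).relIndex (M ⊓ N) * (M ⊓ N).relIndex N = (⊥ : Subgroup G).relIndex N :=
      relIndex_mul_relIndex _ _ _ bot_le inf_le_right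
    rw [relIndex_bot_left, relIndex_bot_left, inf_relIndex_right] at h2
    rw [← h2, mul_comm]
  have hpos : 0 < N.index * Nat.card ↥(M ⊓ N) :=
    Nat.mul_pos (Nat.pos_of_ne_zero index_ne_zero_of_finite) Nat.card_pos
  have : M.index * (N.index * Nat.card ↥(M ⊓ N)) = M.relIndex N * (N.index * Nat.card ↥(M ⊓ N)) := by
    calc M.index * (N.index * Nat.card ↥(M ⊓ N)) = M.index * Nat.card M := by rw [e3, h1]
      _ = N.index * Nat.card N := by rw [e1, e2]
      _ = M.relIndex N * (N.index * Nat.card ↥(M ⊓ N)) := by rw [e4]; ring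
  exact Nat.eq_of_mul_eq_mul_right hpos this


universe u

theorem solvable_aux : ∀ (n : ℕ) (G : Type u) [Group G] [Finite G], Nat.card G = n →
    (∀ M : Subgroup G, IsCoatom M → ∃ p : ℕ, p.Prime ∧ (M.index = p ∨ M.index = p ^ 2)) →
    Group.IsSolvable G := by
  intro n
  induction n using Nat.strong_induction_on with
  | _ n ih =>
  intro G _ _ hcard h
  by_cases htriv : Subsingleton G
  · infer_instance
  rw [not_subsingleton_iff_nontrivial] at htriv
  -- a minimal normal subgroup
  obtain ⟨N, hNn, hNbot, hNmin⟩ : ∃ N : Subgroup G, N.Normal ∧ N ≠ ⊥ ∧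
      ∀ K : Subgroup G, K.Normal → K ≤ N → K = ⊥ ∨ K = N := by
    have hfin : {K : Subgroup G | K.Normal ∧ K ≠ ⊥}.Finite := Set.toFinite _
    have hne : {K : Subgroup G | K.Normal ∧ K ≠ ⊥}.Nonempty :=
      ⟨⊤, inferInstance, top_ne_bot⟩
    obtain ⟨N, hN⟩ := hfin.exists_minimal hne
    refine ⟨N, hN.1.1, hN.1.2, ?_⟩
    intro K hK hKN
    by_cases hKb : K = ⊥
    · exact Or.inl hKb
    · exact Or.inr (le_antisymm hKN (hN.2 ⟨hK, hKb⟩ hKN))
  have := hNn
  have hNcard : 1 < Nat.card N := (Subgroup.one_lt_card_iff_ne_bot N).mpr hNbot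
  -- the quotient is solvable
  have hQ : Group.IsSolvable (G ⧸ N) := by
    refine ih (Nat.card (G ⧸ N)) ?_ (G ⧸ N) rfl ?_
    · have h1 : N.index * Nat.card N = Nat.card G := N.index_mul_card
      have h2 : Nat.card (G ⧸ N) = N.index := rfl
      have h3 : 0 < N.index := Nat.pos_of_ne_zero index_ne_zero_of_finite
      rw [← hcard, h2, ← h1]
      nlinarith
    · intro Mb hMb
      have hco := Subgroup.isCoatom_comap_of_surjective (QuotientGroup.mk'_surjective N) hMb
      obtain ⟨p, hp, hidx⟩ := h _ hco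
      rw [Subgroup.index_comap_of_surjective _ (QuotientGroup.mk'_surjective N)] at hidx
      exact ⟨p, hp, hidx⟩
  suffices hN : Group.IsSolvable N from (Group.isSolvable_iff_subgroup_quotient N).mpr ⟨hN, hQ⟩
  by_contra hNns
  -- the largest prime divisor of `|N|`
  have hSne : (Nat.card N).primeFactors.Nonempty := Nat.nonempty_primeFactors.mpr hNcard
  set p := (Nat.card N).primeFactors.max' hSne with hpdef
  have hpS : p ∈ (Nat.card N).primeFactors := Finset.max'_mem _ hSne
  have hp : p.Prime := Nat.prime_of_mem_primeFactors hpS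
  have hpN : p ∣ Nat.card N := Nat.dvd_of_mem_primeFactors hpS
  have hmaxp : ∀ r : ℕ, r.Prime → r ∣ Nat.card N → r ≤ p := fun r hr hrN =>
    Finset.le_max' _ r (Nat.mem_primeFactors.mpr ⟨hr, hrN, by omega⟩)
  have : Fact p.Prime := ⟨hp⟩
  obtain ⟨P⟩ : Nonempty (Sylow p N) := inferInstance
  have hP'N : (P : Subgroup N).map N.subtype ≤ N := map_subtype_le _
  have hPbot : (P : Subgroup N) ≠ ⊥ := P.ne_bot_of_dvd_card hpN
  have hP'bot : (P : Subgroup N).map N.subtype ≠ ⊥ := by
    intro h0
    exact hPbot ((Subgroup.map_eq_bot_iff_of_injective _ N.subtype_injective).mp h0)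
  have hP'nn : ¬ ((P : Subgroup N).map N.subtype).Normal := by
    intro hn
    rcases hNmin _ hn hP'N with h0 | h0
    · exact hP'bot h0
    · apply hNns
      have htop : (P : Subgroup N) = ⊤ := by
        rw [eq_top_iff]
        intro x _
        have hx : (x : G) ∈ (P : Subgroup N).map N.subtype := by rw [h0]; exact x.2
        obtain ⟨y, hy, hyx⟩ := hx
        have : y = x := Subtype.ext hyx
        exact this ▸ hy
      have hPp : IsPGroup p (P : Subgroup N) := P.isPGroup'
      rw [htop] at hPp
      have hNp : IsPGroup p N := hPp.of_equiv Subgroup.topEquiv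
      have := hNp.isNilpotent
      infer_instance
  have hnorm_ne : normalizer (((P : Subgroup N).map N.subtype : Subgroup G) : Set G) ≠ ⊤ := by
    intro h0
    exact hP'nn (normalizer_eq_top_iff.mp h0)
  obtain ⟨M, hM, hle⟩ := (eq_top_or_exists_le_coatom _).resolve_left hnorm_ne
  have hfrat : normalizer (((P : Subgroup N).map N.subtype : Subgroup G) : Set G) ⊔ N = ⊤ :=
    Sylow.normalizer_sup_eq_top P
  have hNM : ¬ N ≤ M := by
    intro h0
    apply hM.1
    rw [eq_top_iff, ← hfrat]
    exact sup_le hle h0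
  have hMN : M ⊔ N = ⊤ := by
    apply hM.2
    refine lt_of_le_of_ne le_sup_left ?_
    intro h0
    exact hNM (h0 ▸ le_sup_right)
  have hidx : M.index = M.relIndex N := index_eq_relIndex_of_sup_eq_top N M hMN
  have hND : normalizer ((P : Subgroup N) : Set N) ≤ M.subgroupOf N := by
    intro x hx
    rw [mem_subgroupOf]
    apply hle
    exact Subgroup.le_normalizer_map N.subtype ⟨x, hx, rfl⟩
  have hmod : (M.subgroupOf N).index ≡ 1 [MOD p] := index_modEq_one_of_normalizer_le P _ hND
  obtain ⟨q, hq, hidxq⟩ := h M hM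
  have hD : (M.subgroupOf N).index = M.index := hidx.symm
  have hd4 : M.index = 4 := by
    apply index_eq_four hp hq hidxq _ hmaxp
    · rw [← hD]; exact hmod
    · rw [← hD]; exact Subgroup.index_dvd_card _
  -- the action on the four cosets
  have hker : (MulAction.toPermHom G (G ⧸ M)).ker = M.normalCore := (Subgroup.normalCore_eq_ker M).symm
  have hcap : N ⊓ (MulAction.toPermHom G (G ⧸ M)).ker = ⊥ := by
    rcases hNmin (N ⊓ (MulAction.toPermHom G (G ⧸ M)).ker) inferInstance inf_le_left with h0 | h0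
    · exact h0
    · exfalso
      apply hNM
      rw [← h0]
      exact inf_le_right.trans (hker ▸ Subgroup.normalCore_le M)
  have hinj : Function.Injective ((MulAction.toPermHom G (G ⧸ M)).comp N.subtype) := by
    rw [← MonoidHom.ker_eq_bot_iff, eq_bot_iff]
    intro x hx
    have : (x : G) ∈ N ⊓ (MulAction.toPermHom G (G ⧸ M)).ker := ⟨x.2, hx⟩
    rw [hcap, Subgroup.mem_bot] at this
    rw [Subgroup.mem_bot]
    exact Subtype.ext this
  haveI : Fintype (G ⧸ M) := Fintype.ofFinite _
  have hcard4 : Fintype.card (G ⧸ M) ≤ 4 := by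
    rw [← Nat.card_eq_fintype_card]
    exact hd4.le
  have : Group.IsSolvable (Equiv.Perm (G ⧸ M)) :=
    ⟨⟨3, Cfsg.Agent.S4337.derivedSeries_perm_small hcard4⟩⟩
  exact hNns (Group.isSolvable_of_isSolvable_injective hinj)


/-- A finite group in which every maximal subgroup has index a prime or the square of a prime is solvable. -/
theorem result {G : Type*} [Group G] [Finite G] (h : ∀ M : Subgroup G, IsCoatom M → ∃ p : ℕ, p.Prime ∧ (M.index = p ∨ M.index = p ^ 2)) : Group.IsSolvable G :=
  solvable_aux (Nat.card G) G rfl h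

end Cfsg.Agent.S4203
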