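import Cfsg.Statements.S4204
-- import your own Cfsg.Agent.* helpers here
import Cfsg.Agent.Lib.Helper22.Commutator

set_option autoImplicit false
open Cfsg

namespace Cfsg.Agent.S4204

/-- `lcsAux H 0 = ⊤`, `lcsAux H (i+1) = H.lowerCentralSeries i`. -/
def lcsAux {G : Type*} [Group G] (H : Subgroup G) : ℕ → Subgroup G
  | 0 => ⊤
  | (i + 1) => H.lowerCentralSeries i

theorem lcsAux_normal {G : Type*} [Group G] (H : Subgroup G) [H.Normal] (i : ℕ) :
    (lcsAux H i).Normal := by
  cases i with
  | zero => exact Subgroup.normal_top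
  | succ i => exact Cfsg.Agent.Lib.Helper22.lowerCentralSeries_normal H i

theorem lcsAux_comm_le {G : Type*} [Group G] (H : Subgroup G) [H.Normal] (i : ℕ) :
    ⁅lcsAux H i, H⁆ ≤ lcsAux H (i + 1) := by
  cases i with
  | zero => exact Subgroup.commutator_le_right ⊤ H
  | succ i => exact le_rfl

theorem lcsAux_eq_bot {G : Type*} [Group G] (H : Subgroup G) (c i : ℕ)
    (hH : H.lowerCentralSeries c = ⊥) (hi : c + 1 ≤ i) : lcsAux H i = ⊥ := by
  obtain ⟨k, rfl⟩ : ∃ k, i = k + 1 := ⟨i - 1, by omega⟩
  have : H.lowerCentralSeries k ≤ H.lowerCentralSeries c :=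
    Subgroup.lowerCentralSeries_antitone H (by omega)
  rw [hH] at this
  exact le_bot_iff.mp this

theorem fitting_aux {G : Type*} [Group G] (H K : Subgroup G) [H.Normal] [K.Normal] (n : ℕ) :
    (H ⊔ K).lowerCentralSeries n ≤ ⨆ (i : ℕ) (j : ℕ) (_ : i + j = n + 1), lcsAux H i ⊓ lcsAux K j := by
  induction n with
  | zero =>
    rw [Subgroup.lowerCentralSeries_zero]
    apply sup_le
    · refine le_trans ?_ (le_iSup_of_le 1 (le_iSup_of_le 0 (le_iSup_of_le rfl le_rfl)))
      simp [lcsAux]
    · refine le_trans ?_ (le_iSup_of_le 0 (le_iSup_of_le 1 (le_iSup_of_le rfl le_rfl)))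
      simp [lcsAux]
  | succ n ih =>
    rw [Subgroup.lowerCentralSeries_succ]
    set M := ⨆ (i : ℕ) (j : ℕ) (_ : i + j = n + 1 + 1), lcsAux H i ⊓ lcsAux K j with hM
    have hMn : M.Normal := by
      rw [hM]
      have h3 : ∀ i j, (⨆ (_ : i + j = n + 1 + 1), lcsAux H i ⊓ lcsAux K j).Normal := by
        intro i j
        have := lcsAux_normal H i
        have := lcsAux_normal K j
        exact Subgroup.iSup_normal _
      have h2 : ∀ i, (⨆ (j : ℕ) (_ : i + j = n + 1 + 1), lcsAux H i ⊓ lcsAux K j).Normal := by
        intro i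
        have := h3 i
        exact Subgroup.iSup_normal _
      exact Subgroup.iSup_normal _
    refine le_trans (Subgroup.commutator_mono ih le_rfl) ?_
    apply Cfsg.Agent.Lib.Helper22.iSup_commutator_le_normal
    intro i
    apply Cfsg.Agent.Lib.Helper22.iSup_commutator_le_normal
    intro j
    apply Cfsg.Agent.Lib.Helper22.iSup_commutator_le_normal
    intro hij
    have := lcsAux_normal H i
    have := lcsAux_normal K j
    apply Cfsg.Agent.Lib.Helper22.commutator_sup_le_normal
    · -- ⁅a_i ⊓ b_j, H⁆ ≤ a_{i+1} ⊓ b_j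
      refine le_trans ?_ (le_iSup_of_le (i + 1) (le_iSup_of_le j (le_iSup_of_le (by omega) le_rfl)))
      apply le_inf
      · exact le_trans (Subgroup.commutator_mono inf_le_left le_rfl) (lcsAux_comm_le H i)
      · exact le_trans (Subgroup.commutator_mono inf_le_right le_rfl) (Subgroup.commutator_le_left _ _)
    · refine le_trans ?_ (le_iSup_of_le i (le_iSup_of_le (j + 1) (le_iSup_of_le (by omega) le_rfl)))
      apply le_inf
      · exact le_trans (Subgroup.commutator_mono inf_le_left le_rfl) (Subgroup.commutator_le_left _ _)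
      · exact le_trans (Subgroup.commutator_mono inf_le_right le_rfl) (lcsAux_comm_le K j)

/-- If `H` and `K` are normal subgroups of a finite group with `H` nilpotent of class at most `c` and `K` nilpotent of class at most `d` (the terms with index `c`, respectively `d`, of their lower central series are trivial, indices starting at `0`), then `HK` is nilpotent of class at most `c + d`. -/
theorem result {G : Type*} [Group G] [Finite G] (H K : Subgroup G) [H.Normal] [K.Normal] (c d : ℕ) (hH : H.lowerCentralSeries c = ⊥) (hK : K.lowerCentralSeries d = ⊥) : (H ⊔ K).lowerCentralSeries (c + d) = ⊥ := by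
  rw [eq_bot_iff]
  refine le_trans (fitting_aux H K (c + d)) ?_
  apply iSup_le; intro i
  apply iSup_le; intro j
  apply iSup_le; intro hij
  by_cases hi : c + 1 ≤ i
  · rw [lcsAux_eq_bot H c i hH hi]; simp
  · rw [lcsAux_eq_bot K d j hK (by omega)]; simp

end Cfsg.Agent.S4204
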