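import Cfsg.Statements.S4208
-- import your own Cfsg.Agent.* helpers here
import Mathlib
import Cfsg.Agent.Lib.Helper19.Derangement
import Cfsg.Agent.Lib.Helper1.PGroup
import Cfsg.Agent.S4207

set_option autoImplicit false
open Cfsg
open scoped commutatorElement

namespace Cfsg.Agent.S4208

/-- generating `r`-tuples of an elementary abelian group of order `p^r` -/
theorem card_gen_tuples (E : Type*) [CommGroup E] [Finite E] (p r : ℕ) [Fact p.Prime]
    (hpow : ∀ a : E, a ^ p = 1) (hcard : Nat.card E = p ^ r) :
    Nat.card {y : Fin r → E // Subgroup.closure (Set.range y) = ⊤} =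
      ∏ i ∈ Finset.range r, (p ^ r - p ^ i) := by
  classical
  have hp : p.Prime := Fact.out
  have hh : ∀ (x : Additive E), p • x = 0 := by
    intro x
    show Additive.ofMul ((Additive.toMul x) ^ p) = 0
    rw [hpow]; rfl
  let _ : Module (ZMod p) (Additive E) := AddCommGroup.zmodModule (n := p) hh
  have := Fintype.ofFinite (Additive E)
  have hfr : Module.finrank (ZMod p) (Additive E) = r := by
    have h1 := Module.card_eq_pow_finrank (K := ZMod p) (V := Additive E)
    rw [ZMod.card, ← Nat.card_eq_fintype_card] at h1
    have h2 : Nat.card (Additive E) = Nat.card E := rfl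
    rw [h2, hcard] at h1
    exact (Nat.pow_right_injective hp.two_le h1).symm
  have hcl := card_linearIndependent (K := ZMod p) (V := Additive E) (k := r) (by rw [hfr])
  rw [hfr, ZMod.card] at hcl
  rw [← Fin.prod_univ_eq_prod_range (fun i => p ^ r - p ^ i) r, ← hcl]
  refine Nat.card_congr (Equiv.subtypeEquiv (Equiv.refl _) ?_)
  intro y
  show Subgroup.closure (Set.range y) = ⊤ ↔ LinearIndependent (ZMod p) (fun i => Additive.ofMul (y i))
  have hspan : Submodule.span (ZMod p) (Set.range (fun i => Additive.ofMul (y i))) =
      (⊤ : Submodule (ZMod p) (Additive E)) ↔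
      Subgroup.closure (Set.range y) = ⊤ := by
    have e1 : (Submodule.span (ZMod p) (Set.range (fun i => Additive.ofMul (y i)))).toAddSubgroup =
        AddSubgroup.closure (Set.range (fun i => Additive.ofMul (y i))) := by
      apply le_antisymm
      · intro x hx
        have : Submodule.span (ZMod p) (Set.range (fun i => Additive.ofMul (y i))) ≤
            AddSubgroup.toZModSubmodule p
              (AddSubgroup.closure (Set.range (fun i => Additive.ofMul (y i)))) := by
          rw [Submodule.span_le]
          exact AddSubgroup.subset_closure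
        exact this hx
      · rw [AddSubgroup.closure_le]
        exact Submodule.subset_span
    have e2 : AddSubgroup.closure (Set.range (fun i => Additive.ofMul (y i))) =
        Subgroup.toAddSubgroup (Subgroup.closure (Set.range y)) := by
      rw [Subgroup.toAddSubgroup_closure]
      congr 1
    constructor
    · intro h
      have h3 : Subgroup.toAddSubgroup (Subgroup.closure (Set.range y)) = ⊤ := by
        rw [← e2, ← e1, h]; rfl
      rw [eq_top_iff]
      intro x _
      have : Additive.ofMul x ∈ Subgroup.toAddSubgroup (Subgroup.closure (Set.range y)) := by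
        rw [h3]; trivial
      exact this
    · intro h
      rw [eq_top_iff]
      intro x _
      have : x ∈ (Submodule.span (ZMod p) (Set.range (fun i => Additive.ofMul (y i)))).toAddSubgroup := by
        rw [e1, e2, h]; trivial
      exact this
  rw [← hspan]
  constructor
  · intro h
    exact linearIndependent_of_top_le_span_of_card_eq_finrank (le_of_eq h.symm)
      (by rw [Fintype.card_fin, hfr])
  · intro h
    exact h.span_eq_top_of_card_eq_finrank' (by rw [Fintype.card_fin, hfr])

/-- a free action of a finite group on a finite set: the order divides the size of the set -/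
theorem card_dvd_of_free {A S : Type*} [Group A] [MulAction A S] [Finite A] [Finite S]
    (hfree : ∀ (α : A) (y : S), α • y = y → α = 1) : Nat.card A ∣ Nat.card S := by
  classical
  have := Fintype.ofFinite A
  have hB := Cfsg.Agent.Lib.Helper19.burnside_natCard (G := A) (Ω := S)
  have hsum : ∑ α : A, Nat.card (MulAction.fixedBy S α) = Nat.card S := by
    rw [← Finset.add_sum_erase Finset.univ _ (Finset.mem_univ (1 : A))]
    have h1 : Nat.card (MulAction.fixedBy S (1 : A)) = Nat.card S := by
      have : MulAction.fixedBy S (1 : A) = Set.univ := by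
        ext q; simp
      rw [this, Nat.card_coe_set_eq, Set.ncard_univ]
    have h2 : ∑ α ∈ Finset.univ.erase (1 : A), Nat.card (MulAction.fixedBy S α) = 0 := by
      apply Finset.sum_eq_zero
      intro α hα
      have hα1 : α ≠ 1 := Finset.ne_of_mem_erase hα
      have : IsEmpty (MulAction.fixedBy S α) := by
        refine ⟨fun q => hα1 (hfree α q.1 q.2)⟩
      exact Nat.card_of_isEmpty
    rw [h1, h2, add_zero]
  rw [hsum] at hB
  exact Dvd.intro_left _ hB.symm

/-- preimage of a set under a surjective map whose fibres are cosets -/
theorem card_preimage_tuples {P : Type*} [Group P] [Finite P] (N : Subgroup P) [N.Normal] (r : ℕ)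
    (S : Set (Fin r → P ⧸ N)) :
    Nat.card {y : Fin r → P // (fun i => (QuotientGroup.mk (y i) : P ⧸ N)) ∈ S} =
      Nat.card N ^ r * Nat.card S := by
  classical
  let σ : P ⧸ N → P := Quotient.out
  have hσ : ∀ q : P ⧸ N, (QuotientGroup.mk (σ q) : P ⧸ N) = q := fun q => QuotientGroup.out_eq' q
  let e : {y : Fin r → P // (fun i => (QuotientGroup.mk (y i) : P ⧸ N)) ∈ S} ≃ S × (Fin r → N) :=
    { toFun := fun y => (⟨fun i => (QuotientGroup.mk (y.1 i) : P ⧸ N), y.2⟩,
        fun i => ⟨(σ (QuotientGroup.mk (y.1 i)))⁻¹ * y.1 i, by
          rw [← QuotientGroup.eq]; exact hσ _⟩)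
      invFun := fun z => ⟨fun i => σ (z.1.1 i) * (z.2 i : P), by
        have : (fun i => (QuotientGroup.mk (σ (z.1.1 i) * (z.2 i : P)) : P ⧸ N)) = z.1.1 := by
          funext i
          rw [QuotientGroup.mk_mul, hσ, (QuotientGroup.eq_one_iff _).2 (z.2 i).2, mul_one]
        rw [this]; exact z.1.2⟩
      left_inv := by
        intro y
        apply Subtype.ext
        funext i
        show σ (QuotientGroup.mk (y.1 i)) * ((σ (QuotientGroup.mk (y.1 i)))⁻¹ * y.1 i) = y.1 i
        rw [mul_inv_cancel_left]
      right_inv := by
        rintro ⟨⟨s, hs⟩, k⟩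
        have h1 : ∀ i, (QuotientGroup.mk (σ (s i) * (k i : P)) : P ⧸ N) = s i := by
          intro i
          rw [QuotientGroup.mk_mul, hσ, (QuotientGroup.eq_one_iff _).2 (k i).2, mul_one]
        refine Prod.ext ?_ ?_
        · apply Subtype.ext
          funext i
          exact h1 i
        · funext i
          apply Subtype.ext
          show (σ (QuotientGroup.mk (σ (s i) * (k i : P))))⁻¹ * (σ (s i) * (k i : P)) = (k i : P)
          rw [h1 i, inv_mul_cancel_left] }
  rw [Nat.card_congr e, Nat.card_prod, Nat.card_fun, Nat.card_eq_fintype_card (α := Fin r),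
    Fintype.card_fin, mul_comm]

/-- Let `P` be a group of order `p^n` whose Frattini subgroup has index `p^r`. Then the order of the automorphism group of `P` divides `p^(r(n-r)) · (p^r - 1)(p^r - p) ⋯ (p^r - p^(r-1))`. -/
theorem result {P : Type*} [Group P] [Finite P] {p n r : ℕ} [Fact p.Prime] (hP : Nat.card P = p ^ n) (hr : (frattini P).index = p ^ r) : Nat.card (MulAut P) ∣ p ^ (r * (n - r)) * ∏ i ∈ Finset.range r, (p ^ r - p ^ i) := by
  classical
  have hp : p.Prime := Fact.out
  have hPG : IsPGroup p P := IsPGroup.of_card hP
  obtain ⟨hrn, hΦ⟩ := Cfsg.Agent.S4207.card_frattini_aux hP hr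
  -- the invariant set of generating tuples
  let T : SubMulAction (MulAut P) (Fin r → P) :=
    { carrier := {y | Subgroup.closure (Set.range y) = ⊤}
      smul_mem' := by
        intro α y hy
        have h1 : Set.range (α • y) = (α : P →* P) '' Set.range y := by
          ext z
          constructor
          · rintro ⟨i, rfl⟩
            exact ⟨y i, ⟨i, rfl⟩, rfl⟩
          · rintro ⟨_, ⟨i, rfl⟩, rfl⟩
            exact ⟨i, rfl⟩
        show Subgroup.closure (Set.range (α • y)) = ⊤
        rw [h1, ← MonoidHom.map_closure, show Subgroup.closure (Set.range y) = ⊤ from hy,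
          ← MonoidHom.range_eq_map, MonoidHom.range_eq_top]
        exact α.surjective }
  have hfree : ∀ (α : MulAut P) (y : T), α • y = y → α = 1 := by
    intro α y hαy
    have hgen : Subgroup.closure (Set.range y.1) = ⊤ := y.2
    have hfix : ∀ i, α (y.1 i) = y.1 i := by
      intro i
      have := congrArg (fun z : T => z.1 i) hαy
      exact this
    have hall : ∀ g : P, α g = g := by
      intro g
      have hg : g ∈ Subgroup.closure (Set.range y.1) := by rw [hgen]; trivial
      induction hg using Subgroup.closure_induction with
      | mem z hz =>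
        obtain ⟨i, rfl⟩ := hz
        exact hfix i
      | one => exact map_one _
      | mul a b _ _ ha hb => rw [map_mul, ha, hb]
      | inv a _ ha => rw [map_inv, ha]
    apply MulEquiv.ext
    intro g
    exact hall g
  have hfinT : Finite T := by
    have : Finite (Fin r → P) := inferInstance
    exact Subtype.finite
  have hdvd : Nat.card (MulAut P) ∣ Nat.card T := card_dvd_of_free hfree
  -- count T
  have hmem : ∀ y : Fin r → P, y ∈ T ↔
      (fun i => (QuotientGroup.mk (y i) : P ⧸ frattini P)) ∈
        {z : Fin r → P ⧸ frattini P | Subgroup.closure (Set.range z) = ⊤} := by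
    intro y
    have h1 : Set.range (fun i => (QuotientGroup.mk (y i) : P ⧸ frattini P)) =
        (QuotientGroup.mk' (frattini P)) '' Set.range y := by
      ext z
      constructor
      · rintro ⟨i, rfl⟩
        exact ⟨y i, ⟨i, rfl⟩, rfl⟩
      · rintro ⟨_, ⟨i, rfl⟩, rfl⟩
        exact ⟨i, rfl⟩
    show Subgroup.closure (Set.range y) = ⊤ ↔
      Subgroup.closure (Set.range (fun i => (QuotientGroup.mk (y i) : P ⧸ frattini P))) = ⊤
    rw [h1, ← MonoidHom.map_closure]
    constructor
    · intro h
      rw [h, ← MonoidHom.range_eq_map, MonoidHom.range_eq_top]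
      exact QuotientGroup.mk'_surjective _
    · intro h
      apply frattini_nongenerating
      have h2 := congrArg (Subgroup.comap (QuotientGroup.mk' (frattini P))) h
      rw [Subgroup.comap_map_eq, QuotientGroup.ker_mk', Subgroup.comap_top] at h2
      exact h2
  have hcardT : Nat.card T = Nat.card (frattini P) ^ r *
      Nat.card {z : Fin r → P ⧸ frattini P | Subgroup.closure (Set.range z) = ⊤} := by
    rw [← card_preimage_tuples (frattini P) r]
    exact Nat.card_congr (Equiv.subtypeEquiv (Equiv.refl _) hmem)
  -- the quotient is elementary abelian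
  have hcomm : ∀ a b : P ⧸ frattini P, a * b = b * a := by
    intro a b
    induction a using QuotientGroup.induction_on with
    | H a =>
    induction b using QuotientGroup.induction_on with
    | H b =>
    rw [← QuotientGroup.mk_mul, ← QuotientGroup.mk_mul, QuotientGroup.eq]
    have : (a * b)⁻¹ * (b * a) = ⁅b⁻¹, a⁻¹⁆ := by
      rw [commutatorElement_def]; group
    rw [this]
    exact Cfsg.Agent.Lib.Helper1.IsPGroup.commutator_le_frattini hPG
      (Subgroup.commutator_mem_commutator (Subgroup.mem_top _) (Subgroup.mem_top _))
  have hpow : ∀ a : P ⧸ frattini P, a ^ p = 1 := by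
    intro a
    induction a using QuotientGroup.induction_on with
    | H a =>
    rw [← QuotientGroup.mk_pow, QuotientGroup.eq_one_iff]
    exact Cfsg.Agent.Lib.Helper1.IsPGroup.pow_mem_frattini hPG a
  have hcardQ : Nat.card (P ⧸ frattini P) = p ^ r := by
    rw [← Subgroup.index_eq_card, hr]
  have hcount : Nat.card {z : Fin r → P ⧸ frattini P | Subgroup.closure (Set.range z) = ⊤} =
      ∏ i ∈ Finset.range r, (p ^ r - p ^ i) := by
    letI : CommGroup (P ⧸ frattini P) :=
      { (inferInstance : Group (P ⧸ frattini P)) with mul_comm := hcomm }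
    exact card_gen_tuples (P ⧸ frattini P) p r hpow hcardQ
  rw [hcardT, hΦ, hcount, ← pow_mul, mul_comm (n - r) r] at hdvd
  exact hdvd

end Cfsg.Agent.S4208
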