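import Cfsg.Statements.S4211
import Mathlib
import Cfsg.Agent.Lib.Helper18.UniqueInvolution
import Cfsg.Agent.Lib.Helper18.QuasiDihedral
import Cfsg.Agent.Lib.Helper11.UniqueSubgroup
import Cfsg.Agent.Lib.Helper11.ElemAbCompl
-- import your own Cfsg.Agent.* helpers here

set_option autoImplicit false
open Cfsg

namespace Cfsg.Agent.S4211

open Subgroup

section ded
variable {G : Type*} [Group G]

/-- the commutator lies in both cyclic subgroups -/
theorem comm_mem (hn : ∀ H : Subgroup G, H.Normal) (x y : G) :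
    x * y * x⁻¹ * y⁻¹ ∈ zpowers x ∧ x * y * x⁻¹ * y⁻¹ ∈ zpowers y := by
  constructor
  · have h1 : y * x⁻¹ * y⁻¹ ∈ zpowers x :=
      (hn (zpowers x)).conj_mem _ (inv_mem (mem_zpowers x)) y
    have : x * y * x⁻¹ * y⁻¹ = x * (y * x⁻¹ * y⁻¹) := by group
    rw [this]; exact mul_mem (mem_zpowers x) h1
  · have h1 : x * y * x⁻¹ ∈ zpowers y := (hn (zpowers y)).conj_mem _ (mem_zpowers y) x
    exact mul_mem h1 (inv_mem (mem_zpowers y))

/-- conjugation by powers -/
theorem pow_conj {x y c : G} (h : x * y * x⁻¹ = c * y) (hcx : c * x = x * c) (k : ℕ) :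
    x ^ k * y * (x ^ k)⁻¹ = c ^ k * y := by
  induction k with
  | zero => simp
  | succ k ih =>
    have hck : c ^ k * x = x * c ^ k := Commute.pow_left hcx k
    calc x ^ (k + 1) * y * (x ^ (k + 1))⁻¹ = x * (x ^ k * y * (x ^ k)⁻¹) * x⁻¹ := by
          rw [pow_succ']; group
      _ = x * (c ^ k * y) * x⁻¹ := by rw [ih]
      _ = (x * c ^ k) * y * x⁻¹ := by group
      _ = c ^ k * (x * y * x⁻¹) := by rw [← hck]; group
      _ = c ^ (k + 1) * y := by rw [h, pow_succ]; group

/-- elements of a cyclic group `⟨g⟩` commute -/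
theorem commute_of_mem_zpowers {g u v : G} (hu : u ∈ zpowers g) (hv : v ∈ zpowers g) :
    u * v = v * u := by
  obtain ⟨i, rfl⟩ := hu
  obtain ⟨j, rfl⟩ := hv
  exact (Commute.zpow_zpow_self g i j)

/-- a minimal noncommuting pair in a Dedekind group consists of `p`-elements with commutator of
order `p` -/
theorem min_pair_prime [Finite G] (hn : ∀ H : Subgroup G, H.Normal) (x y : G)
    (hxy : x * y ≠ y * x)
    (hmin : ∀ x' y' : G, x' * y' ≠ y' * x' → orderOf x + orderOf y ≤ orderOf x' + orderOf y') :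
    ∃ p a b : ℕ, p.Prime ∧ 1 ≤ a ∧ 1 ≤ b ∧ orderOf x = p ^ a ∧ orderOf y = p ^ b ∧
      orderOf (x * y * x⁻¹ * y⁻¹) = p := by
  obtain ⟨c, hc⟩ : ∃ c : G, c = x * y * x⁻¹ * y⁻¹ := ⟨_, rfl⟩
  have hcm := comm_mem hn x y
  rw [← hc] at hcm ⊢
  have hc1 : c ≠ 1 := by
    intro h
    apply hxy
    have : x * y * x⁻¹ * y⁻¹ = 1 := by rw [← hc]; exact h
    calc x * y = (x * y * x⁻¹ * y⁻¹) * (y * x) := by group
      _ = y * x := by rw [this, one_mul]
  have hcx : c * x = x * c := commute_of_mem_zpowers hcm.1 (mem_zpowers x)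
  have hcy : c * y = y * c := commute_of_mem_zpowers hcm.2 (mem_zpowers y)
  have h1 : x * y * x⁻¹ = c * y := by rw [hc]; group
  have h2 : y * x * y⁻¹ = c⁻¹ * x := by rw [hc]; group
  have hcx' : c⁻¹ * y = y * c⁻¹ := (Commute.inv_left (show Commute c y from hcy)).eq
  -- primes dividing the order of x
  have hpx : ∀ q : ℕ, q.Prime → q ∣ orderOf x → orderOf c = q := by
    intro q hq hqx
    have hlt : orderOf (x ^ q) < orderOf x := by
      rw [orderOf_pow_of_dvd hq.ne_zero hqx]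
      exact Nat.div_lt_self (orderOf_pos x) hq.one_lt
    have hcomm : x ^ q * y = y * x ^ q := by
      by_contra hne
      have := hmin (x ^ q) y hne
      omega
    have h3 := pow_conj h1 hcx q
    have h4 : c ^ q = 1 := by
      have : x ^ q * y * (x ^ q)⁻¹ = y := by rw [hcomm]; group
      rw [this] at h3
      have := congrArg (· * y⁻¹) h3
      simpa using this.symm
    have h5 : orderOf c ∣ q := orderOf_dvd_of_pow_eq_one h4
    rcases (Nat.dvd_prime hq).mp h5 with h | h
    · exact absurd (orderOf_eq_one_iff.mp h) hc1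
    · exact h
  have hpy : ∀ q : ℕ, q.Prime → q ∣ orderOf y → orderOf c = q := by
    intro q hq hqy
    have hlt : orderOf (y ^ q) < orderOf y := by
      rw [orderOf_pow_of_dvd hq.ne_zero hqy]
      exact Nat.div_lt_self (orderOf_pos y) hq.one_lt
    have hcomm : y ^ q * x = x * y ^ q := by
      by_contra hne
      have := hmin x (y ^ q) (fun h => hne h.symm)
      omega
    have hcix : c⁻¹ * y = y * c⁻¹ := hcx'
    have h3 := pow_conj h2 hcix q
    have h4 : c ^ q = 1 := by
      have : y ^ q * x * (y ^ q)⁻¹ = x := by rw [hcomm]; group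
      rw [this] at h3
      have h5 := congrArg (· * x⁻¹) h3
      have h6 : (c⁻¹) ^ q = 1 := by simpa using h5.symm
      rw [inv_pow, inv_eq_one] at h6
      exact h6
    have h5 : orderOf c ∣ q := orderOf_dvd_of_pow_eq_one h4
    rcases (Nat.dvd_prime hq).mp h5 with h | h
    · exact absurd (orderOf_eq_one_iff.mp h) hc1
    · exact h
  have hx1 : orderOf x ≠ 1 := by
    intro h
    apply hxy
    rw [orderOf_eq_one_iff.mp h]; simp
  have hy1 : orderOf y ≠ 1 := by
    intro h
    apply hxy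
    rw [orderOf_eq_one_iff.mp h]; simp
  obtain ⟨p, hp, hpdx⟩ := Nat.exists_prime_and_dvd hx1
  have hcp : orderOf c = p := hpx p hp hpdx
  have hxp : orderOf x = p ^ (orderOf x).primeFactorsList.length :=
    Nat.eq_prime_pow_of_unique_prime_dvd (orderOf_pos x).ne'
      (fun {d} hd hdx => by rw [← hcp]; exact (hpx d hd hdx).symm)
  have hyp : orderOf y = p ^ (orderOf y).primeFactorsList.length :=
    Nat.eq_prime_pow_of_unique_prime_dvd (orderOf_pos y).ne'
      (fun {d} hd hdy => by rw [← hcp]; exact (hpy d hd hdy).symm)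
  refine ⟨p, _, _, hp, ?_, ?_, hxp, hyp, hcp⟩
  · by_contra h
    have : (orderOf x).primeFactorsList.length = 0 := by omega
    rw [this, pow_zero] at hxp
    exact hx1 hxp
  · by_contra h
    have : (orderOf y).primeFactorsList.length = 0 := by omega
    rw [this, pow_zero] at hyp
    exact hy1 hyp

theorem exists_npow_of_mem_zpowers [Finite G] {g h : G} (hh : h ∈ zpowers g) :
    ∃ j : ℕ, g ^ j = h := by
  rw [← mem_powers_iff_mem_zpowers] at hh
  exact Submonoid.mem_powers_iff _ _ |>.mp hh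

/-- in `⟨X⟩` with `X² = 1` the only non-identity element is `X` -/
theorem eq_of_mem_zpowers_of_sq [Finite G] {X g : G} (hX : X ^ 2 = 1) (hg : g ∈ zpowers X)
    (hg1 : g ≠ 1) : g = X := by
  obtain ⟨i, rfl⟩ := exists_npow_of_mem_zpowers hg
  rw [pow_eq_pow_mod i hX] at hg1 ⊢
  have : i % 2 = 0 ∨ i % 2 = 1 := by omega
  rcases this with h | h
  · rw [h, pow_zero] at hg1; exact absurd rfl hg1
  · rw [h, pow_one]

theorem min_pair_quaternion [Finite G] (hn : ∀ H : Subgroup G, H.Normal) (x y : G)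
    (hxy : x * y ≠ y * x)
    (hmin : ∀ x' y' : G, x' * y' ≠ y' * x' → orderOf x + orderOf y ≤ orderOf x' + orderOf y')
    (hle : orderOf y ≤ orderOf x) :
    orderOf x = 4 ∧ orderOf y = 4 ∧ x ^ 2 = y ^ 2 ∧ y * x * y⁻¹ = x⁻¹ := by
  obtain ⟨p, a, b, hp, ha, hb, hxo, hyo, hco⟩ := min_pair_prime hn x y hxy hmin
  obtain ⟨c, hc⟩ : ∃ c : G, c = x * y * x⁻¹ * y⁻¹ := ⟨_, rfl⟩
  have hcm := comm_mem hn x y
  rw [← hc] at hcm hco
  have hc1 : c ≠ 1 := by
    intro h
    rw [h, orderOf_one] at hco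
    exact hp.one_lt.ne hco
  have hcx : c * x = x * c := commute_of_mem_zpowers hcm.1 (mem_zpowers x)
  have hcy : c * y = y * c := commute_of_mem_zpowers hcm.2 (mem_zpowers y)
  have h1 : x * y * x⁻¹ = c * y := by rw [hc]; group
  have h2 : y * x * y⁻¹ = c⁻¹ * x := by rw [hc]; group
  have hcp : c ^ p = 1 := by rw [← hco]; exact pow_orderOf_eq_one c
  have hba : b ≤ a := (Nat.pow_le_pow_iff_right hp.one_lt).mp (by rw [← hxo, ← hyo]; exact hle)
  -- X and w
  obtain ⟨X, hXdef⟩ : ∃ X : G, X = x ^ p ^ (a - 1) := ⟨_, rfl⟩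
  obtain ⟨w, hwdef⟩ : ∃ w : G, w = y ^ p ^ (b - 1) := ⟨_, rfl⟩
  have hXo : orderOf X = p := by
    rw [hXdef, orderOf_pow_of_dvd (pow_ne_zero _ hp.ne_zero)
      (by rw [hxo]; exact pow_dvd_pow p (Nat.sub_le a 1)), hxo,
      Nat.pow_div (Nat.sub_le a 1) hp.pos]
    have : a - (a - 1) = 1 := by omega
    rw [this, pow_one]
  have hwo : orderOf w = p := by
    rw [hwdef, orderOf_pow_of_dvd (pow_ne_zero _ hp.ne_zero)
      (by rw [hyo]; exact pow_dvd_pow p (Nat.sub_le b 1)), hyo,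
      Nat.pow_div (Nat.sub_le b 1) hp.pos]
    have : b - (b - 1) = 1 := by omega
    rw [this, pow_one]
  have hXx : X ∈ zpowers x := by rw [hXdef]; exact pow_mem (mem_zpowers x) _
  have hwy : w ∈ zpowers y := by rw [hwdef]; exact pow_mem (mem_zpowers y) _
  have hcX : c ∈ zpowers X :=
    Cfsg.Agent.Lib.Helper18.mem_zpowers_of_orderOf_dvd x c X (orderOf_pos x).ne' hcm.1 hXx
      (by rw [hco, hXo])
  have hwc : w ∈ zpowers c :=
    Cfsg.Agent.Lib.Helper18.mem_zpowers_of_orderOf_dvd y w c (orderOf_pos y).ne' hwy hcm.2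
      (by rw [hco, hwo])
  have hwX : w⁻¹ ∈ zpowers X := inv_mem ((zpowers_le.mpr hcX) hwc)
  obtain ⟨j, hj⟩ := exists_npow_of_mem_zpowers hwX
  obtain ⟨m', hm'⟩ : ∃ m' : ℕ, m' = p ^ (a - b) * j := ⟨_, rfl⟩
  obtain ⟨u, hu⟩ : ∃ u : G, u = x ^ m' := ⟨_, rfl⟩
  obtain ⟨n, hndef⟩ : ∃ n : ℕ, n = p ^ (b - 1) := ⟨_, rfl⟩
  have hun : u ^ n = w⁻¹ := by
    rw [hu, ← pow_mul, hm', hndef, ← hj, hXdef, ← pow_mul]
    congr 1
    have : p ^ (a - b) * p ^ (b - 1) = p ^ (a - 1) := by
      rw [← pow_add]; congr 1; omega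
    calc p ^ (a - b) * j * p ^ (b - 1) = (p ^ (a - b) * p ^ (b - 1)) * j := by ring
      _ = p ^ (a - 1) * j := by rw [this]
  obtain ⟨z, hz⟩ : ∃ z : G, z = c ^ m' := ⟨_, rfl⟩
  have hzy : Commute z y := by rw [hz]; exact Commute.pow_left hcy m'
  have hux : u * x = x * u := by rw [hu]; exact (Commute.pow_self x m').symm.eq.symm
  have hzu : Commute z u := by
    rw [hz, hu]; exact Commute.pow_pow hcx m' m'
  have huy : u * y = y * u * z := by
    have h3 := pow_conj h1 hcx m'
    rw [← hu, ← hz] at h3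
    calc u * y = (u * y * u⁻¹) * u := by group
      _ = z * y * u := by rw [h3]
      _ = y * z * u := by rw [hzy.eq]
      _ = y * (z * u) := by group
      _ = y * (u * z) := by rw [hzu.eq]
      _ = y * u * z := by group
  have hform := Cfsg.Agent.Lib.Helper11.mul_pow_of_commutator_central huy hzy hzu n
  have hyn : y ^ n = w := by rw [hndef, hwdef]
  rw [hyn, hun, mul_inv_cancel, one_mul, hz, ← pow_mul] at hform
  -- noncommuting
  have hnc : x * (y * u) ≠ (y * u) * x := by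
    intro h
    apply hc1
    have h3 : x * y = c * y * x := by
      calc x * y = (x * y * x⁻¹) * x := by group
        _ = c * y * x := by rw [h1]
    have h4 : x * (y * u) = c * ((y * u) * x) := by
      calc x * (y * u) = (x * y) * u := by group
        _ = c * y * x * u := by rw [h3]
        _ = c * y * (x * u) := by group
        _ = c * y * (u * x) := by rw [hux]
        _ = c * ((y * u) * x) := by group
    rw [h] at h4
    have := mul_right_cancel (b := (y * u * x)) (a := 1) (c := c) (by rw [one_mul]; exact h4)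
    exact this.symm
  by_cases hdiv : p ∣ m' * n.choose 2
  · exfalso
    have h3 : (y * u) ^ n = 1 := by
      rw [hform]
      obtain ⟨t, ht⟩ := hdiv
      rw [ht, pow_mul, hcp, one_pow]
    have h4 : orderOf (y * u) ∣ n := orderOf_dvd_of_pow_eq_one h3
    have h5 : orderOf (y * u) ≤ n := Nat.le_of_dvd (by rw [hndef]; exact pow_pos hp.pos _) h4
    have h6 : n < orderOf y := by
      rw [hndef, hyo]; exact Nat.pow_lt_pow_right hp.one_lt (by omega)
    have := hmin x (y * u) hnc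
    omega
  · have hab : a = b := by
      by_contra hne
      apply hdiv
      rw [hm']
      have : p ∣ p ^ (a - b) := dvd_pow_self p (by omega)
      exact Dvd.dvd.mul_right (Dvd.dvd.mul_right this j) _
    have h2p : 2 = p ^ (b - 1) := by
      by_contra hne
      apply hdiv
      rw [hndef]
      exact Dvd.dvd.mul_left (Nat.Prime.dvd_choose_pow hp (by norm_num) hne) _
    have hb1 : b - 1 ≠ 0 := by
      intro h
      rw [h, pow_zero] at h2p
      omega
    have hp2 : p = 2 := by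
      have : p ∣ 2 := by rw [h2p]; exact dvd_pow_self p hb1
      exact (Nat.prime_dvd_prime_iff_eq hp Nat.prime_two).mp this
    subst hp2
    have hb2 : b = 2 := by
      have h3 : (2 : ℕ) ^ 1 = 2 ^ (b - 1) := by rw [pow_one]; exact h2p
      have := Nat.pow_right_injective (le_refl 2) h3
      omega
    subst hb2
    subst hab
    have hX2 : X ^ 2 = 1 := by rw [← hXo]; exact pow_orderOf_eq_one X
    have hcX' : c = X := eq_of_mem_zpowers_of_sq hX2 hcX hc1
    have hc2 : c ^ 2 = 1 := hcp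
    have hw1 : w ≠ 1 := by
      intro h
      rw [h, orderOf_one] at hwo
      omega
    have hwc' : w = c := eq_of_mem_zpowers_of_sq hc2 hwc hw1
    have hXx2 : X = x ^ 2 := by rw [hXdef]; norm_num
    have hwy2 : w = y ^ 2 := by rw [hwdef]; norm_num
    have hx4 : x ^ 4 = 1 := by
      have : orderOf x = 4 := by rw [hxo]; norm_num
      rw [← this]; exact pow_orderOf_eq_one x
    refine ⟨by rw [hxo]; norm_num, by rw [hyo]; norm_num, ?_, ?_⟩
    · rw [← hXx2, ← hwy2, ← hcX', hwc']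
    · rw [h2]
      have hci : c⁻¹ = c := by
        rw [inv_eq_iff_mul_eq_one, ← sq]; exact hc2
      rw [hci, hcX', hXx2]
      have : x ^ 2 * x * x = 1 := by
        calc x ^ 2 * x * x = x ^ 4 := by group
          _ = 1 := hx4
      exact eq_inv_of_mul_eq_one_left this

theorem eq_or_eq_inv_of_order_four [Finite G] {x g : G} (hx : orderOf x = 4)
    (hg : g ∈ zpowers x) (hg4 : orderOf g = 4) : g = x ∨ g = x⁻¹ := by
  have hx4 : x ^ 4 = 1 := by rw [← hx]; exact pow_orderOf_eq_one x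
  obtain ⟨i, rfl⟩ := exists_npow_of_mem_zpowers hg
  rw [pow_eq_pow_mod i hx4] at hg4 ⊢
  have : i % 4 = 0 ∨ i % 4 = 1 ∨ i % 4 = 2 ∨ i % 4 = 3 := by omega
  rcases this with h | h | h | h
  · rw [h, pow_zero, orderOf_one] at hg4; omega
  · left; rw [h, pow_one]
  · exfalso
    rw [h] at hg4
    have : (x ^ 2) ^ 2 = 1 := by rw [← pow_mul]; exact hx4
    have := orderOf_dvd_of_pow_eq_one this
    rw [hg4] at this
    omega
  · right
    rw [h]
    have : x ^ 3 * x = 1 := by rw [← pow_succ]; exact hx4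
    exact eq_inv_of_mul_eq_one_left this

theorem exists_quaternion_pair [Finite G] (hn : ∀ H : Subgroup G, H.Normal)
    (hna : ∃ x y : G, x * y ≠ y * x) :
    ∃ x y : G, orderOf x = 4 ∧ orderOf y = 4 ∧ x ^ 2 = y ^ 2 ∧ y * x * y⁻¹ = x⁻¹ := by
  obtain ⟨x₀, y₀, h₀⟩ := hna
  haveI : Nonempty {q : G × G // q.1 * q.2 ≠ q.2 * q.1} := ⟨⟨(x₀, y₀), h₀⟩⟩
  obtain ⟨⟨⟨x, y⟩, hxy⟩, hmin⟩ := Finite.exists_min
    (fun q : {q : G × G // q.1 * q.2 ≠ q.2 * q.1} => orderOf q.1.1 + orderOf q.1.2)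
  have hmin' : ∀ x' y' : G, x' * y' ≠ y' * x' → orderOf x + orderOf y ≤ orderOf x' + orderOf y' :=
    fun x' y' h => hmin ⟨(x', y'), h⟩
  by_cases hle : orderOf y ≤ orderOf x
  · exact ⟨x, y, min_pair_quaternion hn x y hxy hmin' hle⟩
  · have hmin'' : ∀ x' y' : G, x' * y' ≠ y' * x' →
        orderOf y + orderOf x ≤ orderOf x' + orderOf y' := by
      intro x' y' h
      have := hmin' x' y' h
      omega
    exact ⟨y, x, min_pair_quaternion hn y x (fun h => hxy h.symm) hmin'' (by omega)⟩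

/-- subgroups of a Dedekind group are Dedekind -/
theorem dedekind_subgroup (hn : ∀ H : Subgroup G, H.Normal) (C : Subgroup G) :
    ∀ H : Subgroup C, H.Normal := by
  intro H
  refine ⟨fun n hnH g => ?_⟩
  have h1 : ((g * n * g⁻¹ : C) : G) ∈ H.map C.subtype := by
    have := (hn (H.map C.subtype)).conj_mem (n : G) ⟨n, hnH, rfl⟩ (g : G)
    simpa using this
  obtain ⟨h, hh, hh2⟩ := h1
  have : h = g * n * g⁻¹ := Subtype.ext hh2
  rw [← this]; exact hh

end ded


/-- A finite non-abelian group in which every subgroup is normal is the internal direct product of a subgroup isomorphic to the quaternion group of order `8`, an elementary abelian `2`-subgroup and an abelian subgroup of odd order. -/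
theorem result {G : Type*} [Group G] [Finite G] (hna : ¬ IsMulCommutative G) (hn : ∀ H : Subgroup G, H.Normal) : ∃ Q E A : Subgroup G, Nonempty (Q ≃* QuaternionGroup 2) ∧ Cfsg.IsElementaryAbelian 2 E ∧ IsMulCommutative A ∧ Odd (Nat.card A) ∧ E ⊓ A = ⊥ ∧ Q ⊓ (E ⊔ A) = ⊥ ∧ Q ⊔ (E ⊔ A) = ⊤ := by
  have hna' : ∃ x y : G, x * y ≠ y * x := by
    by_contra hcon
    push Not at hcon
    exact hna ⟨⟨hcon⟩⟩
  obtain ⟨x, y, hx4, hy4, hsq, hconj⟩ := exists_quaternion_pair hn hna'
  have hx4' : x ^ 4 = 1 := by rw [← hx4]; exact pow_orderOf_eq_one x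
  have hy4' : y ^ 4 = 1 := by rw [← hy4]; exact pow_orderOf_eq_one y
  obtain ⟨c, hc⟩ : ∃ c : G, c = x ^ 2 := ⟨_, rfl⟩
  have hcy : c = y ^ 2 := by rw [hc, hsq]
  have hc2 : c ^ 2 = 1 := by rw [hc, ← pow_mul]; exact hx4'
  have hc1 : c ≠ 1 := by
    intro h
    rw [hc] at h
    have := orderOf_dvd_of_pow_eq_one h
    rw [hx4] at this
    omega
  have hci : c⁻¹ = c := by rw [inv_eq_iff_mul_eq_one, ← sq]; exact hc2
  have hcx : c * x = x * c := by rw [hc]; exact (Commute.pow_self x 2).symm.eq.symm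
  have hcyc : c * y = y * c := by rw [hcy]; exact (Commute.pow_self y 2).symm.eq.symm
  -- x y x⁻¹ = y⁻¹
  have hconj' : x * y * x⁻¹ = y⁻¹ := by
    have h1 : y * x⁻¹ * y⁻¹ = x := by
      have := congrArg (·⁻¹) hconj
      simpa [mul_assoc] using this
    have h2 : x * y = y * x⁻¹ := by
      calc x * y = (y * x⁻¹ * y⁻¹) * y := by rw [h1]
        _ = y * x⁻¹ := by group
    have h3 : x⁻¹ * x⁻¹ = c := by
      rw [← hci, hc]; group
    calc x * y * x⁻¹ = y * x⁻¹ * x⁻¹ := by rw [h2]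
      _ = y * (x⁻¹ * x⁻¹) := by group
      _ = y * c := by rw [h3]
      _ = y * y ^ 2 := by rw [hcy]
      _ = y ^ 4 * y⁻¹ := by group
      _ = y⁻¹ := by rw [hy4', one_mul]
  -- the quaternion subgroup
  obtain ⟨Q, hQdef⟩ : ∃ Q : Subgroup G, Q = zpowers x ⊔ zpowers y := ⟨_, rfl⟩
  have hxQ : x ∈ Q := by rw [hQdef]; exact (le_sup_left : zpowers x ≤ _) (mem_zpowers x)
  have hyQ : y ∈ Q := by rw [hQdef]; exact (le_sup_right : zpowers y ≤ _) (mem_zpowers y)
  have hQmem : ∀ g : G, g ∈ Q ↔ g ∈ zpowers x ∨ y⁻¹ * g ∈ zpowers x := by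
    intro g
    haveI := hn (zpowers x)
    rw [hQdef]
    apply Cfsg.Agent.Lib.Helper18.IsQD.mem_sup_zpowers_iff (zpowers x) y
    rw [← sq, ← hsq]; exact pow_mem (mem_zpowers x) 2
  have hynot : y ∉ zpowers x := by
    intro h
    have h1 : y * x = x * y := commute_of_mem_zpowers h (mem_zpowers x)
    have h2 : x = x⁻¹ := by
      calc x = (x * y) * y⁻¹ := by group
        _ = y * x * y⁻¹ := by rw [← h1]
        _ = x⁻¹ := hconj
    have h3 : x ^ 2 = 1 := by
      rw [sq]; nth_rewrite 1 [h2]; exact inv_mul_cancel x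
    exact hc1 (by rw [hc]; exact h3)
  have hQiso : Nonempty (Q ≃* QuaternionGroup 2) := by
    apply Cfsg.Agent.Lib.Helper18.nonempty_mulEquiv_quaternionGroup (⟨x, hxQ⟩ : Q) ⟨y, hyQ⟩ 2
    · rw [Subgroup.orderOf_mk, hx4]
    · apply Subtype.ext
      simp only [Subgroup.coe_pow]
      exact hsq.symm
    · apply Subtype.ext
      simp only [Subgroup.coe_mul, Subgroup.coe_inv]
      exact hconj
    · intro h
      apply hynot
      obtain ⟨k, hk⟩ := h
      exact ⟨k, by have := congrArg Subtype.val hk; simpa using this⟩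
    · rintro ⟨g, hg⟩
      rcases (hQmem g).mp hg with h | h
      · left
        obtain ⟨k, hk⟩ := h
        exact ⟨k, Subtype.ext (by simpa using hk)⟩
      · right
        obtain ⟨k, hk⟩ := h
        refine ⟨⟨x, hxQ⟩ ^ k, zpow_mem (mem_zpowers _) k, ?_⟩
        apply Subtype.ext
        have hk' : x ^ k = y⁻¹ * g := hk
        simp only [Subgroup.coe_mul, Subgroup.coe_zpow, hk']
        group
  -- the centralizer of Q
  obtain ⟨C, hCdef⟩ : ∃ C : Subgroup G, C = centralizer (Q : Set G) := ⟨_, rfl⟩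
  have hCmem : ∀ h : G, h * x = x * h → h * y = y * h → h ∈ C := by
    intro h hhx hhy
    rw [hCdef, Subgroup.mem_centralizer_iff]
    have : Q ≤ centralizer ({h} : Set G) := by
      rw [hQdef]
      apply sup_le
      · rw [zpowers_le, Subgroup.mem_centralizer_singleton_iff]; exact hhx.symm
      · rw [zpowers_le, Subgroup.mem_centralizer_singleton_iff]; exact hhy.symm
    intro q hq
    have := this hq
    rwa [Subgroup.mem_centralizer_singleton_iff] at this
  have hCx : ∀ h ∈ C, h * x = x * h := by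
    intro h hh
    rw [hCdef, Subgroup.mem_centralizer_iff] at hh
    exact (hh x hxQ).symm
  have hCy : ∀ h ∈ C, h * y = y * h := by
    intro h hh
    rw [hCdef, Subgroup.mem_centralizer_iff] at hh
    exact (hh y hyQ).symm
  have hcC : c ∈ C := hCmem c hcx hcyc
  have hcQ : c ∈ Q := by rw [hc]; exact pow_mem hxQ 2
  -- Q ∩ C ≤ ⟨c⟩
  have hQC : ∀ g ∈ Q, g ∈ C → g ∈ zpowers c := by
    intro g hgQ hgC
    rcases (hQmem g).mp hgQ with h | h
    · obtain ⟨i, rfl⟩ := exists_npow_of_mem_zpowers h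
      -- y x^i y⁻¹ = x^(-i) = x^i
      have h1 : y * x ^ i * y⁻¹ = (x⁻¹) ^ i := by
        have : y * x ^ i * y⁻¹ = (y * x * y⁻¹) ^ i := by
          rw [conj_pow]
        rw [this, hconj]
      have h2 : y * x ^ i * y⁻¹ = x ^ i := by
        rw [← hCy _ hgC]; group
      have h3 : x ^ (2 * i) = 1 := by
        rw [two_mul, pow_add]
        nth_rewrite 1 [← h2]
        rw [h1, inv_pow, inv_mul_cancel]
      have h4 : 4 ∣ 2 * i := by rw [← hx4]; exact orderOf_dvd_of_pow_eq_one h3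
      obtain ⟨i', rfl⟩ : 2 ∣ i := by omega
      rw [pow_mul, ← hc]
      exact pow_mem (mem_zpowers c) i'
    · exfalso
      obtain ⟨i, hi⟩ := exists_npow_of_mem_zpowers h
      have hg : g = y * x ^ i := by rw [hi]; group
      have h1 : x * g * x⁻¹ = y⁻¹ * x ^ i := by
        rw [hg]
        calc x * (y * x ^ i) * x⁻¹ = (x * y * x⁻¹) * (x * x ^ i * x⁻¹) := by group
          _ = y⁻¹ * x ^ i := by
            rw [hconj']
            congr 1
            rw [← pow_succ', pow_succ]; group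
      have h2 : x * g * x⁻¹ = g := by rw [← hCx g hgC]; group
      rw [h2, hg] at h1
      have h3 : y = y⁻¹ := mul_right_cancel h1
      have h4 : y ^ 2 = 1 := by
        rw [sq]; nth_rewrite 1 [h3]; exact inv_mul_cancel y
      exact hc1 (by rw [hcy]; exact h4)
  -- G = C Q
  have hprod : ∀ g : G, ∃ q ∈ Q, g * q ∈ C := by
    intro g
    have hgx : g * x * g⁻¹ = x ∨ g * x * g⁻¹ = x⁻¹ := by
      apply eq_or_eq_inv_of_order_four hx4
      · exact (hn (zpowers x)).conj_mem x (mem_zpowers x) g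
      · have : orderOf (g * x * g⁻¹) = orderOf x := MulEquiv.orderOf_eq (MulAut.conj g) x
        rw [this]; exact hx4
    have hgy : g * y * g⁻¹ = y ∨ g * y * g⁻¹ = y⁻¹ := by
      apply eq_or_eq_inv_of_order_four hy4
      · exact (hn (zpowers y)).conj_mem y (mem_zpowers y) g
      · have : orderOf (g * y * g⁻¹) = orderOf y := MulEquiv.orderOf_eq (MulAut.conj g) y
        rw [this]; exact hy4
    have hcomm_of : ∀ h : G, h * x * h⁻¹ = x → h * x = x * h := by
      intro h hh
      calc h * x = (h * x * h⁻¹) * h := by group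
        _ = x * h := by rw [hh]
    have hcomm_of' : ∀ h : G, h * y * h⁻¹ = y → h * y = y * h := by
      intro h hh
      calc h * y = (h * y * h⁻¹) * h := by group
        _ = y * h := by rw [hh]
    rcases hgx with h1 | h1 <;> rcases hgy with h2 | h2
    · exact ⟨1, one_mem Q, by rw [mul_one]; exact hCmem g (hcomm_of g h1) (hcomm_of' g h2)⟩
    · refine ⟨x, hxQ, hCmem _ (hcomm_of _ ?_) (hcomm_of' _ ?_)⟩
      · calc g * x * x * (g * x)⁻¹ = g * x * g⁻¹ := by group
          _ = x := h1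
      · calc g * x * y * (g * x)⁻¹ = g * (x * y * x⁻¹) * g⁻¹ := by group
          _ = g * y⁻¹ * g⁻¹ := by rw [hconj']
          _ = (g * y * g⁻¹)⁻¹ := by group
          _ = y := by rw [h2, inv_inv]
    · refine ⟨y, hyQ, hCmem _ (hcomm_of _ ?_) (hcomm_of' _ ?_)⟩
      · calc g * y * x * (g * y)⁻¹ = g * (y * x * y⁻¹) * g⁻¹ := by group
          _ = g * x⁻¹ * g⁻¹ := by rw [hconj]
          _ = (g * x * g⁻¹)⁻¹ := by group
          _ = x := by rw [h1, inv_inv]
      · calc g * y * y * (g * y)⁻¹ = g * y * g⁻¹ := by group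
          _ = y := h2
    · refine ⟨x * y, mul_mem hxQ hyQ, hCmem _ (hcomm_of _ ?_) (hcomm_of' _ ?_)⟩
      · calc g * (x * y) * x * (g * (x * y))⁻¹ = g * (x * (y * x * y⁻¹) * x⁻¹) * g⁻¹ := by group
          _ = g * (x * x⁻¹ * x⁻¹) * g⁻¹ := by rw [hconj]
          _ = (g * x * g⁻¹)⁻¹ := by group
          _ = x := by rw [h1, inv_inv]
      · calc g * (x * y) * y * (g * (x * y))⁻¹ = g * (x * y * x⁻¹) * g⁻¹ := by group
          _ = g * y⁻¹ * g⁻¹ := by rw [hconj']
          _ = (g * y * g⁻¹)⁻¹ := by group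
          _ = y := by rw [h2, inv_inv]
  -- no element of order 4 in C
  have hno4 : ∀ z ∈ C, orderOf z ≠ 4 := by
    intro z hzC hz4
    have hzx := hCx z hzC
    have hzy := hCy z hzC
    have hz2 : z ^ 2 ≠ 1 := by
      intro h
      have := orderOf_dvd_of_pow_eq_one h
      rw [hz4] at this
      omega
    obtain ⟨w, hw⟩ : ∃ w : G, w = z * y := ⟨_, rfl⟩
    have hw4 : w ^ 4 = 1 := by
      rw [hw, (show Commute z y from hzy).mul_pow, hy4', mul_one, ← hz4]
      exact pow_orderOf_eq_one z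
    have hw2 : w ^ 2 = z ^ 2 * c := by
      rw [hw, (show Commute z y from hzy).mul_pow, hcy]
    have h1 : x * w * x⁻¹ ∈ zpowers w := (hn (zpowers w)).conj_mem w (mem_zpowers w) x
    have h2 : c = w⁻¹ * (x * w * x⁻¹) := by
      have h3 : x * w * x⁻¹ = z * y⁻¹ := by
        rw [hw]
        calc x * (z * y) * x⁻¹ = (x * z) * y * x⁻¹ := by group
          _ = (z * x) * y * x⁻¹ := by rw [hzx]
          _ = z * (x * y * x⁻¹) := by group
          _ = z * y⁻¹ := by rw [hconj']
      rw [h3, hw]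
      calc c = c⁻¹ := hci.symm
        _ = (y ^ 2)⁻¹ := by rw [hcy]
        _ = (z * y)⁻¹ * (z * y⁻¹) := by group
    have hcw : c ∈ zpowers w := by
      rw [h2]; exact mul_mem (inv_mem (mem_zpowers w)) h1
    have hwc_case : w = c → False := by
      intro h
      have hzQ : z ∈ Q := by
        have : z = c * y⁻¹ := by rw [← h, hw]; group
        rw [this]; exact mul_mem hcQ (inv_mem hyQ)
      obtain ⟨j, hj⟩ := exists_npow_of_mem_zpowers (hQC z hzQ hzC)
      apply hz2
      rw [← hj, ← pow_mul, mul_comm, pow_mul, hc2, one_pow]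
    obtain ⟨i, hi⟩ := exists_npow_of_mem_zpowers hcw
    rw [pow_eq_pow_mod i hw4] at hi
    have : i % 4 = 0 ∨ i % 4 = 1 ∨ i % 4 = 2 ∨ i % 4 = 3 := by omega
    rcases this with h | h | h | h
    · rw [h, pow_zero] at hi; exact hc1 hi.symm
    · rw [h, pow_one] at hi; exact hwc_case hi
    · rw [h, hw2] at hi
      apply hz2
      have := mul_right_cancel (b := c) (a := z ^ 2) (c := 1) (by rw [one_mul]; exact hi)
      exact this
    · rw [h] at hi
      have h5 : w ^ 3 * w = 1 := by rw [← pow_succ]; exact hw4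
      have h6 : w = c := by
        have : w⁻¹ = c := by rw [← hi]; exact (eq_inv_of_mul_eq_one_left h5).symm
        rw [← inv_inv w, this, hci]
      exact hwc_case h6
  -- C is abelian
  have hCab : ∀ u ∈ C, ∀ v ∈ C, u * v = v * u := by
    intro u hu v hv
    by_contra hne
    have hex : ∃ a b : C, a * b ≠ b * a :=
      ⟨⟨u, hu⟩, ⟨v, hv⟩, fun h => hne (congrArg Subtype.val h)⟩
    obtain ⟨a, -, ha4, -, -, -⟩ := exists_quaternion_pair (dedekind_subgroup hn C) hex
    apply hno4 (a : G) a.2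
    rw [Subgroup.orderOf_coe]; exact ha4
  -- Sylow 2-subgroup and its complement
  haveI : Fact (Nat.Prime 2) := ⟨Nat.prime_two⟩
  obtain ⟨S⟩ : Nonempty (Sylow 2 G) := inferInstance
  haveI hSn : (S : Subgroup G).Normal := hn _
  obtain ⟨H, hH⟩ := Subgroup.exists_right_complement'_of_coprime S.card_coprime_index
  have hSH : (S : Subgroup G) ⊓ H = ⊥ := disjoint_iff.mp hH.disjoint
  have hHcard : (S : Subgroup G).index = Nat.card H := hH.symm.index_eq_card
  have hHodd : Odd (Nat.card H) := by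
    have hH2 : ¬ 2 ∣ Nat.card H := by rw [← hHcard]; exact S.not_dvd_index
    rw [Nat.odd_iff]; omega
  have hcommSH : ∀ s ∈ (S : Subgroup G), ∀ h ∈ H, s * h = h * s := by
    intro s hs h hh
    have hcm := comm_mem hn s h
    have h1 : s * h * s⁻¹ * h⁻¹ ∈ (S : Subgroup G) ⊓ H :=
      Subgroup.mem_inf.mpr ⟨(zpowers_le.mpr hs) hcm.1, (zpowers_le.mpr hh) hcm.2⟩
    rw [hSH, Subgroup.mem_bot] at h1
    calc s * h = (s * h * s⁻¹ * h⁻¹) * (h * s) := by group
      _ = h * s := by rw [h1, one_mul]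
  have hxS : x ∈ (S : Subgroup G) := by
    haveI := hn (zpowers x)
    have hz : IsPGroup 2 (zpowers x) := by
      apply IsPGroup.of_card (n := 2)
      rw [Nat.card_zpowers, hx4]; norm_num
    exact hz.le_sylow_of_normal S (mem_zpowers x)
  have hyS : y ∈ (S : Subgroup G) := by
    haveI := hn (zpowers y)
    have hz : IsPGroup 2 (zpowers y) := by
      apply IsPGroup.of_card (n := 2)
      rw [Nat.card_zpowers, hy4]; norm_num
    exact hz.le_sylow_of_normal S (mem_zpowers y)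
  have hQS : Q ≤ S := by
    rw [hQdef]; exact sup_le (zpowers_le.mpr hxS) (zpowers_le.mpr hyS)
  have hHC : H ≤ C := by
    intro h hh
    exact hCmem h (hcommSH x hxS h hh).symm (hcommSH y hyS h hh).symm
  -- the elementary abelian part
  obtain ⟨E₁, hE₁def⟩ : ∃ E₁ : Subgroup G, E₁ = C ⊓ (S : Subgroup G) := ⟨_, rfl⟩
  have hE₁C : E₁ ≤ C := by rw [hE₁def]; exact inf_le_left
  have hE₁S : E₁ ≤ S := by rw [hE₁def]; exact inf_le_right
  have hE₁sq : ∀ e ∈ E₁, e ^ 2 = 1 := by
    intro e he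
    obtain ⟨k, hk⟩ := (IsPGroup.iff_orderOf.mp S.isPGroup') ⟨e, hE₁S he⟩
    rw [Subgroup.orderOf_mk] at hk
    by_cases hk1 : k ≤ 1
    · rw [← orderOf_dvd_iff_pow_eq_one, hk]
      calc 2 ^ k ∣ 2 ^ 1 := pow_dvd_pow 2 hk1
        _ = 2 := pow_one 2
    · exfalso
      push Not at hk1
      have h1 : orderOf (e ^ 2 ^ (k - 2)) = 4 := by
        rw [orderOf_pow_of_dvd (pow_ne_zero _ two_ne_zero)
          (by rw [hk]; exact pow_dvd_pow 2 (Nat.sub_le k 2)), hk,
          Nat.pow_div (Nat.sub_le k 2) two_pos]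
        have : k - (k - 2) = 2 := by omega
        rw [this]; norm_num
      exact hno4 _ (pow_mem (hE₁C he) _) h1
  have hE₁ea : Cfsg.IsElementaryAbelian 2 E₁ := by
    refine ⟨⟨⟨fun a b => Subtype.ext ?_⟩⟩, hE₁sq⟩
    exact hCab a.1 (hE₁C a.2) b.1 (hE₁C b.2)
  have hcE₁ : c ∈ E₁ := by rw [hE₁def]; exact Subgroup.mem_inf.mpr ⟨hcC, hQS hcQ⟩
  obtain ⟨E, hEle, hcE, hEsup, hEinf, -⟩ :=
    Cfsg.Agent.Lib.Helper11.exists_hyperplane_not_mem Nat.prime_two hE₁ea hcE₁ hc1
  have hEea : Cfsg.IsElementaryAbelian 2 E := by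
    refine ⟨⟨⟨fun a b => Subtype.ext ?_⟩⟩, fun e he => hE₁sq e (hEle he)⟩
    exact hCab a.1 (hE₁C (hEle a.2)) b.1 (hE₁C (hEle b.2))
  have hHab : IsMulCommutative H := by
    refine ⟨⟨fun a b => Subtype.ext ?_⟩⟩
    exact hCab a.1 (hHC a.2) b.1 (hHC b.2)
  haveI hHn : H.Normal := hn H
  refine ⟨Q, E, H, hQiso, hEea, hHab, hHodd, ?_, ?_, ?_⟩
  · rw [eq_bot_iff, ← hSH]
    exact inf_le_inf_right H (hEle.trans hE₁S)
  · rw [eq_bot_iff]
    intro g hg
    obtain ⟨hgQ, hgEH⟩ := Subgroup.mem_inf.mp hg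
    rw [← SetLike.mem_coe, Subgroup.mul_normal] at hgEH
    obtain ⟨e, he, h, hh, rfl⟩ := hgEH
    have heS : e ∈ (S : Subgroup G) := hE₁S (hEle he)
    have hhS : h ∈ (S : Subgroup G) := by
      have : h = e⁻¹ * (e * h) := by group
      rw [this]; exact mul_mem (inv_mem heS) (hQS hgQ)
    have hh1 : h = 1 := by
      have : h ∈ (S : Subgroup G) ⊓ H := Subgroup.mem_inf.mpr ⟨hhS, hh⟩
      rw [hSH, Subgroup.mem_bot] at this
      exact this
    rw [Subgroup.mem_bot]
    have hgE : e * h ∈ E := by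
      have : e * h = e := by rw [hh1, mul_one]
      rw [this]; exact he
    have hgc : e * h ∈ zpowers c := hQC _ hgQ (hE₁C (hEle hgE))
    have : e * h ∈ E ⊓ zpowers c := Subgroup.mem_inf.mpr ⟨hgE, hgc⟩
    rw [hEinf, Subgroup.mem_bot] at this
    exact this
  · rw [eq_top_iff]
    intro g _
    obtain ⟨q, hq, hgq⟩ := hprod g
    obtain ⟨⟨⟨s, hs⟩, ⟨h, hh⟩⟩, hsh⟩ := hH.2 (g * q)
    have hsh' : s * h = g * q := hsh
    have hsC : s ∈ C := by
      have : s = (g * q) * h⁻¹ := by rw [← hsh']; group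
      rw [this]; exact mul_mem hgq (inv_mem (hHC hh))
    have hsE₁ : s ∈ E ⊔ zpowers c := by
      rw [hEsup, hE₁def]; exact Subgroup.mem_inf.mpr ⟨hsC, hs⟩
    have hle1 : E ⊔ zpowers c ≤ Q ⊔ (E ⊔ H) := by
      apply sup_le
      · exact le_sup_of_le_right le_sup_left
      · exact le_sup_of_le_left (zpowers_le.mpr hcQ)
    have hgeq : g = s * h * q⁻¹ := by rw [hsh']; group
    rw [hgeq]
    refine mul_mem (mul_mem (hle1 hsE₁) ?_) (inv_mem ((le_sup_left : Q ≤ Q ⊔ (E ⊔ H)) hq))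
    exact (le_sup_of_le_right le_sup_right : H ≤ Q ⊔ (E ⊔ H)) hh

end Cfsg.Agent.S4211
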