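import Cfsg.Statements.S4213
import Mathlib
import Cfsg.Agent.Lib.Helper21.Frobenius
import Cfsg.Agent.Lib.Helper1.MinNormal
import Cfsg.Agent.Lib.Helper1.SZConj
-- import your own Cfsg.Agent.* helpers here

set_option autoImplicit false
open Cfsg

namespace Cfsg.Agent.S4213

universe u

/-- if `K` has exponent `p` and `(xK)^m = 1` with `m * p ∣ n` then `x ^ n = 1` -/
theorem lift_pow {G : Type*} [Group G] (K : Subgroup G) [K.Normal] (p : ℕ)
    (hKp : ∀ x ∈ K, x ^ p = 1) (m n : ℕ) (hdiv : m * p ∣ n) (x : G)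
    (hx : ((x : G ⧸ K)) ^ m = 1) : x ^ n = 1 := by
  have h1 : x ^ m ∈ K := by
    rw [← QuotientGroup.eq_one_iff, QuotientGroup.mk_pow]; exact hx
  have h2 : x ^ (m * p) = 1 := by rw [pow_mul]; exact hKp _ h1
  obtain ⟨c, rfl⟩ := hdiv
  rw [pow_mul, h2, one_pow]

/-- the injection `K × {q | P q} → {x | Q x}` -/
noncomputable def cosetInj {G : Type*} [Group G] (K : Subgroup G) [K.Normal] (P : G ⧸ K → Prop)
    (Q : G → Prop) (h : ∀ x : G, P (x : G ⧸ K) → Q x) :
    K × {q : G ⧸ K // P q} → {x : G // Q x} := fun a =>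
  ⟨Quotient.out a.2.1 * a.1, h _ (by
    have h1 : ((Quotient.out a.2.1 * (a.1 : G) : G) : G ⧸ K) = a.2.1 := by
      rw [QuotientGroup.mk_mul, (QuotientGroup.eq_one_iff _).mpr a.1.2, mul_one]
      exact Quotient.out_eq' _
    rw [h1]; exact a.2.2)⟩

theorem mk_cosetInj {G : Type*} [Group G] (K : Subgroup G) [K.Normal] (P : G ⧸ K → Prop)
    (Q : G → Prop) (h : ∀ x : G, P (x : G ⧸ K) → Q x) (a : K × {q : G ⧸ K // P q}) :
    (((cosetInj K P Q h a).1 : G) : G ⧸ K) = a.2.1 := by
  show ((Quotient.out a.2.1 * (a.1 : G) : G) : G ⧸ K) = a.2.1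
  rw [QuotientGroup.mk_mul, (QuotientGroup.eq_one_iff _).mpr a.1.2, mul_one]
  exact Quotient.out_eq' _

theorem cosetInj_injective {G : Type*} [Group G] (K : Subgroup G) [K.Normal] (P : G ⧸ K → Prop)
    (Q : G → Prop) (h : ∀ x : G, P (x : G ⧸ K) → Q x) : Function.Injective (cosetInj K P Q h) := by
  intro a b hab
  have h1 : a.2.1 = b.2.1 := by
    rw [← mk_cosetInj K P Q h a, ← mk_cosetInj K P Q h b, hab]
  have h2 : (Quotient.out a.2.1 * (a.1 : G) : G) = Quotient.out b.2.1 * (b.1 : G) :=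
    congrArg Subtype.val hab
  rw [h1] at h2
  have h3 : (a.1 : G) = b.1 := mul_left_cancel h2
  exact Prod.ext (Subtype.ext h3) (Subtype.ext h1)

theorem card_mul_le {G : Type*} [Group G] [Finite G] (K : Subgroup G) [K.Normal] (P : G ⧸ K → Prop)
    (Q : G → Prop) (h : ∀ x : G, P (x : G ⧸ K) → Q x) :
    Nat.card K * Nat.card {q : G ⧸ K // P q} ≤ Nat.card {x : G // Q x} := by
  rw [← Nat.card_prod]
  exact Nat.card_le_card_of_injective _ (cosetInj_injective K P Q h)

theorem mem_of_card_eq {G : Type*} [Group G] [Finite G] (K : Subgroup G) [K.Normal] (P : G ⧸ K → Prop)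
    (Q : G → Prop) (h : ∀ x : G, P (x : G ⧸ K) → Q x)
    (hcard : Nat.card {x : G // Q x} = Nat.card K * Nat.card {q : G ⧸ K // P q}) :
    ∀ x : G, Q x → P (x : G ⧸ K) := by
  intro x hx
  have hbij : Function.Bijective (cosetInj K P Q h) := by
    apply Function.Injective.bijective_of_nat_card_le (cosetInj_injective K P Q h)
    rw [Nat.card_prod, hcard]
  obtain ⟨a, ha⟩ := hbij.2 ⟨x, hx⟩
  have h1 := mk_cosetInj K P Q h a
  rw [ha] at h1
  show P ((x : G) : G ⧸ K)
  rw [h1]; exact a.2.2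

/-- number of solutions is at least `n` when `n ∣ |G|` -/
theorem le_card_sol {G : Type u} [Group G] [Finite G] (n : ℕ) (hn : n ∣ Nat.card G) :
    n ≤ Nat.card {g : G // g ^ n = 1} := by
  have h1 := Cfsg.Agent.Lib.Helper21.frobenius_dvd_card_pow_eq_one (G := G) n hn
  haveI : Nonempty {g : G // g ^ n = 1} := ⟨⟨1, one_pow n⟩⟩
  exact Nat.le_of_dvd Nat.card_pos h1

/-- Case `p ∤ n`. -/
theorem case_one {G : Type u} [Group G] [Finite G] (K : Subgroup G) [K.Normal] (p : ℕ) (hp : p.Prime)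
    (hKp : ∀ x ∈ K, x ^ p = 1) (i : ℕ) (hKc : Nat.card K = p ^ i)
    (n : ℕ) (hn : n ∣ Nat.card G) (hcount : Nat.card {x : G // x ^ n = 1} = n) (hpn : ¬ p ∣ n)
    (IH : Nat.card {q : G ⧸ K // q ^ n = 1} = n →
      ∃ H : Subgroup (G ⧸ K), (H : Set (G ⧸ K)) = {q | q ^ n = 1}) :
    ∃ H : Subgroup G, (H : Set G) = {x : G | x ^ n = 1} := by
  have hcop : Nat.Coprime n p := (Nat.Coprime.symm ((Nat.Prime.coprime_iff_not_dvd hp).mpr hpn))
  have hcard : Nat.card G = Nat.card (G ⧸ K) * Nat.card K :=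
    Subgroup.card_eq_card_quotient_mul_card_subgroup K
  have hnq : n ∣ Nat.card (G ⧸ K) := by
    rw [hcard, hKc] at hn
    exact (Nat.Coprime.pow_right i hcop).dvd_of_dvd_mul_right hn
  -- surjection
  have hsurj : Function.Surjective (fun x : {x : G // x ^ n = 1} =>
      (⟨(x.1 : G ⧸ K), by rw [← QuotientGroup.mk_pow, x.2]; rfl⟩ : {q : G ⧸ K // q ^ n = 1})) := by
    rintro ⟨q, hq⟩
    obtain ⟨y, rfl⟩ := QuotientGroup.mk_surjective q
    obtain ⟨c, hc1, hc2⟩ := Nat.chineseRemainder hcop 1 0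
    have hc2' : p ∣ c := (Nat.modEq_zero_iff_dvd).mp hc2
    have hyK : y ^ n ∈ K := by
      rw [← QuotientGroup.eq_one_iff, QuotientGroup.mk_pow]; exact hq
    refine ⟨⟨y ^ c, ?_⟩, ?_⟩
    · rw [← pow_mul, mul_comm, pow_mul]
      obtain ⟨d, rfl⟩ := hc2'
      rw [pow_mul, hKp _ hyK, one_pow]
    · apply Subtype.ext
      show ((y ^ c : G) : G ⧸ K) = (y : G ⧸ K)
      rw [QuotientGroup.mk_pow]
      exact Cfsg.Agent.Lib.Helper21.pow_eq_self_of_modEq_one _ n c hq hc1
  have hle : Nat.card {q : G ⧸ K // q ^ n = 1} ≤ n := by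
    have := Nat.card_le_card_of_surjective _ hsurj
    rwa [hcount] at this
  have hge := le_card_sol (G := G ⧸ K) n hnq
  obtain ⟨Hbar, hHbar⟩ := IH (le_antisymm hle hge)
  have hHbarc : Nat.card Hbar = n := by
    have : Nat.card Hbar = Nat.card {q : G ⧸ K // q ^ n = 1} := by
      apply Nat.card_congr
      apply Equiv.subtypeEquivRight
      intro q
      have := Set.ext_iff.mp hHbar q
      simpa using this
    rw [this]; exact le_antisymm hle hge
  -- H = preimage
  obtain ⟨H, hH⟩ : ∃ H, H = Hbar.comap (QuotientGroup.mk' K) := ⟨_, rfl⟩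
  have hKH : K ≤ H := by
    intro k hk
    rw [hH, Subgroup.mem_comap]
    have : (QuotientGroup.mk' K) k = 1 := (QuotientGroup.eq_one_iff k).mpr hk
    rw [this]; exact Hbar.one_mem
  have hHc : Nat.card H = Nat.card K * n := by
    have h1 : H.index = Hbar.index := by
      rw [hH]; exact Subgroup.index_comap_of_surjective _ (QuotientGroup.mk'_surjective K)
    have h2 := Subgroup.card_mul_index H
    have h3 := Subgroup.card_mul_index Hbar
    rw [h1] at h2
    rw [hHbarc] at h3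
    have hpos : 0 < Hbar.index := Nat.pos_of_ne_zero Subgroup.index_ne_zero_of_finite
    have : Nat.card H * Hbar.index = (Nat.card K * n) * Hbar.index := by
      rw [h2, hcard, ← h3]; ring
    exact Nat.eq_of_mul_eq_mul_right hpos this
  -- Schur-Zassenhaus in H
  have hNc : Nat.card (K.subgroupOf H) = Nat.card K :=
    Nat.card_congr (Subgroup.subgroupOfEquivOfLe hKH).toEquiv
  have hNi : (K.subgroupOf H).index = n := by
    have h2 := Subgroup.card_mul_index (K.subgroupOf H)
    rw [hNc, hHc] at h2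
    have hpos : 0 < Nat.card K := Nat.card_pos
    exact Nat.eq_of_mul_eq_mul_left hpos h2
  have hcop2 : Nat.Coprime (Nat.card (K.subgroupOf H)) (K.subgroupOf H).index := by
    rw [hNc, hNi, hKc]
    exact (Nat.Coprime.pow_right i hcop).symm
  obtain ⟨Q', hQ'⟩ := Subgroup.exists_right_complement'_of_coprime hcop2
  have hQ'c : Nat.card Q' = n := by
    have h2 := hQ'.card_mul_card
    rw [hNc, hHc] at h2
    have hpos : 0 < Nat.card K := Nat.card_pos
    exact Nat.eq_of_mul_eq_mul_left hpos h2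
  refine ⟨Q'.map H.subtype, ?_⟩
  have hsub : ((Q'.map H.subtype : Subgroup G) : Set G) ⊆ {x : G | x ^ n = 1} := by
    rintro _ ⟨q, hq, rfl⟩
    have h1 : (⟨q, hq⟩ : Q') ^ Nat.card Q' = 1 := pow_card_eq_one'
    rw [hQ'c] at h1
    have h2 : q ^ n = 1 := by
      have := congrArg Subtype.val h1
      simpa using this
    show (H.subtype q) ^ n = 1
    rw [← map_pow, h2, map_one]
  have hfin : ({x : G | x ^ n = 1} : Set G).Finite := Set.toFinite _
  apply Set.eq_of_subset_of_ncard_le hsub _ hfin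
  have h1 : ({x : G | x ^ n = 1} : Set G).ncard = n :=
    (_root_.Nat.card_coe_set_eq _).symm.trans hcount
  have h2 : ((Q'.map H.subtype : Subgroup G) : Set G).ncard = n := by
    have : Nat.card (Q'.map H.subtype) = Nat.card Q' :=
      (Nat.card_congr (Q'.equivMapOfInjective H.subtype H.subtype_injective).toEquiv).symm
    rw [← _root_.Nat.card_coe_set_eq]
    exact this.trans hQ'c
  rw [h1, h2]

theorem main : ∀ (N : ℕ) (G : Type u) [Group G] [Finite G] [Group.IsSolvable G], Nat.card G = N →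
    ∀ n : ℕ, n ∣ N → Nat.card {x : G // x ^ n = 1} = n →
    ∃ H : Subgroup G, (H : Set G) = {x : G | x ^ n = 1} := by
  intro N
  induction N using Nat.strong_induction_on with
  | _ N IH =>
  intro G _ _ _ hGN n hn hcount
  by_cases htriv : Subsingleton G
  · refine ⟨⊤, ?_⟩
    ext x
    simp only [Subgroup.coe_top, Set.mem_univ, Set.mem_ofPred_eq, true_iff]
    rw [Subsingleton.elim x 1, one_pow]
  rw [not_subsingleton_iff_nontrivial] at htriv
  obtain ⟨K, hK⟩ := Cfsg.Agent.Lib.Helper1.exists_isMinNormal (G := G)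
  haveI hKn : K.Normal := hK.1
  have hK1 : K ≠ ⊥ := hK.2.1
  obtain ⟨p, hp, hKp⟩ := hK.exists_prime_pow_eq_one
  haveI : Fact p.Prime := ⟨hp⟩
  have hKpg : IsPGroup p K := by
    intro x
    refine ⟨1, ?_⟩
    rw [pow_one]
    exact Subtype.ext (by simpa using hKp x x.2)
  obtain ⟨i, hKc⟩ := hKpg.exists_card_eq
  have hi : i ≠ 0 := by
    intro h0
    rw [h0, pow_zero] at hKc
    exact hK1 (Subgroup.card_eq_one.mp hKc)
  have hcard : Nat.card G = Nat.card (G ⧸ K) * Nat.card K :=
    Subgroup.card_eq_card_quotient_mul_card_subgroup K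
  have hlt : Nat.card (G ⧸ K) < N := by
    rw [← hGN]; exact Cfsg.Agent.Lib.Helper1.card_quotient_lt_of_ne_bot hK1
  haveI : Group.IsSolvable (G ⧸ K) :=
    Group.isSolvable_of_surjective (QuotientGroup.mk'_surjective K)
  have hn0 : n ≠ 0 := by
    rintro rfl
    rw [zero_dvd_iff] at hn
    rw [hn] at hGN
    exact (Nat.card_pos (α := G)).ne' hGN
  obtain ⟨e, m, hpm, hnem⟩ := Nat.exists_eq_pow_mul_and_not_dvd hn0 p hp.ne_one
  rw [← hGN] at hn
  by_cases he : e = 0
  · -- Case 1
    have hpn : ¬ p ∣ n := by rw [hnem, he, pow_zero, one_mul]; exact hpm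
    exact case_one K p hp hKp i hKc n hn hcount hpn
      (fun h => IH _ hlt (G ⧸ K) rfl n (by
        have hcop : Nat.Coprime n p := (Nat.Coprime.symm ((Nat.Prime.coprime_iff_not_dvd hp).mpr hpn))
        rw [hcard, hKc] at hn
        exact (Nat.Coprime.pow_right i hcop).dvd_of_dvd_mul_right hn) h)
  · -- Case 2
    obtain ⟨j, hj⟩ : ∃ j, j = min e i := ⟨_, rfl⟩
    have hje : j ≤ e := by rw [hj]; exact min_le_left _ _
    have hji : j ≤ i := by rw [hj]; exact min_le_right _ _
    have hj1 : 1 ≤ j := by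
      rw [hj]; exact le_min (Nat.one_le_iff_ne_zero.mpr he) (Nat.one_le_iff_ne_zero.mpr hi)
    obtain ⟨nbar, hnbar⟩ : ∃ nbar, nbar = p ^ (e - j) * m := ⟨_, rfl⟩
    have hn_eq : n = p ^ j * nbar := by
      rw [hnem, hnbar, ← mul_assoc, ← pow_add, Nat.add_sub_cancel' hje]
    have hdiv : nbar * p ∣ n := by
      rw [hn_eq]
      obtain ⟨j', rfl⟩ : ∃ j', j = j' + 1 := ⟨j - 1, by omega⟩
      exact ⟨p ^ j', by ring⟩
    have hnbq : nbar ∣ Nat.card (G ⧸ K) := by
      rw [hcard, hKc, hnem] at hn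
      rw [hnbar]
      have hcop : Nat.Coprime m p := (Nat.Coprime.symm ((Nat.Prime.coprime_iff_not_dvd hp).mpr hpm))
      rcases Nat.lt_or_ge e i with hei | hei
      · -- j = e, nbar = m
        have : j = e := by rw [hj]; exact min_eq_left hei.le
        rw [this, Nat.sub_self, pow_zero, one_mul]
        have h1 : m ∣ Nat.card (G ⧸ K) * p ^ i := (Dvd.intro_left _ rfl).trans hn
        exact (Nat.Coprime.pow_right i hcop).dvd_of_dvd_mul_right h1
      · have : j = i := by rw [hj]; exact min_eq_right hei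
        rw [this]
        have h1 : p ^ i * (p ^ (e - i) * m) ∣ p ^ i * Nat.card (G ⧸ K) := by
          rw [← mul_assoc, ← pow_add, Nat.add_sub_cancel' hei, mul_comm (p ^ i)]; exact hn
        exact Nat.dvd_of_mul_dvd_mul_left (pow_pos hp.pos i) h1
    have hlift : ∀ x : G, ((x : G ⧸ K)) ^ nbar = 1 → x ^ n = 1 :=
      fun x hx => lift_pow K p hKp nbar n hdiv x hx
    have hle := card_mul_le K (fun q => q ^ nbar = 1) (fun x => x ^ n = 1) hlift
    have hge := le_card_sol (G := G ⧸ K) nbar hnbq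
    rw [hcount, hKc] at hle
    have hnbpos : 0 < nbar := Nat.pos_of_ne_zero (by
      rintro h0; rw [h0, mul_zero] at hn_eq; exact hn0 hn_eq)
    -- i ≤ j
    have hij : i ≤ j := by
      by_contra hlt'
      push Not at hlt'
      have h1 : p ^ i * nbar ≤ p ^ j * nbar := by
        calc p ^ i * nbar ≤ p ^ i * Nat.card {q : G ⧸ K // q ^ nbar = 1} :=
              Nat.mul_le_mul_left _ hge
          _ ≤ n := hle
          _ = p ^ j * nbar := hn_eq
      have h2 : p ^ i ≤ p ^ j := Nat.le_of_mul_le_mul_right h1 hnbpos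
      have h3 : p ^ j < p ^ i := Nat.pow_lt_pow_right hp.one_lt hlt'
      omega
    have hji' : j = i := le_antisymm hji hij
    rw [hji'] at hn_eq
    have hcq : Nat.card {q : G ⧸ K // q ^ nbar = 1} = nbar := by
      apply le_antisymm _ hge
      rw [hn_eq] at hle
      exact Nat.le_of_mul_le_mul_left hle (pow_pos hp.pos i)
    obtain ⟨Hbar, hHbar⟩ := IH _ hlt (G ⧸ K) rfl nbar hnbq hcq
    refine ⟨Hbar.comap (QuotientGroup.mk' K), ?_⟩
    ext x
    simp only [Subgroup.coe_comap, Set.mem_preimage, SetLike.mem_coe, Set.mem_ofPred_eq]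
    have hmem : ∀ q : G ⧸ K, q ∈ Hbar ↔ q ^ nbar = 1 := by
      intro q
      have := Set.ext_iff.mp hHbar q
      simpa using this
    rw [hmem]
    constructor
    · intro h; exact hlift x h
    · intro h
      refine mem_of_card_eq K (fun q => q ^ nbar = 1) (fun x => x ^ n = 1) hlift ?_ x h
      rw [hcount, hKc, hcq]; exact hn_eq


/-- If `G` is a finite solvable group and `n` divides the order of `G` and exactly `n` elements `x` of `G` satisfy `x^n = 1`, then these elements form a normal subgroup. -/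
theorem result {G : Type*} [Group G] [Finite G] [Group.IsSolvable G] (n : ℕ) (hn : n ∣ Nat.card G) (hcount : Nat.card {x : G // x ^ n = 1} = n) : ∃ H : Subgroup G, H.Normal ∧ (H : Set G) = {x : G | x ^ n = 1} := by
  obtain ⟨H, hH⟩ := main (Nat.card G) G rfl n hn hcount
  refine ⟨H, ⟨?_⟩, hH⟩
  intro h hh g
  have h1 : h ^ n = 1 := by
    have : h ∈ (H : Set G) := hh
    rw [hH] at this; exact this
  have h2 : g * h * g⁻¹ ∈ (H : Set G) := by
    rw [hH]
    show (g * h * g⁻¹) ^ n = 1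
    rw [conj_pow, h1, mul_one, mul_inv_cancel]
  exact h2

end Cfsg.Agent.S4213
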