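import Cfsg.Statements.S4214
import Mathlib
import Cfsg.Agent.Lib.Helper1.Hall
import Cfsg.Agent.Lib.Helper6.PrimeIndex
import Cfsg.Agent.Lib.Helper23.SylowProd
import Cfsg.Agent.S4303
import Cfsg.Agent.Lib.Helper8.SignalizerFamily
-- import your own Cfsg.Agent.* helpers here

set_option autoImplicit false
open Cfsg

namespace Cfsg.Agent.S4214

open Pointwise

universe u

open Cfsg.Agent.Lib.Helper1

/-- the number of Hall subgroups of order `m` is the index of the normalizer of one of them -/
theorem card_hall_eq_index {G : Type u} [Group G] [Finite G] [Group.IsSolvable G] (m n : ℕ)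
    (hG : Nat.card G = m * n) (hmn : m.Coprime n) (H : Subgroup G) (hH : Nat.card H = m) :
    Nat.card {H' : Subgroup G // Nat.card H' = m} = (Subgroup.normalizer (H : Set G)).index := by
  classical
  let _ : MulAction G (Subgroup G) := MulAction.compHom (Subgroup G) (MulAut.conj : G →* MulAut G)
  have hsmul : ∀ (g : G) (X : Subgroup G), g • X = MulAut.conj g • X := fun _ _ => rfl
  have hstab : MulAction.stabilizer G H = Subgroup.normalizer (H : Set G) := by
    ext g
    rw [MulAction.mem_stabilizer_iff, hsmul, Subgroup.mem_normalizer_iff_map_conj_eq]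
    rfl
  have horb : MulAction.orbit G H = {H' : Subgroup G | Nat.card H' = m} := by
    ext H'
    constructor
    · rintro ⟨g, rfl⟩
      show Nat.card (MulAut.conj g • H : Subgroup G) = m
      rw [card_conj_smul, hH]
    · intro h
      obtain ⟨g, hg⟩ := hall_conj m n hG hmn H H' hH h
      exact ⟨g, hg⟩
  rw [← hstab, MulAction.index_stabilizer, horb]
  exact (_root_.Nat.card_coe_set_eq _)

/-- index of the normalizer of the image in a quotient -/
theorem index_normalizer_map_mk {G : Type*} [Group G] (K : Subgroup G) [K.Normal] (H : Subgroup G) :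
    (Subgroup.normalizer ((H.map (QuotientGroup.mk' K) : Subgroup (G ⧸ K)) : Set (G ⧸ K))).index =
      (Subgroup.normalizer ((H ⊔ K : Subgroup G) : Set G)).index := by
  have hsurj := QuotientGroup.mk'_surjective K
  rw [← Subgroup.index_comap_of_surjective _ hsurj,
    Subgroup.comap_normalizer_eq_of_surjective _ hsurj, Subgroup.comap_map_eq, QuotientGroup.ker_mk']

/-- Frattini argument for a Hall subgroup `H` of `H ⊔ K`. -/
theorem normalizer_sup_eq {G : Type u} [Group G] [Finite G] [Group.IsSolvable G] (H K : Subgroup G)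
    [hK : K.Normal] (hcop : (Nat.card H).Coprime (H.relIndex (H ⊔ K))) :
    Subgroup.normalizer ((H ⊔ K : Subgroup G) : Set G) = Subgroup.normalizer (H : Set G) ⊔ K := by
  apply le_antisymm
  · intro g hg
    obtain ⟨L, hL⟩ : ∃ L, L = H ⊔ K := ⟨_, rfl⟩
    rw [← hL] at hg
    have hHL : H ≤ L := hL ▸ le_sup_left
    obtain ⟨H₁, hH₁⟩ : ∃ H₁, H₁ = MulAut.conj g • H := ⟨_, rfl⟩
    have hH₁L : H₁ ≤ L := by
      rw [hH₁]
      have h1 : MulAut.conj g • H ≤ MulAut.conj g • L := conj_smul_le_conj_smul hHL g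
      have h2 : MulAut.conj g • L = L := by
        have := (Subgroup.mem_normalizer_iff_map_conj_eq).mp hg
        exact this
      rwa [h2] at h1
    have hc1 : Nat.card (H.subgroupOf L) = Nat.card H :=
      Nat.card_congr (Subgroup.subgroupOfEquivOfLe hHL).toEquiv
    have hc2 : Nat.card (H₁.subgroupOf L) = Nat.card H := by
      rw [Nat.card_congr (Subgroup.subgroupOfEquivOfLe hH₁L).toEquiv, hH₁, card_conj_smul]
    have hcardL : Nat.card L = Nat.card H * H.relIndex L := by
      rw [Cfsg.Agent.Lib.Helper23.card_mul_relIndex hHL]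
    obtain ⟨l, hl⟩ := hall_conj (G := ↥L) (Nat.card H) (H.relIndex L) hcardL (hL ▸ hcop)
      (H.subgroupOf L) (H₁.subgroupOf L) hc1 hc2
    have h3 := conj_eq_of_subgroupOf_conj_eq hHL hH₁L l hl
    have h4 : (l : G)⁻¹ * g ∈ Subgroup.normalizer (H : Set G) := by
      rw [Subgroup.mem_normalizer_iff_map_conj_eq]
      show MulAut.conj ((l : G)⁻¹ * g) • H = H
      rw [map_mul, mul_smul, ← hH₁, ← h3, map_inv, inv_smul_smul]
    have h5 : g = (l : G) * ((l : G)⁻¹ * g) := by group
    rw [h5]
    apply Subgroup.mul_mem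
    · have : L ≤ Subgroup.normalizer (H : Set G) ⊔ K := by
        rw [hL]; exact sup_le_sup_right Subgroup.le_normalizer K
      exact this l.2
    · exact Subgroup.mem_sup_left h4
  · apply sup_le
    · intro g hg
      rw [Subgroup.mem_normalizer_iff_map_conj_eq, Subgroup.map_sup]
      have h1 := (Subgroup.mem_normalizer_iff_map_conj_eq).mp hg
      have h2 : K.map ((MulAut.conj g : G ≃* G) : G →* G) = K :=
        Subgroup.Normal.conj_smul_eq_self g K
      rw [h1, h2]
    · exact le_sup_right.trans Subgroup.le_normalizer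

/-- `N_K(H) = C_K(H)` when `K` is normal and `H ∩ K = 1`. -/
theorem normalizer_inf_eq_centralizer {G : Type*} [Group G] (H K : Subgroup G) [hK : K.Normal]
    (hinf : H ⊓ K = ⊥) :
    Subgroup.normalizer (H : Set G) ⊓ K = K ⊓ Subgroup.centralizer (H : Set G) := by
  apply le_antisymm
  · intro k hk
    obtain ⟨hkN, hkK⟩ := Subgroup.mem_inf.mp hk
    refine Subgroup.mem_inf.mpr ⟨hkK, ?_⟩
    rw [Subgroup.mem_centralizer_iff]
    intro x hx
    have hc1 : k * x * k⁻¹ * x⁻¹ ∈ H :=
      Subgroup.mul_mem _ ((Subgroup.mem_normalizer_iff.mp hkN x).mp hx) (Subgroup.inv_mem _ hx)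
    have hc2 : k * x * k⁻¹ * x⁻¹ ∈ K := by
      have : k * x * k⁻¹ * x⁻¹ = k * (x * k⁻¹ * x⁻¹) := by group
      rw [this]
      exact K.mul_mem hkK (hK.conj_mem _ (K.inv_mem hkK) x)
    have hc3 : k * x * k⁻¹ * x⁻¹ ∈ H ⊓ K := Subgroup.mem_inf.mpr ⟨hc1, hc2⟩
    rw [hinf, Subgroup.mem_bot] at hc3
    have : k * x = x * k := by
      have h : k * x = (k * x * k⁻¹ * x⁻¹) * (x * k) := by group
      rw [h, hc3, one_mul]
    exact this.symm
  · intro k hk
    obtain ⟨hkK, hkC⟩ := Subgroup.mem_inf.mp hk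
    refine Subgroup.mem_inf.mpr ⟨?_, hkK⟩
    exact (Subgroup.centralizer_le_normalizer (s := (H : Set G))) hkC

/-- `V ∩ C(M ⊔ R) = V ∩ C(M) ∩ C(R)`. -/
theorem inf_centralizer_sup {G : Type*} [Group G] (V M R : Subgroup G) :
    V ⊓ Subgroup.centralizer ((M ⊔ R : Subgroup G) : Set G) =
      (V ⊓ Subgroup.centralizer (M : Set G)) ⊓ Subgroup.centralizer (R : Set G) := by
  ext x
  simp only [Subgroup.mem_inf]
  constructor
  · rintro ⟨hV, hC⟩
    refine ⟨⟨hV, ?_⟩, ?_⟩
    · exact Subgroup.centralizer_le (show (M : Set G) ⊆ ((M ⊔ R : Subgroup G) : Set G) from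
        fun y hy => (le_sup_left : M ≤ M ⊔ R) hy) hC
    · exact Subgroup.centralizer_le (show (R : Set G) ⊆ ((M ⊔ R : Subgroup G) : Set G) from
        fun y hy => (le_sup_right : R ≤ M ⊔ R) hy) hC
  · rintro ⟨⟨hV, hM⟩, hR⟩
    refine ⟨hV, ?_⟩
    have h1 : M ⊔ R ≤ Subgroup.centralizer ({x} : Set G) := by
      apply sup_le
      · intro y hy
        rw [Subgroup.mem_centralizer_singleton_iff]
        exact (Subgroup.mem_centralizer_iff.mp hM) y hy
      · intro y hy
        rw [Subgroup.mem_centralizer_singleton_iff]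
        exact (Subgroup.mem_centralizer_iff.mp hR) y hy
    rw [Subgroup.mem_centralizer_iff]
    intro y hy
    have := h1 hy
    rw [Subgroup.mem_centralizer_singleton_iff] at this
    exact this

/-- A solvable `q'`-group `H` acting on a `q`-group `V`: `|V : C_V(H)|` is a product of powers of `q`
each congruent to `1` modulo a prime divisor of `|H|`. -/
theorem exists_list_centralizer {G : Type u} [Group G] [Finite G] (q : ℕ) [hq : Fact q.Prime] :
    ∀ (N : ℕ) (H V : Subgroup G), Nat.card H = N → Group.IsSolvable H → IsPGroup q V →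
      H ≤ Subgroup.normalizer (V : Set G) → (Nat.card H).Coprime q →
      ∃ l : List ℕ, l.prod * Nat.card ↥(V ⊓ Subgroup.centralizer (H : Set G)) = Nat.card V ∧
        ∀ f ∈ l, (∃ e, f = q ^ e) ∧ ∃ r : ℕ, r.Prime ∧ r ∣ Nat.card H ∧ f ≡ 1 [MOD r] := by
  intro N
  induction N using Nat.strong_induction_on with
  | _ N ih =>
    intro H V hN hsolv hV hHV hcop
    by_cases hbot : H = ⊥
    · refine ⟨[], ?_, fun f hf => by simp at hf⟩
      have : V ⊓ Subgroup.centralizer (H : Set G) = V := by
        rw [hbot]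
        apply inf_eq_left.mpr
        intro x _
        rw [Subgroup.mem_centralizer_iff]
        intro y hy
        have : y = 1 := Subgroup.mem_bot.mp hy
        rw [this, one_mul, mul_one]
      rw [this, List.prod_nil, one_mul]
    · -- a normal subgroup of prime index
      have hne : (⊥ : Subgroup ↥H) ≠ ⊤ := by
        intro h
        apply hbot
        have : Subsingleton ↥H := by
          rw [← Subgroup.subsingleton_iff] at *
          exact subsingleton_of_bot_eq_top h
        exact Subgroup.eq_bot_of_subsingleton H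
      obtain ⟨M', hM'n, -, hM'idx⟩ := Cfsg.Agent.Lib.Helper6.exists_normal_prime_index
        (⊥ : Subgroup ↥H) hne inferInstance
      obtain ⟨r, hr⟩ : ∃ r, r = M'.index := ⟨_, rfl⟩
      rw [← hr] at hM'idx
      have hrf : Fact r.Prime := ⟨hM'idx⟩
      obtain ⟨M, hM⟩ : ∃ M, M = M'.map H.subtype := ⟨_, rfl⟩
      have hMH : M ≤ H := hM ▸ Subgroup.map_subtype_le M'
      have hMcard : Nat.card M = Nat.card M' := by
        rw [hM]; exact Subgroup.card_map_of_injective H.subtype_injective
      have hcardH : Nat.card M * r = Nat.card H := by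
        rw [hMcard, hr]; exact M'.card_mul_index
      have hrH : r ∣ Nat.card H := Dvd.intro_left _ hcardH
      have hMlt : Nat.card M < N := by
        rw [← hN, ← hcardH]
        have h1 : 0 < Nat.card M := Nat.card_pos
        have h2 := hM'idx.one_lt
        nlinarith
      have hMsolv : Group.IsSolvable M := by
        have : M = (M.subgroupOf H).map H.subtype := (Subgroup.map_subgroupOf_eq_of_le hMH).symm
        exact Group.isSolvable_of_isSolvable_injective (f := Subgroup.inclusion hMH)
          (Subgroup.inclusion_injective hMH)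
      have hMV : M ≤ Subgroup.normalizer (V : Set G) := hMH.trans hHV
      have hMcop : (Nat.card M).Coprime q :=
        Nat.Coprime.coprime_dvd_left (Dvd.intro _ hcardH) hcop
      obtain ⟨l₁, hl₁, hl₁'⟩ := ih _ hMlt M V rfl hMsolv hV hMV hMcop
      obtain ⟨W, hW⟩ : ∃ W, W = V ⊓ Subgroup.centralizer (M : Set G) := ⟨_, rfl⟩
      rw [← hW] at hl₁
      -- H normalizes M
      have hHM : H ≤ Subgroup.normalizer (M : Set G) := by
        intro h hh
        rw [Subgroup.mem_normalizer_iff]
        intro x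
        constructor
        · intro hx
          rw [hM] at hx ⊢
          obtain ⟨y, hy, rfl⟩ := hx
          exact ⟨⟨h, hh⟩ * y * ⟨h, hh⟩⁻¹, hM'n.conj_mem y hy ⟨h, hh⟩, rfl⟩
        · intro hx
          rw [hM] at hx ⊢
          obtain ⟨y, hy, hyx⟩ := hx
          refine ⟨⟨h, hh⟩⁻¹ * y * ⟨h, hh⟩, ?_, ?_⟩
          · have := hM'n.conj_mem y hy ⟨h, hh⟩⁻¹
            simpa using this
          · have : (y : G) = h * x * h⁻¹ := hyx
            simp [this, mul_assoc]
      have hHW : H ≤ Subgroup.normalizer (W : Set G) := by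
        intro h hh
        apply Cfsg.Agent.Lib.Helper8.le_normalizer_of_conj_mem (A := Subgroup.zpowers h) _
          (Subgroup.mem_zpowers h)
        intro b hb u hu
        have hbH : b ∈ H := (Subgroup.zpowers_le.mpr hh) hb
        rw [hW] at hu ⊢
        obtain ⟨huV, huC⟩ := Subgroup.mem_inf.mp hu
        refine Subgroup.mem_inf.mpr ⟨(Subgroup.mem_normalizer_iff.mp (hHV hbH) u).mp huV, ?_⟩
        rw [Subgroup.mem_centralizer_iff]
        intro y hy
        -- b⁻¹ y b ∈ M commutes with u
        have hy' : b⁻¹ * y * b ∈ M := by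
          have := (Subgroup.mem_normalizer_iff.mp (Subgroup.inv_mem _ (hHM hbH)) y).mp hy
          simpa using this
        have hc := (Subgroup.mem_centralizer_iff.mp huC) _ hy'
        calc y * (b * u * b⁻¹) = b * ((b⁻¹ * y * b) * u) * b⁻¹ := by group
          _ = b * (u * (b⁻¹ * y * b)) * b⁻¹ := by rw [hc]
          _ = b * u * b⁻¹ * y := by group
      have hWq : IsPGroup q W := hV.to_le (hW ▸ inf_le_left)
      -- Sylow r-subgroup of H
      obtain ⟨R⟩ : Nonempty (Sylow r ↥H) := inferInstance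
      obtain ⟨R₀, hR₀⟩ : ∃ R₀, R₀ = (R : Subgroup ↥H).map H.subtype := ⟨_, rfl⟩
      have hR₀H : R₀ ≤ H := hR₀ ▸ Subgroup.map_subtype_le _
      have hR₀r : IsPGroup r R₀ := by
        rw [hR₀]; exact R.2.map _
      have hsup' : M' ⊔ (R : Subgroup ↥H) = ⊤ := by
        have hdvd : (M' ⊔ (R : Subgroup ↥H)).index ∣ r := by
          have h0 : (M' ⊔ (R : Subgroup ↥H)).index ∣ M'.index :=
            Subgroup.index_dvd_of_le le_sup_left
          rw [← hr] at h0
          exact h0
        rcases (Nat.dvd_prime hM'idx).mp hdvd with h1 | h1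
        · exact Subgroup.index_eq_one.mp h1
        · exfalso
          have h2 : (R : Subgroup ↥H).relIndex (M' ⊔ R) * (M' ⊔ (R : Subgroup ↥H)).index =
              (R : Subgroup ↥H).index := Subgroup.relIndex_mul_index le_sup_right
          rw [h1] at h2
          exact R.not_dvd_index (Dvd.intro_left _ h2)
      have hsup : M ⊔ R₀ = H := by
        rw [hM, hR₀, ← Subgroup.map_sup, hsup', ← MonoidHom.range_eq_map, Subgroup.range_subtype]
      obtain ⟨C, hC⟩ : ∃ C, C = V ⊓ Subgroup.centralizer (H : Set G) := ⟨_, rfl⟩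
      have hCW : W ⊓ Subgroup.centralizer (R₀ : Set G) = C := by
        rw [hC, hW, ← inf_centralizer_sup, hsup]
      have hmod := Cfsg.Agent.S4303.card_modEq_card_inf_centralizer r R₀ W hR₀r (hR₀H.trans hHW)
      rw [hCW] at hmod
      have hCleW : C ≤ W := hCW ▸ inf_le_left
      obtain ⟨a, ha⟩ := IsPGroup.iff_card.mp hWq
      obtain ⟨c, hc⟩ := IsPGroup.iff_card.mp (hWq.to_le hCleW)
      have hca : c ≤ a := by
        have h1 : Nat.card C ∣ Nat.card W := Subgroup.card_dvd_of_le hCleW
        rw [ha, hc] at h1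
        exact (Nat.pow_dvd_pow_iff_le_right hq.out.one_lt).mp h1
      have hqr : r.Coprime q := Nat.Coprime.coprime_dvd_left hrH hcop
      have hf1 : q ^ (a - c) ≡ 1 [MOD r] := by
        rw [ha, hc] at hmod
        have h2 : q ^ (a - c) * q ^ c ≡ 1 * q ^ c [MOD r] := by
          rw [← pow_add, Nat.sub_add_cancel hca, one_mul]; exact hmod
        exact Nat.ModEq.cancel_right_of_coprime (Nat.Coprime.pow_right c hqr) h2
      refine ⟨l₁ ++ [q ^ (a - c)], ?_, ?_⟩
      · rw [← hC, List.prod_append, List.prod_singleton, mul_assoc, hc, ← pow_add,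
          Nat.sub_add_cancel hca, ← ha]
        exact hl₁
      · intro f hf
        rcases List.mem_append.mp hf with hf | hf
        · obtain ⟨h1, r', hr', hr'M, hr'f⟩ := hl₁' f hf
          exact ⟨h1, r', hr', hr'M.trans (Dvd.intro _ hcardH), hr'f⟩
        · rw [List.mem_singleton] at hf
          rw [hf]
          exact ⟨⟨_, rfl⟩, r, hM'idx, hrH, hf1⟩

/-- a good factor -/
def GoodF (G : Type*) [Group G] (m f : ℕ) : Prop :=
  (∃ q e : ℕ, q.Prime ∧ f = q ^ e) ∧
  (∃ K L : Subgroup G, K.Normal ∧ L.Normal ∧ K < L ∧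
    (∀ M : Subgroup G, M.Normal → K ≤ M → M ≤ L → M = K ∨ M = L) ∧ f ∣ K.relIndex L) ∧
  (∃ q : ℕ, q.Prime ∧ q ∣ m ∧ f ≡ 1 [MOD q])

/-- `N` is a product of good factors -/
def HasFactH (G : Type*) [Group G] (m N : ℕ) : Prop :=
  ∃ l : List ℕ, l.prod = N ∧ ∀ f ∈ l, GoodF G m f

theorem goodF_lift {G : Type*} [Group G] (K₀ : Subgroup G) [K₀.Normal] {m' m f : ℕ} (hmm : m' ∣ m)
    (h : GoodF (G ⧸ K₀) m' f) : GoodF G m f := by
  obtain ⟨h1, ⟨K, L, hKn, hLn, hKL, hchief, hdvd⟩, ⟨q, hq, hqm, hqf⟩⟩ := h
  have hsurj := QuotientGroup.mk'_surjective K₀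
  refine ⟨h1, ⟨K.comap (QuotientGroup.mk' K₀), L.comap (QuotientGroup.mk' K₀), hKn.comap _,
    hLn.comap _, ?_, ?_, ?_⟩, ⟨q, hq, hqm.trans hmm, hqf⟩⟩
  · exact (Subgroup.comap_lt_comap_of_surjective hsurj).mpr hKL
  · intro M hMn hKM hML
    have hker : (QuotientGroup.mk' K₀).ker ≤ M := (MonoidHom.ker_le_comap _ K).trans hKM
    have hMn' : (M.map (QuotientGroup.mk' K₀)).Normal := hMn.map _ hsurj
    have hK' : K ≤ M.map (QuotientGroup.mk' K₀) := by
      have := Subgroup.map_mono (f := QuotientGroup.mk' K₀) hKM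
      rwa [Subgroup.map_comap_eq_self_of_surjective hsurj] at this
    have hL' : M.map (QuotientGroup.mk' K₀) ≤ L := Subgroup.map_le_iff_le_comap.mpr hML
    rcases hchief _ hMn' hK' hL' with h | h
    · left; rw [← h, Subgroup.comap_map_eq_self hker]
    · right; rw [← h, Subgroup.comap_map_eq_self hker]
  · rw [Subgroup.relIndex_comap, Subgroup.map_comap_eq_self_of_surjective hsurj]
    exact hdvd

theorem card_quot_lt {G : Type*} [Group G] [Finite G] {M : Subgroup G} (h : M ≠ ⊥) :
    Nat.card (G ⧸ M) < Nat.card G := by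
  rw [Subgroup.card_eq_card_quotient_mul_card_subgroup M]
  have h1 : 1 < Nat.card M := (Subgroup.one_lt_card_iff_ne_bot M).mpr h
  have h2 : 0 < Nat.card (G ⧸ M) := Nat.card_pos
  nlinarith

/-- order of the image of `H` in `G ⧸ K` -/
theorem card_map_mk_mul {G : Type*} [Group G] [Finite G] (H K : Subgroup G) [K.Normal] :
    Nat.card (H.map (QuotientGroup.mk' K)) * Nat.card K = Nat.card (H ⊔ K : Subgroup G) := by
  rw [← card_comap_mk' K (H.map (QuotientGroup.mk' K)), Subgroup.comap_map_eq, QuotientGroup.ker_mk']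

theorem main : ∀ (N : ℕ) (G : Type u) [Group G] [Finite G] [Group.IsSolvable G], Nat.card G = N →
    ∀ m n : ℕ, N = m * n → m.Coprime n →
    HasFactH G m (Nat.card {H : Subgroup G // Nat.card H = m}) := by
  intro N
  induction N using Nat.strong_induction_on with
  | _ N ih =>
    intro G _ _ _ hcard m n hmn hcop
    classical
    rcases subsingleton_or_nontrivial G with hss | hnt
    · have : Nat.card {H : Subgroup G // Nat.card H = m} = 1 := by
        have h1 : Nat.card G = 1 := Nat.card_eq_one_iff_unique.mpr ⟨hss, ⟨1⟩⟩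
        have hm1 : m = 1 := by
          rw [hcard, hmn] at h1; exact Nat.eq_one_of_mul_eq_one_right h1
        rw [Nat.card_eq_one_iff_unique]
        refine ⟨⟨fun a b => Subtype.ext (Subsingleton.elim _ _)⟩, ⟨⟨⊥, ?_⟩⟩⟩
        rw [Subgroup.card_bot, hm1]
      rw [this]; exact ⟨[], rfl, by simp⟩
    obtain ⟨K, hK⟩ := exists_isMinNormal (G := G)
    obtain ⟨q, k, hq, hk, hKcard⟩ := hK.exists_card_eq
    have hKn : K.Normal := hK.1
    have hG : Nat.card G = m * n := hcard.trans hmn
    obtain ⟨H, hH⟩ := hall_exists _ G rfl m n hG hcop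
    have hcount := card_hall_eq_index m n hG hcop H hH
    have hqf : Fact q.Prime := ⟨hq⟩
    have hlt : Nat.card (G ⧸ K) < N := hcard ▸ card_quot_lt hK.2.1
    have hGK : Nat.card (G ⧸ K) * q ^ k = m * n := by
      rw [← hKcard, ← hG]; exact (Subgroup.card_eq_card_quotient_mul_card_subgroup K).symm
    have hqmn : q ^ k ∣ m * n := Dvd.intro_left _ hGK
    by_cases hqm : q ∣ m
    · -- Case 1: `K ≤ H`
      have hqn : (q ^ k).Coprime n :=
        Nat.Coprime.pow_left k (Nat.Coprime.coprime_dvd_left hqm hcop)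
      have hkm : q ^ k ∣ m := hqn.dvd_of_dvd_mul_right hqmn
      obtain ⟨m', hm'⟩ := hkm
      have hGK' : Nat.card (G ⧸ K) = m' * n := by
        have : Nat.card (G ⧸ K) * q ^ k = (m' * n) * q ^ k := by rw [hGK, hm']; ring
        exact Nat.eq_of_mul_eq_mul_right (pow_pos hq.pos k) this
      have hm'm : m' ∣ m := Dvd.intro_left _ hm'.symm
      have hcop' : m'.Coprime n := Nat.Coprime.coprime_dvd_left hm'm hcop
      have hKH : K ≤ H := by
        obtain ⟨H₁, hH₁, hKH₁⟩ := hall_exists_ge m n hG hcop K (hKcard ▸ hqn)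
        obtain ⟨g, hg⟩ := hall_conj m n hG hcop H₁ H hH₁ hH
        rw [← hg]
        have := conj_smul_le_conj_smul hKH₁ g
        rwa [Subgroup.Normal.conj_smul_eq_self g K] at this
      have hHbar : Nat.card (H.map (QuotientGroup.mk' K)) = m' := by
        have h1 := card_map_mk_mul H K
        rw [sup_eq_left.mpr hKH, hH, hKcard, hm', mul_comm] at h1
        exact Nat.eq_of_mul_eq_mul_left (pow_pos hq.pos k) h1
      have hIH := ih _ hlt (G ⧸ K) rfl m' n hGK' hcop'
      have hcount' := card_hall_eq_index m' n hGK' hcop' (H.map (QuotientGroup.mk' K)) hHbar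
      rw [index_normalizer_map_mk, sup_eq_left.mpr hKH] at hcount'
      rw [hcount, ← hcount']
      obtain ⟨l, hl, hl'⟩ := hIH
      exact ⟨l, hl, fun f hf => goodF_lift K hm'm (hl' f hf)⟩
    · -- Case 2: `H ∩ K = 1`
      have hqm' : (q ^ k).Coprime m :=
        Nat.Coprime.pow_left k ((Nat.Prime.coprime_iff_not_dvd hq).mpr hqm)
      have hkn : q ^ k ∣ n := hqm'.dvd_of_dvd_mul_left hqmn
      obtain ⟨n', hn'⟩ := hkn
      have hGK' : Nat.card (G ⧸ K) = m * n' := by
        have : Nat.card (G ⧸ K) * q ^ k = (m * n') * q ^ k := by rw [hGK, hn']; ring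
        exact Nat.eq_of_mul_eq_mul_right (pow_pos hq.pos k) this
      have hcop' : m.Coprime n' := Nat.Coprime.coprime_dvd_right (Dvd.intro_left _ hn'.symm) hcop
      have hHKcop : (Nat.card H).Coprime (Nat.card K) := by
        rw [hH, hKcard]; exact hqm'.symm
      have hinf : H ⊓ K = ⊥ := (Subgroup.disjoint_of_coprime_natCard hHKcop).eq_bot
      have hrel : H.relIndex (H ⊔ K) = Nat.card K := by
        rw [Cfsg.Agent.Lib.Helper23.relIndex_sup_eq_relIndex H K, ← Subgroup.inf_relIndex_right,
          hinf, Subgroup.relIndex_bot_left]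
      have hHbar : Nat.card (H.map (QuotientGroup.mk' K)) = m := by
        have h1 := card_map_mk_mul H K
        rw [← Cfsg.Agent.Lib.Helper23.card_mul_relIndex (le_sup_left : H ≤ H ⊔ K), hrel, hH] at h1
        exact Nat.eq_of_mul_eq_mul_right Nat.card_pos h1
      have hIH := ih _ hlt (G ⧸ K) rfl m n' hGK' hcop'
      have hcount' := card_hall_eq_index m n' hGK' hcop' (H.map (QuotientGroup.mk' K)) hHbar
      rw [index_normalizer_map_mk, normalizer_sup_eq H K (by rw [hrel]; exact hHKcop)] at hcount'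
      obtain ⟨N₀, hN₀⟩ : ∃ N₀, N₀ = Subgroup.normalizer (H : Set G) := ⟨_, rfl⟩
      rw [← hN₀] at hcount hcount'
      have hidx : N₀.index = N₀.relIndex K * (N₀ ⊔ K).index := by
        rw [← Cfsg.Agent.Lib.Helper23.relIndex_sup_eq_relIndex N₀ K]
        exact (Subgroup.relIndex_mul_index le_sup_left).symm
      have hNK : N₀ ⊓ K = K ⊓ Subgroup.centralizer (H : Set G) := by
        rw [hN₀]; exact normalizer_inf_eq_centralizer H K hinf
      have hrelK : Nat.card ↥(K ⊓ Subgroup.centralizer (H : Set G)) * N₀.relIndex K = Nat.card K := by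
        rw [← Subgroup.inf_relIndex_right N₀ K, hNK]
        exact Cfsg.Agent.Lib.Helper23.card_mul_relIndex inf_le_left
      have hHK : H ≤ Subgroup.normalizer (K : Set G) := by
        rw [Subgroup.normalizer_eq_top_iff.mpr hKn]; exact le_top
      obtain ⟨l₂, hl₂, hl₂'⟩ := exists_list_centralizer q _ H K rfl inferInstance
        (IsPGroup.of_card hKcard) hHK (by rw [hH]; exact ((Nat.Prime.coprime_iff_not_dvd hq).mpr hqm).symm)
      have hl₂prod : l₂.prod = N₀.relIndex K := by
        have : l₂.prod * Nat.card ↥(K ⊓ Subgroup.centralizer (H : Set G)) =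
            N₀.relIndex K * Nat.card ↥(K ⊓ Subgroup.centralizer (H : Set G)) := by
          rw [hl₂, mul_comm, hrelK]
        exact Nat.eq_of_mul_eq_mul_right Nat.card_pos this
      obtain ⟨l, hl, hl'⟩ := hIH
      refine ⟨l ++ l₂, ?_, ?_⟩
      · rw [List.prod_append, hl, hl₂prod, hcount, hcount', hidx, mul_comm]
      · intro f hf
        rcases List.mem_append.mp hf with hf | hf
        · exact goodF_lift K (dvd_refl m) (hl' f hf)
        · obtain ⟨⟨e, he⟩, r, hr, hrH, hrf⟩ := hl₂' f hf
          refine ⟨⟨q, e, hq, he⟩, ⟨⊥, K, inferInstance, hKn, bot_lt_iff_ne_bot.mpr hK.2.1, ?_, ?_⟩,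
            ⟨r, hr, hH ▸ hrH, hrf⟩⟩
          · intro M hMn _ hMK
            exact hK.2.2 M hMn hMK
          · rw [Subgroup.relIndex_bot_left, ← hl₂]
            exact Dvd.dvd.mul_right (List.dvd_prod hf) _


/-- Let `G` be a finite solvable group of order `mn` with `gcd(m, n) = 1`. Then the number of subgroups of order `m` is a product of natural numbers each of which is a power of a prime, divides the order of some chief factor of `G` (a quotient `L/K` of normal subgroups `K < L` of `G` with no normal subgroup of `G` strictly between them), and is congruent to `1` modulo some prime divisor of `m`. -/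
theorem result {G : Type*} [Group G] [Finite G] [Group.IsSolvable G] (m n : ℕ) (hG : Nat.card G = m * n) (hmn : Nat.Coprime m n) : ∃ (k : ℕ) (f : Fin k → ℕ), Nat.card {H : Subgroup G // Nat.card H = m} = ∏ i, f i ∧ ∀ i, (∃ q e : ℕ, q.Prime ∧ f i = q ^ e) ∧ (∃ K L : Subgroup G, K.Normal ∧ L.Normal ∧ K < L ∧ (∀ M : Subgroup G, M.Normal → K ≤ M → M ≤ L → M = K ∨ M = L) ∧ f i ∣ K.relIndex L) ∧ (∃ q : ℕ, q.Prime ∧ q ∣ m ∧ f i ≡ 1 [MOD q]) := by
  obtain ⟨l, hl, hl'⟩ := main _ G rfl m n hG hmn
  refine ⟨l.length, fun i => l.get i, ?_, fun i => hl' _ (List.get_mem l i)⟩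
  rw [← hl, ← List.prod_ofFn, List.ofFn_get]

end Cfsg.Agent.S4214
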