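import Cfsg.Statements.S4215
-- import your own Cfsg.Agent.* helpers here
import Mathlib
import Cfsg.Agent.S4216
import Cfsg.Agent.Lib.Helper22.HallWielandt
import Cfsg.Agent.Lib.Helper22.Tate
import Cfsg.Agent.Lib.Helper17.Basic
import Cfsg.Agent.Lib.Helper12.Residual

set_option autoImplicit false
open Cfsg

namespace Cfsg.Agent.S4215



open Subgroup MulAction
open scoped IsMulCommutative Classical commutatorElement
open Cfsg.Agent.S4216 (ext1 ext1_of_mem transfer_eq_prod_fixed out_conj_mem_of_fixed orderOf_conj_inv)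

variable {G : Type*} [Group G] [Finite G]

omit [Finite G] in
theorem coe_iterate_engel (H : Subgroup G) (z y : H) (k : ℕ) :
    (((fun y : H => y⁻¹ * z⁻¹ * y * z)^[k] y : H) : G) =
      (fun y : G => y⁻¹ * (z : G)⁻¹ * y * (z : G))^[k] (y : G) := by
  induction k generalizing y with
  | zero => rfl
  | succ k ih =>
    rw [Function.iterate_succ_apply, Function.iterate_succ_apply, ih]
    rfl

/-- the inductive step of the Hall–Wielandt theorem -/
theorem hw_step {p : ℕ} [Fact p.Prime] (P : Sylow p G) (Q : Subgroup G)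
    (hQ : Cfsg.IsWeaklyClosed Q (P : Subgroup G))
    (hEngel : ∀ u ∈ (P : Subgroup G), ∀ z ∈ Q, (fun y : G => y⁻¹ * z⁻¹ * y * z)^[p - 1] u = 1)
    (u : G) (hu : u ∈ (P : Subgroup G)) (huG : u ∈ commutator G)
    (hmin : ∀ v ∈ (P : Subgroup G), v ∈ commutator G → orderOf v < orderOf u →
      v ∈ (P : Subgroup G) ⊓ ⁅normalizer (Q : Set G), normalizer (Q : Set G)⁆) :
    u ∈ (P : Subgroup G) ⊓ ⁅normalizer (Q : Set G), normalizer (Q : Set G)⁆ := by
  have hp : p.Prime := Fact.out
  set N : Subgroup G := normalizer (Q : Set G) with hN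
  set K : Subgroup G := (P : Subgroup G) ⊓ ⁅N, N⁆ with hK
  have hKP : K ≤ (P : Subgroup G) := inf_le_left
  have hQP : Q ≤ (P : Subgroup G) := hQ.1
  -- P ≤ N
  have hPN : (P : Subgroup G) ≤ N := by
    intro y hy
    apply Cfsg.Agent.Lib.Helper17.mem_normalizer_of_map_conj_le
    have h1 : Q.map (MulAut.conj y).toMonoidHom ≤ (P : Subgroup G) := by
      rintro _ ⟨q, hq, rfl⟩
      simp only [MulEquiv.coe_toMonoidHom, MulAut.conj_apply]
      exact (P : Subgroup G).mul_mem ((P : Subgroup G).mul_mem hy (hQP hq)) ((P : Subgroup G).inv_mem hy)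
    rw [hQ.2 y h1]
  -- weak closure, elementwise
  have hwc : ∀ x : G, (∀ z ∈ Q, x⁻¹ * z * x ∈ (P : Subgroup G)) → x ∈ N := by
    intro x hx
    have h1 : Q.map (MulAut.conj x⁻¹).toMonoidHom ≤ (P : Subgroup G) := by
      rintro _ ⟨q, hq, rfl⟩
      simp only [MulEquiv.coe_toMonoidHom, MulAut.conj_apply, inv_inv]
      exact hx q hq
    have h2 : x⁻¹ ∈ N := by
      apply Cfsg.Agent.Lib.Helper17.mem_normalizer_of_map_conj_le
      rw [hQ.2 x⁻¹ h1]
    simpa using N.inv_mem h2
  have hPK : ⁅(P : Subgroup G), (P : Subgroup G)⁆ ≤ K := by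
    rw [hK]
    exact le_inf (Subgroup.commutator_le_self _) (Subgroup.commutator_mono hPN hPN)
  set KP : Subgroup ↥(P : Subgroup G) := K.subgroupOf P with hKPdef
  have hcle : commutator ↥(P : Subgroup G) ≤ KP := by
    rw [hKPdef, Subgroup.subgroupOf, ← Subgroup.map_le_iff_le_comap, Subgroup.map_subtype_commutator]
    exact hPK
  have hKPn : KP.Normal := Subgroup.Normal.of_commutator_le (h := hcle)
  have hcomm : IsMulCommutative (↥(P : Subgroup G) ⧸ KP) :=
    Subgroup.Normal.quotient_commutative_iff_commutator_le.mpr hcle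
  set ϕ : ↥(P : Subgroup G) →* ↥(P : Subgroup G) ⧸ KP := QuotientGroup.mk' KP with hϕ
  have E1 : ∀ x, x ∈ K → ext1 (P : Subgroup G) ϕ x = 1 := by
    intro x hx
    rw [ext1_of_mem _ _ _ (hKP hx), hϕ, QuotientGroup.mk'_apply, QuotientGroup.eq_one_iff]
    exact hx
  have E2 : ∀ x y, x ∈ (P : Subgroup G) → y ∈ (P : Subgroup G) → x⁻¹ * y ∈ K →
      ext1 (P : Subgroup G) ϕ x = ext1 (P : Subgroup G) ϕ y := by
    intro x y hx hy hxy
    rw [ext1_of_mem _ _ _ hx, ext1_of_mem _ _ _ hy, hϕ, QuotientGroup.mk'_apply,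
      QuotientGroup.mk'_apply, QuotientGroup.eq]
    exact hxy
  have E3 : ∀ x (n : ℕ), x ∈ (P : Subgroup G) →
      ext1 (P : Subgroup G) ϕ (x ^ n) = ext1 (P : Subgroup G) ϕ x ^ n := by
    intro x n hx
    rw [ext1_of_mem _ _ _ hx, ext1_of_mem _ _ _ (Subgroup.pow_mem _ hx n), ← map_pow]
    rfl
  have E4 : ∀ x, x ∈ (P : Subgroup G) → ext1 (P : Subgroup G) ϕ x = 1 → x ∈ K := by
    intro x hx h
    rw [ext1_of_mem _ _ _ hx, hϕ, QuotientGroup.mk'_apply, QuotientGroup.eq_one_iff] at h
    exact h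
  -- conjugation by elements of P does not change ϕ
  have E5 : ∀ x h, x ∈ (P : Subgroup G) → h ∈ (P : Subgroup G) →
      ext1 (P : Subgroup G) ϕ (h⁻¹ * x * h) = ext1 (P : Subgroup G) ϕ x := by
    intro x h hx hh
    apply E2 _ _ ((P : Subgroup G).mul_mem ((P : Subgroup G).mul_mem ((P : Subgroup G).inv_mem hh) hx) hh) hx
    apply hPK
    have : (h⁻¹ * x * h)⁻¹ * x = ⁅h⁻¹, x⁻¹⁆ := by rw [commutatorElement_def]; group
    rw [this]
    exact Subgroup.commutator_mem_commutator ((P : Subgroup G).inv_mem hh) ((P : Subgroup G).inv_mem hx)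
  have hu0 : 0 < orderOf u := orderOf_pos u
  have hsmall : ∀ (k : G) (n : ℕ), n ≠ 1 → n ∣ orderOf u → k⁻¹ * u ^ n * k ∈ (P : Subgroup G) →
      k⁻¹ * u ^ n * k ∈ K := by
    intro k n hn1 hnd hmem
    apply hmin _ hmem
    · exact (inferInstance : (commutator G).Normal).conj_mem' _ (Subgroup.pow_mem _ huG n) k
    · have hnpos : 0 < n := Nat.pos_of_dvd_of_pos hnd hu0
      rw [orderOf_conj_inv, orderOf_pow_of_dvd hnpos.ne' hnd]
      have hn2 : 2 ≤ n := by omega
      exact Nat.div_lt_self hu0 hn2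
  by_cases hu1 : u = 1
  · rw [hu1]; exact K.one_mem
  obtain ⟨j, hj⟩ := (IsPGroup.iff_orderOf.mp P.2) ⟨u, hu⟩
  rw [Subgroup.orderOf_mk] at hj
  have hj0 : j ≠ 0 := by
    rintro rfl
    rw [pow_zero, orderOf_eq_one_iff] at hj
    exact hu1 hj
  have hpu : p ∣ orderOf u := by rw [hj]; exact dvd_pow_self p hj0
  let _ := Fintype.ofFinite (G ⧸ (P : Subgroup G))
  have htr := transfer_eq_prod_fixed (P : Subgroup G) ϕ u (by
    intro k n hn1 hnd h
    have := hsmall k n hn1 hnd h
    rw [hϕ, QuotientGroup.mk'_apply, QuotientGroup.eq_one_iff]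
    exact this)
  change _ = ∏ c ∈ (Finset.univ.filter (fun c : G ⧸ (P : Subgroup G) => u • c = c)), _ at htr
  have hker : MonoidHom.transfer ϕ u = 1 :=
    Abelianization.commutator_subset_ker (MonoidHom.transfer ϕ) huG
  rw [hker] at htr
  set g : G ⧸ (P : Subgroup G) → ↥(P : Subgroup G) ⧸ KP :=
    fun c => ext1 (P : Subgroup G) ϕ (c.out⁻¹ * u * c.out) with hg
  rw [← Finset.prod_filter_mul_prod_filter_not _
    (fun c : G ⧸ (P : Subgroup G) => c.out ∈ N)] at htr
  -- first part: cosets inside N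
  have part1 : ∀ c ∈ (Finset.univ.filter (fun c : G ⧸ (P : Subgroup G) => u • c = c)).filter
      (fun c => c.out ∈ N), g c = ext1 (P : Subgroup G) ϕ u := by
    intro c hc
    simp only [Finset.mem_filter, Finset.mem_univ, true_and] at hc
    obtain ⟨huc, hcN⟩ := hc
    have hmem := out_conj_mem_of_fixed (P : Subgroup G) u c huc
    refine (E2 u _ hu hmem ?_).symm
    rw [hK]
    refine ⟨(P : Subgroup G).mul_mem ((P : Subgroup G).inv_mem hu) hmem, ?_⟩
    have : u⁻¹ * (c.out⁻¹ * u * c.out) = ⁅u⁻¹, c.out⁻¹⁆ := by rw [commutatorElement_def]; group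
    rw [this]
    exact Subgroup.commutator_mem_commutator (N.inv_mem (hPN hu)) (N.inv_mem hcN)
  rw [Finset.prod_eq_pow_card part1] at htr
  -- second part: the other cosets, grouped by P-orbits
  have part2 : ∏ c ∈ (Finset.univ.filter (fun c : G ⧸ (P : Subgroup G) => u • c = c)).filter
      (fun c => ¬ c.out ∈ N), g c = 1 := by
    let _ : Fintype (Quotient (orbitRel ↥(P : Subgroup G) (G ⧸ (P : Subgroup G)))) :=
      Fintype.ofFinite _
    rw [← Finset.prod_fiberwise _
      (fun c => (Quotient.mk'' c : Quotient (orbitRel ↥(P : Subgroup G) (G ⧸ (P : Subgroup G))))) g]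
    apply Finset.prod_eq_one
    intro D _
    by_cases hne : (((Finset.univ.filter (fun c : G ⧸ (P : Subgroup G) => u • c = c)).filter
      (fun c => ¬ c.out ∈ N)).filter
      (fun c => (Quotient.mk'' c :
        Quotient (orbitRel ↥(P : Subgroup G) (G ⧸ (P : Subgroup G)))) = D)).Nonempty
    swap
    · rw [Finset.not_nonempty_iff_eq_empty.mp hne, Finset.prod_empty]
    obtain ⟨c₁, hc₁⟩ := hne
    simp only [Finset.mem_filter, Finset.mem_univ, true_and] at hc₁
    obtain ⟨⟨huc₁, hc₁N⟩, hc₁D⟩ := hc₁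
    set x := c₁.out with hx
    have hc₁x : c₁ = QuotientGroup.mk x := (QuotientGroup.out_eq' c₁).symm
    have hsmul : ∀ y : ↥(P : Subgroup G), y • c₁ = (QuotientGroup.mk ((y : G) * x) : G ⧸ (P : Subgroup G)) := by
      intro y
      conv_lhs => rw [hc₁x]
      rfl
    set B : Subgroup ↥(P : Subgroup G) := stabilizer ↥(P : Subgroup G) c₁ with hB
    have hBmem : ∀ b : ↥(P : Subgroup G), b ∈ B ↔ x⁻¹ * (b : G) * x ∈ (P : Subgroup G) := by
      intro b
      rw [hB, mem_stabilizer_iff, hsmul, hc₁x, QuotientGroup.eq]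
      have e : ((b : G) * x)⁻¹ * x = (x⁻¹ * (b : G) * x)⁻¹ := by group
      rw [e, inv_mem_iff]
    let τ : B →* ↥(P : Subgroup G) ⧸ KP :=
      MonoidHom.mk' (fun b => ext1 (P : Subgroup G) ϕ (x⁻¹ * ((b : ↥(P : Subgroup G)) : G) * x)) (by
        intro b b'
        have e : x⁻¹ * (((b * b' : B) : ↥(P : Subgroup G)) : G) * x =
            (x⁻¹ * ((b : ↥(P : Subgroup G)) : G) * x) * (x⁻¹ * ((b' : ↥(P : Subgroup G)) : G) * x) := by
          push_cast; group
        rw [e]
        exact Cfsg.Agent.Lib.Helper22.ext1_mul' (P : Subgroup G) ϕ _ _ ((hBmem b).mp b.2) ((hBmem b').mp b'.2))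
    have hτapp : ∀ b : B, τ b = ext1 (P : Subgroup G) ϕ (x⁻¹ * ((b : ↥(P : Subgroup G)) : G) * x) :=
      fun b => rfl
    set Q' : Subgroup ↥(P : Subgroup G) := Q.subgroupOf (P : Subgroup G) with hQ'
    haveI hQ'n : Q'.Normal := (Subgroup.normal_subgroupOf_iff_le_normalizer hQP).mpr hPN
    have hQ'B : ¬ Q' ≤ B := by
      intro h
      apply hc₁N
      apply hwc x
      intro z hz
      exact (hBmem ⟨z, hQP hz⟩).mp (h (Subgroup.mem_subgroupOf.mpr hz))
    set u' : ↥(P : Subgroup G) := ⟨u, hu⟩ with hu'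
    have hEngel' : ∀ y : ↥(P : Subgroup G), ∀ z ∈ Q',
        (fun y : ↥(P : Subgroup G) => y⁻¹ * z⁻¹ * y * z)^[p - 1] y = 1 := by
      intro y z hz
      apply Subtype.ext
      rw [coe_iterate_engel]
      exact hEngel y y.2 z (Subgroup.mem_subgroupOf.mp hz)
    have hτp : ∀ a : ↥(P : Subgroup G), ∀ h : a⁻¹ * u' * a ∈ B, τ ⟨_, h⟩ ^ p = 1 := by
      intro a h
      rw [hτapp]
      have hm : x⁻¹ * ((a⁻¹ * u' * a : ↥(P : Subgroup G)) : G) * x ∈ (P : Subgroup G) := (hBmem _).mp h
      rw [← E3 _ _ hm]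
      apply E1
      have e : (x⁻¹ * ((a⁻¹ * u' * a : ↥(P : Subgroup G)) : G) * x) ^ p =
          ((a : G) * x)⁻¹ * u ^ p * ((a : G) * x) := by
        have h1 : x⁻¹ * ((a⁻¹ * u' * a : ↥(P : Subgroup G)) : G) * x =
            ((a : G) * x)⁻¹ * u * ((a : G) * x) := by
          push_cast; rw [hu']; group
        rw [h1]
        have := conj_pow (a := ((a : G) * x)⁻¹) (b := u) (i := p)
        simpa using this
      rw [e]
      apply hsmall _ _ hp.ne_one hpu
      rw [← e]
      exact Subgroup.pow_mem _ hm p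
    let _ : Fintype (↥(P : Subgroup G) ⧸ B) := Fintype.ofFinite _
    have hLL := Cfsg.Agent.Lib.Helper22.local_lemma p P.2 B Q' hQ'B u' τ hEngel' hτp
    rw [← hLL]
    symm
    apply Finset.prod_nbij (fun d : ↥(P : Subgroup G) ⧸ B =>
      (QuotientGroup.mk (((d.out : ↥(P : Subgroup G)) : G) * x) : G ⧸ (P : Subgroup G)))
    · -- maps into the fibre
      intro d hd
      simp only [Finset.mem_filter, Finset.mem_univ, true_and] at hd ⊢
      have hyB : d.out⁻¹ * u' * d.out ∈ B := out_conj_mem_of_fixed B u' d hd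
      have hm : x⁻¹ * ((d.out⁻¹ * u' * d.out : ↥(P : Subgroup G)) : G) * x ∈ (P : Subgroup G) :=
        (hBmem _).mp hyB
      refine ⟨⟨?_, ?_⟩, ?_⟩
      · change (QuotientGroup.mk (u * (((d.out : ↥(P : Subgroup G)) : G) * x)) : G ⧸ (P : Subgroup G)) = _
        rw [QuotientGroup.eq]
        have e : (u * (((d.out : ↥(P : Subgroup G)) : G) * x))⁻¹ * (((d.out : ↥(P : Subgroup G)) : G) * x) =
            (x⁻¹ * ((d.out⁻¹ * u' * d.out : ↥(P : Subgroup G)) : G) * x)⁻¹ := by
          push_cast; rw [hu']; group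
        rw [e]
        exact (P : Subgroup G).inv_mem hm
      · obtain ⟨h, hh⟩ := QuotientGroup.mk_out_eq_mul (P : Subgroup G) (((d.out : ↥(P : Subgroup G)) : G) * x)
        rw [hh]
        intro hcon
        apply hc₁N
        have e : x = ((d.out : ↥(P : Subgroup G)) : G)⁻¹ * (((d.out : ↥(P : Subgroup G)) : G) * x * (h : G)) * (h : G)⁻¹ := by
          group
        rw [e]
        exact N.mul_mem (N.mul_mem (N.inv_mem (hPN (d.out).2)) hcon) (N.inv_mem (hPN h.2))
      · rw [← hc₁D]
        apply Quotient.sound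
        change _ ∈ orbit ↥(P : Subgroup G) c₁
        exact ⟨d.out, hsmul d.out⟩
    · -- injectivity
      intro d hd d' hd' hdd'
      simp only at hdd'
      rw [QuotientGroup.eq] at hdd'
      have e : (((d.out : ↥(P : Subgroup G)) : G) * x)⁻¹ * (((d'.out : ↥(P : Subgroup G)) : G) * x) =
          x⁻¹ * ((d.out⁻¹ * d'.out : ↥(P : Subgroup G)) : G) * x := by
        push_cast; group
      rw [e] at hdd'
      have h1 : d.out⁻¹ * d'.out ∈ B := (hBmem _).mpr hdd'
      have h2 : (QuotientGroup.mk d.out : ↥(P : Subgroup G) ⧸ B) = QuotientGroup.mk d'.out :=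
        QuotientGroup.eq.mpr h1
      rwa [QuotientGroup.out_eq', QuotientGroup.out_eq'] at h2
    · -- surjectivity
      intro c hc
      simp only [Finset.coe_filter, Finset.mem_filter, Finset.mem_univ, true_and, Set.mem_ofPred_eq] at hc
      obtain ⟨⟨huc, _⟩, hcD⟩ := hc
      have horb : c ∈ orbit ↥(P : Subgroup G) c₁ := Quotient.exact (hcD.trans hc₁D.symm)
      obtain ⟨y, hyc⟩ := horb
      have hyc' : (QuotientGroup.mk ((y : G) * x) : G ⧸ (P : Subgroup G)) = c := by
        rw [← hsmul]; exact hyc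
      obtain ⟨b, hb⟩ := QuotientGroup.mk_out_eq_mul B y
      have hval : (QuotientGroup.mk ((((QuotientGroup.mk y : ↥(P : Subgroup G) ⧸ B).out : ↥(P : Subgroup G)) : G) * x) :
          G ⧸ (P : Subgroup G)) = c := by
        rw [← hyc', hb, QuotientGroup.eq]
        have e : (((y * (b : ↥(P : Subgroup G)) : ↥(P : Subgroup G)) : G) * x)⁻¹ * ((y : G) * x) =
            (x⁻¹ * ((b : ↥(P : Subgroup G)) : G) * x)⁻¹ := by
          push_cast; group
        rw [e]
        exact (P : Subgroup G).inv_mem ((hBmem b).mp b.2)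
      refine ⟨QuotientGroup.mk y, ?_, hval⟩
      simp only [Finset.coe_filter, Finset.mem_filter, Finset.mem_univ, true_and, Set.mem_ofPred_eq]
      change (QuotientGroup.mk (u' * y) : ↥(P : Subgroup G) ⧸ B) = QuotientGroup.mk y
      rw [QuotientGroup.eq]
      have e : (u' * y)⁻¹ * y = (y⁻¹ * u' * y)⁻¹ := by group
      rw [e, inv_mem_iff, hBmem]
      -- from u • c = c
      rw [← hyc'] at huc
      change (QuotientGroup.mk (u * ((y : G) * x)) : G ⧸ (P : Subgroup G)) = _ at huc
      rw [QuotientGroup.eq] at huc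
      have e2 : x⁻¹ * ((y⁻¹ * u' * y : ↥(P : Subgroup G)) : G) * x = ((u * ((y : G) * x))⁻¹ * ((y : G) * x))⁻¹ := by
        push_cast; rw [hu']; group
      rw [e2]
      exact (P : Subgroup G).inv_mem huc
    · -- values
      intro d hd
      simp only [Finset.mem_filter, Finset.mem_univ, true_and] at hd
      have hyB : d.out⁻¹ * u' * d.out ∈ B := out_conj_mem_of_fixed B u' d hd
      have hm : x⁻¹ * ((d.out⁻¹ * u' * d.out : ↥(P : Subgroup G)) : G) * x ∈ (P : Subgroup G) :=
        (hBmem _).mp hyB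
      rw [ext1_of_mem B τ _ hyB, hτapp]
      simp only [hg]
      obtain ⟨h, hh⟩ := QuotientGroup.mk_out_eq_mul (P : Subgroup G) (((d.out : ↥(P : Subgroup G)) : G) * x)
      rw [hh]
      have e : (((d.out : ↥(P : Subgroup G)) : G) * x * (h : G))⁻¹ * u * (((d.out : ↥(P : Subgroup G)) : G) * x * (h : G)) =
          (h : G)⁻¹ * (x⁻¹ * ((d.out⁻¹ * u' * d.out : ↥(P : Subgroup G)) : G) * x) * (h : G) := by
        push_cast; rw [hu']; group
      rw [e, E5 _ _ hm h.2]
  rw [part2, mul_one] at htr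
  -- the exponent is prime to p
  have hm : ¬ p ∣ ((Finset.univ.filter (fun c : G ⧸ (P : Subgroup G) => u • c = c)).filter
      (fun c => c.out ∈ N)).card := by
    set A' : Subgroup G := Q ⊔ zpowers u with hA'
    have hA'P : A' ≤ (P : Subgroup G) := sup_le hQP ((zpowers_le).mpr hu)
    have hA'p : IsPGroup p A' := P.2.to_le hA'P
    have h1 := hA'p.card_modEq_card_fixedPoints (G ⧸ (P : Subgroup G))
    have h2 : Nat.card (fixedPoints A' (G ⧸ (P : Subgroup G))) =
        ((Finset.univ.filter (fun c : G ⧸ (P : Subgroup G) => u • c = c)).filter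
          (fun c => c.out ∈ N)).card := by
      rw [Nat.card_coe_set_eq, ← Set.ncard_coe_finset]
      congr 1
      ext c
      simp only [Finset.coe_filter, Finset.mem_filter, Finset.mem_univ, true_and, Set.mem_ofPred_eq]
      have hcx : c = QuotientGroup.mk c.out := (QuotientGroup.out_eq' c).symm
      constructor
      · intro hc
        refine ⟨hc ⟨u, mem_sup_right (mem_zpowers u)⟩, ?_⟩
        apply hwc
        intro z hz
        have := hc ⟨z, mem_sup_left hz⟩
        change z • c = c at this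
        rw [hcx] at this
        change (QuotientGroup.mk (z * c.out) : G ⧸ (P : Subgroup G)) = _ at this
        rw [QuotientGroup.eq] at this
        have e : c.out⁻¹ * z * c.out = ((z * c.out)⁻¹ * c.out)⁻¹ := by group
        rw [e]
        exact (P : Subgroup G).inv_mem this
      · rintro ⟨huc, hcN⟩ ⟨a, ha⟩
        change a • c = c
        -- the stabilizer of c contains Q and u
        have hstab : A' ≤ stabilizer G c := by
          rw [hA']
          apply sup_le
          · intro z hz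
            rw [mem_stabilizer_iff, hcx]
            change (QuotientGroup.mk (z * c.out) : G ⧸ (P : Subgroup G)) = _
            rw [QuotientGroup.eq]
            have e : (z * c.out)⁻¹ * c.out = c.out⁻¹ * z⁻¹ * c.out⁻¹⁻¹ := by group
            rw [e]
            have h3 : c.out⁻¹ ∈ N := N.inv_mem hcN
            have := (Subgroup.mem_normalizer_iff.mp h3 z⁻¹).mp (Q.inv_mem hz)
            exact hQP this
          · rw [zpowers_le, mem_stabilizer_iff]; exact huc
        exact mem_stabilizer_iff.mp (hstab ha)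
    rw [h2] at h1
    intro hd
    have : p ∣ Nat.card (G ⧸ (P : Subgroup G)) :=
      (Nat.modEq_zero_iff_dvd.mp (h1.trans (Nat.modEq_zero_iff_dvd.mpr hd)))
    rw [← Subgroup.index_eq_card] at this
    exact P.not_dvd_index this
  apply E4 u hu
  have h1 : orderOf (ext1 (P : Subgroup G) ϕ u) ∣ _ := orderOf_dvd_of_pow_eq_one htr.symm
  have h2 : orderOf (ext1 (P : Subgroup G) ϕ u) ∣ p ^ j := by
    apply orderOf_dvd_of_pow_eq_one
    rw [← E3 u _ hu, ← hj, pow_orderOf_eq_one]
    exact E1 1 K.one_mem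
  have hcop : Nat.Coprime ((Finset.univ.filter (fun c : G ⧸ (P : Subgroup G) => u • c = c)).filter
      (fun c => c.out ∈ N)).card (p ^ j) :=
    Nat.Coprime.pow_right j ((Nat.Prime.coprime_iff_not_dvd hp).mpr hm).symm
  exact orderOf_eq_one_iff.mp (Nat.eq_one_of_dvd_coprimes hcop h1 h2)

/-- Hall–Wielandt, focal form: `P ∩ G' ≤ N_G(Q)'`. -/
theorem hw_focal {p : ℕ} [Fact p.Prime] (P : Sylow p G) (Q : Subgroup G)
    (hQ : Cfsg.IsWeaklyClosed Q (P : Subgroup G))
    (hEngel : ∀ u ∈ (P : Subgroup G), ∀ z ∈ Q, (fun y : G => y⁻¹ * z⁻¹ * y * z)^[p - 1] u = 1) :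
    (P : Subgroup G) ⊓ commutator G ≤ ⁅normalizer (Q : Set G), normalizer (Q : Set G)⁆ := by
  have key : ∀ n : ℕ, ∀ u ∈ (P : Subgroup G), u ∈ commutator G → orderOf u = n →
      u ∈ (P : Subgroup G) ⊓ ⁅normalizer (Q : Set G), normalizer (Q : Set G)⁆ := by
    intro n
    induction n using Nat.strong_induction_on with
    | _ n ih =>
    intro u hu huG hn
    apply hw_step P Q hQ hEngel u hu huG
    intro v hv hvG hlt
    exact ih (orderOf v) (hn ▸ hlt) v hv hvG rfl
  intro u hu
  exact (key _ u hu.1 hu.2 rfl).2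

/-- Hall–Wielandt: `N_G(Q)` controls `p`-transfer. -/
theorem hall_wielandt {p : ℕ} [Fact p.Prime] (P : Sylow p G) (Q : Subgroup G)
    (hQ : Cfsg.IsWeaklyClosed Q (P : Subgroup G))
    (h : ∀ u ∈ (P : Subgroup G), ∀ z ∈ Q, (fun y : G => y⁻¹ * z⁻¹ * y * z)^[p - 1] u = 1) :
    Cfsg.pResidualOf p (Subgroup.normalizer (Q : Set G)) =
      Cfsg.pResidual p G ⊓ Subgroup.normalizer (Q : Set G) := by
  have hp : p.Prime := Fact.out
  set N : Subgroup G := normalizer (Q : Set G) with hN
  have hQP : Q ≤ (P : Subgroup G) := hQ.1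
  have hPN : (P : Subgroup G) ≤ N := by
    intro y hy
    apply Cfsg.Agent.Lib.Helper17.mem_normalizer_of_map_conj_le
    have h1 : Q.map (MulAut.conj y).toMonoidHom ≤ (P : Subgroup G) := by
      rintro _ ⟨q, hq, rfl⟩
      simp only [MulEquiv.coe_toMonoidHom, MulAut.conj_apply]
      exact (P : Subgroup G).mul_mem ((P : Subgroup G).mul_mem hy (hQP hq)) ((P : Subgroup G).inv_mem hy)
    rw [hQ.2 y h1]
  have hfoc : (P : Subgroup G) ⊓ commutator G ≤ (commutator N).map N.subtype := by
    refine (hw_focal P Q hQ h).trans ?_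
    rw [commutator_def, Subgroup.map_commutator, ← MonoidHom.range_eq_map, Subgroup.range_subtype]
  have htate := Cfsg.Agent.Lib.Helper22.tate_general P N hPN hfoc
  have hle : Cfsg.pResidualOf p N ≤ Cfsg.pResidual p G := by
    unfold Cfsg.pResidualOf
    rw [Subgroup.map_le_iff_le_comap]
    unfold Cfsg.pResidual
    rw [Subgroup.closure_le]
    intro v hv
    have hv' : (orderOf v).Coprime p := hv
    rw [SetLike.mem_coe, Subgroup.mem_comap]
    apply Subgroup.subset_closure
    change (orderOf (v : G)).Coprime p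
    rw [Subgroup.orderOf_coe]; exact hv'
  apply le_antisymm
  · exact le_inf hle (Subgroup.map_subtype_le _)
  · rintro x ⟨hxG, hxN⟩
    -- N = O^p(N) P
    have hidx : ¬ p ∣ ((P : Subgroup G).subgroupOf N).index := by
      intro hd
      exact P.not_dvd_index (dvd_trans hd (Subgroup.relIndex_dvd_index_of_le hPN))
    have htop := Cfsg.Agent.Lib.Helper12.sup_pResidual_eq_top (p := p) ((P : Subgroup G).subgroupOf N) hidx
    haveI := Cfsg.Agent.Lib.Helper12.pResidual_normal' p ↥N
    have hx' : (⟨x, hxN⟩ : N) ∈ (P : Subgroup G).subgroupOf N ⊔ Cfsg.pResidual p ↥N := by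
      rw [htop]; trivial
    rw [Subgroup.mem_sup_of_normal_right] at hx'
    obtain ⟨v, hv, y, hy, hvy⟩ := hx'
    have hyG : (y : G) ∈ Cfsg.pResidualOf p N := Subgroup.mem_map_of_mem N.subtype hy
    have hvP : (v : G) ∈ (P : Subgroup G) := Subgroup.mem_subgroupOf.mp hv
    have hxeq : x = (v : G) * (y : G) := by
      have := congrArg Subtype.val hvy
      simpa using this.symm
    have hvG : (v : G) ∈ Cfsg.pResidual p G := by
      have : (v : G) = x * (y : G)⁻¹ := by rw [hxeq]; group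
      rw [this]
      exact Subgroup.mul_mem _ hxG (Subgroup.inv_mem _ (hle hyG))
    have hv2 : (v : G) ∈ Cfsg.pResidualOf p N := htate ⟨hvP, hvG⟩
    rw [hxeq]
    exact Subgroup.mul_mem _ hv2 hyG

/-- Let `P` be a Sylow `p`-subgroup of the finite group `G`, `Q` a subgroup of `P` weakly closed in `P` with respect to `G`, and `H` the normalizer of `Q`. Suppose that for all `u ∈ P` and `z ∈ Q` the iterated commutator `[u, z, …, z]` with `p - 1` entries `z` is trivial, where `[x, z] = x⁻¹z⁻¹xz` and `[x, z, z] = [[x, z], z]`. Then `O^p(H) = O^p(G) ∩ H`, where `O^p` denotes the subgroup generated by the elements of order prime to `p`; so the largest `p`-factor groups of `G` and of `H` are isomorphic. -/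
theorem result {G : Type*} [Group G] [Finite G] {p : ℕ} [Fact p.Prime] (P : Sylow p G) (Q : Subgroup G) (hQ : Cfsg.IsWeaklyClosed Q (P : Subgroup G)) (h : ∀ u ∈ (P : Subgroup G), ∀ z ∈ Q, (fun y : G => y⁻¹ * z⁻¹ * y * z)^[p - 1] u = 1) : Cfsg.pResidualOf p (Subgroup.normalizer (Q : Set G)) = Cfsg.pResidual p G ⊓ Subgroup.normalizer (Q : Set G) := by
  exact hall_wielandt P Q hQ h

end Cfsg.Agent.S4215
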