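import Cfsg.Statements.S4217
-- import your own Cfsg.Agent.* helpers here
import Mathlib
import Cfsg.Agent.S0051
import Cfsg.Agent.Lib.Helper12.Cores

set_option autoImplicit false
open Cfsg

namespace Cfsg.Agent.S4217


section aux
variable {G : Type*} [Group G]

/-- the elements of the abelian subgroup `A` killed by `m` -/
def torsionPart (A : Subgroup G) [hA : IsMulCommutative A] (m : ℕ) : Subgroup G where
  carrier := {x | x ∈ A ∧ x ^ m = 1}
  one_mem' := ⟨one_mem A, one_pow m⟩
  mul_mem' := by
    rintro x y ⟨hx, hxm⟩ ⟨hy, hym⟩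
    refine ⟨mul_mem hx hy, ?_⟩
    have hc : Commute x y := Subgroup.mul_comm_of_mem_isMulCommutative A hx hy
    rw [hc.mul_pow, hxm, hym, one_mul]
  inv_mem' := by
    rintro x ⟨hx, hxm⟩
    exact ⟨inv_mem hx, by rw [inv_pow, hxm, inv_one]⟩

theorem mem_torsionPart (A : Subgroup G) [hA : IsMulCommutative A] (m : ℕ) (x : G) :
    x ∈ torsionPart A m ↔ x ∈ A ∧ x ^ m = 1 := Iff.rfl

theorem torsionPart_le (A : Subgroup G) [hA : IsMulCommutative A] (m : ℕ) : torsionPart A m ≤ A :=
  fun _ hx => hx.1

instance torsionPart_normal (A : Subgroup G) [hAn : A.Normal] [hA : IsMulCommutative A] (m : ℕ) :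
    (torsionPart A m).Normal where
  conj_mem := by
    rintro x ⟨hx, hxm⟩ g
    refine ⟨hAn.conj_mem x hx g, ?_⟩
    rw [conj_pow, hxm, mul_one, mul_inv_cancel]

end aux

/-- the local step: for one prime `p`, a subgroup `H` of `p`-power index meeting `A` in its `p'`-part -/
theorem exists_local {G : Type*} [Group G] [Finite G] (A : Subgroup G) [hAn : A.Normal]
    [hA : IsMulCommutative A] (p : ℕ) [hp : Fact p.Prime]
    (h : ¬ p ∣ A.index ∨ ∃ (S : Sylow p (G ⧸ A)) (K : Subgroup G), K ⊓ A = ⊥ ∧
      K ⊔ A = (S : Subgroup (G ⧸ A)).comap (QuotientGroup.mk' A)) :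
    ∃ H : Subgroup G, H ⊓ A ≤ torsionPart A (ordCompl[p] (Nat.card A)) ∧
      H.index ∣ ordProj[p] (Nat.card A) := by
  classical
  set m := ordCompl[p] (Nat.card A) with hm
  set B := torsionPart A m with hB
  have hcardA : ordProj[p] (Nat.card A) * m = Nat.card A := Nat.ordProj_mul_ordCompl_eq_self _ p
  have hcardA0 : Nat.card A ≠ 0 := Nat.card_pos.ne'
  have hmcop : Nat.Coprime p m := Nat.coprime_ordCompl hp.out hcardA0
  let π := QuotientGroup.mk' B
  have hπ : Function.Surjective π := QuotientGroup.mk'_surjective B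
  haveI hAbar_n : (A.map π).Normal := Subgroup.Normal.map hAn π hπ
  -- `A / B` is a `p`-group
  have hAbar_p : IsPGroup p ↥(A.map π) := by
    rintro ⟨x, hx⟩
    obtain ⟨a, ha, rfl⟩ := Subgroup.mem_map.mp hx
    refine ⟨(Nat.card A).factorization p, ?_⟩
    apply Subtype.ext
    rw [SubgroupClass.coe_pow, OneMemClass.coe_one, ← map_pow]
    apply (QuotientGroup.eq_one_iff _).mpr
    refine ⟨pow_mem ha _, ?_⟩
    rw [← pow_mul, hcardA]
    have := pow_card_eq_one' (G := ↥A) (x := ⟨a, ha⟩)
    have h2 := congrArg Subtype.val this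
    rw [SubgroupClass.coe_pow, OneMemClass.coe_one] at h2
    exact h2
  obtain ⟨j, hj⟩ := (IsPGroup.iff_card (p := p)).mp hAbar_p
  have hjdvd : p ^ j ∣ ordProj[p] (Nat.card A) := by
    have h1 : Nat.card ↥(A.map π) ∣ Nat.card A := Subgroup.card_map_dvd A π
    rw [hj, ← hcardA] at h1
    exact Nat.Coprime.dvd_of_dvd_mul_right (Nat.Coprime.pow_left j hmcop) h1
  -- a complement of `A / B` in `G / B`
  have hcompl : ∃ Hb : Subgroup (G ⧸ B), Subgroup.IsComplement' (A.map π) Hb := by
    rcases h with h | ⟨S, K, hKA, hKS⟩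
    · apply Subgroup.exists_right_complement'_of_coprime
      rw [hj]
      apply Nat.Coprime.pow_left
      rw [Nat.Prime.coprime_iff_not_dvd hp.out]
      exact fun hd => h (dvd_trans hd (Subgroup.index_map_dvd A hπ))
    · set U := (S : Subgroup (G ⧸ A)).comap (QuotientGroup.mk' A) with hU
      have hUindex : U.index = (S : Subgroup (G ⧸ A)).index :=
        Subgroup.index_comap_of_surjective _ (QuotientGroup.mk'_surjective A)
      have hpU : ¬ p ∣ U.index := by
        rw [hUindex]
        exact S.not_dvd_index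
      have hAU : A ≤ U := by rw [← hKS]; exact le_sup_right
      have hKU : K ≤ U := by rw [← hKS]; exact le_sup_left
      refine Cfsg.Agent.S0051.result (A.map π) (U.map π) (Subgroup.map_mono hAU) ?_ (K.map π)
        (Subgroup.map_mono hKU) ?_ ?_
      · rw [hj]
        apply Nat.Coprime.pow_left
        rw [Nat.Prime.coprime_iff_not_dvd hp.out]
        exact fun hd => hpU (dvd_trans hd (Subgroup.index_map_dvd U hπ))
      · rw [eq_bot_iff]
        rintro x ⟨hxK, hxA⟩
        obtain ⟨k, hk, rfl⟩ := Subgroup.mem_map.mp hxK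
        obtain ⟨a, ha, hak⟩ := Subgroup.mem_map.mp hxA
        have h1 : a⁻¹ * k ∈ B := by
          apply (QuotientGroup.eq_one_iff _).mp
          show π (a⁻¹ * k) = 1
          rw [map_mul, map_inv, hak, inv_mul_cancel]
        have h2 : k ∈ A := by
          have := mul_mem ha (torsionPart_le A m h1)
          rwa [mul_inv_cancel_left] at this
        have h3 : k ∈ K ⊓ A := ⟨hk, h2⟩
        rw [hKA, Subgroup.mem_bot] at h3
        rw [Subgroup.mem_bot, h3, map_one]
      · rw [← Subgroup.map_sup, sup_comm, hKS]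
  obtain ⟨Hb, hHb⟩ := hcompl
  refine ⟨Hb.comap π, ?_, ?_⟩
  · rintro x ⟨hxH, hxA⟩
    have h1 : π x ∈ A.map π ⊓ Hb := ⟨Subgroup.mem_map_of_mem π hxA, hxH⟩
    rw [hHb.disjoint.eq_bot, Subgroup.mem_bot] at h1
    exact (QuotientGroup.eq_one_iff _).mp h1
  · rw [Subgroup.index_comap_of_surjective _ hπ, hHb.index_eq_card, hj]
    exact hjdvd

/-- Let `A` be an abelian normal subgroup of the finite group `G`. Then `A` has a complement in `G` if and only if, for every prime `p` dividing the index of `A`, there are a Sylow `p`-subgroup `S` of `G/A` and a subgroup `K` of `G` with `K ∩ A = 1` and `KA` equal to the preimage of `S` (that is, `A` has a complement in the preimage of a Sylow `p`-subgroup of `G/A`). -/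
theorem result {G : Type*} [Group G] [Finite G] (A : Subgroup G) [A.Normal] (hA : IsMulCommutative A) : (∃ K : Subgroup G, K.IsComplement' A) ↔ ∀ p : ℕ, p.Prime → p ∣ A.index → ∃ (S : Sylow p (G ⧸ A)) (K : Subgroup G), K ⊓ A = ⊥ ∧ K ⊔ A = (S : Subgroup (G ⧸ A)).comap (QuotientGroup.mk' A) := by
  classical
  haveI : IsMulCommutative A := hA
  constructor
  · -- a global complement gives the local ones
    rintro ⟨K, hK⟩ p hp hpA
    haveI : Fact p.Prime := ⟨hp⟩
    have hdisj : K ⊓ A = ⊥ := hK.disjoint.eq_bot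
    obtain ⟨Q⟩ : Nonempty (Sylow p K) := inferInstance
    set Q' : Subgroup G := (Q : Subgroup K).map K.subtype with hQ'
    have hQ'K : Q' ≤ K := by
      rintro x ⟨y, _, rfl⟩
      exact y.2
    have hQ'A : Q' ⊓ A = ⊥ := by
      rw [eq_bot_iff, ← hdisj]
      exact inf_le_inf_right A hQ'K
    -- the quotient map is injective on `K`
    let f : K →* G ⧸ A := (QuotientGroup.mk' A).comp K.subtype
    have hf : Function.Injective f := by
      rw [injective_iff_map_eq_one]
      intro x hx
      have h1 : (x : G) ∈ A := (QuotientGroup.eq_one_iff _).mp hx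
      have h2 : (x : G) ∈ K ⊓ A := ⟨x.2, h1⟩
      rw [hdisj, Subgroup.mem_bot] at h2
      exact Subtype.ext h2
    have hmap : Q'.map (QuotientGroup.mk' A) = (Q : Subgroup K).map f := by
      rw [hQ', Subgroup.map_map]
    have hcardQ : Nat.card ↥(Q'.map (QuotientGroup.mk' A)) =
        p ^ (Nat.card (G ⧸ A)).factorization p := by
      rw [hmap, ← Nat.card_congr ((Q : Subgroup K).equivMapOfInjective f hf).toEquiv,
        Q.card_eq_multiplicity, ← Subgroup.index_eq_card, hK.index_eq_card]
    refine ⟨Sylow.ofCard _ hcardQ, Q', hQ'A, ?_⟩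
    rw [Sylow.coe_ofCard, Subgroup.comap_map_eq, QuotientGroup.ker_mk']
  · -- the local complements give a global one
    intro h
    have hcardA0 : Nat.card A ≠ 0 := Nat.card_pos.ne'
    have hloc : ∀ p : (Nat.card A).primeFactors, ∃ H : Subgroup G,
        H ⊓ A ≤ torsionPart A (ordCompl[(p : ℕ)] (Nat.card A)) ∧
          H.index ∣ ordProj[(p : ℕ)] (Nat.card A) := by
      rintro ⟨p, hp⟩
      have hpp : p.Prime := Nat.prime_of_mem_primeFactors hp
      haveI : Fact p.Prime := ⟨hpp⟩
      apply exists_local A p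
      by_cases hpA : p ∣ A.index
      · exact Or.inr (h p hpp hpA)
      · exact Or.inl hpA
    choose H hH1 hH2 using hloc
    set K : Subgroup G := ⨅ p, H p with hK
    -- `K ∩ A = 1`
    have hKA : K ⊓ A = ⊥ := by
      rw [eq_bot_iff]
      rintro x ⟨hxK, hxA⟩
      rw [Subgroup.mem_bot]
      by_contra hx1
      have hord : orderOf x ≠ 1 := fun h1 => hx1 (orderOf_eq_one_iff.mp h1)
      obtain ⟨q, hq, hqx⟩ := Nat.exists_prime_and_dvd hord
      have hxcard : x ^ Nat.card A = 1 := by
        have := pow_card_eq_one' (G := ↥A) (x := ⟨x, hxA⟩)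
        have h2 := congrArg Subtype.val this
        rw [SubgroupClass.coe_pow, OneMemClass.coe_one] at h2
        exact h2
      have hqA : q ∣ Nat.card A := dvd_trans hqx (orderOf_dvd_of_pow_eq_one hxcard)
      have hqmem : q ∈ (Nat.card A).primeFactors := Nat.mem_primeFactors.mpr ⟨hq, hqA, hcardA0⟩
      have hxH : x ∈ H ⟨q, hqmem⟩ := (Subgroup.mem_iInf.mp hxK) ⟨q, hqmem⟩
      have hxB := hH1 ⟨q, hqmem⟩ ⟨hxH, hxA⟩
      have h3 : orderOf x ∣ ordCompl[q] (Nat.card A) := orderOf_dvd_of_pow_eq_one hxB.2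
      have h4 : q ∣ ordCompl[q] (Nat.card A) := dvd_trans hqx h3
      exact (Nat.not_dvd_ordCompl hq hcardA0) h4
    -- index bound
    have hindex : K.index ≤ Nat.card A := by
      calc K.index ≤ ∏ p, (H p).index := Subgroup.index_iInf_le H
        _ ≤ ∏ p : (Nat.card A).primeFactors, ordProj[(p : ℕ)] (Nat.card A) := by
            apply Finset.prod_le_prod
            · intro p _; exact Nat.zero_le _
            · intro p _
              exact Nat.le_of_dvd (Nat.ordProj_pos _ _) (hH2 p)
        _ = Nat.card A := by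
            rw [Finset.prod_coe_sort (Nat.card A).primeFactors
              (fun p => p ^ (Nat.card A).factorization p)]
            exact Nat.factorization_prod_pow_eq_self hcardA0
    refine ⟨K, ?_⟩
    apply Subgroup.isComplement'_of_card_mul_and_disjoint _ (disjoint_iff.mpr hKA)
    have h1 : Nat.card ↥(K ⊔ A) = Nat.card ↥A * A.relIndex K :=
      Cfsg.Agent.Lib.Helper12.card_sup_eq_of_normal K A
    have h2 : A.relIndex K = Nat.card K := by
      rw [← Subgroup.inf_relIndex_left, hKA, Subgroup.relIndex_bot_left]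
    have h3 : Nat.card ↥(K ⊔ A) ≤ Nat.card G := Subgroup.card_le_card_group _
    have h4 : Nat.card K * K.index = Nat.card G := Subgroup.card_mul_index K
    rw [h2] at h1
    apply le_antisymm
    · rw [mul_comm, ← h1]; exact h3
    · rw [← h4]
      exact Nat.mul_le_mul_left _ hindex

end Cfsg.Agent.S4217
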