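import Cfsg.Statements.S4221
import Mathlib
import Cfsg.Agent.Lib.Helper20.HallG
import Cfsg.Agent.S0415

set_option autoImplicit false
open Cfsg

namespace Cfsg.Agent.S4221

/-- Let `G` be a `4`-fold transitive permutation group on a finite set of `n` points in which the pointwise stabilizer of some four distinct points has odd order. Then `n = 4` or `n = 5` with `G` the full symmetric group, or `n = 6` or `n = 7` with `G` the alternating group, or `n = 11` and `G` has order `7920`. -/
theorem result {α : Type*} [Fintype α] [DecidableEq α] (G : Subgroup (Equiv.Perm α)) (hG : MulAction.IsMultiplyPretransitive G α 4) (x : Fin 4 ↪ α) (hodd : Odd (Nat.card (MulAction.stabilizer G x))) : ((Fintype.card α = 4 ∨ Fintype.card α = 5) ∧ G = ⊤) ∨ ((Fintype.card α = 6 ∨ Fintype.card α = 7) ∧ G = alternatingGroup α) ∨ (Fintype.card α = 11 ∧ Nat.card G = 7920) := by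
  classical
  obtain ⟨c, hc⟩ : ∃ c, c = Nat.card (MulAction.stabilizer G x) := ⟨_, rfl⟩
  have hodd' : Odd c := by rw [hc]; exact hodd
  have hstab : ∀ p : Fin 4 ↪ α, Nat.card (MulAction.stabilizer G p) = c := by
    intro p
    rw [hc]
    exact Cfsg.Agent.Lib.Helper20.Miller.card_stab_eq hG p x
  have S : Cfsg.Agent.Lib.Helper20.Hall.HSet ↥G α :=
    { faithful := by
        intro g hg
        apply Subtype.ext
        apply Equiv.Perm.ext
        intro a
        exact hg a
      trans4 := hG
      odd := by
        intro p
        exact (congrArg Odd (hstab p)).mpr hodd' }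
  have hn4 : 4 ≤ Fintype.card α := by
    have := Fintype.card_le_of_embedding x
    rwa [Fintype.card_fin] at this
  have hmul : c * (Fintype.card α).factorial
      = Nat.card G * (Fintype.card α - 4).factorial := by
    have := Cfsg.Agent.Lib.Helper20.Miller.card_stab_mul hG x
    rw [Nat.card_eq_fintype_card (α := α)] at this
    rw [hc]
    exact this
  have hdvd : Nat.card G ∣ (Fintype.card α).factorial := by
    have := Subgroup.card_subgroup_dvd_card G
    rwa [Nat.card_perm, Nat.card_eq_fintype_card (α := α)] at this
  have hidx := Subgroup.index_mul_card G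
  rw [Nat.card_perm, Nat.card_eq_fintype_card (α := α)] at hidx
  have hGpos : 0 < Nat.card G := Nat.card_pos
  have hcpos : 0 < c := by
    rcases hodd' with ⟨j, hj⟩
    omega
  obtain ⟨m, hm⟩ := hdvd
  have hkey : ∀ A B : ℕ, (Fintype.card α).factorial = A → (Fintype.card α - 4).factorial = B →
      c * m = B := by
    intro A B hA hB
    have h3 : Nat.card G * (c * m) = Nat.card G * B := by
      calc Nat.card G * (c * m) = c * (Nat.card G * m) := by ring
        _ = Nat.card G * B := by rw [← hm, ← hB]; exact hmul
    exact Nat.eq_of_mul_eq_mul_left hGpos h3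
  rcases Nat.lt_or_ge (Fintype.card α) 8 with hn8 | hn8
  · have hcases : Fintype.card α = 4 ∨ Fintype.card α = 5 ∨ Fintype.card α = 6 ∨
        Fintype.card α = 7 := by omega
    rcases hcases with h | h | h | h
    · -- degree 4
      left
      refine ⟨Or.inl h, ?_⟩
      have h3 := hkey _ _ rfl rfl
      rw [h] at hmul hm h3
      have h1 : Nat.factorial 4 = 24 := rfl
      have h2 : Nat.factorial (4 - 4) = 1 := rfl
      rw [h1] at hm
      rw [h2] at h3
      apply Subgroup.eq_top_of_card_eq
      rw [Nat.card_perm, Nat.card_eq_fintype_card (α := α), h, h1]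
      have hm1 : m = 1 := Nat.eq_one_of_mul_eq_one_left h3
      rw [hm1, mul_one] at hm
      exact hm.symm
    · -- degree 5
      left
      refine ⟨Or.inr h, ?_⟩
      have h3 := hkey _ _ rfl rfl
      rw [h] at hmul hm h3
      have h1 : Nat.factorial 5 = 120 := rfl
      have h2 : Nat.factorial (5 - 4) = 1 := rfl
      rw [h1] at hm
      rw [h2] at h3
      apply Subgroup.eq_top_of_card_eq
      rw [Nat.card_perm, Nat.card_eq_fintype_card (α := α), h, h1]
      have hm1 : m = 1 := Nat.eq_one_of_mul_eq_one_left h3
      rw [hm1, mul_one] at hm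
      exact hm.symm
    · -- degree 6
      right; left
      refine ⟨Or.inl h, ?_⟩
      have h3 := hkey _ _ rfl rfl
      rw [h] at hmul hm hidx h3
      have h1 : Nat.factorial 6 = 720 := rfl
      have h2 : Nat.factorial (6 - 4) = 2 := rfl
      rw [h1] at hmul hm hidx
      rw [h2] at hmul h3
      apply Equiv.Perm.eq_alternatingGroup_of_index_eq_two
      have h4 : c = 1 := by
        have hle : c ≤ 2 := Nat.le_of_dvd (by norm_num) ⟨m, h3.symm⟩
        obtain ⟨j, hj⟩ := hodd'
        omega
      rw [h4] at hmul
      have h5 : Nat.card G = 360 := by omega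
      rw [h5] at hidx
      omega
    · -- degree 7
      right; left
      refine ⟨Or.inr h, ?_⟩
      have h3 := hkey _ _ rfl rfl
      rw [h] at hmul hm hidx h3
      have h1 : Nat.factorial 7 = 5040 := rfl
      have h2 : Nat.factorial (7 - 4) = 6 := rfl
      rw [h1] at hmul hm hidx
      rw [h2] at hmul h3
      apply Equiv.Perm.eq_alternatingGroup_of_index_eq_two
      have h4 : c = 1 ∨ c = 3 := by
        have hle : c ≤ 6 := Nat.le_of_dvd (by norm_num) ⟨m, h3.symm⟩
        have hd : c ∣ 6 := ⟨m, h3.symm⟩
        obtain ⟨j, hj⟩ := hodd'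
        clear hmul hstab hc
        interval_cases c <;> first | omega | (exfalso; revert hd; decide)
      rcases h4 with h4 | h4
      · exfalso
        have hsharp : ∀ p : Fin 4 ↪ α, MulAction.stabilizer G p = ⊥ := by
          intro p
          apply Subgroup.eq_bot_of_card_eq
          rw [hstab p, h4]
        have := Cfsg.Agent.S0415.result G hn4 hsharp
        omega
      · rw [h4] at hmul
        have h5 : Nat.card G = 2520 := by omega
        rw [h5] at hidx
        omega
  · -- degree at least 8
    right; right
    obtain ⟨V⟩ := S.exists_VData x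
    obtain ⟨h11, _, _⟩ := V.degree S hn8
    have h1 := V.stab_trivial S hn8
    have h2 : c = 1 := (hstab V.p₀).symm.trans h1
    refine ⟨h11, ?_⟩
    rw [h11, h2] at hmul
    have h3 : Nat.factorial 11 = 39916800 := rfl
    have h4 : Nat.factorial (11 - 4) = 5040 := rfl
    rw [h3, h4] at hmul
    omega

end Cfsg.Agent.S4221
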