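import Cfsg.Statements.S4222
-- import your own Cfsg.Agent.* helpers here

set_option autoImplicit false
open Cfsg

namespace Cfsg.Agent.S4222

/-- If a normal subgroup `N` of a finite group is complete (its centre is trivial and every automorphism of `N` is inner), then the group is the internal direct product of `N` and the centralizer of `N`: the centralizer is a complement to `N`. -/
theorem result {T : Type*} [Group T] [Finite T] (N : Subgroup T) [N.Normal] (hz : Subgroup.center ↥N = ⊥) (ha : Function.Surjective (MulAut.conj : ↥N →* MulAut ↥N)) : (Subgroup.centralizer (N : Set T)).IsComplement' N := by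
  classical
  apply Subgroup.isComplement'_of_disjoint_and_mul_eq_univ
  · rw [Subgroup.disjoint_def]
    intro x hxC hxN
    have hc : (⟨x, hxN⟩ : N) ∈ Subgroup.center N := by
      rw [Subgroup.mem_center_iff]
      intro y
      apply Subtype.ext
      simp only [Subgroup.coe_mul]
      exact (Subgroup.mem_centralizer_iff.mp hxC) y.1 y.2
    rw [hz, Subgroup.mem_bot] at hc
    exact congrArg Subtype.val hc
  · rw [Set.eq_univ_iff_forall]
    intro t
    obtain ⟨n, hn⟩ := ha (MulAut.conjNormal t : MulAut N)
    have key : ∀ z : N, t * z.1 * t⁻¹ = n.1 * z.1 * n.1⁻¹ := by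
      intro z
      have h1 := congrArg (fun f : MulAut N => ((f z : N) : T)) hn
      simp only [MulAut.conjNormal_apply, MulAut.conj_apply, Subgroup.coe_mul, Subgroup.coe_inv] at h1
      exact h1.symm
    refine ⟨t * n.1⁻¹, ?_, n.1, n.2, by group⟩
    rw [SetLike.mem_coe, Subgroup.mem_centralizer_iff]
    intro y hy
    -- y * (t n⁻¹) = (t n⁻¹) * y
    have hz' : n.1⁻¹ * y * n.1 ∈ N := by
      have := N.mul_mem (N.mul_mem (N.inv_mem n.2) hy) n.2
      exact this
    have := key ⟨n.1⁻¹ * y * n.1, hz'⟩
    simp only at this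
    -- t * (n⁻¹ y n) * t⁻¹ = n (n⁻¹ y n) n⁻¹ = y
    have h2 : t * (n.1⁻¹ * y * n.1) * t⁻¹ = y := by rw [this]; group
    calc y * (t * n.1⁻¹) = (t * (n.1⁻¹ * y * n.1) * t⁻¹) * (t * n.1⁻¹) := by rw [h2]
      _ = t * n.1⁻¹ * y := by group

end Cfsg.Agent.S4222
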