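import Cfsg.Statements.S4224
-- import your own Cfsg.Agent.* helpers here
import Mathlib
import Cfsg.Agent.Lib.Helper22.Regular

set_option autoImplicit false
open Cfsg

namespace Cfsg.Agent.S4224

/-- In a regular `p`-group, for all elements `a`, `b` and every power `q = p^k`: `a^q` commutes with `b` if and only if the commutator `a⁻¹b⁻¹ab` has `q`-th power equal to `1`. -/
theorem result {G : Type*} [Group G] [Finite G] {p : ℕ} [Fact p.Prime] (hG : Cfsg.IsRegularPGroup p G) (a b : G) (k : ℕ) : a ^ p ^ k * b = b * a ^ p ^ k ↔ (a⁻¹ * b⁻¹ * a * b) ^ p ^ k = 1 := by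
  have h1 : a ^ p ^ k * b = b * a ^ p ^ k ↔ (b⁻¹ * a * b) ^ p ^ k = a ^ p ^ k := by
    have h0 : (b⁻¹ * a * b) ^ p ^ k = b⁻¹ * (a ^ p ^ k * b) := by
      have : b⁻¹ * a * b = b⁻¹ * a * (b⁻¹)⁻¹ := by rw [inv_inv]
      rw [this, conj_pow, inv_inv, mul_assoc]
    rw [h0, inv_mul_eq_iff_eq_mul]
  have h2 := Cfsg.Agent.Lib.Helper22.regular_pow_eq_iff hG k (b⁻¹ * a * b) a
  have h3 : ((b⁻¹ * a * b) * a⁻¹) ^ p ^ k = 1 ↔ (a⁻¹ * b⁻¹ * a * b) ^ p ^ k = 1 := by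
    have h4 : a⁻¹ * b⁻¹ * a * b = a⁻¹ * ((b⁻¹ * a * b) * a⁻¹) * (a⁻¹)⁻¹ := by group
    rw [h4, conj_pow]
    constructor
    · intro h; rw [h]; group
    · intro h
      have h5 := congrArg (fun z => a * z * a⁻¹) h
      simp only [inv_inv] at h5
      have h6 : a * (a⁻¹ * (b⁻¹ * a * b * a⁻¹) ^ p ^ k * a) * a⁻¹ = (b⁻¹ * a * b * a⁻¹) ^ p ^ k := by
        group
      rw [h6] at h5
      rw [h5]; group
  rw [h1, h2, h3]

end Cfsg.Agent.S4224
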