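import Cfsg.Statements.S4226
-- import your own Cfsg.Agent.* helpers here
import Mathlib
import Cfsg.Agent.S4215

set_option autoImplicit false
open Cfsg

namespace Cfsg.Agent.S4226

open scoped commutatorElement

/-- Let `P` be a Sylow `p`-subgroup of the finite group `G` with nilpotency class less than `p` (the term of index `p - 1` of the lower central series of `P`, indexed from `0`, is trivial), and let `N` be its normalizer. Then `O^p(N) = O^p(G) ∩ N`, where `O^p` denotes the subgroup generated by the elements of order prime to `p`; so the largest `p`-factor groups of `G` and of `N` are isomorphic. -/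
theorem result {G : Type*} [Group G] [Finite G] {p : ℕ} [Fact p.Prime] (P : Sylow p G) (hcl : (P : Subgroup G).lowerCentralSeries (p - 1) = ⊥) : Cfsg.pResidualOf p (Subgroup.normalizer ((P : Subgroup G) : Set G)) = Cfsg.pResidual p G ⊓ Subgroup.normalizer ((P : Subgroup G) : Set G) := by
  have hW : Cfsg.IsWeaklyClosed (P : Subgroup G) (P : Subgroup G) := by
    refine ⟨le_rfl, ?_⟩
    intro g hg
    apply Subgroup.eq_of_le_of_card_ge hg
    apply le_of_eq
    exact Nat.card_congr (Subgroup.equivMapOfInjective (P : Subgroup G) (MulAut.conj g).toMonoidHom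
      (MulAut.conj g).injective).toEquiv
  apply Cfsg.Agent.S4215.hall_wielandt P (P : Subgroup G) hW
  intro u hu z hz
  have key : ∀ k : ℕ, ∀ y ∈ (P : Subgroup G).lowerCentralSeries 0,
      (fun y : G => y⁻¹ * z⁻¹ * y * z)^[k] y ∈ (P : Subgroup G).lowerCentralSeries k := by
    intro k
    induction k with
    | zero => intro y hy; exact hy
    | succ k ih =>
      intro y hy
      rw [Function.iterate_succ_apply', Subgroup.lowerCentralSeries_succ]
      have h1 := ih y hy
      set w := (fun y : G => y⁻¹ * z⁻¹ * y * z)^[k] y with hw
      have e : w⁻¹ * z⁻¹ * w * z = ⁅w⁻¹, z⁻¹⁆ := by rw [commutatorElement_def]; group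
      change w⁻¹ * z⁻¹ * w * z ∈ _
      rw [e]
      exact Subgroup.commutator_mem_commutator (Subgroup.inv_mem _ h1) (Subgroup.inv_mem _ hz)
  have := key (p - 1) u hu
  rw [hcl, Subgroup.mem_bot] at this
  exact this

end Cfsg.Agent.S4226
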