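import Cfsg.Statements.S4227
-- import your own Cfsg.Agent.* helpers here
import Mathlib
import Cfsg.Agent.S0144
import Cfsg.Agent.Lib.Helper25.PSolvableOfSolvable
import Cfsg.Agent.Lib.Helper12.HallHigman
import Cfsg.Agent.Lib.Helper12.Cores
import Cfsg.Agent.Lib.Helper24.PSolvable
import Cfsg.Agent.Lib.Helper9.PLength

set_option autoImplicit false
open Cfsg

namespace Cfsg.Agent.S4227

open Cfsg.Agent.Lib.Helper12
open scoped commutatorElement

universe u

theorem ring_key {R : Type*} [Ring R] (h2 : ∀ r : R, 2 * r = 0 → r = 0) (β₁ β₂ β₃ γ : R)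
    (hb1 : β₁ * β₁ = 1) (hb2 : β₂ * β₂ = 1) (h12 : β₁ * β₂ = β₂ * β₁) (h3 : β₃ = β₁ * β₂)
    (hg : γ * γ * γ = 1) (c1 : β₁ * γ = γ * β₃) (c2 : β₁ * (γ * γ) = γ * γ * β₂)
    (hT : 1 + γ + γ * γ = 0) : β₁ = 1 := by
  -- Y₊
  have key : ∀ Y : R, β₁ * Y = -Y → (β₂ * Y = Y ∨ β₂ * Y = -Y) → Y = 0 := by
    intro Y h1 h2'
    have hTY : Y + γ * Y + γ * γ * Y = 0 := by
      have := congrArg (· * Y) hT
      simp only [add_mul, one_mul, zero_mul] at this
      exact this
    have hbTY : β₁ * Y + γ * (β₃ * Y) + γ * γ * (β₂ * Y) = 0 := by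
      have := congrArg (β₁ * ·) hTY
      simp only [mul_add, mul_zero] at this
      rw [← mul_assoc β₁ γ Y, c1, ← mul_assoc β₁ (γ * γ) Y, c2] at this
      rw [mul_assoc γ β₃ Y, mul_assoc (γ * γ) β₂ Y] at this
      exact this
    have h3Y : β₃ * Y = β₁ * (β₂ * Y) := by rw [h3, mul_assoc]
    rcases h2' with h2' | h2'
    · -- β₂Y = Y, β₃Y = -Y
      rw [h3Y, h2', h1] at hbTY
      -- -Y + γ(-Y) + γγY = 0 ; add to hTY: 2 γγY = 0
      have : 2 * (γ * γ * Y) = 0 := by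
        have := congrArg₂ (· + ·) hTY hbTY
        simp only [add_zero] at this
        rw [← this]; noncomm_ring
      have h0 := h2 _ this
      have : Y = γ * (γ * γ * Y) := by
        rw [← mul_assoc, ← mul_assoc, hg, one_mul]
      rw [this, h0, mul_zero]
    · -- β₂Y = -Y, β₃Y = Y
      have hb3 : β₃ * Y = Y := by rw [h3Y, h2', mul_neg, h1, neg_neg]
      rw [hb3, h2', h1] at hbTY
      have : 2 * (γ * Y) = 0 := by
        have := congrArg₂ (· + ·) hTY hbTY
        simp only [add_zero] at this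
        rw [← this]; noncomm_ring
      have h0 := h2 _ this
      have : Y = γ * γ * (γ * Y) := by
        rw [← mul_assoc, hg, one_mul]
      rw [this, h0, mul_zero]
  have hp : (1 + β₂) * (β₁ - 1) = 0 := by
    apply key
    · calc β₁ * ((1 + β₂) * (β₁ - 1)) = (β₁ + β₁ * β₂) * (β₁ - 1) := by noncomm_ring
        _ = (β₁ + β₂ * β₁) * (β₁ - 1) := by rw [h12]
        _ = β₁ * β₁ - β₁ + β₂ * (β₁ * β₁) - β₂ * β₁ := by noncomm_ring
        _ = 1 - β₁ + β₂ * 1 - β₂ * β₁ := by rw [hb1]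
        _ = -((1 + β₂) * (β₁ - 1)) := by noncomm_ring
    · left
      calc β₂ * ((1 + β₂) * (β₁ - 1)) = (β₂ + β₂ * β₂) * (β₁ - 1) := by noncomm_ring
        _ = (β₂ + 1) * (β₁ - 1) := by rw [hb2]
        _ = (1 + β₂) * (β₁ - 1) := by noncomm_ring
  have hm : (1 - β₂) * (β₁ - 1) = 0 := by
    apply key
    · calc β₁ * ((1 - β₂) * (β₁ - 1)) = (β₁ - β₁ * β₂) * (β₁ - 1) := by noncomm_ring
        _ = (β₁ - β₂ * β₁) * (β₁ - 1) := by rw [h12]
        _ = β₁ * β₁ - β₁ - β₂ * (β₁ * β₁) + β₂ * β₁ := by noncomm_ring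
        _ = 1 - β₁ - β₂ * 1 + β₂ * β₁ := by rw [hb1]
        _ = -((1 - β₂) * (β₁ - 1)) := by noncomm_ring
    · right
      calc β₂ * ((1 - β₂) * (β₁ - 1)) = (β₂ - β₂ * β₂) * (β₁ - 1) := by noncomm_ring
        _ = (β₂ - 1) * (β₁ - 1) := by rw [hb2]
        _ = -((1 - β₂) * (β₁ - 1)) := by noncomm_ring
  have : 2 * (β₁ - 1) = 0 := by
    have := congrArg₂ (· + ·) hp hm
    simp only [add_zero] at this
    rw [← this]; noncomm_ring
  have := h2 _ this
  exact sub_eq_zero.mp this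

theorem key_group {K : Type*} [Group K] (V : Subgroup K) [V.Normal]
    (hab : ∀ v ∈ V, ∀ w ∈ V, v * w = w * v) (h2 : ∀ v ∈ V, v * v = 1 → v = 1)
    (g b : K) (hg : g ^ 3 = 1) (hb : b * b = 1)
    (hcomm : b * (g * b * g⁻¹) = (g * b * g⁻¹) * b)
    (hprod : b * (g * b * g⁻¹) * (g * g * b * g⁻¹ * g⁻¹) = 1)
    (hT : ∀ v ∈ V, v * (g * v * g⁻¹) * (g * g * v * g⁻¹ * g⁻¹) = 1) :
    ∀ v ∈ V, b * v * b⁻¹ = v := by
  letI iC : CommGroup V :=
    { (inferInstance : Group V) with mul_comm := fun a b => Subtype.ext (hab a a.2 b b.2) }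
  let Φ : K →* AddMonoid.End (Additive V) :=
    { toFun := fun k => MonoidHom.toAdditive (MulAut.conjNormal k : MulAut V).toMonoidHom
      map_one' := by
        apply AddMonoidHom.ext; intro a
        simp only [map_one]
        rfl
      map_mul' := by
        intro k l
        apply AddMonoidHom.ext; intro a
        simp only [map_mul]
        rfl }
  have hΦ1 : ∀ (k : K) (a : Additive V), ((Φ k a).toMul : K) = k * (a.toMul : K) * k⁻¹ := by
    intro k a
    rfl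
  have hg3 : g * g * g = 1 := by rw [← hg, pow_succ, pow_two]
  have hginv : g⁻¹ * g⁻¹ = g := by
    calc g⁻¹ * g⁻¹ = g⁻¹ * g⁻¹ * (g * g * g) := by rw [hg3, mul_one]
      _ = g := by group
  -- relations in the group
  have r3 : g * g * b * g⁻¹ * g⁻¹ = b * (g * b * g⁻¹) := by
    have h1 : (b * (g * b * g⁻¹)) * (b * (g * b * g⁻¹)) = 1 := by
      calc (b * (g * b * g⁻¹)) * (b * (g * b * g⁻¹))
          = b * ((g * b * g⁻¹) * b) * (g * b * g⁻¹) := by group
        _ = b * (b * (g * b * g⁻¹)) * (g * b * g⁻¹) := by rw [hcomm]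
        _ = (b * b) * (g * (b * b) * g⁻¹) := by group
        _ = 1 := by rw [hb]; group
    calc g * g * b * g⁻¹ * g⁻¹ = (b * (g * b * g⁻¹))⁻¹ * (b * (g * b * g⁻¹) * (g * g * b * g⁻¹ * g⁻¹)) := by group
      _ = (b * (g * b * g⁻¹))⁻¹ := by rw [hprod, mul_one]
      _ = b * (g * b * g⁻¹) := inv_eq_of_mul_eq_one_left h1
  have hR := ring_key (R := AddMonoid.End (Additive V)) ?_ (Φ b) (Φ (g * b * g⁻¹))
    (Φ (g * g * b * g⁻¹ * g⁻¹)) (Φ g) ?_ ?_ ?_ ?_ ?_ ?_ ?_ ?_
  · intro v hv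
    have := congrArg (fun f : AddMonoid.End (Additive V) => ((f (Additive.ofMul ⟨v, hv⟩)).toMul : K)) hR
    simp only [hΦ1] at this
    exact this
  · -- 2 is injective
    intro r hr
    apply AddMonoidHom.ext; intro a
    have h1 : (2 * r) a = 0 := by rw [hr]; rfl
    have h3 : (2 * r) a = r a + r a := by
      rw [two_mul]; rfl
    rw [h3] at h1
    have h4 : ((r a).toMul : K) * ((r a).toMul : K) = 1 := by
      have := congrArg (fun x : Additive V => (x.toMul : K)) h1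
      exact this
    have h5 := h2 _ (r a).toMul.2 h4
    change r a = 0
    apply Additive.toMul.injective
    exact Subtype.ext h5
  · rw [← map_mul, hb, map_one]
  · rw [← map_mul]
    have : g * b * g⁻¹ * (g * b * g⁻¹) = 1 := by
      calc g * b * g⁻¹ * (g * b * g⁻¹) = g * (b * b) * g⁻¹ := by group
        _ = 1 := by rw [hb]; group
    rw [this, map_one]
  · rw [← map_mul, ← map_mul, hcomm]
  · rw [← map_mul, r3]
  · rw [← map_mul, ← map_mul, hg3, map_one]
  · rw [← map_mul, ← map_mul]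
    congr 1
    calc b * g = (g * g * g) * b * (g⁻¹ * g⁻¹) := by rw [hg3, hginv, one_mul]
      _ = g * (g * g * b * g⁻¹ * g⁻¹) := by group
  · rw [← map_mul, ← map_mul, ← map_mul]
    congr 1
    have hgg : g * g = g⁻¹ := by
      calc g * g = (g * g * g) * g⁻¹ := by group
        _ = g⁻¹ := by rw [hg3, one_mul]
    calc b * (g * g) = (g * g * g) * b * g⁻¹ := by rw [hg3, hgg, one_mul]
      _ = g * g * (g * b * g⁻¹) := by group
  · apply AddMonoidHom.ext; intro a
    change a + Φ g a + Φ g (Φ g a) = 0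
    apply Additive.toMul.injective
    apply Subtype.ext
    have := hT _ a.toMul.2
    change (a.toMul : K) * ((Φ g a).toMul : K) * ((Φ g (Φ g a)).toMul : K) = 1
    rw [hΦ1, hΦ1, hΦ1]
    rw [← this]; group

theorem key_group_mod {K : Type*} [Group K] (V N : Subgroup K) [V.Normal] [N.Normal]
    (hab : ∀ v ∈ V, ∀ w ∈ V, v * w * v⁻¹ * w⁻¹ ∈ N) (h2 : ∀ v ∈ V, v * v ∈ N → v ∈ N)
    (g b : K) (hg : g ^ 3 = 1) (hb : b * b = 1)
    (hcomm : b * (g * b * g⁻¹) = (g * b * g⁻¹) * b)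
    (hprod : b * (g * b * g⁻¹) * (g * g * b * g⁻¹ * g⁻¹) = 1)
    (hT : ∀ v ∈ V, v * (g * v * g⁻¹) * (g * g * v * g⁻¹ * g⁻¹) = 1) :
    ∀ v ∈ V, b * v * b⁻¹ * v⁻¹ ∈ N := by
  have hsurj := QuotientGroup.mk'_surjective N
  haveI : (V.map (QuotientGroup.mk' N)).Normal := Subgroup.Normal.map inferInstance _ hsurj
  have key := key_group (V.map (QuotientGroup.mk' N)) ?_ ?_ (QuotientGroup.mk' N g) (QuotientGroup.mk' N b)
    (by rw [← map_pow, hg, map_one]) (by rw [← map_mul, hb, map_one])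
    (by simp only [← map_mul, ← map_inv]; rw [hcomm])
    (by simp only [← map_mul, ← map_inv]; rw [hprod, map_one]) ?_
  · intro v hv
    have := key _ ⟨v, hv, rfl⟩
    simp only [← map_mul, ← map_inv] at this
    have h1 : QuotientGroup.mk' N (b * v * b⁻¹ * v⁻¹) = 1 := by
      rw [map_mul, this, map_inv, mul_inv_cancel]
    exact (QuotientGroup.eq_one_iff _).mp h1
  · rintro _ ⟨v, hv, rfl⟩ _ ⟨w, hw, rfl⟩
    have h1 : QuotientGroup.mk' N (v * w * v⁻¹ * w⁻¹) = 1 := (QuotientGroup.eq_one_iff _).mpr (hab v hv w hw)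
    simp only [map_mul, map_inv] at h1
    calc QuotientGroup.mk' N v * QuotientGroup.mk' N w
        = (QuotientGroup.mk' N v * QuotientGroup.mk' N w * (QuotientGroup.mk' N v)⁻¹ * (QuotientGroup.mk' N w)⁻¹) * (QuotientGroup.mk' N w * QuotientGroup.mk' N v) := by group
      _ = QuotientGroup.mk' N w * QuotientGroup.mk' N v := by rw [h1, one_mul]
  · rintro _ ⟨v, hv, rfl⟩ hvv
    rw [← map_mul] at hvv
    have := h2 v hv ((QuotientGroup.eq_one_iff _).mp hvv)
    exact (QuotientGroup.eq_one_iff _).mpr this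
  · rintro _ ⟨v, hv, rfl⟩
    simp only [← map_mul, ← map_inv]
    rw [hT v hv, map_one]

/-- an element killed by a power of three and by six is killed by three -/
theorem pow_three_eq_one {H : Type*} [Group H] (y : H) (h6 : y ^ 6 = 1) (k : ℕ) (hk : y ^ (3 ^ k) = 1) :
    y ^ 3 = 1 := by
  have h1 : orderOf y ∣ 6 := orderOf_dvd_of_pow_eq_one h6
  have h2 : orderOf y ∣ 3 ^ k := orderOf_dvd_of_pow_eq_one hk
  have h3 : orderOf y ∣ Nat.gcd 6 (3 ^ k) := Nat.dvd_gcd h1 h2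
  have h4 : Nat.gcd 6 (3 ^ k) ∣ 3 := by
    have : Nat.Coprime 2 (3 ^ k) := Nat.Coprime.pow_right k (by norm_num)
    have h5 : Nat.gcd (2 * 3) (3 ^ k) = Nat.gcd 3 (3 ^ k) := Nat.Coprime.gcd_mul_left_cancel 3 this
    rw [show (6 : ℕ) = 2 * 3 from rfl, h5]
    exact Nat.gcd_dvd_left _ _
  exact orderOf_dvd_iff_pow_eq_one.mp (h3.trans h4)

/-- an element killed by a power of two and by six is killed by two -/
theorem pow_two_eq_one {H : Type*} [Group H] (y : H) (h6 : y ^ 6 = 1) (k : ℕ) (hk : y ^ (2 ^ k) = 1) :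
    y ^ 2 = 1 := by
  have h1 : orderOf y ∣ 6 := orderOf_dvd_of_pow_eq_one h6
  have h2 : orderOf y ∣ 2 ^ k := orderOf_dvd_of_pow_eq_one hk
  have h3 : orderOf y ∣ Nat.gcd 6 (2 ^ k) := Nat.dvd_gcd h1 h2
  have h4 : Nat.gcd 6 (2 ^ k) ∣ 2 := by
    have : Nat.Coprime 3 (2 ^ k) := Nat.Coprime.pow_right k (by norm_num)
    have h5 : Nat.gcd (3 * 2) (2 ^ k) = Nat.gcd 2 (2 ^ k) := Nat.Coprime.gcd_mul_left_cancel 2 this
    rw [show (6 : ℕ) = 3 * 2 from rfl, h5]
    exact Nat.gcd_dvd_left _ _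
  exact orderOf_dvd_iff_pow_eq_one.mp (h3.trans h4)


theorem centralizes_of_A4 {H : Type*} [Group H] [Finite H] (h6 : ∀ x : H, x ^ 6 = 1)
    (P : Subgroup H) [P.Normal] (hP : IsPGroup 3 P) (g b : H) (hg : g ^ 3 = 1) (hb : b * b = 1)
    (hcomm : b * (g * b * g⁻¹) = (g * b * g⁻¹) * b)
    (hprod : b * (g * b * g⁻¹) * (g * g * b * g⁻¹ * g⁻¹) = 1) :
    ∀ v ∈ P, b * v * b⁻¹ = v := by
  haveI : Fact (Nat.Prime 3) := ⟨by norm_num⟩
  -- the trace identity
  have hT : ∀ v ∈ P, v * (g * v * g⁻¹) * (g * g * v * g⁻¹ * g⁻¹) = 1 := by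
    intro v hv
    have hgp : IsPGroup 3 (Subgroup.zpowers g) := by
      intro y
      obtain ⟨k, hk⟩ := Subgroup.mem_zpowers_iff.mp y.2
      refine ⟨1, Subtype.ext ?_⟩
      simp only [pow_one, Subgroup.coe_pow, Subgroup.coe_one]
      rw [← hk, ← zpow_natCast, ← zpow_mul, mul_comm, zpow_mul, zpow_natCast, hg, one_zpow]
    have hsup : IsPGroup 3 (P ⊔ Subgroup.zpowers g : Subgroup H) := hP.to_sup_of_normal_left hgp
    have hvg : v * g ∈ P ⊔ Subgroup.zpowers g :=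
      Subgroup.mul_mem_sup hv (Subgroup.mem_zpowers g)
    obtain ⟨k, hk⟩ := hsup ⟨v * g, hvg⟩
    have hk' : (v * g) ^ (3 ^ k) = 1 := congrArg Subtype.val hk
    have h3 := pow_three_eq_one (v * g) (h6 _) k hk'
    have hg3 : g * g * g = 1 := by rw [← hg, pow_succ, pow_two]
    calc v * (g * v * g⁻¹) * (g * g * v * g⁻¹ * g⁻¹)
        = (v * g) * (v * g) * (v * g) * (g * g * g)⁻¹ := by group
      _ = 1 := by rw [hg3, inv_one, mul_one, ← pow_two, ← pow_succ]; exact h3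
  -- induction on normal subgroups of `P`
  have main : ∀ (n : ℕ) (D : Subgroup H), D.Normal → D ≤ P → Nat.card D = n → ∀ v ∈ D, b * v * b⁻¹ = v := by
    intro n
    induction n using Nat.strong_induction_on with
    | _ n ih =>
    intro D hDn hDP hcard v hv
    haveI := hDn
    by_cases hD : D = ⊥
    · rw [hD, Subgroup.mem_bot] at hv; rw [hv]; group
    have hDp : IsPGroup 3 D := hP.to_le hDP
    set D' : Subgroup H := ⁅D, D⁆ with hD'
    haveI hD'n : D'.Normal := Subgroup.commutator_normal D D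
    have hD'le : D' ≤ D := Subgroup.commutator_le_left D D
    have hD'lt : D' < D := by
      refine lt_of_le_of_ne hD'le ?_
      intro heq
      haveI : Nontrivial D := (Subgroup.nontrivial_iff_ne_bot D).mpr hD
      haveI : Group.IsNilpotent D := hDp.isNilpotent
      have hlt := Group.IsSolvable.commutator_lt_top_of_nontrivial D
      have hmap : (commutator D).map D.subtype = D' := by
        rw [commutator_def, Subgroup.map_commutator, ← MonoidHom.range_eq_map, Subgroup.range_subtype]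
      have : (commutator D).map D.subtype = (⊤ : Subgroup D).map D.subtype := by
        rw [hmap, heq, ← MonoidHom.range_eq_map, Subgroup.range_subtype]
      exact hlt.ne (Subgroup.map_injective D.subtype_injective this)
    have hih : ∀ w ∈ D', b * w * b⁻¹ = w :=
      ih (Nat.card D') (hcard ▸ lt_of_le_of_ne (Subgroup.card_le_of_le hD'le) (fun h => hD'lt.ne (Subgroup.eq_of_le_of_card_ge hD'le h.ge))) D' hD'n (hD'le.trans hDP) rfl
    have hmod := key_group_mod D D'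
      (by
        intro x hx y hy
        have : x * y * x⁻¹ * y⁻¹ = ⁅x, y⁆ := by rw [commutatorElement_def]
        rw [this]; exact Subgroup.commutator_mem_commutator hx hy)
      (by
        intro x hx hxx
        obtain ⟨k, hk⟩ := hDp ⟨x, hx⟩
        have hk' : x ^ (3 ^ k) = 1 := congrArg Subtype.val hk
        -- x = (x*x)^((3^k+1)/2)
        have hodd : Odd (3 ^ k) := Odd.pow (by decide)
        obtain ⟨m, hm⟩ := hodd
        have : x = (x * x) ^ (m + 1) := by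
          rw [← pow_two, ← pow_mul, show 2 * (m + 1) = (2 * m + 1) + 1 by ring, ← hm, pow_succ, hk', one_mul]
        rw [this]; exact D'.pow_mem hxx _)
      g b hg hb hcomm hprod (fun x hx => hT x (hDP hx))
    -- stability
    have hn := hmod v hv
    set nn := b * v * b⁻¹ * v⁻¹ with hnn
    have hbn : b * nn * b⁻¹ = nn := hih nn hn
    have hbv : b * v * b⁻¹ = nn * v := by rw [hnn]; group
    have hbinv : b⁻¹ = b := by
      calc b⁻¹ = b⁻¹ * (b * b) := by rw [hb, mul_one]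
        _ = b := by group
    have h1 : v = nn * nn * v := by
      calc v = (b * b) * v * (b * b)⁻¹ := by rw [hb]; group
        _ = b * (b * v * b⁻¹) * b⁻¹ := by group
        _ = b * (nn * v) * b⁻¹ := by rw [hbv]
        _ = (b * nn * b⁻¹) * (b * v * b⁻¹) := by group
        _ = nn * (nn * v) := by rw [hbn, hbv]
        _ = nn * nn * v := by group
    have h2 : nn * nn = 1 := by
      have := congrArg (· * v⁻¹) h1
      simp only [mul_inv_cancel, mul_inv_cancel_right] at this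
      exact this.symm
    -- nn is a 3-element
    obtain ⟨k, hk⟩ := hDp ⟨nn, hD'le hn⟩
    have hk' : nn ^ (3 ^ k) = 1 := congrArg Subtype.val hk
    have hn1 : nn = 1 := by
      have hodd : Odd (3 ^ k) := Odd.pow (by decide)
      obtain ⟨m, hm⟩ := hodd
      have : nn = (nn * nn) ^ (m + 1) := by
        rw [← pow_two, ← pow_mul, show 2 * (m + 1) = (2 * m + 1) + 1 by ring, ← hm, pow_succ, hk', one_mul]
      rw [this, h2, one_pow]
    rw [hbv, hn1, one_mul]
  intro v hv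
  exact main (Nat.card P) P inferInstance le_rfl rfl v hv

theorem isSolvable_of_exp6 {H : Type*} [Group H] [Finite H] (h6 : ∀ x : H, x ^ 6 = 1) :
    Group.IsSolvable H := by
  have hprime : ∀ q : ℕ, q.Prime → q ∣ Nat.card H → q = 2 ∨ q = 3 := by
    intro q hq hd
    haveI : Fact q.Prime := ⟨hq⟩
    obtain ⟨x, hx⟩ := exists_prime_orderOf_dvd_card' q hd
    have h1 : q ∣ 6 := hx ▸ orderOf_dvd_of_pow_eq_one (h6 x)
    rcases (Nat.Prime.dvd_mul hq).mp (show q ∣ 2 * 3 from h1) with h | h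
    · left; exact (Nat.prime_dvd_prime_iff_eq hq Nat.prime_two).mp h
    · right; exact (Nat.prime_dvd_prime_iff_eq hq Nat.prime_three).mp h
  obtain ⟨n, hn⟩ : ∃ n, n = Nat.card H := ⟨_, rfl⟩
  have hn0 : n ≠ 0 := hn ▸ Nat.card_pos.ne'
  have h1 : ordProj[2] n * ordCompl[2] n = n := Nat.ordProj_mul_ordCompl_eq_self n 2
  have hm : ordCompl[2] n = 3 ^ (ordCompl[2] n).primeFactorsList.length := by
    apply Nat.eq_prime_pow_of_unique_prime_dvd
    · exact (Nat.ordCompl_pos 2 hn0).ne'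
    · intro q hq hd
      have hqn : q ∣ Nat.card H := hn ▸ hd.trans (Nat.ordCompl_dvd n 2)
      rcases hprime q hq hqn with h | h
      · exfalso; rw [h] at hd; exact Nat.not_dvd_ordCompl Nat.prime_two hn0 hd
      · exact h
  exact Cfsg.Agent.S0144.result 2 3 _ _ Nat.prime_two Nat.prime_three (by rw [← hn, ← hm]; exact h1.symm)

theorem comm_of_sq {K : Type*} [Group K] (A : Subgroup K) (h : ∀ y ∈ A, y * y = 1) :
    ∀ y ∈ A, ∀ z ∈ A, y * z = z * y := by
  intro y hy z hz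
  have hyi : y⁻¹ = y := inv_eq_of_mul_eq_one_left (h y hy)
  have hzi : z⁻¹ = z := inv_eq_of_mul_eq_one_left (h z hz)
  have h1 : (y * z)⁻¹ = y * z := inv_eq_of_mul_eq_one_left (h _ (A.mul_mem hy hz))
  calc y * z = (y * z)⁻¹ := h1.symm
    _ = z⁻¹ * y⁻¹ := mul_inv_rev y z
    _ = z * y := by rw [hyi, hzi]

theorem three_mem_pCore {H : Type u} [Group H] [Finite H] (h6 : ∀ x : H, x ^ 6 = 1)
    (h0 : Cfsg.pPrimeCore 3 H = ⊥) (x : H) (hx : x ^ 3 = 1) : x ∈ Cfsg.pCore 3 H := by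
  classical
  haveI : Fact (Nat.Prime 3) := ⟨Nat.prime_three⟩
  haveI : Fact (Nat.Prime 2) := ⟨Nat.prime_two⟩
  have hsol : Group.IsSolvable H := isSolvable_of_exp6 h6
  set P := Cfsg.pCore 3 H with hPdef
  haveI hPn : P.Normal := Cfsg.Agent.Lib.Helper24.pCore_normal' 3
  have hPp : IsPGroup 3 P := pCore_isPGroup' 3
  have hHH : Subgroup.centralizer (P : Set H) ≤ P :=
    centralizer_pCore_le_pCore 3
      (Cfsg.Agent.Lib.Helper25.isPSolvable_of_isSolvable' 3 Nat.prime_three hsol) h0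
  by_contra hxP
  have h6b : ∀ y : H ⧸ P, y ^ 6 = 1 := by
    intro y; obtain ⟨z, rfl⟩ := QuotientGroup.mk'_surjective P y
    rw [← map_pow, h6, map_one]
  have hsolb : Group.IsSolvable (H ⧸ P) := inferInstance
  have hO3b : Cfsg.pCore 3 (H ⧸ P) = ⊥ := by
    haveI hn : (Cfsg.pCore 3 (H ⧸ P)).Normal := Cfsg.Agent.Lib.Helper24.pCore_normal' 3
    have hD : IsPGroup 3 ((Cfsg.pCore 3 (H ⧸ P)).comap (QuotientGroup.mk' P)) :=
      IsPGroup.comap_of_ker_isPGroup (pCore_isPGroup' 3) (QuotientGroup.mk' P)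
        (by rw [QuotientGroup.ker_mk']; exact hPp)
    have hle := le_pCore' 3 _ (hn.comap (QuotientGroup.mk' P)) hD
    rw [eq_bot_iff]
    intro y hy
    obtain ⟨z, rfl⟩ := QuotientGroup.mk'_surjective P y
    have : z ∈ P := hle hy
    rw [Subgroup.mem_bot]; exact (QuotientGroup.eq_one_iff z).mpr this
  have hO2'b : Cfsg.pPrimeCore 2 (H ⧸ P) = ⊥ := by
    haveI hn : (Cfsg.pPrimeCore 2 (H ⧸ P)).Normal := Cfsg.Agent.Lib.Helper24.pPrimeCore_normal' 2
    have hcop := pPrimeCore_coprime (X := H ⧸ P) 2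
    have h3 : IsPGroup 3 (Cfsg.pPrimeCore 2 (H ⧸ P)) := by
      intro y
      refine ⟨1, ?_⟩
      have ho : orderOf y ∣ Nat.card (Cfsg.pPrimeCore 2 (H ⧸ P)) := orderOf_dvd_natCard y
      have hodd : (orderOf y).Coprime 2 := Nat.Coprime.coprime_dvd_left ho hcop
      have h6y : orderOf y ∣ 2 * 3 := by
        apply orderOf_dvd_of_pow_eq_one
        apply Subtype.ext; simp only [Subgroup.coe_pow, Subgroup.coe_one]; exact h6b y
      have := Nat.Coprime.dvd_of_dvd_mul_left hodd h6y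
      rw [pow_one]; exact orderOf_dvd_iff_pow_eq_one.mp this
    have := le_pCore' 3 _ hn h3
    rwa [hO3b, le_bot_iff] at this
  set F := Cfsg.pCore 2 (H ⧸ P) with hFdef
  haveI hFn : F.Normal := Cfsg.Agent.Lib.Helper24.pCore_normal' 2
  have hFp : IsPGroup 2 F := pCore_isPGroup' 2
  have hHH2 : Subgroup.centralizer (F : Set (H ⧸ P)) ≤ F :=
    centralizer_pCore_le_pCore 2
      (Cfsg.Agent.Lib.Helper25.isPSolvable_of_isSolvable' 2 Nat.prime_two hsolb) hO2'b
  have hFsq : ∀ y ∈ F, y * y = 1 := by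
    intro y hy
    obtain ⟨k, hk⟩ := hFp ⟨y, hy⟩
    have := pow_two_eq_one y (h6b y) k (congrArg Subtype.val hk)
    rwa [pow_two] at this
  have hFab := comm_of_sq F hFsq
  set Fh : Subgroup H := F.comap (QuotientGroup.mk' P) with hFh
  haveI hFhn : Fh.Normal := hFn.comap _
  obtain ⟨Q₂⟩ : Nonempty (Sylow 2 Fh) := inferInstance
  set S₂ : Subgroup H := (Q₂ : Subgroup Fh).map Fh.subtype with hS₂
  have hfrat : Subgroup.normalizer (S₂ : Set H) ⊔ Fh = ⊤ := Sylow.normalizer_sup_eq_top Q₂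
  have hS₂p : IsPGroup 2 S₂ := Q₂.isPGroup'.map _
  have hS₂sq : ∀ s ∈ S₂, s * s = 1 := by
    intro s hs
    obtain ⟨k, hk⟩ := hS₂p ⟨s, hs⟩
    have := pow_two_eq_one s (h6 s) k (congrArg Subtype.val hk)
    rwa [pow_two] at this
  have hS₂ab := comm_of_sq S₂ hS₂sq
  have hxtop : x ∈ Subgroup.normalizer (S₂ : Set H) ⊔ Fh := by rw [hfrat]; trivial
  obtain ⟨n, hn, f, hf, hnf⟩ := Subgroup.mem_sup_of_normal_right.mp hxtop
  obtain ⟨g, hgdef⟩ : ∃ g, g = n ^ 4 := ⟨_, rfl⟩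
  have hgN : g ∈ Subgroup.normalizer (S₂ : Set H) := hgdef ▸ Subgroup.pow_mem _ hn 4
  have hg3 : g ^ 3 = 1 := by
    rw [hgdef, ← pow_mul, show 4 * 3 = 6 * 2 from rfl, pow_mul, h6, one_pow]
  have hgx : x⁻¹ * g ∈ Fh := by
    rw [← QuotientGroup.eq (s := Fh)]
    have h1 : (QuotientGroup.mk' Fh n) = QuotientGroup.mk' Fh x := by
      have hf1 : QuotientGroup.mk' Fh f = 1 := (QuotientGroup.eq_one_iff f).mpr hf
      rw [← hnf, map_mul, hf1, mul_one]
    have h2 : QuotientGroup.mk' Fh g = QuotientGroup.mk' Fh x := by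
      rw [hgdef, map_pow, h1, ← map_pow]
      congr 1
      rw [show 4 = 3 + 1 from rfl, pow_succ, hx, one_mul]
    exact h2.symm
  have hgS : ∀ s ∈ S₂, g * s * g⁻¹ ∈ S₂ := fun s hs =>
    (Subgroup.mem_set_normalizer_iff.mp hgN s).mp hs
  have hex : ∃ a ∈ S₂, g * a * g⁻¹ ≠ a := by
    by_contra hcon
    push Not at hcon
    have hgc : QuotientGroup.mk' P g ∈ Subgroup.centralizer (F : Set (H ⧸ P)) := by
      rw [Subgroup.mem_centralizer_iff]
      intro fb hfb
      obtain ⟨f', rfl⟩ := QuotientGroup.mk'_surjective P fb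
      have hf'F : f' ∈ Fh := hfb
      have hsq : QuotientGroup.mk' P f' * QuotientGroup.mk' P f' = 1 := hFsq _ hfb
      have he2 : (f' ^ 3) ^ 2 = 1 := by rw [← pow_mul]; exact h6 f'
      have h2el : IsPGroup 2 (Subgroup.zpowers (⟨f' ^ 3, Fh.pow_mem hf'F 3⟩ : Fh)) := by
        intro y
        obtain ⟨k, hk⟩ := Subgroup.mem_zpowers_iff.mp y.2
        refine ⟨1, Subtype.ext ?_⟩
        simp only [pow_one, Subgroup.coe_pow, Subgroup.coe_one]
        rw [← hk, ← zpow_natCast, ← zpow_mul, mul_comm, zpow_mul, zpow_natCast]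
        have : (⟨f' ^ 3, Fh.pow_mem hf'F 3⟩ : Fh) ^ 2 = 1 := Subtype.ext he2
        rw [this, one_zpow]
      obtain ⟨Q', hQ'⟩ := h2el.exists_le_sylow
      obtain ⟨c, hc⟩ := MulAction.exists_smul_eq Fh Q' Q₂
      have hmem : (c : H) * f' ^ 3 * (c : H)⁻¹ ∈ S₂ := by
        have h1 : (⟨f' ^ 3, Fh.pow_mem hf'F 3⟩ : Fh) ∈ (Q' : Subgroup Fh) := hQ' (Subgroup.mem_zpowers _)
        have h2 : c * (⟨f' ^ 3, Fh.pow_mem hf'F 3⟩ : Fh) * c⁻¹ ∈ (Q₂ : Subgroup Fh) := by
          rw [← hc, Sylow.coe_subgroup_smul]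
          exact ⟨_, h1, by simp [MulAut.conj_apply]⟩
        exact ⟨_, h2, rfl⟩
      have hfix := hcon _ hmem
      have hπ := congrArg (QuotientGroup.mk' P) hfix
      simp only [map_mul, map_inv, map_pow] at hπ
      have hcF : QuotientGroup.mk' P (c : H) ∈ F := c.2
      have hcube : (QuotientGroup.mk' P f') ^ 3 = QuotientGroup.mk' P f' := by
        rw [show 3 = 2 + 1 from rfl, pow_succ, pow_two, hsq, one_mul]
      rw [hcube] at hπ
      have hcc : QuotientGroup.mk' P (c : H) * QuotientGroup.mk' P f' * (QuotientGroup.mk' P (c : H))⁻¹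
          = QuotientGroup.mk' P f' := by
        rw [hFab _ hcF _ hfb]; group
      rw [hcc] at hπ
      -- hπ : πg * πf' * πg⁻¹ = πf'
      calc QuotientGroup.mk' P f' * QuotientGroup.mk' P g
          = (QuotientGroup.mk' P g * QuotientGroup.mk' P f' * (QuotientGroup.mk' P g)⁻¹) * QuotientGroup.mk' P g := by rw [hπ]
        _ = QuotientGroup.mk' P g * QuotientGroup.mk' P f' := by group
    have hgF : QuotientGroup.mk' P g ∈ F := hHH2 hgc
    have hxF : QuotientGroup.mk' P x ∈ F := by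
      have h1 : QuotientGroup.mk' P (x⁻¹ * g) ∈ F := hgx
      have h2 : QuotientGroup.mk' P x = QuotientGroup.mk' P g * (QuotientGroup.mk' P (x⁻¹ * g))⁻¹ := by
        rw [← map_inv, ← map_mul]; congr 1; group
      rw [h2]; exact F.mul_mem hgF (F.inv_mem h1)
    have hx2 := hFsq _ hxF
    have hx3 : (QuotientGroup.mk' P x) ^ 3 = 1 := by rw [← map_pow, hx, map_one]
    have hx1 : QuotientGroup.mk' P x = 1 := by
      rw [show 3 = 2 + 1 from rfl, pow_succ, pow_two, hx2, one_mul] at hx3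
      exact hx3
    exact hxP ((QuotientGroup.eq_one_iff x).mp hx1)
  obtain ⟨a, haS, hag⟩ := hex
  have ha1 : g * a * g⁻¹ ∈ S₂ := hgS a haS
  have ha2 : g * (g * a * g⁻¹) * g⁻¹ ∈ S₂ := hgS _ ha1
  have hggg : g * g * g = 1 := by rw [← hg3, pow_succ, pow_two]
  obtain ⟨b, hbdef⟩ : ∃ b, b = a * (g * a * g⁻¹) := ⟨_, rfl⟩
  have hbS : b ∈ S₂ := hbdef ▸ S₂.mul_mem haS ha1
  have hb2 : b * b = 1 := hS₂sq b hbS
  have hgb : g * b * g⁻¹ = (g * a * g⁻¹) * (g * (g * a * g⁻¹) * g⁻¹) := by rw [hbdef]; group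
  have hgbS : g * b * g⁻¹ ∈ S₂ := hgS b hbS
  have hcomm : b * (g * b * g⁻¹) = (g * b * g⁻¹) * b := hS₂ab _ hbS _ hgbS
  have hggb : g * g * b * g⁻¹ * g⁻¹ = (g * (g * a * g⁻¹) * g⁻¹) * a := by
    rw [hbdef]
    calc g * g * (a * (g * a * g⁻¹)) * g⁻¹ * g⁻¹
        = (g * (g * a * g⁻¹) * g⁻¹) * ((g * g * g) * a * (g * g * g)⁻¹) := by group
      _ = (g * (g * a * g⁻¹) * g⁻¹) * a := by rw [hggg]; group
  have hprod : b * (g * b * g⁻¹) * (g * g * b * g⁻¹ * g⁻¹) = 1 := by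
    rw [hggb, hgb, hbdef]
    -- a a₁ a₁ a₂ a₂ a = 1
    have e1 := hS₂sq _ ha1
    have e2 := hS₂sq _ ha2
    have e0 := hS₂sq _ haS
    calc a * (g * a * g⁻¹) * ((g * a * g⁻¹) * (g * (g * a * g⁻¹) * g⁻¹)) * ((g * (g * a * g⁻¹) * g⁻¹) * a)
        = a * ((g * a * g⁻¹) * (g * a * g⁻¹)) * ((g * (g * a * g⁻¹) * g⁻¹) * (g * (g * a * g⁻¹) * g⁻¹)) * a := by group
      _ = 1 := by rw [e1, e2, mul_one, mul_one, e0]
  have hcent := centralizes_of_A4 h6 P hPp g b hg3 hb2 hcomm hprod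
  have hbC : b ∈ Subgroup.centralizer (P : Set H) := by
    rw [Subgroup.mem_centralizer_iff]
    intro v hv
    have := hcent v hv
    calc v * b = (b * v * b⁻¹) * b := by rw [this]
      _ = b * v := by group
  have hbP : b ∈ P := hHH hbC
  have hb1 : b = 1 := by
    obtain ⟨k, hk⟩ := hPp ⟨b, hbP⟩
    have hk' : b ^ (3 ^ k) = 1 := congrArg Subtype.val hk
    have hodd : Odd (3 ^ k) := Odd.pow (by decide)
    obtain ⟨m, hm⟩ := hodd
    rw [hm, pow_succ, pow_mul, pow_two, hb2, one_pow, one_mul] at hk'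
    exact hk'
  apply hag
  have h1 : a * (g * a * g⁻¹) = 1 := by rw [← hbdef]; exact hb1
  have h2 : g * a * g⁻¹ = a⁻¹ := (inv_eq_of_mul_eq_one_right h1).symm
  rw [h2]
  exact inv_eq_of_mul_eq_one_left (hS₂sq a haS)

theorem two_mem_pCore {H : Type u} [Group H] [Finite H] (h6 : ∀ x : H, x ^ 6 = 1)
    (h0 : Cfsg.pPrimeCore 2 H = ⊥) (x : H) (hx : x ^ 2 = 1) : x ∈ Cfsg.pCore 2 H := by
  haveI : Fact (Nat.Prime 2) := ⟨Nat.prime_two⟩
  have hsol : Group.IsSolvable H := isSolvable_of_exp6 h6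
  set P := Cfsg.pCore 2 H with hPdef
  haveI hPn : P.Normal := Cfsg.Agent.Lib.Helper24.pCore_normal' 2
  have hPp : IsPGroup 2 P := pCore_isPGroup' 2
  have hHH : Subgroup.centralizer (P : Set H) ≤ P :=
    centralizer_pCore_le_pCore 2
      (Cfsg.Agent.Lib.Helper25.isPSolvable_of_isSolvable' 2 Nat.prime_two hsol) h0
  apply hHH
  have hxp : IsPGroup 2 (Subgroup.zpowers x) := by
    intro y
    obtain ⟨k, hk⟩ := Subgroup.mem_zpowers_iff.mp y.2
    refine ⟨1, Subtype.ext ?_⟩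
    simp only [pow_one, Subgroup.coe_pow, Subgroup.coe_one]
    rw [← hk, ← zpow_natCast, ← zpow_mul, mul_comm, zpow_mul, zpow_natCast, hx, one_zpow]
  have hsup : IsPGroup 2 (P ⊔ Subgroup.zpowers x : Subgroup H) := hPp.to_sup_of_normal_left hxp
  have hsq : ∀ y ∈ (P ⊔ Subgroup.zpowers x : Subgroup H), y * y = 1 := by
    intro y hy
    obtain ⟨k, hk⟩ := hsup ⟨y, hy⟩
    have := pow_two_eq_one y (h6 y) k (congrArg Subtype.val hk)
    rwa [pow_two] at this
  have hab := comm_of_sq _ hsq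
  rw [Subgroup.mem_centralizer_iff]
  intro v hv
  exact hab v (Subgroup.mem_sup_left hv) x (Subgroup.mem_sup_right (Subgroup.mem_zpowers x))

theorem pLengthLE_one_of_coprime_index {G : Type u} [Group G] [Finite G] (p : ℕ)
    (h : ((Cfsg.pPrimePCore p G).index).Coprime p) : Cfsg.PLengthLE p 1 G := by
  unfold Cfsg.PLengthLE
  change (Cfsg.upperPSeries p G (2 + 1)).1 = ⊤
  rw [Cfsg.Agent.Lib.Helper9.upperPSeries_succ_of_even p (by decide : Even 2)]
  have key : ∀ (N : Subgroup G) [N.Normal], N = Cfsg.pPrimePCore p G →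
      (Cfsg.pPrimeCore p (G ⧸ N)).comap (QuotientGroup.mk' N) = ⊤ := by
    intro N _ hN
    subst hN
    have : Cfsg.pPrimeCore p (G ⧸ Cfsg.pPrimePCore p G) = ⊤ := by
      rw [eq_top_iff]
      apply le_pPrimeCore p ⊤ inferInstance
      rw [Subgroup.card_top, ← Subgroup.index_eq_card]; exact h
    rw [this, Subgroup.comap_top]
  exact key _ (Cfsg.Agent.Lib.Helper9.upperPSeries_two p)

theorem exp6_result {G : Type u} [Group G] [Finite G] (h : ∀ x : G, x ^ 6 = 1) :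
    Cfsg.PLengthLE 2 1 G ∧ Cfsg.PLengthLE 3 1 G := by
  haveI : Fact (Nat.Prime 3) := ⟨Nat.prime_three⟩
  haveI : Fact (Nat.Prime 2) := ⟨Nat.prime_two⟩
  constructor
  · apply pLengthLE_one_of_coprime_index
    haveI := Cfsg.Agent.Lib.Helper24.pPrimeCore_normal' (G := G) 2
    have h0 := Cfsg.Agent.Lib.Helper24.pPrimeCore_quotient_eq_bot' (G := G) 2
    have h6b : ∀ y : G ⧸ Cfsg.pPrimeCore 2 G, y ^ 6 = 1 := by
      intro y; obtain ⟨z, rfl⟩ := QuotientGroup.mk'_surjective _ y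
      rw [← map_pow, h, map_one]
    unfold Cfsg.pPrimePCore
    rw [Subgroup.index_comap_of_surjective _ (QuotientGroup.mk'_surjective _)]
    obtain ⟨S⟩ : Nonempty (Sylow 2 (G ⧸ Cfsg.pPrimeCore 2 G)) := inferInstance
    have hle : (S : Subgroup (G ⧸ Cfsg.pPrimeCore 2 G)) ≤ Cfsg.pCore 2 (G ⧸ Cfsg.pPrimeCore 2 G) := by
      intro y hy
      obtain ⟨k, hk⟩ := S.isPGroup' ⟨y, hy⟩
      exact two_mem_pCore h6b h0 y (pow_two_eq_one y (h6b y) k (congrArg Subtype.val hk))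
    have hdvd := Subgroup.index_dvd_of_le hle
    exact Nat.Coprime.coprime_dvd_left hdvd
      ((Nat.Prime.coprime_iff_not_dvd Nat.prime_two).mpr S.not_dvd_index).symm
  · apply pLengthLE_one_of_coprime_index
    haveI := Cfsg.Agent.Lib.Helper24.pPrimeCore_normal' (G := G) 3
    have h0 := Cfsg.Agent.Lib.Helper24.pPrimeCore_quotient_eq_bot' (G := G) 3
    have h6b : ∀ y : G ⧸ Cfsg.pPrimeCore 3 G, y ^ 6 = 1 := by
      intro y; obtain ⟨z, rfl⟩ := QuotientGroup.mk'_surjective _ y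
      rw [← map_pow, h, map_one]
    unfold Cfsg.pPrimePCore
    rw [Subgroup.index_comap_of_surjective _ (QuotientGroup.mk'_surjective _)]
    obtain ⟨S⟩ : Nonempty (Sylow 3 (G ⧸ Cfsg.pPrimeCore 3 G)) := inferInstance
    have hle : (S : Subgroup (G ⧸ Cfsg.pPrimeCore 3 G)) ≤ Cfsg.pCore 3 (G ⧸ Cfsg.pPrimeCore 3 G) := by
      intro y hy
      obtain ⟨k, hk⟩ := S.isPGroup' ⟨y, hy⟩
      exact three_mem_pCore h6b h0 y (pow_three_eq_one y (h6b y) k (congrArg Subtype.val hk))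
    have hdvd := Subgroup.index_dvd_of_le hle
    exact Nat.Coprime.coprime_dvd_left hdvd
      ((Nat.Prime.coprime_iff_not_dvd Nat.prime_three).mpr S.not_dvd_index).symm

/-- A finite group in which every element has order dividing `6` has `2`-length at most `1` and `3`-length at most `1`. -/
theorem result {G : Type*} [Group G] [Finite G] (h : ∀ x : G, x ^ 6 = 1) : Cfsg.PLengthLE 2 1 G ∧ Cfsg.PLengthLE 3 1 G := by
  exact exp6_result h

end Cfsg.Agent.S4227
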