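import Cfsg.Statements.S4230
import Mathlib
-- import your own Cfsg.Agent.* helpers here


set_option autoImplicit false
open Cfsg

namespace Cfsg.Agent.S4230


theorem cyclo_aux (p : ℕ) [Fact p.Prime] (m j : ℕ) (hm : ¬ p ∣ m) (x : ZMod p) :
    (Polynomial.cyclotomic (p ^ j * m) (ZMod p)).eval x = 0 ↔ orderOf x = m := by
  have hm0 : m ≠ 0 := fun h => hm (h ▸ dvd_zero p)
  have hne : NeZero ((m : ℕ) : ZMod p) := ⟨by
    intro h
    exact hm ((ZMod.natCast_eq_zero_iff m p).1 h)⟩
  have base : (Polynomial.cyclotomic m (ZMod p)).eval x = 0 ↔ orderOf x = m := by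
    have h1 : (Polynomial.cyclotomic m (ZMod p)).eval x = 0 ↔
        (Polynomial.cyclotomic m (ZMod p)).IsRoot x := Iff.rfl
    rw [h1, Polynomial.isRoot_cyclotomic_iff]
    constructor
    · intro h; exact h.eq_orderOf.symm
    · intro h; rw [← h]; exact IsPrimitiveRoot.orderOf x
  rcases Nat.eq_zero_or_pos j with rfl | hj
  · simpa using base
  · rw [Polynomial.cyclotomic_mul_prime_pow_eq (ZMod p) hm hj, Polynomial.eval_pow,
      pow_eq_zero_iff, base]
    have : p ^ (j - 1) < p ^ j :=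
      Nat.pow_lt_pow_right (Fact.out : p.Prime).one_lt (Nat.sub_lt hj Nat.one_pos)
    omega

/-- Let p be an odd prime, q a natural number not divisible by p, and e the multiplicative order of q modulo p. For a natural number f, p divides the value at q of the f-th cyclotomic polynomial if and only if f = e·p^j for some j ≥ 0. -/
theorem result (p q f : ℕ) (hp : p.Prime) (hp2 : p ≠ 2) (hpq : ¬ p ∣ q) :
    ((p : ℤ) ∣ (Polynomial.cyclotomic f ℤ).eval (q : ℤ)) ↔ ∃ j : ℕ, f = orderOf (q : ZMod p) * p ^ j := by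
  haveI : Fact p.Prime := ⟨hp⟩
  have hx0 : (q : ZMod p) ≠ 0 := fun h => hpq ((ZMod.natCast_eq_zero_iff q p).1 h)
  have key : ((p : ℤ) ∣ (Polynomial.cyclotomic f ℤ).eval (q : ℤ)) ↔
      (Polynomial.cyclotomic f (ZMod p)).eval (q : ZMod p) = 0 := by
    rw [← Polynomial.map_cyclotomic_int f (ZMod p)]
    have := Polynomial.eval_intCast_map (Int.castRingHom (ZMod p)) (Polynomial.cyclotomic f ℤ) (q : ℤ)
    rw [Int.cast_natCast] at this
    rw [this, eq_intCast, ZMod.intCast_zmod_eq_zero_iff_dvd]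
    simp
  rw [key]
  constructor
  · intro h
    have hf0 : f ≠ 0 := by
      rintro rfl
      simp at h
    obtain ⟨j, m, hm, hfm⟩ := Nat.exists_eq_pow_mul_and_not_dvd hf0 p hp.ne_one
    rw [hfm, cyclo_aux p m j hm] at h
    exact ⟨j, by rw [h, hfm, mul_comm]⟩
  · rintro ⟨j, rfl⟩
    have he : ¬ p ∣ orderOf (q : ZMod p) := by
      intro hd
      have h1 : orderOf (q : ZMod p) ∣ p - 1 := ZMod.orderOf_dvd_card_sub_one hx0
      have h2 : p ∣ p - 1 := hd.trans h1
      have h3 : p ≤ p - 1 := Nat.le_of_dvd (Nat.sub_pos_of_lt hp.one_lt) h2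
      have := hp.one_lt
      omega
    rw [mul_comm, cyclo_aux p _ j he]

end Cfsg.Agent.S4230
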