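import Cfsg.Statements.S4236
-- import your own Cfsg.Agent.* helpers here
import Cfsg.Agent.Lib.Helper22.SylowTwoP

set_option autoImplicit false
open Cfsg

namespace Cfsg.Agent.S4236

/-- No finite group has exactly 35 Sylow 17-subgroups. -/
theorem result {G : Type*} [Group G] [Finite G] : Nat.card (Sylow 17 G) ≠ 35 := by
  intro h
  haveI : Fact (Nat.Prime 17) := ⟨by norm_num⟩
  haveI : Fact (Nat.Prime 5) := ⟨by norm_num⟩
  obtain ⟨H, _, _, e, he, hodd, hcardH, hB⟩ :=
    Cfsg.Agent.Lib.Helper22.SylowTwoP.exists_reduced_card (p := 17) (by norm_num) (G := G)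
      (by rw [h])
  have hle : e ≤ 16 := Nat.le_of_dvd (by norm_num) he
  have he1 : e = 1 := by
    rw [hcardH] at hodd
    have hoe : Odd e := (Nat.odd_mul.mp (Nat.odd_mul.mp hodd).2).2
    interval_cases e <;> first | rfl | (exfalso; revert hoe; decide) | (exfalso; revert he; decide)
  subst he1
  obtain ⟨Y, hYn, hYi⟩ :=
    Cfsg.Agent.Lib.Helper22.SylowTwoP.exists_normal_index_prime (G := H) 5
      (by rw [hcardH]; norm_num) (by rw [hcardH]; norm_num) (by rw [hcardH]; norm_num)
  have htop := hB Y hYn (by rw [hYi]; norm_num)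
  rw [htop, Subgroup.index_top] at hYi
  norm_num at hYi

end Cfsg.Agent.S4236
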