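import Cfsg.Statements.S4237
import Cfsg.Agent.Lib.Helper11.Wielandt
import Cfsg.Agent.Lib.Helper23.KulakoffA
import Cfsg.Agent.Lib.Helper23.KulakoffB2
import Cfsg.Agent.Lib.Helper23.KulakoffF

set_option autoImplicit false
open Cfsg

namespace Cfsg.Agent.S4237



/-- Let G be a finite group, p a prime and a a natural number such that p^(a+1) divides the order of G. Then the number of subgroups of G of order p^a is congruent to 1 or to 1 + p modulo p². -/
theorem result {G : Type*} [Group G] [Finite G] (p a : ℕ) (hp : p.Prime) (hdvd : p ^ (a + 1) ∣ Nat.card G) :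
    Nat.card {H : Subgroup G // Nat.card H = p ^ a} ≡ 1 [MOD p ^ 2] ∨
      Nat.card {H : Subgroup G // Nat.card H = p ^ a} ≡ 1 + p [MOD p ^ 2] := by
  classical
  have hdvd' : p ^ a ∣ Nat.card G := (pow_dvd_pow p (Nat.le_succ a)).trans hdvd
  have h1 := Cfsg.Agent.Lib.Helper11.card_subgroups_pow_prime_modEq_one (G := G) p a hp hdvd'
  by_cases hp2 : p = 2
  · subst hp2
    unfold Nat.ModEq at h1 ⊢
    norm_num at h1 ⊢
    omega
  · haveI : Fact p.Prime := ⟨hp⟩
    rcases Nat.eq_zero_or_pos a with ha0 | ha0
    · subst ha0
      left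
      have : Nat.card {H : Subgroup G // Nat.card H = p ^ 0} = 1 := by
        rw [Nat.card_eq_one_iff_unique]
        constructor
        · constructor
          intro H H'
          apply Subtype.ext
          have h2 : H.1 = ⊥ := Subgroup.card_eq_one.mp (H.2.trans (pow_zero p))
          have h3 : H'.1 = ⊥ := Subgroup.card_eq_one.mp (H'.2.trans (pow_zero p))
          rw [h2, h3]
        · exact ⟨⟨⊥, by rw [pow_zero, Subgroup.card_bot]⟩⟩
      rw [this]
    · obtain ⟨P⟩ : Nonempty (Sylow p G) := inferInstance
      have hG0 : Nat.card G ≠ 0 := Nat.card_pos.ne'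
      set n := (Nat.card G).factorization p with hn
      have hPc : Nat.card (P : Subgroup G) = p ^ n := P.card_eq_multiplicity
      have hsyl : ∀ (R : Subgroup G) (k : ℕ), Nat.card R = p ^ k → k ≤ n := by
        intro R k hk
        have : p ^ k ∣ Nat.card G := hk ▸ R.card_subgroup_dvd_card
        exact (hp.pow_dvd_iff_le_factorization hG0).mp this
      have han : a < n := by
        have := (hp.pow_dvd_iff_le_factorization hG0).mp hdvd
        omega
      have hred := Cfsg.Agent.Lib.Helper23.Kulakoff.sylow_reduction hp hsyl hPc han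
      rw [← Nat.card_congr (Cfsg.Agent.Lib.Helper23.Kulakoff.relEquiv (P : Subgroup G) (p ^ a))]
        at hred
      by_cases hcyc : IsCyclic (P : Subgroup G)
      · left
        have hc1 : Nat.card {H' : Subgroup (P : Subgroup G) // Nat.card H' = p ^ a} = 1 :=
          Cfsg.Agent.Lib.Helper23.Kulakoff.card_subgroups_cyclic p a hp
            (by rw [hPc]; exact pow_dvd_pow p han.le)
        rw [hc1] at hred
        exact hred
      · right
        exact hred.trans (Cfsg.Agent.Lib.Helper23.Kulakoff.kulakoff_odd hp hp2 n
          (P : Subgroup G) hPc hcyc a ha0 han)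

end Cfsg.Agent.S4237
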