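import Cfsg.Statements.S4238
-- import your own Cfsg.Agent.* helpers here
import Mathlib
import Cfsg.Agent.S0132
import Cfsg.Agent.Lib.Helper12.Cores
import Cfsg.Agent.Lib.Helper12.PNilpotent
import Cfsg.Agent.Lib.Helper12.PComplement
import Cfsg.Agent.Lib.Helper24.PSolvable
import Cfsg.Agent.Lib.Helper23.SylowCount
import Cfsg.Agent.Lib.Helper4.Schmidt4

set_option autoImplicit false
open Cfsg

namespace Cfsg.Agent.S4238

open Cfsg.Agent.Lib.Helper12

universe u

/-- `Y` is (isomorphic to) a section of `X`. -/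
def IsSec (Y : Type u) [Group Y] (X : Type u) [Group X] : Prop :=
  ∃ (H : Subgroup X) (f : H →* Y), Function.Surjective f

theorem IsSec.refl (X : Type u) [Group X] : IsSec X X :=
  ⟨⊤, (Subgroup.topEquiv : (⊤ : Subgroup X) ≃* X).toMonoidHom, (Subgroup.topEquiv : (⊤ : Subgroup X) ≃* X).surjective⟩

theorem IsSec.subgroup {X : Type u} [Group X] (H : Subgroup X) : IsSec H X :=
  ⟨H, MonoidHom.id H, Function.surjective_id⟩

theorem IsSec.quotient {X : Type u} [Group X] (N : Subgroup X) [N.Normal] : IsSec (X ⧸ N) X :=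
  ⟨⊤, (QuotientGroup.mk' N).comp (⊤ : Subgroup X).subtype, fun y => by
    obtain ⟨x, rfl⟩ := QuotientGroup.mk'_surjective N y
    exact ⟨⟨x, Subgroup.mem_top x⟩, rfl⟩⟩

theorem IsSec.trans {Z Y X : Type u} [Group Z] [Group Y] [Group X] (h1 : IsSec Z Y) (h2 : IsSec Y X) :
    IsSec Z X := by
  obtain ⟨H', f', hf'⟩ := h1
  obtain ⟨H, f, hf⟩ := h2
  refine ⟨(H'.comap f).map H.subtype,
    (f'.comp (f.subgroupComap H')).comp
      (Subgroup.equivMapOfInjective (H'.comap f) H.subtype H.subtype_injective).symm.toMonoidHom, ?_⟩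
  have h1 : Function.Surjective (f'.comp (f.subgroupComap H')) :=
    hf'.comp (f.subgroupComap_surjective_of_surjective H' hf)
  exact h1.comp (Subgroup.equivMapOfInjective (H'.comap f) H.subtype H.subtype_injective).symm.surjective

/-- the section criterion, stated for abstract sections -/
def Good (p : ℕ) (X : Type u) [Group X] : Prop :=
  ∀ (Y : Type u) [Group Y], IsSec Y X → Cfsg.pPrimeCore p Y = ⊥ →
    ∃ k : Y, orderOf k = Monoid.exponent Y

theorem Good.of_isSec {p : ℕ} {X' X : Type u} [Group X'] [Group X] (h : Good p X) (hs : IsSec X' X) :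
    Good p X' := fun Y _ hY => h Y (hY.trans hs)

/-- a `p`-nilpotent group with trivial `O_{p'}` is a `p`-group -/
theorem isPGroup_of_hasNormalPComplement {p : ℕ} [Fact p.Prime] {M : Type u} [Group M] [Finite M]
    (h : Cfsg.HasNormalPComplement p M) (h0 : Cfsg.pPrimeCore p M = ⊥) : IsPGroup p M := by
  obtain ⟨P', N', hN'n, hN'⟩ := h
  have hcop := coprime_card_of_isComplement' P' N' hN'
  have hle : N' ≤ Cfsg.pPrimeCore p M := le_pPrimeCore p N' hN'n hcop
  rw [h0, le_bot_iff] at hle
  rw [hle, Subgroup.isComplement'_bot_left] at hN'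
  have := P'.isPGroup'
  rw [hN'] at this
  exact IsPGroup.of_equiv this Subgroup.topEquiv

/-- a `p`-nilpotent normal subgroup of a group with trivial `O_{p'}` is a `p`-group -/
theorem isPGroup_of_normal {p : ℕ} [Fact p.Prime] {X : Type u} [Group X] [Finite X]
    (h0 : Cfsg.pPrimeCore p X = ⊥) (M : Subgroup X) [M.Normal] (hM : Cfsg.HasNormalPComplement p M) :
    IsPGroup p M := by
  apply isPGroup_of_hasNormalPComplement hM
  haveI : (Cfsg.pPrimeCore p M).Characteristic := pPrimeCore_characteristic p
  have hn : ((Cfsg.pPrimeCore p M).map M.subtype).Normal := ConjAct.normal_of_characteristic_of_normal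
  have hc : (Nat.card ((Cfsg.pPrimeCore p M).map M.subtype)).Coprime p := by
    rw [Subgroup.card_map_of_injective M.subtype_injective]
    exact pPrimeCore_coprime p
  have hle := le_pPrimeCore p _ hn hc
  rw [h0, le_bot_iff] at hle
  exact (Subgroup.map_eq_bot_iff_of_injective _ M.subtype_injective).mp hle

/-- a group with a central Sylow `p`-subgroup is `p`-nilpotent (Burnside) -/
theorem hasNormalPComplement_of_central {p : ℕ} [Fact p.Prime] {X : Type u} [Group X] [Finite X]
    (P : Sylow p X) (hP : ∀ x ∈ (P : Subgroup X), ∀ c : X, c * x = x * c) :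
    Cfsg.HasNormalPComplement p X := by
  have hNC : Subgroup.normalizer (P : Set X) ≤ Subgroup.centralizer (P : Set X) := by
    intro c _
    rw [Subgroup.mem_centralizer_iff]
    intro x hx
    exact (hP x hx c).symm
  exact ⟨P, _, inferInstance, MonoidHom.ker_transferSylow_isComplement' P hNC⟩

theorem main (p : ℕ) [Fact p.Prime] : ∀ (n : ℕ) (X : Type u) [Group X] [Finite X],
    Nat.card X = n → Good p X → Cfsg.HasNormalPComplement p X := by
  intro n
  induction n using Nat.strong_induction_on with
  | _ n ih =>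
  intro X _ _ hn hgood
  by_contra hnot
  have hp : p.Prime := Fact.out
  -- proper subgroups
  have hsub : ∀ H : Subgroup X, H ≠ ⊤ → Cfsg.HasNormalPComplement p H := by
    intro H hH
    apply ih (Nat.card H) _ H rfl (hgood.of_isSec (IsSec.subgroup H))
    rw [← hn]
    exact lt_of_le_of_ne (Subgroup.card_le_card_group H) (mt (Subgroup.card_eq_iff_eq_top H).mp hH)
  -- proper quotients
  have hquot : ∀ (N : Subgroup X) [N.Normal], N ≠ ⊥ → Cfsg.HasNormalPComplement p (X ⧸ N) := by
    intro N _ hN
    apply ih (Nat.card (X ⧸ N)) _ (X ⧸ N) rfl (hgood.of_isSec (IsSec.quotient N))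
    rw [← hn, Subgroup.card_eq_card_quotient_mul_card_subgroup N]
    have h1 : 1 < Nat.card N := by
      rw [Subgroup.one_lt_card_iff_ne_bot]; exact hN
    have h2 : 0 < Nat.card (X ⧸ N) := Nat.card_pos
    nlinarith
  obtain ⟨hnil, -, hPn⟩ := Cfsg.Agent.S0132.result hnot hsub
  -- O_{p'}(X) = 1
  have h0 : Cfsg.pPrimeCore p X = ⊥ := by
    by_contra h
    haveI := Cfsg.Agent.Lib.Helper24.pPrimeCore_normal' (G := X) p
    exact hnot (hasNormalPComplement_of_quotient (Cfsg.pPrimeCore p X) (pPrimeCore_coprime p) (hquot _ h))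
  obtain ⟨g, hg⟩ := hgood X (IsSec.refl X) h0
  obtain ⟨P⟩ : Nonempty (Sylow p X) := inferInstance
  haveI hPnorm : (P : Subgroup X).Normal := hPn P
  have hnp : ¬ IsPGroup p X := fun h => hnot (hasNormalPComplement_of_isPGroup h)
  have hpdvd : p ∣ Nat.card X := by
    by_contra h
    exact hnot (hasNormalPComplement_of_coprime_card ((Nat.Prime.coprime_iff_not_dvd hp).mpr h).symm)
  obtain ⟨r, hr, hrX, hrp⟩ : ∃ r, r.Prime ∧ r ∣ Nat.card X ∧ r ≠ p := by
    by_contra hcon
    push Not at hcon
    apply hnp
    have : Nat.card X = p ^ (Nat.card X).primeFactorsList.length :=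
      Nat.eq_prime_pow_of_unique_prime_dvd Nat.card_pos.ne' (fun {q} hq hqd => hcon q hq hqd)
    exact IsPGroup.of_card this
  -- every nontrivial normal subgroup inside `P` is `P`
  have hQ : ∀ N : Subgroup X, N.Normal → N ≠ ⊥ → N ≤ (P : Subgroup X) → (P : Subgroup X) ≤ N := by
    intro N hNn hN0 hNP
    haveI := hNn
    obtain ⟨Pb, Mb, hMbn, hMb⟩ := hquot N hN0
    set M : Subgroup X := Mb.comap (QuotientGroup.mk' N) with hM
    haveI hMn : M.Normal := hMbn.comap _
    have hc := coprime_card_of_isComplement' Pb Mb hMb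
    by_cases hMtop : M = ⊤
    · have hMbtop : Mb = ⊤ := by
        rw [eq_top_iff]; intro y _
        obtain ⟨x, rfl⟩ := QuotientGroup.mk'_surjective N y
        have : x ∈ M := by rw [hMtop]; trivial
        exact this
      apply Cfsg.Agent.Lib.Helper23.sylow_le_of_normal_of_not_dvd_index p N _ P
      rw [hMbtop, Nat.card_congr Subgroup.topEquiv.toEquiv, ← Subgroup.index_eq_card] at hc
      exact fun hd => (Nat.Prime.coprime_iff_not_dvd hp).mp hc.symm hd
    · exfalso
      have hMp : IsPGroup p M := isPGroup_of_normal h0 M (hsub M hMtop)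
      have hMbp : IsPGroup p Mb := by
        have : Mb = M.map (QuotientGroup.mk' N) := by
          rw [hM, Subgroup.map_comap_eq_self_of_surjective (QuotientGroup.mk'_surjective N)]
        rw [this]; exact hMp.map _
      have hMb1 : Mb = ⊥ := by
        obtain ⟨k, hk⟩ := IsPGroup.iff_card.mp hMbp
        rw [hk] at hc
        rcases Nat.eq_zero_or_pos k with h | h
        · rw [h, pow_zero] at hk; exact Subgroup.card_eq_one.mp hk
        · exfalso
          have h2 : p.Coprime p := Nat.Coprime.coprime_dvd_left (dvd_pow_self p h.ne') hc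
          rw [Nat.coprime_self] at h2; exact hp.one_lt.ne' h2
      rw [hMb1, Subgroup.isComplement'_bot_left] at hMb
      have hq : IsPGroup p (X ⧸ N) := by
        have := Pb.isPGroup'; rw [hMb] at this; exact IsPGroup.of_equiv this Subgroup.topEquiv
      apply hnp
      have hNp : IsPGroup p N := P.isPGroup'.to_le hNP
      have := IsPGroup.comap_of_ker_isPGroup (p := p) (H := (⊤ : Subgroup (X ⧸ N)))
        (IsPGroup.of_equiv hq Subgroup.topEquiv.symm) (QuotientGroup.mk' N)
        (by rw [QuotientGroup.ker_mk']; exact hNp)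
      rw [Subgroup.comap_top] at this
      exact IsPGroup.of_equiv this Subgroup.topEquiv
  have hPne : (P : Subgroup X) ≠ ⊥ := Sylow.ne_bot_of_dvd_card P hpdvd
  -- P is abelian
  have hPab : ∀ x ∈ (P : Subgroup X), ∀ y ∈ (P : Subgroup X), x * y = y * x := by
    haveI : Nontrivial (P : Subgroup X) := (Subgroup.nontrivial_iff_ne_bot _).mpr hPne
    have hZne : Subgroup.center (P : Subgroup X) ≠ ⊥ := by
      have := IsPGroup.center_nontrivial P.isPGroup'
      exact (Subgroup.nontrivial_iff_ne_bot _).mp this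
    have hZn : ((Subgroup.center (P : Subgroup X)).map (P : Subgroup X).subtype).Normal :=
      ConjAct.normal_of_characteristic_of_normal
    have hle := hQ _ hZn
      (by rwa [Ne, Subgroup.map_eq_bot_iff_of_injective _ (Subgroup.subtype_injective _)])
      (by rintro _ ⟨z, -, rfl⟩; exact z.2)
    intro x hx y hy
    obtain ⟨z, hz, hzx⟩ := hle hx
    have := Subgroup.mem_center_iff.mp hz ⟨y, hy⟩
    have h2 := congrArg Subtype.val this
    simp only [Subgroup.coe_mul] at h2
    have hzx' : (z : X) = x := hzx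
    rw [hzx'] at h2
    exact h2.symm
  -- the elements `u` and `t`
  have hgn : orderOf g ≠ 0 := (orderOf_pos g).ne'
  have hpg : p ∣ orderOf g := by
    obtain ⟨x, hx⟩ := exists_prime_orderOf_dvd_card' p hpdvd
    rw [hg, ← hx]; exact Monoid.order_dvd_exponent x
  haveI : Fact r.Prime := ⟨hr⟩
  have hrg : r ∣ orderOf g := by
    obtain ⟨x, hx⟩ := exists_prime_orderOf_dvd_card' r hrX
    rw [hg, ← hx]; exact Monoid.order_dvd_exponent x
  obtain ⟨u, hu⟩ : ∃ u, u = g ^ (orderOf g / p) := ⟨_, rfl⟩
  obtain ⟨t, ht⟩ : ∃ t, t = g ^ (orderOf g / r) := ⟨_, rfl⟩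
  have hou : orderOf u = p := by rw [hu]; exact orderOf_pow_orderOf_div hgn hpg
  have hot : orderOf t = r := by rw [ht]; exact orderOf_pow_orderOf_div hgn hrg
  have hut : u * t = t * u := by rw [hu, ht, ← pow_add, ← pow_add, add_comm]
  have huP : u ∈ (P : Subgroup X) := by
    have hzp : IsPGroup p (Subgroup.zpowers u) :=
      IsPGroup.of_card (n := 1) (by rw [Nat.card_zpowers, hou, pow_one])
    obtain ⟨Q, hQ'⟩ := hzp.exists_le_sylow
    obtain ⟨x, hx⟩ := MulAction.exists_smul_eq X P Q
    rw [Sylow.smul_eq_of_normal] at hx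
    rw [hx]
    exact hQ' (Subgroup.mem_zpowers u)
  have hu1 : u ≠ 1 := by
    intro h; rw [h, orderOf_one] at hou; exact hp.one_lt.ne hou
  by_cases hL : Subgroup.centralizer ({u} : Set X) = ⊤
  · have hucen : ∀ c : X, Commute c u := fun c => by
      have : c ∈ Subgroup.centralizer ({u} : Set X) := by rw [hL]; trivial
      exact (Subgroup.mem_centralizer_iff.mp this u rfl).symm
    have hzn : (Subgroup.zpowers u).Normal := ⟨fun y hy c => by
      obtain ⟨k, rfl⟩ := Subgroup.mem_zpowers_iff.mp hy
      have : c * u ^ k * c⁻¹ = u ^ k := by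
        rw [((hucen c).zpow_right k).eq]; group
      rw [this]; exact Subgroup.zpow_mem_zpowers u k⟩
    have hle := hQ _ hzn (by simpa using hu1) (by rwa [Subgroup.zpowers_le])
    apply hnot
    apply hasNormalPComplement_of_central P
    intro x hx c
    obtain ⟨k, rfl⟩ := Subgroup.mem_zpowers_iff.mp (hle hx)
    exact ((hucen c).zpow_right k).eq
  · have hLnil := hnil _ hL
    have hPL : (P : Subgroup X) ≤ Subgroup.centralizer ({u} : Set X) := by
      intro x hx
      rw [Subgroup.mem_centralizer_iff]
      intro h hh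
      rw [Set.mem_singleton_iff] at hh
      rw [hh]; exact hPab u huP x hx
    have htL : Subgroup.zpowers t ≤ Subgroup.centralizer ({u} : Set X) := by
      rw [Subgroup.zpowers_le, Subgroup.mem_centralizer_iff]
      intro h hh
      rw [Set.mem_singleton_iff] at hh
      rw [hh]; exact hut
    have hcomm := Cfsg.Agent.Lib.Helper4.commute_of_nilpotent_le
      (Subgroup.centralizer ({u} : Set X)) hLnil (p := p) (q := r) hrp.symm
      (P : Subgroup X) (Subgroup.zpowers t) hPL htL P.isPGroup'
      (IsPGroup.of_card (n := 1) (by rw [Nat.card_zpowers, hot, pow_one]))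
    have htC : t ∈ Subgroup.centralizer ((P : Subgroup X) : Set X) := by
      rw [Subgroup.mem_centralizer_iff]
      intro a ha; exact hcomm a ha t (Subgroup.mem_zpowers t)
    haveI : (Subgroup.centralizer ((P : Subgroup X) : Set X)).Normal := Subgroup.normal_centralizer
    by_cases hC : Subgroup.centralizer ((P : Subgroup X) : Set X) = ⊤
    · apply hnot
      apply hasNormalPComplement_of_central P
      intro x hx c
      have : c ∈ Subgroup.centralizer ((P : Subgroup X) : Set X) := by rw [hC]; trivial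
      exact (Subgroup.mem_centralizer_iff.mp this x hx).symm
    · have hCp := isPGroup_of_normal h0 _ (hsub _ hC)
      obtain ⟨k, hk⟩ := hCp ⟨t, htC⟩
      have h1 : t ^ (p ^ k) = 1 := congrArg Subtype.val hk
      have hdvd : r ∣ p ^ k := by rw [← hot]; exact orderOf_dvd_of_pow_eq_one h1
      exact hrp ((Nat.prime_dvd_prime_iff_eq hr hp).mp (hr.dvd_of_dvd_pow hdvd))

/-- Let G be a finite group and p a prime. Then G has a normal p-complement if and only if every section K = H/N of G (N a normal subgroup of a subgroup H) whose largest normal subgroup of order prime to p is trivial contains an element whose order equals the exponent of K. -/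
theorem result {G : Type*} [Group G] [Finite G] (p : ℕ) [Fact p.Prime] :
    Cfsg.HasNormalPComplement p G ↔
      ∀ (H : Subgroup G) (N : Subgroup H) [N.Normal], Cfsg.pPrimeCore p (H ⧸ N) = ⊥ →
        ∃ k : H ⧸ N, orderOf k = Monoid.exponent (H ⧸ N) := by
  have hp : p.Prime := Fact.out
  constructor
  · intro h H N _ hcore
    have h1 : Cfsg.HasNormalPComplement p H := hasNormalPComplement_subgroup h H
    have h2 : Cfsg.HasNormalPComplement p (H ⧸ N) :=
      hasNormalPComplement_of_surjective (QuotientGroup.mk' N) (QuotientGroup.mk'_surjective N) h1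
    have h3 : IsPGroup p (H ⧸ N) := isPGroup_of_hasNormalPComplement h2 hcore
    obtain ⟨a, ha⟩ := IsPGroup.iff_card.mp h3
    have hdvd : Monoid.exponent (H ⧸ N) ∣ p ^ a := ha ▸ Group.exponent_dvd_nat_card
    obtain ⟨j, -, hj⟩ := (Nat.dvd_prime_pow hp).mp hdvd
    obtain ⟨k, hk⟩ := hp.exists_orderOf_eq_pow_factorization_exponent (H ⧸ N)
    refine ⟨k, ?_⟩
    rw [hk, hj, hp.factorization_pow]; simp
  · intro h
    apply main p _ G rfl
    rintro Y _ ⟨H, f, hf⟩ hY
    let e := QuotientGroup.quotientKerEquivOfSurjective f hf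
    have hcore : Cfsg.pPrimeCore p (H ⧸ f.ker) = ⊥ := by
      have := pPrimeCore_map_equiv p e
      rw [hY] at this
      exact (Subgroup.map_eq_bot_iff_of_injective _ e.injective).mp this
    obtain ⟨k, hk⟩ := h H f.ker hcore
    exact ⟨e k, by rw [MulEquiv.orderOf_eq, hk, Monoid.exponent_eq_of_mulEquiv e]⟩

end Cfsg.Agent.S4238
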