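import Cfsg.Statements.S4242
import Mathlib
import Cfsg.Agent.Lib.Helper12.PNilpotent
import Cfsg.Agent.Lib.Helper29.PrimePowerElement
import Cfsg.Agent.S0023
import Cfsg.Agent.Lib.Helper17.Basic
-- import your own Cfsg.Agent.* helpers here

set_option autoImplicit false
open Cfsg

namespace Cfsg.Agent.S4242

universe u

theorem nilpotent_of_le {G : Type*} [Group G] {H L : Subgroup G} (h : H ≤ L)
    (hL : Group.IsNilpotent L) : Group.IsNilpotent H := by
  haveI := hL
  exact (Group.isNilpotent_congr (Subgroup.subgroupOfEquivOfLe h)).mp inferInstance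

theorem commute_in_nilpotent {G : Type u} [Group G] [Finite G] (p : ℕ) [Fact p.Prime]
    (H : Subgroup G) (hH : Group.IsNilpotent H) (u v : G) (hu : u ∈ H) (hv : v ∈ H) (k : ℕ)
    (hu' : u ^ (p ^ k) = 1) (hv' : (orderOf v).Coprime p) : u * v = v * u := by
  have h1 := Cfsg.Agent.Lib.Helper29.commute_of_isNilpotent_of_coprime hH (q := p)
    (⟨u, hu⟩ : H) ⟨v, hv⟩ k (Subtype.ext (by simpa using hu'))
    (by rw [Subgroup.orderOf_mk]; exact hv')
  exact congrArg Subtype.val h1

/-- elements of a subgroup of order prime to `p` have order prime to `p` -/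
theorem orderOf_coprime_of_mem {G : Type*} [Group G] [Finite G] (p : ℕ) [Fact p.Prime]
    (M : Subgroup G) (hM : ¬ p ∣ Nat.card M) (m : G) (hm : m ∈ M) : (orderOf m).Coprime p := by
  have hp : p.Prime := Fact.out
  rw [Nat.coprime_comm, Nat.Prime.coprime_iff_not_dvd hp]
  intro h
  apply hM
  have h1 : orderOf m ∣ Nat.card M := by
    rw [← Subgroup.orderOf_mk m hm]; exact orderOf_dvd_natCard _
  exact h.trans h1

/-- a `p`-subgroup meets a `p'`-subgroup trivially -/
theorem inf_eq_bot_of_pgroup {G : Type*} [Group G] [Finite G] (p : ℕ) [Fact p.Prime]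
    (M Q : Subgroup G) (hM : ¬ p ∣ Nat.card M) (hQ : IsPGroup p Q) : M ⊓ Q = ⊥ := by
  rw [Subgroup.eq_bot_iff_forall]
  intro x hx
  obtain ⟨hxM, hxQ⟩ := Subgroup.mem_inf.mp hx
  obtain ⟨k, hk⟩ := hQ ⟨x, hxQ⟩
  have hk' : x ^ (p ^ k) = 1 := by simpa using congrArg Subtype.val hk
  have h1 : orderOf x ∣ p ^ k := orderOf_dvd_of_pow_eq_one hk'
  have h2 := orderOf_coprime_of_mem p M hM x hxM
  have h3 : orderOf x = 1 := by
    have := Nat.Coprime.eq_one_of_dvd (Nat.Coprime.pow_right k h2) h1
    exact this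
  exact orderOf_eq_one_iff.mp h3

/-- Case A: a nontrivial normal `p`-subgroup `Q` and a non-nilpotent maximal `p'`-subgroup `M`. -/
theorem caseA {G : Type u} [Group G] [Finite G] (p : ℕ) [Fact p.Prime]
    (hF : ∀ H : Subgroup G, H ≠ ⊤ → p ∣ Nat.card H → Group.IsNilpotent H)
    (M : Subgroup G) (hMco : IsCoatom M) (hMp : ¬ p ∣ Nat.card M) (hMn : ¬ Group.IsNilpotent M)
    (Q : Subgroup G) [hQn : Q.Normal] (hQp : IsPGroup p Q) (hQ1 : Q ≠ ⊥) :
    ∃ Z K : Subgroup G, Z.Normal ∧ K.Normal ∧ Z ⊓ K = ⊥ ∧ Z ⊔ K = ⊤ ∧ Nat.card Z = p ∧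
          Cfsg.IsMinimalNonNilpotent K ∧ ¬ p ∣ Nat.card K := by
  have hp : p.Prime := Fact.out
  have hdisj : M ⊓ Q = ⊥ := inf_eq_bot_of_pgroup p M Q hMp hQp
  have hpQ : p ∣ Nat.card Q := by
    rcases hQp.card_eq_or_dvd with h | h
    · exact absurd (Subgroup.card_eq_one.mp h) hQ1
    · exact h
  -- (b) proper subgroups of M are nilpotent and centralize Q
  have hb : ∀ M0 : Subgroup G, M0 ≤ M → M0 ≠ M →
      Group.IsNilpotent M0 ∧ M0 ≤ Subgroup.centralizer (Q : Set G) := by
    intro M0 hM0 hne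
    have hHne : M0 ⊔ Q ≠ ⊤ := by
      intro htop
      apply hne
      apply le_antisymm hM0
      intro m hm
      have hm' : m ∈ ((M0 ⊔ Q : Subgroup G) : Set G) := by rw [htop]; trivial
      rw [Subgroup.mul_normal] at hm'
      obtain ⟨m0, hm0, q, hq, hmq⟩ := hm'
      have hmq' : m0 * q = m := hmq
      have hqM : q ∈ M := by
        have : q = m0⁻¹ * m := by rw [← hmq']; group
        rw [this]; exact M.mul_mem (M.inv_mem (hM0 hm0)) hm
      have hq1 : q = 1 := by
        have : q ∈ M ⊓ Q := Subgroup.mem_inf.mpr ⟨hqM, hq⟩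
        rw [hdisj] at this; exact Subgroup.mem_bot.mp this
      rw [← hmq', hq1, mul_one]; exact hm0
    have hHp : p ∣ Nat.card (M0 ⊔ Q : Subgroup G) :=
      hpQ.trans (Subgroup.card_dvd_of_le le_sup_right)
    have hHnil := hF _ hHne hHp
    refine ⟨nilpotent_of_le le_sup_left hHnil, ?_⟩
    intro m0 hm0
    rw [Subgroup.mem_centralizer_iff]
    intro q hq
    obtain ⟨k, hk⟩ := hQp ⟨q, hq⟩
    have hk' : q ^ (p ^ k) = 1 := by simpa using congrArg Subtype.val hk
    exact commute_in_nilpotent p _ hHnil q m0 (Subgroup.mem_sup_right hq)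
      (Subgroup.mem_sup_left hm0) k hk' (orderOf_coprime_of_mem p M hMp m0 (hM0 hm0))
  -- (c) M centralizes Q
  have hc : M ≤ Subgroup.centralizer (Q : Set G) := by
    intro x hx
    by_contra hxc
    have hz : Subgroup.zpowers x = M := by
      by_contra hne
      exact hxc ((hb (Subgroup.zpowers x) (by rw [Subgroup.zpowers_le]; exact hx) hne).2
        (Subgroup.mem_zpowers x))
    apply hMn
    rw [← hz]
    haveI : IsCyclic (Subgroup.zpowers x) := inferInstance
    letI : CommGroup (Subgroup.zpowers x) := IsCyclic.commGroup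
    infer_instance
  -- M is normal
  have hMnorm : M.Normal := by
    rw [← Subgroup.normalizer_eq_top_iff]
    have hQM : M ⊔ Q = ⊤ := by
      have hlt : M < M ⊔ Q := by
        apply lt_of_le_of_ne le_sup_left
        intro h
        have hQM : Q ≤ M := by rw [h]; exact le_sup_right
        apply hQ1
        rw [← inf_of_le_right hQM, hdisj]
      exact hMco.2 _ hlt
    rw [eq_top_iff, ← hQM]
    apply sup_le Subgroup.le_normalizer
    intro q hq
    apply Cfsg.Agent.Lib.Helper17.mem_normalizer_of_forall_conj_mem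
    intro m hm
    have := (Subgroup.mem_centralizer_iff.mp (hc hm)) q hq
    rw [this, mul_inv_cancel_right]
    exact hm
  have hQM : M ⊔ Q = ⊤ := by
    have hlt : M < M ⊔ Q := by
      apply lt_of_le_of_ne le_sup_left
      intro h
      have hQM : Q ≤ M := by rw [h]; exact le_sup_right
      apply hQ1
      rw [← inf_of_le_right hQM, hdisj]
    exact hMco.2 _ hlt
  -- (a) M-invariant subgroups of Q
  have ha : ∀ Q0 : Subgroup G, Q0 ≤ Q → M ≤ Subgroup.normalizer (Q0 : Set G) → Q0 ≠ ⊥ → Q0 = Q := by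
    intro Q0 hQ0 hMN hQ01
    have hlt : M < M ⊔ Q0 := by
      apply lt_of_le_of_ne le_sup_left
      intro h
      have hQM : Q0 ≤ M := by rw [h]; exact le_sup_right
      apply hQ01
      rw [← le_bot_iff, ← hdisj]
      exact le_inf hQM hQ0
    have htop := hMco.2 _ hlt
    apply le_antisymm hQ0
    intro x hx
    have hx' : x ∈ ((M ⊔ Q0 : Subgroup G) : Set G) := by rw [htop]; trivial
    rw [Subgroup.coe_mul_of_left_le_normalizer_right M Q0 hMN] at hx'
    obtain ⟨m, hm, q0, hq0, hmq⟩ := hx'
    have hmq' : m * q0 = x := hmq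
    have hm1 : m = 1 := by
      have h1 : m = x * q0⁻¹ := by rw [← hmq']; group
      have : m ∈ M ⊓ Q := Subgroup.mem_inf.mpr ⟨hm, by
        rw [h1]; exact Q.mul_mem hx (Q.inv_mem (hQ0 hq0))⟩
      rw [hdisj] at this; exact Subgroup.mem_bot.mp this
    rw [← hmq', hm1, one_mul]; exact hq0
  -- card Q = p
  have hQc : Nat.card Q = p := by
    obtain ⟨g, hg⟩ := exists_prime_orderOf_dvd_card' (G := Q) p hpQ
    have hgG : orderOf (g : G) = p := by rw [Subgroup.orderOf_coe]; exact hg
    have h1 : Subgroup.zpowers (g : G) = Q := by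
      apply ha
      · rw [Subgroup.zpowers_le]; exact g.2
      · intro m hm
        apply Cfsg.Agent.Lib.Helper17.mem_normalizer_of_forall_conj_mem
        intro y hy
        have hyQ : y ∈ Q := by
          have : Subgroup.zpowers (g : G) ≤ Q := by rw [Subgroup.zpowers_le]; exact g.2
          exact this hy
        have := (Subgroup.mem_centralizer_iff.mp (hc hm)) y hyQ
        rw [← this, mul_inv_cancel_right]
        exact hy
      · intro hbot
        rw [Subgroup.zpowers_eq_bot] at hbot
        rw [hbot, orderOf_one] at hgG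
        exact hp.one_lt.ne hgG
    rw [← h1, Nat.card_zpowers, hgG]
  refine ⟨Q, M, hQn, hMnorm, by rw [inf_comm]; exact hdisj, by rw [sup_comm]; exact hQM, hQc, ⟨hMn, ?_⟩, hMp⟩
  intro H' hH'
  have h1 : H'.map M.subtype ≠ M := by
    intro h
    apply hH'
    rw [eq_top_iff]
    intro x _
    have : (x : G) ∈ H'.map M.subtype := by rw [h]; exact x.2
    obtain ⟨y, hy, hyx⟩ := this
    have : y = x := Subtype.ext hyx
    rw [← this]; exact hy
  have h2 := (hb (H'.map M.subtype) (Subgroup.map_subtype_le H') h1).1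
  exact (Group.isNilpotent_congr (H'.equivMapOfInjective M.subtype M.subtype_injective)).mpr h2

/-- Case B: no nontrivial normal `p`-subgroup: impossible. -/
theorem caseB {G : Type u} [Group G] [Finite G] (p : ℕ) [Fact p.Prime] (hpG : p ∣ Nat.card G)
    (hF : ∀ H : Subgroup G, H ≠ ⊤ → p ∣ Nat.card H → Group.IsNilpotent H)
    (M : Subgroup G) (hMco : IsCoatom M) (hMp : ¬ p ∣ Nat.card M) (hMn : ¬ Group.IsNilpotent M)
    (hno : ∀ Q : Subgroup G, Q.Normal → IsPGroup p Q → Q = ⊥) : False := by
  have hp : p.Prime := Fact.out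
  have hfrob : Cfsg.Agent.Lib.Helper29.FrobCond p G := by
    intro Q hQ g hg hgo
    by_cases hQ1 : Q = ⊥
    · subst hQ1
      rw [Subgroup.mem_centralizer_iff]
      intro h hh
      have : h = 1 := Subgroup.mem_bot.mp hh
      rw [this, one_mul, mul_one]
    · have hNne : Subgroup.normalizer (Q : Set G) ≠ ⊤ :=
        fun h => hQ1 (hno Q (Subgroup.normalizer_eq_top_iff.mp h) hQ)
      have hpQ : p ∣ Nat.card Q := by
        rcases hQ.card_eq_or_dvd with h | h
        · exact absurd (Subgroup.card_eq_one.mp h) hQ1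
        · exact h
      have hNp : p ∣ Nat.card (Subgroup.normalizer (Q : Set G)) :=
        hpQ.trans (Subgroup.card_dvd_of_le Subgroup.le_normalizer)
      have hNnil := hF _ hNne hNp
      rw [Subgroup.mem_centralizer_iff]
      intro q hq
      obtain ⟨k, hk⟩ := hQ ⟨q, hq⟩
      have hk' : q ^ (p ^ k) = 1 := by simpa using congrArg Subtype.val hk
      exact commute_in_nilpotent p _ hNnil q g (Subgroup.le_normalizer hq) hg k hk' hgo
  obtain ⟨P, N, hNn, hNP⟩ := Cfsg.Agent.Lib.Helper12.hasNormalPComplement_iff_frobCond.mpr hfrob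
  have hP1 : (P : Subgroup G) ≠ ⊥ := P.ne_bot_of_dvd_card hpG
  obtain ⟨k, hPk⟩ := P.2.exists_card_eq
  -- M ≤ N
  have hMN : M ≤ N := by
    intro m hm
    have hidx : N.index = p ^ k := by rw [hNP.symm.index_eq_card]; exact hPk
    have h1 : ((m : G) : G ⧸ N) ^ (p ^ k) = 1 := by
      rw [← hidx, Subgroup.index_eq_card]; exact pow_card_eq_one'
    have h2 : ((m : G) : G ⧸ N) ^ (orderOf m) = 1 := by
      rw [← QuotientGroup.mk_pow, pow_orderOf_eq_one]; rfl
    have h3 : orderOf ((m : G) : G ⧸ N) = 1 := by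
      have hc := orderOf_coprime_of_mem p M hMp m hm
      have d1 := orderOf_dvd_of_pow_eq_one h1
      have d2 := orderOf_dvd_of_pow_eq_one h2
      exact Nat.eq_one_of_dvd_coprimes (Nat.Coprime.pow_right k hc).symm d1 d2
    rw [orderOf_eq_one_iff] at h3
    exact (QuotientGroup.eq_one_iff m).mp h3
  have hNtop : N ≠ ⊤ := by
    intro h
    have h1 := hNP.card_mul_card
    rw [h, Subgroup.card_top] at h1
    have hpos : 0 < Nat.card G := Nat.card_pos
    have : Nat.card (P : Subgroup G) = 1 := by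
      have h2 : Nat.card G * Nat.card (P : Subgroup G) = Nat.card G * 1 := by rw [h1, mul_one]
      exact Nat.eq_of_mul_eq_mul_left hpos h2
    exact hP1 (Subgroup.card_eq_one.mp this)
  have hMeq : M = N := by
    by_contra hne
    exact hNtop (hMco.2 N (lt_of_le_of_ne hMN hne))
  subst hMeq
  have hdisj : M ⊓ (P : Subgroup G) = ⊥ := inf_eq_bot_of_pgroup p M P hMp P.2
  have hpP : p ∣ Nat.card (P : Subgroup G) := by
    rcases P.2.card_eq_or_dvd with h | h
    · exact absurd (Subgroup.card_eq_one.mp h) hP1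
    · exact h
  have hPM : (P : Subgroup G) ≤ Subgroup.normalizer (M : Set G) := by
    rw [Subgroup.normalizer_eq_top_iff.mpr hNn]; exact le_top
  have hcop : (Nat.card (P : Subgroup G)).Coprime (Nat.card M) := by
    rw [hPk]
    exact Nat.Coprime.pow_left k ((Nat.Prime.coprime_iff_not_dvd hp).mpr hMp)
  have hPsolv : Group.IsSolvable (P : Subgroup G) := by
    haveI := P.2.isNilpotent
    infer_instance
  -- M centralizes P
  have hcent : M ≤ Subgroup.centralizer ((P : Subgroup G) : Set G) := by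
    obtain ⟨C, hC⟩ : ∃ C : Subgroup G, C = Subgroup.centralizer ((P : Subgroup G) : Set G) ⊓ M := ⟨_, rfl⟩
    have hidx : (C.subgroupOf M).index = 1 := by
      rw [Nat.eq_one_iff_not_exists_prime_dvd]
      intro q hq hqd
      haveI : Fact q.Prime := ⟨hq⟩
      obtain ⟨S, hS⟩ := Cfsg.Agent.S0023.result (P : Subgroup G) M hPM hcop (Or.inl hPsolv) q
      have hSC : (S : Subgroup M) ≤ C.subgroupOf M := by
        intro s hs
        rw [Subgroup.mem_subgroupOf, hC]
        refine Subgroup.mem_inf.mpr ⟨?_, s.2⟩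
        have hsS' : (s : G) ∈ (S : Subgroup M).map M.subtype := ⟨s, hs, rfl⟩
        -- H = P ⊔ S'
        have hHne : (P : Subgroup G) ⊔ (S : Subgroup M).map M.subtype ≠ ⊤ := by
          intro htop
          apply hMn
          have hMS : M ≤ (S : Subgroup M).map M.subtype := by
            intro m hm
            have hm' : m ∈ (((P : Subgroup G) ⊔ (S : Subgroup M).map M.subtype : Subgroup G) : Set G) := by
              rw [htop]; trivial
            rw [Subgroup.coe_mul_of_left_le_normalizer_right _ _ hS] at hm'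
            obtain ⟨x, hx, t, ht, hxt⟩ := hm'
            have hxt' : x * t = m := hxt
            have htM : t ∈ M := Subgroup.map_subtype_le _ ht
            have hx1 : x = 1 := by
              have h1 : x = m * t⁻¹ := by rw [← hxt']; group
              have : x ∈ M ⊓ (P : Subgroup G) := Subgroup.mem_inf.mpr ⟨by
                rw [h1]; exact M.mul_mem hm (M.inv_mem htM), hx⟩
              rw [hdisj] at this; exact Subgroup.mem_bot.mp this
            rw [← hxt', hx1, one_mul]; exact ht
          apply nilpotent_of_le hMS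
          haveI := S.2.isNilpotent
          exact (Group.isNilpotent_congr
            ((S : Subgroup M).equivMapOfInjective M.subtype M.subtype_injective)).mp inferInstance
        have hHp : p ∣ Nat.card ((P : Subgroup G) ⊔ (S : Subgroup M).map M.subtype : Subgroup G) :=
          hpP.trans (Subgroup.card_dvd_of_le le_sup_left)
        have hHnil := hF _ hHne hHp
        rw [Subgroup.mem_centralizer_iff]
        intro x hx
        obtain ⟨j, hj⟩ := P.2 ⟨x, hx⟩
        have hj' : x ^ (p ^ j) = 1 := by simpa using congrArg Subtype.val hj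
        exact commute_in_nilpotent p _ hHnil x s (Subgroup.mem_sup_left hx)
          (Subgroup.mem_sup_right hsS') j hj' (orderOf_coprime_of_mem p M hMp s s.2)
      have h1 : (C.subgroupOf M).index ∣ (S : Subgroup M).index := Subgroup.index_dvd_of_le hSC
      exact S.not_dvd_index (hqd.trans h1)
    have htop := Subgroup.index_eq_one.mp hidx
    rw [Subgroup.subgroupOf_eq_top] at htop
    intro m hm
    have := htop hm
    rw [hC] at this
    exact (Subgroup.mem_inf.mp this).1
  -- P is normal
  have hPn : (P : Subgroup G).Normal := by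
    rw [← Subgroup.normalizer_eq_top_iff, eq_top_iff, ← hNP.sup_eq_top]
    apply sup_le _ Subgroup.le_normalizer
    intro m hm
    apply Cfsg.Agent.Lib.Helper17.mem_normalizer_of_forall_conj_mem
    intro x hx
    have := (Subgroup.mem_centralizer_iff.mp (hcent hm)) x hx
    rw [← this, mul_inv_cancel_right]
    exact hx
  exact hP1 (hno P hPn P.2)

/-- Backward direction, third case. -/
theorem back3 {G : Type u} [Group G] [Finite G] (p : ℕ) [Fact p.Prime]
    (Z K : Subgroup G) (hZn : Z.Normal) (hKn : K.Normal) (hdisj : Z ⊓ K = ⊥) (hsup : Z ⊔ K = ⊤)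
    (hZc : Nat.card Z = p) (hKm : Cfsg.IsMinimalNonNilpotent K) (hKp : ¬ p ∣ Nat.card K)
    (M : Subgroup G) (hMco : IsCoatom M) (hpM : p ∣ Nat.card M) : Group.IsNilpotent M := by
  have hp : p.Prime := Fact.out
  have hcomm : ∀ z ∈ Z, ∀ k ∈ K, z * k = k * z := fun z hz k hk =>
    Subgroup.commute_of_normal_of_disjoint Z K hZn hKn (disjoint_iff.mpr hdisj) z k hz hk
  -- Z ≤ M
  have hZM : Z ≤ M := by
    obtain ⟨g, hg⟩ := exists_prime_orderOf_dvd_card' (G := M) p hpM
    have hgG : orderOf (g : G) = p := by rw [Subgroup.orderOf_coe]; exact hg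
    have hgtop : (g : G) ∈ ((Z ⊔ K : Subgroup G) : Set G) := by rw [hsup]; trivial
    rw [Subgroup.mul_normal] at hgtop
    obtain ⟨z, hz, k, hk, hzk0⟩ := hgtop
    have hzk : z * k = (g : G) := hzk0
    have hzp : z ^ p = 1 := by
      have : (⟨z, hz⟩ : Z) ^ Nat.card Z = 1 := pow_card_eq_one'
      rw [hZc] at this
      simpa using congrArg Subtype.val this
    have hkp : k ^ p = 1 := by
      have h1 : (z * k) ^ p = z ^ p * k ^ p := (show Commute z k from hcomm z hz k hk).mul_pow p
      rw [hzk, ← hgG, pow_orderOf_eq_one, hgG, hzp, one_mul] at h1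
      exact h1.symm
    have hk1 : k = 1 := by
      have hc := orderOf_coprime_of_mem p K hKp k hk
      have d1 : orderOf k ∣ p := orderOf_dvd_of_pow_eq_one hkp
      have : orderOf k = 1 := Nat.eq_one_of_dvd_coprimes hc dvd_rfl d1
      exact orderOf_eq_one_iff.mp this
    have hgz : (g : G) = z := by rw [← hzk, hk1, mul_one]
    have hz1 : (⟨z, hz⟩ : Z) ≠ 1 := by
      intro h
      have : z = 1 := congrArg Subtype.val h
      rw [← hgz] at this
      rw [this, orderOf_one] at hgG
      exact hp.one_lt.ne hgG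
    haveI : Fact (Nat.card Z).Prime := ⟨by rw [hZc]; exact hp⟩
    have hztop := zpowers_eq_top_of_prime_card (G := Z) (g := ⟨z, hz⟩) (h := hZc) hz1
    intro y hy
    have : (⟨y, hy⟩ : Z) ∈ Subgroup.zpowers (⟨z, hz⟩ : Z) := by rw [hztop]; trivial
    obtain ⟨n, hn⟩ := Subgroup.mem_zpowers_iff.mp this
    have hn' : z ^ n = y := by simpa using congrArg Subtype.val hn
    rw [← hn', ← hgz]
    exact M.zpow_mem g.2 n
  -- M ⊓ K nilpotent
  have hMKne : (M ⊓ K).subgroupOf K ≠ ⊤ := by
    intro h
    rw [Subgroup.subgroupOf_eq_top] at h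
    have hKM : K ≤ M := h.trans inf_le_left
    have : M = ⊤ := by rw [eq_top_iff, ← hsup]; exact sup_le hZM hKM
    exact hMco.1 this
  have hMKnil : Group.IsNilpotent ↥(M ⊓ K) := by
    have h1 := hKm.2 _ hMKne
    exact (Group.isNilpotent_congr (Subgroup.subgroupOfEquivOfLe (inf_le_right : M ⊓ K ≤ K))).mp h1
  have hZnil : Group.IsNilpotent ↥Z := by
    have hZp : IsPGroup p Z := IsPGroup.of_card (n := 1) (by rw [hZc, pow_one])
    exact hZp.isNilpotent
  -- surjection
  let f : ↥Z →* ↥M := Subgroup.inclusion hZM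
  let g : ↥(M ⊓ K) →* ↥M := Subgroup.inclusion inf_le_left
  have hfg : ∀ (a : ↥Z) (b : ↥(M ⊓ K)), Commute (f a) (g b) := by
    intro a b
    apply Subtype.ext
    exact hcomm a a.2 b (Subgroup.mem_inf.mp b.2).2
  have hsurj : Function.Surjective (MonoidHom.noncommCoprod f g hfg) := by
    intro m
    have hmtop : (m : G) ∈ ((Z ⊔ K : Subgroup G) : Set G) := by rw [hsup]; trivial
    rw [Subgroup.mul_normal] at hmtop
    obtain ⟨z, hz, k, hk, hzk0⟩ := hmtop
    have hzk : z * k = (m : G) := hzk0
    have hkM : k ∈ M := by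
      have : k = z⁻¹ * m := by rw [← hzk]; group
      rw [this]; exact M.mul_mem (M.inv_mem (hZM hz)) m.2
    refine ⟨(⟨z, hz⟩, ⟨k, Subgroup.mem_inf.mpr ⟨hkM, hk⟩⟩), ?_⟩
    apply Subtype.ext
    rw [MonoidHom.noncommCoprod_apply]
    exact hzk
  haveI := hZnil
  haveI := hMKnil
  exact Group.nilpotent_of_surjective _ hsurj


/-- Let G be a finite group and p a prime dividing its order. Every maximal subgroup of G of order divisible by p is nilpotent if and only if G is nilpotent, or G is a minimal non-nilpotent group, or G is the internal direct product of a normal subgroup of order p and a normal minimal non-nilpotent subgroup of order prime to p. -/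
theorem result {G : Type*} [Group G] [Finite G] (p : ℕ) (hp : p.Prime) (hpG : p ∣ Nat.card G) :
    (∀ M : Subgroup G, IsCoatom M → p ∣ Nat.card M → Group.IsNilpotent M) ↔
      (Group.IsNilpotent G ∨ Cfsg.IsMinimalNonNilpotent G ∨
        ∃ Z K : Subgroup G, Z.Normal ∧ K.Normal ∧ Z ⊓ K = ⊥ ∧ Z ⊔ K = ⊤ ∧ Nat.card Z = p ∧
          Cfsg.IsMinimalNonNilpotent K ∧ ¬ p ∣ Nat.card K) := by
  haveI : Fact p.Prime := ⟨hp⟩
  constructor
  · intro hmax
    by_cases hnil : Group.IsNilpotent G
    · exact Or.inl hnil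
    by_cases hmin : Cfsg.IsMinimalNonNilpotent G
    · exact Or.inr (Or.inl hmin)
    right; right
    have hF : ∀ H : Subgroup G, H ≠ ⊤ → p ∣ Nat.card H → Group.IsNilpotent H := by
      intro H hH hpH
      obtain ⟨L, hL, hHL⟩ := (eq_top_or_exists_le_coatom H).resolve_left hH
      exact nilpotent_of_le hHL (hmax L hL (hpH.trans (Subgroup.card_dvd_of_le hHL)))
    -- a non-nilpotent maximal subgroup
    have hex : ∃ H : Subgroup G, H ≠ ⊤ ∧ ¬ Group.IsNilpotent H := by
      by_contra hcon
      push Not at hcon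
      exact hmin ⟨hnil, hcon⟩
    obtain ⟨H, hH, hHn⟩ := hex
    obtain ⟨M, hMco, hHM⟩ := (eq_top_or_exists_le_coatom H).resolve_left hH
    have hMn : ¬ Group.IsNilpotent M := fun h => hHn (nilpotent_of_le hHM h)
    have hMp : ¬ p ∣ Nat.card M := fun h => hMn (hmax M hMco h)
    by_cases hQ : ∃ Q : Subgroup G, Q.Normal ∧ IsPGroup p Q ∧ Q ≠ ⊥
    · obtain ⟨Q, hQn, hQp, hQ1⟩ := hQ
      exact caseA p hF M hMco hMp hMn Q hQp hQ1
    · exfalso
      push Not at hQ
      exact caseB p hpG hF M hMco hMp hMn hQ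
  · rintro (hnil | hmin | ⟨Z, K, hZn, hKn, hdisj, hsup, hZc, hKm, hKp⟩)
    · intro M _ _
      haveI := hnil
      infer_instance
    · intro M hM _
      exact hmin.2 M hM.1
    · intro M hM hpM
      exact back3 p Z K hZn hKn hdisj hsup hZc hKm hKp M hM hpM

end Cfsg.Agent.S4242
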