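import Cfsg.Statements.S4249
-- import your own Cfsg.Agent.* helpers here
import Mathlib
import Cfsg.Agent.Lib.Helper22.Kegel
import Cfsg.Agent.Lib.Helper17.Coprime
import Cfsg.Agent.Lib.Helper29.MinNonPNilpotent

set_option autoImplicit false
open Cfsg

namespace Cfsg.Agent.S4249


open scoped Pointwise
open Cfsg.Agent.Lib.Helper22.Kegel Cfsg.Agent.Lib.Helper8.ThNilp

variable {G : Type*} [Group G]

theorem iter_conj (y g : G) (n : ℕ) :
    ((MulAut.conj y).toMonoidHom)^[n] g = y ^ n * g * (y ^ n)⁻¹ := by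
  induction n with
  | zero => simp
  | succ n ih =>
    rw [Function.iterate_succ_apply', ih]
    show y * (y ^ n * g * (y ^ n)⁻¹) * y⁻¹ = _
    rw [pow_succ']
    group

theorem cprod_conj (y g : G) (n : ℕ) :
    cprod (MulAut.conj y).toMonoidHom n g = (g * y) ^ n * (y ^ n)⁻¹ := by
  induction n with
  | zero => simp [cprod_zero]
  | succ n ih =>
    rw [cprod_succ, ih, iter_conj, pow_succ, pow_succ]
    group

theorem conj_stable (N : Subgroup G) [hN : N.Normal] (y : G) :
    ∀ n ∈ N, (MulAut.conj y).toMonoidHom n ∈ N := fun n hn => hN.conj_mem n hn y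

/-- conjugation by an element outside `N ⊇ H` is a splitting endomorphism of `N`, when all elements
outside `H` have order dividing `p`. -/
theorem isSplit_conj (p : ℕ) (H : Subgroup G) (hH : ∀ g ∉ H, g ^ p = 1)
    (N : Subgroup G) [hN : N.Normal] (hHN : H ≤ N) (y : G) (hy : y ∉ N) :
    IsSplit p (resEnd (MulAut.conj y).toMonoidHom N (conj_stable N y)) := by
  have hyp : y ^ p = 1 := hH y (fun h => hy (hHN h))
  refine ⟨fun x => Subtype.ext ?_, fun x => Subtype.ext ?_⟩
  · rw [resEnd_iter, iter_conj, hyp, one_mul, inv_one, mul_one]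
  · rw [cprod_resEnd, cprod_conj, hyp, inv_one, mul_one]
    have h1 : (x : G) * y ∉ H := by
      intro h
      apply hy
      have h2 : (x : G) * y ∈ N := hHN h
      have h3 : y = (x : G)⁻¹ * ((x : G) * y) := by group
      rw [h3]
      exact N.mul_mem (N.inv_mem x.2) h2
    rw [hH _ h1]
    rfl


/-- the Hughes subgroup is normal -/
theorem hughes_normal (p : ℕ) : (Subgroup.closure {g : G | g ^ p ≠ 1}).Normal := by
  have h : Subgroup.closure {g : G | g ^ p ≠ 1} = Subgroup.normalClosure {g : G | g ^ p ≠ 1} := by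
    apply le_antisymm Subgroup.closure_le_normalClosure
    unfold Subgroup.normalClosure
    apply Subgroup.closure_mono
    intro x hx
    obtain ⟨a, ha, hax⟩ := Group.mem_conjugatesOfSet_iff.1 hx
    obtain ⟨c, hc⟩ := isConj_iff.1 hax
    show x ^ p ≠ 1
    rw [← hc, conj_pow]
    intro h1
    apply ha
    have h2 : a ^ p = c⁻¹ * (c * a ^ p * c⁻¹) * c := by group
    rw [h2, h1]; group
  rw [h]
  exact Subgroup.normalClosure_normal

theorem pow_eq_one_of_not_mem (p : ℕ) (g : G) (hg : g ∉ Subgroup.closure {g : G | g ^ p ≠ 1}) :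
    g ^ p = 1 := by
  by_contra h
  exact hg (Subgroup.subset_closure h)


section main
variable [Finite G]

/-- in a nilpotent group `H ≤ G`, the centre of the (normal) Sylow `q`-subgroup is central in `H` -/
theorem sylow_center_central (H : Subgroup G) (hnil : Group.IsNilpotent H) (q : ℕ) [Fact q.Prime]
    (Q : Sylow q H) (h : G) (hh : h ∈ H) (v : G)
    (hv : v ∈ zsub ((Q : Subgroup H).map H.subtype)) : h * v = v * h := by
  have hSyl := ((Group.isNilpotent_of_finite_tfae (G := ↥H)).out 0 3).mp hnil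
  haveI hQn : (Q : Subgroup H).Normal := hSyl q inferInstance Q
  obtain ⟨⟨v', hv'Q, rfl⟩, hvC0⟩ := hv
  have hvC := Subgroup.mem_centralizer_iff.1 hvC0
  obtain ⟨i, j, hdec, ⟨k, hk⟩, hcop⟩ :=
    Cfsg.Agent.Lib.Helper17.exists_p_pprime_decomp q (⟨h, hh⟩ : H)
  -- the `q`-part lies in `Q`
  have ha : (⟨h, hh⟩ : H) ^ i ∈ (Q : Subgroup H) := by
    have hz : IsPGroup q (Subgroup.zpowers ((⟨h, hh⟩ : H) ^ i)) := by
      apply IsPGroup.of_card (n := k)
      rw [Nat.card_zpowers, hk]
    exact Cfsg.Agent.Lib.Helper29.le_of_isPGroup_of_normal_sylow Q _ hz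
      (Subgroup.mem_zpowers _)
  have h1 : ((((⟨h, hh⟩ : H) ^ i : H)) : G) * (v' : G) = (v' : G) * ((((⟨h, hh⟩ : H) ^ i : H)) : G) :=
    (hvC _ ⟨_, ha, rfl⟩)
  -- the `q'`-part centralizes `Q`
  have hF := Cfsg.Agent.Lib.Helper29.frobCond_of_isNilpotent (p := q) hnil
  have hb := hF (Q : Subgroup H) Q.2 ((⟨h, hh⟩ : H) ^ j)
    (by rw [Subgroup.normalizer_eq_top]; trivial) hcop
  rw [Subgroup.mem_centralizer_iff] at hb
  have h2 : ((((⟨h, hh⟩ : H) ^ j : H)) : G) * (v' : G) = (v' : G) * ((((⟨h, hh⟩ : H) ^ j : H)) : G) :=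
    (congrArg Subtype.val (hb v' hv'Q)).symm
  have h3 : h = ((((⟨h, hh⟩ : H) ^ i : H)) : G) * ((((⟨h, hh⟩ : H) ^ j : H)) : G) := by
    have := congrArg Subtype.val hdec
    exact this
  show h * (v' : G) = (v' : G) * h
  rw [h3, mul_assoc, h2, ← mul_assoc, h1, mul_assoc]

/-- the image in `G` of a normal Sylow subgroup of a normal subgroup `H` is normal in `G` -/
theorem sylow_map_normal (H : Subgroup G) [hHn : H.Normal] (q : ℕ) [Fact q.Prime] (Q : Sylow q H)
    [hQn : (Q : Subgroup H).Normal] : ((Q : Subgroup H).map H.subtype).Normal := by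
  refine ⟨?_⟩
  rintro _ ⟨u, hu, rfl⟩ g
  have hmem : g * (u : G) * g⁻¹ ∈ H := hHn.conj_mem _ u.2 g
  refine ⟨⟨_, hmem⟩, ?_, rfl⟩
  obtain ⟨k, hk⟩ := (Q.2 ⟨u, hu⟩)
  have hq : q.Prime := Fact.out
  have hz : IsPGroup q (Subgroup.zpowers (⟨g * (u : G) * g⁻¹, hmem⟩ : H)) := by
    have h1 : (⟨g * (u : G) * g⁻¹, hmem⟩ : H) ^ q ^ k = 1 := by
      apply Subtype.ext
      have h2 : (u : G) ^ q ^ k = 1 := by
        have := congrArg (fun z : (Q : Subgroup H) => ((z : H) : G)) hk
        simpa using this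
      show (g * (u : G) * g⁻¹) ^ q ^ k = 1
      rw [conj_pow, h2, mul_one, mul_inv_cancel]
    obtain ⟨j, -, hj⟩ := (Nat.dvd_prime_pow hq).1 (orderOf_dvd_of_pow_eq_one h1)
    apply IsPGroup.of_card (n := j)
    rw [Nat.card_zpowers, hj]
  exact Cfsg.Agent.Lib.Helper29.le_of_isPGroup_of_normal_sylow Q _ hz (Subgroup.mem_zpowers _)

end main

/-- Let G be a finite group and p a prime such that G is not a p-group, and suppose the Hughes subgroup H_p(G), generated by all elements g with g^p ≠ 1, is a proper subgroup. Then H_p(G) is nilpotent and has index p in G. -/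
theorem result {G : Type*} [Group G] [Finite G] (p : ℕ) (hp : p.Prime) (hG : ¬ IsPGroup p G)
    (hH : Subgroup.closure {g : G | g ^ p ≠ 1} ≠ ⊤) :
    Group.IsNilpotent (Subgroup.closure {g : G | g ^ p ≠ 1}) ∧ (Subgroup.closure {g : G | g ^ p ≠ 1}).index = p := by
  haveI : Fact p.Prime := ⟨hp⟩
  set H := Subgroup.closure {g : G | g ^ p ≠ 1} with hHdef
  haveI hHn : H.Normal := hughes_normal p
  have hout : ∀ g ∉ H, g ^ p = 1 := fun g hg => pow_eq_one_of_not_mem p g hg
  obtain ⟨y, hy⟩ : ∃ y, y ∉ H := by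
    by_contra h
    push Not at h
    exact hH (eq_top_iff.2 (fun g _ => h g))
  have hnil : Group.IsNilpotent H :=
    isNilpotent_of_split _ hp (isSplit_conj p H hout H le_rfl y hy)
  refine ⟨hnil, ?_⟩
  -- `G / H` has exponent `p`
  have hexp : ∀ x : G ⧸ H, x ^ p = 1 := by
    intro x
    obtain ⟨g, rfl⟩ := QuotientGroup.mk_surjective x
    by_cases hg : g ∈ H
    · rw [(QuotientGroup.eq_one_iff g).2 hg, one_pow]
    · rw [← QuotientGroup.mk_pow, hout g hg, QuotientGroup.mk_one]
  have hQp : IsPGroup p (G ⧸ H) := fun x => ⟨1, by rw [pow_one]; exact hexp x⟩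
  obtain ⟨a, ha⟩ := IsPGroup.iff_card.mp hQp
  have hidx : H.index = p ^ a := by rw [Subgroup.index_eq_card, ha]
  -- a prime `q ≠ p` dividing `|H|`
  have hex : ∃ q, q.Prime ∧ q ≠ p ∧ q ∣ Nat.card H := by
    by_contra hno
    push Not at hno
    apply hG
    have hcard : Nat.card G = Nat.card H * p ^ a := by
      rw [← hidx]; exact (Subgroup.card_mul_index H).symm
    have huniq : ∀ {r : ℕ}, r.Prime → r ∣ Nat.card G → r = p := by
      intro r hr hrd
      rw [hcard] at hrd
      rcases (Nat.Prime.dvd_mul hr).1 hrd with h1 | h1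
      · by_contra hne
        exact hno r hr hne h1
      · exact (Nat.prime_dvd_prime_iff_eq hr hp).1 (hr.dvd_of_dvd_pow h1)
    exact IsPGroup.of_card (Nat.eq_prime_pow_of_unique_prime_dvd Nat.card_pos.ne' huniq)
  obtain ⟨q, hq, hqp, hqH⟩ := hex
  haveI : Fact q.Prime := ⟨hq⟩
  obtain ⟨Q⟩ : Nonempty (Sylow q H) := inferInstance
  have hSyl := ((Group.isNilpotent_of_finite_tfae (G := ↥H)).out 0 3).mp hnil
  haveI hQn : (Q : Subgroup H).Normal := hSyl q inferInstance Q
  set Q₀ : Subgroup G := (Q : Subgroup H).map H.subtype with hQ₀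
  haveI hQ₀n : Q₀.Normal := sylow_map_normal H q Q
  have hQ₀1 : Q₀ ≠ ⊥ := by
    intro h
    have h1 : (Q : Subgroup H) = ⊥ :=
      (Subgroup.map_eq_bot_iff_of_injective _ H.subtype_injective).1 h
    exact Q.ne_bot_of_dvd_card hqH h1
  have hQ₀q : IsPGroup q Q₀ := Q.2.map _
  set V := zsub Q₀ with hVdef
  haveI hVn : V.Normal := zsub_normal Q₀
  have hV1 : V ≠ ⊥ := zsub_ne_bot Q₀ hQ₀1 hQ₀q.isNilpotent
  have hVq : IsPGroup q V := hQ₀q.to_le inf_le_left
  have hVH : V ≤ H := by
    intro v hv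
    obtain ⟨u, -, rfl⟩ := hv.1
    exact u.2
  -- elements outside `H` act without fixed points on `V`
  have hfpf : ∀ z ∉ H, ∀ v ∈ V, z * v = v * z → v = 1 := by
    intro z hz v hv hcomm
    have h1 : v * z ∉ H := by
      intro h
      apply hz
      have h2 := H.mul_mem (H.inv_mem (hVH hv)) h
      rwa [inv_mul_cancel_left] at h2
    have h2 := hout _ h1
    have h3 : (v * z) ^ p = v ^ p * z ^ p := Commute.mul_pow (show Commute v z from hcomm.symm) p
    rw [h3, hout z hz, mul_one] at h2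
    obtain ⟨k, hk⟩ := hVq ⟨v, hv⟩
    have h4 : v ^ q ^ k = 1 := congrArg Subtype.val hk
    have h5 : orderOf v ∣ p := orderOf_dvd_of_pow_eq_one h2
    have h6 : orderOf v ∣ q ^ k := orderOf_dvd_of_pow_eq_one h4
    have h7 : Nat.Coprime p (q ^ k) :=
      Nat.Coprime.pow_right k ((Nat.coprime_primes hp hq).2 hqp.symm)
    exact orderOf_eq_one_iff.1 (Nat.eq_one_of_dvd_coprimes h7 h5 h6)
  by_contra hne
  have ha2 : 2 ≤ a := by
    rcases a with _ | _ | a
    · exfalso
      rw [pow_zero] at hidx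
      exact hH (Subgroup.index_eq_one.1 hidx)
    · exfalso
      rw [zero_add, pow_one] at hidx
      exact hne hidx
    · omega
  haveI : Nontrivial (G ⧸ H) := by
    rw [← Finite.one_lt_card_iff_nontrivial, ha]
    exact Nat.one_lt_pow (by omega) hp.one_lt
  have hcn := hQp.center_nontrivial
  obtain ⟨cb, hcb⟩ := exists_ne (1 : Subgroup.center (G ⧸ H))
  obtain ⟨c, hc⟩ := QuotientGroup.mk_surjective (cb : G ⧸ H)
  have hcH : c ∉ H := by
    intro h
    apply hcb
    apply Subtype.ext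
    rw [← hc]
    exact (QuotientGroup.eq_one_iff c).2 h
  set Nb : Subgroup (G ⧸ H) := Subgroup.zpowers (cb : G ⧸ H) with hNb
  haveI hNbn : Nb.Normal := by
    refine ⟨?_⟩
    intro x hx g
    obtain ⟨m, rfl⟩ := Subgroup.mem_zpowers_iff.1 hx
    have h1 : (cb : G ⧸ H) ^ m ∈ Subgroup.center (G ⧸ H) := Subgroup.zpow_mem _ cb.2 m
    have h2 := Subgroup.mem_center_iff.1 h1 g
    rw [h2, mul_inv_cancel_right]
    exact hx
  set N : Subgroup G := Nb.comap (QuotientGroup.mk' H) with hN
  haveI hNn : N.Normal := hNbn.comap _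
  have hHN : H ≤ N := by
    intro h hh
    show (QuotientGroup.mk' H h) ∈ Nb
    have : QuotientGroup.mk' H h = 1 := (QuotientGroup.eq_one_iff h).2 hh
    rw [this]
    exact Nb.one_mem
  have hcN : c ∈ N := by
    show (QuotientGroup.mk' H c) ∈ Nb
    have : QuotientGroup.mk' H c = (cb : G ⧸ H) := hc
    rw [this]
    exact Subgroup.mem_zpowers _
  have hNtop : N ≠ ⊤ := by
    intro htop
    have h1 : Nb = ⊤ := by
      rw [eq_top_iff]
      intro x _
      obtain ⟨g, rfl⟩ := QuotientGroup.mk_surjective x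
      have : g ∈ N := htop ▸ Subgroup.mem_top g
      exact this
    have h2 : Nat.card Nb = p ^ a := by rw [h1, Subgroup.card_top, ha]
    have h3 : Nat.card Nb ∣ p := by
      rw [hNb, Nat.card_zpowers]
      exact orderOf_dvd_of_pow_eq_one (hexp _)
    rw [h2] at h3
    have h4 := Nat.le_of_dvd hp.pos h3
    have h5 : p ^ 2 ≤ p ^ a := Nat.pow_le_pow_right hp.pos ha2
    have h6 : p < p ^ 2 := by
      have := hp.one_lt
      nlinarith
    omega
  obtain ⟨y', hy'⟩ : ∃ y', y' ∉ N := by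
    by_contra h
    push Not at h
    exact hNtop (eq_top_iff.2 (fun g _ => h g))
  have hsplit := isSplit_conj p H hout N hHN y' hy'
  have hVN : V ≤ N := hVH.trans hHN
  haveI : (V.subgroupOf N).Normal := hVn.subgroupOf N
  have hcen := central_of_split p hp _ hsplit (V.subgroupOf N) ?_ ?_ ?_
  · apply hV1
    rw [Subgroup.eq_bot_iff_forall]
    intro v hv
    apply hfpf c hcH v hv
    have h1 : (⟨v, hVN hv⟩ : N) ∈ Subgroup.center N := hcen (Subgroup.mem_subgroupOf.2 hv)
    have h2 := Subgroup.mem_center_iff.1 h1 ⟨c, hcN⟩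
    exact congrArg Subtype.val h2
  · intro x hx y hy
    apply Subtype.ext
    exact zsub_comm Q₀ x (Subgroup.mem_subgroupOf.1 hx) y (Subgroup.mem_subgroupOf.1 hy)
  · intro v hv
    rw [Subgroup.mem_subgroupOf] at hv ⊢
    exact hVn.conj_mem _ hv y'
  · have h1 : Nat.card (V.subgroupOf N) = Nat.card V :=
      Nat.card_congr (Subgroup.subgroupOfEquivOfLe hVN).toEquiv
    obtain ⟨b, hb⟩ := IsPGroup.iff_card.mp hVq
    have h2 : H.subgroupOf N ≤ Subgroup.centralizer ((V.subgroupOf N : Subgroup N) : Set N) := by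
      intro h hh
      rw [Subgroup.mem_centralizer_iff]
      intro v hv
      apply Subtype.ext
      exact (sylow_center_central H hnil q Q h (Subgroup.mem_subgroupOf.1 hh) v
        (Subgroup.mem_subgroupOf.1 hv)).symm
    have h3 := Subgroup.index_dvd_of_le h2
    have h4 : (H.subgroupOf N).index ∣ p ^ a := by
      rw [← hidx]
      exact Dvd.intro _ (Subgroup.relIndex_mul_index hHN)
    rw [h1, hb]
    exact Nat.Coprime.coprime_dvd_right (h3.trans h4)
      (Nat.Coprime.pow _ _ ((Nat.coprime_primes hq hp).2 hqp))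

end Cfsg.Agent.S4249
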