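import Cfsg.Statements.S4250
import Cfsg.Agent.Lib.Helper29.AlperinSteps

set_option autoImplicit false
open Cfsg

namespace Cfsg.Agent.S4250

open scoped commutatorElement

/-- Let P be a Sylow p-subgroup of a finite group G. Call an intersection H = P ∩ Q with a Sylow p-subgroup Q tame when N_P(H) and N_Q(H) are Sylow p-subgroups of N_G(H). Then P ∩ G′ is generated by [P, N_G(P)] together with the commutator subgroups [P ∩ Q, ⟨x⟩] for all tame intersections P ∩ Q and all p-elements x of N_G(P ∩ Q). -/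
theorem result {G : Type*} [Group G] [Finite G] (p : ℕ) [Fact p.Prime] (P : Sylow p G) :
    (P : Subgroup G) ⊓ commutator G =
      ⁅(P : Subgroup G), Subgroup.normalizer ((P : Subgroup G) : Set G)⁆ ⊔
        ⨆ (Q : Sylow p G) (_ : (¬ p ∣ ((P : Subgroup G) ⊓ Subgroup.normalizer (((P : Subgroup G) ⊓ (Q : Subgroup G) : Subgroup G) : Set G)).relIndex (Subgroup.normalizer (((P : Subgroup G) ⊓ (Q : Subgroup G) : Subgroup G) : Set G)) ∧ ¬ p ∣ ((Q : Subgroup G) ⊓ Subgroup.normalizer (((P : Subgroup G) ⊓ (Q : Subgroup G) : Subgroup G) : Set G)).relIndex (Subgroup.normalizer (((P : Subgroup G) ⊓ (Q : Subgroup G) : Subgroup G) : Set G))))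
          (x : G) (_ : x ∈ Subgroup.normalizer (((P : Subgroup G) ⊓ (Q : Subgroup G) : Subgroup G) : Set G) ∧ ∃ k : ℕ, orderOf x = p ^ k),
          ⁅(P : Subgroup G) ⊓ (Q : Subgroup G), Subgroup.zpowers x⁆ := by
  apply le_antisymm
  · -- focal subgroup theorem + Alperin
    rw [inf_comm, Subgroup.commutator_inf_eq_focalSubgroup, Subgroup.focalSubgroup_def,
      Subgroup.closure_le]
    rintro w ⟨hwP, x, hxP, u, rfl⟩
    rw [SetLike.mem_coe]
    -- `a = x⁻¹`, `g = u⁻¹`
    have haP : x⁻¹ ∈ (P : Subgroup G) := Subgroup.inv_mem _ hxP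
    have hag : (u⁻¹)⁻¹ * x⁻¹ * u⁻¹ ∈ (P : Subgroup G) := by
      have h1 : x⁻¹ * ⁅x, u⁆ ∈ (P : Subgroup G) := Subgroup.mul_mem _ haP hwP
      have e : x⁻¹ * ⁅x, u⁆ = (u⁻¹)⁻¹ * x⁻¹ * u⁻¹ := by
        rw [commutatorElement_def]; group
      rwa [e] at h1
    obtain ⟨n, Q, xs, y, hy0, hyn, hstep⟩ :=
      Cfsg.Agent.Lib.Helper29.alperin_steps P x⁻¹ u⁻¹ haP hag
    have key : ∀ i : ℕ, i ≤ n → (x⁻¹)⁻¹ * y i ∈
        ⁅(P : Subgroup G), Subgroup.normalizer ((P : Subgroup G) : Set G)⁆ ⊔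
        ⨆ (Q : Sylow p G) (_ : (¬ p ∣ ((P : Subgroup G) ⊓ Subgroup.normalizer (((P : Subgroup G) ⊓ (Q : Subgroup G) : Subgroup G) : Set G)).relIndex (Subgroup.normalizer (((P : Subgroup G) ⊓ (Q : Subgroup G) : Subgroup G) : Set G)) ∧ ¬ p ∣ ((Q : Subgroup G) ⊓ Subgroup.normalizer (((P : Subgroup G) ⊓ (Q : Subgroup G) : Subgroup G) : Set G)).relIndex (Subgroup.normalizer (((P : Subgroup G) ⊓ (Q : Subgroup G) : Subgroup G) : Set G))))
          (x : G) (_ : x ∈ Subgroup.normalizer (((P : Subgroup G) ⊓ (Q : Subgroup G) : Subgroup G) : Set G) ∧ ∃ k : ℕ, orderOf x = p ^ k),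
          ⁅(P : Subgroup G) ⊓ (Q : Subgroup G), Subgroup.zpowers x⁆ := by
      intro i
      induction i with
      | zero =>
        intro _
        rw [hy0, inv_mul_cancel]
        exact Subgroup.one_mem _
      | succ i ih =>
        intro hi
        have hi' : i < n := by omega
        have h1 := ih (by omega)
        obtain ⟨ht1, ht2, hxN, hor, hyD, hynext⟩ := hstep ⟨i, hi'⟩
        simp only at ht1 ht2 hxN hor hyD hynext
        generalize (⟨i, hi'⟩ : Fin n) = j at ht1 ht2 hxN hor hyD hynext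
        have e : (x⁻¹)⁻¹ * y (i + 1) = ((x⁻¹)⁻¹ * y i) * ⁅(y i)⁻¹, (xs j)⁻¹⁆ := by
          rw [hynext, commutatorElement_def]; group
        rw [e]
        refine Subgroup.mul_mem _ h1 ?_
        have hc : ⁅(y i)⁻¹, (xs j)⁻¹⁆ ∈ ⁅(P : Subgroup G) ⊓ (Q j : Subgroup G), Subgroup.zpowers (xs j)⁆ :=
          Subgroup.commutator_mem_commutator (Subgroup.inv_mem _ hyD)
            (Subgroup.inv_mem _ (Subgroup.mem_zpowers _))
        rcases hor with hQP | hpel
        · apply Subgroup.mem_sup_left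
          rw [hQP, inf_idem] at hc hxN
          exact Subgroup.commutator_mono le_rfl ((Subgroup.zpowers_le).mpr hxN) hc
        · apply Subgroup.mem_sup_right
          apply Subgroup.mem_iSup_of_mem (Q j)
          apply Subgroup.mem_iSup_of_mem (⟨ht1, ht2⟩ : _ ∧ _)
          apply Subgroup.mem_iSup_of_mem (xs j)
          apply Subgroup.mem_iSup_of_mem (⟨hxN, hpel⟩ : _ ∧ _)
          exact hc
    have := key n le_rfl
    rw [hyn] at this
    have e : ⁅x, u⁆ = (x⁻¹)⁻¹ * ((u⁻¹)⁻¹ * x⁻¹ * u⁻¹) := by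
      rw [commutatorElement_def]; group
    rw [e]; exact this
  · apply sup_le
    · apply le_inf
      · rw [Subgroup.commutator_le]
        intro a ha b hb
        have h1 : b * a⁻¹ * b⁻¹ ∈ (P : Subgroup G) :=
          (Subgroup.mem_normalizer_iff.mp hb a⁻¹).mp (Subgroup.inv_mem _ ha)
        have e : ⁅a, b⁆ = a * (b * a⁻¹ * b⁻¹) := by rw [commutatorElement_def]; group
        rw [e]; exact Subgroup.mul_mem _ ha h1
      · rw [_root_.commutator_def]
        exact Subgroup.commutator_mono le_top le_top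
    · apply iSup_le; intro Q
      apply iSup_le; intro _
      apply iSup_le; intro x
      apply iSup_le; intro hx
      apply le_inf
      · rw [Subgroup.commutator_le]
        intro a ha b hb
        have hbN : b ∈ Subgroup.normalizer (((P : Subgroup G) ⊓ (Q : Subgroup G) : Subgroup G) : Set G) :=
          (Subgroup.zpowers_le.mpr hx.1) hb
        have h1 : b * a⁻¹ * b⁻¹ ∈ (P : Subgroup G) ⊓ (Q : Subgroup G) :=
          (Subgroup.mem_normalizer_iff.mp hbN a⁻¹).mp (Subgroup.inv_mem _ ha)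
        have e : ⁅a, b⁆ = a * (b * a⁻¹ * b⁻¹) := by rw [commutatorElement_def]; group
        rw [e]; exact (Subgroup.mul_mem _ ha h1).1
      · rw [_root_.commutator_def]
        exact Subgroup.commutator_mono le_top le_top

end Cfsg.Agent.S4250
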