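import Cfsg.Statements.S4251
import Cfsg.Agent.Lib.Helper29.AlperinSteps
import Cfsg.Agent.Lib.Helper29.HallTransfer

set_option autoImplicit false
open Cfsg

namespace Cfsg.Agent.S4251

/-- Let P be a Sylow p-subgroup of a finite group G. Call an intersection H = P ∩ Q with a Sylow p-subgroup Q tame when N_P(H) and N_Q(H) are Sylow p-subgroups of N_G(H). If N_G(H)/C_G(H) is a p-group for every nontrivial tame intersection H = P ∩ Q, then G has a normal p-complement. -/
theorem result {G : Type*} [Group G] [Finite G] (p : ℕ) [Fact p.Prime] (P : Sylow p G)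
    (h : ∀ Q : Sylow p G, (P : Subgroup G) ⊓ (Q : Subgroup G) ≠ ⊥ → (¬ p ∣ ((P : Subgroup G) ⊓ Subgroup.normalizer (((P : Subgroup G) ⊓ (Q : Subgroup G) : Subgroup G) : Set G)).relIndex (Subgroup.normalizer (((P : Subgroup G) ⊓ (Q : Subgroup G) : Subgroup G) : Set G)) ∧ ¬ p ∣ ((Q : Subgroup G) ⊓ Subgroup.normalizer (((P : Subgroup G) ⊓ (Q : Subgroup G) : Subgroup G) : Set G)).relIndex (Subgroup.normalizer (((P : Subgroup G) ⊓ (Q : Subgroup G) : Subgroup G) : Set G))) →
      IsPGroup p (Subgroup.normalizer (((P : Subgroup G) ⊓ (Q : Subgroup G) : Subgroup G) : Set G) ⧸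
        (Subgroup.centralizer (((P : Subgroup G) ⊓ (Q : Subgroup G) : Subgroup G) : Set G)).subgroupOf
          (Subgroup.normalizer (((P : Subgroup G) ⊓ (Q : Subgroup G) : Subgroup G) : Set G)))) :
    Cfsg.HasNormalPComplement p G := by
  have hfus : ∀ a ∈ (P : Subgroup G), ∀ g : G, g⁻¹ * a * g ∈ (P : Subgroup G) →
      ∃ u ∈ (P : Subgroup G), u⁻¹ * a * u = g⁻¹ * a * g := by
    intro a ha g hag
    obtain ⟨n, Q, xs, y, hy0, hyn, hstep⟩ := Cfsg.Agent.Lib.Helper29.alperin_steps P a g ha hag
    have key : ∀ i : ℕ, i ≤ n → ∃ u ∈ (P : Subgroup G), y i = u⁻¹ * a * u := by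
      intro i
      induction i with
      | zero =>
        intro _
        exact ⟨1, Subgroup.one_mem _, by rw [hy0]; simp⟩
      | succ i ih =>
        intro hi
        obtain ⟨u, hu, hyu⟩ := ih (by omega)
        have hi' : i < n := by omega
        obtain ⟨ht1, ht2, hxN, _, hyD, hynext⟩ := hstep ⟨i, hi'⟩
        simp only at ht1 ht2 hxN hyD hynext
        generalize (⟨i, hi'⟩ : Fin n) = j at ht1 ht2 hxN hyD hynext
        by_cases hD : (P : Subgroup G) ⊓ (Q j : Subgroup G) = ⊥
        · rw [hD, Subgroup.mem_bot] at hyD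
          have ha1 : a = 1 := by
            have h1 : u⁻¹ * a * u = 1 := by rw [← hyu, hyD]
            have := congrArg (fun t => u * t * u⁻¹) h1
            simpa [mul_assoc] using this
          refine ⟨1, Subgroup.one_mem _, ?_⟩
          rw [hynext, hyD, ha1]; simp
        · have hpg := h (Q j) hD ⟨ht1, ht2⟩
          -- the Sylow subgroup `N_P(D)` of `N_G(D)`
          have hRp : IsPGroup p (((P : Subgroup G) ⊓ Subgroup.normalizer
              ((((P : Subgroup G) ⊓ (Q j : Subgroup G)) : Subgroup G) : Set G)).subgroupOf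
              (Subgroup.normalizer ((((P : Subgroup G) ⊓ (Q j : Subgroup G)) :
                Subgroup G) : Set G))) :=
            (P.2.to_le inf_le_left).comap_subtype
          obtain ⟨r, hr, hcr⟩ := Cfsg.Agent.Lib.Helper29.exists_mul_inv_mem_of_isPGroup_quotient _ hpg
            (hRp.toSylow ht1) ⟨xs j, hxN⟩
          have hrP : (r : G) ∈ (P : Subgroup G) := by
            have h' : r ∈ ((P : Subgroup G) ⊓ Subgroup.normalizer
              ((((P : Subgroup G) ⊓ (Q j : Subgroup G)) : Subgroup G) : Set G)).subgroupOf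
              (Subgroup.normalizer ((((P : Subgroup G) ⊓ (Q j : Subgroup G)) :
                Subgroup G) : Set G)) := hr
            rw [Subgroup.mem_subgroupOf] at h'
            exact h'.1
          rw [Subgroup.mem_subgroupOf] at hcr
          have hc : y i * (xs j * (r : G)⁻¹) = (xs j * (r : G)⁻¹) * y i := by
            have := (Subgroup.mem_centralizer_iff.mp hcr) (y i) hyD
            simpa using this
          refine ⟨u * r, Subgroup.mul_mem _ hu hrP, ?_⟩
          rw [hynext]
          have e1 : (xs j)⁻¹ * y i * xs j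
              = (r : G)⁻¹ * ((xs j * (r : G)⁻¹)⁻¹ * (y i * (xs j * (r : G)⁻¹))) * r := by
            group
          rw [e1, hc, hyu]
          group
    obtain ⟨u, hu, hyu⟩ := key n le_rfl
    exact ⟨u, hu, by rw [← hyu, hyn]⟩
  obtain ⟨N, hNn, hN⟩ := Cfsg.Agent.Lib.Helper29.exists_normal_complement_of_control_fusion
    (P : Subgroup G) P.2.isNilpotent P.card_coprime_index hfus
  exact ⟨P, N, hNn, hN⟩

end Cfsg.Agent.S4251
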