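import Cfsg.Statements.S4252
-- import your own Cfsg.Agent.* helpers here


set_option autoImplicit false
open Cfsg

namespace Cfsg.Agent.S4252

open scoped Pointwise in
theorem mem_conj_smul_stabilizer_iff {G Ω : Type*} [Group G] [MulAction G Ω] (g x : G) (α : Ω) :
    x ∈ MulAut.conj g • MulAction.stabilizer G α ↔ x • (g • α) = g • α := by
  rw [Subgroup.mem_pointwise_smul_iff_inv_smul_mem, ← map_inv, MulAut.smul_def, MulAut.conj_apply,
    MulAction.mem_stabilizer_iff, inv_inv, mul_smul, mul_smul, inv_smul_eq_iff]

/-- Let a finite group G act on a finite set Ω with more than one point, transitively but not regularly, so that no non-identity element of G fixes two distinct points. Then the stabilizer H of any point is a Frobenius complement in G (nontrivial, proper, meeting its other conjugates trivially), and the Frobenius kernel of G with respect to H (the identity together with the elements lying in no conjugate of H) is exactly the set consisting of the identity and the elements fixing no point. -/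
theorem result {G Ω : Type*} [Group G] [Finite G] [Fintype Ω] [MulAction G Ω] (hΩ : 1 < Fintype.card Ω)
    (htrans : ∀ α β : Ω, ∃ g : G, g • α = β) (hnreg : ∃ g : G, g ≠ 1 ∧ ∃ α : Ω, g • α = α)
    (hfix : ∀ g : G, g ≠ 1 → ∀ α β : Ω, g • α = α → g • β = β → α = β) (α : Ω) :
    Cfsg.IsFrobeniusComplement (MulAction.stabilizer G α) ∧
      Cfsg.frobeniusKernel (MulAction.stabilizer G α) = {g : G | g = 1 ∨ ∀ ω : Ω, g • ω ≠ ω} := by
  classical
  refine ⟨⟨?_, ?_, ?_⟩, ?_⟩
  · -- H ≠ ⊥
    obtain ⟨g, hg1, β, hgβ⟩ := hnreg
    obtain ⟨x, hx⟩ := htrans β α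
    intro hbot
    have hmem : x * g * x⁻¹ ∈ MulAction.stabilizer G α := by
      rw [MulAction.mem_stabilizer_iff, mul_smul, mul_smul]
      have : x⁻¹ • α = β := by rw [← hx, inv_smul_smul]
      rw [this, hgβ, hx]
    rw [hbot, Subgroup.mem_bot] at hmem
    apply hg1
    have : g = x⁻¹ * (x * g * x⁻¹) * x := by group
    rw [this, hmem]; group
  · -- H ≠ ⊤
    intro htop
    obtain ⟨β, hβ⟩ : ∃ β : Ω, β ≠ α := by
      by_contra hcon
      push Not at hcon
      have : Fintype.card Ω ≤ 1 := Fintype.card_le_one_iff.mpr (fun a b => (hcon a).trans (hcon b).symm)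
      omega
    obtain ⟨g, hg⟩ := htrans α β
    have : g ∈ MulAction.stabilizer G α := by rw [htop]; trivial
    rw [MulAction.mem_stabilizer_iff] at this
    exact hβ (hg.symm.trans this)
  · -- TI
    intro g hg
    rw [eq_bot_iff]
    intro h hh
    rw [Subgroup.mem_bot]
    rw [Subgroup.mem_inf] at hh
    obtain ⟨h1, h2⟩ := hh
    rw [mem_conj_smul_stabilizer_iff] at h2
    rw [MulAction.mem_stabilizer_iff] at h1 hg
    by_contra hne
    exact hg (hfix h hne α (g • α) h1 h2).symm
  · ext x
    simp only [Cfsg.frobeniusKernel, Set.mem_ofPred_eq]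
    constructor
    · rintro (h | h)
      · exact Or.inl h
      · right
        intro ω hω
        obtain ⟨g, hg⟩ := htrans α ω
        apply h g
        rw [mem_conj_smul_stabilizer_iff, hg, hω]
    · rintro (h | h)
      · exact Or.inl h
      · right
        intro g hg
        rw [mem_conj_smul_stabilizer_iff] at hg
        exact h _ hg

end Cfsg.Agent.S4252
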