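import Cfsg.Statements.S4253
-- import your own Cfsg.Agent.* helpers here

set_option autoImplicit false
open Cfsg

namespace Cfsg.Agent.S4253

/-- Let H be a Frobenius complement in a finite group G (a nontrivial proper subgroup meeting each conjugate gHg⁻¹ with g outside H trivially). Then in the action of G on the left cosets of H by left multiplication, no non-identity element of G fixes two distinct cosets. -/
theorem result {G : Type*} [Group G] [Finite G] (H : Subgroup G) (hH : Cfsg.IsFrobeniusComplement H)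
    (g : G) (hg : g ≠ 1) (a b : G ⧸ H) (ha : g • a = a) (hb : g • b = b) : a = b := by
  classical
  obtain ⟨_, _, hTI⟩ := hH
  induction a using QuotientGroup.induction_on with
  | H x =>
  induction b using QuotientGroup.induction_on with
  | H y =>
  have hx : (g * x)⁻¹ * x ∈ H := by
    have : ((g * x : G) : G ⧸ H) = (x : G ⧸ H) := ha
    exact QuotientGroup.eq.mp this
  have hy : (g * y)⁻¹ * y ∈ H := by
    have : ((g * y : G) : G ⧸ H) = (y : G ⧸ H) := hb
    exact QuotientGroup.eq.mp this
  rw [QuotientGroup.eq]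
  by_contra hxy
  have h := hTI (x⁻¹ * y) hxy
  have h1 : x⁻¹ * g * x ∈ H := by
    have := H.inv_mem hx
    have e : ((g * x)⁻¹ * x)⁻¹ = x⁻¹ * g * x := by group
    rwa [e] at this
  open scoped Pointwise in
  have h2 : x⁻¹ * g * x ∈ MulAut.conj (x⁻¹ * y) • H := by
    rw [Subgroup.mem_pointwise_smul_iff_inv_smul_mem]
    have := H.inv_mem hy
    have e : ((g * y)⁻¹ * y)⁻¹ = y⁻¹ * g * y := by group
    rw [e] at this
    have e2 : (MulAut.conj (x⁻¹ * y))⁻¹ • (x⁻¹ * g * x) = y⁻¹ * g * y := by
      rw [← map_inv, MulAut.smul_def, MulAut.conj_apply]; group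
    rwa [e2]
  open scoped Pointwise in
  have h3 : x⁻¹ * g * x ∈ H ⊓ MulAut.conj (x⁻¹ * y) • H := ⟨h1, h2⟩
  rw [h, Subgroup.mem_bot] at h3
  apply hg
  have : g = x * (x⁻¹ * g * x) * x⁻¹ := by group
  rw [this, h3]; group

end Cfsg.Agent.S4253
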