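import Cfsg.Statements.S4255
import Cfsg.Agent.Lib.Helper17.ClassGraph5

set_option autoImplicit false
open Cfsg

namespace Cfsg.Agent.S4255

open Cfsg.Agent.Lib.Helper17.ClassGraph

/-- Let G be a finite group. Call a prime a vertex if it divides some conjugacy class size of G, and two distinct vertices adjacent if their product divides some class size. Suppose this graph is disconnected: the vertices split into two nonempty parts with no vertex of one part adjacent to a vertex of the other. Then G/Z(G) is a Frobenius group with abelian Frobenius complement and with a Frobenius kernel all of whose elements commute. -/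
theorem result {G : Type*} [Group G] [Finite G] (S : Set ℕ) (hS : ∃ p ∈ S, (p.Prime ∧ ∃ g : G, p ∣ (Subgroup.centralizer ({g} : Set G)).index)) (hS' : ∃ q ∉ S, (q.Prime ∧ ∃ g : G, q ∣ (Subgroup.centralizer ({g} : Set G)).index))
    (hdisc : ∀ p q : ℕ, (p.Prime ∧ ∃ g : G, p ∣ (Subgroup.centralizer ({g} : Set G)).index) → (q.Prime ∧ ∃ g : G, q ∣ (Subgroup.centralizer ({g} : Set G)).index) → p ∈ S → q ∉ S → ¬ (∃ g : G, p * q ∣ (Subgroup.centralizer ({g} : Set G)).index)) :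
    ∃ H : Subgroup (G ⧸ Subgroup.center G), Cfsg.IsFrobeniusComplement H ∧ IsMulCommutative H ∧
      ∀ x ∈ Cfsg.frobeniusKernel H, ∀ y ∈ Cfsg.frobeniusKernel H, x * y = y * x := by
  classical
  have hno : ∀ (g : G) (p q : ℕ), p ∈ S → p.Prime → p ∣ ind g → q ∉ S → q.Prime → q ∣ ind g →
      False := by
    intro g p q hpS hp hpg hqS hq hqg
    have hne : p ≠ q := fun h => hqS (h ▸ hpS)
    have hcop : p.Coprime q := (Nat.coprime_primes hp hq).mpr hne
    exact hdisc p q ⟨hp, g, hpg⟩ ⟨hq, g, hqg⟩ hpS hqS ⟨g, hcop.mul_dvd_of_dvd_of_dvd hpg hqg⟩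
  have hsplit : Split (fun g : G => ∃ p : ℕ, p ∈ S ∧ p.Prime ∧ p ∣ ind g)
      (fun g : G => ∃ q : ℕ, q ∉ S ∧ q.Prime ∧ q ∣ ind g) := by
    refine ⟨?_, ?_, ?_, ?_, ?_, ?_⟩
    · rintro g g' hd ⟨p, hpS, hp, hpg⟩
      exact ⟨p, hpS, hp, dvd_trans hpg hd⟩
    · rintro g g' hd ⟨p, hpS, hp, hpg⟩
      exact ⟨p, hpS, hp, dvd_trans hpg hd⟩
    · rintro x b ⟨p, hpS, hp, hpx⟩ ⟨q, hqS, hq, hqb⟩
      apply Nat.coprime_of_dvd
      intro k hk hkx hkb
      by_cases hkS : k ∈ S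
      · exact hno b k q hkS hk hkb hqS hq hqb
      · exact hno x p k hpS hp hpx hkS hk hkx
    · intro g hg
      obtain ⟨r, hr, hrg⟩ := Nat.exists_prime_and_dvd hg
      by_cases hrS : r ∈ S
      · exact Or.inl ⟨r, hrS, hr, hrg⟩
      · exact Or.inr ⟨r, hrS, hr, hrg⟩
    · rintro g ⟨p, _, hp, hpg⟩ h1
      rw [h1] at hpg
      exact hp.one_lt.ne' (Nat.dvd_one.mp hpg)
    · rintro g ⟨p, _, hp, hpg⟩ h1
      rw [h1] at hpg
      exact hp.one_lt.ne' (Nat.dvd_one.mp hpg)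
  have hA : ∃ a : G, ∃ p : ℕ, p ∈ S ∧ p.Prime ∧ p ∣ ind a := by
    obtain ⟨p, hpS, hp, g, hg⟩ := hS
    exact ⟨g, p, hpS, hp, hg⟩
  have hB : ∃ b : G, ∃ q : ℕ, q ∉ S ∧ q.Prime ∧ q ∣ ind b := by
    obtain ⟨q, hqS, hq, g, hg⟩ := hS'
    exact ⟨g, q, hqS, hq, hg⟩
  exact hsplit.conclusion hA hB

end Cfsg.Agent.S4255
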