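import Cfsg.Statements.S4257
import Cfsg.Agent.Lib.Helper26.CSDMain

set_option autoImplicit false
open Cfsg

namespace Cfsg.Agent.S4257

open Cfsg.Agent.Lib.Helper17.ClassGraph Cfsg.Agent.Lib.Helper26.CSD

/-- Let G be a finite group. Call a prime a vertex if it divides some conjugacy class size of G, and two distinct vertices adjacent if their product divides some class size. If this graph is connected, then its diameter is at most 3: any two distinct vertices p and q are adjacent, or joined through one or two intermediate vertices. -/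
theorem result {G : Type*} [Group G] [Finite G]
    (hconn : ∀ S : Set ℕ, (∃ p ∈ S, (p.Prime ∧ ∃ g : G, p ∣ (Subgroup.centralizer ({g} : Set G)).index)) → (∃ q ∉ S, (q.Prime ∧ ∃ g : G, q ∣ (Subgroup.centralizer ({g} : Set G)).index)) →
      ∃ p q : ℕ, (p.Prime ∧ ∃ g : G, p ∣ (Subgroup.centralizer ({g} : Set G)).index) ∧ (q.Prime ∧ ∃ g : G, q ∣ (Subgroup.centralizer ({g} : Set G)).index) ∧ p ∈ S ∧ q ∉ S ∧ (∃ g : G, p * q ∣ (Subgroup.centralizer ({g} : Set G)).index))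
    (p q : ℕ) (hp : (p.Prime ∧ ∃ g : G, p ∣ (Subgroup.centralizer ({g} : Set G)).index)) (hq : (q.Prime ∧ ∃ g : G, q ∣ (Subgroup.centralizer ({g} : Set G)).index)) (hpq : p ≠ q) :
    (∃ g : G, p * q ∣ (Subgroup.centralizer ({g} : Set G)).index) ∨ (∃ r : ℕ, (r.Prime ∧ ∃ g : G, r ∣ (Subgroup.centralizer ({g} : Set G)).index) ∧ r ≠ p ∧ r ≠ q ∧ (∃ g : G, p * r ∣ (Subgroup.centralizer ({g} : Set G)).index) ∧ (∃ g : G, r * q ∣ (Subgroup.centralizer ({g} : Set G)).index)) ∨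
      (∃ r s : ℕ, (r.Prime ∧ ∃ g : G, r ∣ (Subgroup.centralizer ({g} : Set G)).index) ∧ (s.Prime ∧ ∃ g : G, s ∣ (Subgroup.centralizer ({g} : Set G)).index) ∧ r ≠ p ∧ s ≠ q ∧ r ≠ s ∧ r ≠ q ∧ s ≠ p ∧
        (∃ g : G, p * r ∣ (Subgroup.centralizer ({g} : Set G)).index) ∧ (∃ g : G, r * s ∣ (Subgroup.centralizer ({g} : Set G)).index) ∧ (∃ g : G, s * q ∣ (Subgroup.centralizer ({g} : Set G)).index)) := by
  classical
  by_contra hcon
  rw [not_or, not_or] at hcon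
  obtain ⟨hA1, hA2, hA3⟩ := hcon
  -- product of two distinct primes dividing
  have hmul : ∀ (a b : ℕ) (g : G), a.Prime → b.Prime → a ≠ b → a ∣ ind g → b ∣ ind g →
      a * b ∣ ind g := by
    intro a b g ha hb hab h1 h2
    exact ((Nat.coprime_primes ha hb).mpr hab).mul_dvd_of_dvd_of_dvd h1 h2
  set Sg : Set ℕ := {t | t = p ∨ (t.Prime ∧ t ≠ p ∧ ∃ g : G, p * t ∣ ind g)} with hSg
  set Th : Set ℕ := {t | t = q ∨ (t.Prime ∧ t ≠ q ∧ ∃ g : G, q * t ∣ ind g)} with hTh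
  obtain ⟨hpp, gp, hgp⟩ := hp
  obtain ⟨hqp, gq, hgq⟩ := hq
  have hyp : Hyp G Sg Th p q := by
    refine ⟨?_, hpp, hqp, ?_, ?_, ⟨gp, hgp⟩, ⟨gq, hgq⟩⟩
    · intro g s t hs ht hsp htp hsg htg
      rcases hs with rfl | ⟨-, hsne, g1, hg1⟩
      · rcases ht with rfl | ⟨-, htne, g2, hg2⟩
        · exact hA1 ⟨g, hmul _ _ g hsp htp hpq hsg htg⟩
        · by_cases hts : t = s
          · subst hts
            exact hA1 ⟨g2, by rw [mul_comm]; exact hg2⟩
          · refine hA2 ⟨t, ⟨htp, g, htg⟩, hts, htne, ⟨g, hmul _ _ g hsp htp (Ne.symm hts) hsg htg⟩,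
              ⟨g2, by rw [mul_comm]; exact hg2⟩⟩
      · rcases ht with rfl | ⟨-, htne, g2, hg2⟩
        · by_cases hst : s = t
          · subst hst
            exact hA1 ⟨g1, hg1⟩
          · exact hA2 ⟨s, ⟨hsp, g, hsg⟩, hsne, hst, ⟨g1, hg1⟩, ⟨g, hmul _ _ g hsp htp hst hsg htg⟩⟩
        · by_cases hsq : s = q
          · subst hsq
            exact hA1 ⟨g1, hg1⟩
          · by_cases htp' : t = p
            · subst htp'
              exact hA1 ⟨g2, by rw [mul_comm]; exact hg2⟩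
            · by_cases hst : s = t
              · subst hst
                exact hA2 ⟨s, ⟨hsp, g, hsg⟩, hsne, hsq, ⟨g1, hg1⟩,
                  ⟨g2, by rw [mul_comm]; exact hg2⟩⟩
              · exact hA3 ⟨s, t, ⟨hsp, g, hsg⟩, ⟨htp, g, htg⟩, hsne, htne, hst, hsq, htp',
                  ⟨g1, hg1⟩, ⟨g, hmul _ _ g hsp htp hst hsg htg⟩,
                  ⟨g2, by rw [mul_comm]; exact hg2⟩⟩
    · intro g t ht hpg htg
      by_cases htp : t = p
      · exact Or.inl htp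
      · exact Or.inr ⟨ht, htp, g, hmul _ _ g hpp ht (Ne.symm htp) hpg htg⟩
    · intro g t ht hqg htg
      by_cases htq : t = q
      · exact Or.inl htq
      · exact Or.inr ⟨ht, htq, g, hmul _ _ g hqp ht (Ne.symm htq) hqg htg⟩
  have hpSg : p ∈ Sg := Or.inl rfl
  have hqTh : q ∈ Th := Or.inl rfl
  have hqSg : q ∉ Sg := by
    rintro (h | ⟨-, -, g, hg⟩)
    · exact hpq h.symm
    · exact hA1 ⟨g, hg⟩
  have hpTh : p ∉ Th := by
    rintro (h | ⟨-, -, g, hg⟩)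
    · exact hpq h
    · exact hA1 ⟨g, by rw [mul_comm]; exact hg⟩
  rcases hyp.core with hc | hc
  · obtain ⟨p', q', ⟨hp'p, -⟩, ⟨hq'p, -⟩, hp'S, hq'S, g, hg⟩ :=
      hconn Sg ⟨p, hpSg, hpp, gp, hgp⟩ ⟨q, hqSg, hqp, gq, hgq⟩
    exact hq'S (hc g p' q' hp'S hp'p hq'p (dvd_trans (dvd_mul_right _ _) hg)
      (dvd_trans (dvd_mul_left _ _) hg))
  · obtain ⟨p', q', ⟨hp'p, -⟩, ⟨hq'p, -⟩, hp'S, hq'S, g, hg⟩ :=
      hconn Th ⟨q, hqTh, hqp, gq, hgq⟩ ⟨p, hpTh, hpp, gp, hgp⟩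
    exact hq'S (hc g p' q' hp'S hp'p hq'p (dvd_trans (dvd_mul_right _ _) hg)
      (dvd_trans (dvd_mul_left _ _) hg))

end Cfsg.Agent.S4257
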