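import Cfsg.Statements.S4261
-- import your own Cfsg.Agent.* helpers here
import Cfsg.Agent.Lib.Helper22.Solvable

set_option autoImplicit false
open Cfsg

namespace Cfsg.Agent.S4261

/-- Let M be a maximal subgroup of a finite solvable group G such that x^[G : M] lies in M for every x in G. Then M is normal in G. -/
theorem result {G : Type*} [Group G] [Finite G] (hG : Group.IsSolvable G) (M : Subgroup G) (hM : IsCoatom M)
    (hexp : ∀ x : G, x ^ M.index ∈ M) : M.Normal := by
  classical
  obtain ⟨p, k, hp, hidx⟩ := Cfsg.Agent.Lib.Helper22.exists_prime_pow_index_of_isCoatom hG M hM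
  haveI : Fact p.Prime := ⟨hp⟩
  apply Cfsg.Agent.Lib.Helper22.normal_of_isCoatom_of_coprime_mem M hM p
  intro x hx
  have hmem : x ^ M.index ∈ M := hexp x
  rw [hidx] at hmem
  have hcop : (p ^ k).Coprime (orderOf x) := (Nat.Coprime.pow_left k hx.symm)
  obtain ⟨m, hm⟩ := exists_pow_eq_self_of_coprime hcop
  rw [← hm]
  exact Subgroup.pow_mem _ hmem _

end Cfsg.Agent.S4261
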