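import Cfsg.Statements.S4262
-- import your own Cfsg.Agent.* helpers here
import Cfsg.Agent.S4039
import Cfsg.Agent.S4040

set_option autoImplicit false
open Cfsg

namespace Cfsg.Agent.S4262

open Subgroup in
/-- If `h` and `y` commute and have coprime orders then `h` is a power of `h * y`. -/
theorem exists_pow_mul_eq {G : Type*} [Group G] [Finite G] {h y : G} (hc : Commute h y)
    (hcop : (orderOf h).Coprime (orderOf y)) : ∃ n : ℕ, (h * y) ^ n = h := by
  by_cases h1 : orderOf h = 1
  · refine ⟨0, ?_⟩
    rw [pow_zero]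
    exact (orderOf_eq_one_iff.mp h1).symm
  have hpos : 0 < orderOf h := orderOf_pos h
  have hk : 1 < orderOf h := by omega
  obtain ⟨m, -, hm⟩ := Nat.exists_mul_mod_eq_one_of_coprime hcop.symm hk
  refine ⟨orderOf y * m, ?_⟩
  rw [hc.mul_pow, pow_mul (y), pow_orderOf_eq_one, one_pow, mul_one, ← pow_mod_orderOf, hm, pow_one]

open Subgroup in
/-- If `x ^ a` and `x ^ b` lie in a subgroup for coprime `a`, `b`, then so does `x`. -/
theorem mem_of_pow_mem_of_coprime {G : Type*} [Group G] {H : Subgroup G} {x : G} {a b : ℕ}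
    (hab : Nat.Coprime a b) (ha : x ^ a ∈ H) (hb : x ^ b ∈ H) : x ∈ H := by
  have h1 : ((Nat.gcd a b : ℕ) : ℤ) = a * Nat.gcdA a b + b * Nat.gcdB a b := Nat.gcd_eq_gcd_ab a b
  rw [hab.gcd_eq_one] at h1
  have h2 : x = (x ^ a) ^ (Nat.gcdA a b) * (x ^ b) ^ (Nat.gcdB a b) := by
    rw [← zpow_natCast x a, ← zpow_natCast x b, ← zpow_mul, ← zpow_mul, ← zpow_add, ← h1]
    simp
  rw [h2]
  exact H.mul_mem (H.zpow_mem ha _) (H.zpow_mem hb _)

open Subgroup in
/-- Key step: a noncentral `h` and a commuting element `y` of coprime order: `C(h) ≤ C(y)`. -/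
theorem centralizer_le_of_coprime {G : Type*} [Group G] [Finite G]
    (hG : ∀ g : G, g ∉ center G → IsCoatom (centralizer ({g} : Set G))) {h y : G}
    (hh : h ∉ center G) (hy : y ∈ centralizer ({h} : Set G))
    (hcop : (orderOf h).Coprime (orderOf y)) :
    centralizer ({h} : Set G) ≤ centralizer ({y} : Set G) := by
  by_cases hyZ : y ∈ center G
  · have : centralizer ({y} : Set G) = ⊤ := by
      rw [centralizer_eq_top_iff_subset]
      intro z hz
      rw [Set.mem_singleton_iff] at hz
      rw [hz]; exact hyZ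
    rw [this]; exact le_top
  have hc : Commute h y := (mem_centralizer_singleton_iff.mp hy).symm
  obtain ⟨n, hn⟩ := exists_pow_mul_eq hc hcop
  obtain ⟨n', hn'⟩ := exists_pow_mul_eq hc.symm hcop.symm
  have hyh : y * h = h * y := hc.symm.eq
  rw [hyh] at hn'
  have hhy : h * y ∉ center G := by
    intro hmem
    apply hh
    rw [← hn]
    exact pow_mem hmem n
  have hle : centralizer ({h * y} : Set G) ≤ centralizer ({h} : Set G) := by
    intro g hg
    rw [mem_centralizer_singleton_iff] at hg ⊢
    have : Commute g (h * y) := hg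
    rw [← hn]
    exact (this.pow_right n).eq
  have hle' : centralizer ({h * y} : Set G) ≤ centralizer ({y} : Set G) := by
    intro g hg
    rw [mem_centralizer_singleton_iff] at hg ⊢
    have : Commute g (h * y) := hg
    rw [← hn']
    exact (this.pow_right n').eq
  rcases (hG (h * y) hhy).le_iff.mp hle with h1 | h1
  · exact absurd h1 (hG h hh).1
  · rw [h1]; exact hle'

open Subgroup in
/-- The image of a maximal subgroup containing a normal subgroup `N` is maximal in `G ⧸ N`. -/
theorem isCoatom_map_mk' {G : Type*} [Group G] (N : Subgroup G) [N.Normal] (M : Subgroup G)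
    (hNM : N ≤ M) (hM : IsCoatom M) : IsCoatom (M.map (QuotientGroup.mk' N)) := by
  have hcomap : (M.map (QuotientGroup.mk' N)).comap (QuotientGroup.mk' N) = M := by
    rw [Subgroup.comap_map_eq, QuotientGroup.ker_mk', sup_eq_left.mpr hNM]
  constructor
  · intro h
    apply hM.1
    rw [← hcomap, h, Subgroup.comap_top]
  · intro B hB
    have h1 : M ≤ B.comap (QuotientGroup.mk' N) := by
      rw [← hcomap]; exact Subgroup.comap_mono hB.le
    have h2 : M ≠ B.comap (QuotientGroup.mk' N) := by
      intro h
      apply hB.ne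
      rw [h, Subgroup.map_comap_eq_self_of_surjective (QuotientGroup.mk'_surjective N)]
    have h3 := hM.2 _ (lt_of_le_of_ne h1 h2)
    rw [← Subgroup.map_comap_eq_self_of_surjective (QuotientGroup.mk'_surjective N) B, h3,
      Subgroup.map_top_of_surjective _ (QuotientGroup.mk'_surjective N)]

/-- Let G be a finite group in which the centralizer of every non-central element is a maximal subgroup of G. Then G is solvable. -/
theorem result {G : Type*} [Group G] [Finite G]
    (h : ∀ g : G, g ∉ Subgroup.center G → IsCoatom (Subgroup.centralizer ({g} : Set G))) :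
    Group.IsSolvable G := by
  classical
  have hZsolv : Group.IsSolvable (Subgroup.center G) :=
    Group.isSolvable_of_comm (fun a b => Subtype.ext (Subgroup.mem_center_iff.mp b.2 a))
  have hlift : Group.IsSolvable (G ⧸ Subgroup.center G) → Group.IsSolvable G := by
    intro hq
    exact Group.isSolvable_of_ker_le_range (Subgroup.center G).subtype
      (QuotientGroup.mk' (Subgroup.center G)) (by simp)
  by_cases h2 : ∀ p : ℕ, p.Prime → p ∣ (Subgroup.center G).index → p = 2
  · -- `G ⧸ Z` is a 2-group
    apply hlift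
    have hne : (Subgroup.center G).index ≠ 0 := Subgroup.index_ne_zero_of_finite
    have hcard : Nat.card (G ⧸ Subgroup.center G) = 2 ^ ((Subgroup.center G).index).primeFactorsList.length := by
      rw [← Subgroup.index_eq_card]
      exact Nat.eq_prime_pow_of_unique_prime_dvd hne (fun {d} hd hdvd => h2 d hd hdvd)
    have : Fact (Nat.Prime 2) := ⟨Nat.prime_two⟩
    have hp : IsPGroup 2 (G ⧸ Subgroup.center G) := IsPGroup.of_card hcard
    have := hp.isNilpotent
    infer_instance
  push Not at h2
  obtain ⟨p, hp, hpdvd, hp2⟩ := h2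
  have : Fact p.Prime := ⟨hp⟩
  let P : Sylow p G := default
  have hPZ : ¬ (P : Subgroup G) ≤ Subgroup.center G := fun hle =>
    P.not_dvd_index (hpdvd.trans (Subgroup.index_dvd_of_le hle))
  obtain ⟨h0, hhP, hhZ⟩ := SetLike.not_le_iff_exists.mp hPZ
  obtain ⟨k, hk⟩ := (IsPGroup.iff_orderOf.mp P.2) ⟨h0, hhP⟩
  have hk' : orderOf h0 = p ^ k := by
    rw [← Subgroup.orderOf_mk h0 hhP]; exact hk
  have hM := h h0 hhZ
  have hZM : Subgroup.center G ≤ Subgroup.centralizer ({h0} : Set G) := Subgroup.center_le_centralizer _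
  -- decomposition of the order of an element
  have hdecomp : ∀ m : G, ∃ a t : ℕ, ¬ p ∣ t ∧ orderOf m = p ^ a * t := by
    intro m
    obtain ⟨a, t, ht, hmt⟩ := Nat.exists_eq_pow_mul_and_not_dvd (orderOf_pos m).ne' p hp.ne_one
    exact ⟨a, t, ht, hmt⟩
  by_cases hcase : ∀ y ∈ Subgroup.centralizer ({h0} : Set G), (orderOf y).Coprime p → y ∈ Subgroup.center G
  · -- the image of `C(h0)` in `G ⧸ Z` is a maximal subgroup which is a `p`-group
    apply hlift
    have hcoatom := isCoatom_map_mk' (Subgroup.center G) _ hZM hM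
    have hpg : IsPGroup p ((Subgroup.centralizer ({h0} : Set G)).map (QuotientGroup.mk' (Subgroup.center G))) := by
      rintro ⟨x, hx⟩
      obtain ⟨m, hmM, rfl⟩ := Subgroup.mem_map.mp hx
      obtain ⟨a, t, ht, hmt⟩ := hdecomp m
      refine ⟨a, Subtype.ext ?_⟩
      have h1 : orderOf (m ^ p ^ a) ∣ t := by
        apply orderOf_dvd_of_pow_eq_one
        rw [← pow_mul, ← hmt, pow_orderOf_eq_one]
      have h2 : (orderOf (m ^ p ^ a)).Coprime p :=
        Nat.Coprime.coprime_dvd_left h1 ((Nat.Prime.coprime_iff_not_dvd hp).mpr ht).symm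
      have h3 := hcase _ (pow_mem hmM _) h2
      simp only [Subgroup.coe_pow, Subgroup.coe_one, QuotientGroup.mk'_apply]
      rw [← QuotientGroup.mk_pow]
      exact (QuotientGroup.eq_one_iff _).mpr h3
    have hnil : Group.IsNilpotent ((Subgroup.centralizer ({h0} : Set G)).map (QuotientGroup.mk' (Subgroup.center G))) :=
      hpg.isNilpotent
    have hodd : Odd (Nat.card ((Subgroup.centralizer ({h0} : Set G)).map (QuotientGroup.mk' (Subgroup.center G)))) := by
      obtain ⟨j, hj⟩ := IsPGroup.iff_card.mp hpg
      rw [hj]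
      exact (hp.odd_of_ne_two hp2).pow
    exact Cfsg.Agent.S4040.result _ hcoatom hnil hodd
  · -- `C(h0)` is abelian
    push Not at hcase
    obtain ⟨y, hyM, hycop, hyZ⟩ := hcase
    have hcop1 : (orderOf h0).Coprime (orderOf y) := by
      rw [hk']; exact Nat.Coprime.pow_left k hycop.symm
    have hle := centralizer_le_of_coprime h hhZ hyM hcop1
    have hMy : Subgroup.centralizer ({y} : Set G) = Subgroup.centralizer ({h0} : Set G) := by
      rcases hM.le_iff.mp hle with h1 | h1
      · exact absurd h1 (h y hyZ).1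
      · exact h1
    have hcomm : ∀ m ∈ Subgroup.centralizer ({h0} : Set G), ∀ m' ∈ Subgroup.centralizer ({h0} : Set G),
        m * m' = m' * m := by
      intro m hm m' hm'
      obtain ⟨a, t, ht, hmt⟩ := hdecomp m
      -- `m ^ t` is a `p`-element, `m ^ p ^ a` is a `p'`-element
      have h1 : orderOf (m ^ p ^ a) ∣ t := by
        apply orderOf_dvd_of_pow_eq_one
        rw [← pow_mul, ← hmt, pow_orderOf_eq_one]
      have h1' : orderOf (m ^ t) ∣ p ^ a := by
        apply orderOf_dvd_of_pow_eq_one
        rw [← pow_mul, mul_comm, ← hmt, pow_orderOf_eq_one]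
      have hpt : Nat.Coprime p t := (Nat.Prime.coprime_iff_not_dvd hp).mpr ht
      have hc2 : (orderOf h0).Coprime (orderOf (m ^ p ^ a)) := by
        rw [hk']
        exact Nat.Coprime.coprime_dvd_right h1 (Nat.Coprime.pow_left k hpt)
      have hc1 : (orderOf y).Coprime (orderOf (m ^ t)) :=
        Nat.Coprime.coprime_dvd_right h1' (Nat.Coprime.pow_right a hycop)
      have hle2 := centralizer_le_of_coprime h hhZ (pow_mem hm _) hc2
      have hle1 := centralizer_le_of_coprime h hyZ (hMy ▸ pow_mem hm t) hc1
      rw [hMy] at hle1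
      have hm'1 : m' ∈ Subgroup.centralizer ({m ^ t} : Set G) := hle1 hm'
      have hm'2 : m' ∈ Subgroup.centralizer ({m ^ p ^ a} : Set G) := hle2 hm'
      have hmem : m ∈ Subgroup.centralizer ({m'} : Set G) := by
        apply mem_of_pow_mem_of_coprime (a := t) (b := p ^ a) (Nat.Coprime.pow_right a hpt.symm)
        · rw [Subgroup.mem_centralizer_singleton_iff]
          exact (Subgroup.mem_centralizer_singleton_iff.mp hm'1).symm
        · rw [Subgroup.mem_centralizer_singleton_iff]
          exact (Subgroup.mem_centralizer_singleton_iff.mp hm'2).symm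
      exact Subgroup.mem_centralizer_singleton_iff.mp hmem
    have hcenter : Subgroup.center (Subgroup.centralizer ({h0} : Set G)) = ⊤ := by
      rw [eq_top_iff]
      intro x _
      rw [Subgroup.mem_center_iff]
      intro g
      exact Subtype.ext (hcomm g g.2 x x.2)
    have hucs : Subgroup.upperCentralSeries (Subgroup.centralizer ({h0} : Set G)) 1 = ⊤ := by
      rw [Subgroup.upperCentralSeries_one, hcenter]
    have hnil : Group.IsNilpotent (Subgroup.centralizer ({h0} : Set G)) := ⟨⟨1, hucs⟩⟩
    have hcl : Group.nilpotencyClass (Subgroup.centralizer ({h0} : Set G)) ≤ 2 :=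
      (Subgroup.upperCentralSeries_eq_top_iff_nilpotencyClass_le.mp hucs).trans (by norm_num)
    exact Cfsg.Agent.S4039.result _ hM hnil hcl

end Cfsg.Agent.S4262
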