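import Cfsg.Statements.S4263
-- import your own Cfsg.Agent.* helpers here
import Cfsg.Agent.Lib.Helper22.Basic
import Cfsg.Agent.Lib.Helper1.Fitting
import Cfsg.Agent.S0064
import Cfsg.Agent.S0010

set_option autoImplicit false
open Cfsg

namespace Cfsg.Agent.S4263

/-- Let G be a finite group. An element x lies in the Fitting subgroup F(G) if and only if, for every subgroup H of G, the power x^[G : H] lies in H. -/
theorem result {G : Type*} [Group G] [Finite G] (x : G) :
    x ∈ Cfsg.fittingSubgroup G ↔ ∀ H : Subgroup G, x ^ H.index ∈ H := by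
  classical
  set F := Cfsg.fittingSubgroup G with hF
  have hFn : F.Normal := Cfsg.Agent.Lib.Helper1.fittingSubgroup_normal G
  have hFnil : Group.IsNilpotent F := Cfsg.Agent.Lib.Helper1.fittingSubgroup_isNilpotent G
  constructor
  · intro hx H
    -- H ∩ F is subnormal in F
    have hsub : (H.subgroupOf F).IsSubnormal := (Cfsg.Agent.S0064.result.mp hFnil) _
    have h1 := Cfsg.Agent.Lib.Helper22.IsSubnormal.pow_index_mem hsub ⟨x, hx⟩
    rw [Subgroup.mem_subgroupOf] at h1
    have h2 : x ^ H.relIndex F ∈ H := by
      have h1' : x ^ (H.subgroupOf F).index ∈ H := by simpa using h1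
      exact h1'
    have h3 : H.relIndex F ∣ H.index := by
      have := Cfsg.Agent.Lib.Helper22.IsSubnormal.relIndex_inf_dvd_index
        (Subgroup.Normal.isSubnormal hFn) H
      rwa [Subgroup.inf_relIndex_left] at this
    obtain ⟨k, hk⟩ := h3
    rw [hk, pow_mul]
    exact Subgroup.pow_mem _ h2 _
  · intro h
    set C := Subgroup.zpowers x ⊓ F with hC
    have hdvd : orderOf x ∣ Nat.card C := by
      rw [Nat.dvd_iff_prime_pow_dvd_dvd]
      intro p k hp hpk
      have : Fact p.Prime := ⟨hp⟩
      obtain ⟨P₀⟩ : Nonempty (Sylow p G) := inferInstance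
      set n := (P₀ : Subgroup G).index with hn
      have hidx : ∀ P : Sylow p G, (P : Subgroup G).index = n := by
        intro P
        have h1 := Subgroup.card_mul_index (P : Subgroup G)
        have h2 := Subgroup.card_mul_index (P₀ : Subgroup G)
        rw [Sylow.card_eq_multiplicity] at h1 h2
        have hpos : 0 < p ^ (Nat.card G).factorization p := Nat.pos_of_ne_zero (pow_ne_zero _ hp.ne_zero)
        exact Nat.eq_of_mul_eq_mul_left hpos (h1.trans h2.symm)
      -- y = x ^ n lies in every Sylow p-subgroup, hence in O_p(G) ≤ F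
      have hy : x ^ n ∈ Cfsg.pCore p G := by
        rw [Cfsg.Agent.S0010.result p, Subgroup.mem_iInf]
        intro P
        have := h (P : Subgroup G)
        rwa [hidx P] at this
      have hyF : x ^ n ∈ F := by
        have hle : Cfsg.pCore p G ≤ F :=
          Cfsg.Agent.Lib.Helper1.le_fittingSubgroup (Cfsg.Agent.Lib.Helper1.pCore_normal p G)
            (Cfsg.Agent.Lib.Helper1.pCore_isPGroup p G).isNilpotent
        exact hle hy
      have hyC : x ^ n ∈ C := ⟨Subgroup.pow_mem _ (Subgroup.mem_zpowers x) _, hyF⟩
      have hord : orderOf (x ^ n) ∣ Nat.card C := by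
        have := orderOf_dvd_natCard (⟨x ^ n, hyC⟩ : C)
        rwa [Subgroup.orderOf_mk] at this
      refine dvd_trans ?_ hord
      -- p^k ∣ orderOf (x^n)
      rw [orderOf_pow]
      have hg : (orderOf x).gcd n ∣ orderOf x := Nat.gcd_dvd_left _ _
      obtain ⟨m, hm⟩ := hg
      have hgpos : 0 < (orderOf x).gcd n := Nat.gcd_pos_of_pos_left _ (orderOf_pos x)
      have hdiv : orderOf x / (orderOf x).gcd n = m := by
        nth_rewrite 1 [hm]
        exact Nat.mul_div_cancel_left m hgpos
      rw [hdiv]
      have hpn : ¬ p ∣ n := P₀.not_dvd_index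
      have hcop : (p ^ k).Coprime ((orderOf x).gcd n) := by
        apply Nat.Coprime.pow_left
        rw [Nat.Prime.coprime_iff_not_dvd hp]
        intro hd
        exact hpn (hd.trans (Nat.gcd_dvd_right _ _))
      rw [hm] at hpk
      exact hcop.dvd_of_dvd_mul_left hpk
    have hle : C ≤ Subgroup.zpowers x := inf_le_left
    have hcard : Nat.card (Subgroup.zpowers x) ≤ Nat.card C := by
      rw [Nat.card_zpowers]
      exact Nat.le_of_dvd Nat.card_pos hdvd
    have hCeq : C = Subgroup.zpowers x := Subgroup.eq_of_le_of_card_ge hle hcard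
    have : x ∈ C := by rw [hCeq]; exact Subgroup.mem_zpowers x
    exact this.2

end Cfsg.Agent.S4263
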