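import Cfsg.Statements.S4269
-- import your own Cfsg.Agent.* helpers here
import Mathlib
import Cfsg.Agent.Lib.Helper8.Conj

set_option autoImplicit false
open Cfsg
open scoped commutatorElement

namespace Cfsg.Agent.S4269

/-- Let G be a finite group, V an abelian normal subgroup and H a subgroup with HV = G. Then H is pronormal in G (H and gHg⁻¹ are conjugate inside the subgroup they generate, for every g) if and only if every H-invariant subgroup U of V satisfies U = N_U(H)·[H, U], that is, U is the join of U ∩ N_G(H) and the commutator subgroup [H, U]. -/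
theorem result {G : Type*} [Group G] [Finite G]
    (V : Subgroup G) [V.Normal] (hV : IsMulCommutative ↥V) (H : Subgroup G) (hHV : H ⊔ V = ⊤) :
    Cfsg.IsPronormal H ↔
      ∀ U : Subgroup G, U ≤ V → (∀ h ∈ H, U.map (MulAut.conj h).toMonoidHom = U) →
        U = (U ⊓ Subgroup.normalizer (H : Set G)) ⊔ ⁅H, U⁆ := by
  classical
  have hVcomm : ∀ a ∈ V, ∀ b ∈ V, a * b = b * a := by
    intro a ha b hb
    exact congrArg Subtype.val (hV.is_comm.comm ⟨a, ha⟩ ⟨b, hb⟩)
  have hHself : ∀ h ∈ H, H.map (MulAut.conj h).toMonoidHom = H := fun h hh =>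
    Cfsg.Agent.Lib.Helper8.mem_normalizer_iff_map_conj.1 (Subgroup.le_normalizer hh)
  constructor
  · -- pronormal ⇒ decomposition
    intro hpro U hUV hUinv
    have hcomU : ⁅H, U⁆ ≤ U := by
      rw [Subgroup.commutator_le]
      intro h hh u hu
      have h1 : h * u * h⁻¹ ∈ U := by
        have := Cfsg.Agent.Lib.Helper8.conj_mem_map_conj (A := U) (g := h) hu
        rwa [hUinv h hh] at this
      exact U.mul_mem h1 (U.inv_mem hu)
    have hnorm : H ≤ Subgroup.normalizer ((⁅H, U⁆ : Subgroup G) : Set G) := by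
      intro h hh
      rw [Cfsg.Agent.Lib.Helper8.mem_normalizer_iff_map_conj, Subgroup.map_commutator,
        hHself h hh, hUinv h hh]
    apply le_antisymm
    · intro u hu
      obtain ⟨x, hx, hxe⟩ := hpro u
      have hJ : H ⊔ H.map (MulAut.conj u).toMonoidHom ≤ ⁅H, U⁆ ⊔ H := by
        refine sup_le le_sup_right ?_
        intro y hy
        rw [Cfsg.Agent.Lib.Helper8.mem_map_conj] at hy
        have e : y = ⁅u, u⁻¹ * y * u⁆ * (u⁻¹ * y * u) := by
          rw [commutatorElement_def]; group
        rw [e]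
        refine mul_mem (Subgroup.mem_sup_left ?_) (Subgroup.mem_sup_right hy)
        have h2 : ⁅u, u⁻¹ * y * u⁆ = ⁅u⁻¹ * y * u, u⁆⁻¹ := (commutatorElement_inv _ _).symm
        rw [h2]
        exact inv_mem (Subgroup.commutator_mem_commutator hy hu)
      have hx' : x ∈ ((⁅H, U⁆ ⊔ H : Subgroup G) : Set G) := hJ hx
      rw [Subgroup.coe_mul_of_right_le_normalizer_left _ _ hnorm] at hx'
      obtain ⟨w, hw, h', hh', hxeq⟩ := hx'
      have hxeq' : w * h' = x := hxeq
      subst hxeq'
      have hw' : w ∈ ⁅H, U⁆ := hw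
      have hh'' : h' ∈ H := hh'
      have hn1 : w⁻¹ * u ∈ U := U.mul_mem (U.inv_mem (hcomU hw')) hu
      have hn2 : w⁻¹ * u ∈ Subgroup.normalizer (H : Set G) := by
        rw [Cfsg.Agent.Lib.Helper8.mem_normalizer_iff_map_conj]
        have e : w⁻¹ * u = h' * ((w * h')⁻¹ * u) := by group
        have s1 : H.map (MulAut.conj ((w * h')⁻¹ * u)).toMonoidHom = H := by
          rw [← Cfsg.Agent.Lib.Helper8.map_conj_map_conj H u (w * h')⁻¹, hxe,
            Cfsg.Agent.Lib.Helper8.map_conj_map_conj, inv_mul_cancel,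
            Cfsg.Agent.Lib.Helper8.map_conj_one]
        rw [e, ← Cfsg.Agent.Lib.Helper8.map_conj_map_conj H ((w * h')⁻¹ * u) h', s1,
          hHself h' hh'']
      -- simpler: u = w * (w⁻¹ * u)
      have e2 : u = w * (w⁻¹ * u) := by group
      rw [e2]
      exact mul_mem (Subgroup.mem_sup_right hw') (Subgroup.mem_sup_left ⟨hn1, hn2⟩)
    · exact sup_le inf_le_left hcomU
  · -- decomposition ⇒ pronormal
    intro hyp g
    -- write g = v * h₀
    have hg : g ∈ ((V ⊔ H : Subgroup G) : Set G) := by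
      rw [sup_comm, hHV]; trivial
    rw [Subgroup.normal_mul] at hg
    obtain ⟨v, hv, h₀, hh₀, hgeq⟩ := hg
    have hgeq' : v * h₀ = g := hgeq
    subst hgeq'
    have hv' : v ∈ V := hv
    have hh₀' : h₀ ∈ H := hh₀
    have hcj : H.map (MulAut.conj (v * h₀)).toMonoidHom = H.map (MulAut.conj v).toMonoidHom := by
      rw [← Cfsg.Agent.Lib.Helper8.map_conj_map_conj, hHself h₀ hh₀']
    rw [hcj]
    -- the H-invariant subgroup generated by v
    set U : Subgroup G := Subgroup.closure (Set.range (fun h : H => (h : G) * v * (h : G)⁻¹)) with hU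
    have hUV : U ≤ V := by
      rw [hU, Subgroup.closure_le]
      rintro _ ⟨h, rfl⟩
      exact (inferInstance : V.Normal).conj_mem v hv' h
    have hvU : v ∈ U := by
      apply Subgroup.subset_closure
      exact ⟨1, by simp⟩
    have hUle : ∀ h ∈ H, U.map (MulAut.conj h).toMonoidHom ≤ U := by
      intro h hh
      rw [hU, MonoidHom.map_closure, Subgroup.closure_le]
      rintro _ ⟨_, ⟨h₁, rfl⟩, rfl⟩
      apply Subgroup.subset_closure
      refine ⟨⟨h, hh⟩ * h₁, ?_⟩
      simp only [Subgroup.coe_mul, MulEquiv.coe_toMonoidHom, MulAut.conj_apply]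
      group
    have hUinv : ∀ h ∈ H, U.map (MulAut.conj h).toMonoidHom = U := fun h hh =>
      Cfsg.Agent.Lib.Helper8.map_conj_eq_of_le (hUle h hh)
    have hdec := hyp U hUV hUinv
    -- commutator [H,U] lies in J
    have hcomJ : ⁅H, U⁆ ≤ H ⊔ H.map (MulAut.conj v).toMonoidHom := by
      rw [Subgroup.commutator_le]
      intro h hh u hu
      have hcomV : ∀ u' ∈ V, ⁅h, u'⁆ ∈ V := by
        intro u' hu'
        rw [commutatorElement_def]
        exact V.mul_mem ((inferInstance : V.Normal).conj_mem u' hu' h) (V.inv_mem hu')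
      induction hu using Subgroup.closure_induction with
      | mem u hu =>
        obtain ⟨h₁, rfl⟩ := hu
        have e : ⁅h, (h₁ : G) * v * (h₁ : G)⁻¹⁆ =
            (h * h₁) * (v * ((h₁ : G)⁻¹ * h⁻¹ * h₁) * v⁻¹) * (h₁ : G)⁻¹ := by
          rw [commutatorElement_def]; group
        rw [e]
        refine mul_mem (mul_mem (Subgroup.mem_sup_left (H.mul_mem hh h₁.2)) ?_)
          (Subgroup.mem_sup_left (H.inv_mem h₁.2))
        apply Subgroup.mem_sup_right
        exact Cfsg.Agent.Lib.Helper8.conj_mem_map_conj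
          (H.mul_mem (H.mul_mem (H.inv_mem h₁.2) (H.inv_mem hh)) h₁.2)
      | one =>
        rw [commutatorElement_one_right]; exact one_mem _
      | mul a b ha hb iha ihb =>
        have haV : a ∈ V := hUV ha
        have hbV : b ∈ V := hUV hb
        have e : ⁅h, a * b⁆ = ⁅h, a⁆ * ⁅h, b⁆ := by
          have h1 : ⁅h, a * b⁆ = ⁅h, a⁆ * (a * ⁅h, b⁆ * a⁻¹) := by
            simp only [commutatorElement_def]; group
          have h2 : a * ⁅h, b⁆ * a⁻¹ = ⁅h, b⁆ := by
            rw [hVcomm a haV _ (hcomV b hbV), mul_assoc, mul_inv_cancel, mul_one]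
          rw [h1, h2]
        rw [e]; exact mul_mem iha ihb
      | inv a ha iha =>
        have haV : a ∈ V := hUV ha
        have e : ⁅h, a⁻¹⁆ = ⁅h, a⁆⁻¹ := by
          have h1 : ⁅h, a⁻¹⁆ = a⁻¹ * ⁅h, a⁆⁻¹ * a := by
            simp only [commutatorElement_def]; group
          have h2 : a⁻¹ * ⁅h, a⁆⁻¹ = ⁅h, a⁆⁻¹ * a⁻¹ :=
            hVcomm _ (V.inv_mem haV) _ (V.inv_mem (hcomV a haV))
          rw [h1, h2, mul_assoc, inv_mul_cancel, mul_one]
        rw [e]; exact inv_mem iha
    -- decompose v
    have hnormV : (⁅H, U⁆ : Subgroup G) ≤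
        Subgroup.normalizer (((U ⊓ Subgroup.normalizer (H : Set G) : Subgroup G)) : Set G) := by
      intro w hw
      have hwV : w ∈ V := hUV (by
        have : ⁅H, U⁆ ≤ U := by
          rw [Subgroup.commutator_le]
          intro h hh u hu
          have h1 : h * u * h⁻¹ ∈ U := by
            have := Cfsg.Agent.Lib.Helper8.conj_mem_map_conj (A := U) (g := h) hu
            rwa [hUinv h hh] at this
          exact U.mul_mem h1 (U.inv_mem hu)
        exact this hw)
      rw [Subgroup.mem_normalizer_iff]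
      intro n
      have key : ∀ n ∈ V, w * n * w⁻¹ = n := by
        intro n hn
        rw [hVcomm w hwV n hn, mul_assoc, mul_inv_cancel, mul_one]
      constructor
      · intro hn
        rw [key n (hUV hn.1)]; exact hn
      · intro hn
        have hnV : w * n * w⁻¹ ∈ V := hUV hn.1
        have hnV' : n ∈ V := by
          have := (inferInstance : V.Normal).conj_mem _ hnV w⁻¹
          have e : w⁻¹ * (w * n * w⁻¹) * w⁻¹⁻¹ = n := by group
          rwa [e] at this
        rw [key n hnV'] at hn; exact hn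
    have hvdec : v ∈ (((U ⊓ Subgroup.normalizer (H : Set G)) ⊔ ⁅H, U⁆ : Subgroup G) : Set G) := by
      rw [← hdec]; exact hvU
    rw [Subgroup.coe_mul_of_right_le_normalizer_left _ _ hnormV] at hvdec
    obtain ⟨n, hn, w, hw, hveq⟩ := hvdec
    have hveq' : n * w = v := hveq
    have hn' : n ∈ U ⊓ Subgroup.normalizer (H : Set G) := hn
    have hw' : w ∈ ⁅H, U⁆ := hw
    refine ⟨w, hcomJ hw', ?_⟩
    have hnV : n ∈ V := hUV hn'.1
    have hwV : w ∈ V := by
      have : n * w ∈ V := by rw [hveq']; exact hv'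
      have := V.mul_mem (V.inv_mem hnV) this
      rwa [inv_mul_cancel_left] at this
    rw [← hveq', hVcomm n hnV w hwV, ← Cfsg.Agent.Lib.Helper8.map_conj_map_conj,
      Cfsg.Agent.Lib.Helper8.mem_normalizer_iff_map_conj.1 hn'.2]

end Cfsg.Agent.S4269
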