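-- Statement S4274 (helper20): groups of order 175560 are simple or have a normal Sylow 19-subgroup.
import Cfsg.Statements.S4274
import Cfsg.Agent.Lib.Helper20.J1OrdRed

set_option autoImplicit false
open Cfsg

namespace Cfsg.Agent.S4274

/-- A finite group of order 175560 = 2³·3·5·7·11·19 is either simple or has a normal Sylow 19-subgroup. -/
theorem result {G : Type*} [Group G] [Finite G] (hG : Nat.card G = 175560) : IsSimpleGroup G ∨ ∀ P : Sylow 19 G, (P : Subgroup G).Normal := by
  rcases Cfsg.Agent.Lib.Helper20.J1Ord.main_aux 175560 G hG dvd_rfl with h | ⟨h, -⟩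
  · right
    intro P
    haveI : Fact (Nat.Prime 19) := ⟨by norm_num⟩
    have hPc : Nat.card (P : Subgroup G) = 19 := by
      obtain ⟨k, hk⟩ := IsPGroup.iff_card.mp P.isPGroup'
      have hd : 19 ^ k ∣ 175560 := by
        rw [← hk, ← hG]; exact Subgroup.card_subgroup_dvd_card _
      have h19 : 19 ∣ Nat.card (P : Subgroup G) :=
        P.dvd_card_of_dvd_card (by rw [hG]; norm_num)
      have hk1 : k = 1 := by
        rcases Nat.lt_or_ge k 2 with h2 | h2
        · interval_cases k
          · rw [hk] at h19; norm_num at h19
          · rfl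
        · exfalso
          have : 19 ^ 2 ∣ 175560 := (pow_dvd_pow 19 h2).trans hd
          norm_num at this
      rw [hk, hk1, pow_one]
    refine ⟨fun n hn g => ?_⟩
    have hQc : Nat.card ((P : Subgroup G).map (MulAut.conj g).toMonoidHom) = 19 := by
      rw [Subgroup.card_map_of_injective (MulAut.conj g).injective, hPc]
    have := h _ (P : Subgroup G) hQc hPc
    rw [← this]
    exact ⟨n, hn, rfl⟩
  · left; exact h

end Cfsg.Agent.S4274
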