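import Cfsg.Statements.S4275
-- import your own Cfsg.Agent.* helpers here

set_option autoImplicit false
open Cfsg

namespace Cfsg.Agent.S4275

/-- Let G be a transitive group of permutations of a finite set Ω, let o ∈ Ω, and let α be an automorphism of G. Then α is induced by conjugation by a permutation of Ω normalizing G if and only if the image under α of the stabilizer of o fixes some point of Ω. -/
theorem result {Ω : Type*} [Fintype Ω] (G : Subgroup (Equiv.Perm Ω)) (htr : MulAction.IsPretransitive G Ω) (o : Ω) (α : G ≃* G) : (∃ σ : Equiv.Perm Ω, σ ∈ Subgroup.normalizer (G : Set (Equiv.Perm Ω)) ∧ ∀ g : G, ((α g : G) : Equiv.Perm Ω) = σ * (g : Equiv.Perm Ω) * σ⁻¹) ↔ ∃ ω : Ω, ∀ g ∈ (MulAction.stabilizer G o).map α.toMonoidHom, g • ω = ω := by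
  classical
  constructor
  · rintro ⟨σ, _, hσ⟩
    refine ⟨σ o, ?_⟩
    rintro g ⟨h, hh, rfl⟩
    have hho : ((h : G) : Equiv.Perm Ω) o = o := hh
    change ((α h : G) : Equiv.Perm Ω) (σ o) = σ o
    rw [hσ h]
    simp [hho]
  · rintro ⟨ω, hω⟩
    choose f hf using fun x => htr.exists_smul_eq o x
    let σ0 : Ω → Ω := fun x => α (f x) • ω
    have key : ∀ g : G, σ0 (g • o) = α g • ω := by
      intro g
      have h1 : (f (g • o))⁻¹ * g ∈ MulAction.stabilizer G o := by
        rw [MulAction.mem_stabilizer_iff, mul_smul, inv_smul_eq_iff]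
        exact (hf (g • o)).symm
      have h2 : α ((f (g • o))⁻¹ * g) ∈ (MulAction.stabilizer G o).map α.toMonoidHom :=
        ⟨_, h1, rfl⟩
      have h3 := hω _ h2
      rw [map_mul, map_inv, mul_smul, inv_smul_eq_iff] at h3
      exact h3.symm
    have hequiv : ∀ (g : G) (x : Ω), σ0 (g • x) = α g • σ0 x := by
      intro g x
      have hx : g • x = (g * f x) • o := by rw [mul_smul, hf x]
      rw [hx, key, map_mul, mul_smul]
    have hsurj : Function.Surjective σ0 := by
      intro y
      obtain ⟨k, hk⟩ := htr.exists_smul_eq ω y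
      refine ⟨(α.symm k) • o, ?_⟩
      rw [key, MulEquiv.apply_symm_apply, hk]
    have hinj : Function.Injective σ0 := Finite.injective_iff_surjective.mpr hsurj
    let σ : Equiv.Perm Ω := Equiv.ofBijective σ0 ⟨hinj, hsurj⟩
    have hmain : ∀ g : G, ((α g : G) : Equiv.Perm Ω) = σ * (g : Equiv.Perm Ω) * σ⁻¹ := by
      intro g
      ext y
      have h1 : (σ * (g : Equiv.Perm Ω) * σ⁻¹) y = σ0 (g • (σ.symm y)) := rfl
      rw [h1, hequiv]
      have h2 : σ0 (σ.symm y) = y := σ.apply_symm_apply y
      rw [h2]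
      rfl
    refine ⟨σ, ?_, hmain⟩
    rw [Subgroup.mem_normalizer_iff]
    intro h
    constructor
    · intro hh
      have := hmain ⟨h, hh⟩
      rw [← this]
      exact (α ⟨h, hh⟩).2
    · intro hh
      obtain ⟨g, hg⟩ := α.surjective ⟨_, hh⟩
      have h1 := hmain g
      rw [hg] at h1
      have h2 : h = (g : Equiv.Perm Ω) := by
        have h3 : σ * h * σ⁻¹ = σ * (g : Equiv.Perm Ω) * σ⁻¹ := h1
        have h4 := congrArg (fun z => σ⁻¹ * z * σ) h3
        simpa [mul_assoc] using h4
      rw [h2]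
      exact g.2

end Cfsg.Agent.S4275
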