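import Cfsg.Statements.S4277
import Cfsg.Agent.Lib.Helper27.OddAutG

set_option autoImplicit false
open Cfsg

namespace Cfsg.Agent.S4277

/-- A case of the Schreier conjecture: if a finite simple group G has a subgroup of prime index, then the outer automorphism group of G is solvable. -/
theorem result {G : Type*} [Group G] [Finite G] [IsSimpleGroup G] (H : Subgroup G) (hH : H.index.Prime) : Group.IsSolvable (Cfsg.Out G) := by
  obtain ⟨S, hS, hsup⟩ := Cfsg.Agent.Lib.Helper27.OddAut.exists_solvable_supplement H hH
  let f : S →* Cfsg.Out G := (QuotientGroup.mk' (Cfsg.Inn G)).comp S.subtype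
  have hf : Function.Surjective f := by
    intro q
    induction q using QuotientGroup.induction_on with
    | H α =>
      obtain ⟨g, β, hβ, rfl⟩ := hsup α
      refine ⟨⟨β, hβ⟩, ?_⟩
      change ((β : MulAut G) : Cfsg.Out G) = ((MulAut.conj g * β : MulAut G) : Cfsg.Out G)
      rw [QuotientGroup.mk_mul]
      have : ((MulAut.conj g : MulAut G) : Cfsg.Out G) = 1 :=
        (QuotientGroup.eq_one_iff _).mpr ⟨g, rfl⟩
      rw [this, one_mul]
  exact Group.isSolvable_of_surjective hf

end Cfsg.Agent.S4277
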