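import Cfsg.Statements.S4278
import Cfsg.Agent.Lib.Helper7.OddInvG2
-- import your own Cfsg.Agent.* helpers here

set_option autoImplicit false
open Cfsg

namespace Cfsg.Agent.S4278

/-- In the Chevalley group of type G₂ over a finite field of odd order, any two involutions are conjugate. -/
theorem result {F : Type*} [Field F] [Fintype F] (hF : Odd (Fintype.card F)) (s t : ↥(Cfsg.Lie.chevG2.group F)) (hs : orderOf s = 2) (ht : orderOf t = 2) : IsConj s t := by
  have hodd : Fintype.card F % 2 = 1 := Nat.odd_iff.mp hF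
  have key : ∀ u : ↥(Cfsg.Lie.chevG2.group F), orderOf u = 2 →
      (u : GL Cfsg.Lie.chevG2.Idx F) * (u : GL Cfsg.Lie.chevG2.Idx F) = 1 ∧
        (u : GL Cfsg.Lie.chevG2.Idx F) ≠ 1 := by
    intro u hu
    have h2 : u ^ 2 = 1 := by rw [← hu]; exact pow_orderOf_eq_one u
    have hne : u ≠ 1 := by
      intro h
      rw [h, orderOf_one] at hu
      exact absurd hu (by norm_num)
    refine ⟨?_, ?_⟩
    · have := congrArg (Subtype.val) h2
      rw [pow_two] at this
      exact this
    · intro h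
      apply hne
      exact Subtype.ext h
  obtain ⟨hss, hs1⟩ := key s hs
  obtain ⟨htt, ht1⟩ := key t ht
  obtain ⟨g, hg, hgeq⟩ := Cfsg.Agent.Lib.Helper7.OddInv.g2_invol_conj F hodd (s : GL Cfsg.Lie.chevG2.Idx F)
    (t : GL Cfsg.Lie.chevG2.Idx F) s.2 t.2 hss htt hs1 ht1
  rw [isConj_iff]
  refine ⟨⟨g, hg⟩, ?_⟩
  apply Subtype.ext
  exact hgeq

end Cfsg.Agent.S4278
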