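import Cfsg.Statements.S4279
import Cfsg.Agent.S4278
import Cfsg.Agent.Lib.Helper11.SemiCentG

set_option autoImplicit false
open Cfsg

namespace Cfsg.Agent.S4279

open Cfsg.Lie Cfsg.Agent.Lib.Helper7 Cfsg.Agent.Lib.Helper11.SemiCent in
/-- `h₀² = 1` -/
theorem h0_sq (F : Type*) [Field F] : h0 F * h0 F = 1 := by
  apply diag_eq_of_conj_eq chevG2 hG F _ _ (Subgroup.mul_mem _ (h0_mem F) (h0_mem F)) (Subgroup.one_mem _)
  intro s hs
  have hs' : s < 12 := hs
  have e1 : ∀ a : F, h0 F * xGL chevG2 hG F s a * (h0 F)⁻¹ = xGL chevG2 hG F s (chi0 F s * a) := by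
    intro a
    rw [h0_x]; group
  have e : h0 F * h0 F * xGL chevG2 hG F s 1 * (h0 F * h0 F)⁻¹ =
      h0 F * (h0 F * xGL chevG2 hG F s 1 * (h0 F)⁻¹) * (h0 F)⁻¹ := by group
  rw [e, e1, e1]
  have e2 : (1 : GL chevG2.Idx F) * xGL chevG2 hG F s 1 * 1⁻¹ = xGL chevG2 hG F s 1 := by group
  rw [e2]
  congr 1
  cases hp : isPsi s
  · rw [chi0_not_psi F s hs' hp]; ring
  · rw [chi0_psi F s hs' hp]; ring

/-- In the Chevalley group G of type G₂ over a finite field F of odd order q, the centralizer of an involution t has order q²(q² − 1)² and contains two elementwise commuting subgroups, each isomorphic to SL(2, F), which meet exactly in the subgroup generated by t and whose join has index 2 in the centralizer. -/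
theorem result {F : Type*} [Field F] [Fintype F] (hF : Odd (Fintype.card F)) (t : ↥(Cfsg.Lie.chevG2.group F)) (ht : orderOf t = 2) : Nat.card (Subgroup.centralizer ({t} : Set ↥(Cfsg.Lie.chevG2.group F))) = Fintype.card F ^ 2 * (Fintype.card F ^ 2 - 1) ^ 2 ∧ ∃ L₁ L₂ : Subgroup ↥(Cfsg.Lie.chevG2.group F), Nonempty (L₁ ≃* Matrix.SpecialLinearGroup (Fin 2) F) ∧ Nonempty (L₂ ≃* Matrix.SpecialLinearGroup (Fin 2) F) ∧ (∀ x ∈ L₁, ∀ y ∈ L₂, x * y = y * x) ∧ L₁ ⊓ L₂ = Subgroup.zpowers t ∧ L₁ ⊔ L₂ ≤ Subgroup.centralizer ({t} : Set ↥(Cfsg.Lie.chevG2.group F)) ∧ (L₁ ⊔ L₂).relIndex (Subgroup.centralizer ({t} : Set ↥(Cfsg.Lie.chevG2.group F))) = 2 := by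
  have h2 : (2 : F) ≠ 0 := by
    intro h
    have h1 : ringChar F = 2 := CharP.ringChar_of_prime_eq_zero Nat.prime_two (by exact_mod_cast h)
    have h2 := FiniteField.even_card_of_char_two h1
    rw [Nat.odd_iff] at hF
    omega
  have hh : orderOf (Cfsg.Agent.Lib.Helper11.SemiCent.h0G F) = 2 := by
    apply orderOf_eq_prime
    · rw [pow_two]
      exact Subtype.ext (h0_sq F)
    · intro h
      exact Cfsg.Agent.Lib.Helper11.SemiCent.h0_ne_one F h2 (congrArg Subtype.val h)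
  have hconj : IsConj (Cfsg.Agent.Lib.Helper11.SemiCent.h0G F) t := Cfsg.Agent.S4278.result hF _ _ hh ht
  obtain ⟨c, hc⟩ := isConj_iff.mp hconj
  have := Cfsg.Agent.Lib.Helper11.SemiCent.goal_conj F _ c (Cfsg.Agent.Lib.Helper11.SemiCent.goal_h0 F h2)
  rw [hc] at this
  exact this

end Cfsg.Agent.S4279
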