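import Cfsg.Statements.S4282
-- import your own Cfsg.Agent.* helpers here
import Cfsg.Agent.Lib.Helper1.HH5

set_option autoImplicit false
open Cfsg

namespace Cfsg.Agent.S4282

/-- A critical case behind the Hall–Higman theorem. Let p ≠ q be primes and G a finite group generated by a normal q-subgroup Q and a cyclic p-subgroup generated by x, such that the centralizer of every non-identity element of that cyclic subgroup is its product with the centre of G. Let K be an algebraically closed field of characteristic p and ρ a faithful representation of G on a nonzero finite-dimensional K-space whose restriction to Q is irreducible. If s is the least exponent with (ρ(x) − 1)^s = 0, then |⟨x⟩| − 1 ≤ s ≤ |⟨x⟩|; and if s = |⟨x⟩| − 1 then |⟨x⟩| − 1 is a power of q and Q is non-abelian. -/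
theorem result {G : Type*} [Group G] [Finite G] (p q : ℕ) [Fact p.Prime] [Fact q.Prime] (hpq : p ≠ q) (Q : Subgroup G) [Q.Normal] (hQ : IsPGroup q Q) (x : G) (hx : IsPGroup p (Subgroup.zpowers x)) (hgen : Q ⊔ Subgroup.zpowers x = ⊤) (hC : ∀ y ∈ Subgroup.zpowers x, y ≠ 1 → Subgroup.centralizer ({y} : Set G) = Subgroup.zpowers x ⊔ Subgroup.center G) {K : Type*} [Field K] [IsAlgClosed K] [CharP K p] {V : Type*} [AddCommGroup V] [Module K V] [FiniteDimensional K V] [Nontrivial V] (ρ : Representation K G V) (hfaith : Function.Injective ρ) (hirr : ∀ W : Submodule K V, (∀ g ∈ Q, Submodule.map (ρ g) W ≤ W) → W = ⊥ ∨ W = ⊤) (s : ℕ) (hs : (ρ x - 1) ^ s = 0) (hmin : ∀ k < s, (ρ x - 1) ^ k ≠ 0) : Nat.card (Subgroup.zpowers x) - 1 ≤ s ∧ s ≤ Nat.card (Subgroup.zpowers x) ∧ (s = Nat.card (Subgroup.zpowers x) - 1 → (∃ b : ℕ, Nat.card (Subgroup.zpowers x) - 1 = q ^ b) ∧ ¬ IsMulCommutative Q) := by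
  classical
  open Cfsg.Agent.Lib.Helper1.HH Cfsg.Agent.Lib.Helper1 Module in
  have hp : p.Prime := Fact.out
  have hq : q.Prime := Fact.out
  have hcop : ∀ a b : ℕ, (p ^ a).Coprime (q ^ b) := fun a b =>
    Nat.Coprime.pow a b ((Nat.coprime_primes hp hq).mpr hpq)
  -- irreducibility on `Q`
  have hirrQ : IrrOn ρ (Q : Set G) := fun W hW => hirr W (fun g hg => hW g hg)
  -- the order of `x`
  obtain ⟨n, hn⟩ := IsPGroup.exists_card_eq hx
  set P := Nat.card (Subgroup.zpowers x) with hP
  have hPx : orderOf x = P := by rw [hP, Nat.card_zpowers]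
  have hxP : x ^ p ^ n = 1 := by rw [← hn, ← hPx]; exact pow_orderOf_eq_one x
  -- elements of `⟨x⟩` have `p`-power order
  have hxpow : ∀ h ∈ Subgroup.zpowers x, h ^ p ^ n = 1 := by
    intro h hh
    obtain ⟨i, rfl⟩ := Subgroup.mem_zpowers_iff.mp hh
    rw [← zpow_natCast, ← zpow_mul, mul_comm, zpow_mul, zpow_natCast, hxP, one_zpow]
  -- elements of `Q` have `q`-power order
  have hQpow : ∀ f ∈ Q, ∃ a : ℕ, f ^ q ^ a = 1 := by
    intro f hf
    obtain ⟨a, ha⟩ := hQ ⟨f, hf⟩
    refine ⟨a, ?_⟩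
    have := congrArg Subtype.val ha
    simpa using this
  -- central elements are scalar
  have hZs : ∀ z ∈ Subgroup.center G, ∃ μ : K, ρ z = μ • (1 : Module.End K V) := by
    intro z hz
    apply schur ρ (Q : Set G) hirrQ
    intro g _
    rw [← map_mul, ← map_mul, (Subgroup.mem_center_iff.mp hz g)]
  -- central elements of `p`-power order are trivial
  have hZp : ∀ z ∈ Subgroup.center G, z ^ p ^ n = 1 → z = 1 := by
    intro z hz hzp
    obtain ⟨μ, hμ⟩ := hZs z hz
    exact eq_one_of_scalar_of_pow p ρ hfaith z μ hμ n hzp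
  have hxZ : ∀ h ∈ Subgroup.zpowers x, h ∈ Subgroup.center G → h = 1 := fun h hh hz =>
    hZp h hz (hxpow h hh)
  -- Lemma B
  have hB : ∀ f ∈ Q, f ∈ Subgroup.zpowers x ⊔ Subgroup.center G → f ∈ Subgroup.center G := by
    intro f hf hf2
    rw [Subgroup.mem_sup_of_normal_right] at hf2
    obtain ⟨h, hh, z, hz, rfl⟩ := hf2
    obtain ⟨a, ha⟩ := hQpow _ hf
    have hcomm : Commute h z := Subgroup.mem_center_iff.mp hz h
    rw [hcomm.mul_pow] at ha
    have h1 : h ^ q ^ a ∈ Subgroup.center G := by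
      have : h ^ q ^ a = (z ^ q ^ a)⁻¹ := eq_inv_of_mul_eq_one_left ha
      rw [this]
      exact Subgroup.inv_mem _ (Subgroup.pow_mem _ hz _)
    have h2 : h ^ q ^ a = 1 := hxZ _ (Subgroup.pow_mem _ hh _) h1
    have h3 : orderOf h ∣ q ^ a := orderOf_dvd_of_pow_eq_one h2
    have h4 : orderOf h ∣ p ^ n := orderOf_dvd_of_pow_eq_one (hxpow h hh)
    have h5 : orderOf h ∣ 1 := by
      have := Nat.dvd_gcd h4 h3
      rwa [(hcop n a).gcd_eq_one] at this
    have h6 : h = 1 := orderOf_eq_one_iff.mp (Nat.dvd_one.mp h5)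
    rw [h6, one_mul]
    exact hz
  -- the hypothesis of the dimension formula
  have hfpf : ∀ h ∈ Subgroup.zpowers x, h ∉ Subgroup.center G → ∀ f ∈ Q,
      f⁻¹ * (h * f * h⁻¹) ∈ Subgroup.center G → f ∈ Subgroup.center G := by
    intro h hh hhZ f hf hz
    have hh1 : h ≠ 1 := fun h1 => hhZ (by rw [h1]; exact Subgroup.one_mem _)
    have hzQ : f⁻¹ * (h * f * h⁻¹) ∈ Q :=
      Subgroup.mul_mem _ (Subgroup.inv_mem _ hf) (Subgroup.Normal.conj_mem inferInstance f hf h)
    obtain ⟨a, ha⟩ := hQpow _ hzQ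
    have e1 : h * f * h⁻¹ = f * (f⁻¹ * (h * f * h⁻¹)) := by group
    have e2 : h * (f⁻¹ * (h * f * h⁻¹)) = (f⁻¹ * (h * f * h⁻¹)) * h :=
      Subgroup.mem_center_iff.mp hz h
    have hco : (orderOf h).Coprime (orderOf (f⁻¹ * (h * f * h⁻¹))) := by
      have h3 : orderOf (f⁻¹ * (h * f * h⁻¹)) ∣ q ^ a := orderOf_dvd_of_pow_eq_one ha
      have h4 : orderOf h ∣ p ^ n := orderOf_dvd_of_pow_eq_one (hxpow h hh)
      exact Nat.Coprime.coprime_dvd_left h4 (Nat.Coprime.coprime_dvd_right h3 (hcop n a))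
    have e3 : f⁻¹ * (h * f * h⁻¹) = 1 := FM.eq_one_of_conj_eq_mul e1 e2 hco
    have e4 : h * f * h⁻¹ = f := by rw [e1, e3, mul_one]
    have e5 : f ∈ Subgroup.centralizer ({h} : Set G) := by
      rw [Subgroup.mem_centralizer_iff]
      intro y hy
      rw [Set.mem_singleton_iff] at hy
      rw [hy]
      calc h * f = h * f * h⁻¹ * h := by group
        _ = f * h := by rw [e4]
    rw [hC h hh hh1] at e5
    exact hB f hf e5
  -- the numbers
  set N : Module.End K V := ρ x - 1 with hN
  set d := finrank K V with hd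
  set c := finrank K (comm N) with hc
  have hchar : (Nat.card ↥Q : K) ≠ 0 := by
    obtain ⟨a, ha⟩ := IsPGroup.exists_card_eq hQ
    rw [ha]
    intro h0
    rw [CharP.cast_eq_zero_iff K p] at h0
    have := (Nat.prime_dvd_prime_iff_eq hp hq).mp (hp.dvd_of_dvd_pow h0)
    exact hpq this
  have hform := conj_dim_formula ρ (Subgroup.center G) Q (Subgroup.zpowers x) hZs
    hQ.isNilpotent hchar hfpf
  have hc1 : finrank K (commutant ρ (Q : Set G)) = 1 := finrank_commutant_eq_one ρ _ hirrQ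
  have hc2 : finrank K (commutant ρ ((Q ⊔ Subgroup.zpowers x : Subgroup G) : Set G)) = 1 := by
    rw [commutant_eq_span_one_of_subset ρ (S := (Q : Set G)) (fun g hg =>
      (le_sup_left : Q ≤ Q ⊔ Subgroup.zpowers x) hg) hirrQ]
    exact finrank_span_singleton one_ne_zero
  have hc3 : finrank K (commutant ρ ((Subgroup.zpowers x : Subgroup G) : Set G)) = c := by
    rw [commutant_zpowers]
  have hcard : Nat.card ↥((Subgroup.zpowers x).map (QuotientGroup.mk' (Subgroup.center G))) = P := by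
    rw [hP]
    symm
    apply Nat.card_eq_of_bijective ((QuotientGroup.mk' (Subgroup.center G)).subgroupMap
      (Subgroup.zpowers x))
    refine ⟨?_, MonoidHom.subgroupMap_surjective _ _⟩
    rw [injective_iff_map_eq_one]
    rintro ⟨a, ha⟩ h1
    have h2 := congrArg Subtype.val h1
    have h3 : (QuotientGroup.mk' (Subgroup.center G)) a = 1 := h2
    rw [QuotientGroup.mk'_apply, QuotientGroup.eq_one_iff] at h3
    exact Subtype.ext (hxZ a ha h3)
  rw [hc1, hc2, hc3, hcard, mul_one] at hform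
  -- `s` is positive and at most `P`
  have hs0 : s ≠ 0 := by
    intro h0
    rw [h0, pow_zero] at hs
    exact one_ne_zero hs
  have hsP : s ≤ P := by
    by_contra hcon
    rw [not_le] at hcon
    apply hmin P hcon
    rw [hn]
    apply sub_one_pow_eq_zero p
    rw [← map_pow, hxP, map_one]
  have hsc : s ≤ c := le_finrank_comm N s hs hmin
  have hdsc : d ^ 2 ≤ s * c := sq_finrank_le s V N hs
  -- the case `s = 1`
  have hs1 : s = 1 → P = 1 := by
    intro h1
    rw [h1, pow_one] at hs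
    have h2 : ρ x = ρ 1 := by rw [map_one]; exact sub_eq_zero.mp hs
    have h3 : x = 1 := hfaith h2
    rw [← hPx, h3, orderOf_one]
  by_cases hs1' : s = 1
  · have hP1 := hs1 hs1'
    rw [hP1, hs1']
    refine ⟨by omega, le_refl _, fun h => by omega⟩
  have hs2 : 2 ≤ s := by omega
  obtain ⟨hA1, hA2⟩ := hh_arith P s c d hs2 hsP hsc hdsc hform
  refine ⟨by omega, hsP, ?_⟩
  intro hsP1
  have hds : d = s := hA2 (by omega)
  -- the restriction to `Q`
  set ρQ : Representation K ↥Q V := ρ.comp Q.subtype with hρQ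
  have hirrQ' : IrrOn ρQ Set.univ := by
    intro W hW
    exact hirr W (fun g hg => hW ⟨g, hg⟩ (Set.mem_univ _))
  constructor
  · obtain ⟨b, hb⟩ := finrank_eq_prime_pow (k := K) q (Nat.card ↥Q) ↥Q hQ rfl V ρQ hirrQ'
    refine ⟨b, ?_⟩
    rw [← hb, ← hd, hds, hsP1]
  · intro hcomm
    have hall : ∀ g : ↥Q, g ∈ scalarSubgroup ρQ := by
      intro g
      apply scalar_of_comm_of_irr ρQ hirrQ' g
      intro h
      rw [← map_mul, ← map_mul, mul_comm' h g]
    have h1 : d = 1 := finrank_eq_one_of_all_scalar ρQ hirrQ' hall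
    omega

end Cfsg.Agent.S4282
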