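import Cfsg.Statements.S4283
-- import your own Cfsg.Agent.* helpers here
import Mathlib
import Cfsg.Agent.Lib.Helper22.Frobenius
import Cfsg.Agent.Lib.Helper21.ClassSize

set_option autoImplicit false
open Cfsg
open scoped Pointwise

namespace Cfsg.Agent.S4283

/-- Let G be a finite group with centre Z and let K, H be abelian subgroups of G containing Z such that G/Z is a Frobenius group with complement H/Z and kernel K/Z. Then the conjugacy class sizes of G are exactly 1, [G : K] and [G : H], and these two indices are coprime. (This is the converse half of the characterization of finite groups whose conjugacy class sizes are exactly 1, m and n with m and n coprime.) -/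
theorem result {G : Type*} [Group G] [Finite G] (K H : Subgroup G) (hZK : Subgroup.center G ≤ K) (hZH : Subgroup.center G ≤ H) (hK : IsMulCommutative K) (hH : IsMulCommutative H) (hFrob : Cfsg.IsFrobeniusComplement (H.map (QuotientGroup.mk' (Subgroup.center G)))) (hker : Cfsg.frobeniusKernel (H.map (QuotientGroup.mk' (Subgroup.center G))) = (K.map (QuotientGroup.mk' (Subgroup.center G)) : Set (G ⧸ Subgroup.center G))) : Set.range (fun x : G => (Subgroup.centralizer ({x} : Set G)).index) = ({1, K.index, H.index} : Set ℕ) ∧ K.index.Coprime H.index := by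
  classical
  -- notation
  have hkerπ : (QuotientGroup.mk' (Subgroup.center G)).ker = Subgroup.center G :=
    QuotientGroup.ker_mk' _
  have hsurj : Function.Surjective (QuotientGroup.mk' (Subgroup.center G)) :=
    QuotientGroup.mk'_surjective _
  have memH : ∀ x : G, (QuotientGroup.mk' (Subgroup.center G)) x ∈
      H.map (QuotientGroup.mk' (Subgroup.center G)) ↔ x ∈ H := by
    intro x
    rw [← Subgroup.mem_comap, Subgroup.comap_map_eq_self (by rw [hkerπ]; exact hZH)]
  have memK : ∀ x : G, (QuotientGroup.mk' (Subgroup.center G)) x ∈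
      K.map (QuotientGroup.mk' (Subgroup.center G)) ↔ x ∈ K := by
    intro x
    rw [← Subgroup.mem_comap, Subgroup.comap_map_eq_self (by rw [hkerπ]; exact hZK)]
  have memZ : ∀ x : G, (QuotientGroup.mk' (Subgroup.center G)) x = 1 ↔ x ∈ Subgroup.center G := by
    intro x
    rw [← MonoidHom.mem_ker, hkerπ]
  have memKer : ∀ x : G, (QuotientGroup.mk' (Subgroup.center G)) x ∈
      Cfsg.frobeniusKernel (H.map (QuotientGroup.mk' (Subgroup.center G))) ↔ x ∈ K := by
    intro x
    rw [hker]
    exact memK x
  have hZconj : ∀ x g : G, g⁻¹ * x * g ∈ Subgroup.center G → x ∈ Subgroup.center G := by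
    intro x g hz
    have := (inferInstance : (Subgroup.center G).Normal).conj_mem _ hz g
    have e : g * (g⁻¹ * x * g) * g⁻¹ = x := by group
    rwa [e] at this
  -- covering
  have hcov : ∀ x : G, x ∉ K → ∃ g : G, g⁻¹ * x * g ∈ H := by
    intro x hx
    have h1 := (memKer x).not.2 hx
    rw [Cfsg.Agent.Lib.Helper18.mem_frobeniusKernel_iff] at h1
    push Not at h1
    obtain ⟨_, gb, hgb⟩ := h1
    obtain ⟨g, rfl⟩ := hsurj gb
    refine ⟨g, (memH _).1 ?_⟩
    simpa using hgb
  -- centralizers
  have hcentK : ∀ x : G, x ∈ K → x ∉ Subgroup.center G →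
      Subgroup.centralizer ({x} : Set G) = K := by
    intro x hxK hxZ
    apply le_antisymm
    · intro y hy
      rw [Subgroup.mem_centralizer_singleton_iff] at hy
      by_contra hyK
      obtain ⟨g, hg⟩ := hcov y hyK
      have hy1 : (QuotientGroup.mk' (Subgroup.center G)) (g⁻¹ * y * g) ≠ 1 := by
        rw [Ne, memZ]
        intro hz
        exact hyK (hZK (hZconj y g hz))
      have hk : (QuotientGroup.mk' (Subgroup.center G)) (g⁻¹ * x * g) ∈
          Cfsg.frobeniusKernel (H.map (QuotientGroup.mk' (Subgroup.center G))) := by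
        have := Cfsg.Agent.Lib.Helper18.conj_mem_frobeniusKernel
          (H.map (QuotientGroup.mk' (Subgroup.center G)))
          ((QuotientGroup.mk' (Subgroup.center G)) g⁻¹) _ ((memKer x).2 hxK)
        simpa using this
      have hcomm : (QuotientGroup.mk' (Subgroup.center G)) (g⁻¹ * x * g) *
          (QuotientGroup.mk' (Subgroup.center G)) (g⁻¹ * y * g) =
          (QuotientGroup.mk' (Subgroup.center G)) (g⁻¹ * y * g) *
          (QuotientGroup.mk' (Subgroup.center G)) (g⁻¹ * x * g) := by
        rw [← map_mul, ← map_mul]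
        congr 1
        calc g⁻¹ * x * g * (g⁻¹ * y * g) = g⁻¹ * (x * y) * g := by group
          _ = g⁻¹ * (y * x) * g := by rw [hy]
          _ = g⁻¹ * y * g * (g⁻¹ * x * g) := by group
      have h1 := Cfsg.Agent.Lib.Helper18.eq_one_of_commute_of_mem_frobeniusKernel _ hFrob _
        ((memH _).2 hg) hy1 _ hk hcomm
      rw [memZ] at h1
      exact hxZ (hZconj x g h1)
    · intro y hy
      rw [Subgroup.mem_centralizer_singleton_iff]
      have := hK.is_comm.comm ⟨y, hy⟩ ⟨x, hxK⟩
      exact congrArg Subtype.val this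
  have hcentH : ∀ x : G, x ∈ H → x ∉ Subgroup.center G →
      Subgroup.centralizer ({x} : Set G) = H := by
    intro x hxH hxZ
    apply le_antisymm
    · intro y hy
      rw [Subgroup.mem_centralizer_singleton_iff] at hy
      by_contra hyH
      have hyb : (QuotientGroup.mk' (Subgroup.center G)) y ∉
          H.map (QuotientGroup.mk' (Subgroup.center G)) := (memH y).not.2 hyH
      have hbot := hFrob.2.2 _ hyb
      have hx2 : (QuotientGroup.mk' (Subgroup.center G)) x ∈
          H.map (QuotientGroup.mk' (Subgroup.center G)) ⊓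
            (MulAut.conj ((QuotientGroup.mk' (Subgroup.center G)) y) •
              H.map (QuotientGroup.mk' (Subgroup.center G))) := by
        rw [Subgroup.mem_inf, Cfsg.Agent.Lib.Helper18.mem_conj_smul_iff]
        refine ⟨(memH x).2 hxH, ?_⟩
        rw [← map_inv, ← map_mul, ← map_mul, memH]
        have : y⁻¹ * x * y = x := by
          rw [mul_assoc, ← hy, ← mul_assoc, inv_mul_cancel, one_mul]
        rw [this]; exact hxH
      rw [hbot, Subgroup.mem_bot, memZ] at hx2
      exact hxZ hx2
    · intro y hy
      rw [Subgroup.mem_centralizer_singleton_iff]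
      have := hH.is_comm.comm ⟨y, hy⟩ ⟨x, hxH⟩
      exact congrArg Subtype.val this
  -- existence of noncentral elements
  have hexH : ∃ x ∈ H, x ∉ Subgroup.center G := by
    by_contra hcon
    push Not at hcon
    apply hFrob.1
    rw [Subgroup.eq_bot_iff_forall]
    rintro _ ⟨x, hx, rfl⟩
    exact (memZ x).2 (hcon x hx)
  have hexK : ∃ x ∈ K, x ∉ Subgroup.center G := by
    obtain ⟨xb, hxb1, hxb⟩ := Cfsg.Agent.Lib.Helper22.exists_ne_one_forall_conj_not_mem
      (H.map (QuotientGroup.mk' (Subgroup.center G))) hFrob.2.1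
    obtain ⟨x, rfl⟩ := hsurj xb
    refine ⟨x, ?_, fun hz => hxb1 ((memZ x).2 hz)⟩
    rw [← memKer, Cfsg.Agent.Lib.Helper18.mem_frobeniusKernel_iff]
    exact Or.inr hxb
  refine ⟨?_, ?_⟩
  · ext n
    simp only [Set.mem_range, Set.mem_insert_iff, Set.mem_singleton_iff]
    constructor
    · rintro ⟨x, rfl⟩
      by_cases hxZ : x ∈ Subgroup.center G
      · left
        rw [Subgroup.index_eq_one, eq_top_iff]
        intro y _
        rw [Subgroup.mem_centralizer_singleton_iff]
        exact (Subgroup.mem_center_iff.1 hxZ y)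
      · by_cases hxK : x ∈ K
        · right; left
          rw [hcentK x hxK hxZ]
        · right; right
          obtain ⟨g, hg⟩ := hcov x hxK
          have hgZ : g⁻¹ * x * g ∉ Subgroup.center G := fun hz => hxZ (hZconj x g hz)
          rw [← hcentH _ hg hgZ, Cfsg.Agent.Lib.Helper21.index_centralizer_eq_ncard_carrier,
            Cfsg.Agent.Lib.Helper21.index_centralizer_eq_ncard_carrier]
          congr 2
          rw [ConjClasses.mk_eq_mk_iff_isConj, isConj_iff]
          exact ⟨g⁻¹, by simp⟩
    · rintro (rfl | rfl | rfl)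
      · refine ⟨1, ?_⟩
        rw [Subgroup.index_eq_one, eq_top_iff]
        intro y _
        rw [Subgroup.mem_centralizer_singleton_iff]
        simp
      · obtain ⟨x, hx, hxZ⟩ := hexK
        exact ⟨x, by rw [hcentK x hx hxZ]⟩
      · obtain ⟨x, hx, hxZ⟩ := hexH
        exact ⟨x, by rw [hcentH x hx hxZ]⟩
  · -- coprimality
    rw [Nat.coprime_iff_gcd_eq_one]
    by_contra hne
    obtain ⟨p, hp, hpd⟩ := Nat.exists_prime_and_dvd hne
    haveI : Fact p.Prime := ⟨hp⟩
    have hpK : p ∣ K.index := hpd.trans (Nat.gcd_dvd_left _ _)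
    have hpH : p ∣ H.index := hpd.trans (Nat.gcd_dvd_right _ _)
    have hidxH : (H.map (QuotientGroup.mk' (Subgroup.center G))).index = H.index :=
      Subgroup.index_map_eq H hsurj (by rw [hkerπ]; exact hZH)
    have hidxK : (K.map (QuotientGroup.mk' (Subgroup.center G))).index = K.index :=
      Subgroup.index_map_eq K hsurj (by rw [hkerπ]; exact hZK)
    have hcovb : ∀ xb : G ⧸ Subgroup.center G, xb ∉ K.map (QuotientGroup.mk' (Subgroup.center G)) →
        ∃ gb : G ⧸ Subgroup.center G, gb⁻¹ * xb * gb ∈
          H.map (QuotientGroup.mk' (Subgroup.center G)) := by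
      intro xb hxb
      obtain ⟨x, rfl⟩ := hsurj xb
      obtain ⟨g, hg⟩ := hcov x ((memK x).not.1 hxb)
      refine ⟨(QuotientGroup.mk' (Subgroup.center G)) g, ?_⟩
      rw [← map_inv, ← map_mul, ← map_mul, memH]
      exact hg
    have h1 : p ∣ Nat.card (H.map (QuotientGroup.mk' (Subgroup.center G))) :=
      Cfsg.Agent.Lib.Helper22.dvd_card_of_dvd_index_of_cover _ _ hcovb p (by rw [hidxK]; exact hpK)
    exact Cfsg.Agent.Lib.Helper22.not_dvd_index_of_dvd_card_of_isFrobeniusComplement _ hFrob p h1
      (by rw [hidxH]; exact hpH)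

end Cfsg.Agent.S4283
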