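import Cfsg.Statements.S4292
import Cfsg.Agent.S3357
import Cfsg.Agent.Lib.Helper13.FrobRingZ
import Cfsg.Agent.Lib.Helper17.ZsFrob

set_option autoImplicit false
open Cfsg

namespace Cfsg.Agent.S4292

open Cfsg.Agent.Lib.Helper17.Zs Cfsg.Agent.Lib.Helper22

universe w

/-- a nontrivial finite group with a free representation over a prime field is a Frobenius
complement -/
theorem isFC_of_hasFree {X : Type w} [Group X] [Finite X] [Nontrivial X] (h : HasFree.{w, 0} X) :
    ∃ (L : Type) (_ : Group L) (_ : Finite L) (H : Subgroup L),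
      Cfsg.IsFrobeniusComplement H ∧ Nonempty (X ≃* H) := by
  obtain ⟨p, hp, V₀, i1, i2, i3, i4, ρ₀, h₀⟩ := h
  haveI : Finite V₀ := Module.finite_of_finite (ZMod p)
  haveI : Finite (Module.End (ZMod p) V₀) :=
    Finite.of_injective (fun f : Module.End (ZMod p) V₀ => (f : V₀ → V₀)) DFunLike.coe_injective
  refine exists_frobenius_of_ring ρ₀ ?_
  intro k hk x hx
  ext v
  have h1 : ρ₀ k (x v) = x v := by
    rw [← Module.End.mul_apply, hx]
  simpa using h₀ k hk (x v) h1

section kron
variable {F : Type*} [Field F] {n m : ℕ}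

theorem kron_fix_left (M : Matrix (Fin n) (Fin n) F) (hM : ∀ v, M.mulVec v = v → v = 0)
    (X : Matrix (Fin n × Fin m) (Fin n × Fin m) F)
    (hX : Matrix.kronecker M (1 : Matrix (Fin m) (Fin m) F) * X = X) : X = 0 := by
  ext ⟨i, j⟩ c
  have hv : (fun i' => X (i', j) c) = 0 := by
    apply hM
    funext i'
    have h1 := congrFun (congrFun hX (i', j)) c
    rw [Matrix.mul_apply, Fintype.sum_prod_type] at h1
    rw [Matrix.mulVec, dotProduct, ← h1]
    apply Finset.sum_congr rfl
    intro a _
    simp [Matrix.kronecker, Matrix.kroneckerMap_apply, Matrix.one_apply]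
  exact congrFun hv i

theorem kron_fix_right (N : Matrix (Fin m) (Fin m) F) (hN : ∀ v, N.mulVec v = v → v = 0)
    (X : Matrix (Fin n × Fin m) (Fin n × Fin m) F)
    (hX : Matrix.kronecker (1 : Matrix (Fin n) (Fin n) F) N * X = X) : X = 0 := by
  ext ⟨i, j⟩ c
  have hv : (fun j' => X (i, j') c) = 0 := by
    apply hN
    funext j'
    have h1 := congrFun (congrFun hX (i, j')) c
    rw [Matrix.mul_apply, Fintype.sum_prod_type] at h1
    rw [Matrix.mulVec, dotProduct, ← h1]
    simp [Matrix.kronecker, Matrix.kroneckerMap_apply, Matrix.one_apply]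
  exact congrFun hv j

/-- the Kronecker product of two matrix representations -/
def kronHom {A B : Type*} [Group A] [Group B] (ρA : A →* GL (Fin n) F) (ρB : B →* GL (Fin m) F) :
    A × B →* Matrix (Fin n × Fin m) (Fin n × Fin m) F where
  toFun x := Matrix.kronecker ((ρA x.1 : GL (Fin n) F) : Matrix (Fin n) (Fin n) F)
    ((ρB x.2 : GL (Fin m) F) : Matrix (Fin m) (Fin m) F)
  map_one' := by
    simp [Matrix.kronecker]
  map_mul' := by
    intro x y
    simp only [Prod.fst_mul, Prod.snd_mul, map_mul, Units.val_mul]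
    exact Matrix.mul_kronecker_mul _ _ _ _

end kron

/-- Let A and B be nontrivial finite groups. Then the direct product A × B occurs as a Frobenius complement if and only if A and B both occur as Frobenius complements and the orders of A and B are coprime. -/
theorem result {A B : Type*} [Group A] [Finite A] [Nontrivial A] [Group B] [Finite B] [Nontrivial B] :
    (∃ (L : Type) (_ : Group L) (_ : Finite L) (H : Subgroup L), Cfsg.IsFrobeniusComplement H ∧ Nonempty ((A × B) ≃* H)) ↔
    ((∃ (L : Type) (_ : Group L) (_ : Finite L) (H : Subgroup L), Cfsg.IsFrobeniusComplement H ∧ Nonempty (A ≃* H)) ∧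
     (∃ (L : Type) (_ : Group L) (_ : Finite L) (H : Subgroup L), Cfsg.IsFrobeniusComplement H ∧ Nonempty (B ≃* H)) ∧
     (Nat.card A).Coprime (Nat.card B)) := by
  classical
  constructor
  · intro hAB
    have hfree := hasFree_of_isFC hAB
    refine ⟨isFC_of_hasFree (hfree.of_injective (MonoidHom.inl A B) (fun x y h => by simpa using congrArg Prod.fst h)),
      isFC_of_hasFree (hfree.of_injective (MonoidHom.inr A B) (fun x y h => by simpa using congrArg Prod.snd h)), ?_⟩
    -- coprimality
    by_contra hnc
    obtain ⟨q, hq, hqA, hqB⟩ := Nat.Prime.not_coprime_iff_dvd.mp hnc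
    haveI : Fact q.Prime := ⟨hq⟩
    obtain ⟨a, ha⟩ := exists_prime_orderOf_dvd_card' q hqA
    obtain ⟨b, hb⟩ := exists_prime_orderOf_dvd_card' q hqB
    have ha' : orderOf ((a, 1) : A × B) = q := by
      rw [Prod.orderOf_mk, orderOf_one, ha]; simp
    have hb' : orderOf ((1, b) : A × B) = q := by
      rw [Prod.orderOf_mk, orderOf_one, hb]; simp
    apply hfree.false_of_pair hq ha' hb'
    · simp
    · intro hmem
      obtain ⟨k, hk⟩ := Subgroup.mem_zpowers_iff.mp hmem
      have h1 : (1 : A) = a := by
        have := congrArg Prod.fst hk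
        simpa using this
      rw [← h1, orderOf_one] at ha
      exact hq.ne_one ha.symm
  · rintro ⟨hA, hB, hcop⟩
    obtain ⟨n, ρA, hn, -, -, hfixA⟩ := Cfsg.Agent.S3357.result hA
    obtain ⟨m, ρB, hm, -, -, hfixB⟩ := Cfsg.Agent.S3357.result hB
    haveI : Nonempty (Fin n × Fin m) := ⟨(⟨0, hn⟩, ⟨0, hm⟩)⟩
    haveI : CharZero (Matrix (Fin n × Fin m) (Fin n × Fin m) (AlgebraicClosure ℚ)) :=
      CharP.charP_to_charZero _
    refine Cfsg.Agent.Lib.Helper13.FrobRingZ.exists_frobenius_of_charZero_ring
      (kronHom ρA ρB) ?_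
    rintro ⟨a, b⟩ hab X hX
    have hpow : ∀ i : ℕ, kronHom ρA ρB ((a, b) ^ i) * X = X := by
      intro i
      induction i with
      | zero => rw [pow_zero, map_one, one_mul]
      | succ i ih => rw [pow_succ, map_mul, mul_assoc, hX, ih]
    by_cases ha : a = 1
    · have hb : b ≠ 1 := by
        rintro rfl
        exact hab (by rw [ha]; rfl)
      apply kron_fix_right _ (hfixB b hb) X
      have := hX
      rw [ha] at this
      simpa [kronHom] using this
    · -- use the power `orderOf b`
      have h1 := hpow (orderOf b)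
      have ha' : a ^ orderOf b ≠ 1 := by
        intro h2
        apply ha
        have h3 : orderOf a ∣ orderOf b := orderOf_dvd_of_pow_eq_one h2
        have h4 : orderOf a ∣ Nat.card A := orderOf_dvd_natCard a
        have h5 : orderOf b ∣ Nat.card B := orderOf_dvd_natCard b
        have h6 : orderOf a = 1 :=
          Nat.eq_one_of_dvd_coprimes hcop h4 (h3.trans h5)
        exact orderOf_eq_one_iff.mp h6
      apply kron_fix_left _ (hfixA _ ha') X
      rw [Prod.pow_mk, pow_orderOf_eq_one] at h1
      simpa [kronHom] using h1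

end Cfsg.Agent.S4292
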