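import Cfsg.Statements.S4293
-- import your own Cfsg.Agent.* helpers here
import Mathlib
import Cfsg.Agent.Lib.Helper22.FrobRing

set_option autoImplicit false
open Cfsg

namespace Cfsg.Agent.S4293


open Cfsg.Agent.Lib.Helper22

universe u

variable {D : Type u} [DivisionRing D] (H : Subgroup Dˣ)

/-- the image of `H` in `D` as a submonoid -/
def imgMonoid : Submonoid D := H.toSubmonoid.map (Units.coeHom D)

/-- the `ℤ`-subalgebra generated by `H` -/
def genAlg : Subalgebra ℤ D := Algebra.adjoin ℤ (imgMonoid H : Set D)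

theorem genAlg_toSubmodule :
    Subalgebra.toSubmodule (genAlg H) = Submodule.span ℤ (imgMonoid H : Set D) := by
  rw [genAlg, Algebra.adjoin_eq_span, Submonoid.closure_eq]

theorem imgMonoid_finite [Finite H] : (imgMonoid H : Set D).Finite := by
  have : (imgMonoid H : Set D) = (fun u : Dˣ => (u : D)) '' (H : Set Dˣ) := by
    ext x
    simp [imgMonoid]
  rw [this]
  exact Set.Finite.image _ (Set.toFinite _)

theorem genAlg_fg [Finite H] : (Subalgebra.toSubmodule (genAlg H)).FG := by
  rw [genAlg_toSubmodule]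
  exact Submodule.fg_span (imgMonoid_finite H)

theorem coe_mem_genAlg (h : H) : ((h : Dˣ) : D) ∈ genAlg H :=
  Algebra.subset_adjoin ⟨h, h.2, rfl⟩

/-- the inclusion of `H` in the subalgebra -/
def incl : H →* genAlg H where
  toFun h := ⟨((h : Dˣ) : D), coe_mem_genAlg H h⟩
  map_one' := by
    apply Subtype.ext
    simp
  map_mul' := by
    intro a b
    apply Subtype.ext
    simp

theorem coe_incl (h : H) : ((incl H h : genAlg H) : D) = ((h : Dˣ) : D) := rfl

/-- The ideal generated by a natural number is two-sided. -/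
theorem span_natCast_isTwoSided (p : ℕ) : (Ideal.span {(p : genAlg H)}).IsTwoSided := by
  refine ⟨?_⟩
  intro a b ha
  rw [Ideal.mem_span_singleton'] at ha ⊢
  obtain ⟨c, rfl⟩ := ha
  exact ⟨c * b, by rw [mul_assoc, mul_assoc, Nat.cast_comm]⟩

theorem natCast_smul_mem (p : ℕ) (x : genAlg H) : p • x ∈ Ideal.span {(p : genAlg H)} := by
  rw [Ideal.mem_span_singleton']
  exact ⟨x, by rw [nsmul_eq_mul, Nat.cast_comm]⟩

theorem finite_quot [Finite H] (p : ℕ) (hp : p ≠ 0) :
    Finite (genAlg H ⧸ Ideal.span {(p : genAlg H)}) := by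
  haveI := span_natCast_isTwoSided H p
  haveI h1 : Module.Finite ℤ (Subalgebra.toSubmodule (genAlg H)) := Module.Finite.iff_fg.2 (genAlg_fg H)
  haveI h2 : Module.Finite ℤ (genAlg H) := h1
  haveI h3 : Module.Finite ℤ (genAlg H ⧸ Ideal.span {(p : genAlg H)}) :=
    Module.Finite.of_surjective
      ((Ideal.Quotient.mk (Ideal.span {(p : genAlg H)})).toAddMonoidHom.toIntLinearMap)
      Ideal.Quotient.mk_surjective
  apply Module.finite_of_fg_torsion
  intro y
  obtain ⟨x, rfl⟩ := Ideal.Quotient.mk_surjective y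
  refine ⟨⟨(p : ℤ), mem_nonZeroDivisors_of_ne_zero (by exact_mod_cast hp)⟩, ?_⟩
  show (p : ℤ) • (Ideal.Quotient.mk (Ideal.span {(p : genAlg H)}) x) = 0
  rw [natCast_zsmul, ← map_nsmul, Ideal.Quotient.eq_zero_iff_mem]
  exact natCast_smul_mem H p x


theorem incl_ne_one (h : H) (hh : h ≠ 1) : ((h : Dˣ) : D) - 1 ≠ 0 := by
  intro h0
  apply hh
  apply Subtype.ext
  apply Units.ext
  rw [sub_eq_zero] at h0
  rw [h0]; rfl

theorem case_pos [Finite H] (hH : H ≠ ⊥) (l : ℕ) [CharP D l] (hl : l ≠ 0) :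
    ∃ (L : Type) (_ : Group L) (_ : Finite L) (C : Subgroup L),
      Cfsg.IsFrobeniusComplement C ∧ Nonempty (H ≃* C) := by
  haveI := span_natCast_isTwoSided H l
  haveI := finite_quot H l hl
  have hI : Ideal.span {(l : genAlg H)} = ⊥ := by
    rw [Ideal.span_singleton_eq_bot]
    apply Subtype.ext
    have h0 : ((l : genAlg H) : D) = (l : D) := map_natCast (genAlg H).val l
    rw [h0]
    exact CharP.cast_eq_zero D l
  have hnt : Ideal.span {(l : genAlg H)} ≠ ⊤ := by
    rw [hI]; exact bot_ne_top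
  haveI : Nontrivial (genAlg H ⧸ Ideal.span {(l : genAlg H)}) := Ideal.Quotient.nontrivial_iff.2 hnt
  haveI : Nontrivial H := (Subgroup.nontrivial_iff_ne_bot H).2 hH
  refine exists_frobenius_of_ring
    ((Ideal.Quotient.mk (Ideal.span {(l : genAlg H)})).toMonoidHom.comp (incl H)) ?_
  intro h hh y hy
  obtain ⟨x, rfl⟩ := Ideal.Quotient.mk_surjective y
  have h1 : Ideal.Quotient.mk (Ideal.span {(l : genAlg H)}) (incl H h * x) =
      Ideal.Quotient.mk (Ideal.span {(l : genAlg H)}) x := by
    rw [map_mul]; exact hy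
  rw [Ideal.Quotient.eq, hI, Ideal.mem_bot, sub_eq_zero] at h1
  have h2 : ((h : Dˣ) : D) * (x : D) = x := congrArg Subtype.val h1
  have h3 : (((h : Dˣ) : D) - 1) * (x : D) = 0 := by rw [sub_mul, h2, one_mul, sub_self]
  rcases mul_eq_zero.1 h3 with h4 | h4
  · exact absurd h4 (incl_ne_one H h hh)
  · have : x = 0 := Subtype.ext h4
    rw [this, map_zero]

theorem case_zero [Finite H] (hH : H ≠ ⊥) [CharZero D] :
    ∃ (L : Type) (_ : Group L) (_ : Finite L) (C : Subgroup L),
      Cfsg.IsFrobeniusComplement C ∧ Nonempty (H ≃* C) := by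
  obtain ⟨p, hpge, hp⟩ := Nat.exists_infinite_primes (Nat.card H + 1)
  haveI := span_natCast_isTwoSided H p
  haveI := finite_quot H p hp.ne_zero
  have hnt : Ideal.span {(p : genAlg H)} ≠ ⊤ := by
    intro htop
    have h1 : (1 : genAlg H) ∈ Ideal.span {(p : genAlg H)} := by rw [htop]; trivial
    obtain ⟨r, hr⟩ := Ideal.mem_span_singleton'.1 h1
    have hr' : (r : D) * (p : D) = 1 := by
      have h0 : ((p : genAlg H) : D) = (p : D) := map_natCast (genAlg H).val p
      have := congrArg Subtype.val hr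
      rw [Subalgebra.coe_mul, h0] at this
      exact this
    have hle : Subalgebra.toSubmodule (genAlg H) ≤
        Ideal.span {(p : ℤ)} • Subalgebra.toSubmodule (genAlg H) := by
      intro n hn
      have h2 : n = (p : ℤ) • ((r : D) * n) := by
        rw [zsmul_eq_mul, Int.cast_natCast, ← mul_assoc, Nat.cast_comm, hr', one_mul]
      rw [h2]
      exact Submodule.smul_mem_smul (Ideal.mem_span_singleton_self _)
        ((genAlg H).mul_mem r.2 hn)
    obtain ⟨s, hs1, hs2⟩ := Submodule.exists_sub_one_mem_and_smul_eq_zero_of_fg_of_le_smul _ _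
      (genAlg_fg H) hle
    have h3 := hs2 1 ((Subalgebra.mem_toSubmodule (genAlg H)).2 (genAlg H).one_mem)
    rw [zsmul_eq_mul, mul_one, Int.cast_eq_zero] at h3
    rw [h3, zero_sub, Ideal.mem_span_singleton, dvd_neg] at hs1
    have h4 : p ∣ 1 := Int.natCast_dvd_natCast.1 (by exact_mod_cast hs1)
    exact hp.one_lt.ne' (Nat.dvd_one.1 h4)
  haveI : Nontrivial (genAlg H ⧸ Ideal.span {(p : genAlg H)}) := Ideal.Quotient.nontrivial_iff.2 hnt
  haveI : Nontrivial H := (Subgroup.nontrivial_iff_ne_bot H).2 hH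
  refine exists_frobenius_of_ring
    ((Ideal.Quotient.mk (Ideal.span {(p : genAlg H)})).toMonoidHom.comp (incl H)) ?_
  intro h hh y hy
  set b : genAlg H ⧸ Ideal.span {(p : genAlg H)} :=
    Ideal.Quotient.mk (Ideal.span {(p : genAlg H)}) (incl H h) with hb
  have hy' : b * y = y := hy
  have hpow : ∀ i : ℕ, b ^ i * y = y := by
    intro i
    induction i with
    | zero => rw [pow_zero, one_mul]
    | succ i ih => rw [pow_succ, mul_assoc, hy', ih]
  have hsum : (∑ i ∈ Finset.range (orderOf h), b ^ i) * y = orderOf h • y := by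
    rw [Finset.sum_mul, Finset.sum_congr rfl (fun i _ => hpow i), Finset.sum_const,
      Finset.card_range]
  have hzeroD : ∑ i ∈ Finset.range (orderOf h), ((h : Dˣ) : D) ^ i = 0 := by
    have h1 := geom_sum_mul ((h : Dˣ) : D) (orderOf h)
    have h2 : ((h : Dˣ) : D) ^ orderOf h = 1 := by
      have := pow_orderOf_eq_one h
      rw [← Units.val_pow_eq_pow_val, ← SubgroupClass.coe_pow, this]
      rfl
    rw [h2, sub_self] at h1
    rcases mul_eq_zero.1 h1 with h4 | h4
    · exact h4
    · exact absurd h4 (incl_ne_one H h hh)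
  have hzero : ∑ i ∈ Finset.range (orderOf h), b ^ i = 0 := by
    have hbi : ∀ i : ℕ, b ^ i =
        Ideal.Quotient.mk (Ideal.span {(p : genAlg H)}) ((incl H h) ^ i) := fun i => by
      rw [hb, map_pow]
    have : ∑ i ∈ Finset.range (orderOf h), (incl H h) ^ i = 0 := by
      apply Subtype.ext
      rw [AddSubmonoidClass.coe_finsetSum]
      simp only [SubmonoidClass.coe_pow, coe_incl]
      exact hzeroD
    rw [Finset.sum_congr rfl (fun i _ => hbi i), ← map_sum, this, map_zero]
  rw [hzero, zero_mul] at hsum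
  have hpy : p • y = 0 := by
    obtain ⟨x, rfl⟩ := Ideal.Quotient.mk_surjective y
    rw [← map_nsmul, Ideal.Quotient.eq_zero_iff_mem]
    exact natCast_smul_mem H p x
  have hn1 : addOrderOf y ∣ orderOf h := addOrderOf_dvd_of_nsmul_eq_zero hsum.symm
  have hn2 : addOrderOf y ∣ p := addOrderOf_dvd_of_nsmul_eq_zero hpy
  have hcop : Nat.Coprime (orderOf h) p := by
    rw [Nat.coprime_comm, hp.coprime_iff_not_dvd]
    intro hdvd
    have h1 : orderOf h ∣ Nat.card H := orderOf_dvd_natCard h
    have h2 : 0 < Nat.card H := Nat.card_pos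
    have h3 := Nat.le_of_dvd h2 (hdvd.trans h1)
    omega
  have h5 : addOrderOf y = 1 := Nat.eq_one_of_dvd_coprimes hcop hn1 hn2
  exact AddMonoid.addOrderOf_eq_one_iff.1 h5

/-- A nontrivial finite subgroup of the multiplicative group of a division ring occurs as a Frobenius complement of some finite Frobenius group. -/
theorem result {D : Type*} [DivisionRing D] (H : Subgroup Dˣ) [Finite H] (hH : H ≠ ⊥) :
    ∃ (L : Type) (_ : Group L) (_ : Finite L) (C : Subgroup L), Cfsg.IsFrobeniusComplement C ∧ Nonempty (H ≃* C) := by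
  obtain ⟨l, hl⟩ := CharP.exists D
  by_cases h0 : l = 0
  · subst h0
    haveI := CharP.charP_to_charZero D
    exact case_zero H hH
  · exact case_pos H hH l h0

end Cfsg.Agent.S4293
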