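import Cfsg.Statements.S4296
-- import your own Cfsg.Agent.* helpers here
import Mathlib
import Cfsg.Agent.Lib.Helper22.QuatSquare
import Cfsg.Agent.S0035
import Cfsg.Agent.S0039
import Cfsg.Agent.S0040
import Cfsg.Agent.S0068

set_option autoImplicit false
open Cfsg

namespace Cfsg.Agent.S4296


/-- The quaternion relations inside `QuaternionGroup (2 ^ (k+1))`. -/
theorem quat_elts (k : ℕ) :
    ∃ i j z : QuaternionGroup (2 ^ (k + 1)), i * i = z ∧ j * j = z ∧ j * i = i * j * z ∧ z ≠ 1 ∧
      z * z = 1 := by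
  refine ⟨QuaternionGroup.a (2 ^ k : ℕ), QuaternionGroup.xa 0, QuaternionGroup.a (2 ^ (k + 1) : ℕ),
    ?_, ?_, ?_, ?_, ?_⟩
  · rw [QuaternionGroup.a_mul_a]
    congr 1
    push_cast
    ring
  · rw [QuaternionGroup.xa_mul_xa]
    congr 1
    push_cast
    ring
  · rw [QuaternionGroup.xa_mul_a, QuaternionGroup.a_mul_xa, QuaternionGroup.xa_mul_a]
    congr 1
    push_cast
    ring
  · intro h
    rw [QuaternionGroup.one_def] at h
    have h2 := QuaternionGroup.a.inj h
    rw [ZMod.natCast_eq_zero_iff] at h2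
    have h3 : 0 < 2 ^ (k + 1) := by positivity
    have h4 := Nat.le_of_dvd h3 h2
    generalize 2 ^ (k + 1) = m at h3 h4
    omega
  · rw [QuaternionGroup.a_mul_a, QuaternionGroup.one_def]
    congr 1
    have : (2 ^ (k + 1) + 2 ^ (k + 1) : ℕ) = 2 * 2 ^ (k + 1) := by ring
    rw [← Nat.cast_add, this, ZMod.natCast_self]

/-- Transport of the quaternion elements into a group containing a copy of a generalized
quaternion group as a subgroup of a subgroup. -/
theorem exists_quat_elts {L : Type*} [Group L] (H : Subgroup L) (P : Subgroup H) (k : ℕ)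
    (e : P ≃* QuaternionGroup (2 ^ (k + 1))) :
    ∃ i j z : L, i ∈ H ∧ j ∈ H ∧ z ∈ H ∧ i * i = z ∧ j * j = z ∧ j * i = i * j * z ∧ z ≠ 1 ∧
      z * z = 1 := by
  obtain ⟨i, j, z, hii, hjj, hji, hz1, hzz⟩ := quat_elts k
  refine ⟨((e.symm i : P) : H), ((e.symm j : P) : H), ((e.symm z : P) : H), (e.symm i : P).1.2,
    (e.symm j : P).1.2, (e.symm z : P).1.2, ?_, ?_, ?_, ?_, ?_⟩
  · rw [← hii, map_mul]; rfl
  · rw [← hjj, map_mul]; rfl
  · rw [← Subgroup.coe_mul, ← Subgroup.coe_mul, ← Subgroup.coe_mul, ← Subgroup.coe_mul,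
      ← Subgroup.coe_mul, ← Subgroup.coe_mul, ← map_mul, ← map_mul, ← map_mul, hji]
  · intro h
    apply hz1
    have h1 : (e.symm z : P) = 1 := by
      apply Subtype.ext
      apply Subtype.ext
      exact h
    rw [← e.apply_symm_apply z, h1, map_one]
  · rw [← Subgroup.coe_mul, ← Subgroup.coe_mul, ← map_mul, hzz, map_one]
    rfl

/-- Let H be a Frobenius complement in a finite group, and suppose some Sylow subgroup of H is not cyclic. Then the number of elements of the Frobenius kernel (the identity together with the elements lying in no conjugate of H) is an odd perfect square. -/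
theorem result {L : Type*} [Group L] [Finite L] (H : Subgroup L) (hF : Cfsg.IsFrobeniusComplement H)
    (hZ : ∃ (p : ℕ) (_ : Fact p.Prime) (P : Sylow p H), ¬ IsCyclic P) :
    Odd (Nat.card (Cfsg.frobeniusKernel H)) ∧ IsSquare (Nat.card (Cfsg.frobeniusKernel H)) := by
  obtain ⟨p, hp, P, hP⟩ := hZ
  obtain ⟨N, hNset, hNn, hc⟩ := Cfsg.Agent.S0035.result H hF
  have hcardN : Nat.card (Cfsg.frobeniusKernel H) = Nat.card N := by
    rw [← hNset]; rfl
  rw [hcardN]
  have hcm : Nat.card N * Nat.card H = Nat.card L := hc.card_mul_card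
  have hNbot : N ≠ ⊥ := by
    intro hb
    apply hF.2.1
    rw [hb, Subgroup.card_bot, one_mul] at hcm
    exact (Subgroup.card_eq_iff_eq_top H).1 hcm
  have hfpf := (Cfsg.Agent.S0039.result N H hc hNbot hF.1).1 hF
  rcases Cfsg.Agent.S0040.result N H hc hNbot hfpf p P with hcyc | ⟨n, ⟨e⟩⟩
  · exact absurd hcyc hP
  obtain _ | k := n
  · exfalso
    apply hP
    have := QuaternionGroup.quaternionGroup_one_isCyclic
    rw [pow_zero] at e
    exact isCyclic_of_surjective e.symm e.symm.surjective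
  obtain ⟨i, j, z, hiH, hjH, hzH, hii, hjj, hji, hz1, hzz⟩ := exists_quat_elts H (P : Subgroup H) k e
  have hzo : orderOf z = 2 := orderOf_eq_prime (by rw [sq]; exact hzz) hz1
  have heven : 2 ∣ Nat.card H := by
    rw [← hzo]; exact Subgroup.orderOf_dvd_natCard H hzH
  obtain ⟨⟨s, hsH, hso, hsu, hsinv⟩, hNcomm⟩ := Cfsg.Agent.S0068.result N H hc hNbot hfpf heven
  have hzs : z = s := hsu z hzH hzo
  have hzinv : ∀ x ∈ N, z * x * z⁻¹ = x⁻¹ := by rw [hzs]; exact hsinv
  have hodd : Odd (Nat.card N) := by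
    rw [← Nat.not_even_iff_odd]
    intro hev
    obtain ⟨x, hx⟩ := exists_prime_orderOf_dvd_card' (G := N) 2 hev.two_dvd
    have hx1 : x ≠ 1 := by
      intro h; rw [h, orderOf_one] at hx; omega
    have hxx : (x : L)⁻¹ = x := by
      have h2 : x ^ 2 = 1 := by rw [← hx]; exact pow_orderOf_eq_one x
      have h3 : (x : L) * x = 1 := by
        have := congrArg Subtype.val h2
        rw [sq] at this
        exact this
      exact inv_eq_of_mul_eq_one_left h3
    have hmem : (x : L) ∈ N ⊓ Subgroup.centralizer {z} := by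
      refine Subgroup.mem_inf.2 ⟨x.2, ?_⟩
      rw [Subgroup.mem_centralizer_singleton_iff]
      have := hzinv x x.2
      rw [hxx] at this
      rw [mul_inv_eq_iff_eq_mul] at this
      exact this.symm
    rw [hfpf z hzH hz1, Subgroup.mem_bot] at hmem
    exact hx1 (Subtype.ext hmem)
  refine ⟨hodd, ?_⟩
  refine Cfsg.Agent.Lib.Helper22.isSquare_card_of_quaternion_conj N ?_ i j z hii hjj hji hzinv hodd
  intro x hx y hy
  exact congrArg Subtype.val (hNcomm.is_comm.comm (⟨x, hx⟩ : N) ⟨y, hy⟩)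

end Cfsg.Agent.S4296
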