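import Cfsg.Statements.S4295
-- import your own Cfsg.Agent.* helpers here
import Mathlib
import Cfsg.Agent.Lib.Helper22.FrobSemi
import Cfsg.Agent.Lib.Helper18.UniqueInvolution
import Cfsg.Agent.S0034
import Cfsg.Agent.S4296

set_option autoImplicit false
open Cfsg

namespace Cfsg.Agent.S4295


/-- the prime piece: `(ZMod q)²` with `I = [[0,-1],[1,0]]`, `J = [[a,b],[b,-a]]`, `a²+b² = -1`. -/
theorem exists_quat_module_prime (q : ℕ) [Fact q.Prime] :
    ∃ (I J : (ZMod q × ZMod q) →+ (ZMod q × ZMod q)),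
      (∀ x, I (I x) = -x) ∧ (∀ x, J (J x) = -x) ∧ (∀ x, I (J x) = - J (I x)) := by
  obtain ⟨a, b, hab⟩ := ZMod.sq_add_sq q (-1 : ZMod q)
  refine ⟨AddMonoidHom.mk' (fun x => (-x.2, x.1)) ?_,
    AddMonoidHom.mk' (fun x => (a * x.1 + b * x.2, b * x.1 - a * x.2)) ?_, ?_, ?_, ?_⟩
  · intro x y
    ext <;> simp <;> ring
  · intro x y
    ext <;> simp <;> ring
  · intro x
    ext <;> simp
  · intro x
    have h1 : a * a + b * b = -1 := by rw [← hab]; ring
    ext
    · simp only [AddMonoidHom.mk'_apply, Prod.fst_neg]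
      linear_combination x.1 * h1
    · simp only [AddMonoidHom.mk'_apply, Prod.snd_neg]
      linear_combination x.2 * h1
  · intro x
    ext <;> simp <;> ring

theorem exists_quat_module : ∀ (k : ℕ), Odd k → ∃ (A : Type) (_ : AddCommGroup A) (_ : Finite A)
    (I J : A →+ A), Nat.card A = k * k ∧ (∀ x, I (I x) = -x) ∧ (∀ x, J (J x) = -x) ∧
      (∀ x, I (J x) = - J (I x)) := by
  intro k
  induction k using Nat.strong_induction_on with
  | _ k ih =>
    intro hk
    by_cases hk1 : k = 1
    · refine ⟨PUnit, inferInstance, inferInstance, 0, 0, ?_, ?_, ?_, ?_⟩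
      · rw [hk1]; simp
      · intro x; rfl
      · intro x; rfl
      · intro x; rfl
    · obtain ⟨q, hq, k', hk'⟩ : ∃ q, q.Prime ∧ q ∣ k := ⟨k.minFac, Nat.minFac_prime hk1, Nat.minFac_dvd k⟩
      have : Fact q.Prime := ⟨hq⟩
      have hkpos : 0 < k := hk.pos
      have hk'odd : Odd k' := by
        rw [hk'] at hk
        exact (Nat.odd_mul.1 hk).2
      have hk'lt : k' < k := by
        have h2 := hq.two_le
        have : 0 < k' := hk'odd.pos
        nlinarith
      obtain ⟨A', _, _, I', J', hcard, hI', hJ', hIJ'⟩ := ih k' hk'lt hk'odd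
      obtain ⟨I, J, hI, hJ, hIJ⟩ := exists_quat_module_prime q
      refine ⟨(ZMod q × ZMod q) × A', inferInstance, inferInstance,
        I.prodMap I', J.prodMap J', ?_, ?_, ?_, ?_⟩
      · rw [Nat.card_prod, Nat.card_prod, Nat.card_zmod, hcard]
        rw [hk']
        ring
      · intro x
        ext
        · simp [hI]
        · simp [hI]
        · simp [hI']
      · intro x
        ext
        · simp [hJ]
        · simp [hJ]
        · simp [hJ']
      · intro x
        ext
        · simp [hIJ]
        · simp [hIJ]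
        · simp [hIJ']


/-- the automorphism of `Multiplicative A` given by an additive map squaring to `-1`. -/
def autOf {A : Type*} [AddCommGroup A] (I : A →+ A) (hI : ∀ x, I (I x) = -x) :
    MulAut (Multiplicative A) where
  toFun x := Multiplicative.ofAdd (I x.toAdd)
  invFun x := Multiplicative.ofAdd (-(I x.toAdd))
  left_inv x := by
    show Multiplicative.ofAdd (-(I (I x.toAdd))) = x
    rw [hI, neg_neg]; rfl
  right_inv x := by
    show Multiplicative.ofAdd (I (-(I x.toAdd))) = x
    rw [map_neg, hI, neg_neg]; rfl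
  map_mul' x y := by
    show Multiplicative.ofAdd (I (x.toAdd + y.toAdd)) = _
    rw [map_add]; rfl

theorem autOf_apply {A : Type*} [AddCommGroup A] (I : A →+ A) (hI : ∀ x, I (I x) = -x)
    (x : Multiplicative A) : autOf I hI x = Multiplicative.ofAdd (I x.toAdd) := rfl

theorem exists_frobenius_quat {A : Type} [AddCommGroup A] [Finite A] [Nontrivial A] (I J : A →+ A)
    (hI : ∀ x, I (I x) = -x) (hJ : ∀ x, J (J x) = -x) (hIJ : ∀ x, I (J x) = - J (I x))
    (hodd : Odd (Nat.card A)) :
    ∃ (L : Type) (_ : Group L) (_ : Finite L) (H : Subgroup L), Cfsg.IsFrobeniusComplement H ∧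
      Nonempty (H ≃* QuaternionGroup 2) ∧ Nat.card (Cfsg.frobeniusKernel H) = Nat.card A := by
  have hJI : ∀ x, J (I x) = - I (J x) := fun x => by rw [hIJ, neg_neg]
  -- relations in the automorphism group
  have hsq : ∀ x : Multiplicative A, (autOf I hI * autOf I hI) x = x⁻¹ := by
    intro x
    rw [MulAut.mul_apply, autOf_apply, autOf_apply, toAdd_ofAdd, hI]; rfl
  have hsqJ : ∀ x : Multiplicative A, (autOf J hJ * autOf J hJ) x = x⁻¹ := by
    intro x
    rw [MulAut.mul_apply, autOf_apply, autOf_apply, toAdd_ofAdd, hJ]; rfl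
  have ha : (autOf I hI) ^ (2 * 2) = 1 := by
    rw [pow_mul, sq, sq]
    apply MulEquiv.ext
    intro x
    rw [MulAut.mul_apply, hsq, hsq, inv_inv]; rfl
  have hx : (autOf J hJ) ^ 2 = (autOf I hI) ^ 2 := by
    rw [sq, sq]
    apply MulEquiv.ext
    intro x
    rw [hsq, hsqJ]
  have hxa : autOf J hJ * autOf I hI * (autOf J hJ)⁻¹ = (autOf I hI)⁻¹ := by
    rw [mul_inv_eq_iff_eq_mul, eq_inv_mul_iff_mul_eq]
    apply MulEquiv.ext
    intro x
    rw [MulAut.mul_apply, MulAut.mul_apply, autOf_apply, autOf_apply, autOf_apply, autOf_apply,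
      toAdd_ofAdd, toAdd_ofAdd, hJI, map_neg, hI, neg_neg]
  let φ : QuaternionGroup 2 →* MulAut (Multiplicative A) :=
    Cfsg.Agent.Lib.Helper18.quatLift (autOf I hI) (autOf J hJ) ha hx hxa
  have hz : ∀ x : Multiplicative A, φ (QuaternionGroup.a 2) x = x⁻¹ := by
    intro x
    have h2 : (2 : ZMod (2 * 2)) = ((2 : ℤ) : ZMod (2 * 2)) := by norm_cast
    show Cfsg.Agent.Lib.Helper18.quatLift (autOf I hI) (autOf J hJ) ha hx hxa (QuaternionGroup.a 2) x = _
    rw [Cfsg.Agent.Lib.Helper18.quatLift_a, h2, Cfsg.Agent.Lib.Helper3.dihPow_intCast]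
    rw [show ((2 : ℤ)) = ((2 : ℕ) : ℤ) by norm_cast, zpow_natCast, sq, hsq]
  have hcases : ∀ g : QuaternionGroup 2, g ≠ 1 → g = QuaternionGroup.a 2 ∨ g * g = QuaternionGroup.a 2 := by
    intro g hg
    cases g with
    | a i =>
      rw [QuaternionGroup.a_mul_a]
      have : ∀ i : ZMod (2 * 2), i ≠ 0 → i = 2 ∨ i + i = 2 := by decide
      rcases this i (fun h => hg (by rw [h]; rfl)) with h | h
      · left; rw [h]
      · right; rw [h]
    | xa i =>
      right
      rw [QuaternionGroup.xa_mul_xa]
      congr 1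
      have : ∀ i : ZMod (2 * 2), ((2 : ℕ) : ZMod (2 * 2)) + i - i = 2 := by decide
      exact this i
  have hfix : ∀ n : Multiplicative A, n⁻¹ = n → n = 1 := by
    intro n hn
    have h1 : n ^ 2 = 1 := by
      rw [sq]
      nth_rewrite 1 [← hn]
      exact inv_mul_cancel n
    have h2 : n ^ Nat.card (Multiplicative A) = 1 := pow_card_eq_one'
    have h3 : orderOf n ∣ 2 := orderOf_dvd_of_pow_eq_one h1
    have h4 : orderOf n ∣ Nat.card (Multiplicative A) := orderOf_dvd_of_pow_eq_one h2
    have h5 : Nat.Coprime 2 (Nat.card (Multiplicative A)) := by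
      have : Odd (Nat.card (Multiplicative A)) := hodd
      exact (Nat.coprime_two_left).2 this
    have h6 : orderOf n = 1 := Nat.eq_one_of_dvd_coprimes h5 h3 h4
    exact orderOf_eq_one_iff.1 h6
  have hfpf : ∀ k : QuaternionGroup 2, k ≠ 1 → ∀ n : Multiplicative A, φ k n = n → n = 1 := by
    intro k hk n hn
    apply hfix
    rcases hcases k hk with h | h
    · rw [← hz, ← h, hn]
    · rw [← hz, ← h, map_mul, MulAut.mul_apply, hn, hn]
  haveI : Nontrivial (Multiplicative A) := inferInstanceAs (Nontrivial A)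
  have hF := Cfsg.Agent.Lib.Helper22.isFrobeniusComplement_range_inr φ hfpf
  haveI : Finite (Multiplicative A ⋊[φ] QuaternionGroup 2) :=
    Finite.of_equiv _ SemidirectProduct.equivProd.symm
  refine ⟨Multiplicative A ⋊[φ] QuaternionGroup 2, inferInstance, inferInstance,
    (SemidirectProduct.inr : QuaternionGroup 2 →* Multiplicative A ⋊[φ] QuaternionGroup 2).range, hF,
    ⟨(MonoidHom.ofInjective SemidirectProduct.inr_injective).symm⟩, ?_⟩
  rw [(Cfsg.Agent.S0034.result _ hF).1]
  have h1 := Subgroup.card_mul_index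
    (SemidirectProduct.inr : QuaternionGroup 2 →* Multiplicative A ⋊[φ] QuaternionGroup 2).range
  rw [SemidirectProduct.card, Nat.card_congr (MonoidHom.ofInjective
    (SemidirectProduct.inr_injective (φ := φ))).symm.toEquiv, mul_comm] at h1
  have hpos : 0 < Nat.card (QuaternionGroup 2) := Nat.card_pos
  exact Nat.eq_of_mul_eq_mul_right hpos h1

/-- For a natural number m the following are equivalent: (a) some finite group has a Frobenius complement isomorphic to the quaternion group of order 8 whose Frobenius kernel (the identity together with the elements lying in no conjugate of the complement) has exactly m elements; (b) m is an odd perfect square greater than 1. -/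
theorem result (m : ℕ) :
    (∃ (L : Type) (_ : Group L) (_ : Finite L) (H : Subgroup L), Cfsg.IsFrobeniusComplement H ∧
        Nonempty (H ≃* QuaternionGroup 2) ∧ Nat.card (Cfsg.frobeniusKernel H) = m) ↔
    (Odd m ∧ IsSquare m ∧ 1 < m) := by
  constructor
  · rintro ⟨L, _, _, H, hF, ⟨e⟩, hm⟩
    have hcardH : Nat.card H = 8 := by
      rw [Nat.card_congr e.toEquiv, Nat.card_eq_fintype_card, QuaternionGroup.card]
    have P : Sylow 2 H := default
    have hP8 : Nat.card P = 8 := by
      rw [Sylow.card_eq_multiplicity, hcardH]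
      have : (8 : ℕ) = 2 ^ 3 := by norm_num
      rw [this, Nat.prime_two.factorization_pow]
      simp
    have hPtop : (P : Subgroup H) = ⊤ :=
      (Subgroup.card_eq_iff_eq_top _).1 (hP8.trans hcardH.symm)
    have hPnc : ¬ IsCyclic P := by
      intro hc
      have hx : e.symm (QuaternionGroup.a 1) ∈ (P : Subgroup H) := by rw [hPtop]; trivial
      have hy : e.symm (QuaternionGroup.xa 0) ∈ (P : Subgroup H) := by rw [hPtop]; trivial
      have hcomm := hc.isMulCommutative.is_comm.comm (⟨_, hx⟩ : P) ⟨_, hy⟩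
      have h1 := congrArg Subtype.val hcomm
      have h2 : e.symm (QuaternionGroup.a 1) * e.symm (QuaternionGroup.xa 0) =
          e.symm (QuaternionGroup.xa 0) * e.symm (QuaternionGroup.a 1) := h1
      rw [← map_mul, ← map_mul] at h2
      have h3 := e.symm.injective h2
      rw [QuaternionGroup.a_mul_xa, QuaternionGroup.xa_mul_a] at h3
      have h4 := QuaternionGroup.xa.inj h3
      revert h4
      decide
    obtain ⟨h1, h2⟩ := Cfsg.Agent.S4296.result H hF ⟨2, ⟨Nat.prime_two⟩, P, hPnc⟩
    rw [hm] at h1 h2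
    refine ⟨h1, h2, ?_⟩
    rw [← hm, (Cfsg.Agent.S0034.result H hF).1]
    have h3 : H.index ≠ 0 := Subgroup.index_ne_zero_of_finite
    have h4 : H.index ≠ 1 := fun h => hF.2.1 (Subgroup.index_eq_one.1 h)
    omega
  · rintro ⟨hodd, ⟨k, rfl⟩, hlt⟩
    have hk : Odd k := (Nat.odd_mul.1 hodd).1
    obtain ⟨A, _, _, I, J, hcard, hI, hJ, hIJ⟩ := exists_quat_module k hk
    have : Nontrivial A := by
      rw [← Finite.one_lt_card_iff_nontrivial, hcard]
      exact hlt
    obtain ⟨L, i1, i2, H, hF, he, hc⟩ := exists_frobenius_quat I J hI hJ hIJ (hcard ▸ hodd)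
    exact ⟨L, i1, i2, H, hF, he, hc.trans hcard⟩

end Cfsg.Agent.S4295
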