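import Cfsg.Statements.S4297
-- import your own Cfsg.Agent.* helpers here
import Mathlib
import Cfsg.Agent.Lib.Helper22.FrobSemi

set_option autoImplicit false
open Cfsg

namespace Cfsg.Agent.S4297


section chi
variable {p : ℕ} [Fact p.Prime]

/-- the character `i ↦ u ^ i` of `Z/m` for `u ^ m = 1` -/
noncomputable def chiAdd (m : ℕ) (u : (ZMod p)ˣ) (hu : u ^ m = 1) : ZMod m →+ Additive (ZMod p)ˣ :=
  ZMod.lift m ⟨zmultiplesHom (Additive (ZMod p)ˣ) (Additive.ofMul u), by
    rw [zmultiplesHom_apply]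
    show Additive.ofMul (u ^ (m : ℤ)) = 0
    rw [zpow_natCast, hu]
    rfl⟩

noncomputable def chi (m : ℕ) (u : (ZMod p)ˣ) (hu : u ^ m = 1) (i : ZMod m) : (ZMod p)ˣ :=
  Additive.toMul (chiAdd m u hu i)

theorem chi_add (m : ℕ) (u : (ZMod p)ˣ) (hu : u ^ m = 1) (i j : ZMod m) :
    chi m u hu (i + j) = chi m u hu i * chi m u hu j := by
  unfold chi
  rw [map_add]
  rfl

theorem chi_zero (m : ℕ) (u : (ZMod p)ˣ) (hu : u ^ m = 1) : chi m u hu 0 = 1 := by
  unfold chi
  rw [map_zero]
  rfl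

theorem chi_neg (m : ℕ) (u : (ZMod p)ˣ) (hu : u ^ m = 1) (i : ZMod m) :
    chi m u hu (-i) = (chi m u hu i)⁻¹ := by
  unfold chi
  rw [map_neg]
  rfl

theorem chi_sub (m : ℕ) (u : (ZMod p)ˣ) (hu : u ^ m = 1) (i j : ZMod m) :
    chi m u hu (i - j) = chi m u hu i * (chi m u hu j)⁻¹ := by
  rw [sub_eq_add_neg, chi_add, chi_neg]

theorem chi_natCast (m : ℕ) (u : (ZMod p)ˣ) (hu : u ^ m = 1) (k : ℕ) :
    chi m u hu (k : ZMod m) = u ^ k := by
  unfold chi chiAdd
  have h1 : ((k : ℕ) : ZMod m) = (((k : ℕ) : ℤ) : ZMod m) := by push_cast; rfl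
  rw [h1, ZMod.lift_coe]
  show Additive.toMul (zmultiplesHom (Additive (ZMod p)ˣ) (Additive.ofMul u) (k : ℤ)) = u ^ k
  rw [zmultiplesHom_apply]
  show u ^ ((k : ℕ) : ℤ) = u ^ k
  rw [zpow_natCast]

theorem chi_eq_one (m : ℕ) (u : (ZMod p)ˣ) (hu : u ^ m = 1) (hord : orderOf u = m) (i : ZMod m)
    (hi : chi m u hu i = 1) : i = 0 := by
  have hinj : Function.Injective (chiAdd m u hu) := by
    unfold chiAdd
    rw [ZMod.lift_injective]
    intro k hk
    have hk' : u ^ k = 1 := by
      have : Additive.toMul (zmultiplesHom (Additive (ZMod p)ˣ) (Additive.ofMul u) k) = 1 := by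
        rw [show (zmultiplesHom (Additive (ZMod p)ˣ) (Additive.ofMul u) k) = 0 from hk]
        rfl
      rw [zmultiplesHom_apply] at this
      exact this
    rw [ZMod.intCast_zmod_eq_zero_iff_dvd, ← hord]
    exact orderOf_dvd_iff_zpow_eq_one.mpr hk'
  apply hinj
  rw [map_zero]
  exact hi

end chi

section auts
variable {F : Type*} [Field F]

/-- `(x, y) ↦ (c x, d y)` -/
def dAut (c d : Fˣ) : MulAut (Multiplicative (F × F)) where
  toFun v := Multiplicative.ofAdd (c * v.toAdd.1, d * v.toAdd.2)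
  invFun v := Multiplicative.ofAdd (↑c⁻¹ * v.toAdd.1, ↑d⁻¹ * v.toAdd.2)
  left_inv v := by
    apply Multiplicative.toAdd.injective
    ext <;> simp
  right_inv v := by
    apply Multiplicative.toAdd.injective
    ext <;> simp
  map_mul' v w := by
    apply Multiplicative.toAdd.injective
    ext <;> simp [mul_add]

/-- `(x, y) ↦ (c y, d x)` -/
def xAut (c d : Fˣ) : MulAut (Multiplicative (F × F)) where
  toFun v := Multiplicative.ofAdd (c * v.toAdd.2, d * v.toAdd.1)
  invFun v := Multiplicative.ofAdd (↑d⁻¹ * v.toAdd.2, ↑c⁻¹ * v.toAdd.1)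
  left_inv v := by
    apply Multiplicative.toAdd.injective
    ext <;> simp
  right_inv v := by
    apply Multiplicative.toAdd.injective
    ext <;> simp
  map_mul' v w := by
    apply Multiplicative.toAdd.injective
    ext <;> simp [mul_add]

theorem dAut_apply (c d : Fˣ) (v : Multiplicative (F × F)) :
    dAut c d v = Multiplicative.ofAdd (↑c * v.toAdd.1, ↑d * v.toAdd.2) := rfl
theorem xAut_apply (c d : Fˣ) (v : Multiplicative (F × F)) :
    xAut c d v = Multiplicative.ofAdd (↑c * v.toAdd.2, ↑d * v.toAdd.1) := rfl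

theorem dAut_mul_dAut (c d c' d' : Fˣ) : dAut c d * dAut c' d' = dAut (c * c') (d * d') := by
  apply MulEquiv.ext
  intro v
  rw [MulAut.mul_apply, dAut_apply, dAut_apply, dAut_apply]
  apply Multiplicative.toAdd.injective
  ext <;> simp [mul_assoc]

theorem dAut_mul_xAut (c d c' d' : Fˣ) : dAut c d * xAut c' d' = xAut (c * c') (d * d') := by
  apply MulEquiv.ext
  intro v
  rw [MulAut.mul_apply, dAut_apply, xAut_apply, xAut_apply]
  apply Multiplicative.toAdd.injective
  ext <;> simp [mul_assoc]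

theorem xAut_mul_dAut (c d c' d' : Fˣ) : xAut c d * dAut c' d' = xAut (c * d') (d * c') := by
  apply MulEquiv.ext
  intro v
  rw [MulAut.mul_apply, dAut_apply, xAut_apply, xAut_apply]
  apply Multiplicative.toAdd.injective
  ext <;> simp [mul_assoc]

theorem xAut_mul_xAut (c d c' d' : Fˣ) : xAut c d * xAut c' d' = dAut (c * d') (d * c') := by
  apply MulEquiv.ext
  intro v
  rw [MulAut.mul_apply, dAut_apply, xAut_apply, xAut_apply]
  apply Multiplicative.toAdd.injective
  ext <;> simp [mul_assoc]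

theorem dAut_one : dAut (1 : Fˣ) 1 = 1 := by
  apply MulEquiv.ext
  intro v
  rw [dAut_apply]
  apply Multiplicative.toAdd.injective
  ext <;> simp

end auts

section rep

theorem aux1 {F : Type*} [Field F] (a b : Fˣ) : -(b * a⁻¹) = a⁻¹ * -b := by rw [mul_neg, mul_comm]

theorem aux2 {F : Type*} [Field F] (a b : Fˣ) : -1 * b * a⁻¹ = a⁻¹ * -b := by
  rw [neg_one_mul, neg_mul, mul_neg, mul_comm]

theorem aux3 {F : Type*} [Field F] (a b : Fˣ) : (a⁻¹ * -b)⁻¹ = -a * b⁻¹ := by
  apply Units.ext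
  push_cast
  have ha : (a : F) ≠ 0 := a.ne_zero
  have hb : (b : F) ≠ 0 := b.ne_zero
  field_simp

variable {p : ℕ} [Fact p.Prime] (n : ℕ) (u : (ZMod p)ˣ) (hu : u ^ (2 * n) = 1)

/-- the underlying function of the representation of the dicyclic group -/
noncomputable def rhoFun : QuaternionGroup n → MulAut (Multiplicative (ZMod p × ZMod p))
  | QuaternionGroup.a i => dAut (chi (2 * n) u hu i) (chi (2 * n) u hu (-i))
  | QuaternionGroup.xa i => xAut (chi (2 * n) u hu (-i)) (-(chi (2 * n) u hu i))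

variable (hn1 : u ^ n = -1)
include hn1

theorem chi_n : chi (2 * n) u hu (n : ZMod (2 * n)) = -1 := by
  rw [chi_natCast, hn1]

noncomputable def rho : QuaternionGroup n →* MulAut (Multiplicative (ZMod p × ZMod p)) where
  toFun := rhoFun n u hu
  map_one' := by
    rw [QuaternionGroup.one_def]
    show dAut (chi (2 * n) u hu 0) (chi (2 * n) u hu (-0)) = 1
    rw [neg_zero, chi_zero, dAut_one]
  map_mul' := by
    have hcn := chi_n n u hu hn1
    rintro (i | i) (j | j)
    · show dAut _ _ = dAut _ _ * dAut _ _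
      rw [dAut_mul_dAut, neg_add, chi_add, chi_add]
    · show xAut _ _ = dAut _ _ * xAut _ _
      rw [dAut_mul_xAut, neg_sub, chi_sub, chi_sub, chi_neg, chi_neg, aux1]
    · show xAut _ _ = xAut _ _ * dAut _ _
      rw [xAut_mul_dAut, neg_add, chi_add, chi_add, neg_mul]
    · show dAut _ _ = xAut _ _ * xAut _ _
      rw [xAut_mul_xAut, chi_neg, chi_sub, chi_add, hcn, chi_neg, chi_neg, aux2, aux3]

theorem rho_fpf (hord : orderOf u = 2 * n) (hp2 : (2 : ZMod p) ≠ 0) (g : QuaternionGroup n)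
    (hg : g ≠ 1) (v : Multiplicative (ZMod p × ZMod p)) (hv : rho n u hu hn1 g v = v) : v = 1 := by
  rcases g with i | i
  · have hi : i ≠ 0 := by
      rintro rfl
      exact hg rfl
    have h1 : ((chi (2 * n) u hu i : (ZMod p)ˣ) : ZMod p) ≠ 1 := fun h =>
      hi (chi_eq_one _ u hu hord i (Units.ext h))
    have h2 : ((chi (2 * n) u hu (-i) : (ZMod p)ˣ) : ZMod p) ≠ 1 := fun h =>
      hi (neg_eq_zero.mp (chi_eq_one _ u hu hord (-i) (Units.ext h)))
    have hv' : dAut (chi (2 * n) u hu i) (chi (2 * n) u hu (-i)) v = v := hv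
    rw [dAut_apply] at hv'
    have h3 := congrArg Multiplicative.toAdd hv'
    have e1 : ((chi (2 * n) u hu i : (ZMod p)ˣ) : ZMod p) * v.toAdd.1 = v.toAdd.1 :=
      congrArg Prod.fst h3
    have e2 : ((chi (2 * n) u hu (-i) : (ZMod p)ˣ) : ZMod p) * v.toAdd.2 = v.toAdd.2 :=
      congrArg Prod.snd h3
    have z1 : v.toAdd.1 = 0 := by
      have : (((chi (2 * n) u hu i : (ZMod p)ˣ) : ZMod p) - 1) * v.toAdd.1 = 0 := by
        rw [sub_mul, e1, one_mul, sub_self]
      rcases mul_eq_zero.mp this with h | h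
      · exact absurd (sub_eq_zero.mp h) h1
      · exact h
    have z2 : v.toAdd.2 = 0 := by
      have : (((chi (2 * n) u hu (-i) : (ZMod p)ˣ) : ZMod p) - 1) * v.toAdd.2 = 0 := by
        rw [sub_mul, e2, one_mul, sub_self]
      rcases mul_eq_zero.mp this with h | h
      · exact absurd (sub_eq_zero.mp h) h2
      · exact h
    apply Multiplicative.toAdd.injective
    exact Prod.ext z1 z2
  · have hv' : xAut (chi (2 * n) u hu (-i)) (-(chi (2 * n) u hu i)) v = v := hv
    rw [xAut_apply] at hv'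
    have h3 := congrArg Multiplicative.toAdd hv'
    have e1 : ((chi (2 * n) u hu (-i) : (ZMod p)ˣ) : ZMod p) * v.toAdd.2 = v.toAdd.1 :=
      congrArg Prod.fst h3
    have e2 : ((-(chi (2 * n) u hu i) : (ZMod p)ˣ) : ZMod p) * v.toAdd.1 = v.toAdd.2 :=
      congrArg Prod.snd h3
    have hinv : ((chi (2 * n) u hu i : (ZMod p)ˣ) : ZMod p) *
        ((chi (2 * n) u hu (-i) : (ZMod p)ˣ) : ZMod p) = 1 := by
      rw [chi_neg, ← Units.val_mul, mul_inv_cancel, Units.val_one]
    have z2 : v.toAdd.2 = 0 := by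
      have h4 : -v.toAdd.2 = v.toAdd.2 := by
        rw [← e1, Units.val_neg, neg_mul, ← mul_assoc, hinv, one_mul] at e2
        exact e2
      have h5 : (2 : ZMod p) * v.toAdd.2 = 0 := by
        rw [two_mul]
        nth_rewrite 1 [← h4]
        rw [neg_add_cancel]
      rcases mul_eq_zero.mp h5 with h | h
      · exact absurd h hp2
      · exact h
    have z1 : v.toAdd.1 = 0 := by
      rw [← e1, z2, mul_zero]
    apply Multiplicative.toAdd.injective
    exact Prod.ext z1 z2

end rep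

instance nontrivial_quaternionGroup (n : ℕ) : Nontrivial (QuaternionGroup n) :=
  ⟨⟨QuaternionGroup.xa 0, 1, by rw [QuaternionGroup.one_def]; intro h; cases h⟩⟩

instance nontrivial_plane (p : ℕ) [Fact p.Prime] : Nontrivial (Multiplicative (ZMod p × ZMod p)) :=
  ⟨⟨Multiplicative.ofAdd (0, 0), Multiplicative.ofAdd (1, 0), by
    intro h
    have := congrArg (fun v => (Multiplicative.toAdd v).1) h
    exact zero_ne_one this⟩⟩

/-- For every n ≥ 2 the dicyclic group of order 4n (generated by an element a of order 2n and an element x with x² = aⁿ and x a x⁻¹ = a⁻¹) occurs as a Frobenius complement of some finite Frobenius group. -/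
theorem result (n : ℕ) (hn : 2 ≤ n) :
    ∃ (L : Type) (_ : Group L) (_ : Finite L) (H : Subgroup L), Cfsg.IsFrobeniusComplement H ∧ Nonempty (H ≃* QuaternionGroup n) := by
  classical
  have hn0 : 2 * n ≠ 0 := by omega
  haveI : NeZero n := ⟨by omega⟩
  obtain ⟨p, hp, hp2, hmod⟩ := Nat.exists_prime_gt_modEq_one 2 hn0
  haveI : Fact p.Prime := ⟨hp⟩
  have hdvd : 2 * n ∣ p - 1 := (Nat.modEq_iff_dvd' hp.one_lt.le).1 hmod.symm
  have hcardU : Nat.card (ZMod p)ˣ = p - 1 := by
    rw [Nat.card_eq_fintype_card, ZMod.card_units]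
  obtain ⟨g, hg⟩ := isCyclic_iff_exists_orderOf_eq_natCard.1
    (inferInstance : IsCyclic (ZMod p)ˣ)
  rw [hcardU] at hg
  have hp1 : 0 < p - 1 := Nat.sub_pos_of_lt hp.one_lt
  obtain ⟨k, hk⟩ := hdvd
  have hk0 : k ≠ 0 := by
    rintro rfl
    rw [mul_zero] at hk
    omega
  -- an element of order `2 n`
  have hord : orderOf (g ^ k) = 2 * n := by
    rw [orderOf_pow_of_dvd hk0 (by rw [hg, hk]; exact Dvd.intro_left _ rfl), hg, hk]
    exact Nat.mul_div_cancel _ (Nat.pos_of_ne_zero hk0)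
  set u := g ^ k with hu_def
  have hu : u ^ (2 * n) = 1 := by rw [← hord]; exact pow_orderOf_eq_one u
  have hun : u ^ n ≠ 1 := by
    intro h
    have h1 : orderOf u ∣ n := orderOf_dvd_of_pow_eq_one h
    rw [hord] at h1
    have := Nat.le_of_dvd (by omega) h1
    omega
  have hn1 : u ^ n = -1 := by
    have h1 : ((u ^ n : (ZMod p)ˣ) : ZMod p) * ((u ^ n : (ZMod p)ˣ) : ZMod p) = 1 := by
      rw [← Units.val_mul, ← pow_add, ← two_mul, hu, Units.val_one]
    rcases mul_self_eq_one_iff.mp h1 with h | h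
    · exact absurd (Units.ext h) hun
    · exact Units.ext (by rw [h, Units.val_neg, Units.val_one])
  have hp2' : (2 : ZMod p) ≠ 0 := by
    intro h
    have h1 : ((2 : ℕ) : ZMod p) = 0 := by exact_mod_cast h
    rw [ZMod.natCast_eq_zero_iff] at h1
    have := Nat.le_of_dvd (by norm_num) h1
    omega
  exact Cfsg.Agent.Lib.Helper22.exists_frobenius_of_fpf (rho n u hu hn1)
    (rho_fpf n u hu hn1 hord hp2')

end Cfsg.Agent.S4297
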