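import Cfsg.Statements.S4298
-- import your own Cfsg.Agent.* helpers here
import Mathlib
import Cfsg.Agent.Lib.Helper22.FrobSemi

set_option autoImplicit false
open Cfsg

namespace Cfsg.Agent.S4298


abbrev W5 := ZMod 5 × ZMod 5

/-- an explicit embedding of `SL(2,3)` into `SL(2,5)`, as a table on matrix entries -/
def table : List ((ZMod 3 × ZMod 3 × ZMod 3 × ZMod 3) × (ZMod 5 × ZMod 5 × ZMod 5 × ZMod 5)) :=
  [((0, 1, 2, 0), (0, 4, 1, 0)),
   ((0, 1, 2, 1), (2, 4, 3, 4)),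
   ((0, 1, 2, 2), (3, 2, 1, 1)),
   ((0, 2, 1, 0), (0, 1, 4, 0)),
   ((0, 2, 1, 1), (2, 3, 4, 4)),
   ((0, 2, 1, 2), (3, 1, 2, 1)),
   ((1, 0, 0, 1), (1, 0, 0, 1)),
   ((1, 0, 1, 1), (1, 2, 1, 3)),
   ((1, 0, 2, 1), (3, 3, 4, 1)),
   ((1, 1, 0, 1), (1, 1, 2, 3)),
   ((1, 1, 1, 2), (0, 2, 2, 0)),
   ((1, 1, 2, 0), (4, 2, 1, 2)),
   ((1, 2, 0, 1), (3, 4, 3, 1)),
   ((1, 2, 1, 0), (4, 1, 2, 2)),
   ((1, 2, 2, 2), (3, 0, 0, 2)),
   ((2, 0, 0, 2), (4, 0, 0, 4)),
   ((2, 0, 1, 2), (2, 2, 1, 4)),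
   ((2, 0, 2, 2), (4, 3, 4, 2)),
   ((2, 1, 0, 2), (2, 1, 2, 4)),
   ((2, 1, 1, 1), (2, 0, 0, 3)),
   ((2, 1, 2, 0), (1, 4, 3, 3)),
   ((2, 2, 0, 2), (4, 4, 3, 2)),
   ((2, 2, 1, 0), (1, 3, 4, 3)),
   ((2, 2, 2, 1), (0, 3, 3, 0))]

def tab (a b c d : ZMod 3) : ZMod 5 × ZMod 5 × ZMod 5 × ZMod 5 :=
  (table.lookup (a, b, c, d)).getD (1, 0, 0, 1)

def act (a b c d : ZMod 3) (v : W5) : W5 :=
  ((tab a b c d).1 * v.1 + (tab a b c d).2.1 * v.2,
    (tab a b c d).2.2.1 * v.1 + (tab a b c d).2.2.2 * v.2)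

theorem act_add (a b c d : ZMod 3) (v w : W5) : act a b c d (v + w) = act a b c d v + act a b c d w := by
  unfold act
  ext
  · simp only [Prod.fst_add, Prod.snd_add]; ring
  · simp only [Prod.fst_add, Prod.snd_add]; ring

theorem act_mul : ∀ (a b c d a' b' c' d' : ZMod 3), a * d - b * c = 1 → a' * d' - b' * c' = 1 →
    ∀ v : W5, act (a * a' + b * c') (a * b' + b * d') (c * a' + d * c') (c * b' + d * d') v =
      act a b c d (act a' b' c' d' v) := by
  decide +kernel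

theorem act_one : ∀ v : W5, act 1 0 0 1 v = v := by decide +kernel

theorem act_inv_left : ∀ (a b c d : ZMod 3), a * d - b * c = 1 →
    ∀ v : W5, act d (-b) (-c) a (act a b c d v) = v := by decide +kernel

theorem act_inv_right : ∀ (a b c d : ZMod 3), a * d - b * c = 1 →
    ∀ v : W5, act a b c d (act d (-b) (-c) a v) = v := by decide +kernel

theorem act_fpf : ∀ (a b c d : ZMod 3), a * d - b * c = 1 → (a, b, c, d) ≠ (1, 0, 0, 1) →
    ∀ v : W5, act a b c d v = v → v = 0 := by decide +kernel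

abbrev SL23 := Matrix.SpecialLinearGroup (Fin 2) (ZMod 3)

theorem det_eq (A : SL23) : A.1 0 0 * A.1 1 1 - A.1 0 1 * A.1 1 0 = 1 := by
  have h := A.2
  rw [Matrix.det_fin_two] at h
  exact h

def rhoAut (A : SL23) : MulAut (Multiplicative W5) where
  toFun v := Multiplicative.ofAdd (act (A.1 0 0) (A.1 0 1) (A.1 1 0) (A.1 1 1) v.toAdd)
  invFun v := Multiplicative.ofAdd (act (A.1 1 1) (-(A.1 0 1)) (-(A.1 1 0)) (A.1 0 0) v.toAdd)
  left_inv v := by
    show Multiplicative.ofAdd (act (A.1 1 1) (-(A.1 0 1)) (-(A.1 1 0)) (A.1 0 0)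
      (act (A.1 0 0) (A.1 0 1) (A.1 1 0) (A.1 1 1) v.toAdd)) = v
    rw [act_inv_left _ _ _ _ (det_eq A)]
    rfl
  right_inv v := by
    show Multiplicative.ofAdd (act (A.1 0 0) (A.1 0 1) (A.1 1 0) (A.1 1 1)
      (act (A.1 1 1) (-(A.1 0 1)) (-(A.1 1 0)) (A.1 0 0) v.toAdd)) = v
    rw [act_inv_right _ _ _ _ (det_eq A)]
    rfl
  map_mul' v w := by
    show Multiplicative.ofAdd (act _ _ _ _ (v.toAdd + w.toAdd)) = _
    rw [act_add]
    rfl

theorem rhoAut_apply (A : SL23) (v : Multiplicative W5) :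
    rhoAut A v = Multiplicative.ofAdd (act (A.1 0 0) (A.1 0 1) (A.1 1 0) (A.1 1 1) v.toAdd) := rfl

theorem mul_entries (A B : SL23) (i j : Fin 2) :
    (A * B).1 i j = A.1 i 0 * B.1 0 j + A.1 i 1 * B.1 1 j := by
  show (A.1 * B.1) i j = _
  rw [Matrix.mul_apply, Fin.sum_univ_two]

def rho : SL23 →* MulAut (Multiplicative W5) where
  toFun A := rhoAut A
  map_one' := by
    apply MulEquiv.ext
    intro v
    rw [rhoAut_apply]
    show Multiplicative.ofAdd (act 1 0 0 1 v.toAdd) = v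
    rw [act_one]
    rfl
  map_mul' A B := by
    apply MulEquiv.ext
    intro v
    rw [MulAut.mul_apply, rhoAut_apply, rhoAut_apply, rhoAut_apply, mul_entries, mul_entries,
      mul_entries, mul_entries, act_mul _ _ _ _ _ _ _ _ (det_eq A) (det_eq B)]
    rfl

theorem rho_fpf (A : SL23) (hA : A ≠ 1) (v : Multiplicative W5) (hv : rho A v = v) : v = 1 := by
  have hne : (A.1 0 0, A.1 0 1, A.1 1 0, A.1 1 1) ≠ (1, 0, 0, 1) := by
    intro h
    apply hA
    simp only [Prod.mk.injEq] at h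
    obtain ⟨h1, h2, h3, h4⟩ := h
    apply Subtype.ext
    ext i j
    fin_cases i <;> fin_cases j
    · exact h1
    · exact h2
    · exact h3
    · exact h4
  have h1 : act (A.1 0 0) (A.1 0 1) (A.1 1 0) (A.1 1 1) v.toAdd = v.toAdd := by
    have := congrArg Multiplicative.toAdd hv
    exact this
  have h2 := act_fpf _ _ _ _ (det_eq A) hne _ h1
  exact Multiplicative.toAdd.injective h2

instance nontrivial_SL23 : Nontrivial SL23 := by
  refine ⟨⟨1, -1, ?_⟩⟩
  intro h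
  have := congrArg (fun A : SL23 => A.1 0 0) h
  revert this
  decide

instance nontrivial_W5 : Nontrivial (Multiplicative W5) :=
  ⟨⟨Multiplicative.ofAdd (0, 0), Multiplicative.ofAdd (1, 0), by decide⟩⟩

/-- The group SL(2,3) of order 24 (the binary tetrahedral group) occurs as a Frobenius complement of some finite Frobenius group. -/
theorem result :
    ∃ (L : Type) (_ : Group L) (_ : Finite L) (H : Subgroup L), Cfsg.IsFrobeniusComplement H ∧ Nonempty (H ≃* Matrix.SpecialLinearGroup (Fin 2) (ZMod 3)) := by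
  exact Cfsg.Agent.Lib.Helper22.exists_frobenius_of_fpf rho rho_fpf

end Cfsg.Agent.S4298
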