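import Cfsg.Statements.S4299
import Mathlib
-- import your own Cfsg.Agent.* helpers here


set_option autoImplicit false
open Cfsg
open scoped Pointwise

namespace Cfsg.Agent.S4299


noncomputable def phiU (p : ℕ) [Fact p.Prime] (U : Subgroup (ZMod p)ˣ) :
    U →* MulAut (Multiplicative (ZMod p)) :=
  (MulAutMultiplicative (ZMod p)).symm.toMonoidHom.comp
    ((AddAut.mulLeft (R := ZMod p)).comp U.subtype)

theorem phiU_apply (p : ℕ) [Fact p.Prime] (U : Subgroup (ZMod p)ˣ) (u : U)
    (x : Multiplicative (ZMod p)) :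
    phiU p U u x =
      Multiplicative.ofAdd (((u : (ZMod p)ˣ) : ZMod p) * Multiplicative.toAdd x) := by
  rfl

theorem conj_left (p : ℕ) [Fact p.Prime] (U : Subgroup (ZMod p)ˣ)
    (g : Multiplicative (ZMod p) ⋊[phiU p U] U) (u : U) :
    Multiplicative.toAdd (g⁻¹ * SemidirectProduct.inr u * g).left =
      ((((g.right⁻¹ : U) : (ZMod p)ˣ) : ZMod p) * (Multiplicative.toAdd g.left) *
        ((((u : U) : (ZMod p)ˣ) : ZMod p) - 1)) := by
  simp only [SemidirectProduct.mul_left, SemidirectProduct.inv_left, SemidirectProduct.left_inr,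
    SemidirectProduct.mul_right, SemidirectProduct.inv_right, SemidirectProduct.right_inr,
    phiU_apply]
  simp only [toAdd_mul, toAdd_ofAdd, toAdd_one, toAdd_inv, Subgroup.coe_mul, Units.val_mul]
  ring

theorem frob_units (p : ℕ) [Fact p.Prime] (U : Subgroup (ZMod p)ˣ) (hU : U ≠ ⊥) :
    ∃ (L : Type) (_ : Group L) (_ : Finite L) (H : Subgroup L),
      Cfsg.IsFrobeniusComplement H ∧ Nonempty (U ≃* H) := by
  refine ⟨Multiplicative (ZMod p) ⋊[phiU p U] U, inferInstance,
    Finite.of_equiv _ SemidirectProduct.equivProd.symm,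
    (SemidirectProduct.inr : U →* Multiplicative (ZMod p) ⋊[phiU p U] U).range, ?_,
    ⟨MonoidHom.ofInjective SemidirectProduct.inr_injective⟩⟩
  have hmemH : ∀ x : Multiplicative (ZMod p) ⋊[phiU p U] U,
      x ∈ (SemidirectProduct.inr : U →* Multiplicative (ZMod p) ⋊[phiU p U] U).range ↔
        x.left = 1 := by
    intro x
    constructor
    · rintro ⟨u, rfl⟩; rfl
    · intro h
      refine ⟨x.right, ?_⟩
      ext
      · simp [h]
      · simp
  refine ⟨?_, ?_, ?_⟩
  · -- H ≠ ⊥
    intro hbot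
    apply hU
    rw [Subgroup.eq_bot_iff_forall]
    intro u hu
    have h1 : (SemidirectProduct.inr (⟨u, hu⟩ : U) : Multiplicative (ZMod p) ⋊[phiU p U] U) ∈
        (SemidirectProduct.inr : U →* Multiplicative (ZMod p) ⋊[phiU p U] U).range := ⟨_, rfl⟩
    rw [hbot, Subgroup.mem_bot] at h1
    have h2 : (⟨u, hu⟩ : U) = 1 := SemidirectProduct.inr_injective (by rw [h1, map_one])
    exact congrArg Subtype.val h2
  · -- H ≠ ⊤
    intro htop
    have h1 : (SemidirectProduct.inl (Multiplicative.ofAdd (1 : ZMod p)) :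
        Multiplicative (ZMod p) ⋊[phiU p U] U) ∈
        (SemidirectProduct.inr : U →* Multiplicative (ZMod p) ⋊[phiU p U] U).range := by
      rw [htop]; trivial
    rw [hmemH, SemidirectProduct.left_inl] at h1
    have : (1 : ZMod p) = 0 := by
      have := congrArg Multiplicative.toAdd h1
      simpa using this
    exact one_ne_zero this
  · intro g hg
    rw [Subgroup.eq_bot_iff_forall]
    intro x hx
    obtain ⟨hx1, hx2⟩ := Subgroup.mem_inf.1 hx
    obtain ⟨u, rfl⟩ := hx1
    have hx3 := (Subgroup.mem_pointwise_smul_iff_inv_smul_mem).1 hx2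
    rw [MulAut.smul_def, MulAut.conj_inv_apply, hmemH] at hx3
    have hc := conj_left p U g u
    rw [hx3, toAdd_one] at hc
    have hgl : Multiplicative.toAdd g.left ≠ 0 := by
      intro h0
      apply hg
      rw [hmemH]
      exact Multiplicative.toAdd.injective (by simpa using h0)
    have hv : ((((g.right⁻¹ : U) : (ZMod p)ˣ) : ZMod p)) ≠ 0 := Units.ne_zero _
    have hu1 : (((u : U) : (ZMod p)ˣ) : ZMod p) - 1 = 0 := by
      rcases mul_eq_zero.1 hc.symm with h | h
      · rcases mul_eq_zero.1 h with h | h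
        · exact absurd h hv
        · exact absurd h hgl
      · exact h
    have hu2 : u = 1 := by
      apply Subtype.ext
      apply Units.ext
      simpa using sub_eq_zero.1 hu1
    rw [hu2, map_one]

/-- Every nontrivial finite cyclic group occurs as a Frobenius complement of some finite Frobenius group. -/
theorem result {C : Type*} [Group C] [Finite C] [IsCyclic C] [Nontrivial C] :
    ∃ (L : Type) (_ : Group L) (_ : Finite L) (H : Subgroup L), Cfsg.IsFrobeniusComplement H ∧ Nonempty (C ≃* H) := by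
  classical
  have hn2 : 1 < Nat.card C := Finite.one_lt_card
  have hn0 : Nat.card C ≠ 0 := by omega
  obtain ⟨p, hp, _, hmod⟩ := Nat.exists_prime_gt_modEq_one (Nat.card C) hn0
  haveI : Fact p.Prime := ⟨hp⟩
  have hdvd : Nat.card C ∣ p - 1 := (Nat.modEq_iff_dvd' hp.one_lt.le).1 hmod.symm
  have hcardU : Nat.card (ZMod p)ˣ = p - 1 := by
    rw [Nat.card_eq_fintype_card, ZMod.card_units]
  obtain ⟨g, hg⟩ := isCyclic_iff_exists_orderOf_eq_natCard.1
    (inferInstance : IsCyclic (ZMod p)ˣ)
  rw [hcardU] at hg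
  have hp1 : 0 < p - 1 := Nat.sub_pos_of_lt hp.one_lt
  obtain ⟨k, hk⟩ := hdvd
  have hk0 : k ≠ 0 := by
    rintro rfl
    omega
  have hord : orderOf (g ^ k) = Nat.card C := by
    rw [orderOf_pow_of_dvd hk0 (by rw [hg, hk]; exact dvd_mul_left k _), hg, hk]
    exact Nat.mul_div_cancel _ (Nat.pos_of_ne_zero hk0)
  have hcard : Nat.card C = Nat.card (Subgroup.zpowers (g ^ k)) := by
    rw [Nat.card_zpowers, hord]
  have hUne : Subgroup.zpowers (g ^ k) ≠ ⊥ := by
    intro h
    rw [h, Subgroup.card_bot] at hcard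
    omega
  obtain ⟨L, iG, iF, H, hH, ⟨e⟩⟩ := frob_units p (Subgroup.zpowers (g ^ k)) hUne
  exact ⟨L, iG, iF, H, hH, ⟨(mulEquivOfCyclicCardEq hcard).trans e⟩⟩

end Cfsg.Agent.S4299
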