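import Cfsg.Statements.S4300
-- import your own Cfsg.Agent.* helpers here

set_option autoImplicit false
open Cfsg

namespace Cfsg.Agent.S4300

/-- Let G act faithfully and primitively on a set X, and suppose the stabilizer of some point is a simple group. Then either G is simple, or G has a normal subgroup, neither trivial nor the whole group, that acts regularly on X (transitively with trivial point stabilizers). -/
theorem result {G : Type*} [Group G] {X : Type*} [MulAction G X] [FaithfulSMul G X]
    (hprim : MulAction.IsPreprimitive G X) (x : X) (hsimple : IsSimpleGroup (MulAction.stabilizer G x)) :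
    IsSimpleGroup G ∨ ∃ N : Subgroup G, N.Normal ∧ N ≠ ⊥ ∧ N ≠ ⊤ ∧
      MulAction.IsPretransitive N X ∧ ∀ y : X, MulAction.stabilizer N y = ⊥ := by
  classical
  by_cases hG : IsSimpleGroup G
  · exact Or.inl hG
  right
  -- G is nontrivial
  haveI : Nontrivial G := by
    haveI := hsimple
    obtain ⟨a, b, hab⟩ := exists_pair_ne (MulAction.stabilizer G x)
    exact ⟨⟨a.1, b.1, fun h => hab (Subtype.ext h)⟩⟩
  -- there is a proper nontrivial normal subgroup
  have hex : ∃ N : Subgroup G, N.Normal ∧ N ≠ ⊥ ∧ N ≠ ⊤ := by
    by_contra hcon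
    apply hG
    refine ⟨fun H hH => ?_⟩
    by_contra h
    push Not at h
    exact hcon ⟨H, hH, h.1, h.2⟩
  obtain ⟨N, hNn, hN1, hN2⟩ := hex
  haveI := hNn
  refine ⟨N, hNn, hN1, hN2, ?_⟩
  -- N acts nontrivially
  have hfix : MulAction.fixedPoints N X ≠ Set.univ := by
    intro h
    apply hN1
    rw [eq_bot_iff]
    intro n hn
    rw [Subgroup.mem_bot]
    apply FaithfulSMul.eq_of_smul_eq_smul (α := X)
    intro y
    have : y ∈ MulAction.fixedPoints N X := by rw [h]; trivial
    rw [one_smul]
    exact this ⟨n, hn⟩
  have htrans : MulAction.IsPretransitive N X :=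
    MulAction.IsQuasiPreprimitive.isPretransitive_of_normal hfix
  refine ⟨htrans, ?_⟩
  -- N ∩ G_x is normal in G_x
  have hnorm : (N.subgroupOf (MulAction.stabilizer G x)).Normal := inferInstance
  have hdich := hsimple.eq_bot_or_eq_top_of_normal _ hnorm
  have hbot : N.subgroupOf (MulAction.stabilizer G x) = ⊥ := by
    rcases hdich with h | h
    · exact h
    · exfalso
      apply hN2
      rw [Subgroup.subgroupOf_eq_top] at h
      rw [eq_top_iff]
      intro g _
      obtain ⟨n, hn⟩ := htrans.exists_smul_eq x (g • x)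
      have hmem : (n : G)⁻¹ * g ∈ MulAction.stabilizer G x := by
        rw [MulAction.mem_stabilizer_iff, mul_smul, ← hn]
        show (n : G)⁻¹ • ((n : G) • x) = x
        rw [inv_smul_smul]
      have := N.mul_mem n.2 (h hmem)
      rwa [mul_inv_cancel_left] at this
  have hstabx : ∀ n : N, n • x = x → n = 1 := by
    intro n hn
    have h1 : (n : G) ∈ MulAction.stabilizer G x := hn
    have h2 : (⟨(n : G), h1⟩ : MulAction.stabilizer G x) ∈ N.subgroupOf (MulAction.stabilizer G x) := by
      rw [Subgroup.mem_subgroupOf]; exact n.2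
    rw [hbot, Subgroup.mem_bot] at h2
    apply Subtype.ext
    exact congrArg (fun z : MulAction.stabilizer G x => (z : G)) h2
  intro y
  rw [eq_bot_iff]
  intro n hn
  rw [Subgroup.mem_bot]
  rw [MulAction.mem_stabilizer_iff] at hn
  obtain ⟨m, hm⟩ := htrans.exists_smul_eq x y
  have : (m⁻¹ * n * m) • x = x := by
    rw [mul_smul, mul_smul, hm, hn, ← hm, inv_smul_smul]
  have h1 := hstabx _ this
  have : n = m * (m⁻¹ * n * m) * m⁻¹ := by group
  rw [this, h1]; group

end Cfsg.Agent.S4300
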