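import Cfsg.Statements.S4301
import Mathlib
-- import your own Cfsg.Agent.* helpers here


set_option autoImplicit false
open Cfsg

namespace Cfsg.Agent.S4301


/-- extend a pair of distinct points to a `k`-tuple (`k ≥ 2`). -/
theorem exists_embedding_pair {X : Type*} (k : ℕ) (hk : 2 ≤ k) (hkX : Nonempty (Fin k ↪ X))
    (x y : X) (hxy : x ≠ y) :
    ∃ a : Fin k ↪ X, a ⟨0, by omega⟩ = x ∧ a ⟨1, by omega⟩ = y := by
  classical
  obtain ⟨e⟩ := hkX
  have h01 : e ⟨0, by omega⟩ ≠ e ⟨1, by omega⟩ := by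
    intro h
    have := e.injective h
    simp [Fin.ext_iff] at this
  let σ₁ : Equiv.Perm X := Equiv.swap (e ⟨0, by omega⟩) x
  have h1 : σ₁ (e ⟨0, by omega⟩) = x := Equiv.swap_apply_left _ _
  have h2 : σ₁ (e ⟨1, by omega⟩) ≠ x := by
    intro h
    rw [← h1] at h
    exact h01 (σ₁.injective h).symm
  let σ₂ : Equiv.Perm X := Equiv.swap (σ₁ (e ⟨1, by omega⟩)) y
  have h3 : σ₂ x = x := Equiv.swap_apply_of_ne_of_ne h2.symm hxy
  refine ⟨e.trans (σ₂ * σ₁).toEmbedding, ?_, ?_⟩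
  · simp only [Function.Embedding.trans_apply, Equiv.coe_toEmbedding, Equiv.Perm.mul_apply]
    rw [h1, h3]
  · simp only [Function.Embedding.trans_apply, Equiv.coe_toEmbedding, Equiv.Perm.mul_apply]
    exact Equiv.swap_apply_left _ _

theorem closure_subset_aux {X : Type*} (G : Subgroup (Equiv.Perm (Option X)))
    (hfix : ∀ f ∈ G, f none = none)
    (k : ℕ) (hk : 2 ≤ k) (hkX : Nonempty (Fin k ↪ X))
    (htrans : ∀ a b : Fin k ↪ X, ∃ f ∈ G, ∀ i, f (some (a i)) = some (b i))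
    (h g : Equiv.Perm (Option X)) (hg : g ∈ G) (x y : X)
    (h1 : h none = some x) (h2 : h (some x) = none) (h3 : h (some y) = some y)
    (h4 : g (some x) = some y) (h5 : g (some y) = some x)
    (h6 : (g * h) ^ 3 ∈ G) (h7 : h ^ 2 ∈ G)
    (h8 : ∀ f ∈ G, f (some x) = some x → h * f * h ∈ G ∧ (h * f * h) (some x) = some x) :
    ∀ f ∈ Subgroup.closure ((G : Set (Equiv.Perm (Option X))) ∪ {h}),
      f ∈ G ∨ ∃ f₁ ∈ G, ∃ f₂ ∈ G, f = f₁ * h * f₂ := by
  have hxy : x ≠ y := by
    rintro rfl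
    rw [h2] at h3
    exact absurd h3 (by simp)
  have hh2x : (h ^ 2) (some x) = some x := by
    rw [pow_two, Equiv.Perm.mul_apply, h2, h1]
  have hinv : h⁻¹ = (h ^ 2)⁻¹ * h := by
    rw [pow_two, mul_inv_rev, mul_assoc, inv_mul_cancel, mul_one]
  have hinv' : h⁻¹ = h * (h ^ 2)⁻¹ := by
    rw [pow_two, mul_inv_rev, ← mul_assoc, mul_inv_cancel, one_mul]
  have hh2inv : (h ^ 2)⁻¹ (some x) = some x := by
    rw [Equiv.Perm.inv_eq_iff_eq, hh2x]
  -- conjugation by h preserves the stabilizer of x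
  have hc1 : ∀ f ∈ G, f (some x) = some x → h * f * h⁻¹ ∈ G := by
    intro f hf hfx
    have : h * f * h⁻¹ = (h * f * h) * (h ^ 2)⁻¹ := by
      rw [hinv']; group
    rw [this]
    exact G.mul_mem (h8 f hf hfx).1 (G.inv_mem h7)
  have hc2 : ∀ f ∈ G, f (some x) = some x → h⁻¹ * f * h ∈ G := by
    intro f hf hfx
    have : h⁻¹ * f * h = (h ^ 2)⁻¹ * (h * f * h) := by
      rw [hinv]; group
    rw [this]
    exact G.mul_mem (G.inv_mem h7) (h8 f hf hfx).1
  -- h g h ∈ G h G
  have hghg : ∃ v₁ ∈ G, ∃ v₂ ∈ G, h * g * h = v₁ * h * v₂ := by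
    refine ⟨g⁻¹ * (g * h) ^ 3 * (h ^ 2)⁻¹, G.mul_mem (G.mul_mem (G.inv_mem hg) h6) (G.inv_mem h7),
      g⁻¹, G.inv_mem hg, ?_⟩
    rw [pow_succ, pow_two, pow_two]
    group
  -- double coset decomposition of G
  have hdc : ∀ f ∈ G, f (some x) ≠ some x →
      ∃ f₁ ∈ G, f₁ (some x) = some x ∧ ∃ f₂ ∈ G, f₂ (some x) = some x ∧ f = f₁ * g * f₂ := by
    intro f hf hfx
    have hfn : f (some x) ≠ none := by
      intro hn
      have := hfix f hf
      rw [← this] at hn
      exact absurd (f.injective hn) (by simp)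
    obtain ⟨z, hz⟩ := Option.ne_none_iff_exists'.1 hfn
    have hzx : x ≠ z := by
      rintro rfl
      exact hfx hz
    obtain ⟨a, ha0, ha1⟩ := exists_embedding_pair k hk hkX x y hxy
    obtain ⟨b, hb0, hb1⟩ := exists_embedding_pair k hk hkX x z hzx
    obtain ⟨f₁, hf₁, hf₁ab⟩ := htrans a b
    have e0 := hf₁ab ⟨0, by omega⟩
    have e1 := hf₁ab ⟨1, by omega⟩
    rw [ha0, hb0] at e0
    rw [ha1, hb1] at e1
    refine ⟨f₁, hf₁, e0, g⁻¹ * f₁⁻¹ * f, G.mul_mem (G.mul_mem (G.inv_mem hg) (G.inv_mem hf₁)) hf,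
      ?_, by group⟩
    rw [Equiv.Perm.mul_apply, Equiv.Perm.mul_apply, hz, Equiv.Perm.inv_eq_iff_eq.2 e1.symm,
      Equiv.Perm.inv_eq_iff_eq.2 h4.symm]
  -- h f h ∈ G ∪ G h G
  have hfh : ∀ f ∈ G, h * f * h ∈ G ∨ ∃ f₁ ∈ G, ∃ f₂ ∈ G, h * f * h = f₁ * h * f₂ := by
    intro f hf
    by_cases hfx : f (some x) = some x
    · exact Or.inl (h8 f hf hfx).1
    · right
      obtain ⟨f₁, hf₁, hf₁x, f₂, hf₂, hf₂x, rfl⟩ := hdc f hf hfx
      obtain ⟨v₁, hv₁, v₂, hv₂, hv⟩ := hghg
      refine ⟨(h * f₁ * h⁻¹) * v₁, G.mul_mem (hc1 f₁ hf₁ hf₁x) hv₁,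
        v₂ * (h⁻¹ * f₂ * h), G.mul_mem hv₂ (hc2 f₂ hf₂ hf₂x), ?_⟩
      have : h * (f₁ * g * f₂) * h = (h * f₁ * h⁻¹) * (h * g * h) * (h⁻¹ * f₂ * h) := by group
      rw [this, hv]
      group
  -- left multiplication by h
  have hmulh : ∀ s : Equiv.Perm (Option X), (s ∈ G ∨ ∃ f₁ ∈ G, ∃ f₂ ∈ G, s = f₁ * h * f₂) →
      (h * s ∈ G ∨ ∃ f₁ ∈ G, ∃ f₂ ∈ G, h * s = f₁ * h * f₂) := by
    rintro s (hs | ⟨f₁, hf₁, f₂, hf₂, rfl⟩)
    · exact Or.inr ⟨1, G.one_mem, s, hs, by group⟩
    · rcases hfh f₁ hf₁ with hc | ⟨u, hu, v, hv, huv⟩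
      · left
        have : h * (f₁ * h * f₂) = (h * f₁ * h) * f₂ := by group
        rw [this]; exact G.mul_mem hc hf₂
      · right
        refine ⟨u, hu, v * f₂, G.mul_mem hv hf₂, ?_⟩
        have : h * (f₁ * h * f₂) = (h * f₁ * h) * f₂ := by group
        rw [this, huv]; group
  have hmulG : ∀ f₀ ∈ G, ∀ s : Equiv.Perm (Option X),
      (s ∈ G ∨ ∃ f₁ ∈ G, ∃ f₂ ∈ G, s = f₁ * h * f₂) →
      (f₀ * s ∈ G ∨ ∃ f₁ ∈ G, ∃ f₂ ∈ G, f₀ * s = f₁ * h * f₂) := by
    rintro f₀ hf₀ s (hs | ⟨f₁, hf₁, f₂, hf₂, rfl⟩)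
    · exact Or.inl (G.mul_mem hf₀ hs)
    · exact Or.inr ⟨f₀ * f₁, G.mul_mem hf₀ hf₁, f₂, hf₂, by group⟩
  intro f hf
  induction hf using Subgroup.closure_induction_left with
  | one => exact Or.inl G.one_mem
  | mul_left u hu s _ ih =>
    rcases hu with hu | hu
    · exact hmulG u hu s ih
    · rw [Set.mem_singleton_iff] at hu
      subst hu
      exact hmulh s ih
  | inv_mul_cancel u hu s _ ih =>
    rcases hu with hu | hu
    · exact hmulG u⁻¹ (G.inv_mem hu) s ih
    · rw [Set.mem_singleton_iff] at hu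
      subst hu
      rw [hinv, mul_assoc]
      exact hmulG _ (G.inv_mem h7) _ (hmulh s ih)

/-- One-point extension of a multiply transitive group. Let X be a set and G a group of permutations of Option X (the set X with one extra point ∗ = none) all of whose elements fix ∗, such that G is k-transitive on the points of X for some k ≥ 2, X having at least k points. Suppose a permutation h of Option X and an element g of G satisfy: h interchanges ∗ with a point x of X and fixes a point y of X; g interchanges x and y; (g h)³ and h² lie in G; and for every f in G fixing x, the product h f h lies in G and fixes x. Then an element of the group generated by G and h fixes ∗ exactly when it lies in G, and that group acts (k+1)-transitively on Option X. -/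
theorem result {X : Type*} (G : Subgroup (Equiv.Perm (Option X))) (hfix : ∀ f ∈ G, f none = none)
    (k : ℕ) (hk : 2 ≤ k) (hkX : Nonempty (Fin k ↪ X))
    (htrans : ∀ a b : Fin k ↪ X, ∃ f ∈ G, ∀ i, f (some (a i)) = some (b i))
    (h g : Equiv.Perm (Option X)) (hg : g ∈ G) (x y : X)
    (h1 : h none = some x) (h2 : h (some x) = none) (h3 : h (some y) = some y)
    (h4 : g (some x) = some y) (h5 : g (some y) = some x)
    (h6 : (g * h) ^ 3 ∈ G) (h7 : h ^ 2 ∈ G)
    (h8 : ∀ f ∈ G, f (some x) = some x → h * f * h ∈ G ∧ (h * f * h) (some x) = some x) :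
    (∀ f ∈ Subgroup.closure ((G : Set (Equiv.Perm (Option X))) ∪ {h}), f none = none ↔ f ∈ G) ∧
      MulAction.IsMultiplyPretransitive (Subgroup.closure ((G : Set (Equiv.Perm (Option X))) ∪ {h})) (Option X) (k + 1) := by
  classical
  have hS := closure_subset_aux G hfix k hk hkX htrans h g hg x y h1 h2 h3 h4 h5 h6 h7 h8
  have hxy : x ≠ y := by
    rintro rfl
    rw [h2] at h3
    exact absurd h3 (by simp)
  have hpart1 : ∀ f ∈ Subgroup.closure ((G : Set (Equiv.Perm (Option X))) ∪ {h}),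
      f none = none ↔ f ∈ G := by
    intro f hf
    constructor
    · intro hfn
      rcases hS f hf with hfG | ⟨f₁, hf₁, f₂, hf₂, rfl⟩
      · exact hfG
      · exfalso
        rw [Equiv.Perm.mul_apply, Equiv.Perm.mul_apply, hfix f₂ hf₂, h1] at hfn
        have := hfix f₁ hf₁
        rw [← this] at hfn
        exact absurd (f₁.injective hfn) (by simp)
    · exact hfix f
  refine ⟨hpart1, ?_⟩
  -- transitivity
  have hGL : ∀ f ∈ G, f ∈ Subgroup.closure ((G : Set (Equiv.Perm (Option X))) ∪ {h}) :=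
    fun f hf => Subgroup.subset_closure (Or.inl hf)
  have hhL : h ∈ Subgroup.closure ((G : Set (Equiv.Perm (Option X))) ∪ {h}) :=
    Subgroup.subset_closure (Or.inr rfl)
  have hto : ∀ o : Option X,
      ∃ σ : Subgroup.closure ((G : Set (Equiv.Perm (Option X))) ∪ {h}), σ • o = none := by
    intro o
    rcases o with _ | z
    · exact ⟨1, one_smul _ _⟩
    · by_cases hzx : z = x
      · subst hzx
        exact ⟨⟨h, hhL⟩, h2⟩
      · obtain ⟨a, ha0, ha1⟩ := exists_embedding_pair k hk hkX z x hzx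
        obtain ⟨b, hb0, hb1⟩ := exists_embedding_pair k hk hkX x z (Ne.symm hzx)
        obtain ⟨f, hf, hfab⟩ := htrans a b
        have e0 := hfab ⟨0, by omega⟩
        rw [ha0, hb0] at e0
        refine ⟨⟨h * f, mul_mem hhL (hGL f hf)⟩, ?_⟩
        show (h * f) (some z) = none
        rw [Equiv.Perm.mul_apply, e0, h2]
  haveI htr : MulAction.IsPretransitive
      (Subgroup.closure ((G : Set (Equiv.Perm (Option X))) ∪ {h})) (Option X) := by
    refine ⟨fun o₁ o₂ => ?_⟩
    obtain ⟨σ₁, hσ₁⟩ := hto o₁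
    obtain ⟨σ₂, hσ₂⟩ := hto o₂
    refine ⟨σ₂⁻¹ * σ₁, ?_⟩
    rw [mul_smul, hσ₁, ← hσ₂, inv_smul_smul]
  rw [SubMulAction.ofStabilizer.isMultiplyPretransitive (a := (none : Option X))]
  refine ⟨fun u v => ?_⟩
  have hu : ∀ i, ((u i : Option X)).isSome := fun i => Option.ne_none_iff_isSome.1 (u i).2
  have hv : ∀ i, ((v i : Option X)).isSome := fun i => Option.ne_none_iff_isSome.1 (v i).2
  let a : Fin k ↪ X := ⟨fun i => Option.get _ (hu i), by
    intro i j hij
    have : (u i : Option X) = (u j : Option X) := by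
      rw [← Option.some_get (hu i), ← Option.some_get (hu j)]
      exact congrArg some hij
    exact u.injective (Subtype.ext this)⟩
  let b : Fin k ↪ X := ⟨fun i => Option.get _ (hv i), by
    intro i j hij
    have : (v i : Option X) = (v j : Option X) := by
      rw [← Option.some_get (hv i), ← Option.some_get (hv j)]
      exact congrArg some hij
    exact v.injective (Subtype.ext this)⟩
  have ha : ∀ i, some (a i) = (u i : Option X) := fun i => Option.some_get (hu i)
  have hb : ∀ i, some (b i) = (v i : Option X) := fun i => Option.some_get (hv i)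
  obtain ⟨f, hf, hfab⟩ := htrans a b
  have hfstab : (⟨f, hGL f hf⟩ : Subgroup.closure ((G : Set (Equiv.Perm (Option X))) ∪ {h})) ∈
      MulAction.stabilizer _ (none : Option X) := by
    rw [MulAction.mem_stabilizer_iff]
    exact hfix f hf
  refine ⟨⟨⟨f, hGL f hf⟩, hfstab⟩, ?_⟩
  apply Function.Embedding.ext
  intro i
  apply Subtype.ext
  show f (u i : Option X) = (v i : Option X)
  rw [← ha i, hfab i, hb i]

end Cfsg.Agent.S4301
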