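import Cfsg.Statements.S4305
import Cfsg.Agent.Lib.Helper23.S3I
import Cfsg.Agent.Lib.Helper20.ActionBridge

set_option autoImplicit false
open Cfsg

namespace Cfsg.Agent.S4305

open Cfsg.Agent.Lib.Helper20 Cfsg.Agent.Lib.Helper23.S3

/-- Let the symmetric group of degree 3 act by automorphisms on a finite solvable group `G` of order prime to 6, so that only the identity of `G` is fixed by all of it. Then the derived subgroup of `G` is nilpotent. -/
theorem result {G : Type*} [Group G] [Finite G] [Group.IsSolvable G]
    [MulDistribMulAction (Equiv.Perm (Fin 3)) G] (hcop : (Nat.card G).Coprime 6)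
    (hfpf : ∀ g : G, (∀ a : Equiv.Perm (Fin 3), a • g = g) → g = 1) :
    Group.IsNilpotent ↥(commutator G) := by
  classical
  -- generators of `S₃`
  obtain ⟨c, t, hc3, ht2, hrel, hlist⟩ : ∃ c t : Equiv.Perm (Fin 3), c ^ 3 = 1 ∧ t ^ 2 = 1 ∧
      t * c * t⁻¹ = c⁻¹ ∧
      ∀ a : Equiv.Perm (Fin 3), a = 1 ∨ a = c ∨ a = c * c ∨ a = t ∨ a = c * t ∨ a = c * c * t :=
    ⟨Equiv.swap 0 1 * Equiv.swap 1 2, Equiv.swap 0 1, by decide, by decide, by decide, by decide⟩
  have hgen : ∀ a : Equiv.Perm (Fin 3), a ∈ Subgroup.closure ({c, t} : Set (Equiv.Perm (Fin 3))) := by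
    have hc : c ∈ Subgroup.closure ({c, t} : Set (Equiv.Perm (Fin 3))) :=
      Subgroup.subset_closure (Set.mem_insert _ _)
    have ht : t ∈ Subgroup.closure ({c, t} : Set (Equiv.Perm (Fin 3))) :=
      Subgroup.subset_closure (Set.mem_insert_of_mem _ rfl)
    intro a
    rcases hlist a with rfl | rfl | rfl | rfl | rfl | rfl
    · exact Subgroup.one_mem _
    · exact hc
    · exact Subgroup.mul_mem _ hc hc
    · exact ht
    · exact Subgroup.mul_mem _ hc ht
    · exact Subgroup.mul_mem _ (Subgroup.mul_mem _ hc hc) ht
  have hcardP : Nat.card (Equiv.Perm (Fin 3)) = 6 := by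
    rw [Nat.card_eq_fintype_card, Fintype.card_perm, Fintype.card_fin]
    rfl
  have hPsolv : Group.IsSolvable (Equiv.Perm (Fin 3)) := by
    have hz : IsZGroup (Equiv.Perm (Fin 3)) := by
      apply IsZGroup.of_squarefree
      rw [hcardP]
      have e : (6 : ℕ) = 2 * 3 := by norm_num
      rw [e, Nat.squarefree_mul_iff]
      exact ⟨by norm_num, Nat.prime_two.squarefree, Nat.prime_three.squarefree⟩
    infer_instance
  -- the semidirect product
  have hsolv : Group.IsSolvable (Sd (Equiv.Perm (Fin 3)) G) :=
    Group.isSolvable_of_ker_le_range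
      (SemidirectProduct.inl : G →* Sd (Equiv.Perm (Fin 3)) G)
      (SemidirectProduct.rightHom : Sd (Equiv.Perm (Fin 3)) G →* Equiv.Perm (Fin 3))
      (by rw [SemidirectProduct.range_inl_eq_ker_rightHom])
  set f : Sd (Equiv.Perm (Fin 3)) G := SemidirectProduct.inr c with hf
  set h : Sd (Equiv.Perm (Fin 3)) G := SemidirectProduct.inr t with hh
  have hAcl : sdA (Equiv.Perm (Fin 3)) G ≤ Subgroup.closure {f, h} := by
    rintro _ ⟨a, rfl⟩
    have h1 : (SemidirectProduct.inr a : Sd (Equiv.Perm (Fin 3)) G) ∈
        (Subgroup.closure ({c, t} : Set (Equiv.Perm (Fin 3)))).map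
          (SemidirectProduct.inr : Equiv.Perm (Fin 3) →* Sd (Equiv.Perm (Fin 3)) G) :=
      Subgroup.mem_map_of_mem _ (hgen a)
    rw [MonoidHom.map_closure, Set.image_pair] at h1
    exact h1
  have hn : (sdG (Equiv.Perm (Fin 3)) G).Normal := inferInstance
  have hSH : SH (Sd (Equiv.Perm (Fin 3)) G) (sdG (Equiv.Perm (Fin 3)) G)
      (sdA (Equiv.Perm (Fin 3)) G) f h :=
    { hGn := hn
      hΓs := hsolv
      act :=
        { hf3 := by rw [hf, ← map_pow, hc3, map_one]
          hh2 := by rw [hh, ← map_pow, ht2, map_one]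
          hrel := by rw [hf, hh, ← map_inv, ← map_mul, ← map_mul, hrel, map_inv]
          hfX := fun x hx => hn.conj_mem x hx f
          hhX := fun x hx => hn.conj_mem x hx h
          hcop := by rw [card_sdG]; exact hcop
          hfpf := by
            rintro _ ⟨g, rfl⟩ h1 h2
            have h3 : Subgroup.closure {f, h} ≤
                Subgroup.centralizer {(SemidirectProduct.inl g : Sd (Equiv.Perm (Fin 3)) G)} := by
              rw [Subgroup.closure_le]
              intro y hy
              rcases hy with hy | hy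
              · rw [hy]
                show f ∈ Subgroup.centralizer _
                rw [Subgroup.mem_centralizer_iff]
                intro z hz
                rw [Set.mem_singleton_iff.mp hz]
                exact h1.symm
              · have hy' : y = h := hy
                rw [hy']
                show h ∈ Subgroup.centralizer _
                rw [Subgroup.mem_centralizer_iff]
                intro z hz
                rw [Set.mem_singleton_iff.mp hz]
                exact h2.symm
            have h4 : (SemidirectProduct.inl g : Sd (Equiv.Perm (Fin 3)) G) ∈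
                Subgroup.centralizer ((sdA (Equiv.Perm (Fin 3)) G :
                  Subgroup (Sd (Equiv.Perm (Fin 3)) G)) : Set (Sd (Equiv.Perm (Fin 3)) G)) := by
              rw [Subgroup.mem_centralizer_iff]
              intro a ha
              have h5 := h3 (hAcl ha)
              rw [Subgroup.mem_centralizer_iff] at h5
              exact (h5 _ rfl).symm
            have h6 := (sd_mem_centralizer_iff g).mp h4
            rw [hfpf g h6, map_one] }
      hfA := ⟨c, rfl⟩
      hhA := ⟨t, rfl⟩
      hAcl := hAcl
      hAcard := by rw [card_sdA, hcardP] }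
  have hnil := s3_internal _ (Sd (Equiv.Perm (Fin 3)) G) (sdG (Equiv.Perm (Fin 3)) G)
    (sdA (Equiv.Perm (Fin 3)) G) f h hSH rfl
  have hinj : Function.Injective (SemidirectProduct.inl : G →* Sd (Equiv.Perm (Fin 3)) G) :=
    SemidirectProduct.inl_injective
  have hmap : (commutator G).map (SemidirectProduct.inl : G →* Sd (Equiv.Perm (Fin 3)) G) =
      ⁅sdG (Equiv.Perm (Fin 3)) G, sdG (Equiv.Perm (Fin 3)) G⁆ := by
    rw [commutator_def, Subgroup.map_commutator, ← MonoidHom.range_eq_map]
    rfl
  rw [← hmap] at hnil
  apply Subgroup.isNilpotent_of_ker_le_center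
    ((SemidirectProduct.inl : G →* Sd (Equiv.Perm (Fin 3)) G).subgroupMap (commutator G))
  intro x hx
  rw [MonoidHom.mem_ker] at hx
  have h1 : (SemidirectProduct.inl (x : G) : Sd (Equiv.Perm (Fin 3)) G) = 1 :=
    congrArg Subtype.val hx
  have h2 : (x : G) = 1 := hinj (by rw [h1, map_one])
  have h3 : x = 1 := Subtype.ext h2
  rw [h3]
  exact Subgroup.one_mem _

end Cfsg.Agent.S4305
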