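import Cfsg.Statements.S4306
import Cfsg.Agent.Lib.Helper23.PQ16
import Cfsg.Agent.Lib.Helper20.ActionBridge

set_option autoImplicit false
open Cfsg

namespace Cfsg.Agent.S4306

open Cfsg.Agent.Lib.Helper20 Cfsg.Agent.Lib.Helper23.PQ

/-- Let `A` be a non-abelian group of order `pq` with `p, q` distinct primes, acting by automorphisms on a finite solvable group `G` of order prime to `pq`, so that only the identity of `G` is fixed by all of `A`. Then `G` has Fitting height at most 2: there is a normal nilpotent subgroup `F` of `G` with `G/F` nilpotent. -/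
theorem result {G A : Type*} [Group G] [Finite G]
    [Group.IsSolvable G] [Group A] [Finite A] [MulDistribMulAction A G] (p q : ℕ) (hp : p.Prime) (hq : q.Prime) (hpq : p ≠ q)
    (hA : Nat.card A = p * q) (hAna : ¬ IsMulCommutative A) (hcop : (Nat.card G).Coprime (p * q))
    (hfpf : ∀ g : G, (∀ a : A, a • g = g) → g = 1) :
    ∃ F : Subgroup G, ∃ hF : F.Normal, Group.IsNilpotent ↥F ∧ Group.IsNilpotent (G ⧸ F) := by
  classical
  obtain ⟨P, L, f₀, h₀, hP, hL, hPL, hf₀P, hh₀L, hnorm₀, hfrob₀, hcl₀⟩ :=
    exists_frob_gens hp hq hpq hA hAna
  have hAsolv : Group.IsSolvable A := isSolvable_of_card_pq hp hq hpq hA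
  -- the semidirect product
  have hsolv : Group.IsSolvable (Sd A G) :=
    Group.isSolvable_of_ker_le_range
      (SemidirectProduct.inl : G →* Sd A G)
      (SemidirectProduct.rightHom : Sd A G →* A)
      (by rw [SemidirectProduct.range_inl_eq_ker_rightHom])
  set f : Sd A G := SemidirectProduct.inr f₀ with hf
  set h : Sd A G := SemidirectProduct.inr h₀ with hh
  have hAcl : sdA A G ≤ Subgroup.closure {f, h} := by
    rintro _ ⟨a, rfl⟩
    have h1 : (SemidirectProduct.inr a : Sd A G) ∈
        (Subgroup.closure ({f₀, h₀} : Set A)).map (SemidirectProduct.inr : A →* Sd A G) := by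
      apply Subgroup.mem_map_of_mem
      rw [hcl₀]
      exact Subgroup.mem_top a
    rw [MonoidHom.map_closure, Set.image_pair] at h1
    exact h1
  have hn : (sdG A G).Normal := inferInstance
  have hSH : SHpq (Sd A G) P L (sdG A G) (sdA A G) f h :=
    { hGn := hn
      hΓs := hsolv
      act :=
        { hp := hP
          hl := hL
          hfp := by rw [hf, ← map_pow, hf₀P, map_one]
          hhl := by rw [hh, ← map_pow, hh₀L, map_one]
          hnorm := by
            intro j
            obtain ⟨k, hk⟩ := hnorm₀ j
            refine ⟨k, ?_⟩
            rw [hf, hh, ← map_pow, ← map_pow, ← map_inv, ← map_mul, ← map_mul, hk]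
          hfrob := by
            intro j hj
            obtain ⟨c, hc⟩ := hfrob₀ j hj
            refine ⟨c, ?_⟩
            rw [hf, hh, ← map_pow, ← map_inv, ← map_inv, ← map_mul, ← map_mul, ← map_mul,
              ← map_pow, hc]
          hfX := fun x hx => hn.conj_mem x hx f
          hhX := fun x hx => hn.conj_mem x hx h
          hcop := by rw [card_sdG, hPL]; exact hcop
          hfpf := by
            rintro _ ⟨g, rfl⟩ h1 h2
            have h3 : Subgroup.closure {f, h} ≤
                Subgroup.centralizer {(SemidirectProduct.inl g : Sd A G)} := by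
              rw [Subgroup.closure_le]
              intro y hy
              rcases hy with hy | hy
              · rw [hy]
                show f ∈ Subgroup.centralizer _
                rw [Subgroup.mem_centralizer_iff]
                intro z hz
                rw [Set.mem_singleton_iff.mp hz]
                exact h1.symm
              · have hy' : y = h := hy
                rw [hy']
                show h ∈ Subgroup.centralizer _
                rw [Subgroup.mem_centralizer_iff]
                intro z hz
                rw [Set.mem_singleton_iff.mp hz]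
                exact h2.symm
            have h4 : (SemidirectProduct.inl g : Sd A G) ∈
                Subgroup.centralizer ((sdA A G : Subgroup (Sd A G)) : Set (Sd A G)) := by
              rw [Subgroup.mem_centralizer_iff]
              intro a ha
              have h5 := h3 (hAcl ha)
              rw [Subgroup.mem_centralizer_iff] at h5
              exact (h5 _ rfl).symm
            have h6 := (sd_mem_centralizer_iff g).mp h4
            rw [hfpf g h6, map_one] }
      hfA := ⟨f₀, rfl⟩
      hhA := ⟨h₀, rfl⟩
      hAcl := hAcl
      hAcard := by rw [card_sdA, hA, hPL] }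
  obtain ⟨c, hnil⟩ := pq_internal _ (Sd A G) (sdG A G) (sdA A G) f h hSH rfl
  have hinj : Function.Injective (SemidirectProduct.inl : G →* Sd A G) :=
    SemidirectProduct.inl_injective
  set F : Subgroup G := (⊤ : Subgroup G).lowerCentralSeries c with hFdef
  have hFn : F.Normal := Subgroup.normal_of_characteristic F
  have hmap : F.map (SemidirectProduct.inl : G →* Sd A G) = (sdG A G).lowerCentralSeries c := by
    rw [hFdef, Subgroup.map_lowerCentralSeries, ← MonoidHom.range_eq_map]
    rfl
  rw [← hmap] at hnil
  refine ⟨F, hFn, ?_, ?_⟩
  · apply Subgroup.isNilpotent_of_ker_le_center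
      ((SemidirectProduct.inl : G →* Sd A G).subgroupMap F)
    intro x hx
    rw [MonoidHom.mem_ker] at hx
    have h1 : (SemidirectProduct.inl (x : G) : Sd A G) = 1 := congrArg Subtype.val hx
    have h2 : (x : G) = 1 := hinj (by rw [h1, map_one])
    have h3 : x = 1 := Subtype.ext h2
    rw [h3]
    exact Subgroup.one_mem _
  · rw [Subgroup.nilpotent_iff_lowerCentralSeries]
    refine ⟨c, ?_⟩
    have h1 := Subgroup.map_lowerCentralSeries (⊤ : Subgroup G) (QuotientGroup.mk' F) c
    rw [Subgroup.map_top_of_surjective _ (QuotientGroup.mk'_surjective F), ← hFdef,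
      QuotientGroup.map_mk'_self] at h1
    exact h1.symm

end Cfsg.Agent.S4306
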