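import Cfsg.Statements.S4314
import Mathlib
-- import your own Cfsg.Agent.* helpers here

set_option autoImplicit false
open Cfsg

namespace Cfsg.Agent.S4314

open Subgroup

/-- class sizes in quotients divide class sizes -/
theorem index_centralizer_mk_dvd {G : Type*} [Group G] (N : Subgroup G) [N.Normal]
    (g : G) :
    (centralizer ({(QuotientGroup.mk' N g)} : Set (G ⧸ N))).index ∣
      (centralizer ({g} : Set G)).index := by
  have h1 : centralizer ({g} : Set G) ≤
      (centralizer ({(QuotientGroup.mk' N g)} : Set (G ⧸ N))).comap (QuotientGroup.mk' N) := by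
    intro x hx
    rw [mem_comap, mem_centralizer_singleton_iff]
    rw [mem_centralizer_singleton_iff] at hx
    rw [← map_mul, ← map_mul, hx]
  have h2 := Subgroup.index_dvd_of_le h1
  rwa [Subgroup.index_comap_of_surjective _ (QuotientGroup.mk'_surjective N)] at h2

theorem eq_of_le_of_index_eq {G : Type*} [Group G] [Finite G] {A B : Subgroup G} (h : A ≤ B)
    (hi : A.index = B.index) : A = B := by
  apply Subgroup.eq_of_le_of_card_ge h
  have h1 := A.card_mul_index
  have h2 := B.card_mul_index
  rw [hi] at h1
  have hpos : 0 < B.index := Nat.pos_of_ne_zero Subgroup.index_ne_zero_of_finite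
  have : Nat.card A * B.index = Nat.card B * B.index := by rw [h1, h2]
  exact (Nat.eq_of_mul_eq_mul_right hpos this).ge

/-- a subgroup strictly containing a subgroup of prime index is everything -/
theorem eq_top_of_lt_of_index_prime {G : Type*} [Group G] [Finite G] {A B : Subgroup G}
    {p : ℕ} (hp : p.Prime) (hA : A.index = p) (h : A < B) : B = ⊤ := by
  have h1 := Subgroup.index_dvd_of_le h.le
  rw [hA] at h1
  rcases (Nat.dvd_prime hp).1 h1 with h2 | h2
  · exact Subgroup.index_eq_one.1 h2
  · exfalso
    exact h.ne (eq_of_le_of_index_eq h.le (hA.trans h2.symm))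

/-- the quotient lemma: a group with class sizes `1` or prime and a nontrivial core-free subgroup
of prime index `p` has trivial centre and that subgroup has prime order `≠ p`. -/
theorem quotient_lemma {H : Type*} [Group H] [Finite H] (D : Subgroup H) (p : ℕ) (hp : p.Prime)
    (hD : D.index = p) (hcore : D.normalCore = ⊥) (hD1 : D ≠ ⊥)
    (hcl : ∀ x : H, (centralizer ({x} : Set H)).index = 1 ∨
      ((centralizer ({x} : Set H)).index).Prime) :
    center H = ⊥ ∧ (Nat.card D).Prime ∧ Nat.card D ≠ p := by
  have hcardH : Nat.card D * p = Nat.card H := by rw [← hD]; exact D.card_mul_index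
  -- the centre is trivial
  have hZ : center H = ⊥ := by
    rw [eq_bot_iff]
    intro z hz
    rw [mem_bot]
    by_cases hzD : z ∈ D
    · have : z ∈ D.normalCore := by
        intro b
        rw [mem_center_iff] at hz
        rw [hz b, mul_inv_cancel_right]
        exact hzD
      rwa [hcore, mem_bot] at this
    · exfalso
      have hzn : z ∈ normalizer (D : Set H) := by
        rw [mem_normalizer_iff]
        intro d
        rw [mem_center_iff] at hz
        rw [← hz d, mul_inv_cancel_right]
      have hlt : D < normalizer (D : Set H) := by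
        refine lt_of_le_of_ne le_normalizer ?_
        intro heq
        apply hzD
        rw [heq]; exact hzn
      have htop := eq_top_of_lt_of_index_prime hp hD hlt
      have hDn : D.Normal := normalizer_eq_top_iff.1 htop
      rw [normalCore_eq_self] at hcore
      exact hD1 hcore
  -- p does not divide |D|
  have hfac : Nat.card H ∣ p.factorial := by
    have h : D.normalCore.index ∣ D.index.factorial := by
      rw [normalCore_eq_ker, index_ker, index_eq_card, ← Nat.card_perm]
      exact card_subgroup_dvd_card _
    rwa [hcore, index_bot, hD] at h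
  have hpD : ¬ p ∣ Nat.card D := by
    intro hdvd
    rw [← hcardH] at hfac
    have h1 : p.factorial = (p - 1).factorial * p := by
      obtain ⟨k, rfl⟩ : ∃ k, p = k + 1 := ⟨p - 1, by have := hp.pos; omega⟩
      rw [Nat.add_sub_cancel, Nat.factorial_succ, mul_comm]
    rw [h1] at hfac
    have h2 : Nat.card D ∣ (p - 1).factorial := Nat.dvd_of_mul_dvd_mul_right hp.pos hfac
    have h3 := (hp.dvd_factorial).1 (dvd_trans hdvd h2)
    have := hp.pos
    omega
  -- an element of order p
  have hpH : p ∣ Nat.card H := ⟨Nat.card D, by rw [← hcardH, mul_comm]⟩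
  haveI : Fact p.Prime := ⟨hp⟩
  obtain ⟨σ, hσ⟩ := exists_prime_orderOf_dvd_card' p hpH
  have hS : Nat.card (zpowers σ) = p := by rw [Nat.card_zpowers, hσ]
  have hcop : (Nat.card (zpowers σ)).Coprime (Nat.card D) := by
    rw [hS]; exact (Nat.Prime.coprime_iff_not_dvd hp).2 hpD
  have hcompl : IsComplement' (zpowers σ) D :=
    isComplement'_of_coprime (by rw [hS, mul_comm]; exact hcardH) hcop
  -- R = C(σ) meets D trivially
  have hRD : ∀ r : H, r ∈ centralizer ({σ} : Set H) → r ∈ D → r = 1 := by
    intro r hrR hrD
    have : r ∈ D.normalCore := by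
      intro b
      obtain ⟨⟨s, d⟩, hsd, -⟩ := (isComplement'_def.1 hcompl).existsUnique b⁻¹
      have hsd' : (s : H) * (d : H) = b⁻¹ := hsd
      have hb : b = (d : H)⁻¹ * (s : H)⁻¹ := by
        rw [← mul_inv_rev, hsd', inv_inv]
      have hsr : (s : H)⁻¹ * r * (s : H) = r := by
        obtain ⟨i, hi⟩ := mem_zpowers_iff.1 s.2
        rw [mem_centralizer_singleton_iff] at hrR
        have hc : Commute r σ := hrR
        have hc2 : Commute (σ ^ i) r := hc.symm.zpow_left i
        rw [← hi, mul_assoc, ← hc2.eq, inv_mul_cancel_left]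
      rw [hb]
      have : (d : H)⁻¹ * (s : H)⁻¹ * r * ((d : H)⁻¹ * (s : H)⁻¹)⁻¹
          = (d : H)⁻¹ * ((s : H)⁻¹ * r * (s : H)) * (d : H) := by group
      rw [this, hsr]
      exact D.mul_mem (D.mul_mem (D.inv_mem d.2) hrD) d.2
    rwa [hcore, mem_bot] at this
  -- |R| ≤ p
  have hRle : Nat.card (centralizer ({σ} : Set H)) * Nat.card D ≤ Nat.card H := by
    rw [← Nat.card_prod]
    refine Nat.card_le_card_of_injective (fun x => (x.1 : H) * (x.2 : H)) ?_
    rintro ⟨r, d⟩ ⟨r', d'⟩ heq
    simp only at heq
    have h1 : (r' : H)⁻¹ * (r : H) = (d' : H) * (d : H)⁻¹ := by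
      rw [inv_mul_eq_iff_eq_mul, ← mul_assoc, ← heq]; group
    have h2 : (r' : H)⁻¹ * (r : H) = 1 :=
      hRD _ (mul_mem (inv_mem r'.2) r.2) (h1 ▸ D.mul_mem d'.2 (D.inv_mem d.2))
    have h3 : (r : H) = r' := by
      rw [inv_mul_eq_one] at h2; exact h2.symm
    have h4 : (d : H) = d' := by
      rw [h3] at heq; exact mul_left_cancel heq
    exact Prod.ext (Subtype.ext h3) (Subtype.ext h4)
  have hSR : zpowers σ ≤ centralizer ({σ} : Set H) := by
    rw [zpowers_le, mem_centralizer_singleton_iff]
  have hpR : p ∣ Nat.card (centralizer ({σ} : Set H)) := hS ▸ Subgroup.card_dvd_of_le hSR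
  have hDpos : 0 < Nat.card D := Nat.card_pos
  have hRp : Nat.card (centralizer ({σ} : Set H)) = p := by
    have h1 : Nat.card (centralizer ({σ} : Set H)) ≤ p := by
      rw [← hcardH, mul_comm] at hRle
      exact Nat.le_of_mul_le_mul_left hRle hDpos
    exact Nat.le_antisymm h1 (Nat.le_of_dvd Nat.card_pos hpR)
  have hRidx : (centralizer ({σ} : Set H)).index = Nat.card D := by
    have h1 := (centralizer ({σ} : Set H)).card_mul_index
    rw [hRp, ← hcardH, mul_comm] at h1
    exact Nat.eq_of_mul_eq_mul_right hp.pos h1
  refine ⟨hZ, ?_, fun h => hpD (h ▸ dvd_rfl)⟩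
  rcases hcl σ with h1 | h1
  · exfalso
    apply hD1
    rw [hRidx] at h1
    exact (Subgroup.card_eq_one).1 h1
  · rwa [hRidx] at h1


/-- a subgroup containing the commutator subgroup is normal -/
theorem normal_of_commutator_le' {G : Type*} [Group G] (C : Subgroup G)
    (h : ∀ x y : G, x * y * x⁻¹ * y⁻¹ ∈ C) : C.Normal := by
  refine ⟨fun c hc g => ?_⟩
  have : g * c * g⁻¹ = (g * c * g⁻¹ * c⁻¹) * c := by group
  rw [this]
  exact C.mul_mem (h g c) hc

/-- quotient of order `1` or prime: commutators lie in the subgroup -/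
theorem comm_mem_of_index {G : Type*} [Group G] [Finite G] (C : Subgroup G) [C.Normal]
    (h : C.index = 1 ∨ (C.index).Prime) (x y : G) : x * y * x⁻¹ * y⁻¹ ∈ C := by
  rcases h with h | h
  · rw [Subgroup.index_eq_one.1 h]; trivial
  · have : Fact (C.index).Prime := ⟨h⟩
    have hcyc : IsCyclic (G ⧸ C) := isCyclic_of_prime_card (p := C.index)
      (Subgroup.index_eq_card C).symm
    have hmc := hcyc.isMulCommutative
    rw [← QuotientGroup.eq_one_iff]
    have e : ((x * y * x⁻¹ * y⁻¹ : G) : G ⧸ C)
        = (x : G ⧸ C) * y * (x : G ⧸ C)⁻¹ * (y : G ⧸ C)⁻¹ := by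
      simp
    rw [e, hmc.is_comm.comm (x : G ⧸ C) y]
    group


/-- Let `G` be a finite group every conjugacy class of which has size 1 or a prime. Then either `G` is nilpotent of class at most 2, or `G/Z(G)` is a non-abelian group of order `pq` for distinct primes `p, q` (a Frobenius group of order `pq`). -/
theorem result {G : Type*} [Group G] [Finite G]
    (h : ∀ x : G, (Subgroup.centralizer ({x} : Set G)).index = 1 ∨ ((Subgroup.centralizer ({x} : Set G)).index).Prime) :
    Subgroup.upperCentralSeries G 2 = ⊤ ∨
      ∃ p q : ℕ, p.Prime ∧ q.Prime ∧ p ≠ q ∧ Nat.card (G ⧸ Subgroup.center G) = p * q ∧ ¬ IsMulCommutative (G ⧸ Subgroup.center G) := by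
  by_cases hall : ∀ x : G, (centralizer ({x} : Set G)).Normal
  · left
    have hcomm : ∀ x y : G, x * y * x⁻¹ * y⁻¹ ∈ center G := by
      intro x y
      rw [mem_center_iff]
      intro g
      have hn := hall g
      have h1 := comm_mem_of_index (centralizer ({g} : Set G)) (h g) x y
      exact (mem_centralizer_singleton_iff.1 h1).symm
    rw [eq_top_iff]
    intro x _
    rw [show (2 : ℕ) = 1 + 1 from rfl, Subgroup.mem_upperCentralSeries_succ_iff]
    intro y
    rw [Subgroup.upperCentralSeries_one, commutatorElement_def]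
    exact hcomm x y
  · right
    push Not at hall
    obtain ⟨x, hx⟩ := hall
    obtain ⟨C, hC⟩ : ∃ C : Subgroup G, C = centralizer ({x} : Set G) := ⟨_, rfl⟩
    rw [← hC] at hx
    have hCtop : C ≠ ⊤ := by
      intro htop
      apply hx
      rw [htop]; infer_instance
    have hCp : (C.index).Prime := by
      rcases h x with h1 | h1
      · exact absurd (Subgroup.index_eq_one.1 (hC ▸ h1)) hCtop
      · exact hC ▸ h1
    obtain ⟨p, hp⟩ : ∃ p, p = C.index := ⟨_, rfl⟩
    obtain ⟨N, hN⟩ : ∃ N : Subgroup G, N = C.normalCore := ⟨_, rfl⟩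
    have hNn : N.Normal := hN ▸ inferInstance
    have hNC : N ≤ C := hN ▸ C.normalCore_le
    have hkermk : (QuotientGroup.mk' N).ker = N := QuotientGroup.ker_mk' N
    obtain ⟨D, hD⟩ : ∃ D : Subgroup (G ⧸ N), D = C.map (QuotientGroup.mk' N) := ⟨_, rfl⟩
    have hDidx : D.index = p := by
      rw [hD, Subgroup.index_map_eq C (QuotientGroup.mk'_surjective N) (hkermk.symm ▸ hNC), hp]
    have memD : ∀ g : G, QuotientGroup.mk' N g ∈ D ↔ g ∈ C := by
      intro g
      rw [hD]
      constructor
      · rintro ⟨c, hc, hcg⟩
        have h1 : c⁻¹ * g ∈ N := by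
          rw [← hkermk, MonoidHom.mem_ker, map_mul, map_inv, hcg, inv_mul_cancel]
        have : g = c * (c⁻¹ * g) := by group
        rw [this]
        exact C.mul_mem hc (hNC h1)
      · intro hg
        exact Subgroup.mem_map_of_mem _ hg
    have hDcore : D.normalCore = ⊥ := by
      rw [eq_bot_iff]
      intro y hy
      obtain ⟨g, rfl⟩ := QuotientGroup.mk'_surjective N y
      rw [mem_bot, QuotientGroup.mk'_apply, QuotientGroup.eq_one_iff, hN]
      intro b
      have h1 := hy (QuotientGroup.mk' N b)
      rw [← map_inv, ← map_mul, ← map_mul, memD] at h1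
      exact h1
    have hD1 : D ≠ ⊥ := by
      intro hbot
      apply hx
      have h1 : C ≤ N := by
        rw [hD, Subgroup.map_eq_bot_iff, hkermk] at hbot
        exact hbot
      have : C = N := le_antisymm h1 hNC
      rw [this]; exact hNn
    have hclH : ∀ y : G ⧸ N, (centralizer ({y} : Set (G ⧸ N))).index = 1 ∨
        ((centralizer ({y} : Set (G ⧸ N))).index).Prime := by
      intro y
      obtain ⟨g, rfl⟩ := QuotientGroup.mk'_surjective N y
      have h1 := index_centralizer_mk_dvd N g
      rcases h g with h2 | h2
      · left; rw [h2] at h1; exact Nat.dvd_one.1 h1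
      · rcases (Nat.dvd_prime h2).1 h1 with h3 | h3
        · left; exact h3
        · right; rw [h3]; exact h2
    obtain ⟨hZH, hq, hqp⟩ := quotient_lemma D p (hp ▸ hCp) hDidx hDcore hD1 hclH
    -- elements outside N centralize N
    have hNcen : ∀ g : G, g ∉ N → N ≤ centralizer ({g} : Set G) := by
      intro g hg
      have hne : QuotientGroup.mk' N g ≠ 1 := by
        rw [QuotientGroup.mk'_apply, Ne, QuotientGroup.eq_one_iff]; exact hg
      have hidx1 : (centralizer ({QuotientGroup.mk' N g} : Set (G ⧸ N))).index ≠ 1 := by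
        intro h1
        apply hne
        have h2 := Subgroup.index_eq_one.1 h1
        rw [centralizer_eq_top_iff_subset, Set.singleton_subset_iff] at h2
        have : QuotientGroup.mk' N g ∈ center (G ⧸ N) := h2
        rwa [hZH, mem_bot] at this
      have hdvd := index_centralizer_mk_dvd N g
      have hle : centralizer ({g} : Set G) ≤
          (centralizer ({QuotientGroup.mk' N g} : Set (G ⧸ N))).comap (QuotientGroup.mk' N) := by
        intro y hy
        rw [mem_comap, mem_centralizer_singleton_iff]
        rw [mem_centralizer_singleton_iff] at hy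
        rw [← map_mul, ← map_mul, hy]
      have hidx : (centralizer ({g} : Set G)).index =
          ((centralizer ({QuotientGroup.mk' N g} : Set (G ⧸ N))).comap
            (QuotientGroup.mk' N)).index := by
        rw [Subgroup.index_comap_of_surjective _ (QuotientGroup.mk'_surjective N)]
        rcases h g with h2 | h2
        · rw [h2] at hdvd; exact absurd (Nat.dvd_one.1 hdvd) hidx1
        · rcases (Nat.dvd_prime h2).1 hdvd with h3 | h3
          · exact absurd h3 hidx1
          · exact h3.symm
      have heq := eq_of_le_of_index_eq hle hidx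
      rw [heq]
      intro n hn
      rw [mem_comap, (QuotientGroup.eq_one_iff n).2 hn |> fun e => (by
        rw [QuotientGroup.mk'_apply, e] : QuotientGroup.mk' N n = 1)]
      exact one_mem _
    -- N is central
    obtain ⟨g₀, hg₀⟩ : ∃ g₀ : G, g₀ ∉ N := by
      by_contra hcon
      push Not at hcon
      apply hCtop
      rw [eq_top_iff]
      intro g _
      exact hNC (hcon g)
    have hNZ : N ≤ center G := by
      intro n hn
      rw [mem_center_iff]
      intro g
      by_cases hg : g ∈ N
      · have hgg₀ : g * g₀ ∉ N := by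
          intro hmem
          apply hg₀
          have : g₀ = g⁻¹ * (g * g₀) := by group
          rw [this]
          exact N.mul_mem (N.inv_mem hg) hmem
        have h1 := mem_centralizer_singleton_iff.1 (hNcen g₀ hg₀ hn)
        have h2 := mem_centralizer_singleton_iff.1 (hNcen (g * g₀) hgg₀ hn)
        -- n*g₀ = g₀*n, n*(g*g₀) = (g*g₀)*n
        have h3 : g * n * g₀ = n * g * g₀ := by
          calc g * n * g₀ = g * (n * g₀) := by group
            _ = g * (g₀ * n) := by rw [h1]
            _ = (g * g₀) * n := by group
            _ = n * (g * g₀) := h2.symm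
            _ = n * g * g₀ := by group
        exact mul_right_cancel h3
      · exact (mem_centralizer_singleton_iff.1 (hNcen g hg hn)).symm
    have hZN : center G ≤ N := by
      rw [hN]
      apply Subgroup.normal_le_normalCore.mpr
      rw [hC]
      exact center_le_centralizer _
    have hcenter : center G = N := le_antisymm hZN hNZ
    refine ⟨p, Nat.card D, hp ▸ hCp, hq, fun e => hqp e.symm, ?_, ?_⟩
    · rw [← Subgroup.index_eq_card, hcenter]
      have h1 := D.card_mul_index
      rw [hDidx, mul_comm] at h1
      rw [h1, Subgroup.index_eq_card]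
    · intro hmc
      apply hx
      apply normal_of_commutator_le'
      intro a b
      have h1 : ((a * b * a⁻¹ * b⁻¹ : G) : G ⧸ center G) = 1 := by
        have e : ((a * b * a⁻¹ * b⁻¹ : G) : G ⧸ center G)
            = (a : G ⧸ center G) * b * (a : G ⧸ center G)⁻¹ * (b : G ⧸ center G)⁻¹ := by
          simp
        rw [e, hmc.is_comm.comm (a : G ⧸ center G) b]
        group
      rw [QuotientGroup.eq_one_iff] at h1
      rw [hC]
      exact center_le_centralizer _ h1

end Cfsg.Agent.S4314
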