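import Cfsg.Statements.S4320
import Mathlib

set_option autoImplicit false
open Cfsg

namespace Cfsg.Agent.S4320

universe u

open scoped Pointwise

section setup

variable {G : Type u} [Group G]

/-- the element `((x • q).out)⁻¹ * x * q.out` of the derived subgroup -/
noncomputable def tElem (x : G) (q : G ⧸ commutator G) : ↥(commutator G) :=
  ⟨((x • q).out)⁻¹ * (x * q.out), by
    apply QuotientGroup.leftRel_apply.mp
    apply Quotient.exact'
    show ((x • q).out : G ⧸ commutator G) = ((x * q.out : G) : G ⧸ commutator G)
    rw [QuotientGroup.out_eq']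
    conv_lhs => rw [← QuotientGroup.out_eq' q]
    rfl⟩

theorem tElem_mul (g h : G) (q : G ⧸ commutator G) :
    tElem (g * h) q = tElem g (h • q) * tElem h q := by
  apply Subtype.ext
  simp only [tElem, Subgroup.coe_mul, mul_smul]
  group

/-- the additive version of the image in the abelianization of the derived subgroup -/
noncomputable def wElem (x : G) (q : G ⧸ commutator G) :
    Additive (Abelianization ↥(commutator G)) :=
  Additive.ofMul (Abelianization.of (tElem x q))

theorem wElem_mul (g h : G) (q : G ⧸ commutator G) :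
    wElem (g * h) q = wElem g (h • q) + wElem h q := by
  unfold wElem
  rw [tElem_mul, map_mul, ofMul_mul]

/-- explicit formula for the transfer into the abelianization of the derived subgroup -/
theorem transfer_eq_prod [Finite G] (x : G) :
    letI := Fintype.ofFinite (G ⧸ commutator G)
    MonoidHom.transfer (Abelianization.of : ↥(commutator G) →* Abelianization ↥(commutator G)) x =
      ∏ q : G ⧸ commutator G, Abelianization.of (tElem x q) := by
  classical
  letI := Fintype.ofFinite (G ⧸ commutator G)
  let T : (commutator G).LeftTransversal :=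
    ⟨Set.range Quotient.out, Subgroup.isComplement_range_left Quotient.out_eq'⟩
  rw [MonoidHom.transfer_def _ T x]
  unfold Subgroup.leftTransversals.diff
  dsimp only
  rw [← Equiv.prod_comp (MulAction.toPerm x : (G ⧸ commutator G) ≃ (G ⧸ commutator G))]
  apply Finset.prod_congr rfl
  intro q _
  congr 1
  apply Subtype.ext
  simp only [tElem]
  rw [Subgroup.smul_apply_eq_smul_apply_inv_smul]
  simp only [MulAction.toPerm_apply, inv_smul_smul, smul_eq_mul]
  rw [Subgroup.IsComplement.leftQuotientEquiv_apply Quotient.out_eq',
    Subgroup.IsComplement.leftQuotientEquiv_apply Quotient.out_eq']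

end setup

section ring

variable {G : Type u} [Group G]

/-- the identity map from the abelianization to the coset space -/
def toQ (q : Abelianization G) : G ⧸ commutator G := q

theorem toQ_of_mul (h : G) (q : Abelianization G) :
    toQ (Abelianization.of h * q) = h • toQ q := by
  induction q using QuotientGroup.induction_on with
  | H a => rfl

/-- the crossed homomorphism `Ψ̄_x : ℤ[G/G'] → G'/G''` -/
noncomputable def psi (x : G) :
    MonoidAlgebra ℤ (Abelianization G) →+ Additive (Abelianization ↥(commutator G)) :=
  (Finsupp.liftAddHom (fun q : Abelianization G => (zmultiplesHom _ (wElem x (toQ q))))).comp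
    MonoidAlgebra.coeffAddEquiv.toAddMonoidHom

theorem psi_single (x : G) (q : Abelianization G) (n : ℤ) :
    psi x (MonoidAlgebra.single q n) = n • wElem x (toQ q) := by
  unfold psi
  rw [AddMonoidHom.comp_apply]
  show (Finsupp.liftAddHom _) (Finsupp.single q n) = _
  rw [Finsupp.liftAddHom_apply_single]
  rfl

theorem psi_mul (g h : G) (z : MonoidAlgebra ℤ (Abelianization G)) :
    psi (g * h) z = psi g (MonoidAlgebra.of ℤ _ (Abelianization.of h) * z) + psi h z := by
  have key : psi (g * h) =
      (psi g).comp (AddMonoidHom.mulLeft (MonoidAlgebra.of ℤ _ (Abelianization.of h))) + psi h := by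
    apply MonoidAlgebra.addMonoidHom_ext
    intro q n
    rw [AddMonoidHom.add_apply, AddMonoidHom.comp_apply, AddMonoidHom.coe_mulLeft,
      MonoidAlgebra.of_apply, MonoidAlgebra.single_mul_single, one_mul, psi_single, psi_single,
      psi_single, toQ_of_mul, wElem_mul, smul_add]
  rw [key]
  rfl

end ring

section norm

variable {G : Type u} [Group G]

/-- the identity equivalence between the abelianization and the coset space -/
def toQEquiv : Abelianization G ≃ G ⧸ commutator G where
  toFun := toQ
  invFun := fun q => q
  left_inv := fun _ => rfl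
  right_inv := fun _ => rfl

/-- the norm element of the integral group ring of the abelianization -/
noncomputable def normElt [Fintype (Abelianization G)] : MonoidAlgebra ℤ (Abelianization G) :=
  ∑ q : Abelianization G, MonoidAlgebra.single q 1

theorem psi_normElt [Fintype (Abelianization G)] [Finite G] (x : G) :
    psi x normElt = Additive.ofMul
      (MonoidHom.transfer (Abelianization.of : ↥(commutator G) →* Abelianization ↥(commutator G))
        x) := by
  letI := Fintype.ofFinite (G ⧸ commutator G)
  rw [transfer_eq_prod x]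
  unfold normElt
  rw [map_sum, ofMul_prod]
  simp only [psi_single, one_smul]
  exact Fintype.sum_equiv toQEquiv _ _ (fun q => rfl)

/-- the augmentation map -/
noncomputable def aug : MonoidAlgebra ℤ (Abelianization G) →ₐ[ℤ] ℤ :=
  MonoidAlgebra.lift ℤ ℤ (Abelianization G) (1 : Abelianization G →* ℤ)

theorem aug_single (q : Abelianization G) (n : ℤ) : aug (MonoidAlgebra.single q n) = n := by
  unfold aug
  rw [MonoidAlgebra.lift_single]
  simp

theorem aug_of (q : Abelianization G) : aug (MonoidAlgebra.of ℤ _ q) = 1 := by
  rw [MonoidAlgebra.of_apply, aug_single]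

theorem aug_normElt [Fintype (Abelianization G)] :
    aug (normElt : MonoidAlgebra ℤ (Abelianization G)) = Fintype.card (Abelianization G) := by
  unfold normElt
  rw [map_sum]
  simp only [aug_single]
  simp

end norm

section rel

variable {G : Type u} [Group G] [Fintype G]

/-- `c` is a column of relations between the generators `(ḡ - 1, Ψ̄_g)` -/
def IsRel (c : G → MonoidAlgebra ℤ (Abelianization G)) : Prop :=
  (∑ g, (MonoidAlgebra.of ℤ _ (Abelianization.of g) - 1) * c g = 0) ∧
  ∀ z, ∑ g, psi g (c g * z) = 0

theorem isRel_zero : IsRel (0 : G → MonoidAlgebra ℤ (Abelianization G)) := by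
  constructor
  · simp
  · intro z
    simp

theorem IsRel.add {c d : G → MonoidAlgebra ℤ (Abelianization G)} (hc : IsRel c) (hd : IsRel d) :
    IsRel (c + d) := by
  constructor
  · simp only [Pi.add_apply, mul_add, Finset.sum_add_distrib, hc.1, hd.1, add_zero]
  · intro z
    simp only [Pi.add_apply, add_mul, map_add, Finset.sum_add_distrib, hc.2 z, hd.2 z, add_zero]

theorem IsRel.zsmul {c : G → MonoidAlgebra ℤ (Abelianization G)} (hc : IsRel c) (n : ℤ) :
    IsRel (n • c) := by
  constructor
  · simp only [Pi.smul_apply, mul_smul_comm, ← Finset.smul_sum, hc.1, smul_zero]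
  · intro z
    simp only [Pi.smul_apply, smul_mul_assoc, map_zsmul, ← Finset.smul_sum, hc.2 z, smul_zero]

theorem sum_psi_single [DecidableEq G] (g : G) (a z : MonoidAlgebra ℤ (Abelianization G)) :
    ∑ x, psi x ((Pi.single g a : G → MonoidAlgebra ℤ (Abelianization G)) x * z) =
      psi g (a * z) := by
  rw [Finset.sum_eq_single g]
  · rw [Pi.single_eq_same]
  · intro b _ hb
    rw [Pi.single_eq_of_ne hb, zero_mul, map_zero]
  · intro h
    exact absurd (Finset.mem_univ g) h

theorem sum_mul_single [DecidableEq G] (f : G → MonoidAlgebra ℤ (Abelianization G)) (g : G)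
    (a : MonoidAlgebra ℤ (Abelianization G)) :
    ∑ x, f x * (Pi.single g a : G → MonoidAlgebra ℤ (Abelianization G)) x = f g * a := by
  rw [Finset.sum_eq_single g]
  · rw [Pi.single_eq_same]
  · intro b _ hb
    rw [Pi.single_eq_of_ne hb, mul_zero]
  · intro h
    exact absurd (Finset.mem_univ g) h

theorem isRel_basic [DecidableEq G] (g h : G) :
    IsRel ((Pi.single g (MonoidAlgebra.of ℤ _ (Abelianization.of h)) + Pi.single h 1
      - Pi.single (g * h) 1 : G → MonoidAlgebra ℤ (Abelianization G))) := by
  constructor
  · simp only [Pi.add_apply, Pi.sub_apply, mul_add, mul_sub, Finset.sum_add_distrib,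
      Finset.sum_sub_distrib, sum_mul_single, map_mul]
    ring
  · intro z
    simp only [Pi.add_apply, Pi.sub_apply, add_mul, sub_mul, map_add, map_sub,
      Finset.sum_add_distrib, Finset.sum_sub_distrib, sum_psi_single, one_mul]
    rw [psi_mul g h z]
    abel

end rel

section mat

variable {G : Type u} [Group G] [Fintype G] [DecidableEq G]

theorem det_mul_of_sub_one (M : Matrix G G (MonoidAlgebra ℤ (Abelianization G)))
    (hM : ∀ i, IsRel (fun g => M g i)) (j : G) :
    (MonoidAlgebra.of ℤ _ (Abelianization.of j) - 1) * M.det = 0 := by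
  have h1 : Matrix.vecMul
      (fun g : G => (MonoidAlgebra.of ℤ _ (Abelianization.of g) - 1 :
        MonoidAlgebra ℤ (Abelianization G))) M = 0 := by
    funext i
    exact (hM i).1
  have h2 := congrArg (fun v => Matrix.vecMul v M.adjugate) h1
  simp only [Matrix.vecMul_vecMul, Matrix.mul_adjugate, Matrix.zero_vecMul] at h2
  have h3 := congrFun h2 j
  rw [Matrix.vecMul_smul, Matrix.vecMul_one] at h3
  simpa [mul_comm] using h3

theorem psi_det (M : Matrix G G (MonoidAlgebra ℤ (Abelianization G)))
    (hM : ∀ i, IsRel (fun g => M g i)) (j : G) :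
    psi j M.det = 0 := by
  have h1 : ∑ i, ∑ g, psi g (M g i * M.adjugate i j) = 0 :=
    Finset.sum_eq_zero (fun i _ => (hM i).2 _)
  rw [Finset.sum_comm] at h1
  simp only [← map_sum] at h1
  have h2 : ∀ g, ∑ i, M g i * M.adjugate i j = (M * M.adjugate) g j := fun g => by
    rw [Matrix.mul_apply]
  simp only [h2, Matrix.mul_adjugate] at h1
  rw [Finset.sum_eq_single j] at h1
  · simpa using h1
  · intro b _ hb
    simp [Matrix.one_apply_ne hb]
  · intro h
    exact absurd (Finset.mem_univ j) h

end mat

section const

variable {G : Type u} [Group G] [Fintype (Abelianization G)]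

theorem eq_smul_normElt (D : MonoidAlgebra ℤ (Abelianization G))
    (hD : ∀ q : Abelianization G, (MonoidAlgebra.of ℤ _ q - 1) * D = 0) :
    D = D.coeff 1 • normElt := by
  classical
  apply MonoidAlgebra.coeff_injective
  ext h
  rw [MonoidAlgebra.coeff_smul_apply]
  have h1 : (normElt : MonoidAlgebra ℤ (Abelianization G)).coeff h = 1 := by
    unfold normElt
    rw [MonoidAlgebra.coeff_sum, Finsupp.finset_sum_apply]
    simp only [MonoidAlgebra.coeff_single, Finsupp.single_apply]
    simp
  rw [h1, smul_eq_mul, mul_one]
  have h2 : D * MonoidAlgebra.single h 1 = D := by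
    have := hD h
    rw [sub_mul, one_mul, sub_eq_zero, MonoidAlgebra.of_apply, mul_comm] at this
    exact this
  have h3 := MonoidAlgebra.coeff_mul_single_apply D (1 : ℤ) h h
  rw [h2, mul_inv_cancel, mul_one] at h3
  exact h3

end const

section lattice

variable {G : Type u} [Group G] [Fintype G] [DecidableEq G]

/-- the linear map `ℤ^G → G/G'` -/
noncomputable def fL : (G → ℤ) →ₗ[ℤ] Additive (Abelianization G) :=
  Fintype.linearCombination ℤ (fun g : G => Additive.ofMul (Abelianization.of g))

theorem fL_single (g : G) :
    fL (Pi.single g (1 : ℤ)) = Additive.ofMul (Abelianization.of g) := by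
  unfold fL
  rw [Fintype.linearCombination_apply_single, one_smul]

theorem fL_surjective : Function.Surjective (fL : (G → ℤ) →ₗ[ℤ] Additive (Abelianization G)) := by
  intro a
  obtain ⟨g, hg⟩ := QuotientGroup.mk_surjective (s := commutator G) (Additive.toMul a)
  refine ⟨Pi.single g 1, ?_⟩
  rw [fL_single]
  exact congrArg Additive.ofMul hg

/-- the span of the basic integral relations -/
def relSpan : Submodule ℤ (G → ℤ) :=
  Submodule.span ℤ (Set.range (fun p : G × G =>
    (Pi.single p.1 1 + Pi.single p.2 1 - Pi.single (p.1 * p.2) 1 : G → ℤ)))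

theorem ker_fL_le : LinearMap.ker (fL : (G → ℤ) →ₗ[ℤ] Additive (Abelianization G)) ≤ relSpan := by
  let φ : G →* Multiplicative ((G → ℤ) ⧸ (relSpan : Submodule ℤ (G → ℤ))) :=
    MonoidHom.mk' (fun g => Multiplicative.ofAdd (Submodule.Quotient.mk (Pi.single g 1)))
      (fun g h => by
        rw [← ofAdd_add, ← Submodule.Quotient.mk_add]
        congr 1
        apply Eq.symm
        rw [Submodule.Quotient.eq]
        exact Submodule.subset_span ⟨(g, h), rfl⟩)
  let ψ : Additive (Abelianization G) →+ (G → ℤ) ⧸ (relSpan : Submodule ℤ (G → ℤ)) :=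
    MonoidHom.toAdditiveLeft (Abelianization.lift φ)
  have key : ψ.toIntLinearMap ∘ₗ fL = (relSpan : Submodule ℤ (G → ℤ)).mkQ := by
    apply (Pi.basisFun ℤ G).ext
    intro g
    rw [Pi.basisFun_apply, LinearMap.comp_apply, fL_single]
    rfl
  intro v hv
  rw [LinearMap.mem_ker] at hv
  have h1 := LinearMap.congr_fun key v
  rw [LinearMap.comp_apply, hv, map_zero] at h1
  exact (Submodule.Quotient.mk_eq_zero _).mp h1.symm

theorem exists_isRel_of_mem_relSpan (v : G → ℤ) (hv : v ∈ (relSpan : Submodule ℤ (G → ℤ))) :
    ∃ c : G → MonoidAlgebra ℤ (Abelianization G), IsRel c ∧ ∀ g, aug (c g) = v g := by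
  unfold relSpan at hv
  induction hv using Submodule.span_induction with
  | mem x hx =>
    obtain ⟨⟨g, h⟩, rfl⟩ := hx
    refine ⟨_, isRel_basic g h, ?_⟩
    intro x
    simp only [Pi.add_apply, Pi.sub_apply, map_add, map_sub, Pi.single_apply]
    split_ifs <;> simp [aug_of, aug_single]
  | zero => exact ⟨0, isRel_zero, fun g => by simp⟩
  | add x y _ _ hx hy =>
    obtain ⟨c, hc, hc'⟩ := hx
    obtain ⟨d, hd, hd'⟩ := hy
    exact ⟨c + d, hc.add hd, fun g => by simp [hc', hd']⟩
  | smul n x _ hx =>
    obtain ⟨c, hc, hc'⟩ := hx
    exact ⟨n • c, hc.zsmul n, fun g => by simp [hc']⟩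

end lattice

section final

variable {G : Type u} [Group G]

theorem exists_matrix [Fintype G] [DecidableEq G] :
    ∃ M : Matrix G G (MonoidAlgebra ℤ (Abelianization G)),
      (∀ i, IsRel (fun g => M g i)) ∧
        (aug M.det).natAbs = Nat.card (Abelianization G) := by
  let N : Submodule ℤ (G → ℤ) := LinearMap.ker fL
  let e : ((G → ℤ) ⧸ N) ≃ₗ[ℤ] Additive (Abelianization G) :=
    (fL : (G → ℤ) →ₗ[ℤ] Additive (Abelianization G)).quotKerEquivOfSurjective fL_surjective
  haveI : Finite (Abelianization G) := inferInstanceAs (Finite (G ⧸ commutator G))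
  haveI : Finite (Additive (Abelianization G)) := inferInstanceAs (Finite (Abelianization G))
  haveI : Finite ((G → ℤ) ⧸ N) := Finite.of_equiv _ e.symm.toEquiv
  have h : Module.finrank ℤ N = Module.finrank ℤ (G → ℤ) :=
    (Submodule.finiteQuotient_iff N).mp inferInstance
  let bN : Module.Basis G ℤ N := Submodule.smithNormalFormBotBasis (Pi.basisFun ℤ G) h
  have hc : ∀ i : G, ∃ c : G → MonoidAlgebra ℤ (Abelianization G),
      IsRel c ∧ ∀ g, aug (c g) = (bN i : G → ℤ) g := fun i =>
    exists_isRel_of_mem_relSpan _ (ker_fL_le (bN i).2)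
  choose c hc1 hc2 using hc
  refine ⟨Matrix.of (fun g i => c i g), fun i => hc1 i, ?_⟩
  have h1 : aug (Matrix.of (fun g i => c i g)).det =
      ((aug : MonoidAlgebra ℤ (Abelianization G) →ₐ[ℤ] ℤ).toRingHom.mapMatrix
        (Matrix.of (fun g i => c i g))).det :=
    RingHom.map_det (aug : MonoidAlgebra ℤ (Abelianization G) →ₐ[ℤ] ℤ).toRingHom _
  have h2 : (aug : MonoidAlgebra ℤ (Abelianization G) →ₐ[ℤ] ℤ).toRingHom.mapMatrix
        (Matrix.of (fun g i => c i g)) = (Matrix.of (fun i => (bN i : G → ℤ))).transpose := by
    ext g i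
    exact hc2 i g
  rw [h1, h2, Matrix.det_transpose, ← Pi.basisFun_det_apply]
  have h3 := Submodule.natAbs_det_basis_change (Pi.basisFun ℤ G) N bN
  rw [Nat.card_congr e.toEquiv] at h3
  exact h3

theorem result' [Finite G] :
    MonoidHom.transfer (Abelianization.of : ↥(commutator G) →* Abelianization ↥(commutator G))
      = (1 : G →* Abelianization ↥(commutator G)) := by
  classical
  letI := Fintype.ofFinite G
  letI := Fintype.ofFinite (Abelianization G)
  obtain ⟨M, hM, hdet⟩ := exists_matrix (G := G)
  ext x
  rw [MonoidHom.one_apply]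
  have hD := eq_smul_normElt M.det (fun q => by
    obtain ⟨g, rfl⟩ := QuotientGroup.mk_surjective (s := commutator G) q
    exact det_mul_of_sub_one M hM g)
  have h0 := psi_det M hM x
  set m := M.det.coeff 1 with hm
  rw [hD, map_zsmul, psi_normElt] at h0
  rw [hD, map_zsmul, aug_normElt, Nat.card_eq_fintype_card, smul_eq_mul, Int.natAbs_mul,
    Int.natAbs_natCast] at hdet
  have hpos : 0 < Fintype.card (Abelianization G) := Fintype.card_pos
  have hm1 : m.natAbs = 1 := by
    have : m.natAbs * Fintype.card (Abelianization G) = 1 * Fintype.card (Abelianization G) := by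
      rw [hdet, one_mul]
    exact Nat.eq_of_mul_eq_mul_right hpos this
  rcases Int.natAbs_eq_iff.mp hm1 with h | h
  · rw [h] at h0
    simpa using h0
  · rw [h] at h0
    simpa using h0

end final

/-- The Principal Ideal Theorem of class field theory in its group-theoretic form: for every finite group `G`, the transfer homomorphism from `G` into the abelianization `G'/G''` of its derived subgroup `G'` is the trivial homomorphism. -/
theorem result {G : Type*} [Group G] [Finite G] :
    MonoidHom.transfer (Abelianization.of : ↥(commutator G) →* Abelianization ↥(commutator G)) =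
      (1 : G →* Abelianization ↥(commutator G)) := by
  exact result'

end Cfsg.Agent.S4320
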