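import Cfsg.Statements.S4325
-- import your own Cfsg.Agent.* helpers here

set_option autoImplicit false
open Cfsg

namespace Cfsg.Agent.S4325

/-- Let r be a prime and m a natural number with m + 1 < r, and let π be a set of primes containing every prime below r but not r itself. Then in the symmetric group of degree r any m transpositions generate a π-subgroup, while O_π of the symmetric group is trivial. (So no bound on the number of conjugates that works for all π exists in the π-radical analogue of the Baer–Suzuki Theorem.) -/
theorem result (r m : ℕ) (hr : r.Prime)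
    (hm : m + 1 < r) (π : Set ℕ) (hπ : ∀ q : ℕ, q.Prime → q < r → q ∈ π) (hrπ : r ∉ π)
    (t : Fin m → Equiv.Perm (Fin r)) (ht : ∀ i, (t i).IsSwap) :
    Cfsg.IsPiSubgroup π (Subgroup.closure (Set.range t)) ∧ Cfsg.piCore π (Equiv.Perm (Fin r)) = ⊥ := by
  classical
  haveI : Fact r.Prime := ⟨hr⟩
  haveI : NeZero r := ⟨hr.ne_zero⟩
  constructor
  · -- part 1
    intro q hq hqdvd
    set H := Subgroup.closure (Set.range t) with hH
    have hdiv : q ∣ (r).factorial := by
      have h1 : Nat.card H ∣ Nat.card (Equiv.Perm (Fin r)) := Subgroup.card_subgroup_dvd_card H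
      have h2 : Nat.card (Equiv.Perm (Fin r)) = r.factorial := by
        rw [Nat.card_eq_fintype_card, Fintype.card_perm, Fintype.card_fin]
      rw [h2] at h1
      exact hqdvd.trans h1
    have hqle : q ≤ r := (hq.dvd_factorial).mp hdiv
    rcases lt_or_eq_of_le hqle with hlt | heq
    · exact hπ q hq hlt
    exfalso
    subst heq
    obtain ⟨σ, hσ⟩ := exists_prime_orderOf_dvd_card' q hqdvd
    have hσ' : orderOf (σ : Equiv.Perm (Fin q)) = q := by
      rw [Subgroup.orderOf_coe]; exact hσ
    have hcyc : (σ : Equiv.Perm (Fin q)).IsCycle := by
      apply Equiv.Perm.isCycle_of_prime_order''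
      · rw [Fintype.card_fin]; exact hq
      · rw [Fintype.card_fin]; exact hσ'
    have hsupp : (σ : Equiv.Perm (Fin q)).support = Finset.univ := by
      rw [← Finset.card_eq_iff_eq_univ, Fintype.card_fin, ← hcyc.orderOf, hσ']
    have hmoves : ∀ v : Fin q, (σ : Equiv.Perm (Fin q)) v ≠ v := by
      intro v
      rw [← Equiv.Perm.mem_support, hsupp]
      exact Finset.mem_univ v
    -- the swaps
    choose a b hab htab using ht
    let Γ : SimpleGraph (Fin q) := SimpleGraph.fromEdgeSet (Set.range fun i => s(a i, b i))
    have hreach : ∀ h ∈ H, ∀ v : Fin q, Γ.Reachable v (h v) := by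
      intro h hh
      induction hh using Subgroup.closure_induction with
      | mem h hmem =>
        obtain ⟨i, rfl⟩ := hmem
        intro v
        rw [htab i]
        by_cases hva : v = a i
        · subst hva
          rw [Equiv.swap_apply_left]
          apply SimpleGraph.Adj.reachable
          rw [SimpleGraph.fromEdgeSet_adj]
          exact ⟨⟨i, rfl⟩, hab i⟩
        · by_cases hvb : v = b i
          · subst hvb
            rw [Equiv.swap_apply_right]
            apply SimpleGraph.Adj.reachable
            rw [SimpleGraph.fromEdgeSet_adj]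
            exact ⟨⟨i, Sym2.eq_swap⟩, (hab i).symm⟩
          · rw [Equiv.swap_apply_of_ne_of_ne hva hvb]
      | one => intro v; exact SimpleGraph.Reachable.refl v
      | mul g h _ _ hg hh =>
        intro v
        exact (hh v).trans (hg (h v))
      | inv h _ hh =>
        intro v
        have := hh (h⁻¹ v)
        have e : h (h⁻¹ v) = v := by simp
        rw [e] at this
        exact this.symm
    have hconn : Γ.Connected := by
      refine ⟨fun u v => ?_⟩
      obtain ⟨k, hk⟩ := hcyc.exists_zpow_eq (hmoves u) (hmoves v)
      have hmem : ((σ : Equiv.Perm (Fin q)) ^ k) ∈ H := H.zpow_mem σ.2 k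
      have := hreach _ hmem u
      rw [hk] at this
      exact this
    have hcard := hconn.card_vert_le_card_edgeSet_add_one
    have hE : Nat.card Γ.edgeSet ≤ m := by
      have hsub : Γ.edgeSet ⊆ Set.range fun i => s(a i, b i) := by
        intro e he
        rw [SimpleGraph.edgeSet_fromEdgeSet] at he
        exact he.1
      calc Nat.card Γ.edgeSet ≤ Nat.card (Set.range fun i => s(a i, b i)) :=
            Nat.card_mono (Set.toFinite _) hsub
        _ ≤ Nat.card (Fin m) := Finite.card_range_le _
        _ = m := Nat.card_fin m
    rw [Nat.card_fin] at hcard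
    omega
  · -- part 2
    unfold Cfsg.piCore
    rw [sSup_eq_bot]
    rintro N ⟨hNn, hNπ⟩
    by_contra hNbot
    haveI := hNn
    haveI hprim : MulAction.IsPreprimitive (Equiv.Perm (Fin r)) (Fin r) :=
      MulAction.IsPreprimitive.of_prime_card (by rw [Nat.card_fin]; exact hr)
    have hfix : MulAction.fixedPoints N (Fin r) ≠ Set.univ := by
      intro hfp
      apply hNbot
      rw [Subgroup.eq_bot_iff_forall]
      intro n hn
      ext y
      have hy : y ∈ MulAction.fixedPoints N (Fin r) := by rw [hfp]; trivial
      have := hy ⟨n, hn⟩
      have h2 : n y = y := this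
      rw [h2]; rfl
    haveI htr : MulAction.IsPretransitive N (Fin r) :=
      MulAction.IsQuasiPreprimitive.isPretransitive_of_normal hfix
    have hidx : (MulAction.stabilizer N (0 : Fin r)).index = Nat.card (Fin r) :=
      MulAction.index_stabilizer_of_transitive N (0 : Fin r)
    have hdvd : r ∣ Nat.card N := by
      have := (MulAction.stabilizer N (0 : Fin r)).index_dvd_card
      rw [hidx, Nat.card_fin] at this
      exact this
    exact hrπ (hNπ r hr hdvd)

end Cfsg.Agent.S4325
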