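import Cfsg.Statements.S4326
-- import your own Cfsg.Agent.* helpers here

set_option autoImplicit false
open Pointwise
open Cfsg

namespace Cfsg.Agent.S4326

/-- Let G be a finite group, p a prime, x an automorphism of G of p-power order and M the subgroup of fixed points of x. Suppose that p divides the index of M and that either M is self-normalizing or M has trivial center. Then some conjugate of M is mapped onto itself by x but is not fixed elementwise by x. -/
theorem result {G : Type*} [Group G] [Finite G]
    (p : ℕ) [Fact p.Prime] (x : MulAut G) (hx : ∃ k : ℕ, orderOf x = p ^ k) (M : Subgroup G)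
    (hM : ∀ g : G, g ∈ M ↔ x g = g) (hp : p ∣ M.index)
    (hself : Subgroup.normalizer (M : Set G) = M ∨ Subgroup.center M = ⊥) :
    ∃ g : G, (∀ y ∈ MulAut.conj g • M, x y ∈ MulAut.conj g • M) ∧ ∃ y ∈ MulAut.conj g • M, x y ≠ y := by
  classical
  -- the cyclic p-group generated by x
  have hP : IsPGroup p (Subgroup.zpowers x) := by
    obtain ⟨k, hk⟩ := hx
    apply IsPGroup.of_card (n := k)
    rw [Nat.card_zpowers, hk]
  -- every element of zpowers x fixes M elementwise
  have hfixM : ∀ b : Subgroup.zpowers x, ∀ m ∈ M, (b : MulAut G) m = m := by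
    rintro ⟨b, hb⟩ m hm
    obtain ⟨k, rfl⟩ := Subgroup.mem_zpowers_iff.mp hb
    have hxm : x m = m := (hM m).mp hm
    have hxm' : x • m = m := hxm
    have hle : Subgroup.zpowers x ≤ MulAction.stabilizer (MulAut G) m :=
      (Subgroup.zpowers_le).mpr hxm'
    have := hle (Subgroup.zpow_mem_zpowers x k)
    exact this
  haveI hQA : MulAction.QuotientAction (Subgroup.zpowers x) M := by
    refine ⟨fun b a a' h => ?_⟩
    have h1 : (b • a)⁻¹ * b • a' = (b : MulAut G) (a⁻¹ * a') := by
      change ((b : MulAut G) a)⁻¹ * (b : MulAut G) a' = _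
      rw [map_mul, map_inv]
    rw [h1, hfixM b _ h]
    exact h
  have hcard : p ∣ Nat.card (G ⧸ M) := hp
  have hone : ((1 : G) : G ⧸ M) ∈ MulAction.fixedPoints (Subgroup.zpowers x) (G ⧸ M) := by
    intro b
    rw [MulAction.Quotient.smul_coe]
    congr 1
    exact map_one (b : MulAut G)
  obtain ⟨q, hq, hq1⟩ := hP.exists_fixed_point_of_prime_dvd_card_of_fixed_point (G ⧸ M) hcard hone
  induction q using QuotientGroup.induction_on with
  | H g =>
  have hgM : g ∉ M := by
    intro hg
    apply hq1
    rw [eq_comm, QuotientGroup.eq]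
    simpa using hg
  have hm0 : g⁻¹ * x g ∈ M := by
    have := hq ⟨x, Subgroup.mem_zpowers x⟩
    rw [MulAction.Quotient.smul_coe] at this
    have h2 := QuotientGroup.eq.mp this
    have h3 : (⟨x, Subgroup.mem_zpowers x⟩ : Subgroup.zpowers x) • g = x g := rfl
    rw [h3] at h2
    have := M.inv_mem h2
    simpa [mul_inv_rev] using this
  set m0 := g⁻¹ * x g with hm0def
  have hxg : x g = g * m0 := by rw [hm0def]; group
  have hxconj : ∀ m ∈ M, x (g * m * g⁻¹) = g * (m0 * m * m0⁻¹) * g⁻¹ := by
    intro m hm
    rw [map_mul, map_mul, map_inv, hxg, (hM m).mp hm]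
    group
  refine ⟨g, ?_, ?_⟩
  · intro y hy
    rw [Subgroup.mem_pointwise_smul_iff_inv_smul_mem] at hy
    have hy' : g⁻¹ * y * g ∈ M := by simpa [MulAut.smul_def] using hy
    have hyeq : y = g * (g⁻¹ * y * g) * g⁻¹ := by group
    rw [hyeq, hxconj _ hy']
    rw [Subgroup.mem_pointwise_smul_iff_inv_smul_mem]
    have : g⁻¹ * (g * (m0 * (g⁻¹ * y * g) * m0⁻¹) * g⁻¹) * g = m0 * (g⁻¹ * y * g) * m0⁻¹ := by group
    simp only [MulAut.smul_def, MulAut.conj_inv_apply]
    rw [this]
    exact M.mul_mem (M.mul_mem hm0 hy') (M.inv_mem hm0)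
  · by_contra hcon
    push Not at hcon
    have hall : ∀ m ∈ M, x (g * m * g⁻¹) = g * m * g⁻¹ := by
      intro m hm
      apply hcon
      rw [Subgroup.mem_pointwise_smul_iff_inv_smul_mem]
      simp only [MulAut.smul_def, MulAut.conj_inv_apply]
      have : g⁻¹ * (g * m * g⁻¹) * g = m := by group
      rw [this]; exact hm
    -- m0 is central in M
    have hcent : ∀ m ∈ M, m0 * m = m * m0 := by
      intro m hm
      have h1 := hxconj m hm
      rw [hall m hm] at h1
      have h2 : m = m0 * m * m0⁻¹ := by
        have := congrArg (fun z => g⁻¹ * z * g) h1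
        beta_reduce at this
        have e1 : g⁻¹ * (g * m * g⁻¹) * g = m := by group
        have e2 : g⁻¹ * (g * (m0 * m * m0⁻¹) * g⁻¹) * g = m0 * m * m0⁻¹ := by group
        rw [e1, e2] at this
        exact this
      calc m0 * m = m0 * m * m0⁻¹ * m0 := by group
        _ = m * m0 := by rw [← h2]
    -- g normalizes M
    have hnorm : g ∈ Subgroup.normalizer (M : Set G) := by
      have hle : MulAut.conj g • M ≤ M := by
        intro y hy
        rw [Subgroup.mem_pointwise_smul_iff_inv_smul_mem] at hy
        have hy' : g⁻¹ * y * g ∈ M := by simpa [MulAut.smul_def] using hy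
        have hyeq : y = g * (g⁻¹ * y * g) * g⁻¹ := by group
        rw [hyeq, hM, hall _ hy']
      have heq : MulAut.conj g • M = M := by
        apply Subgroup.eq_of_le_of_card_ge hle
        exact (Nat.card_congr (Subgroup.equivSMul (MulAut.conj g) M).toEquiv).le
      rw [Subgroup.mem_normalizer_iff_map_conj_eq]
      exact heq
    rcases hself with h | h
    · apply hgM
      rw [← h]; exact hnorm
    · apply hgM
      have hz : (⟨m0, hm0⟩ : M) ∈ Subgroup.center M := by
        rw [Subgroup.mem_center_iff]
        rintro ⟨m, hm⟩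
        apply Subtype.ext
        exact (hcent m hm).symm
      rw [h, Subgroup.mem_bot] at hz
      have hm1 : m0 = 1 := congrArg Subtype.val hz
      rw [hM, hxg, hm1, mul_one]

end Cfsg.Agent.S4326
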