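import Cfsg.Statements.S4331
-- import your own Cfsg.Agent.* helpers here
import Mathlib
import Cfsg.Agent.Lib.Helper12.PPrimeP

set_option autoImplicit false
open Cfsg
open scoped commutatorElement

namespace Cfsg.Agent.S4331


/-- multiplication by `3^e` on `Z/8` -/
def m1 (e : ZMod 2) (k : ZMod 8) : ZMod 8 := if e = 0 then k else 3 * k

theorem m1_invol : ∀ (e : ZMod 2) (k : ZMod 8), m1 e (m1 e k) = k := by decide
theorem m1_add : ∀ (e : ZMod 2) (k l : ZMod 8), m1 e (k + l) = m1 e k + m1 e l := by decide
theorem m1_comp : ∀ (e f : ZMod 2) (k : ZMod 8), m1 (e + f) k = m1 e (m1 f k) := by decide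
theorem m1_zero : ∀ (k : ZMod 8), m1 0 k = k := by decide

def phi1Aut (e : ZMod 2) : MulAut (Multiplicative (ZMod 8)) where
  toFun k := Multiplicative.ofAdd (m1 e k.toAdd)
  invFun k := Multiplicative.ofAdd (m1 e k.toAdd)
  left_inv k := by simp [m1_invol]
  right_inv k := by simp [m1_invol]
  map_mul' k l := by simp [m1_add]

def phi1 : Multiplicative (ZMod 2) →* MulAut (Multiplicative (ZMod 8)) where
  toFun e := phi1Aut e.toAdd
  map_one' := by ext k; simp [phi1Aut, m1_zero]
  map_mul' e f := by ext k; simp [phi1Aut, m1_comp]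

abbrev S := Multiplicative (ZMod 8) ⋊[phi1] Multiplicative (ZMod 2)

abbrev W := ZMod 3 × ZMod 3

def rot (v : W) : W := (v.1 - v.2, v.1 + v.2)
def sg (v : W) : W := (v.1, -v.2)

def act (k : ZMod 8) (e : ZMod 2) (v : W) : W := rot^[k.val] (if e = 0 then v else sg v)

theorem act_mul : ∀ (k : ZMod 8) (e : ZMod 2) (k' : ZMod 8) (e' : ZMod 2) (v : W),
    act (k + m1 e k') (e + e') v = act k e (act k' e' v) := by decide
theorem act_add : ∀ (k : ZMod 8) (e : ZMod 2) (v w : W), act k e (v + w) = act k e v + act k e w := by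
  decide
theorem act_inv_left : ∀ (k : ZMod 8) (e : ZMod 2) (v : W), act (m1 e (-k)) e (act k e v) = v := by
  decide
theorem act_inv_right : ∀ (k : ZMod 8) (e : ZMod 2) (v : W), act k e (act (m1 e (-k)) e v) = v := by
  decide
theorem act_zero : ∀ v : W, act 0 0 v = v := by decide

def psiAut (s : S) : MulAut (Multiplicative W) where
  toFun v := Multiplicative.ofAdd (act s.left.toAdd s.right.toAdd v.toAdd)
  invFun v := Multiplicative.ofAdd (act (m1 s.right.toAdd (-s.left.toAdd)) s.right.toAdd v.toAdd)
  left_inv v := by simp [act_inv_left]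
  right_inv v := by simp [act_inv_right]
  map_mul' v w := by simp [act_add]

theorem psiAut_apply (s : S) (v : Multiplicative W) :
    psiAut s v = Multiplicative.ofAdd (act s.left.toAdd s.right.toAdd v.toAdd) := rfl

def psi : S →* MulAut (Multiplicative W) where
  toFun s := psiAut s
  map_one' := by
    apply MulEquiv.ext
    intro v
    rw [psiAut_apply]
    show Multiplicative.ofAdd (act 0 0 v.toAdd) = v
    rw [act_zero]; rfl
  map_mul' s t := by
    apply MulEquiv.ext
    intro v
    rw [MulAut.mul_apply, psiAut_apply, psiAut_apply, psiAut_apply]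
    show Multiplicative.ofAdd (act (s.left.toAdd + m1 s.right.toAdd t.left.toAdd)
      (s.right.toAdd + t.right.toAdd) v.toAdd) = _
    rw [act_mul]
    rfl

abbrev G := Multiplicative W ⋊[psi] S

def mk (v : W) (k : ZMod 8) (e : ZMod 2) : G :=
  ⟨Multiplicative.ofAdd v, ⟨Multiplicative.ofAdd k, Multiplicative.ofAdd e⟩⟩

def aG : G := mk 0 0 1

set_option maxRecDepth 100000 in
theorem main_dec : ∀ (v : W) (k : ZMod 8) (e : ZMod 2), ∃ (z : W) (l : ZMod 8) (f : ZMod 2),
    (mk z l f * mk v k e * (mk z l f)⁻¹).left = 1 ∨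
      aG * (mk z l f * mk v k e * (mk z l f)⁻¹) = (mk z l f * mk v k e * (mk z l f)⁻¹) * aG := by
  decide +kernel


theorem left_mk (v : W) (k : ZMod 8) (e : ZMod 2) : (mk v k e).left = Multiplicative.ofAdd v := rfl

theorem eq_mk (c : G) : ∃ (v : W) (k : ZMod 8) (e : ZMod 2), c = mk v k e :=
  ⟨c.left.toAdd, c.right.left.toAdd, c.right.right.toAdd, rfl⟩

theorem aG_mul_self : aG * aG = 1 := by decide +kernel

theorem aG_ne_one : aG ≠ 1 := by decide +kernel

theorem orderOf_aG : orderOf aG = 2 := by
  haveI : Fact (Nat.Prime 2) := ⟨Nat.prime_two⟩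
  exact orderOf_eq_prime (by rw [pow_two]; exact aG_mul_self) aG_ne_one

instance finite_S : Finite S := Finite.of_equiv _ SemidirectProduct.equivProd.symm

instance finite_G : Finite G := Finite.of_equiv _ SemidirectProduct.equivProd.symm

theorem card_S : Nat.card S = 16 := by
  rw [Nat.card_congr (SemidirectProduct.equivProd (φ := phi1)), Nat.card_prod]
  simp [Nat.card_eq_fintype_card]

theorem card_W : Nat.card (Multiplicative W) = 9 := by
  simp [Nat.card_eq_fintype_card]

instance solvable_S : Group.IsSolvable S :=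
  Group.isSolvable_of_ker_le_range (SemidirectProduct.inl : Multiplicative (ZMod 8) →* S)
    (SemidirectProduct.rightHom : S →* Multiplicative (ZMod 2))
    (le_of_eq SemidirectProduct.range_inl_eq_ker_rightHom.symm)

instance solvable_G : Group.IsSolvable G :=
  Group.isSolvable_of_ker_le_range (SemidirectProduct.inl : Multiplicative W →* G)
    (SemidirectProduct.rightHom : G →* S)
    (le_of_eq SemidirectProduct.range_inl_eq_ker_rightHom.symm)

/-- every subgroup of a finite nilpotent group is subnormal -/
theorem subnormal_of_nilpotent {H : Type*} [Group H] [Finite H] [hnil : Group.IsNilpotent H]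
    (K : Subgroup H) : K.IsSubnormal := by
  have hNC : NormalizerCondition H := Group.normalizerCondition_of_isNilpotent
  induction K using WellFoundedGT.induction with
  | ind K ih =>
    by_cases hK : K = ⊤
    · rw [hK]; exact Subgroup.IsSubnormal.top
    · have hlt : K < Subgroup.normalizer (K : Set H) := hNC K (lt_top_iff_ne_top.mpr hK)
      exact Subgroup.IsSubnormal.step K _ Subgroup.le_normalizer (ih _ hlt)
        Subgroup.normal_in_normalizer

/-- the complement `S` inside `G` -/
def compl : Subgroup G := (SemidirectProduct.inr : S →* G).range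

theorem mem_compl (x : G) : x ∈ compl ↔ x.left = 1 := by
  constructor
  · rintro ⟨u, rfl⟩; rfl
  · intro h
    refine ⟨x.right, ?_⟩
    ext1
    · rw [h]; rfl
    · rfl

theorem compl_isPGroup : IsPGroup 2 compl := by
  haveI : Fact (Nat.Prime 2) := ⟨Nat.prime_two⟩
  apply IsPGroup.of_card (n := 4)
  have h1 : Nat.card compl = Nat.card S :=
    Nat.card_congr (MonoidHom.ofInjective (SemidirectProduct.inr_injective (φ := psi))).toEquiv.symm
  rw [h1, card_S]
  norm_num

theorem aG_mem_compl : aG ∈ compl := (mem_compl aG).mpr rfl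

/-- the normal subgroup `V` inside `G` -/
def vsub : Subgroup G := (SemidirectProduct.inl : Multiplicative W →* G).range

instance vsub_normal : vsub.Normal := by
  unfold vsub
  rw [SemidirectProduct.range_inl_eq_ker_rightHom]
  infer_instance

theorem card_vsub : Nat.card vsub = 9 := by
  have h1 : Nat.card vsub = Nat.card (Multiplicative W) :=
    Nat.card_congr (MonoidHom.ofInjective (SemidirectProduct.inl_injective (φ := psi))).toEquiv.symm
  rw [h1, card_W]

theorem aG_not_commute : aG * mk (0, 1) 0 0 ≠ mk (0, 1) 0 0 * aG := by decide +kernel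

/-- There is a finite solvable group G with a subgroup A of order 2 such that every conjugacy class of G contains an element g for which A is subnormal in the subgroup generated by A and g, and yet A is not contained in O_2(G). (So the corresponding criteria for odd primes fail at the prime 2, even for solvable groups.) -/
theorem result :
    ∃ (G : Type) (_ : Group G) (_ : Finite G) (A : Subgroup G), Group.IsSolvable G ∧ Nat.card A = 2 ∧
      (∀ c : G, ∃ g : G, IsConj c g ∧ (A.subgroupOf (A ⊔ Subgroup.zpowers g)).IsSubnormal) ∧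
      ¬ A ≤ Cfsg.pCore 2 G := by
  classical
  haveI : Fact (Nat.Prime 2) := ⟨Nat.prime_two⟩
  refine ⟨G, inferInstance, finite_G, Subgroup.zpowers aG, solvable_G, ?_, ?_, ?_⟩
  · rw [Nat.card_zpowers, orderOf_aG]
  · intro c
    obtain ⟨v, k, e, rfl⟩ := eq_mk c
    obtain ⟨z, l, f, h⟩ := main_dec v k e
    set x : G := mk z l f with hx
    set g : G := x * mk v k e * x⁻¹ with hg
    refine ⟨g, isConj_iff.mpr ⟨x, rfl⟩, ?_⟩
    rcases h with h | h
    · -- `g` lies in the complement, a 2-group
      have hgc : g ∈ compl := (mem_compl g).mpr h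
      have hle : Subgroup.zpowers aG ⊔ Subgroup.zpowers g ≤ compl :=
        sup_le (Subgroup.zpowers_le.mpr aG_mem_compl) (Subgroup.zpowers_le.mpr hgc)
      have hK : IsPGroup 2 ↥(Subgroup.zpowers aG ⊔ Subgroup.zpowers g) := compl_isPGroup.to_le hle
      haveI : Group.IsNilpotent ↥(Subgroup.zpowers aG ⊔ Subgroup.zpowers g) := hK.isNilpotent
      exact subnormal_of_nilpotent _
    · -- `g` commutes with `a`
      apply Subgroup.Normal.isSubnormal
      have hcent : Subgroup.zpowers aG ⊔ Subgroup.zpowers g ≤
          Subgroup.centralizer ((Subgroup.zpowers aG : Subgroup G) : Set G) := by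
        apply sup_le
        · rw [Subgroup.zpowers_le, Subgroup.mem_centralizer_iff]
          rintro y ⟨n, rfl⟩
          exact ((Commute.refl aG).zpow_left n).eq
        · rw [Subgroup.zpowers_le, Subgroup.mem_centralizer_iff]
          rintro y ⟨n, rfl⟩
          exact ((show Commute aG g from h).zpow_left n).eq
      constructor
      intro n hn y
      rw [Subgroup.mem_subgroupOf] at hn ⊢
      have h1 := (Subgroup.mem_centralizer_iff.mp (hcent y.2)) _ hn
      have h2 : ((y * n * y⁻¹ : ↥(Subgroup.zpowers aG ⊔ Subgroup.zpowers g)) : G) = n := by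
        push_cast
        rw [← h1, mul_inv_cancel_right]
      rw [h2]
      exact hn
  · -- `a ∉ O_2(G)`
    intro hle
    have ha : aG ∈ Cfsg.pCore 2 G := hle (Subgroup.mem_zpowers aG)
    haveI hQn : (Cfsg.pCore 2 G).Normal := Cfsg.Agent.Lib.Helper12.pCore_normal'' 2
    have hQ : IsPGroup 2 ↥(Cfsg.pCore 2 G) := Cfsg.Agent.Lib.Helper12.pCore_isPGroup' 2
    obtain ⟨n, hn⟩ := (IsPGroup.iff_card (p := 2)).mp hQ
    have hcop : Nat.Coprime (Nat.card ↥(Cfsg.pCore 2 G)) (Nat.card ↥vsub) := by
      rw [hn, card_vsub]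
      exact Nat.Coprime.pow_left n (by norm_num)
    have hinf : Cfsg.pCore 2 G ⊓ vsub = ⊥ := Subgroup.inf_eq_bot_of_coprime hcop
    have hcomm : ⁅Cfsg.pCore 2 G, vsub⁆ = ⊥ := by
      rw [eq_bot_iff, ← hinf]
      exact Subgroup.commutator_le_inf _ _
    have hv : mk (0, 1) 0 0 ∈ vsub := ⟨Multiplicative.ofAdd (0, 1), rfl⟩
    have h1 : ⁅aG, mk (0, 1) 0 0⁆ ∈ ⁅Cfsg.pCore 2 G, vsub⁆ := Subgroup.commutator_mem_commutator ha hv
    rw [hcomm, Subgroup.mem_bot, commutatorElement_eq_one_iff_mul_comm] at h1
    exact aG_not_commute h1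

end Cfsg.Agent.S4331
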