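import Cfsg.Statements.S4332
-- import your own Cfsg.Agent.* helpers here
import Mathlib
import Cfsg.Agent.Lib.Helper22.Basic

set_option autoImplicit false
open Pointwise
open Cfsg

namespace Cfsg.Agent.S4332

def Q (u v w x y z : Fin 8) : Prop :=
  ((u = x ∨ u = y ∨ u = z) ∧ (v = x ∨ v = y ∨ v = z) ∧ (w = x ∨ w = y ∨ w = z)) ∨
  ((u ≠ x ∧ u ≠ y ∧ u ≠ z) ∧ (v ≠ x ∧ v ≠ y ∧ v ≠ z) ∧ (w ≠ x ∧ w ≠ y ∧ w ≠ z))

instance decQ (u v w x y z : Fin 8) : Decidable (Q u v w x y z) := by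
  unfold Q; infer_instance

set_option synthInstance.maxSize 8000 in
set_option synthInstance.maxHeartbeats 2000000 in
set_option maxRecDepth 100000 in
set_option maxHeartbeats 4000000 in
theorem comb :
    ∀ a0 : Fin 8, ∀ a1 : Fin 8, a1 ≠ a0 → ∀ a2 : Fin 8, a2 ≠ a0 → a2 ≠ a1 →
    (Q a0 a1 a2 0 1 2) ∨
    ∀ a3 : Fin 8, a3 ≠ a0 → a3 ≠ a1 → a3 ≠ a2 →
    (Q a0 a1 a3 0 1 3 ∨ Q a0 a2 a3 0 2 3 ∨ Q a1 a2 a3 1 2 3) ∨
    ∀ a4 : Fin 8, a4 ≠ a0 → a4 ≠ a1 → a4 ≠ a2 → a4 ≠ a3 →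
    (Q a0 a1 a4 0 1 4 ∨ Q a0 a2 a4 0 2 4 ∨ Q a0 a3 a4 0 3 4 ∨ Q a1 a2 a4 1 2 4 ∨ Q a1 a3 a4 1 3 4 ∨ Q a2 a3 a4 2 3 4) ∨
    ∀ a5 : Fin 8, a5 ≠ a0 → a5 ≠ a1 → a5 ≠ a2 → a5 ≠ a3 → a5 ≠ a4 →
    (Q a0 a1 a5 0 1 5 ∨ Q a0 a2 a5 0 2 5 ∨ Q a0 a3 a5 0 3 5 ∨ Q a0 a4 a5 0 4 5 ∨ Q a1 a2 a5 1 2 5 ∨ Q a1 a3 a5 1 3 5 ∨ Q a1 a4 a5 1 4 5 ∨ Q a2 a3 a5 2 3 5 ∨ Q a2 a4 a5 2 4 5 ∨ Q a3 a4 a5 3 4 5) ∨
    ∀ a6 : Fin 8, a6 ≠ a0 → a6 ≠ a1 → a6 ≠ a2 → a6 ≠ a3 → a6 ≠ a4 → a6 ≠ a5 →
    (Q a0 a1 a6 0 1 6 ∨ Q a0 a2 a6 0 2 6 ∨ Q a0 a3 a6 0 3 6 ∨ Q a0 a4 a6 0 4 6 ∨ Q a0 a5 a6 0 5 6 ∨ Q a1 a2 a6 1 2 6 ∨ Q a1 a3 a6 1 3 6 ∨ Q a1 a4 a6 1 4 6 ∨ Q a1 a5 a6 1 5 6 ∨ Q a2 a3 a6 2 3 6 ∨ Q a2 a4 a6 2 4 6 ∨ Q a2 a5 a6 2 5 6 ∨ Q a3 a4 a6 3 4 6 ∨ Q a3 a5 a6 3 5 6 ∨ Q a4 a5 a6 4 5 6) ∨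
    ∀ a7 : Fin 8, a7 ≠ a0 → a7 ≠ a1 → a7 ≠ a2 → a7 ≠ a3 → a7 ≠ a4 → a7 ≠ a5 → a7 ≠ a6 →
    (Q a0 a1 a7 0 1 7 ∨ Q a0 a2 a7 0 2 7 ∨ Q a0 a3 a7 0 3 7 ∨ Q a0 a4 a7 0 4 7 ∨ Q a0 a5 a7 0 5 7 ∨ Q a0 a6 a7 0 6 7 ∨ Q a1 a2 a7 1 2 7 ∨ Q a1 a3 a7 1 3 7 ∨ Q a1 a4 a7 1 4 7 ∨ Q a1 a5 a7 1 5 7 ∨ Q a1 a6 a7 1 6 7 ∨ Q a2 a3 a7 2 3 7 ∨ Q a2 a4 a7 2 4 7 ∨ Q a2 a5 a7 2 5 7 ∨ Q a2 a6 a7 2 6 7 ∨ Q a3 a4 a7 3 4 7 ∨ Q a3 a5 a7 3 5 7 ∨ Q a3 a6 a7 3 6 7 ∨ Q a4 a5 a7 4 5 7 ∨ Q a4 a6 a7 4 6 7 ∨ Q a5 a6 a7 5 6 7) := by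
  decide +kernel

theorem exists_triple (c : Equiv.Perm (Fin 8)) :
    ∃ x y z : Fin 8, x < y ∧ y < z ∧ Q (c x) (c y) (c z) x y z := by
  have hne : ∀ i j : Fin 8, i ≠ j → c i ≠ c j := fun i j h h' => h (c.injective h')
  have h3 := comb (c 0) (c 1) (hne 1 0 (by decide)) (c 2) (hne 2 0 (by decide)) (hne 2 1 (by decide))
  rcases h3 with h | h3
  · exact ⟨0, 1, 2, by decide, by decide, h⟩
  have h4 := h3 (c 3) (hne 3 0 (by decide)) (hne 3 1 (by decide)) (hne 3 2 (by decide))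
  rcases h4 with (h | h | h) | h4
  · exact ⟨0, 1, 3, by decide, by decide, h⟩
  · exact ⟨0, 2, 3, by decide, by decide, h⟩
  · exact ⟨1, 2, 3, by decide, by decide, h⟩
  have h5 := h4 (c 4) (hne 4 0 (by decide)) (hne 4 1 (by decide)) (hne 4 2 (by decide)) (hne 4 3 (by decide))
  rcases h5 with (h | h | h | h | h | h) | h5
  · exact ⟨0, 1, 4, by decide, by decide, h⟩
  · exact ⟨0, 2, 4, by decide, by decide, h⟩
  · exact ⟨0, 3, 4, by decide, by decide, h⟩
  · exact ⟨1, 2, 4, by decide, by decide, h⟩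
  · exact ⟨1, 3, 4, by decide, by decide, h⟩
  · exact ⟨2, 3, 4, by decide, by decide, h⟩
  have h6 := h5 (c 5) (hne 5 0 (by decide)) (hne 5 1 (by decide)) (hne 5 2 (by decide)) (hne 5 3 (by decide)) (hne 5 4 (by decide))
  rcases h6 with (h | h | h | h | h | h | h | h | h | h) | h6
  · exact ⟨0, 1, 5, by decide, by decide, h⟩
  · exact ⟨0, 2, 5, by decide, by decide, h⟩
  · exact ⟨0, 3, 5, by decide, by decide, h⟩
  · exact ⟨0, 4, 5, by decide, by decide, h⟩
  · exact ⟨1, 2, 5, by decide, by decide, h⟩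
  · exact ⟨1, 3, 5, by decide, by decide, h⟩
  · exact ⟨1, 4, 5, by decide, by decide, h⟩
  · exact ⟨2, 3, 5, by decide, by decide, h⟩
  · exact ⟨2, 4, 5, by decide, by decide, h⟩
  · exact ⟨3, 4, 5, by decide, by decide, h⟩
  have h7 := h6 (c 6) (hne 6 0 (by decide)) (hne 6 1 (by decide)) (hne 6 2 (by decide)) (hne 6 3 (by decide)) (hne 6 4 (by decide)) (hne 6 5 (by decide))
  rcases h7 with (h | h | h | h | h | h | h | h | h | h | h | h | h | h | h) | h7
  · exact ⟨0, 1, 6, by decide, by decide, h⟩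
  · exact ⟨0, 2, 6, by decide, by decide, h⟩
  · exact ⟨0, 3, 6, by decide, by decide, h⟩
  · exact ⟨0, 4, 6, by decide, by decide, h⟩
  · exact ⟨0, 5, 6, by decide, by decide, h⟩
  · exact ⟨1, 2, 6, by decide, by decide, h⟩
  · exact ⟨1, 3, 6, by decide, by decide, h⟩
  · exact ⟨1, 4, 6, by decide, by decide, h⟩
  · exact ⟨1, 5, 6, by decide, by decide, h⟩
  · exact ⟨2, 3, 6, by decide, by decide, h⟩
  · exact ⟨2, 4, 6, by decide, by decide, h⟩
  · exact ⟨2, 5, 6, by decide, by decide, h⟩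
  · exact ⟨3, 4, 6, by decide, by decide, h⟩
  · exact ⟨3, 5, 6, by decide, by decide, h⟩
  · exact ⟨4, 5, 6, by decide, by decide, h⟩
  have h8 := h7 (c 7) (hne 7 0 (by decide)) (hne 7 1 (by decide)) (hne 7 2 (by decide)) (hne 7 3 (by decide)) (hne 7 4 (by decide)) (hne 7 5 (by decide)) (hne 7 6 (by decide))
  rcases h8 with (h | h | h | h | h | h | h | h | h | h | h | h | h | h | h | h | h | h | h | h | h)
  · exact ⟨0, 1, 7, by decide, by decide, h⟩
  · exact ⟨0, 2, 7, by decide, by decide, h⟩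
  · exact ⟨0, 3, 7, by decide, by decide, h⟩
  · exact ⟨0, 4, 7, by decide, by decide, h⟩
  · exact ⟨0, 5, 7, by decide, by decide, h⟩
  · exact ⟨0, 6, 7, by decide, by decide, h⟩
  · exact ⟨1, 2, 7, by decide, by decide, h⟩
  · exact ⟨1, 3, 7, by decide, by decide, h⟩
  · exact ⟨1, 4, 7, by decide, by decide, h⟩
  · exact ⟨1, 5, 7, by decide, by decide, h⟩
  · exact ⟨1, 6, 7, by decide, by decide, h⟩
  · exact ⟨2, 3, 7, by decide, by decide, h⟩
  · exact ⟨2, 4, 7, by decide, by decide, h⟩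
  · exact ⟨2, 5, 7, by decide, by decide, h⟩
  · exact ⟨2, 6, 7, by decide, by decide, h⟩
  · exact ⟨3, 4, 7, by decide, by decide, h⟩
  · exact ⟨3, 5, 7, by decide, by decide, h⟩
  · exact ⟨3, 6, 7, by decide, by decide, h⟩
  · exact ⟨4, 5, 7, by decide, by decide, h⟩
  · exact ⟨4, 6, 7, by decide, by decide, h⟩
  · exact ⟨5, 6, 7, by decide, by decide, h⟩

/-- In the symmetric group of degree 8, let A be the subgroup generated by a 3-cycle. Then every conjugacy class contains an element g for which A is subnormal in the subgroup generated by A and its conjugate by g, although O_3 of the symmetric group of degree 8 is trivial. -/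
theorem result
    (σ : Equiv.Perm (Fin 8)) (hσ : σ.IsThreeCycle) :
    (∀ c : Equiv.Perm (Fin 8), ∃ g : Equiv.Perm (Fin 8), IsConj c g ∧
      ((Subgroup.zpowers σ).subgroupOf (Subgroup.zpowers σ ⊔ MulAut.conj g • Subgroup.zpowers σ)).IsSubnormal) ∧
    Cfsg.pCore 3 (Equiv.Perm (Fin 8)) = ⊥ := by
  classical
  constructor
  · intro c
    obtain ⟨x, y, z, hxy, hyz, hQ⟩ := exists_triple c
    have hxz : x < z := hxy.trans hyz
    have hTcard : ({x, y, z} : Finset (Fin 8)).card = 3 := by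
      rw [Finset.card_insert_of_notMem, Finset.card_insert_of_notMem, Finset.card_singleton]
      · simp [hyz.ne]
      · simp [hxy.ne, hxz.ne]
    have hScard : σ.support.card = 3 := hσ.card_support
    obtain ⟨h, hmem⟩ : ∃ h : Equiv.Perm (Fin 8), ∀ a, a ∈ ({x, y, z} : Finset (Fin 8)) ↔
        h a ∈ σ.support := by
      let e : {a // a ∈ ({x, y, z} : Finset (Fin 8))} ≃ {a // a ∈ σ.support} :=
        Finset.equivOfCardEq (hTcard.trans hScard.symm)
      refine ⟨e.extendSubtype, fun a => ⟨fun ha => e.extendSubtype_mem a ha, fun ha => ?_⟩⟩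
      by_contra hn
      exact e.extendSubtype_not_mem a hn ha
    refine ⟨h * c * h⁻¹, isConj_iff.2 ⟨h, rfl⟩, ?_⟩
    have hconj : MulAut.conj (h * c * h⁻¹) • Subgroup.zpowers σ =
        Subgroup.zpowers ((h * c * h⁻¹) * σ * (h * c * h⁻¹)⁻¹) := by
      show Subgroup.map (MulAut.conj (h * c * h⁻¹)).toMonoidHom (Subgroup.zpowers σ) = _
      rw [MonoidHom.map_zpowers]
      rfl
    rw [hconj]
    set g := h * c * h⁻¹ with hg
    set τ := g * σ * g⁻¹ with hτ
    have hdich : (∀ a ∈ σ.support, g a ∈ σ.support) ∨ (∀ a ∈ σ.support, g a ∉ σ.support) := by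
      rcases hQ with ⟨hx, hy, hz⟩ | ⟨hx, hy, hz⟩
      · left
        intro a ha
        have h1 : h⁻¹ a ∈ ({x, y, z} : Finset (Fin 8)) := by rw [hmem]; simpa using ha
        have hca : c (h⁻¹ a) ∈ ({x, y, z} : Finset (Fin 8)) := by
          simp only [Finset.mem_insert, Finset.mem_singleton] at h1 ⊢
          rcases h1 with h1 | h1 | h1 <;> rw [h1] <;> assumption
        show h (c (h⁻¹ a)) ∈ σ.support
        rwa [← hmem]
      · right
        intro a ha
        have h1 : h⁻¹ a ∈ ({x, y, z} : Finset (Fin 8)) := by rw [hmem]; simpa using ha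
        have hca : c (h⁻¹ a) ∉ ({x, y, z} : Finset (Fin 8)) := by
          simp only [Finset.mem_insert, Finset.mem_singleton, not_or] at h1 ⊢
          rcases h1 with h1 | h1 | h1 <;> rw [h1] <;> assumption
        show h (c (h⁻¹ a)) ∉ σ.support
        rwa [← hmem]
    have hσfix : ∀ a, a ∉ σ.support → σ a = a := fun a ha => Equiv.Perm.notMem_support.1 ha
    have hle : Subgroup.zpowers σ ≤ Subgroup.zpowers σ ⊔ Subgroup.zpowers τ := le_sup_left
    rcases hdich with hin | hout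
    · -- case 1: g preserves the support
      have hτfix : ∀ a, a ∉ σ.support → τ a = a := by
        intro a ha
        have h1 : g⁻¹ a ∉ σ.support := by
          intro h2
          apply ha
          have := hin _ h2
          simpa using this
        show g (σ (g⁻¹ a)) = a
        rw [hσfix _ h1]
        simp
      -- the subgroup of permutations fixing the complement of the support
      have hncard : ((σ.support : Set (Fin 8))ᶜ).ncard = 5 := by
        rw [Set.ncard_compl, Set.ncard_coe_finset, hScard, Nat.card_fin]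
      have hidx := (Equiv.Perm.isMultiplyPretransitive (Fin 8) 5).index_of_fixingSubgroup_mul hncard
      rw [Nat.card_fin] at hidx
      have hKcard : Nat.card (fixingSubgroup (Equiv.Perm (Fin 8)) ((σ.support : Set (Fin 8))ᶜ)) = 6 := by
        have h1 := Subgroup.card_mul_index
          (fixingSubgroup (Equiv.Perm (Fin 8)) ((σ.support : Set (Fin 8))ᶜ))
        have h2 : Nat.card (Equiv.Perm (Fin 8)) = Nat.factorial 8 := by
          rw [Nat.card_eq_fintype_card, Fintype.card_perm, Fintype.card_fin]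
        rw [h2] at h1
        have h3 : Nat.factorial 8 = 40320 := by decide
        have h4 : Nat.factorial (8 - 5) = 6 := by decide
        rw [h3] at h1 hidx
        rw [h4] at hidx
        have h5 : (fixingSubgroup (Equiv.Perm (Fin 8)) ((σ.support : Set (Fin 8))ᶜ)).index = 6720 := by
          omega
        rw [h5] at h1
        omega
      have hJK : Subgroup.zpowers σ ⊔ Subgroup.zpowers τ ≤
          fixingSubgroup (Equiv.Perm (Fin 8)) ((σ.support : Set (Fin 8))ᶜ) := by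
        apply sup_le
        · rw [Subgroup.zpowers_le, mem_fixingSubgroup_iff]
          intro a ha
          exact hσfix a (by simpa using ha)
        · rw [Subgroup.zpowers_le, mem_fixingSubgroup_iff]
          intro a ha
          exact hτfix a (by simpa using ha)
      have hJdvd : Nat.card (Subgroup.zpowers σ ⊔ Subgroup.zpowers τ : Subgroup _) ∣ 6 := by
        rw [← hKcard]; exact Subgroup.card_dvd_of_le hJK
      have hAcard : Nat.card (Subgroup.zpowers σ) = 3 := by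
        rw [Nat.card_zpowers, hσ.orderOf]
      have hrel := Cfsg.Agent.Lib.Helper22.card_mul_relIndex_of_le hle
      rw [hAcard] at hrel
      have hindex : ((Subgroup.zpowers σ).subgroupOf (Subgroup.zpowers σ ⊔ Subgroup.zpowers τ)).index = 1 ∨
          ((Subgroup.zpowers σ).subgroupOf (Subgroup.zpowers σ ⊔ Subgroup.zpowers τ)).index = 2 := by
        have h1 : (Subgroup.zpowers σ).relIndex (Subgroup.zpowers σ ⊔ Subgroup.zpowers τ) ∣ 2 := by
          have : 3 * (Subgroup.zpowers σ).relIndex (Subgroup.zpowers σ ⊔ Subgroup.zpowers τ) ∣ 3 * 2 := by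
            rw [hrel]; exact hJdvd
          exact Nat.dvd_of_mul_dvd_mul_left (by norm_num) this
        have h2 := Nat.le_of_dvd (by norm_num) h1
        have h3 : (Subgroup.zpowers σ).relIndex (Subgroup.zpowers σ ⊔ Subgroup.zpowers τ) ≠ 0 := by
          intro h0; rw [h0] at h1; norm_num at h1
        show (Subgroup.zpowers σ).relIndex _ = 1 ∨ (Subgroup.zpowers σ).relIndex _ = 2
        omega
      rcases hindex with h1 | h2
      · rw [Subgroup.index_eq_one] at h1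
        rw [h1]
        exact (inferInstance : (⊤ : Subgroup _).Normal).isSubnormal
      · exact (Subgroup.normal_of_index_eq_two h2).isSubnormal
    · -- case 2: g moves the support off itself
      have hdisj : Equiv.Perm.Disjoint σ τ := by
        intro a
        by_cases ha : a ∈ σ.support
        · right
          have h1 : g⁻¹ a ∉ σ.support := by
            intro h2
            have := hout _ h2
            apply this
            simpa using ha
          show g (σ (g⁻¹ a)) = a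
          rw [hσfix _ h1]
          simp
        · left
          exact hσfix a ha
      have hcomm : Commute σ τ := hdisj.commute
      have hcent : Subgroup.zpowers σ ⊔ Subgroup.zpowers τ ≤
          Subgroup.centralizer ((Subgroup.zpowers σ : Subgroup _) : Set (Equiv.Perm (Fin 8))) := by
        apply sup_le
        · rw [Subgroup.zpowers_le, Subgroup.mem_centralizer_iff]
          intro n hn
          obtain ⟨i, rfl⟩ := Subgroup.mem_zpowers_iff.1 hn
          exact ((Commute.refl σ).zpow_left i).eq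
        · rw [Subgroup.zpowers_le, Subgroup.mem_centralizer_iff]
          intro n hn
          obtain ⟨i, rfl⟩ := Subgroup.mem_zpowers_iff.1 hn
          exact (hcomm.zpow_left i).eq
      have hnorm : ((Subgroup.zpowers σ).subgroupOf (Subgroup.zpowers σ ⊔ Subgroup.zpowers τ)).Normal := by
        refine ⟨fun n hn j => ?_⟩
        rw [Subgroup.mem_subgroupOf] at hn ⊢
        have h1 := Subgroup.mem_centralizer_iff.1 (hcent j.2) _ hn
        have h2 : ((j * n * j⁻¹ : _) : Equiv.Perm (Fin 8)) = (j : Equiv.Perm (Fin 8)) * n * (j : Equiv.Perm (Fin 8))⁻¹ := by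
          simp
        rw [h2, ← h1]
        simpa using hn
      exact hnorm.isSubnormal
  · haveI : Fact (Nat.Prime 3) := ⟨by norm_num⟩
    unfold Cfsg.pCore
    rw [sSup_eq_bot]
    rintro N ⟨hNn, hNp⟩
    by_contra hNbot
    have := hNn
    have hfix : MulAction.fixedPoints N (Fin 8) ≠ Set.univ := by
      intro hfp
      apply hNbot
      rw [Subgroup.eq_bot_iff_forall]
      intro n hn
      ext y
      have hy : y ∈ MulAction.fixedPoints N (Fin 8) := by rw [hfp]; trivial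
      have := hy ⟨n, hn⟩
      have h2 : n y = y := this
      rw [h2]; rfl
    have htr : MulAction.IsPretransitive N (Fin 8) :=
      MulAction.IsQuasiPreprimitive.isPretransitive_of_normal hfix
    have hidx : (MulAction.stabilizer N (0 : Fin 8)).index = Nat.card (Fin 8) :=
      MulAction.index_stabilizer_of_transitive N (0 : Fin 8)
    have hdvd : 8 ∣ Nat.card N := by
      have := (MulAction.stabilizer N (0 : Fin 8)).index_dvd_card
      rw [hidx, Nat.card_fin] at this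
      exact this
    obtain ⟨k, hk⟩ := IsPGroup.iff_card.1 hNp
    rw [hk] at hdvd
    have h2 : 2 ∣ 3 ^ k := dvd_trans (by norm_num) hdvd
    have h3 := Nat.Prime.dvd_of_dvd_pow Nat.prime_two h2
    omega

end Cfsg.Agent.S4332
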