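import Cfsg.Statements.S4333
import Mathlib
import Cfsg.Agent.Lib.Helper1.Zipper
-- import your own Cfsg.Agent.* helpers here

set_option autoImplicit false
open Pointwise
open Cfsg

namespace Cfsg.Agent.S4333

open Subgroup Cfsg.Agent.Lib.Helper1 in
open scoped Pointwise in
theorem isMaxIn_conj {G : Type*} [Group G] {M K : Subgroup G} (hM : IsMaxIn M K) {x : G}
    (hx : x ∈ K) : IsMaxIn (MulAut.conj x • M) K := by
  have hKx : MulAut.conj x • K = K := conj_smul_eq_self_of_mem hx
  have hKx' : (MulAut.conj x)⁻¹ • K = K := by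
    rw [← map_inv]; exact conj_smul_eq_self_of_mem (K.inv_mem hx)
  refine ⟨conj_smul_le_of_mem hM.1 hx, ?_, ?_⟩
  · intro he
    apply hM.2.1
    have := congrArg (fun L : Subgroup G => (MulAut.conj x)⁻¹ • L) he
    simp only [inv_smul_smul] at this
    rw [this, hKx']
  · intro L hML hLK
    have h1 : M ≤ (MulAut.conj x)⁻¹ • L := pointwise_smul_subset_iff.mp hML
    have h2 : (MulAut.conj x)⁻¹ • L ≤ K := by
      rw [← hKx']
      exact pointwise_smul_le_pointwise_smul_iff.mpr hLK
    rcases hM.2.2 _ h1 h2 with h | h
    · left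
      have := congrArg (fun L : Subgroup G => MulAut.conj x • L) h
      simp only [smul_inv_smul] at this
      exact this
    · right
      have := congrArg (fun L : Subgroup G => MulAut.conj x • L) h
      simp only [smul_inv_smul] at this
      rw [this, hKx]

open Subgroup Cfsg.Agent.Lib.Helper1 in
open scoped Pointwise in
/-- Relative form of the sharpened Wielandt criterion. -/
theorem wielandt_rel_sharp {G : Type*} [Group G] [Finite G] (A : Subgroup G) :
    ∀ (n : ℕ) (K : Subgroup G), Nat.card K = n → A ≤ K →
      (∀ a ∈ A, ∀ g ∈ K, SubIn A (A ⊔ MulAut.conj (g⁻¹ * a * g) • A)) → SubIn A K := by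
  intro n
  induction n using Nat.strong_induction_on with
  | _ n ih =>
    intro K hn hAK hyp
    have hyp_i : ∀ H : Subgroup G, A ≤ H → H ≤ K → H ≠ K → SubIn A H := by
      intro H hAH hHK hHne
      have hcard : Nat.card H < n := by
        rw [← hn]
        exact card_lt_card_of_le_of_ne hHK hHne
      exact ih _ hcard H rfl hAH (fun a ha g hg => hyp a ha g (hHK hg))
    by_contra hns
    have hne : A ≠ K := by
      intro he
      apply hns
      rw [← he]
      exact SubIn.refl A
    obtain ⟨M, hM, hAM⟩ := exists_isMaxIn hAK hne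
    -- `M` is not normal in `K`
    have hMnn : ¬ K ≤ normalizer (M : Set G) := by
      intro hKM
      exact hns ((hyp_i M hAM hM.1 hM.2.1).trans (SubIn.of_le_normalizer hM.1 hKM))
    have hmem : ∀ a ∈ A, ∀ g ∈ K, g⁻¹ * a * g ∈ M := by
      intro a ha g hg
      obtain ⟨x, hx⟩ : ∃ x, x = g⁻¹ * a * g := ⟨_, rfl⟩
      rw [← hx]
      have hxK : x ∈ K := by
        rw [hx]; exact K.mul_mem (K.mul_mem (K.inv_mem hg) (hAK ha)) hg
      have hconj : MulAut.conj x • A ≤ M := by
        have hJK : A ⊔ MulAut.conj x • A ≤ K := sup_le hAK (conj_smul_le_of_mem hAK hxK)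
        have hJne : A ⊔ MulAut.conj x • A ≠ K := by
          intro he
          apply hns
          have := hyp a ha g hg
          rw [← hx] at this
          rwa [he] at this
        obtain ⟨Mx, hMx, hJMx⟩ := exists_isMaxIn hJK hJne
        have := zipper K _ A rfl hAK hyp_i hns Mx M hMx hM (le_sup_left.trans hJMx) hAM
        rw [← this]
        exact le_sup_right.trans hJMx
      -- `A ≤ x⁻¹ M x`, a maximal subgroup of `K`
      have hA' : A ≤ MulAut.conj x⁻¹ • M := by
        rw [map_inv]
        exact pointwise_smul_subset_iff.mp hconj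
      have hM' : IsMaxIn (MulAut.conj x⁻¹ • M) K := isMaxIn_conj hM (K.inv_mem hxK)
      have heq := zipper K _ A rfl hAK hyp_i hns _ M hM' hM hA' hAM
      have hxN : x⁻¹ ∈ normalizer (M : Set G) := mem_normalizer_iff_map_conj_eq.mpr heq
      -- `N_K(M) = M`
      have hN1 : M ≤ K ⊓ normalizer (M : Set G) := le_inf hM.1 le_normalizer
      rcases hM.2.2 _ hN1 inf_le_left with h | h
      · have : x⁻¹ ∈ K ⊓ normalizer (M : Set G) := mem_inf.mpr ⟨K.inv_mem hxK, hxN⟩
        rw [h] at this
        have := M.inv_mem this
        rwa [inv_inv] at this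
      · exfalso
        apply hMnn
        rw [← h]
        exact inf_le_right
    -- the normal closure of `A` in `K`
    obtain ⟨C, hC⟩ : ∃ C : Subgroup G,
        C = Subgroup.closure {y | ∃ x ∈ K, ∃ a ∈ A, y = x * a * x⁻¹} := ⟨_, rfl⟩
    have hAC : A ≤ C := by
      intro a ha
      rw [hC]
      apply Subgroup.subset_closure
      exact ⟨1, K.one_mem, a, ha, by group⟩
    have hCM : C ≤ M := by
      rw [hC, Subgroup.closure_le]
      rintro y ⟨x, hx, a, ha, rfl⟩
      have := hmem a ha x⁻¹ (K.inv_mem hx)
      rwa [inv_inv] at this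
    have hKC : K ≤ normalizer (C : Set G) := by
      intro k hk
      apply mem_normalizer_of_forall_conj_mem
      intro y hy
      rw [hC] at hy ⊢
      induction hy using Subgroup.closure_induction with
      | mem y hy =>
        obtain ⟨x, hx, a, ha, rfl⟩ := hy
        apply Subgroup.subset_closure
        exact ⟨k * x, K.mul_mem hk hx, a, ha, by group⟩
      | one => simp
      | mul y z _ _ hy hz =>
        have : k * (y * z) * k⁻¹ = (k * y * k⁻¹) * (k * z * k⁻¹) := by group
        rw [this]
        exact Subgroup.mul_mem _ hy hz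
      | inv y _ hy =>
        have : k * y⁻¹ * k⁻¹ = (k * y * k⁻¹)⁻¹ := by group
        rw [this]
        exact Subgroup.inv_mem _ hy
    have hCK : C ≤ K := hCM.trans hM.1
    have hCne : C ≠ K := by
      intro he
      apply hM.2.1
      exact le_antisymm hM.1 (he ▸ hCM)
    exact hns ((hyp_i C hAC hCK hCne).trans (SubIn.of_le_normalizer hCK hKC))


/-- Let A be a subgroup of a finite group G. If A is subnormal in the subgroup generated by A and its conjugate by g⁻¹ a g, for every a ∈ A and every g ∈ G, then A is subnormal in G. (A sharpening of Wielandt's subnormality criterion: only conjugates of A by conjugates of elements of A are needed.) -/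
theorem result {G : Type*} [Group G] [Finite G]
    (A : Subgroup G)
    (h : ∀ a ∈ A, ∀ g : G, (A.subgroupOf (A ⊔ MulAut.conj (g⁻¹ * a * g) • A)).IsSubnormal) :
    A.IsSubnormal := by
  exact (wielandt_rel_sharp A _ ⊤ rfl le_top
    (fun a ha g _ => ⟨le_sup_left, h a ha g⟩)).isSubnormal

end Cfsg.Agent.S4333
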