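import Cfsg.Statements.S4334
import Cfsg.Agent.Lib.Helper29.Wielandt
import Cfsg.Agent.Lib.Helper29.PrimePowerElement
import Cfsg.Agent.Lib.Helper29.TIHall

set_option autoImplicit false
open Cfsg

namespace Cfsg.Agent.S4334

open Subgroup Cfsg.Agent.Lib.Helper29

section

variable {G : Type*} [Group G] [Finite G] (Hs Ht : Subgroup G)
  (hcomm : ∀ a ∈ Hs, ∀ b ∈ Ht, a * b = b * a)

include hcomm in
omit [Finite G] in
/-- elements of `Hs ⊔ Ht` are products -/
theorem exists_mul_of_mem_sup (h : G) (hh : h ∈ Hs ⊔ Ht) : ∃ s ∈ Hs, ∃ t ∈ Ht, h = s * t := by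
  rw [Subgroup.sup_eq_closure] at hh
  induction hh using Subgroup.closure_induction with
  | mem x hx =>
    rcases hx with hx | hx
    · exact ⟨x, hx, 1, Ht.one_mem, by simp⟩
    · exact ⟨1, Hs.one_mem, x, hx, by simp⟩
  | one => exact ⟨1, Hs.one_mem, 1, Ht.one_mem, by simp⟩
  | mul x y _ _ hx hy =>
    obtain ⟨s, hs, t, ht, rfl⟩ := hx
    obtain ⟨s', hs', t', ht', rfl⟩ := hy
    refine ⟨s * s', Hs.mul_mem hs hs', t * t', Ht.mul_mem ht ht', ?_⟩
    have := hcomm s' hs' t ht
    calc s * t * (s' * t') = s * (t * s') * t' := by group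
      _ = s * (s' * t) * t' := by rw [this]
      _ = s * s' * (t * t') := by group
  | inv x _ hx =>
    obtain ⟨s, hs, t, ht, rfl⟩ := hx
    refine ⟨s⁻¹, Hs.inv_mem hs, t⁻¹, Ht.inv_mem ht, ?_⟩
    have := hcomm s⁻¹ (Hs.inv_mem hs) t⁻¹ (Ht.inv_mem ht)
    rw [mul_inv_rev, this]

omit [Finite G] in
/-- coprime orders give trivial intersection -/
theorem inf_eq_bot_of_coprime_card (A B : Subgroup G)
    (h : ∀ r : ℕ, r.Prime → r ∣ Nat.card A → ¬ r ∣ Nat.card B) : A ⊓ B = ⊥ := by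
  rw [eq_bot_iff]
  intro x hx
  rw [Subgroup.mem_bot, ← orderOf_eq_one_iff]
  by_contra hne
  obtain ⟨r, hr, hrd⟩ := Nat.exists_prime_and_dvd hne
  exact h r hr (hrd.trans (Subgroup.orderOf_dvd_natCard A hx.1))
    (hrd.trans (Subgroup.orderOf_dvd_natCard B hx.2))

include hcomm in
omit [Finite G] in
/-- an `r`-element of `Hs ⊔ Ht`, `r ∤ |Ht|`, lies in `Hs` -/
theorem mem_left_of_pow_eq_one (hdis : Hs ⊓ Ht = ⊥) (r : ℕ) (hr : r.Prime)
    (hrt : ¬ r ∣ Nat.card Ht) (h : G) (hh : h ∈ Hs ⊔ Ht) (k : ℕ) (hk : h ^ r ^ k = 1) : h ∈ Hs := by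
  obtain ⟨s, hs, t, ht, rfl⟩ := exists_mul_of_mem_sup Hs Ht hcomm h hh
  have hst : Commute s t := hcomm s hs t ht
  rw [hst.mul_pow] at hk
  have h1 : t ^ r ^ k = (s ^ r ^ k)⁻¹ := by
    rw [eq_inv_iff_mul_eq_one, ← hk]
    exact ((hst.pow_pow _ _).eq).symm
  have h2 : t ^ r ^ k ∈ Hs ⊓ Ht :=
    ⟨by rw [h1]; exact Hs.inv_mem (Hs.pow_mem hs _), Ht.pow_mem ht _⟩
  rw [hdis, Subgroup.mem_bot] at h2
  have h3 : orderOf t ∣ r ^ k := orderOf_dvd_of_pow_eq_one h2
  have h4 : orderOf t ∣ Nat.card Ht := Subgroup.orderOf_dvd_natCard Ht ht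
  have h5 : orderOf t = 1 := by
    refine Nat.eq_one_of_dvd_coprimes ?_ h3 h4
    exact Nat.Coprime.pow_left k ((Nat.Prime.coprime_iff_not_dvd hr).mpr hrt)
  rw [orderOf_eq_one_iff.mp h5, mul_one]
  exact hs

end

section main

variable {G : Type*} [Group G] [Finite G]
    (σ τ π : Set ℕ) (hπ : π = σ ∪ τ) (hd : Disjoint σ τ) (H Hs Ht : Subgroup G) (hH : Cfsg.IsPiHall π H)
    (hs : Cfsg.IsPiSubgroup σ Hs) (ht : Cfsg.IsPiSubgroup τ Ht) (hsn : Group.IsNilpotent Hs)
    (hjoin : Hs ⊔ Ht = H) (hcomm : ∀ a ∈ Hs, ∀ b ∈ Ht, a * b = b * a)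

include hd hs ht in
omit [Finite G] in
theorem hdis_aux : Hs ⊓ Ht = ⊥ := by
  apply inf_eq_bot_of_coprime_card
  intro r hr h1 h2
  exact (Set.disjoint_left.mp hd) (hs r hr h1) (ht r hr h2)

include hd hs ht hsn hjoin hcomm in
/-- **Claim A**: for `q ∈ σ`, `q`-elements of `H` commute with `q'`-elements of `H`. -/
theorem commute_of_mem (q : ℕ) [Fact q.Prime] (hqσ : q ∈ σ) (u v : G) (hu : u ∈ H) (hv : v ∈ H)
    (k : ℕ) (huk : u ^ q ^ k = 1) (hvq : (orderOf v).Coprime q) : u * v = v * u := by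
  have hq : q.Prime := Fact.out
  have hqt : ¬ q ∣ Nat.card Ht := fun h => (Set.disjoint_left.mp hd) hqσ (ht q hq h)
  have hdis := hdis_aux σ τ hd Hs Ht hs ht
  rw [← hjoin] at hu hv
  have huS : u ∈ Hs := mem_left_of_pow_eq_one Hs Ht hcomm hdis q hq hqt u hu k huk
  obtain ⟨s', hs', t', ht', hvdec⟩ := exists_mul_of_mem_sup Hs Ht hcomm v hv
  have hst : Commute s' t' := hcomm s' hs' t' ht'
  -- `s'` has order prime to `q`
  have hs'o : (orderOf s').Coprime q := by
    have h1 : s' ^ (orderOf v * orderOf t') = 1 := by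
      have e : s' = v * t'⁻¹ := by rw [hvdec]; group
      have hc : Commute v t'⁻¹ := by
        rw [hvdec]; exact (hst.mul_left (Commute.refl t')).inv_right
      rw [e, hc.mul_pow, pow_mul, pow_orderOf_eq_one, one_pow, one_mul, inv_pow, mul_comm (orderOf _),
        pow_mul, pow_orderOf_eq_one, one_pow, inv_one]
    have h2 : orderOf s' ∣ orderOf v * orderOf t' := orderOf_dvd_of_pow_eq_one h1
    have h3 : (orderOf t').Coprime q := by
      have h4 : orderOf t' ∣ Nat.card Ht := Subgroup.orderOf_dvd_natCard Ht ht'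
      exact Nat.Coprime.coprime_dvd_left h4 ((Nat.Prime.coprime_iff_not_dvd hq).mpr hqt).symm
    exact Nat.Coprime.coprime_dvd_left h2 (Nat.Coprime.mul_left hvq h3)
  -- commute inside the nilpotent group `Hs`
  have h5 : (⟨u, huS⟩ : Hs) * ⟨s', hs'⟩ = ⟨s', hs'⟩ * ⟨u, huS⟩ := by
    apply commute_of_isNilpotent_of_coprime (q := q) hsn _ _ k
    · exact Subtype.ext (by simpa using huk)
    · rw [← Subgroup.orderOf_coe]; exact hs'o
  have h6 : u * s' = s' * u := congrArg Subtype.val h5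
  have h7 : u * t' = t' * u := hcomm u huS t' ht'
  rw [hvdec]
  calc u * (s' * t') = (u * s') * t' := by group
    _ = (s' * u) * t' := by rw [h6]
    _ = s' * (u * t') := by group
    _ = s' * (t' * u) := by rw [h7]
    _ = s' * t' * u := by group

include hd hs ht hsn hjoin hcomm in
/-- `H` has a normal `q`-complement for `q ∈ σ`. -/
theorem frobCond_H (q : ℕ) [Fact q.Prime] (hqσ : q ∈ σ) : FrobCond q H := by
  intro Y hY g _ hcop
  rw [Subgroup.mem_centralizer_iff]
  intro y hy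
  obtain ⟨k, hk⟩ := hY ⟨y, hy⟩
  have hk' : (y : G) ^ q ^ k = 1 := by
    have := congrArg Subtype.val (congrArg Subtype.val hk)
    simpa using this
  have := commute_of_mem σ τ hd H Hs Ht hs ht hsn hjoin hcomm q hqσ (y : G) (g : G) y.2 g.2 k hk'
    (by rw [Subgroup.orderOf_coe]; exact hcop)
  exact Subtype.ext this

include hH in
omit [Finite G] in
theorem hall_coprime : (Nat.card H).Coprime H.index := by
  apply Nat.coprime_of_dvd
  intro r hr h1 h2
  exact hH.2 r hr (hH.1 r hr h1) h2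

include hπ hd hH hs ht hjoin hcomm in
/-- `Ht` is a Hall `τ`-subgroup of `G`. -/
theorem not_dvd_index_Ht (r : ℕ) (hr : r.Prime) (hrτ : r ∈ τ) : ¬ r ∣ Ht.index := by
  have hrπ : r ∈ π := by rw [hπ]; exact Or.inr hrτ
  have hHall := hall_coprime π H hH
  by_cases hrH : r ∣ Nat.card H
  · have : Fact r.Prime := ⟨hr⟩
    obtain ⟨SR⟩ : Nonempty (Sylow r H) := inferInstance
    have hidx := not_dvd_index_map_sylow_of_hall H hHall hrH SR
    have hle : (SR : Subgroup H).map H.subtype ≤ Ht := by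
      intro x hx
      obtain ⟨y, hy, rfl⟩ := Subgroup.mem_map.mp hx
      obtain ⟨k, hk⟩ := SR.2 ⟨y, hy⟩
      have hk' : (y : G) ^ r ^ k = 1 := by
        have := congrArg Subtype.val (congrArg Subtype.val hk)
        simpa using this
      have hrs : ¬ r ∣ Nat.card Hs := fun h => (Set.disjoint_left.mp hd) (hs r hr h) hrτ
      have hdis : Ht ⊓ Hs = ⊥ := by
        rw [inf_comm]; exact hdis_aux σ τ hd Hs Ht hs ht
      apply mem_left_of_pow_eq_one Ht Hs (fun a ha b hb => (hcomm b hb a ha).symm) hdis r hr hrs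
        _ _ k hk'
      rw [sup_comm, hjoin]; exact y.2
    intro h
    exact hidx (h.trans (Subgroup.index_dvd_of_le hle))
  · intro h
    apply hrH
    have h1 : r ∣ Nat.card G := h.trans (Subgroup.index_dvd_card Ht)
    rw [← Subgroup.card_mul_index H] at h1
    exact (hr.dvd_mul.mp h1).resolve_right (hH.2 r hr hrπ)

include hπ hd hH hs ht hjoin hcomm in
/-- `τ`-subgroups lie in conjugates of `Ht`. -/
theorem exists_conj_mem_Ht (hD : Cfsg.IsDPiGroup τ G) (K : Subgroup G)
    (hK : Cfsg.IsPiSubgroup τ K) : ∃ x : G, ∀ y ∈ K, x⁻¹ * y * x ∈ Ht := by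
  have hmaxHt : Maximal (Cfsg.IsPiSubgroup τ) Ht := by
    refine ⟨ht, fun M hM hle => ?_⟩
    have hcop : (Nat.card M).Coprime Ht.index := by
      apply Nat.coprime_of_dvd
      intro r hr h1 h2
      exact not_dvd_index_Ht σ τ π hπ hd H Hs Ht hH hs ht hjoin hcomm r hr (hM r hr h1) h2
    have hdvd : Nat.card M ∣ Nat.card Ht * Ht.index := by
      rw [Subgroup.card_mul_index]; exact Subgroup.card_subgroup_dvd_card M
    have h2 : Nat.card M ∣ Nat.card Ht := hcop.dvd_of_dvd_mul_right hdvd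
    have h3 : Nat.card M ≤ Nat.card Ht := Nat.le_of_dvd Nat.card_pos h2
    exact (Subgroup.eq_of_le_of_card_ge hle h3).ge
  obtain ⟨MK, hKM, hmaxMK⟩ := Finite.exists_le_maximal (p := Cfsg.IsPiSubgroup τ) hK
  obtain ⟨g, hg⟩ := hD Ht MK hmaxHt hmaxMK
  refine ⟨g, ?_⟩
  intro y hy
  have h1 : y ∈ Ht.map (MulAut.conj g).toMonoidHom := by rw [← hg]; exact hKM hy
  obtain ⟨z, hz, rfl⟩ := Subgroup.mem_map.mp h1
  have e : g⁻¹ * ((MulAut.conj g).toMonoidHom z) * g = z := by
    simp [MulAut.conj_apply, mul_assoc]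
  rw [e]; exact hz

include hπ hd hH hs ht hsn hjoin hcomm in
/-- every `π`-subgroup lies in a conjugate of `H` -/
theorem exists_conj_mem_H (hD : Cfsg.IsDPiGroup τ G) :
    ∀ (n : ℕ) (K : Subgroup G), Nat.card K = n → Cfsg.IsPiSubgroup π K →
      ∃ x : G, ∀ y ∈ K, x⁻¹ * y * x ∈ H := by
  intro n
  induction n using Nat.strong_induction_on with
  | _ n ih =>
  intro K hKn hK
  have hHall := hall_coprime π H hH
  have hHtH : Ht ≤ H := by rw [← hjoin]; exact le_sup_right
  by_cases hKτ : Cfsg.IsPiSubgroup τ K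
  · obtain ⟨x, hx⟩ := exists_conj_mem_Ht σ τ π hπ hd H Hs Ht hH hs ht hjoin hcomm hD K hKτ
    exact ⟨x, fun y hy => hHtH (hx y hy)⟩
  -- a prime `q ∈ σ` dividing `|K|`
  unfold Cfsg.IsPiSubgroup at hKτ
  push Not at hKτ
  obtain ⟨q, hq, hqK, hqτ⟩ := hKτ
  have hqπ : q ∈ π := hK q hq hqK
  have hqσ : q ∈ σ := by
    rw [hπ] at hqπ
    exact hqπ.resolve_right hqτ
  have : Fact q.Prime := ⟨hq⟩
  have hqH : q ∣ Nat.card H := by
    have h1 : q ∣ Nat.card G := hqK.trans (Subgroup.card_subgroup_dvd_card K)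
    rw [← Subgroup.card_mul_index H] at h1
    exact (hq.dvd_mul.mp h1).resolve_right (hH.2 q hq hqπ)
  have hcommA := commute_of_mem σ τ hd H Hs Ht hs ht hsn hjoin hcomm q hqσ
  -- a Sylow `q`-subgroup of `G` inside `H`
  obtain ⟨SH⟩ : Nonempty (Sylow q H) := inferInstance
  set H₁ : Subgroup G := (SH : Subgroup H).map H.subtype with hH₁
  have hH₁H : H₁ ≤ H := Subgroup.map_subtype_le _
  have hH₁p : IsPGroup q H₁ := SH.2.map _
  have hH₁idx : ¬ q ∣ H₁.index := not_dvd_index_map_sylow_of_hall H hHall hqH SH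
  set SG : Sylow q G := hH₁p.toSylow hH₁idx with hSG
  have hSGpow : ∀ t ∈ H₁, ∃ k : ℕ, t ^ q ^ k = 1 := by
    intro t ht'
    obtain ⟨k, hk⟩ := hH₁p ⟨t, ht'⟩
    exact ⟨k, by simpa using congrArg Subtype.val hk⟩
  -- the induction hypothesis for proper subgroups of `K`
  have ihK : ∀ M : Subgroup K, M ≠ ⊤ → ∃ x : G, ∀ y ∈ M.map K.subtype, x⁻¹ * y * x ∈ H := by
    intro M hM
    have hlt : Nat.card (M.map K.subtype) < n := by
      rw [Subgroup.card_map_of_injective K.subtype_injective, ← hKn]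
      exact lt_of_le_of_ne (Subgroup.card_le_card_group M)
        (fun h' => hM ((Subgroup.card_eq_iff_eq_top M).mp h'))
    have hdvd : Nat.card (M.map K.subtype) ∣ Nat.card K := by
      rw [Subgroup.card_map_of_injective K.subtype_injective]
      exact Subgroup.card_subgroup_dvd_card M
    exact ih _ hlt (M.map K.subtype) rfl (fun p hp hpd => hK p hp (hpd.trans hdvd))
  by_cases hF : FrobCond q K
  · ---------------- case B1: `K` has a normal `q`-complement
    obtain ⟨Q₁⟩ : Nonempty (Sylow q K) := inferInstance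
    obtain ⟨L, hLn, hcompl⟩ := hF.exists_normal_complement Q₁
    have hqL : ¬ q ∣ Nat.card L := by
      rw [← hcompl.index_eq_card]; exact Q₁.not_dvd_index
    have hLne : L ≠ ⊤ := by
      intro h
      apply hqL
      rw [h, Subgroup.card_top]; exact hqK
    set LG : Subgroup G := L.map K.subtype with hLG
    have hLGcard : Nat.card LG = Nat.card L := Subgroup.card_map_of_injective K.subtype_injective
    obtain ⟨x₁, hx₁⟩ := ihK L hLne
    -- elements of `x₁ H₁ x₁⁻¹` centralize `LG`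
    have hcent : ∀ t ∈ ((x₁ • SG : Sylow q G) : Subgroup G), ∀ y ∈ LG, t * y = y * t := by
      intro t ht' y hy
      have ht'' : x₁⁻¹ * t * x₁ ∈ H₁ := (mem_smul_sylow_iff x₁ t SG).mp ht'
      obtain ⟨k, hk⟩ := hSGpow _ ht''
      have hyH : x₁⁻¹ * y * x₁ ∈ H := hx₁ y hy
      have hyo : (orderOf (x₁⁻¹ * y * x₁)).Coprime q := by
        have h1 : orderOf (x₁⁻¹ * y * x₁) = orderOf y := by
          have := (MulAut.conj x₁⁻¹).orderOf_eq y
          rwa [MulAut.conj_apply, inv_inv] at this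
        rw [h1]
        have h2 : orderOf y ∣ Nat.card LG := Subgroup.orderOf_dvd_natCard LG hy
        rw [hLGcard] at h2
        exact Nat.Coprime.coprime_dvd_left h2
          ((Nat.Prime.coprime_iff_not_dvd hq).mpr hqL).symm
      have hc' := hcommA _ _ (hH₁H ht'') hyH k hk hyo
      have e1 : t * y = x₁ * ((x₁⁻¹ * t * x₁) * (x₁⁻¹ * y * x₁)) * x₁⁻¹ := by group
      have e2 : y * t = x₁ * ((x₁⁻¹ * y * x₁) * (x₁⁻¹ * t * x₁)) * x₁⁻¹ := by group
      rw [e1, e2, hc']
    have hTN : ((x₁ • SG : Sylow q G) : Subgroup G) ≤ normalizer (LG : Set G) := by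
      intro t ht'
      apply Subgroup.centralizer_le_normalizer
      rw [Subgroup.mem_centralizer_iff]
      intro y hy
      exact (hcent t ht' y hy).symm
    have hKN : K ≤ normalizer (LG : Set G) := by
      intro y hy
      apply Subgroup.mem_normalizer_fintype
      intro l hl
      obtain ⟨l', hl', rfl⟩ := Subgroup.mem_map.mp hl
      have := hLn.conj_mem l' hl' ⟨y, hy⟩
      exact Subgroup.mem_map.mpr ⟨_, this, by simp⟩
    set Q₁G : Subgroup G := (Q₁ : Subgroup K).map K.subtype with hQ₁G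
    have hQ₁K : Q₁G ≤ K := Subgroup.map_subtype_le _
    obtain ⟨m, hmN, hm⟩ := exists_conj_mem_sylow_of_le (normalizer (LG : Set G)) (x₁ • SG) hTN Q₁G
      (Q₁.2.map _) (hQ₁K.trans hKN)
    refine ⟨m * x₁, ?_⟩
    intro y hy
    obtain ⟨⟨⟨l, hl⟩, ⟨a, ha⟩⟩, hla⟩ := hcompl.2 ⟨y, hy⟩
    have hla' : (l : G) * (a : G) = y := by
      have := congrArg Subtype.val hla
      simpa using this
    have hlLG : (l : G) ∈ LG := Subgroup.mem_map_of_mem K.subtype hl
    have haQ : (a : G) ∈ Q₁G := Subgroup.mem_map_of_mem K.subtype ha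
    have h1 : (m * x₁)⁻¹ * (a : G) * (m * x₁) ∈ H := by
      have h2 := hm _ haQ
      have h3 : x₁⁻¹ * (m⁻¹ * (a : G) * m) * x₁ ∈ H₁ := (mem_smul_sylow_iff x₁ _ SG).mp h2
      have e : (m * x₁)⁻¹ * (a : G) * (m * x₁) = x₁⁻¹ * (m⁻¹ * (a : G) * m) * x₁ := by group
      rw [e]; exact hH₁H h3
    have h2 : (m * x₁)⁻¹ * (l : G) * (m * x₁) ∈ H := by
      have hm' : m⁻¹ ∈ normalizer (LG : Set G) := Subgroup.inv_mem _ hmN
      have h3 : m⁻¹ * (l : G) * m⁻¹⁻¹ ∈ LG := (Subgroup.mem_normalizer_iff.mp hm' _).mp hlLG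
      rw [inv_inv] at h3
      have h4 := hx₁ _ h3
      have e : (m * x₁)⁻¹ * (l : G) * (m * x₁) = x₁⁻¹ * (m⁻¹ * (l : G) * m) * x₁ := by group
      rw [e]; exact h4
    have e : (m * x₁)⁻¹ * y * (m * x₁)
        = ((m * x₁)⁻¹ * (l : G) * (m * x₁)) * ((m * x₁)⁻¹ * (a : G) * (m * x₁)) := by
      rw [← hla']; group
    rw [e]
    exact H.mul_mem h2 h1
  · ---------------- case B2: `K` is minimal non-`q`-nilpotent
    have hFH : FrobCond q H := frobCond_H σ τ hd H Hs Ht hs ht hsn hjoin hcomm q hqσ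
    have hmin : ∀ M : Subgroup K, M ≠ ⊤ → FrobCond q M := by
      intro M hM
      obtain ⟨x, hx⟩ := ihK M hM
      let f : M →* H := MonoidHom.codRestrict
        ((MulAut.conj x⁻¹).toMonoidHom.comp (K.subtype.comp M.subtype)) H (fun m => by
          have := hx _ (Subgroup.mem_map_of_mem K.subtype m.2)
          simpa using this)
      have hf : Function.Injective f := by
        intro a b hab
        have h1 := congrArg Subtype.val hab
        have h2 : x⁻¹ * ((a : K) : G) * x⁻¹⁻¹ = x⁻¹ * ((b : K) : G) * x⁻¹⁻¹ := h1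
        have h3 : ((a : K) : G) = ((b : K) : G) := by
          have := congrArg (fun t => x * t * x⁻¹) h2
          simpa [mul_assoc] using this
        exact Subtype.ext (Subtype.ext h3)
      exact FrobCond.of_injective f hf hFH
    obtain ⟨Q, g, hQn, hQ, hcop, hsup, hgc, r, k, hr, hgo⟩ :=
      exists_normal_pgroup_sup_zpowers_of_minimal' hF hmin
    have : Fact r.Prime := ⟨hr⟩
    have hk0 : k ≠ 0 := by
      intro h0
      rw [h0, pow_zero, orderOf_eq_one_iff] at hgo
      apply hgc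
      rw [hgo]; exact Subgroup.one_mem _
    have hrq : r ≠ q := by
      rintro rfl
      rw [hgo] at hcop
      have := Nat.Coprime.coprime_dvd_left (dvd_pow_self r hk0) hcop
      exact hr.ne_one ((Nat.coprime_self r).mp this)
    have hrK : r ∣ Nat.card K := by
      have h1 : r ∣ orderOf g := by rw [hgo]; exact dvd_pow_self r hk0
      exact h1.trans (orderOf_dvd_natCard g)
    have hrπ : r ∈ π := hK r hr hrK
    have hrH : r ∣ Nat.card H := by
      have h1 : r ∣ Nat.card G := hrK.trans (Subgroup.card_subgroup_dvd_card K)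
      rw [← Subgroup.card_mul_index H] at h1
      exact (hr.dvd_mul.mp h1).resolve_right (hH.2 r hr hrπ)
    -- the Sylow `r`-subgroup
    obtain ⟨SR⟩ : Nonempty (Sylow r H) := inferInstance
    set HR : Subgroup G := (SR : Subgroup H).map H.subtype with hHR
    have hHRH : HR ≤ H := Subgroup.map_subtype_le _
    have hHRp : IsPGroup r HR := SR.2.map _
    have hHRidx : ¬ r ∣ HR.index := not_dvd_index_map_sylow_of_hall H hHall hrH SR
    set SRG : Sylow r G := hHRp.toSylow hHRidx with hSRG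
    -- `Q` inside a conjugate of `H₁`
    set QG : Subgroup G := Q.map K.subtype with hQG
    obtain ⟨S', hS'⟩ := (hQ.map K.subtype).exists_le_sylow
    obtain ⟨a, ha⟩ := MulAction.exists_smul_eq G SG S'
    have hQa : ∀ u ∈ QG, a⁻¹ * u * a ∈ H₁ := by
      intro u hu
      have : u ∈ ((a • SG : Sylow q G) : Subgroup G) := by rw [ha]; exact hS' hu
      exact (mem_smul_sylow_iff a u SG).mp this
    -- `a • SRG` centralizes `QG`
    have hTN : ((a • SRG : Sylow r G) : Subgroup G) ≤ normalizer (QG : Set G) := by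
      intro t ht'
      apply Subgroup.centralizer_le_normalizer
      rw [Subgroup.mem_centralizer_iff]
      intro u hu
      have ht'' : a⁻¹ * t * a ∈ HR := (mem_smul_sylow_iff a t SRG).mp ht'
      have hu' := hQa u hu
      obtain ⟨j, hj⟩ := hSGpow _ hu'
      have hto : (orderOf (a⁻¹ * t * a)).Coprime q := by
        obtain ⟨i, hi⟩ := hHRp ⟨_, ht''⟩
        have hi' : (a⁻¹ * t * a) ^ r ^ i = 1 := by simpa using congrArg Subtype.val hi
        have h1 : orderOf (a⁻¹ * t * a) ∣ r ^ i := orderOf_dvd_of_pow_eq_one hi'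
        exact Nat.Coprime.coprime_dvd_left h1
          (Nat.Coprime.pow_left i ((Nat.coprime_primes hr hq).mpr hrq))
      have hc' := hcommA _ _ (hH₁H hu') (hHRH ht'') j hj hto
      have e1 : u * t = a * ((a⁻¹ * u * a) * (a⁻¹ * t * a)) * a⁻¹ := by group
      have e2 : t * u = a * ((a⁻¹ * t * a) * (a⁻¹ * u * a)) * a⁻¹ := by group
      rw [e1, e2, hc']
    -- `g` normalizes `QG`
    have hgN : zpowers (g : G) ≤ normalizer (QG : Set G) := by
      rw [Subgroup.zpowers_le]
      apply Subgroup.mem_normalizer_fintype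
      intro l hl
      obtain ⟨l', hl', rfl⟩ := Subgroup.mem_map.mp hl
      have := hQn.conj_mem l' hl' g
      exact Subgroup.mem_map.mpr ⟨_, this, by simp⟩
    have hgp : IsPGroup r (zpowers (g : G)) := by
      apply IsPGroup.of_card (n := k)
      rw [Nat.card_zpowers, Subgroup.orderOf_coe, hgo]
    obtain ⟨m, hmN, hm⟩ := exists_conj_mem_sylow_of_le (normalizer (QG : Set G)) (a • SRG) hTN
      (zpowers (g : G)) hgp hgN
    refine ⟨m * a, ?_⟩
    -- the subgroup of `K` conjugated into `H`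
    let W : Subgroup K := H.comap ((MulAut.conj (m * a)⁻¹).toMonoidHom.comp K.subtype)
    have hWmem : ∀ y : K, y ∈ W ↔ (m * a)⁻¹ * (y : G) * (m * a) ∈ H := by
      intro y
      show (MulAut.conj (m * a)⁻¹) (y : G) ∈ H ↔ _
      rw [MulAut.conj_apply, inv_inv]
    have hQW : Q ≤ W := by
      intro u hu
      rw [hWmem]
      have huG : (u : G) ∈ QG := Subgroup.mem_map_of_mem K.subtype hu
      have hm' : m⁻¹ ∈ normalizer (QG : Set G) := Subgroup.inv_mem _ hmN
      have h3 : m⁻¹ * (u : G) * m⁻¹⁻¹ ∈ QG := (Subgroup.mem_normalizer_iff.mp hm' _).mp huG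
      rw [inv_inv] at h3
      have h4 := hQa _ h3
      have e : (m * a)⁻¹ * (u : G) * (m * a) = a⁻¹ * (m⁻¹ * (u : G) * m) * a := by group
      rw [e]; exact hH₁H h4
    have hgW : zpowers g ≤ W := by
      rw [Subgroup.zpowers_le, hWmem]
      have h2 := hm _ (Subgroup.mem_zpowers (g : G))
      have h3 : a⁻¹ * (m⁻¹ * (g : G) * m) * a ∈ HR := (mem_smul_sylow_iff a _ SRG).mp h2
      have e : (m * a)⁻¹ * (g : G) * (m * a) = a⁻¹ * (m⁻¹ * (g : G) * m) * a := by group
      rw [e]; exact hHRH h3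
    have hWtop : W = ⊤ := by
      rw [eq_top_iff, ← hsup]; exact sup_le hQW hgW
    intro y hy
    have : (⟨y, hy⟩ : K) ∈ W := by rw [hWtop]; exact Subgroup.mem_top _
    exact (hWmem _).mp this

end main

/-- Let σ and τ be disjoint sets of primes with union π. Suppose a finite group G has a Hall π-subgroup H which is the direct product of a nilpotent σ-subgroup and a τ-subgroup (two elementwise-commuting subgroups generating H), and that the maximal τ-subgroups of G are pairwise conjugate. Then the maximal π-subgroups of G are pairwise conjugate. -/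
theorem result {G : Type*} [Group G] [Finite G]
    (σ τ π : Set ℕ) (hπ : π = σ ∪ τ) (hd : Disjoint σ τ) (H Hs Ht : Subgroup G) (hH : Cfsg.IsPiHall π H)
    (hs : Cfsg.IsPiSubgroup σ Hs) (ht : Cfsg.IsPiSubgroup τ Ht) (hsn : Group.IsNilpotent Hs)
    (hjoin : Hs ⊔ Ht = H) (hcomm : ∀ a ∈ Hs, ∀ b ∈ Ht, a * b = b * a) (hD : Cfsg.IsDPiGroup τ G) :
    Cfsg.IsDPiGroup π G := by
  have claim := exists_conj_mem_H σ τ π hπ hd H Hs Ht hH hs ht hsn hjoin hcomm hD
  have hconjπ : ∀ x : G, Cfsg.IsPiSubgroup π (H.map (MulAut.conj x).toMonoidHom) := by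
    intro x p hp hpd
    rw [Subgroup.card_map_of_injective (MulAut.conj x).injective] at hpd
    exact hH.1 p hp hpd
  have key : ∀ A : Subgroup G, Maximal (Cfsg.IsPiSubgroup π) A →
      ∃ x : G, A = H.map (MulAut.conj x).toMonoidHom := by
    intro A hA
    obtain ⟨x, hx⟩ := claim _ A rfl hA.prop
    refine ⟨x, ?_⟩
    have hle : A ≤ H.map (MulAut.conj x).toMonoidHom := by
      intro y hy
      refine Subgroup.mem_map.mpr ⟨x⁻¹ * y * x, hx y hy, ?_⟩
      simp [MulAut.conj_apply, mul_assoc]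
    exact le_antisymm hle (hA.2 (hconjπ x) hle)
  intro A B hA hB
  obtain ⟨x, rfl⟩ := key A hA
  obtain ⟨x', rfl⟩ := key B hB
  refine ⟨x' * x⁻¹, ?_⟩
  rw [Subgroup.map_map]
  congr 1
  ext z
  simp [MulAut.conj_apply, mul_assoc]

end Cfsg.Agent.S4334
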