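import Cfsg.Statements.S4343
-- import your own Cfsg.Agent.* helpers here

set_option autoImplicit false
open Cfsg

namespace Cfsg.Agent.S4343

open Pointwise

/-- Step 1: if `n_p < p²`, distinct Sylow `p`-subgroups meet in a subgroup of index `p`. -/
theorem card_eq_mul_card_inf {S : Type*} [Group S] [Finite S] (p : ℕ) [Fact p.Prime]
    (hn : Nat.card (Sylow p S) < p ^ 2) (P Q : Sylow p S) (hPQ : P ≠ Q) :
    Nat.card (P : Subgroup S) = p * Nat.card ((P : Subgroup S) ⊓ (Q : Subgroup S) : Subgroup S) := by
  classical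
  -- the stabilizer of Q in P
  have hstab : MulAction.stabilizer (P : Subgroup S) Q =
      ((P : Subgroup S) ⊓ (Q : Subgroup S)).subgroupOf (P : Subgroup S) := by
    ext h
    rw [MulAction.mem_stabilizer_iff, Subgroup.mem_subgroupOf]
    have h1 : h • Q = (h : S) • Q := rfl
    rw [h1, Sylow.smul_eq_iff_mem_normalizer]
    have h2 := IsPGroup.inf_normalizer_sylow P.isPGroup' Q
    constructor
    · intro hh
      exact h2.le ⟨h.2, hh⟩
    · intro hh
      exact (h2.ge hh).2
  have hidx := MulAction.index_stabilizer (P : Subgroup S) Q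
  obtain ⟨k, hk⟩ := P.isPGroup'.index (MulAction.stabilizer (P : Subgroup S) Q)
  have hle : (MulAction.orbit (P : Subgroup S) Q).ncard ≤ Nat.card (Sylow p S) :=
    Set.ncard_le_card _
  have hp1 : 1 < p := (Fact.out : p.Prime).one_lt
  have hk2 : k < 2 := by
    by_contra hge
    have : p ^ 2 ≤ p ^ k := Nat.pow_le_pow_right (by omega) (by omega)
    omega
  have hk0 : k ≠ 0 := by
    rintro rfl
    rw [pow_zero, Subgroup.index_eq_one, hstab] at hk
    apply hPQ
    have hle' : (P : Subgroup S) ≤ (Q : Subgroup S) := by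
      intro x hx
      have : (⟨x, hx⟩ : (P : Subgroup S)) ∈ ((P : Subgroup S) ⊓ (Q : Subgroup S)).subgroupOf (P : Subgroup S) := by
        rw [hk]; exact Subgroup.mem_top _
      exact (Subgroup.mem_subgroupOf.mp this).2
    exact (Sylow.ext (P.is_maximal' Q.isPGroup' hle')).symm
  have hk1 : k = 1 := by omega
  rw [hk1, pow_one, hstab] at hk
  have h3 := Subgroup.card_mul_index (((P : Subgroup S) ⊓ (Q : Subgroup S)).subgroupOf (P : Subgroup S))
  rw [hk] at h3
  rw [← h3, mul_comm]
  congr 1
  exact Nat.card_congr (Subgroup.subgroupOfEquivOfLe inf_le_left).toEquiv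

theorem le_normalizer_of_card {S : Type*} [Group S] [Finite S] (p : ℕ) [Fact p.Prime]
    (P : Subgroup S) (hP : IsPGroup p P) (D : Subgroup S) (hD : D ≤ P)
    (hcard : Nat.card P = p * Nat.card D) : P ≤ Subgroup.normalizer (D : Set S) := by
  rw [← Subgroup.normal_subgroupOf_iff_le_normalizer hD]
  apply Subgroup.normal_of_index_eq_minFac_card
  have h1 := Subgroup.card_mul_index (D.subgroupOf P)
  have h2 : Nat.card (D.subgroupOf P) = Nat.card D :=
    Nat.card_congr (Subgroup.subgroupOfEquivOfLe hD).toEquiv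
  rw [h2, hcard, mul_comm] at h1
  have hidx : (D.subgroupOf P).index = p :=
    Nat.eq_of_mul_eq_mul_right Nat.card_pos h1
  rw [hidx]
  obtain ⟨m, hm⟩ := IsPGroup.iff_card.mp hP
  have hm0 : m ≠ 0 := by
    rintro rfl
    rw [pow_zero] at hm
    have hp1 : 1 < p := (Fact.out : p.Prime).one_lt
    have : 0 < Nat.card D := Nat.card_pos
    rw [hm] at hcard
    nlinarith
  rw [hm, Nat.Prime.pow_minFac Fact.out hm0]

theorem mem_sylow_smul {G : Type*} [Group G] {p : ℕ} (g : G) (R : Sylow p G) (y : G) :
    y ∈ g • R ↔ g⁻¹ * y * g ∈ R := by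
  show y ∈ ((g • R : Sylow p G) : Subgroup G) ↔ g⁻¹ * y * g ∈ (R : Subgroup G)
  rw [Sylow.coe_subgroup_smul, Subgroup.mem_pointwise_smul_iff_inv_smul_mem]
  simp [MulAut.smul_def, mul_assoc]



/-- Let S be a finite non-abelian simple group and p a prime dividing its order. If S has fewer than p² Sylow p-subgroups, then its Sylow p-subgroups have order p. -/
theorem result {S : Type*} [Group S] [Finite S]
    [IsSimpleGroup S] (hS : ¬ IsMulCommutative S) (p : ℕ) [Fact p.Prime] (hp : p ∣ Nat.card S)
    (hn : Nat.card (Sylow p S) < p ^ 2) (P : Sylow p S) : Nat.card P = p := by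
  classical
  have hp1 : 1 < p := (Fact.out : p.Prime).one_lt
  -- P is not normal
  have hnotnormal : ¬ (P : Subgroup S).Normal := by
    intro hnormal
    rcases IsSimpleGroup.eq_bot_or_eq_top_of_normal _ hnormal with hbot | htop
    · exact P.ne_bot_of_dvd_card hp hbot
    · -- S is a p-group, so its center is nontrivial, hence everything
      have hpS : IsPGroup p S := by
        intro g
        obtain ⟨k, hk⟩ := P.isPGroup' ⟨g, htop ▸ Subgroup.mem_top g⟩
        exact ⟨k, by simpa [Subtype.ext_iff] using hk⟩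
      have hlt := hpS.bot_lt_center
      have hcn : (Subgroup.center S).Normal := inferInstance
      rcases IsSimpleGroup.eq_bot_or_eq_top_of_normal _ hcn with hb | ht
      · exact (ne_of_gt hlt) hb
      · apply hS
        refine ⟨⟨fun a b => ?_⟩⟩
        have ha : a ∈ Subgroup.center S := ht ▸ Subgroup.mem_top a
        exact ((Subgroup.mem_center_iff.mp ha) b).symm
  obtain ⟨Q, hQP⟩ : ∃ Q : Sylow p S, Q ≠ P := by
    by_contra hall
    push Not at hall
    apply hnotnormal
    have : Subsingleton (Sylow p S) := ⟨fun a b => (hall a).trans (hall b).symm⟩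
    exact Sylow.normal_of_subsingleton P
  set D : Subgroup S := (P : Subgroup S) ⊓ (Q : Subgroup S) with hD
  have hcP : Nat.card (P : Subgroup S) = p * Nat.card D := card_eq_mul_card_inf p hn P Q hQP.symm
  have hcQ : Nat.card (Q : Subgroup S) = p * Nat.card D := by
    have := card_eq_mul_card_inf p hn Q P hQP
    rwa [inf_comm] at this
  have hPN : (P : Subgroup S) ≤ Subgroup.normalizer (D : Set S) :=
    le_normalizer_of_card p P P.isPGroup' D inf_le_left hcP
  have hQN : (Q : Subgroup S) ≤ Subgroup.normalizer (D : Set S) :=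
    le_normalizer_of_card p Q Q.isPGroup' D inf_le_right hcQ
  -- key: D is contained in every Sylow p-subgroup
  have key : ∀ R : Sylow p S, D ≤ (R : Subgroup S) := by
    intro R
    set N := Subgroup.normalizer (D : Set S) with hN
    let PN : Sylow p N := P.subtype hPN
    have hRN : IsPGroup p ((R : Subgroup S).subgroupOf N) := R.isPGroup'.comap_subtype
    obtain ⟨P', hP'⟩ := hRN.exists_le_sylow
    obtain ⟨n, hn'⟩ := MulAction.exists_smul_eq N P' PN
    set R' : Sylow p S := (n : S) • R with hR'
    have h_i : ∀ y, y ∈ R' → y ∈ N → y ∈ (P : Subgroup S) := by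
      intro y hyR' hyN
      have hz : (n : S)⁻¹ * y * n ∈ (R : Subgroup S) := (mem_sylow_smul (n : S) R y).mp hyR'
      have hzP' : (n⁻¹ * ⟨y, hyN⟩ * n : N) ∈ P' := by
        apply hP'
        rw [Subgroup.mem_subgroupOf]
        simpa using hz
      have h1 : (⟨y, hyN⟩ : N) ∈ n • P' := by
        rw [mem_sylow_smul]
        exact hzP'
      rw [hn'] at h1
      have h2 : (⟨y, hyN⟩ : N) ∈ (P : Subgroup S).subgroupOf N := h1
      exact Subgroup.mem_subgroupOf.mp h2
    have h_ii : (R' : Subgroup S) ⊓ (Q : Subgroup S) ≤ D :=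
      fun y hy => ⟨h_i y hy.1 (hQN hy.2), hy.2⟩
    have h_iii : D ≤ (R' : Subgroup S) := by
      by_cases hRQ : R' = Q
      · rw [hRQ]; exact inf_le_right
      · have hc := card_eq_mul_card_inf p hn R' Q hRQ
        have hcard : Nat.card ((R' : Subgroup S) ⊓ (Q : Subgroup S) : Subgroup S) = Nat.card D := by
          have e1 : Nat.card (R' : Subgroup S) = Nat.card (P : Subgroup S) := by
            rw [Sylow.card_eq_multiplicity, Sylow.card_eq_multiplicity]
          rw [e1, hcP] at hc
          exact (Nat.eq_of_mul_eq_mul_left (by omega) hc).symm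
        have := Subgroup.eq_of_le_of_card_ge h_ii hcard.ge
        rw [← this]; exact inf_le_left
    intro d hd
    have hnd : (n : S) * d * (n : S)⁻¹ ∈ D := (Subgroup.mem_normalizer_iff.mp n.2 d).mp hd
    have h4 : (n : S)⁻¹ * ((n : S) * d * (n : S)⁻¹) * (n : S) ∈ (R : Subgroup S) :=
      (mem_sylow_smul (n : S) R _).mp (h_iii hnd)
    simpa [mul_assoc] using h4
  -- hence D lies in the normal core of P, which is trivial
  have hcore : D ≤ (P : Subgroup S).normalCore := by
    intro d hd b
    have h1 := key (b⁻¹ • P) hd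
    have h2 : b⁻¹⁻¹ * d * b⁻¹ ∈ (P : Subgroup S) := (mem_sylow_smul b⁻¹ P d).mp h1
    simpa using h2
  have hcore_bot : (P : Subgroup S).normalCore = ⊥ := by
    rcases IsSimpleGroup.eq_bot_or_eq_top_of_normal _ ((P : Subgroup S).normalCore_normal) with h | h
    · exact h
    · exfalso
      apply hnotnormal
      have : (P : Subgroup S) = ⊤ := top_le_iff.mp (h ▸ (P : Subgroup S).normalCore_le)
      rw [this]; infer_instance
  have hDbot : D = ⊥ := le_bot_iff.mp (hcore_bot ▸ hcore)
  rw [hDbot, Subgroup.card_bot, mul_one] at hcP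
  exact hcP

end Cfsg.Agent.S4343
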