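import Cfsg.Statements.S4344
-- import your own Cfsg.Agent.* helpers here

set_option autoImplicit false
open Cfsg

namespace Cfsg.Agent.S4344

/-- Let S be a finite non-abelian simple group, M a maximal subgroup of S and C a cyclic normal subgroup of M. If a Sylow p-subgroup P of S (for a prime p dividing the order of S) is contained in C, then the number of Sylow p-subgroups of S equals the index of M. -/
theorem result {S : Type*} [Group S] [Finite S]
    [IsSimpleGroup S] (hS : ¬ IsMulCommutative S) (p : ℕ) [Fact p.Prime] (hp : p ∣ Nat.card S)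
    (M : Subgroup S) (hM : IsCoatom M) (C : Subgroup S) (hCM : C ≤ M) (hCn : (C.subgroupOf M).Normal)
    (hC : IsCyclic C) (P : Sylow p S) (hP : (P : Subgroup S) ≤ C) :
    Nat.card (Sylow p S) = M.index := by
  classical
  have : IsCyclic C := hC
  -- elements of C commute
  have hcomm : ∀ a ∈ C, ∀ b ∈ C, a * b = b * a := by
    intro a ha b hb
    have h := (IsCyclic.isMulCommutative (α := C)).is_comm.comm ⟨a, ha⟩ ⟨b, hb⟩
    exact congrArg Subtype.val h
  -- conjugates of P by elements of M stay in P
  have hconj : ∀ m ∈ M, ∀ x ∈ (P : Subgroup S), m * x * m⁻¹ ∈ (P : Subgroup S) := by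
    intro m hm x hx
    -- the conjugate subgroup
    set P' : Subgroup S := (P : Subgroup S).map (MulAut.conj m).toMonoidHom with hP'
    have hP'C : P' ≤ C := by
      rintro y ⟨z, hz, rfl⟩
      have hzC : z ∈ C := hP hz
      have : (⟨m, hm⟩ : M) * ⟨z, hCM hzC⟩ * (⟨m, hm⟩ : M)⁻¹ ∈ C.subgroupOf M :=
        hCn.conj_mem ⟨z, hCM hzC⟩ (by simpa [Subgroup.mem_subgroupOf] using hzC) ⟨m, hm⟩
      simpa [Subgroup.mem_subgroupOf] using this
    have hP'p : IsPGroup p P' := P.isPGroup'.map _
    have hnorm : P' ≤ Subgroup.normalizer ((P : Subgroup S) : Set S) := by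
      intro y hy
      rw [Subgroup.mem_normalizer_iff]
      intro h
      constructor
      · intro hh
        have : y * h * y⁻¹ = h := by
          rw [hcomm y (hP'C hy) h (hP hh)]; group
        rw [this]; exact hh
      · intro hh
        have hyC := hP'C hy
        have hC2 : y * h * y⁻¹ ∈ C := hP hh
        have hhC : h ∈ C := by
          have := C.mul_mem (C.mul_mem (C.inv_mem hyC) hC2) hyC
          simpa [mul_assoc] using this
        have : y * h * y⁻¹ = h := by
          rw [hcomm y hyC h hhC]; group
        rw [this] at hh; exact hh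
    have hsup : IsPGroup p (P' ⊔ (P : Subgroup S) : Subgroup S) :=
      IsPGroup.to_sup_of_normal_right' hP'p P.isPGroup' hnorm
    have heq := P.is_maximal' hsup le_sup_right
    have : P' ≤ (P : Subgroup S) := by
      have h1 : P' ≤ P' ⊔ (P : Subgroup S) := le_sup_left
      rw [heq] at h1
      exact h1
    exact this ⟨x, hx, rfl⟩
  have hMN : M ≤ Subgroup.normalizer ((P : Subgroup S) : Set S) := by
    intro m hm
    rw [Subgroup.mem_normalizer_iff]
    intro h
    constructor
    · exact hconj m hm h
    · intro hh
      have := hconj m⁻¹ (M.inv_mem hm) _ hh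
      simpa [mul_assoc] using this
  have hNtop : Subgroup.normalizer ((P : Subgroup S) : Set S) ≠ ⊤ := by
    intro htop
    have hnormal : (P : Subgroup S).Normal := Subgroup.normalizer_eq_top_iff.mp htop
    rcases IsSimpleGroup.eq_bot_or_eq_top_of_normal _ hnormal with hbot | htop'
    · exact P.ne_bot_of_dvd_card hp hbot
    · apply hS
      have hCtop : C = ⊤ := top_le_iff.mp (htop' ▸ hP)
      refine ⟨⟨fun a b => hcomm a (hCtop ▸ Subgroup.mem_top a) b (hCtop ▸ Subgroup.mem_top b)⟩⟩
  have hNM : Subgroup.normalizer ((P : Subgroup S) : Set S) = M := (hM.le_iff_eq hNtop).mp hMN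
  rw [Sylow.card_eq_index_normalizer P]
  exact congrArg Subgroup.index hNM

end Cfsg.Agent.S4344
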