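import Cfsg.Statements.S4345
import Cfsg.Agent.Lib.Helper23.SylowProd

set_option autoImplicit false
open Cfsg

namespace Cfsg.Agent.S4345

universe u

open Cfsg.Agent.Lib.Helper23

/-- A nontrivial finite solvable group has a nontrivial normal `q`-subgroup for some prime `q`. -/
theorem exists_normal_qgroup {G : Type*} [Group G] [Finite G] [Nontrivial G]
    (hG : Group.IsSolvable G) :
    ∃ (q : ℕ) (K : Subgroup G), q.Prime ∧ K.Normal ∧ K ≠ ⊥ ∧ IsPGroup q K := by
  classical
  have hex : ∃ n, derivedSeries G n = ⊥ := (Group.isSolvable_def G).mp hG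
  set n := Nat.find hex with hn
  have hn_spec : derivedSeries G n = ⊥ := Nat.find_spec hex
  have hn0 : n ≠ 0 := by
    intro h0
    rw [h0, derivedSeries_zero] at hn_spec
    exact top_ne_bot hn_spec
  obtain ⟨m, hm⟩ := Nat.exists_eq_succ_of_ne_zero hn0
  set A := derivedSeries G m with hA
  have hAne : A ≠ ⊥ := Nat.find_min hex (by omega : m < Nat.find hex)
  have hAcomm : ⁅A, A⁆ = ⊥ := by
    rw [hA, ← derivedSeries_succ, ← Nat.succ_eq_add_one, ← hm]; exact hn_spec
  have hAn : A.Normal := derivedSeries_normal G m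
  have hcomm : ∀ a ∈ A, ∀ b ∈ A, a * b = b * a := by
    intro a ha b hb
    have h1 := Subgroup.commutator_eq_bot_iff_le_centralizer.mp hAcomm
    exact (Subgroup.mem_centralizer_iff.mp (h1 hb) a ha)
  -- a prime dividing the order of A
  have hcardA : Nat.card A ≠ 1 := by
    intro h1
    exact hAne (Subgroup.card_eq_one.mp h1)
  obtain ⟨q, hq, hqA⟩ := Nat.exists_prime_and_dvd hcardA
  haveI : Fact q.Prime := ⟨hq⟩
  obtain ⟨Q⟩ : Nonempty (Sylow q A) := inferInstance
  have hQne : (Q : Subgroup A) ≠ ⊥ := Q.ne_bot_of_dvd_card hqA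
  have hQn : (Q : Subgroup A).Normal := by
    refine ⟨fun x hx g => ?_⟩
    have : g * x * g⁻¹ = x := by
      have h1 : (g : G) * x = x * g := hcomm g g.2 x x.2
      have h2 : g * x = x * g := Subtype.ext h1
      rw [h2]; group
    rw [this]; exact hx
  haveI : (Q : Subgroup A).Characteristic := Q.characteristic_of_normal hQn
  refine ⟨q, (Q : Subgroup A).map A.subtype, hq, ConjAct.normal_of_characteristic_of_normal, ?_,
    Q.isPGroup'.map _⟩
  rw [Ne, Subgroup.map_eq_bot_iff_of_injective _ A.subtype_injective]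
  exact hQne

/-- For a normal `q`-subgroup `K`, the number of Sylow `p`-subgroups of `PK` is a power of `q`
congruent to `1` modulo `p`. -/
theorem card_sylow_sup_qgroup {G : Type*} [Group G] [Finite G] (p : ℕ) [Fact p.Prime]
    (q : ℕ) (hq : q.Prime) (K : Subgroup G) [K.Normal] (hK : IsPGroup q K) (P : Sylow p G) :
    ∃ t : ℕ, Nat.card (Sylow p ↥((P : Subgroup G) ⊔ K)) = q ^ t := by
  classical
  haveI : Fact q.Prime := ⟨hq⟩
  set H : Subgroup G := (P : Subgroup G) ⊔ K with hH
  -- the order of H is q^m * p^j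
  obtain ⟨m, hm⟩ := IsPGroup.iff_card.mp hK
  have h1 : K.relIndex H = K.relIndex (P : Subgroup G) := Subgroup.relIndex_sup_right _ K
  have h2 : K.relIndex (P : Subgroup G) ∣ Nat.card (P : Subgroup G) := Subgroup.relIndex_dvd_card _ _
  obtain ⟨a, ha⟩ := IsPGroup.iff_card.mp P.isPGroup'
  rw [ha] at h2
  obtain ⟨j, -, hj⟩ := (Nat.dvd_prime_pow (Fact.out : p.Prime)).mp h2
  have hcardH : Nat.card H = q ^ m * p ^ j := by
    have h3 := Subgroup.card_mul_index (K.subgroupOf H)
    have h4 : Nat.card (K.subgroupOf H) = Nat.card K :=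
      Nat.card_congr (Subgroup.subgroupOfEquivOfLe le_sup_right).toEquiv
    rw [h4, hm] at h3
    rw [← h3]
    congr 1
    show K.relIndex H = p ^ j
    rw [h1, hj]
  -- n_p(H) divides |H| and is prime to p
  obtain ⟨PH⟩ : Nonempty (Sylow p H) := inferInstance
  have hdvd : Nat.card (Sylow p H) ∣ q ^ m * p ^ j := by
    rw [← hcardH]
    exact (PH.card_dvd_index).trans (Subgroup.index_dvd_card _)
  have hcop : (Nat.card (Sylow p H)).Coprime (p ^ j) := by
    apply Nat.Coprime.pow_right
    rw [Nat.coprime_comm]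
    exact (Nat.Prime.coprime_iff_not_dvd Fact.out).mpr (not_dvd_card_sylow p H)
  have hdvd' : Nat.card (Sylow p H) ∣ q ^ m := hcop.dvd_of_dvd_mul_right hdvd
  obtain ⟨t, -, ht⟩ := (Nat.dvd_prime_pow hq).mp hdvd'
  exact ⟨t, ht⟩

theorem main (p : ℕ) [Fact p.Prime] : ∀ (n : ℕ) (G : Type u) [Group G] [Finite G],
    Group.IsSolvable G → Nat.card G = n →
    ∀ ℓ : ℕ, ℓ.Prime → ℓ ^ (Nat.card (Sylow p G)).factorization ℓ ≡ 1 [MOD p] := by
  intro n
  induction n using Nat.strong_induction_on with
  | _ n ih =>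
    intro G _ _ hG hcard ℓ hℓ
    classical
    rcases subsingleton_or_nontrivial G with hsub | hnt
    · -- trivial group
      have h1 : Nat.card (Sylow p G) = 1 := by
        have : Subsingleton (Sylow p G) := ⟨fun P Q => Sylow.ext (Subsingleton.elim _ _)⟩
        exact Nat.card_unique
      rw [h1]
      simp [Nat.ModEq]
    · obtain ⟨q, K, hq, hKn, hKne, hKq⟩ := exists_normal_qgroup hG
      haveI := hKn
      obtain ⟨P⟩ : Nonempty (Sylow p G) := inferInstance
      obtain ⟨t, ht⟩ := card_sylow_sup_qgroup p q hq K hKq P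
      have hprod := card_sylow_eq_quotient_mul p K P
      rw [ht] at hprod
      -- q^t ≡ 1 mod p
      have hqt : q ^ t ≡ 1 [MOD p] := ht ▸ card_sylow_modEq_one p _
      -- induction hypothesis for the quotient
      have hlt : Nat.card (G ⧸ K) < n := by
        have h1 := Subgroup.card_eq_card_quotient_mul_card_subgroup K
        have h2 : 1 < Nat.card K := by
          have : Nat.card K ≠ 1 := fun h => hKne (Subgroup.card_eq_one.mp h)
          have : 0 < Nat.card K := Nat.card_pos
          omega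
        have h3 : 0 < Nat.card (G ⧸ K) := Nat.card_pos
        rw [← hcard, h1]
        nlinarith
      have hquot := ih _ hlt (G ⧸ K) inferInstance rfl ℓ hℓ
      have hne1 : Nat.card (Sylow p (G ⧸ K)) ≠ 0 := Nat.card_pos.ne'
      have hne2 : q ^ t ≠ 0 := pow_ne_zero _ hq.ne_zero
      rw [hprod, Nat.factorization_mul hne1 hne2, Finsupp.add_apply, pow_add]
      have h2 : ℓ ^ (q ^ t).factorization ℓ ≡ 1 [MOD p] := by
        rw [Nat.Prime.factorization_pow hq, Finsupp.single_apply]
        split_ifs with h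
        · rw [← h]; exact hqt
        · simp [Nat.ModEq]
      simpa using hquot.mul h2


/-- Let G be a finite solvable group and p, ℓ primes. Then the largest power of ℓ dividing the number of Sylow p-subgroups of G is congruent to 1 modulo p. -/
theorem result {G : Type*} [Group G] [Finite G]
    (hG : Group.IsSolvable G) (p ℓ : ℕ) [Fact p.Prime] (hℓ : ℓ.Prime) :
    ℓ ^ (Nat.card (Sylow p G)).factorization ℓ ≡ 1 [MOD p] := by
  exact main p _ G hG rfl ℓ hℓ

end Cfsg.Agent.S4345
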