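import Cfsg.Statements.S4346
import Cfsg.Agent.Lib.Helper8.Syl22C
import Cfsg.Agent.Lib.Helper12.Hall22D

set_option autoImplicit false
open Cfsg

namespace Cfsg.Agent.S4346

/-- No finite group has exactly 22 Sylow 3-subgroups. -/
theorem result {G : Type*} [Group G] [Finite G] : Nat.card (Sylow 3 G) ≠ 22 :=
  Cfsg.Agent.Lib.Helper8.Syl22.card_sylow_ne_of_minCE
    (fun _ _ _ h => Cfsg.Agent.Lib.Helper12.Hall22.endgame h
      (Cfsg.Agent.Lib.Helper8.Syl22.card_eq_three h)) G

end Cfsg.Agent.S4346
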