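import Cfsg.Statements.S4347
-- import your own Cfsg.Agent.* helpers here

set_option autoImplicit false
open Cfsg

namespace Cfsg.Agent.S4347

/-- Let G be a finite group and p a prime. Say a Sylow p-subgroup Q is redundant when every element of p-power order lies in some Sylow p-subgroup other than Q. Then G has no redundant Sylow p-subgroup if and only if some element of p-power order lies in exactly one Sylow p-subgroup. -/
theorem result {G : Type*} [Group G] [Finite G]
    (p : ℕ) [Fact p.Prime] :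
    (¬ ∃ Q : Sylow p G, ∀ x : G, (∃ k : ℕ, orderOf x = p ^ k) → ∃ P : Sylow p G, P ≠ Q ∧ x ∈ P) ↔
      ∃ x : G, (∃ k : ℕ, orderOf x = p ^ k) ∧ ∃! P : Sylow p G, x ∈ P := by
  classical
  have key : ∀ x : G, (∃ k : ℕ, orderOf x = p ^ k) → ∃ P : Sylow p G, x ∈ P := by
    intro x ⟨k, hk⟩
    have hpg : IsPGroup p (Subgroup.zpowers x) := by
      apply IsPGroup.of_card (n := k)
      rw [Nat.card_zpowers, hk]
    obtain ⟨P, hP⟩ := hpg.exists_le_sylow
    exact ⟨P, hP (Subgroup.mem_zpowers x)⟩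
  constructor
  · intro h
    obtain ⟨Q⟩ : Nonempty (Sylow p G) := inferInstance
    have h' : ¬ ∀ x : G, (∃ k : ℕ, orderOf x = p ^ k) → ∃ P : Sylow p G, P ≠ Q ∧ x ∈ P :=
      fun hh => h ⟨Q, hh⟩
    push Not at h'
    obtain ⟨x, hx, hxQ⟩ := h'
    refine ⟨x, hx, ?_⟩
    obtain ⟨P, hP⟩ := key x hx
    have hPQ : P = Q := by
      by_contra hne
      exact hxQ P hne hP
    refine ⟨Q, hPQ ▸ hP, ?_⟩
    intro P' hP'
    by_contra hne
    exact hxQ P' hne hP'
  · rintro ⟨x, hx, P0, hxP0, huniq⟩ ⟨Q, hQ⟩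
    obtain ⟨g, hg⟩ := MulAction.exists_smul_eq G P0 Q
    have hx' : ∃ k : ℕ, orderOf (g * x * g⁻¹) = p ^ k := by
      obtain ⟨k, hk⟩ := hx
      refine ⟨k, ?_⟩
      rw [← hk]
      exact ((SemiconjBy.conj_mk g x).orderOf_eq).symm
    obtain ⟨P, hPQ, hxP⟩ := hQ _ hx'
    have hmem : x ∈ g⁻¹ • P := by
      show x ∈ ((g⁻¹ • P : Sylow p G) : Subgroup G)
      rw [Sylow.coe_subgroup_smul, Subgroup.mem_pointwise_smul_iff_inv_smul_mem]
      have hxP' : g * x * g⁻¹ ∈ (P : Subgroup G) := hxP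
      simpa [MulAut.smul_def, mul_assoc] using hxP'
    have := huniq _ hmem
    apply hPQ
    rw [← hg, ← this, smul_inv_smul]

end Cfsg.Agent.S4347
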