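import Cfsg.Statements.S4349
import Cfsg.Agent.Lib.Helper11.SylUF

set_option autoImplicit false
open Cfsg

namespace Cfsg.Agent.S4349

open Cfsg.Agent.Lib.Helper11.SylU in
/-- Let n ≥ 2 and let x be an element of 2-power order of the symmetric group of degree n. Then x lies in exactly one Sylow 2-subgroup if and only if x has at most two fixed points and the nontrivial cycles of x have pairwise different lengths. -/
theorem result (n : ℕ) (hn : 2 ≤ n)
    (x : Equiv.Perm (Fin n)) (hx : ∃ k : ℕ, orderOf x = 2 ^ k) :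
    (∃! P : Sylow 2 (Equiv.Perm (Fin n)), x ∈ P) ↔ (n ≤ x.support.card + 2 ∧ x.cycleType.Nodup) := by
  have : Fact (Nat.Prime 2) := ⟨Nat.prime_two⟩
  obtain ⟨k, hk⟩ := hx
  have hx2 : x ^ 2 ^ k = 1 := by rw [← hk]; exact pow_orderOf_eq_one x
  constructor
  · rintro ⟨P, hP, huniq⟩
    have h := good_of_unique_sylow x ⟨k, hx2⟩ P hP (fun Q hQ => huniq Q hQ)
    rw [Fintype.card_fin] at h
    exact h
  · rintro ⟨h1, h2⟩
    have hgood : Good x Finset.univ := by
      refine ⟨fun y hy => absurd (Finset.mem_univ y) hy, ?_, h2, ⟨k, hx2⟩⟩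
      rw [Finset.card_univ, Fintype.card_fin]
      exact h1
    have hz : IsPGroup 2 (Subgroup.zpowers x) := by
      apply IsPGroup.of_card_dvd_pow (n := k)
      rw [Nat.card_zpowers]
      exact orderOf_dvd_of_pow_eq_one hx2
    obtain ⟨P, hP⟩ := hz.exists_le_sylow
    have hxP : x ∈ P := hP (Subgroup.mem_zpowers x)
    exact ⟨P, hxP, fun Q hQ => unique_sylow_of_good x hgood Q P hQ hxP⟩

end Cfsg.Agent.S4349
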