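import Cfsg.Statements.S4354
import Cfsg.Agent.Lib.Helper9.PCentral

set_option autoImplicit false
open Cfsg

namespace Cfsg.Agent.S4354

/-- Let G be a finite group and p a prime such that the Sylow p-subgroups of G are non-abelian while every element of p-power order has conjugacy class size prime to p, and suppose no nontrivial proper normal subgroup N of G has this property and no quotient G/N by such an N has it. Then G is simple. -/
theorem result {G : Type*} [Group G] [Finite G]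
    (p : ℕ) [Fact p.Prime] (h : ((∃ P : Sylow p G, ¬ IsMulCommutative P) ∧ ∀ x : G, (∃ k : ℕ, orderOf x = p ^ k) → ¬ p ∣ (Subgroup.centralizer ({x} : Set G)).index))
    (hmin : ∀ (N : Subgroup G) [N.Normal], N ≠ ⊥ → N ≠ ⊤ →
      ¬ ((∃ P : Sylow p N, ¬ IsMulCommutative P) ∧ ∀ x : N, (∃ k : ℕ, orderOf x = p ^ k) → ¬ p ∣ (Subgroup.centralizer ({x} : Set N)).index) ∧
      ¬ ((∃ P : Sylow p (G ⧸ N), ¬ IsMulCommutative P) ∧ ∀ x : (G ⧸ N), (∃ k : ℕ, orderOf x = p ^ k) → ¬ p ∣ (Subgroup.centralizer ({x} : Set (G ⧸ N))).index)) :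
    IsSimpleGroup G := by
  obtain ⟨⟨P, hP⟩, hhyp⟩ := h
  have hH : Cfsg.Agent.Lib.Helper9.PCentral.Hyp p G := hhyp
  refine { exists_pair_ne := ?_, eq_bot_or_eq_top_of_normal := ?_ }
  · by_contra hne
    push Not at hne
    apply hP
    exact ⟨⟨fun a b => Subtype.ext (hne _ _)⟩⟩
  · intro N hNn
    by_contra hcon
    push Not at hcon
    obtain ⟨hbot, htop⟩ := hcon
    obtain ⟨h1, h2⟩ := hmin N hbot htop
    have hN : ∀ T : Sylow p N, IsMulCommutative T := by
      intro T
      by_contra hT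
      exact h1 ⟨⟨T, hT⟩, Cfsg.Agent.Lib.Helper9.PCentral.hyp_normal hH N⟩
    have hGN : ∀ T : Sylow p (G ⧸ N), IsMulCommutative T := by
      intro T
      by_contra hT
      exact h2 ⟨⟨T, hT⟩, Cfsg.Agent.Lib.Helper9.PCentral.hyp_quotient hH N⟩
    apply hP
    have hmain := Cfsg.Agent.Lib.Helper9.PCentral.sylow_comm_of_normal hH N hN hGN P
    exact ⟨⟨fun a b => Subtype.ext (hmain a a.2 b b.2)⟩⟩

end Cfsg.Agent.S4354
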