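import Cfsg.Statements.S4357
import Cfsg.Agent.Lib.Helper13.SL2Redundant

set_option autoImplicit false
open Cfsg

namespace Cfsg.Agent.S4357

/-- Let F be a finite field with q elements, p a prime and G = SL(2, F). Say a Sylow p-subgroup Q of G is redundant when every element of p-power order lies in some Sylow p-subgroup other than Q. Then G has a redundant Sylow p-subgroup if and only if p = 2 and q is not of any of the forms 2ᵏ - 1, 2ᵏ, 2ᵏ + 1. -/
theorem result {F : Type*} [Field F] [Fintype F] (p : ℕ) [Fact p.Prime] :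
    (∃ Q : Sylow p (Matrix.SpecialLinearGroup (Fin 2) F), ∀ x : Matrix.SpecialLinearGroup (Fin 2) F,
        (∃ k : ℕ, orderOf x = p ^ k) → ∃ P : Sylow p (Matrix.SpecialLinearGroup (Fin 2) F), P ≠ Q ∧ x ∈ P) ↔
      (p = 2 ∧ (¬ ∃ k : ℕ, Fintype.card F + 1 = 2 ^ k) ∧ (¬ ∃ k : ℕ, Fintype.card F = 2 ^ k) ∧
        ¬ ∃ k : ℕ, Fintype.card F = 2 ^ k + 1) := by
  classical
  have hq1' : 1 < Fintype.card F := Fintype.one_lt_card
  obtain ⟨p', hp'⟩ := CharP.exists F
  have := hp'
  have hpp' : Fact p'.Prime := ⟨CharP.char_is_prime F p'⟩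
  obtain ⟨n, -, hn⟩ := FiniteField.card F p'
  constructor
  · rintro ⟨Q, hQ⟩
    have hQ' : Cfsg.Agent.Lib.Helper13.IsRedundantSylow Q := hQ
    by_cases hpc : p = p'
    · subst hpc
      exfalso
      obtain ⟨x, hx, huniq⟩ := Cfsg.Agent.Lib.Helper13.exists_unique_sylow_char p Q
      exact Cfsg.Agent.Lib.Helper13.not_isRedundantSylow_of_unique Q x hx huniq hQ'
    · by_cases hp2 : p = 2
      · subst hp2
        have hp'2 : p' ≠ 2 := fun h => hpc h.symm
        have hodd : Odd (Fintype.card F) := by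
          rw [hn]
          exact Odd.pow (hpp'.out.odd_of_ne_two hp'2)
        have h2 : (2 : F) ≠ 0 := Cfsg.Agent.Lib.Helper13.two_ne_zero_of_odd_card hodd
        have hcase : ∀ hq : (∃ k : ℕ, Fintype.card F + 1 = 2 ^ k) ∨
            (∃ k : ℕ, Fintype.card F = 2 ^ k + 1), False := by
          intro hq
          obtain ⟨x, hx, huniq⟩ := Cfsg.Agent.Lib.Helper13.exists_unique_sylow_two_of_torus hodd
            (fun a ha0 => Cfsg.Agent.Lib.Helper13.card_torus_two_pow h2 hodd hq a ha0) Q
          exact Cfsg.Agent.Lib.Helper13.not_isRedundantSylow_of_unique Q x hx huniq hQ'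
        refine ⟨rfl, fun h => hcase (Or.inl h), ?_, fun h => hcase (Or.inr h)⟩
        rintro ⟨k, hk⟩
        rw [hk] at hodd
        rcases k with _ | k
        · simp at hk
          omega
        · rw [pow_succ] at hodd
          exact absurd hodd (by simp)
      · exfalso
        have hcyc := Cfsg.Agent.Lib.Helper13.isCyclic_sylow_SL2 p' p hp2 hpc Q
        obtain ⟨x, hx, huniq⟩ := Cfsg.Agent.Lib.Helper13.exists_unique_sylow_of_isCyclic Q hcyc
        exact Cfsg.Agent.Lib.Helper13.not_isRedundantSylow_of_unique Q x hx huniq hQ'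
  · rintro ⟨rfl, h1, h2', h3⟩
    have hp'2 : p' ≠ 2 := by
      rintro rfl
      exact h2' ⟨n, hn⟩
    have hodd : Odd (Fintype.card F) := by
      rw [hn]
      exact Odd.pow (hpp'.out.odd_of_ne_two hp'2)
    obtain ⟨Q⟩ := (inferInstance : Nonempty (Sylow 2 (Matrix.SpecialLinearGroup (Fin 2) F)))
    exact ⟨Q, Cfsg.Agent.Lib.Helper13.isRedundantSylow_two hodd h1 h3 Q⟩

end Cfsg.Agent.S4357
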