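import Cfsg.Statements.S4359
import Cfsg.Agent.Lib.Helper18.GlaubAsm

set_option autoImplicit false
open Pointwise
open Cfsg

namespace Cfsg.Agent.S4359

/-- Let P be a subgroup of a finite group G and g an element such that P ∩ g⁻¹Pg is a normal subgroup of prime index p in g⁻¹Pg. Let n ≥ 1 and let K be the subgroup generated by P and its conjugates g⁻ⁱPgⁱ for i ≤ n. Suppose that g normalizes no non-identity normal subgroup of P and that P meets the center of K trivially. Then the order of P is pᵗ for some t with 1 ≤ t ≤ 3n and t ≠ 3n - 1. -/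
theorem result {G : Type*} [Group G] [Finite G]
    (P : Subgroup G) (g : G) (p : ℕ) (hp : p.Prime)
    (hN : ((P ⊓ MulAut.conj g⁻¹ • P).subgroupOf (MulAut.conj g⁻¹ • P)).Normal)
    (hidx : (P ⊓ MulAut.conj g⁻¹ • P).relIndex (MulAut.conj g⁻¹ • P) = p)
    (n : ℕ) (hn : 1 ≤ n) (K : Subgroup G) (hK : K = ⨆ i ∈ Finset.range (n + 1), MulAut.conj (g ^ i)⁻¹ • P)
    (h1 : ∀ Q : Subgroup G, Q ≤ P → (Q.subgroupOf P).Normal → MulAut.conj g • Q = Q → Q = ⊥)
    (h2 : P ⊓ (Subgroup.center K).map K.subtype = ⊥) :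
    ∃ t : ℕ, Nat.card P = p ^ t ∧ 1 ≤ t ∧ t ≤ 3 * n ∧ t ≠ 3 * n - 1 := by
  have hN' : ((P ⊓ Cfsg.Agent.Lib.Helper18.Sims3.cj g⁻¹ P).subgroupOf
      (Cfsg.Agent.Lib.Helper18.Sims3.cj g⁻¹ P)).Normal := hN
  have hidx' : (P ⊓ Cfsg.Agent.Lib.Helper18.Sims3.cj g⁻¹ P).relIndex
      (Cfsg.Agent.Lib.Helper18.Sims3.cj g⁻¹ P) = p := hidx
  have hK' : K = ⨆ i ∈ Finset.range (n + 1), Cfsg.Agent.Lib.Helper18.Sims3.cj (g⁻¹ ^ i) P := by
    rw [hK]
    refine iSup_congr fun i => iSup_congr fun _ => ?_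
    rw [inv_pow]
    rfl
  have h1' : ∀ Q : Subgroup G, Q ≤ P → (Q.subgroupOf P).Normal →
      Cfsg.Agent.Lib.Helper18.Sims3.cj g⁻¹ Q = Q → Q = ⊥ := by
    intro Q hQ hQn hQg
    apply h1 Q hQ hQn
    show Cfsg.Agent.Lib.Helper18.Sims3.cj g Q = Q
    have : Cfsg.Agent.Lib.Helper18.Sims3.cj g (Cfsg.Agent.Lib.Helper18.Sims3.cj g⁻¹ Q) = Q := by
      show (Q.map (MulAut.conj g⁻¹).toMonoidHom).map (MulAut.conj g).toMonoidHom = Q
      rw [Subgroup.map_map]
      ext y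
      simp only [Subgroup.mem_map, MonoidHom.coe_comp, MulEquiv.coe_toMonoidHom,
        Function.comp_apply, MulAut.conj_apply, inv_inv]
      constructor
      · rintro ⟨x, hx, rfl⟩
        have : g * (g⁻¹ * x * g) * g⁻¹ = x := by group
        rw [this]; exact hx
      · intro hy
        exact ⟨y, hy, by group⟩
    rw [hQg] at this
    exact this
  exact Cfsg.Agent.Lib.Helper18.Glaub.glauberman_bound P g⁻¹ p hp hN' hidx' n hn K hK' h1' h2

end Cfsg.Agent.S4359
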