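import Cfsg.Statements.S4365
import Mathlib
import Cfsg.Agent.Lib.Helper10.PGroupBasic
-- import your own Cfsg.Agent.* helpers here

set_option autoImplicit false
open Cfsg

namespace Cfsg.Agent.S4365

open scoped commutatorElement

/-- a subgroup contained in another one of the same index is equal to it -/
theorem eq_of_le_of_index_eq' {G : Type*} [Group G] [Finite G] {H K : Subgroup G} (h : H ≤ K)
    (hi : H.index = K.index) : H = K := by
  apply Subgroup.eq_of_le_of_card_ge h
  have h1 := H.card_mul_index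
  have h2 := K.card_mul_index
  have hpos : 0 < K.index := Nat.pos_of_ne_zero Subgroup.index_ne_zero_of_finite
  rw [hi] at h1
  have : Nat.card H * K.index = Nat.card K * K.index := by rw [h1, h2]
  exact (Nat.eq_of_mul_eq_mul_right hpos this).ge

theorem cent_pow_le {G : Type*} [Group G] (g : G) (k : ℕ) :
    Subgroup.centralizer ({g} : Set G) ≤ Subgroup.centralizer ({g ^ k} : Set G) := by
  intro y hy
  rw [Subgroup.mem_centralizer_singleton_iff] at hy ⊢
  have : Commute y g := hy
  exact (this.pow_right k).eq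

theorem mem_center_iff_cent_eq_top {G : Type*} [Group G] (g : G) :
    g ∈ Subgroup.center G ↔ Subgroup.centralizer ({g} : Set G) = ⊤ := by
  rw [Subgroup.centralizer_eq_top_iff_subset, Set.singleton_subset_iff]
  rfl

/-- With two class sizes, `C(x) ≤ C(y)` and `y` non-central force `C(x) = C(y)`. -/
theorem cent_eq_of_le {G : Type*} [Group G] [Finite G] (m : ℕ)
    (h : ∀ x : G, (Subgroup.centralizer ({x} : Set G)).index = 1 ∨
      (Subgroup.centralizer ({x} : Set G)).index = m)
    {x y : G} (hle : Subgroup.centralizer ({x} : Set G) ≤ Subgroup.centralizer ({y} : Set G))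
    (hy : y ∉ Subgroup.center G) :
    Subgroup.centralizer ({x} : Set G) = Subgroup.centralizer ({y} : Set G) := by
  have hy1 : (Subgroup.centralizer ({y} : Set G)).index ≠ 1 := by
    intro h1
    apply hy
    rw [mem_center_iff_cent_eq_top]
    exact Subgroup.index_eq_one.mp h1
  have hx1 : (Subgroup.centralizer ({x} : Set G)).index ≠ 1 := by
    intro h1
    apply hy1
    have := Subgroup.index_eq_one.mp h1
    rw [this, top_le_iff] at hle
    rw [hle]; exact Subgroup.index_top
  apply eq_of_le_of_index_eq' hle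
  rcases h x with h1 | h1
  · exact absurd h1 hx1
  · rcases h y with h2 | h2
    · exact absurd h2 hy1
    · rw [h1, h2]

/-- **Key lemma.** In a finite `p`-group, if everything commuting with `g ^ p` commutes with `g`,
then `g` centralizes every abelian normal subgroup. -/
theorem key_lemma {P : Type*} [Group P] [Finite P] {p : ℕ} [hp : Fact p.Prime]
    (hP : IsPGroup p P) (B : Subgroup P) [hBn : B.Normal] (hB : IsMulCommutative B) (g : P)
    (hg : Subgroup.centralizer ({g ^ p} : Set P) ≤ Subgroup.centralizer ({g} : Set P)) :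
    B ≤ Subgroup.centralizer ({g} : Set P) := by
  classical
  by_contra hcon
  obtain ⟨b0, hb0B, hb0⟩ : ∃ b ∈ B, b ∉ Subgroup.centralizer ({g} : Set P) := by
    by_contra h
    push Not at h
    exact hcon (fun b hb => h b hb)
  have hcomm : ∀ u ∈ B, ∀ v ∈ B, u * v = v * u := by
    intro u hu v hv
    exact congrArg Subtype.val (mul_comm' (⟨u, hu⟩ : B) ⟨v, hv⟩)
  have hcB : ∀ b ∈ B, ⁅b, g⁆ ∈ B := by
    intro b hb
    rw [commutatorElement_def]
    have h1 : g * b⁻¹ * g⁻¹ ∈ B := hBn.conj_mem _ (inv_mem hb) g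
    have : b * g * b⁻¹ * g⁻¹ = b * (g * b⁻¹ * g⁻¹) := by group
    rw [this]
    exact mul_mem hb h1
  -- Stage 1: an element of `B` outside `C(g)` whose commutator with `g` lies in `C(g)`.
  have hnil : Group.IsNilpotent P := hP.isNilpotent
  obtain ⟨n, hn⟩ := Subgroup.nilpotent_iff_lowerCentralSeries.mp hnil
  obtain ⟨f, hf0, hfs⟩ : ∃ f : ℕ → P, f 0 = b0 ∧ ∀ k, f (k + 1) = ⁅f k, g⁆ :=
    ⟨fun k => Nat.rec b0 (fun _ b => ⁅b, g⁆) k, rfl, fun _ => rfl⟩
  have hfB : ∀ k, f k ∈ B := by
    intro k
    induction k with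
    | zero => rw [hf0]; exact hb0B
    | succ k ih => rw [hfs]; exact hcB _ ih
  have hfL : ∀ k, f k ∈ (⊤ : Subgroup P).lowerCentralSeries k := by
    intro k
    induction k with
    | zero => exact Subgroup.mem_top _
    | succ k ih =>
      rw [hfs, Subgroup.lowerCentralSeries_succ]
      exact Subgroup.commutator_mem_commutator ih (Subgroup.mem_top g)
  have hfn : f n ∈ Subgroup.centralizer ({g} : Set P) := by
    have := hfL n
    rw [hn, Subgroup.mem_bot] at this
    rw [this]; exact one_mem _
  have hex : ∃ k, f k ∈ Subgroup.centralizer ({g} : Set P) := ⟨n, hfn⟩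
  obtain ⟨k, hk, hkmin⟩ : ∃ k, f k ∈ Subgroup.centralizer ({g} : Set P) ∧
      ∀ j < k, f j ∉ Subgroup.centralizer ({g} : Set P) :=
    ⟨Nat.find hex, Nat.find_spec hex, fun j hj => Nat.find_min hex hj⟩
  have hk0 : k ≠ 0 := by
    rintro rfl
    rw [hf0] at hk
    exact hb0 hk
  obtain ⟨k', rfl⟩ := Nat.exists_eq_succ_of_ne_zero hk0
  have hb1B := hfB k'
  have hb1 : f k' ∉ Subgroup.centralizer ({g} : Set P) := hkmin k' (Nat.lt_succ_self k')
  have hb1c : ⁅f k', g⁆ ∈ Subgroup.centralizer ({g} : Set P) := by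
    rw [← hfs]; exact hk
  -- Stage 2: among such elements choose one of minimal order.
  obtain ⟨S, hS⟩ : ∃ S : Set P, S = {b | b ∈ B ∧ b ∉ Subgroup.centralizer ({g} : Set P) ∧
      ⁅b, g⁆ ∈ Subgroup.centralizer ({g} : Set P)} := ⟨_, rfl⟩
  have hSne : S.Nonempty := ⟨f k', by rw [hS]; exact ⟨hb1B, hb1, hb1c⟩⟩
  obtain ⟨b, hbS, hbmin⟩ := WellFounded.has_min (measure (fun b : P => orderOf b)).wf S hSne
  rw [hS] at hbS
  obtain ⟨hbB, hbg, hbc⟩ := hbS
  -- notation
  obtain ⟨c, hc⟩ : ∃ c : P, c = ⁅b, g⁆ := ⟨_, rfl⟩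
  rw [← hc] at hbc
  have hcB' : c ∈ B := by rw [hc]; exact hcB b hbB
  have hcg : g * c = c * g := by
    rw [Subgroup.mem_centralizer_singleton_iff] at hbc
    exact hbc.symm
  have hcb : c * b = b * c := hcomm c hcB' b hbB
  have hconj : g * b * g⁻¹ = c⁻¹ * b := by
    rw [hc, commutatorElement_def]; group
  have hcinvg : g * c⁻¹ = c⁻¹ * g := (show Commute g c from hcg).inv_right.eq
  have hcib : Commute c⁻¹ b := (show Commute c b from hcb).inv_left
  -- conjugating powers of b
  have hconj_pow : ∀ i : ℕ, g * b ^ i * g⁻¹ = c⁻¹ ^ i * b ^ i := by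
    intro i
    have h1 : g * b ^ i * g⁻¹ = (g * b * g⁻¹) ^ i := by
      rw [conj_pow]
    rw [h1, hconj]
    exact hcib.mul_pow i
  -- b ^ p ∈ C(g)
  have hb_ne : b ≠ 1 := by
    rintro rfl
    exact hbg (one_mem _)
  have hbp : b ^ p ∈ Subgroup.centralizer ({g} : Set P) := by
    by_contra hbp
    have hmem : b ^ p ∈ S := by
      rw [hS]
      refine ⟨pow_mem hbB p, hbp, ?_⟩
      -- ⁅b^p, g⁆ = c^p
      have : ⁅b ^ p, g⁆ = c ^ p := by
        rw [commutatorElement_def]
        have h1 : b ^ p * g * (b ^ p)⁻¹ * g⁻¹ = b ^ p * (g * b ^ p * g⁻¹)⁻¹ := by group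
        rw [h1, hconj_pow p]
        rw [mul_inv_rev, ← mul_assoc, mul_inv_cancel, one_mul, inv_pow, inv_inv]
      rw [this]
      exact pow_mem hbc p
    have hlt : orderOf (b ^ p) < orderOf b := by
      obtain ⟨j, hj⟩ := hP b
      have hdvd : orderOf b ∣ p ^ j := orderOf_dvd_of_pow_eq_one hj
      obtain ⟨i, hi, hi2⟩ := (Nat.dvd_prime_pow hp.out).mp hdvd
      have hi0 : i ≠ 0 := by
        rintro rfl
        rw [pow_zero, orderOf_eq_one_iff] at hi2
        exact hb_ne hi2
      have hpd : p ∣ orderOf b := by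
        rw [hi2]; exact dvd_pow_self p hi0
      rw [orderOf_pow_of_dvd hp.out.ne_zero hpd]
      exact Nat.div_lt_self (orderOf_pos b) hp.out.one_lt
    exact hbmin (b ^ p) hmem hlt
  -- so c ^ p = 1
  have hcp : c⁻¹ ^ p = 1 := by
    have h1 := hconj_pow p
    rw [Subgroup.mem_centralizer_singleton_iff] at hbp
    have h2 : g * b ^ p * g⁻¹ = b ^ p := by
      rw [← hbp]; group
    rw [h2] at h1
    have := congrArg (fun t => t * (b ^ p)⁻¹) h1
    simp only [mul_inv_cancel, mul_assoc] at this
    rw [mul_one] at this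
    exact this.symm
  -- conjugating b by powers of g
  have hgk : ∀ i : ℕ, g ^ i * b * (g ^ i)⁻¹ = c⁻¹ ^ i * b := by
    intro i
    induction i with
    | zero => simp
    | succ i ih =>
      have h1 : g ^ (i + 1) * b * (g ^ (i + 1))⁻¹ = g * (g ^ i * b * (g ^ i)⁻¹) * g⁻¹ := by
        rw [pow_succ']; group
      rw [h1, ih]
      have h2 : g * (c⁻¹ ^ i * b) * g⁻¹ = (g * c⁻¹ ^ i * g⁻¹) * (g * b * g⁻¹) := by group
      rw [h2, hconj]
      have h3 : g * c⁻¹ ^ i * g⁻¹ = c⁻¹ ^ i := by
        have : Commute g (c⁻¹ ^ i) := (show Commute g c⁻¹ from hcinvg).pow_right i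
        rw [this.eq]; group
      rw [h3, pow_succ]; group
  have hfin : b ∈ Subgroup.centralizer ({g ^ p} : Set P) := by
    rw [Subgroup.mem_centralizer_singleton_iff]
    have := hgk p
    rw [hcp, one_mul] at this
    calc b * g ^ p = (g ^ p * b * (g ^ p)⁻¹) * g ^ p := by rw [this]
      _ = g ^ p * b := by group
  exact hbg (hg hfin)

/-- In a finite `p`-group with two class sizes, every self-centralizing abelian normal
subgroup contains all elements whose `p`-th power is not central. -/
theorem mem_of_pow_not_mem_center {P : Type*} [Group P] [Finite P] {p : ℕ} [hp : Fact p.Prime]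
    (hP : IsPGroup p P) (m : ℕ)
    (h : ∀ x : P, (Subgroup.centralizer ({x} : Set P)).index = 1 ∨
      (Subgroup.centralizer ({x} : Set P)).index = m)
    (A : Subgroup P) [A.Normal] (hA : IsMulCommutative A)
    (hAc : Subgroup.centralizer (A : Set P) = A) (g : P) (hg : g ^ p ∉ Subgroup.center P) :
    g ∈ A := by
  have h1 := cent_eq_of_le m h (cent_pow_le g p) hg
  have h2 := key_lemma hP A hA g h1.ge
  rw [← hAc, Subgroup.mem_centralizer_iff]
  intro a ha
  have := h2 ha
  rw [Subgroup.mem_centralizer_singleton_iff] at this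
  exact this

/-- Itô: a finite `p`-group with two class sizes has a self-centralizing abelian normal
subgroup `A` with `P / A` of exponent dividing `p`. -/
theorem exists_normal_abelian_pow_mem {P : Type*} [Group P] [Finite P] {p : ℕ} [hp : Fact p.Prime]
    (hP : IsPGroup p P) (m : ℕ)
    (h : ∀ x : P, (Subgroup.centralizer ({x} : Set P)).index = 1 ∨
      (Subgroup.centralizer ({x} : Set P)).index = m) :
    ∃ A : Subgroup P, A.Normal ∧ IsMulCommutative A ∧ Subgroup.centralizer (A : Set P) = A ∧
      ∀ y : P, y ^ p ∈ A := by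
  obtain ⟨A, hAn, hA, hAc⟩ := Cfsg.Agent.Lib.Helper10.exists_normal_abelian_self_centralizing p hP
  refine ⟨A, hAn, hA, hAc, ?_⟩
  intro y
  by_cases hy : y ^ p ∈ Subgroup.center P
  · rw [← hAc]
    exact Subgroup.center_le_centralizer _ hy
  · exact pow_mem (mem_of_pow_not_mem_center hP m h A hA hAc y hy) p


section Norm

/-- the "norm" of `a` under the automorphism `χ`: `a · χ(a) ⋯ χ^(p-1)(a)` -/
def aNorm {A : Type*} [CommGroup A] (p : ℕ) (χ : MulAut A) (a : A) : A :=
  ∏ k ∈ Finset.range p, (χ ^ k) a

theorem aNorm_one {A : Type*} [CommGroup A] (p : ℕ) (a : A) : aNorm p (1 : MulAut A) a = a ^ p := by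
  unfold aNorm
  simp

/-- the norm identity for two commuting automorphisms -/
theorem prod_aNorm {A : Type*} [CommGroup A] (p : ℕ) (φ ψ : MulAut A) (hc : Commute ψ φ) (a : A) :
    ∏ i ∈ Finset.range p, aNorm p (ψ * φ ^ i) a
      = ∏ j ∈ Finset.range p, (ψ ^ j) (aNorm p (φ ^ j) a) := by
  unfold aNorm
  rw [Finset.prod_comm]
  apply Finset.prod_congr rfl
  intro j _
  rw [map_prod]
  apply Finset.prod_congr rfl
  intro i _
  rw [(hc.pow_right i).mul_pow, MulAut.mul_apply, ← pow_mul, ← pow_mul, mul_comm i j]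

open scoped IsMulCommutative in
/-- `(a w)^n = a · a^w ⋯ · w^n` inside a group, for `a` in a commutative normal subgroup. -/
theorem mul_pow_eq_aNorm {P : Type*} [Group P] (A : Subgroup P) [A.Normal] [IsMulCommutative A]
    (w : P) (a : A) (n : ℕ) :
    ((a : P) * w) ^ n = ((aNorm n (MulAut.conjNormal w) a : A) : P) * w ^ n := by
  induction n with
  | zero => simp [aNorm]
  | succ n ih =>
    have h1 : aNorm (n + 1) (MulAut.conjNormal w) a
        = aNorm n (MulAut.conjNormal w) a * ((MulAut.conjNormal w : MulAut A) ^ n) a := by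
      unfold aNorm
      rw [Finset.prod_range_succ]
    rw [pow_succ, ih, h1, ← map_pow, Subgroup.coe_mul, MulAut.conjNormal_apply, pow_succ]
    group

end Norm

open scoped IsMulCommutative in

/-- Let P be a finite p-group whose conjugacy class sizes are exactly 1 and pᵃ for some a ≥ 1. Then every element of P has its p-th power in the center of P (P/Z(P) has exponent p). -/
theorem result {P : Type*} [Group P] [Finite P] (p : ℕ) [Fact p.Prime]
    (hP : IsPGroup p P) (a : ℕ) (ha : 1 ≤ a)
    (hcs : {k : ℕ | ∃ x : P, (Subgroup.centralizer ({x} : Set P)).index = k} = {1, p ^ a}) (x : P) :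
    x ^ p ∈ Subgroup.center P := by
  classical
  have hp : p.Prime := Fact.out
  have h : ∀ y : P, (Subgroup.centralizer ({y} : Set P)).index = 1 ∨
      (Subgroup.centralizer ({y} : Set P)).index = p ^ a := by
    intro y
    have : (Subgroup.centralizer ({y} : Set P)).index ∈
        {k : ℕ | ∃ x : P, (Subgroup.centralizer ({x} : Set P)).index = k} := ⟨y, rfl⟩
    rw [hcs] at this
    exact this
  by_contra hx
  by_cases ha1 : a = 1
  · subst ha1
    rw [pow_one] at h
    apply hx
    rw [Subgroup.mem_center_iff]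
    intro g
    have hmem : x ^ p ∈ Subgroup.centralizer ({g} : Set P) := by
      rcases h g with h1 | h1
      · rw [Subgroup.index_eq_one.mp h1]; exact Subgroup.mem_top _
      · have hN : (Subgroup.centralizer ({g} : Set P)).Normal := by
          apply Subgroup.normal_of_index_eq_minFac_card
          rw [h1]
          obtain ⟨n, hn⟩ := IsPGroup.iff_card.mp hP
          have hn0 : n ≠ 0 := by
            rintro rfl
            rw [pow_zero] at hn
            have hdvd := (Subgroup.centralizer ({g} : Set P)).index_dvd_card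
            rw [h1, hn] at hdvd
            exact hp.one_lt.ne' (Nat.dvd_one.mp hdvd)
          rw [hn]
          exact (Nat.Prime.pow_minFac hp hn0).symm
        have := Subgroup.pow_index_mem (Subgroup.centralizer ({g} : Set P)) x
        rwa [h1] at this
    rw [Subgroup.mem_centralizer_singleton_iff] at hmem
    exact hmem.symm
  · have ha2 : 2 ≤ a := by omega
    obtain ⟨A, hAn, hA, hAc, hApow⟩ := exists_normal_abelian_pow_mem hP (p ^ a) h
    have := hAn
    have := hA
    have hxA : x ∈ A := mem_of_pow_not_mem_center hP _ h A hA hAc x hx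
    have hZA : Subgroup.center P ≤ A := by
      rw [← hAc]; exact Subgroup.center_le_centralizer _
    have hout : ∀ u : P, u ∉ A → u ^ p ∈ Subgroup.center P := by
      intro u hu
      by_contra h'
      exact hu (mem_of_pow_not_mem_center hP _ h A hA hAc u h')
    have hcommA : ∀ b ∈ A, ∀ c ∈ A, b * c = c * b := by
      intro b hb c hc
      exact congrArg Subtype.val (mul_comm' (⟨b, hb⟩ : A) ⟨c, hc⟩)
    have hCx : Subgroup.centralizer ({x} : Set P) = A := by
      apply le_antisymm
      · intro u hu
        by_contra huA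
        have h1 := hout u huA
        have h2 : u * x ∉ A := by
          intro h'
          apply huA
          have := mul_mem h' (inv_mem hxA)
          rwa [mul_inv_cancel_right] at this
        have h3 := hout (u * x) h2
        rw [Subgroup.mem_centralizer_singleton_iff] at hu
        have hcomm : Commute u x := hu
        rw [hcomm.mul_pow] at h3
        have : x ^ p = (u ^ p)⁻¹ * (u ^ p * x ^ p) := by group
        rw [this] at hx
        exact hx (mul_mem (inv_mem h1) h3)
      · intro b hb
        rw [Subgroup.mem_centralizer_singleton_iff]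
        exact hcommA b hb x hxA
    have hxZ : x ∉ Subgroup.center P := fun h' => hx (pow_mem h' p)
    have hidx : A.index = p ^ a := by
      rcases h x with h1 | h1
      · exfalso
        apply hxZ
        rw [mem_center_iff_cent_eq_top]
        exact Subgroup.index_eq_one.mp h1
      · rw [← hCx]; exact h1
    have hQcard : Nat.card (P ⧸ A) = p ^ a := by
      rw [← Subgroup.index_eq_card]; exact hidx
    have hQp : IsPGroup p (P ⧸ A) := hP.to_quotient A
    have : Nontrivial (P ⧸ A) := by
      rw [← Finite.one_lt_card_iff_nontrivial, hQcard]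
      exact Nat.one_lt_pow (by omega) hp.one_lt
    have := hQp.center_nontrivial
    obtain ⟨⟨σ, hσZ⟩, hσ1⟩ := exists_ne (1 : Subgroup.center (P ⧸ A))
    have hσne : σ ≠ 1 := by
      intro h'
      apply hσ1
      exact Subtype.ext h'
    have hQpow : ∀ q : P ⧸ A, q ^ p = 1 := by
      intro q
      obtain ⟨u, rfl⟩ := QuotientGroup.mk_surjective q
      rw [← QuotientGroup.mk_pow, QuotientGroup.eq_one_iff]
      exact hApow u
    have hord : orderOf σ = p := orderOf_eq_prime (hQpow σ) hσne
    obtain ⟨ρ, hρ⟩ : ∃ ρ : P ⧸ A, ρ ∉ Subgroup.zpowers σ := by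
      by_contra hall
      push Not at hall
      have htop : Subgroup.zpowers σ = ⊤ := eq_top_iff.mpr (fun q _ => hall q)
      have hc : Nat.card (Subgroup.zpowers σ) = Nat.card (P ⧸ A) := by
        rw [htop, Subgroup.card_top]
      rw [Nat.card_zpowers, hord, hQcard] at hc
      have h1 : p ^ 1 = p ^ a := by rw [pow_one]; exact hc
      have := Nat.pow_right_injective hp.two_le h1
      omega
    obtain ⟨u, rfl⟩ := QuotientGroup.mk_surjective σ
    obtain ⟨v, rfl⟩ := QuotientGroup.mk_surjective ρ
    have hu_j : ∀ j : ℕ, j ≠ 0 → j < p → u ^ j ∉ A := by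
      intro j hj0 hjp hmem
      have h1 : ((u ^ j : P) : P ⧸ A) = 1 := (QuotientGroup.eq_one_iff _).mpr hmem
      rw [QuotientGroup.mk_pow] at h1
      exact pow_ne_one_of_lt_orderOf hj0 (by rw [hord]; exact hjp) h1
    have hvu : ∀ i : ℕ, v * u ^ i ∉ A := by
      intro i hmem
      apply hρ
      have h1 : ((v * u ^ i : P) : P ⧸ A) = 1 := (QuotientGroup.eq_one_iff _).mpr hmem
      rw [QuotientGroup.mk_mul, QuotientGroup.mk_pow] at h1
      have h2 : (v : P ⧸ A) = ((u : P ⧸ A) ^ i)⁻¹ := eq_inv_of_mul_eq_one_left h1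
      rw [h2]
      exact inv_mem (pow_mem (Subgroup.mem_zpowers _) i)
    -- commuting automorphisms
    have hk : (v * u)⁻¹ * (u * v) ∈ A := by
      rw [← QuotientGroup.eq_one_iff, QuotientGroup.mk_mul, QuotientGroup.mk_inv,
        QuotientGroup.mk_mul, QuotientGroup.mk_mul]
      have := (Subgroup.mem_center_iff.mp hσZ) (v : P ⧸ A)
      rw [← this]; group
    have hcomm : Commute (MulAut.conjNormal v : MulAut A) (MulAut.conjNormal u) := by
      apply MulEquiv.ext
      intro b
      apply Subtype.ext
      rw [MulAut.mul_apply, MulAut.mul_apply, MulAut.conjNormal_apply, MulAut.conjNormal_apply,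
        MulAut.conjNormal_apply, MulAut.conjNormal_apply]
      obtain ⟨k, hkk⟩ : ∃ k : P, k = (v * u)⁻¹ * (u * v) := ⟨_, rfl⟩
      rw [← hkk] at hk
      have h1 : u * v = v * u * k := by rw [hkk]; group
      have h2 : k * (b : P) * k⁻¹ = b := by
        rw [hcommA k hk b b.2]; group
      calc v * (u * (b : P) * u⁻¹) * v⁻¹ = (v * u) * (k * (b : P) * k⁻¹) * (v * u)⁻¹ := by
            rw [h2]; group
        _ = (v * u * k) * (b : P) * (v * u * k)⁻¹ := by group
        _ = u * (v * (b : P) * v⁻¹) * u⁻¹ := by rw [← h1]; group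
    -- central subgroup of A
    have hnorm : ∀ w : P, w ∉ A → ∀ b : A,
        ((aNorm p (MulAut.conjNormal w) b : A) : P) ∈ Subgroup.center P := by
      intro w hw b
      have h1 := mul_pow_eq_aNorm A w b p
      have h2 : (b : P) * w ∉ A := by
        intro h'
        apply hw
        have := mul_mem (inv_mem b.2) h'
        rwa [inv_mul_cancel_left] at this
      have h3 := hout _ h2
      have h4 := hout w hw
      have : ((aNorm p (MulAut.conjNormal w) b : A) : P) = ((b : P) * w) ^ p * (w ^ p)⁻¹ := by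
        rw [h1]; group
      rw [this]
      exact mul_mem h3 (inv_mem h4)
    have hfix : ∀ (w : P) (z : A), (z : P) ∈ Subgroup.center P →
        (MulAut.conjNormal w : MulAut A) z = z := by
      intro w z hz
      apply Subtype.ext
      rw [MulAut.conjNormal_apply, (Subgroup.mem_center_iff.mp hz) w]
      group
    obtain ⟨b, hb⟩ : ∃ b : A, b = ⟨x, hxA⟩ := ⟨_, rfl⟩
    have hid := prod_aNorm p (MulAut.conjNormal u : MulAut A) (MulAut.conjNormal v) hcomm b
    obtain ⟨Zc, hZc⟩ : ∃ Zc : Subgroup A, Zc = (Subgroup.center P).subgroupOf A := ⟨_, rfl⟩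
    have hmemZc : ∀ z : A, z ∈ Zc ↔ (z : P) ∈ Subgroup.center P := by
      intro z; rw [hZc, Subgroup.mem_subgroupOf]
    have hL : ∏ i ∈ Finset.range p,
        aNorm p ((MulAut.conjNormal v : MulAut A) * (MulAut.conjNormal u) ^ i) b ∈ Zc := by
      apply Subgroup.prod_mem
      intro i _
      rw [hmemZc, ← map_pow, ← map_mul]
      exact hnorm _ (hvu i) b
    rw [hid] at hL
    obtain ⟨p', hp'⟩ : ∃ p', p = p' + 1 := Nat.exists_eq_succ_of_ne_zero hp.ne_zero
    have hR : ∏ j ∈ Finset.range p, ((MulAut.conjNormal v : MulAut A) ^ j)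
          (aNorm p ((MulAut.conjNormal u : MulAut A) ^ j) b)
        = (∏ j ∈ Finset.range p', ((MulAut.conjNormal v : MulAut A) ^ (j + 1))
          (aNorm p ((MulAut.conjNormal u : MulAut A) ^ (j + 1)) b)) * b ^ p := by
      conv_lhs => rw [hp']
      rw [Finset.prod_range_succ']
      congr 1
      · rw [← hp']
      · rw [pow_zero, pow_zero, MulAut.one_apply, ← hp', aNorm_one]
    rw [hR] at hL
    have hM : (∏ j ∈ Finset.range p', ((MulAut.conjNormal v : MulAut A) ^ (j + 1))
          (aNorm p ((MulAut.conjNormal u : MulAut A) ^ (j + 1)) b)) ∈ Zc := by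
      apply Subgroup.prod_mem
      intro j hj
      rw [Finset.mem_range] at hj
      have h1 : ((aNorm p ((MulAut.conjNormal u : MulAut A) ^ (j + 1)) b : A) : P)
          ∈ Subgroup.center P := by
        rw [← map_pow]
        exact hnorm _ (hu_j (j + 1) (by omega) (by omega)) b
      rw [hmemZc, ← map_pow, hfix _ _ h1]
      exact h1
    have hbp : b ^ p ∈ Zc := by
      have := mul_mem (inv_mem hM) hL
      rwa [inv_mul_cancel_left] at this
    rw [hmemZc, hb] at hbp
    exact hx hbp

end Cfsg.Agent.S4365
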