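import Cfsg.Statements.S4370
import Mathlib
import Cfsg.Agent.Lib.Helper29.PrimePowerElement
import Cfsg.Agent.Lib.Helper21.Primary
import Cfsg.Agent.Lib.Helper18.UniqueInvolution
import Cfsg.Agent.S0016
-- import your own Cfsg.Agent.* helpers here

set_option autoImplicit false
open Cfsg

namespace Cfsg.Agent.S4370

open Subgroup

section fwd
variable {G : Type*} [Group G] [Finite G]

/-- if elements of prime power order pairwise commute, the group is commutative -/
theorem comm_of_primary_comm
    (h : ∀ u v : G, (∃ q a : ℕ, q.Prime ∧ orderOf u = q ^ a) →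
      (∃ r b : ℕ, r.Prime ∧ orderOf v = r ^ b) → u * v = v * u) :
    ∀ u v : G, u * v = v * u := by
  have hpart : ∀ (v : G) (q : ℕ), q.Prime → q ∣ orderOf v →
      ∃ r b : ℕ, r.Prime ∧ orderOf (v ^ (orderOf v / q ^ (orderOf v).factorization q)) = r ^ b := by
    intro v q hq hqn
    refine ⟨q, (orderOf v).factorization q, hq, ?_⟩
    exact orderOf_pow_orderOf_div (orderOf_pos v).ne' (Nat.ordProj_dvd _ _)
  -- u primary, v arbitrary
  have h1 : ∀ u v : G, (∃ q a : ℕ, q.Prime ∧ orderOf u = q ^ a) → u * v = v * u := by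
    intro u v hu
    have hmem : v ∈ centralizer ({u} : Set G) := by
      apply Cfsg.Agent.Lib.Helper21.mem_of_primary_parts_mem _ (orderOf v) v rfl (orderOf_pos v).ne'
      intro q hq hqn
      rw [Subgroup.mem_centralizer_singleton_iff]
      exact (h u _ hu (hpart v q hq hqn)).symm
    rw [Subgroup.mem_centralizer_singleton_iff] at hmem
    exact hmem.symm
  intro u v
  have hmem : u ∈ centralizer ({v} : Set G) := by
    apply Cfsg.Agent.Lib.Helper21.mem_of_primary_parts_mem _ (orderOf u) u rfl (orderOf_pos u).ne'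
    intro q hq hqn
    rw [Subgroup.mem_centralizer_singleton_iff]
    exact h1 _ v (hpart u q hq hqn)
  rw [Subgroup.mem_centralizer_singleton_iff] at hmem
  exact hmem

/-- every abelian subgroup is cyclic -/
theorem abelian_cyclic (hna : ¬ IsMulCommutative G)
    (hcyc : ∀ x : G, x ∉ center G → IsCyclic (centralizer ({x} : Set G)))
    (A : Subgroup G) (hA : ∀ a ∈ A, ∀ b ∈ A, a * b = b * a) : IsCyclic A := by
  -- find x with A ≤ C(x), x noncentral
  have key : ∃ x : G, x ∉ center G ∧ A ≤ centralizer ({x} : Set G) := by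
    by_cases hAZ : A ≤ center G
    · have : ∃ x : G, x ∉ center G := by
        by_contra hcon
        push Not at hcon
        apply hna
        refine ⟨⟨fun a b => ?_⟩⟩
        exact (Subgroup.mem_center_iff.mp (hcon b)) a
      obtain ⟨x, hx⟩ := this
      refine ⟨x, hx, fun a ha => ?_⟩
      rw [Subgroup.mem_centralizer_singleton_iff]
      exact ((Subgroup.mem_center_iff.mp (hAZ ha)) x).symm
    · obtain ⟨a, haA, haZ⟩ := SetLike.not_le_iff_exists.mp hAZ
      refine ⟨a, haZ, fun b hb => ?_⟩
      rw [Subgroup.mem_centralizer_singleton_iff]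
      exact hA b hb a haA
  obtain ⟨x, hx, hAx⟩ := key
  have := hcyc x hx
  -- A ≅ A.subgroupOf C, a subgroup of a cyclic group
  have e : A.subgroupOf (centralizer ({x} : Set G)) ≃* A := Subgroup.subgroupOfEquivOfLe hAx
  exact isCyclic_of_surjective e.toMonoidHom e.surjective

/-- in a `q`-subgroup, subgroups of order `q` are unique when all abelian subgroups are cyclic -/
theorem unique_prime_subgroup
    (hab : ∀ A : Subgroup G, (∀ a ∈ A, ∀ b ∈ A, a * b = b * a) → IsCyclic A)
    {q : ℕ} [Fact q.Prime] (Q : Subgroup G) (hQ : IsPGroup q Q) (H K : Subgroup Q)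
    (hH : Nat.card H = q) (hK : Nat.card K = q) : H = K := by
  have hq : q.Prime := Fact.out
  -- Q nontrivial
  have : Nontrivial Q := by
    have : Nontrivial H := by
      rw [← Finite.one_lt_card_iff_nontrivial, hH]; exact hq.one_lt
    obtain ⟨a, b, hab'⟩ := this
    exact ⟨⟨a.1, b.1, fun h => hab' (Subtype.ext h)⟩⟩
  have hZ : Nontrivial (center Q) := hQ.center_nontrivial
  have hZq : q ∣ Nat.card (center Q) := by
    obtain ⟨k, hk⟩ := (IsPGroup.iff_card (p := q)).mp (hQ.to_subgroup (center Q))
    rw [hk]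
    rcases Nat.eq_zero_or_pos k with h0 | hpos
    · exfalso
      rw [h0, pow_zero] at hk
      have := Finite.one_lt_card_iff_nontrivial.mpr hZ
      omega
    · exact dvd_pow_self q hpos.ne'
  obtain ⟨⟨z, hzc⟩, hzo⟩ := exists_prime_orderOf_dvd_card' (G := center Q) q hZq
  have hzo' : orderOf z = q := by
    rw [← hzo]; exact (Subgroup.orderOf_mk z hzc).symm
  -- claim
  have claim : ∀ s : Q, orderOf s = q → zpowers s = zpowers z := by
    intro s hs
    have hzs : ∀ a : Q, z * a = a * z := fun a => ((Subgroup.mem_center_iff.mp hzc) a).symm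
    obtain ⟨A', hA'⟩ : ∃ A' : Subgroup Q, A' = zpowers z ⊔ zpowers s := ⟨_, rfl⟩
    have h1 : ∀ a ∈ A', a * s = s * a := by
      intro a ha
      have : A' ≤ centralizer ({s} : Set Q) := by
        rw [hA']
        apply sup_le
        · rw [Subgroup.zpowers_le, Subgroup.mem_centralizer_singleton_iff]; exact hzs s
        · rw [Subgroup.zpowers_le, Subgroup.mem_centralizer_singleton_iff]
      have := this ha
      rwa [Subgroup.mem_centralizer_singleton_iff] at this
    have hcomm : ∀ a ∈ A', ∀ b ∈ A', a * b = b * a := by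
      intro a ha b hb
      have : A' ≤ centralizer ({a} : Set Q) := by
        rw [hA']
        apply sup_le
        · rw [Subgroup.zpowers_le, Subgroup.mem_centralizer_singleton_iff]; exact hzs a
        · rw [Subgroup.zpowers_le, Subgroup.mem_centralizer_singleton_iff]; exact (h1 a ha).symm
      have := this hb
      rw [Subgroup.mem_centralizer_singleton_iff] at this
      exact this.symm
    have hBc : IsCyclic (A'.map Q.subtype) := by
      apply hab
      rintro _ ⟨a, ha, rfl⟩ _ ⟨b, hb, rfl⟩
      rw [← map_mul, ← map_mul, hcomm a ha b hb]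
    obtain ⟨g₀, hg₀⟩ := (Subgroup.isCyclic_iff_exists_zpowers_eq_top _).mp hBc
    have hzB : (z : G) ∈ zpowers g₀ := by
      rw [hg₀]; exact ⟨z, by rw [hA']; exact (le_sup_left : zpowers z ≤ _) (mem_zpowers z), rfl⟩
    have hsB : (s : G) ∈ zpowers g₀ := by
      rw [hg₀]; exact ⟨s, by rw [hA']; exact (le_sup_right : zpowers s ≤ _) (mem_zpowers s), rfl⟩
    have hoz : orderOf (z : G) = q := by rw [Subgroup.orderOf_coe]; exact hzo'
    have hos : orderOf (s : G) = q := by rw [Subgroup.orderOf_coe]; exact hs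
    have hg0 : orderOf g₀ ≠ 0 := (orderOf_pos g₀).ne'
    have h2 := Cfsg.Agent.Lib.Helper18.mem_zpowers_of_orderOf_dvd g₀ (s : G) (z : G) hg0 hsB hzB
      (by rw [hoz, hos])
    have h3 := Cfsg.Agent.Lib.Helper18.mem_zpowers_of_orderOf_dvd g₀ (z : G) (s : G) hg0 hzB hsB
      (by rw [hoz, hos])
    apply le_antisymm
    · rw [Subgroup.zpowers_le]
      obtain ⟨k, hk⟩ := h2
      exact ⟨k, Subtype.ext (by simpa using hk)⟩
    · rw [Subgroup.zpowers_le]
      obtain ⟨k, hk⟩ := h3
      exact ⟨k, Subtype.ext (by simpa using hk)⟩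
  -- subgroups of order q are zpowers
  have hgen : ∀ L : Subgroup Q, Nat.card L = q → L = zpowers z := by
    intro L hL
    have hnt : Nontrivial L := by
      rw [← Finite.one_lt_card_iff_nontrivial, hL]; exact hq.one_lt
    obtain ⟨⟨s, hsL⟩, hs1⟩ := exists_ne (1 : L)
    have hs1' : s ≠ 1 := fun h => hs1 (Subtype.ext h)
    have hso : orderOf s = q := by
      have h1 : orderOf s ∣ q := by
        rw [← hL, ← Subgroup.orderOf_mk s hsL]
        exact orderOf_dvd_natCard _
      rcases (Nat.dvd_prime hq).mp h1 with h | h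
      · exact absurd (orderOf_eq_one_iff.mp h) hs1'
      · exact h
    rw [← claim s hso]
    symm
    apply Subgroup.eq_of_le_of_card_ge
    · rw [Subgroup.zpowers_le]; exact hsL
    · rw [hL, Nat.card_zpowers, hso]
  rw [hgen H hH, hgen K hK]

theorem isCyclic_of_le_cyclic {A C : Subgroup G} (hC : IsCyclic C) (h : A ≤ C) : IsCyclic A := by
  have e : A.subgroupOf C ≃* A := Subgroup.subgroupOfEquivOfLe h
  exact isCyclic_of_surjective e.toMonoidHom e.surjective

/-- the internal direct product isomorphism -/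
noncomputable def prodHomOfCommute (N H : Subgroup G)
    (hcomm : ∀ n ∈ N, ∀ h ∈ H, n * h = h * n) : N × H →* G where
  toFun := fun x => (x.1 : G) * (x.2 : G)
  map_one' := by simp
  map_mul' := by
    rintro ⟨⟨n₁, hn₁⟩, ⟨h₁, hh₁⟩⟩ ⟨⟨n₂, hn₂⟩, ⟨h₂, hh₂⟩⟩
    simp only [Prod.mk_mul_mk, MulMemClass.mk_mul_mk]
    calc n₁ * n₂ * (h₁ * h₂) = n₁ * (n₂ * h₁) * h₂ := by group
      _ = n₁ * (h₁ * n₂) * h₂ := by rw [hcomm n₂ hn₂ h₁ hh₁]
      _ = n₁ * h₁ * (n₂ * h₂) := by group

noncomputable def prodEquivOfComplement (N H : Subgroup G) (hc : IsComplement' N H)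
    (hcomm : ∀ n ∈ N, ∀ h ∈ H, n * h = h * n) : N × H ≃* G :=
  MulEquiv.ofBijective (prodHomOfCommute N H hcomm) hc

theorem forward (hG : Group.IsNilpotent G) (hna : ¬ IsMulCommutative G)
    (hcyc : ∀ x : G, x ∉ center G → IsCyclic (centralizer ({x} : Set G))) :
    ∃ (k m : ℕ), 1 ≤ k ∧ Odd m ∧
      Nonempty (G ≃* QuaternionGroup (2 ^ k) × Multiplicative (ZMod m)) := by
  have hab := abelian_cyclic hna hcyc
  have hsyl : ∀ (q : ℕ) [Fact q.Prime] (Q : Sylow q G),
      IsCyclic Q ∨ (q = 2 ∧ ∃ n : ℕ, Nonempty (Q ≃* QuaternionGroup (2 ^ n))) := by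
    intro q _ Q
    exact Cfsg.Agent.S0016.result q Q.isPGroup'
      (fun H K hH hK => unique_prime_subgroup hab Q Q.isPGroup' H K hH hK)
  haveI : Fact (Nat.Prime 2) := ⟨Nat.prime_two⟩
  obtain ⟨P⟩ : Nonempty (Sylow 2 G) := inferInstance
  -- P is not abelian
  have hPna : ¬ ∀ a ∈ (P : Subgroup G), ∀ b ∈ (P : Subgroup G), a * b = b * a := by
    intro hPab
    apply hna
    refine ⟨⟨?_⟩⟩
    apply comm_of_primary_comm
    rintro u v ⟨q, a, hq, hu⟩ ⟨r, b, hr, hv⟩
    haveI : Fact q.Prime := ⟨hq⟩
    haveI : Fact r.Prime := ⟨hr⟩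
    by_cases hqr : q = r
    · subst hqr
      -- both in the unique Sylow q-subgroup
      obtain ⟨Q⟩ : Nonempty (Sylow q G) := inferInstance
      have hmemQ : ∀ w : G, (∃ c : ℕ, orderOf w = q ^ c) → w ∈ (Q : Subgroup G) := by
        rintro w ⟨c, hw⟩
        have hz : IsPGroup q (zpowers w) := by
          apply IsPGroup.of_card (n := c)
          rw [Nat.card_zpowers, hw]
        obtain ⟨Q', hQ'⟩ := hz.exists_le_sylow
        have hQn : (Q : Subgroup G).Normal := inferInstance
        have := Sylow.unique_of_normal Q hQn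
        have hQQ : Q' = Q := Subsingleton.elim _ _
        rw [← hQQ]
        exact hQ' (mem_zpowers w)
      have huQ := hmemQ u ⟨a, hu⟩
      have hvQ := hmemQ v ⟨b, hv⟩
      rcases hsyl q Q with hc | ⟨h2, -⟩
      · have := hc
        have hcm : (⟨u, huQ⟩ : Q) * ⟨v, hvQ⟩ = ⟨v, hvQ⟩ * ⟨u, huQ⟩ :=
          (IsCyclic.isMulCommutative (α := Q)).is_comm.comm _ _
        exact congrArg Subtype.val hcm
      · subst h2
        have hPn : (P : Subgroup G).Normal := inferInstance
        have := Sylow.unique_of_normal P hPn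
        have hQP : Q = P := Subsingleton.elim _ _
        rw [hQP] at huQ hvQ
        exact hPab u huQ v hvQ
    · apply Cfsg.Agent.Lib.Helper29.commute_of_isNilpotent_of_coprime (q := q) hG u v a
      · rw [← hu]; exact pow_orderOf_eq_one u
      · rw [hv]
        exact Nat.Coprime.pow_left b ((Nat.coprime_primes hr hq).mpr (Ne.symm hqr))
  have hPcyc : ¬ IsCyclic P := by
    intro hc
    apply hPna
    intro a ha b hb
    have hcm : (⟨a, ha⟩ : P) * ⟨b, hb⟩ = ⟨b, hb⟩ * ⟨a, ha⟩ :=
      (IsCyclic.isMulCommutative (α := P)).is_comm.comm _ _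
    exact congrArg Subtype.val hcm
  obtain ⟨n, ⟨e1⟩⟩ : ∃ n : ℕ, Nonempty (P ≃* QuaternionGroup (2 ^ n)) := by
    rcases hsyl 2 P with hc | ⟨-, h⟩
    · exact absurd hc hPcyc
    · exact h
  have hn1 : 1 ≤ n := by
    by_contra hn0
    have h0 : n = 0 := by omega
    subst h0
    apply hPcyc
    have : IsCyclic (QuaternionGroup (2 ^ 0)) := by
      rw [pow_zero]; exact QuaternionGroup.quaternionGroup_one_isCyclic
    exact isCyclic_of_surjective e1.symm.toMonoidHom e1.symm.surjective
  -- complement
  obtain ⟨H, hH⟩ := Subgroup.exists_right_complement'_of_coprime P.card_coprime_index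
  have hHcard : (P : Subgroup G).index = Nat.card H := hH.symm.index_eq_card
  have hH2 : ¬ 2 ∣ Nat.card H := by
    rw [← hHcard]; exact P.not_dvd_index
  have hHodd : Odd (Nat.card H) := by
    rw [Nat.odd_iff]; omega
  have hcomm : ∀ a ∈ (P : Subgroup G), ∀ h ∈ H, a * h = h * a := by
    intro a ha h hh
    obtain ⟨k, hk⟩ := P.isPGroup' ⟨a, ha⟩
    apply Cfsg.Agent.Lib.Helper29.commute_of_isNilpotent_of_coprime (q := 2) hG a h k
    · have := congrArg Subtype.val hk
      simpa using this
    · have h1 : orderOf h ∣ Nat.card H := Subgroup.orderOf_dvd_natCard H hh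
      exact Nat.Coprime.coprime_dvd_left h1
        ((Nat.Prime.coprime_iff_not_dvd Nat.prime_two).mpr hH2).symm
  -- H is cyclic
  push Not at hPna
  obtain ⟨a, ha, b, hb, hab'⟩ := hPna
  have haZ : a ∉ center G := by
    intro h
    exact hab' ((Subgroup.mem_center_iff.mp h) b).symm
  have hHle : H ≤ centralizer ({a} : Set G) := by
    intro h hh
    rw [Subgroup.mem_centralizer_singleton_iff]
    exact (hcomm a ha h hh).symm
  have hHcyc : IsCyclic H := isCyclic_of_le_cyclic (hcyc a haZ) hHle
  exact ⟨n, Nat.card H, hn1, hHodd,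
    ⟨(prodEquivOfComplement P H hH hcomm).symm.trans
      (MulEquiv.prodCongr e1 (zmodCyclicMulEquiv hHcyc).symm)⟩⟩

end fwd

section bwd

theorem mem_zpowers_prod {A B : Type*} [Group A] [Group B] (w₁ : A) (w₂ : B) (N m : ℕ)
    (hN : w₁ ^ N = 1) (hm : w₂ ^ m = 1) (hco : N.Coprime m) (s d : ℕ) :
    (w₁ ^ s, w₂ ^ d) ∈ zpowers ((w₁, w₂) : A × B) := by
  obtain ⟨t, ht1, ht2⟩ := Nat.chineseRemainder hco s d
  rw [Subgroup.mem_zpowers_iff]
  refine ⟨(t : ℤ), ?_⟩
  rw [zpow_natCast]
  apply Prod.ext
  · show w₁ ^ t = w₁ ^ s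
    rw [pow_eq_pow_mod t hN, pow_eq_pow_mod s hN, ht1]
  · show w₂ ^ t = w₂ ^ d
    rw [pow_eq_pow_mod t hm, pow_eq_pow_mod d hm, ht2]

theorem zmod_add_self_eq_zero {n : ℕ} [NeZero n] (x : ZMod (2 * n)) (hx : x + x = 0) :
    x = 0 ∨ x = (n : ZMod (2 * n)) := by
  have h : ((x.val + x.val : ℕ) : ZMod (2 * n)) = 0 := by
    push_cast
    rw [ZMod.natCast_zmod_val]; exact hx
  have hdvd := (ZMod.natCast_eq_zero_iff _ _).mp h
  have hlt : x.val < 2 * n := ZMod.val_lt x
  obtain ⟨c, hc⟩ := hdvd
  have hn : 0 < n := Nat.pos_of_ne_zero (NeZero.ne n)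
  have hc2 : c = 0 ∨ c = 1 := by
    by_contra hcon
    push Not at hcon
    have : 2 ≤ c := by omega
    nlinarith
  rcases hc2 with rfl | rfl
  · left
    have : x.val = 0 := by omega
    exact (ZMod.val_eq_zero x).mp this
  · right
    have : x.val = n := by omega
    calc x = ((x.val : ℕ) : ZMod (2 * n)) := (ZMod.natCast_zmod_val x).symm
      _ = (n : ZMod (2 * n)) := by rw [this]

theorem quat_centralizer_le {n m : ℕ} [NeZero n] [NeZero m] (h1 : (2 * n).Coprime m)
    (h2 : Nat.Coprime 4 m) (y : QuaternionGroup n × Multiplicative (ZMod m))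
    (hy : y ∉ center (QuaternionGroup n × Multiplicative (ZMod m))) :
    ∃ w, centralizer ({y} : Set (QuaternionGroup n × Multiplicative (ZMod m))) ≤ zpowers w := by
  obtain ⟨q, c⟩ := y
  -- the generator of the cyclic factor
  have hZ1 : (Multiplicative.ofAdd (1 : ZMod m)) ^ m = 1 := by
    rw [← ofAdd_nsmul, nsmul_one, ZMod.natCast_self]; rfl
  have hZd : ∀ d : Multiplicative (ZMod m),
      d = (Multiplicative.ofAdd (1 : ZMod m)) ^ (Multiplicative.toAdd d).val := by
    intro d
    rw [← ofAdd_nsmul, nsmul_one, ZMod.natCast_zmod_val]; rfl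
  cases q with
  | a i =>
    -- i + i ≠ 0
    have hi : i + i ≠ 0 := by
      intro hi
      apply hy
      rw [Subgroup.mem_center_iff]
      rintro ⟨u, d⟩
      apply Prod.ext
      · cases u with
        | a j => simp only [Prod.mk_mul_mk, QuaternionGroup.a_mul_a, add_comm]
        | xa j =>
          simp only [Prod.mk_mul_mk, QuaternionGroup.xa_mul_a, QuaternionGroup.a_mul_xa]
          congr 1
          have : i = -i := eq_neg_of_add_eq_zero_left hi
          rw [sub_eq_add_neg, ← this]
      · simp only [Prod.mk_mul_mk]; exact mul_comm _ _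
    refine ⟨(QuaternionGroup.a 1, Multiplicative.ofAdd (1 : ZMod m)), ?_⟩
    rintro ⟨u, d⟩ hu
    rw [Subgroup.mem_centralizer_singleton_iff] at hu
    have hu1 : u * QuaternionGroup.a i = QuaternionGroup.a i * u := congrArg Prod.fst hu
    cases u with
    | a j =>
      have e1 : (QuaternionGroup.a j : QuaternionGroup n) = (QuaternionGroup.a 1) ^ j.val := by
        rw [QuaternionGroup.a_one_pow, ZMod.natCast_zmod_val]
      rw [e1, hZd d]
      exact mem_zpowers_prod _ _ (2 * n) m QuaternionGroup.a_one_pow_n hZ1 h1 _ _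
    | xa j =>
      exfalso
      rw [QuaternionGroup.xa_mul_a, QuaternionGroup.a_mul_xa] at hu1
      have h3 : j + i = j - i := by simpa using hu1
      apply hi
      have : i = -i := by
        have := add_left_cancel (a := j) (by rw [h3, sub_eq_add_neg] : j + i = j + -i)
        exact this
      calc i + i = i + -i := by rw [← this]
        _ = 0 := add_neg_cancel i
  | xa i =>
    refine ⟨(QuaternionGroup.xa i, Multiplicative.ofAdd (1 : ZMod m)), ?_⟩
    rintro ⟨u, d⟩ hu
    rw [Subgroup.mem_centralizer_singleton_iff] at hu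
    have hu1 : u * QuaternionGroup.xa i = QuaternionGroup.xa i * u := congrArg Prod.fst hu
    have key : ∃ s : ℕ, u = (QuaternionGroup.xa i) ^ s := by
      cases u with
      | a j =>
        rw [QuaternionGroup.xa_mul_a, QuaternionGroup.a_mul_xa] at hu1
        have h3 : i - j = i + j := by simpa using hu1
        have h4 : j + j = 0 := by
          have : -j = j := by
            have := add_left_cancel (a := i) (by rw [← h3, sub_eq_add_neg] : i + -j = i + j)
            exact this
          calc j + j = -j + j := by rw [this]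
            _ = 0 := neg_add_cancel j
        rcases zmod_add_self_eq_zero j h4 with rfl | rfl
        · exact ⟨0, by rw [pow_zero]; rfl⟩
        · exact ⟨2, by rw [QuaternionGroup.xa_sq]⟩
      | xa j =>
        rw [QuaternionGroup.xa_mul_xa, QuaternionGroup.xa_mul_xa] at hu1
        have h3 : (n : ZMod (2 * n)) + i - j = n + j - i := by simpa using hu1
        have h4 : (j - i) + (j - i) = 0 := by
          have : i - j = j - i := by
            have := add_left_cancel (a := (n : ZMod (2 * n)))
              (by rw [← add_sub_assoc, ← add_sub_assoc]; exact h3 :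
                (n : ZMod (2 * n)) + (i - j) = n + (j - i))
            exact this
          calc (j - i) + (j - i) = (i - j) + (j - i) := by rw [this]
            _ = 0 := by ring
        rcases zmod_add_self_eq_zero (j - i) h4 with h | h
        · refine ⟨1, ?_⟩
          rw [pow_one]
          congr 1
          exact sub_eq_zero.mp h
        · refine ⟨3, ?_⟩
          have : j = i + n := by rw [← h]; ring
          rw [this, pow_succ, QuaternionGroup.xa_sq, QuaternionGroup.a_mul_xa]
          congr 1
          have hnn : (n : ZMod (2 * n)) + n = 0 := by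
            have : ((2 * n : ℕ) : ZMod (2 * n)) = 0 := ZMod.natCast_self _
            rw [← this]; push_cast; ring
          have : (n : ZMod (2 * n)) = -n := eq_neg_of_add_eq_zero_left hnn
          rw [sub_eq_add_neg, ← this]
    obtain ⟨s, rfl⟩ := key
    rw [hZd d]
    exact mem_zpowers_prod _ _ 4 m (QuaternionGroup.xa_pow_four i) hZ1 h2 _ _

end bwd


/-- Let G be a finite non-abelian nilpotent group. Then the centralizer of every non-central element of G is cyclic if and only if G is isomorphic to the direct product of a generalized quaternion group and a cyclic group of odd order. -/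
theorem result {G : Type*} [Group G] [Finite G] (hG : Group.IsNilpotent G)
    (hna : ¬ IsMulCommutative G) :
    (∀ x : G, x ∉ Subgroup.center G → IsCyclic (Subgroup.centralizer ({x} : Set G))) ↔
      ∃ (k m : ℕ), 1 ≤ k ∧ Odd m ∧ Nonempty (G ≃* QuaternionGroup (2 ^ k) × Multiplicative (ZMod m)) := by
  constructor
  · exact forward hG hna
  · rintro ⟨k, m, hk, hm, ⟨e⟩⟩ x hx
    haveI : NeZero (2 ^ k) := ⟨by positivity⟩
    haveI : NeZero m := ⟨by rintro rfl; exact absurd hm (by decide)⟩
    have hm2 : Nat.Coprime 2 m := Nat.coprime_two_left.mpr hm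
    have h1 : (2 * 2 ^ k).Coprime m := by
      rw [← pow_succ']; exact Nat.Coprime.pow_left _ hm2
    have h2 : Nat.Coprime 4 m := by
      have : (4 : ℕ) = 2 ^ 2 := by norm_num
      rw [this]; exact Nat.Coprime.pow_left _ hm2
    have hy : e x ∉ center (QuaternionGroup (2 ^ k) × Multiplicative (ZMod m)) := by
      intro h
      apply hx
      rw [Subgroup.mem_center_iff]
      intro g
      apply e.injective
      rw [map_mul, map_mul]
      exact (Subgroup.mem_center_iff.mp h) (e g)
    obtain ⟨w, hw⟩ := quat_centralizer_le h1 h2 (e x) hy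
    have hc : IsCyclic (centralizer ({e x} : Set (QuaternionGroup (2 ^ k) × Multiplicative (ZMod m)))) :=
      isCyclic_of_le_cyclic (inferInstance : IsCyclic (zpowers w)) hw
    have hmem : ∀ g : centralizer ({x} : Set G),
        (e.toMonoidHom.comp (centralizer ({x} : Set G)).subtype) g ∈
          centralizer ({e x} : Set (QuaternionGroup (2 ^ k) × Multiplicative (ZMod m))) := by
      intro g
      rw [Subgroup.mem_centralizer_singleton_iff]
      show e g * e x = e x * e g
      rw [← map_mul, ← map_mul, Subgroup.mem_centralizer_singleton_iff.mp g.2]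
    have hinj : Function.Injective
        ((e.toMonoidHom.comp (centralizer ({x} : Set G)).subtype).codRestrict _ hmem) := by
      intro g g' hgg
      have := congrArg Subtype.val hgg
      exact Subtype.ext (e.injective this)
    exact isCyclic_of_injective _ hinj

end Cfsg.Agent.S4370
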