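import Cfsg.Statements.S4377
-- import your own Cfsg.Agent.* helpers here

set_option autoImplicit false
open Cfsg

namespace Cfsg.Agent.S4377

/-- Number of solutions of `g ^ n = 1` as a divisor sum of the numbers of elements of each order. -/
theorem card_pow_eq_one_eq_sum {G : Type*} [Group G] [Finite G] (n : ℕ) (hn : n ≠ 0) :
    Nat.card {g : G // g ^ n = 1} = ∑ d ∈ n.divisors, Nat.card {g : G // orderOf g = d} := by
  classical
  haveI := Fintype.ofFinite G
  have h2 := sum_card_orderOf_eq_card_pow_eq_one (G := G) hn
  rw [Nat.card_eq_fintype_card, Fintype.card_subtype]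
  convert h2.symm using 1
  refine Finset.sum_congr rfl (fun d _ => ?_)
  rw [Nat.card_eq_fintype_card, Fintype.card_subtype]

theorem card_orderOf_eq_zero {G : Type*} [Group G] [Finite G] :
    Nat.card {g : G // orderOf g = 0} = 0 := by
  have : IsEmpty {g : G // orderOf g = 0} := ⟨fun ⟨g, hg⟩ => (orderOf_pos g).ne' hg⟩
  exact Nat.card_of_isEmpty

theorem card_pow_card_eq_one {G : Type*} [Group G] [Finite G] (k : ℕ) :
    Nat.card {g : G // g ^ (Nat.card G * k) = 1} = Nat.card G := by
  have : ∀ g : G, g ^ (Nat.card G * k) = 1 := fun g => by rw [pow_mul, pow_card_eq_one', one_pow]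
  exact Nat.card_congr (Equiv.subtypeUnivEquiv this)


/-- Two finite groups have the same number of elements of each order if and only if, for every n, they have the same number of elements g with gⁿ = 1. -/
theorem result {G H : Type*} [Group G] [Finite G] [Group H] [Finite H] :
    (∀ n : ℕ, Nat.card {g : G // orderOf g = n} = Nat.card {h : H // orderOf h = n}) ↔
      ∀ n : ℕ, Nat.card {g : G // g ^ n = 1} = Nat.card {h : H // h ^ n = 1} := by
  constructor
  · intro h n
    have hpos : ∀ n : ℕ, n ≠ 0 →
        Nat.card {g : G // g ^ n = 1} = Nat.card {h : H // h ^ n = 1} := by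
      intro n hn
      rw [card_pow_eq_one_eq_sum n hn, card_pow_eq_one_eq_sum n hn]
      exact Finset.sum_congr rfl (fun d _ => h d)
    rcases Nat.eq_zero_or_pos n with rfl | hn
    · -- n = 0 : both sides are the group orders
      have hG : Nat.card {g : G // g ^ 0 = 1} = Nat.card G :=
        Nat.card_congr (Equiv.subtypeUnivEquiv (fun g => pow_zero g))
      have hH : Nat.card {g : H // g ^ 0 = 1} = Nat.card H :=
        Nat.card_congr (Equiv.subtypeUnivEquiv (fun g => pow_zero g))
      rw [hG, hH]
      have hN : Nat.card G * Nat.card H ≠ 0 :=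
        Nat.mul_ne_zero Nat.card_pos.ne' Nat.card_pos.ne'
      have := hpos _ hN
      rw [card_pow_card_eq_one] at this
      rw [this, mul_comm, card_pow_card_eq_one]
    · exact hpos n hn.ne'
  · intro h n
    induction n using Nat.strong_induction_on with
    | _ n ih =>
      rcases Nat.eq_zero_or_pos n with rfl | hn
      · rw [card_orderOf_eq_zero, card_orderOf_eq_zero]
      · have hG := card_pow_eq_one_eq_sum (G := G) n hn.ne'
        have hH := card_pow_eq_one_eq_sum (G := H) n hn.ne'
        rw [← Nat.cons_self_properDivisors hn.ne', Finset.sum_cons] at hG hH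
        have hsum : ∑ d ∈ n.properDivisors, Nat.card {g : G // orderOf g = d} =
            ∑ d ∈ n.properDivisors, Nat.card {g : H // orderOf g = d} :=
          Finset.sum_congr rfl (fun d hd => ih d (Nat.mem_properDivisors.mp hd).2)
        have := h n
        omega

end Cfsg.Agent.S4377
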