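import Cfsg.Statements.S4381
import Mathlib
import Cfsg.Agent.S0023
import Cfsg.Agent.Lib.Helper1.PGroup
import Cfsg.Agent.Lib.Helper20.ActionBridge
import Cfsg.Agent.Lib.Helper20.MaschkeGroup

set_option autoImplicit false
open Pointwise
open Cfsg

namespace Cfsg.Agent.S4381

open Pointwise
open Cfsg.Agent.Lib.Helper20


section
variable {A G : Type*} [Group A] [Group G] [MulDistribMulAction A G]

/-- `A`-invariance of a subgroup -/
def Inv (A : Type*) {G : Type*} [Group A] [Group G] [MulDistribMulAction A G] (L : Subgroup G) : Prop :=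
  ∀ a : A, ∀ x ∈ L, a • x ∈ L

/-- maximal `A`-invariant proper subgroup -/
def IsMaxInv (A : Type*) {G : Type*} [Group A] [Group G] [MulDistribMulAction A G]
    (M : Subgroup G) : Prop :=
  M ≠ ⊤ ∧ (∀ a : A, ∀ x ∈ M, a • x ∈ M) ∧
    ∀ L : Subgroup G, M < L → (∀ a : A, ∀ x ∈ L, a • x ∈ L) → L = ⊤

theorem inv_iff_map_le (L : Subgroup G) :
    Inv A L ↔ ∀ a : A, L.map (MulDistribMulAction.toMonoidHom G a) ≤ L := by
  constructor
  · rintro h a _ ⟨x, hx, rfl⟩
    exact h a x hx
  · intro h a x hx
    exact h a ⟨x, hx, rfl⟩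

theorem inv_sup {L₁ L₂ : Subgroup G} (h₁ : Inv A L₁) (h₂ : Inv A L₂) : Inv A (L₁ ⊔ L₂) := by
  rw [inv_iff_map_le] at h₁ h₂ ⊢
  intro a
  rw [Subgroup.map_sup]
  exact sup_le_sup (h₁ a) (h₂ a)

theorem inv_frattini : Inv A (frattini G) := by
  intro a x hx
  have h := (frattini_characteristic (G := G)).fixed (MulDistribMulAction.toMulAut A G a)⁻¹
  rw [← h, Subgroup.mem_comap]
  have : ((MulDistribMulAction.toMulAut A G a)⁻¹).toMonoidHom (a • x) = x := by
    show (MulDistribMulAction.toMulAut A G a)⁻¹ ((MulDistribMulAction.toMulAut A G a) x) = x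
    simp
  rw [this]; exact hx

theorem inv_comap_mk {N : Subgroup G} [N.Normal] (_hN : Inv A N) (φ : A → (G ⧸ N →* G ⧸ N))
    (hφ : ∀ (a : A) (x : G), φ a (QuotientGroup.mk x) = QuotientGroup.mk (a • x))
    (W : Subgroup (G ⧸ N)) (hW : ∀ a, ∀ y ∈ W, φ a y ∈ W) :
    Inv A (W.comap (QuotientGroup.mk' N)) := by
  intro a x hx
  rw [Subgroup.mem_comap] at hx ⊢
  have := hW a _ hx
  rwa [QuotientGroup.mk'_apply, hφ] at this

end

section
variable {A G : Type*} [Group A] [Finite A] [Group G] [Finite G] [MulDistribMulAction A G]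

/-- every proper invariant subgroup lies in a maximal invariant one -/
theorem exists_isMaxInv_ge (H : Subgroup G) (hH : H ≠ ⊤) (hinv : Inv A H) :
    ∃ M : Subgroup G, H ≤ M ∧ IsMaxInv A M := by
  classical
  have hfin : Set.Finite {L : Subgroup G | H ≤ L ∧ L ≠ ⊤ ∧ Inv A L} := Set.toFinite _
  have hne : {L : Subgroup G | H ≤ L ∧ L ≠ ⊤ ∧ Inv A L}.Nonempty := ⟨H, le_rfl, hH, hinv⟩
  obtain ⟨M, hM, hmax⟩ := hfin.exists_maximal hne
  refine ⟨M, hM.1, hM.2.1, hM.2.2, fun L hML hL => ?_⟩
  by_contra hLtop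
  have := hmax ⟨hM.1.trans hML.le, hLtop, hL⟩ hML.le
  exact (lt_irrefl _ (lt_of_lt_of_le hML this))

/-- a maximal invariant subgroup contains the Frattini subgroup -/
theorem frattini_le_of_isMaxInv {M : Subgroup G} (hM : IsMaxInv A M) : frattini G ≤ M := by
  obtain ⟨hMtop, hMinv, hMmax⟩ := hM
  by_contra hle
  have hlt : M < M ⊔ frattini G := by
    refine lt_of_le_of_ne le_sup_left fun h => hle ?_
    rw [h]; exact le_sup_right
  have htop := hMmax _ hlt (inv_sup hMinv inv_frattini)
  exact hMtop (frattini_nongenerating htop)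

/-- existence of an invariant Sylow subgroup (coprime action) -/
theorem exists_inv_sylow (hcop : (Nat.card A).Coprime (Nat.card G))
    (hsol : Group.IsSolvable A ∨ Group.IsSolvable G) (p : ℕ) [Fact p.Prime] :
    ∃ P : Subgroup G, Inv A P ∧ Nat.card P = p ^ (Nat.card G).factorization p := by
  have hinjl : Function.Injective (SemidirectProduct.inl : G →* Sd A G) :=
    SemidirectProduct.inl_injective
  have hcop' : (Nat.card (sdA A G)).Coprime (Nat.card (sdG A G)) := by
    rw [card_sdA, card_sdG]; exact hcop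
  have hsol' : Group.IsSolvable ↥(sdA A G) ∨ Group.IsSolvable ↥(sdG A G) := by
    rcases hsol with h | h
    · left
      exact Group.isSolvable_of_surjective
        (f := (MonoidHom.ofInjective (SemidirectProduct.inr_injective
          (φ := MulDistribMulAction.toMulAut A G))).toMonoidHom) (MulEquiv.surjective _)
    · right
      exact Group.isSolvable_of_surjective (f := (sdGEquiv A G).toMonoidHom)
        (MulEquiv.surjective _)
  obtain ⟨P, hP⟩ := Cfsg.Agent.S0023.result (sdA A G) (sdG A G) sdA_le_normalizer hcop' hsol' p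
  obtain ⟨Q, hQ⟩ : ∃ Q : Subgroup (Sd A G), Q = (P : Subgroup ↥(sdG A G)).map (sdG A G).subtype :=
    ⟨_, rfl⟩
  rw [← hQ] at hP
  have hQle : Q ≤ (SemidirectProduct.inl : G →* Sd A G).range := by
    rw [hQ]; exact Subgroup.map_subtype_le _
  have hmap : (Q.comap (SemidirectProduct.inl : G →* Sd A G)).map
      (SemidirectProduct.inl : G →* Sd A G) = Q := by
    rw [Subgroup.map_comap_eq]; exact inf_eq_right.mpr hQle
  refine ⟨Q.comap (SemidirectProduct.inl : G →* Sd A G), ?_, ?_⟩
  · show ∀ a : A, ∀ x ∈ Q.comap (SemidirectProduct.inl : G →* Sd A G), a • x ∈ _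
    rw [sd_invariant_iff, hmap]; exact hP
  · rw [← Subgroup.card_map_of_injective hinjl, hmap, hQ,
      Subgroup.card_map_of_injective (sdG A G).subtype_injective, P.card_eq_multiplicity, card_sdG]

end

/-- Let the finite group A act by automorphisms on the finite group G with the orders of A and G coprime, and assume that A or G is solvable. Call a proper A-invariant subgroup of G maximal A-invariant when no A-invariant subgroup lies strictly between it and G. Then all maximal A-invariant subgroups of G are conjugate under elements of the fixed-point subgroup C_G(A) if and only if G is a p-group for some prime p and A leaves invariant no subgroup strictly between the Frattini subgroup of G and G. In that case, if G is nontrivial, the Frattini subgroup is the only maximal A-invariant subgroup (a trivial G has none). -/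
theorem result {A G : Type*} [Group A] [Finite A]
    [Group G] [Finite G] [MulDistribMulAction A G] (hcop : (Nat.card A).Coprime (Nat.card G)) (hsol : Group.IsSolvable A ∨ Group.IsSolvable G) :
    ((∀ M N : Subgroup G, (M ≠ ⊤ ∧ (∀ a : A, ∀ x ∈ M, a • x ∈ M) ∧ ∀ L : Subgroup G, M < L → (∀ a : A, ∀ x ∈ L, a • x ∈ L) → L = ⊤) → (N ≠ ⊤ ∧ (∀ a : A, ∀ x ∈ N, a • x ∈ N) ∧ ∀ L : Subgroup G, N < L → (∀ a : A, ∀ x ∈ L, a • x ∈ L) → L = ⊤) →
        ∃ c : G, (∀ a : A, a • c = c) ∧ N = MulAut.conj c • M) ↔
      ((∃ p : ℕ, p.Prime ∧ IsPGroup p G) ∧ ∀ L : Subgroup G, frattini G < L → (∀ a : A, ∀ x ∈ L, a • x ∈ L) → L = ⊤)) ∧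
    (((∃ p : ℕ, p.Prime ∧ IsPGroup p G) ∧ ∀ L : Subgroup G, frattini G < L → (∀ a : A, ∀ x ∈ L, a • x ∈ L) → L = ⊤) →
      ∀ M : Subgroup G, (M ≠ ⊤ ∧ (∀ a : A, ∀ x ∈ M, a • x ∈ M) ∧ ∀ L : Subgroup G, M < L → (∀ a : A, ∀ x ∈ L, a • x ∈ L) → L = ⊤) ↔ (M = frattini G ∧ M ≠ ⊤)) := by
  classical
  -- reformulate with the abbreviations
  show ((∀ M N : Subgroup G, IsMaxInv A M → IsMaxInv A N →
        ∃ c : G, (∀ a : A, a • c = c) ∧ N = MulAut.conj c • M) ↔
      ((∃ p : ℕ, p.Prime ∧ IsPGroup p G) ∧ ∀ L : Subgroup G, frattini G < L → Inv A L → L = ⊤)) ∧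
    (((∃ p : ℕ, p.Prime ∧ IsPGroup p G) ∧ ∀ L : Subgroup G, frattini G < L → Inv A L → L = ⊤) →
      ∀ M : Subgroup G, IsMaxInv A M ↔ (M = frattini G ∧ M ≠ ⊤))
  -- Part 2
  have part2 : ((∃ p : ℕ, p.Prime ∧ IsPGroup p G) ∧
      ∀ L : Subgroup G, frattini G < L → Inv A L → L = ⊤) →
      ∀ M : Subgroup G, IsMaxInv A M ↔ (M = frattini G ∧ M ≠ ⊤) := by
    rintro ⟨-, hirr⟩ M
    constructor
    · intro hM
      refine ⟨?_, hM.1⟩
      have hle := frattini_le_of_isMaxInv hM
      by_contra hne
      exact hM.1 (hirr M (lt_of_le_of_ne hle (Ne.symm hne)) hM.2.1)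
    · rintro ⟨rfl, hne⟩
      exact ⟨hne, inv_frattini, fun L hL hLinv => hirr L hL hLinv⟩
  refine ⟨⟨?_, ?_⟩, part2⟩
  · -- (⇒)
    intro hconj
    -- Step A: G is a p-group
    have stepA : ∃ p : ℕ, p.Prime ∧ IsPGroup p G := by
      by_contra hnp
      have hnt : (⊥ : Subgroup G) ≠ ⊤ := by
        intro h
        apply hnp
        refine ⟨2, Nat.prime_two, fun g => ⟨0, ?_⟩⟩
        have : g ∈ (⊥ : Subgroup G) := by rw [h]; exact Subgroup.mem_top g
        rw [Subgroup.mem_bot] at this
        rw [this, one_pow]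
      obtain ⟨M₀, -, hM₀⟩ := exists_isMaxInv_ge (A := A) (⊥ : Subgroup G) hnt
        (fun a x hx => by rw [Subgroup.mem_bot] at hx ⊢; rw [hx, smul_one])
      have hdvd : Nat.card G ∣ Nat.card M₀ := by
        rw [Nat.dvd_iff_prime_pow_dvd_dvd]
        intro r k hr hrk
        haveI : Fact r.Prime := ⟨hr⟩
        obtain ⟨P, hPinv, hPcard⟩ := exists_inv_sylow (A := A) hcop hsol r
        have hPtop : P ≠ ⊤ := by
          intro h
          apply hnp
          refine ⟨r, hr, ?_⟩
          have : IsPGroup r ↥P := IsPGroup.of_card hPcard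
          rw [h] at this
          exact IsPGroup.of_equiv this Subgroup.topEquiv
        obtain ⟨M, hPM, hM⟩ := exists_isMaxInv_ge (A := A) P hPtop hPinv
        obtain ⟨c, -, hc⟩ := hconj M₀ M hM₀ hM
        have hcardM : Nat.card M = Nat.card M₀ := by
          rw [hc]; exact Cfsg.Agent.Lib.Helper1.card_conj_smul _ _
        have h1 : r ^ (Nat.card G).factorization r ∣ Nat.card M₀ := by
          rw [← hcardM, ← hPcard]; exact Subgroup.card_dvd_of_le hPM
        have h2 : k ≤ (Nat.card G).factorization r :=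
          (hr.pow_dvd_iff_le_factorization Nat.card_pos.ne').mp hrk
        exact (pow_dvd_pow r h2).trans h1
      apply hM₀.1
      apply Subgroup.eq_top_of_le_card
      exact Nat.le_of_dvd Nat.card_pos hdvd
    refine ⟨stepA, ?_⟩
    obtain ⟨p, hp, hpG⟩ := stepA
    haveI : Fact p.Prime := ⟨hp⟩
    -- Step B
    intro L hΦL hLinv
    by_contra hLtop
    obtain ⟨M₁, hLM₁, hM₁⟩ := exists_isMaxInv_ge (A := A) L hLtop hLinv
    -- every maximal invariant subgroup equals M₁
    have hcomm : commutator G ≤ frattini G :=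
      Cfsg.Agent.Lib.Helper1.IsPGroup.commutator_le_frattini hpG
    have huniq : ∀ M : Subgroup G, IsMaxInv A M → M = M₁ := by
      intro M hM
      obtain ⟨c, -, hc⟩ := hconj M₁ M hM₁ hM
      have hΦM₁ := frattini_le_of_isMaxInv hM₁
      have hnorm : M₁.Normal := by
        constructor
        intro n hn g
        have h1 : g * n * g⁻¹ * n⁻¹ ∈ commutator G := by
          rw [commutator_def]
          have := Subgroup.commutator_mem_commutator (Subgroup.mem_top g) (Subgroup.mem_top n)
          rwa [commutatorElement_def] at this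
        have h2 := M₁.mul_mem (hΦM₁ (hcomm h1)) hn
        simpa using h2
      rw [hc]
      exact Subgroup.Normal.conj_smul_eq_self c M₁
    have hsub : ∀ H : Subgroup G, H ≠ ⊤ → Inv A H → H ≤ M₁ := by
      intro H hH hHinv
      obtain ⟨M, hHM, hM⟩ := exists_isMaxInv_ge (A := A) H hH hHinv
      rw [← huniq M hM]; exact hHM
    have hΦM₁ : frattini G < M₁ := lt_of_lt_of_le hΦL hLM₁
    -- the quotient by the Frattini subgroup
    haveI hΦn : (frattini G).Normal := inferInstance
    have hcommQ : ∀ x y : G ⧸ frattini G, x * y = y * x := by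
      intro x y
      induction x using QuotientGroup.induction_on with
      | H x =>
        induction y using QuotientGroup.induction_on with
        | H y =>
          rw [← QuotientGroup.mk_mul, ← QuotientGroup.mk_mul, QuotientGroup.eq]
          apply hcomm
          rw [commutator_def]
          have := Subgroup.commutator_mem_commutator (Subgroup.mem_top y⁻¹) (Subgroup.mem_top x⁻¹)
          rw [commutatorElement_def] at this
          have e : (x * y)⁻¹ * (y * x) = y⁻¹ * x⁻¹ * y⁻¹⁻¹ * x⁻¹⁻¹ := by group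
          rw [e]; exact this
    letI : CommGroup (G ⧸ frattini G) :=
      { (inferInstance : Group (G ⧸ frattini G)) with mul_comm := hcommQ }
    have hexp : ∀ x : G ⧸ frattini G, x ^ p = 1 := by
      intro x
      induction x using QuotientGroup.induction_on with
      | H x =>
        rw [← QuotientGroup.mk_pow, QuotientGroup.eq_one_iff]
        exact Cfsg.Agent.Lib.Helper1.IsPGroup.pow_mem_frattini hpG x
    -- induced operators
    have hle : ∀ a : A, frattini G ≤
        (frattini G).comap (MulDistribMulAction.toMonoidHom G a) := by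
      intro a x hx
      exact inv_frattini a x hx
    obtain ⟨φ, hφdef⟩ : ∃ φ : A → (G ⧸ frattini G →* G ⧸ frattini G),
        φ = fun a => QuotientGroup.map (frattini G) (frattini G)
          (MulDistribMulAction.toMonoidHom G a) (hle a) := ⟨_, rfl⟩
    have hφ : ∀ (a : A) (x : G), φ a (QuotientGroup.mk x) = QuotientGroup.mk (a • x) := by
      intro a x; rw [hφdef]; rfl
    have hφ1 : φ 1 = MonoidHom.id _ := by
      ext x
      simp only [MonoidHom.coe_comp, Function.comp_apply, QuotientGroup.coe_mk', MonoidHom.id_apply]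
      rw [hφ, one_smul]
    have hφmul : ∀ a b, φ (a * b) = (φ a).comp (φ b) := by
      intro a b
      ext x
      simp only [MonoidHom.coe_comp, Function.comp_apply, QuotientGroup.coe_mk']
      rw [hφ, hφ, hφ, mul_smul]
    have hcopQ : (Nat.card A).Coprime (Nat.card (G ⧸ frattini G)) :=
      Nat.Coprime.coprime_dvd_right
        (Subgroup.index_eq_card (frattini G) ▸ Subgroup.index_dvd_card (frattini G)) hcop
    obtain ⟨U, hUdef⟩ : ∃ U : Subgroup (G ⧸ frattini G),
        U = M₁.map (QuotientGroup.mk' (frattini G)) := ⟨_, rfl⟩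
    have hUinv : ∀ a, ∀ y ∈ U, φ a y ∈ U := by
      intro a y hy
      rw [hUdef] at hy ⊢
      obtain ⟨m, hm, rfl⟩ := hy
      rw [QuotientGroup.mk'_apply, hφ]
      exact ⟨a • m, hM₁.2.1 a m hm, rfl⟩
    obtain ⟨W, hUW, hUWtop⟩ := exists_compl_of_exponent_prime hp hexp U
    obtain ⟨W', hW'inv, hUW', hUW'top⟩ :=
      exists_invariant_compl φ hφ1 hφmul hcopQ U W hUinv hUW hUWtop
    obtain ⟨C, hCdef⟩ : ∃ C : Subgroup G, C = W'.comap (QuotientGroup.mk' (frattini G)) :=
      ⟨_, rfl⟩
    have hCinv : Inv A C := by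
      rw [hCdef]; exact inv_comap_mk inv_frattini φ hφ W' hW'inv
    have hcomapU : U.comap (QuotientGroup.mk' (frattini G)) = M₁ := by
      rw [hUdef, Subgroup.comap_map_eq, QuotientGroup.ker_mk']
      exact sup_eq_left.mpr hΦM₁.le
    have hCsup : C ⊔ M₁ = ⊤ := by
      rw [eq_top_iff]
      intro g _
      have hg : (QuotientGroup.mk' (frattini G)) g ∈ U ⊔ W' := by rw [hUW'top]; exact Subgroup.mem_top _
      obtain ⟨u, hu, w, hw, huw⟩ := Subgroup.mem_sup.mp hg
      obtain ⟨m, hm, rfl⟩ := (hUdef ▸ hu : u ∈ M₁.map (QuotientGroup.mk' (frattini G)))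
      -- g = m * (m⁻¹ g), and m⁻¹ g maps to w
      have hw' : m⁻¹ * g ∈ C := by
        rw [hCdef, Subgroup.mem_comap, map_mul, map_inv, ← huw, inv_mul_cancel_left]
        exact hw
      have : g = (m⁻¹ * g) * ((m⁻¹ * g)⁻¹ * m * (m⁻¹ * g)) := by group
      rw [this]
      refine Subgroup.mul_mem_sup hw' ?_
      have hnorm : M₁.Normal := by
        constructor
        intro n hn g'
        have h1 : g' * n * g'⁻¹ * n⁻¹ ∈ commutator G := by
          rw [commutator_def]
          have := Subgroup.commutator_mem_commutator (Subgroup.mem_top g') (Subgroup.mem_top n)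
          rwa [commutatorElement_def] at this
        have h2 := M₁.mul_mem (hΦM₁.le (hcomm h1)) hn
        simpa using h2
      have := hnorm.conj_mem m hm (m⁻¹ * g)⁻¹
      simpa using this
    have hCtop : C ≠ ⊤ := by
      intro h
      have hW'top : W' = ⊤ := by
        rw [eq_top_iff]
        intro y _
        obtain ⟨g, rfl⟩ := QuotientGroup.mk'_surjective (frattini G) y
        have : g ∈ C := by rw [h]; exact Subgroup.mem_top g
        rw [hCdef, Subgroup.mem_comap] at this
        exact this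
      rw [hW'top, inf_top_eq] at hUW'
      have : M₁ ≤ frattini G := by
        intro m hm
        rw [← hcomapU, hUW', Subgroup.mem_comap, Subgroup.mem_bot] at hm
        exact (QuotientGroup.eq_one_iff m).mp hm
      exact (lt_irrefl _ (lt_of_lt_of_le hΦM₁ this))
    have hCM₁ := hsub C hCtop hCinv
    rw [sup_eq_right.mpr hCM₁] at hCsup
    exact hM₁.1 hCsup
  · -- (⇐)
    intro hR M N hM hN
    have hM' := (part2 hR M).mp hM
    have hN' := (part2 hR N).mp hN
    refine ⟨1, fun a => smul_one a, ?_⟩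
    rw [map_one, one_smul, hM'.1, hN'.1]

end Cfsg.Agent.S4381
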