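import Cfsg.Statements.S4387
-- import your own Cfsg.Agent.* helpers here

set_option autoImplicit false
open Pointwise
open Cfsg

namespace Cfsg.Agent.S4387

/-- Let G be a non-trivial finite group in which any two maximal subgroups are conjugate. Then G is cyclic of prime-power order. -/
theorem result {G : Type*} [Group G] [Finite G] [Nontrivial G]
    (h : ∀ M N : Subgroup G, IsCoatom M → IsCoatom N → ∃ g : G, N = MulAut.conj g • M) :
    IsCyclic G ∧ IsPrimePow (Nat.card G) := by
  classical
  have hidx : ∀ (g : G) (K : Subgroup G), (MulAut.conj g • K).index = K.index := by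
    intro g K
    rw [Subgroup.pointwise_smul_def]
    apply Subgroup.index_map_of_bijective
    exact (MulAut.conj g).bijective
  -- a coatom exists
  obtain ⟨M, hM, -⟩ : ∃ M : Subgroup G, IsCoatom M ∧ (⊥ : Subgroup G) ≤ M := by
    rcases eq_top_or_exists_le_coatom (⊥ : Subgroup G) with h0 | h0
    · exact absurd h0 bot_ne_top
    · exact h0
  have hMi : M.index ≠ 1 := fun h1 => hM.1 (Subgroup.index_eq_one.mp h1)
  obtain ⟨p, hp, hpM⟩ := Nat.exists_prime_and_dvd hMi
  have : Fact p.Prime := ⟨hp⟩
  obtain ⟨P⟩ : Nonempty (Sylow p G) := inferInstance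
  have hPtop : (P : Subgroup G) = ⊤ := by
    rcases eq_top_or_exists_le_coatom (P : Subgroup G) with h0 | ⟨N, hN, hPN⟩
    · exact h0
    · exfalso
      obtain ⟨g, hg⟩ := h M N hM hN
      have h1 : N.index = M.index := by rw [hg, hidx]
      have h2 : N.index ∣ (P : Subgroup G).index := Subgroup.index_dvd_of_le hPN
      exact P.not_dvd_index ((h1 ▸ hpM).trans h2)
  have hpG : IsPGroup p G := by
    intro g
    obtain ⟨k, hk⟩ := P.isPGroup' ⟨g, hPtop ▸ Subgroup.mem_top g⟩
    exact ⟨k, by simpa [Subtype.ext_iff] using hk⟩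
  constructor
  · -- cyclic
    have : Group.IsNilpotent G := hpG.isNilpotent
    have hMn : M.Normal :=
      Subgroup.NormalizerCondition.normal_of_coatom M Group.normalizerCondition_of_isNilpotent hM
    have huniq : ∀ N : Subgroup G, IsCoatom N → N = M := by
      intro N hN
      obtain ⟨g, hg⟩ := h M N hM hN
      rw [hg, Subgroup.Normal.conj_smul_eq_self]
    obtain ⟨x, -, hx⟩ := SetLike.exists_of_lt (lt_top_iff_ne_top.mpr hM.1)
    rw [isCyclic_iff_exists_zpowers_eq_top]
    refine ⟨x, ?_⟩
    rcases eq_top_or_exists_le_coatom (Subgroup.zpowers x) with h0 | ⟨N, hN, hxN⟩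
    · exact h0
    · exfalso
      rw [huniq N hN] at hxN
      exact hx (hxN (Subgroup.mem_zpowers x))
  · obtain ⟨k, hk⟩ := IsPGroup.iff_card.mp hpG
    rw [hk]
    have hk0 : k ≠ 0 := by
      rintro rfl
      have := Finite.one_lt_card (α := G)
      rw [hk, pow_zero] at this
      omega
    exact hp.isPrimePow.pow hk0

end Cfsg.Agent.S4387
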