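import Cfsg.Statements.S4395
import Cfsg.Agent.Lib.Helper21.SchMain1
import Cfsg.Agent.Lib.Helper21.SchMain2
import Cfsg.Agent.Lib.Helper21.SchMain3

set_option autoImplicit false
universe u
open Cfsg
open Cfsg.Agent.Lib.Helper21.Sch
open Cfsg.Agent.Lib.Helper21.SchLeaves
open Cfsg.Agent.Lib.Helper21.SchMain

namespace Cfsg.Agent.S4395

/-- Let p ≠ q be primes, r ≥ 1, a the multiplicative order of p modulo q, and a₀ = a when a is odd, a₀ = 3a/2 when a is even. Call a finite group minimal non-p-nilpotent when it has no normal p-complement but every proper subgroup has one. Then there is a minimal non-p-nilpotent group G₀ of order p^a₀ · q^r such that every minimal non-p-nilpotent group of order p^t · q^r (any t) is a quotient of G₀ by a central subgroup. -/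
theorem result (p q r : ℕ) [Fact p.Prime] [Fact q.Prime] (hpq : p ≠ q) (hr : 1 ≤ r) (a a₀ : ℕ)
    (ha : a = orderOf (p : ZMod q)) (ha₀ : a₀ = if a % 2 = 1 then a else 3 * a / 2) :
    ∃ (G₀ : Type u) (_ : Group G₀) (_ : Finite G₀),
      (¬ Cfsg.HasNormalPComplement p G₀ ∧ ∀ K : Subgroup G₀, K ≠ ⊤ → Cfsg.HasNormalPComplement p ↥K) ∧ Nat.card G₀ = p ^ a₀ * q ^ r ∧
      ∀ (X : Type u) [Group X] [Finite X], (¬ Cfsg.HasNormalPComplement p X ∧ ∀ K : Subgroup X, K ≠ ⊤ → Cfsg.HasNormalPComplement p ↥K) →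
        (∃ t : ℕ, Nat.card X = p ^ t * q ^ r) → ∃ φ : G₀ →* X, Function.Surjective φ ∧ φ.ker ≤ Subgroup.center G₀ := by
  have hpp : p.Prime := Fact.out
  have hqp : q.Prime := Fact.out
  have hcop : (q ^ r).Coprime p := Nat.Coprime.pow_left r ((Nat.coprime_primes hqp hpp).mpr (Ne.symm hpq))
  have hcop' : p.Coprime q := (Nat.coprime_primes hpp hqp).mpr hpq
  obtain ⟨K, _, _, _, ω, hK, hω⟩ := exists_field.{u} p q hpq
  rw [← ha] at hK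
  have hω0 : ω ≠ 0 := by
    rintro rfl
    rw [orderOf_zero] at hω
    · exact hqp.ne_zero hω.symm
  have hω1 : ω ≠ 1 := by
    rintro rfl
    rw [orderOf_one] at hω
    exact hqp.one_lt.ne hω
  have hωq : ω ^ q = 1 := by rw [← hω]; exact pow_orderOf_eq_one _
  have hspan : ∀ S : AddSubgroup K, (1 : K) ∈ S → (∀ v ∈ S, ω * v ∈ S) → S = ⊤ :=
    fun S h1 hS => addSubgroup_eq_top p q hpq (by rw [← ha]; exact hK) ω hω S h1 hS
  have hirr := addSubgroup_eq_bot_or_top ω hspan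
  have hgeom := geom_sum_omega q ω hω
  have hidx : ∀ N : AddSubgroup K, (∀ m : ℕ, ω ^ m + ω⁻¹ ^ m ∈ N) → N.index ≤ p ^ bb a :=
    fun N hN => index_le p q hpq a hK ω hω hspan N hN
  -- the upper bound
  have hub : ∀ {Y : Type u} [Group Y] [Finite Y] (𝔡 : Frame p ω Y), 𝔡.IsComm → 𝔡.y ^ (q ^ r) = 1 →
      𝔡.IsTight ∧ Nat.card 𝔡.P ≤ p ^ (a + bb a) := fun 𝔡 hc hy =>
    ub 𝔡 q hcop' hω0 hspan hgeom a (bb a) hK hidx (q ^ r) hy hcop hc
  -- the universal group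
  have hG₀ : ∃ (G₀ : Type u) (_ : Group G₀) (_ : Finite G₀) (𝔣₀ : Frame p ω G₀),
      𝔣₀.IsGen ∧ 𝔣₀.IsComm ∧ orderOf 𝔣₀.y = q ^ r ∧ p ^ (a + bb a) ≤ Nat.card 𝔣₀.P ∧
      ∃ k : ℕ, Nat.card 𝔣₀.P = p ^ k := by
    by_cases hodd : a % 2 = 1
    · obtain ⟨G₀, i1, i2, 𝔣₀, h1, h2, h3, h4⟩ := exists_G0_odd p q r hr ω hω
      refine ⟨G₀, i1, i2, 𝔣₀, h1, h2, h3, ?_, a, by rw [h4, hK]⟩
      rw [h4, hK]
      unfold bb
      rw [if_pos hodd, add_zero]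
    · obtain ⟨G₀, i1, i2, 𝔣₀, h1, h2, h3, h4, h5⟩ := exists_G0_even p q r hpq hr a ha hodd hK ω hω
      refine ⟨G₀, i1, i2, 𝔣₀, h1, h2, h3, ?_, h5⟩
      unfold bb
      rw [if_neg hodd]
      exact h4
  obtain ⟨G₀, _, _, 𝔣₀, hgen₀, hc₀, hy₀, hge₀, k, hk⟩ := hG₀
  have hy₀n : 𝔣₀.y ^ (q ^ r) = 1 := by rw [← hy₀]; exact pow_orderOf_eq_one _
  obtain ⟨ht₀, hle₀⟩ := hub 𝔣₀ hc₀ hy₀n
  have hcard₀ : Nat.card 𝔣₀.P = p ^ (a + bb a) := le_antisymm hle₀ hge₀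
  have hP₀ : IsPGroup p 𝔣₀.P := IsPGroup.of_card hcard₀
  have hcardG : Nat.card G₀ = p ^ a₀ * q ^ r := by
    rw [card_eq_of_frame 𝔣₀ q r hpq hgen₀ hP₀ hy₀, hcard₀, ha₀, add_bb]
  refine ⟨G₀, inferInstance, inferInstance,
    minimal_of_frame 𝔣₀ q r hpq hω1 hωq hirr hgen₀ ht₀ hP₀ hy₀, hcardG, ?_⟩
  intro X _ _ hX hXcard
  obtain ⟨t, ht⟩ := hXcard
  obtain ⟨𝔣, hgen, htight, hP, hy⟩ := exists_frame_of_minimal p q r hpq (by rw [← ha]; exact hK) ω hω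
    hX.1 hX.2 t ht
  exact exists_hom_of_frames q r (a + bb a) hpq hω1 𝔣₀ 𝔣 hgen₀ hgen ht₀ htight hP₀ hP hy₀ hy hcard₀
    (fun 𝔡 hc hy => (hub 𝔡 hc hy).2)

end Cfsg.Agent.S4395
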