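import Cfsg.Statements.S4405
import Cfsg.Agent.Lib.Helper16.Order320
import Cfsg.Agent.Lib.Helper16.Extraspecial
import Cfsg.Agent.Lib.Helper16.PCore
import Cfsg.Agent.Lib.Helper8.HallSCN1
import Cfsg.Agent.Lib.Lead.CharBurnside

set_option autoImplicit false
open Cfsg

namespace Cfsg.Agent.S4405

/-- Let G be a finite group of order 320 = 64·5 whose largest normal 2-subgroup H = O₂(G) equals the Fitting subgroup F(G) and is extraspecial of order 32 containing no elementary abelian subgroup of order 8 (so H is the central product of a quaternion group and a dihedral group of order 8). If T is an involution of G outside H whose centralizer in H contains an elementary abelian subgroup of order 4, then C_H(T) itself is elementary abelian of order 4. -/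
theorem result {G : Type*} [Group G] [Finite G]
    (hG : Nat.card G = 320) (hHF : Cfsg.pCore 2 G = Cfsg.fittingSubgroup G)
    (hex : Cfsg.IsExtraspecial 2 ↥(Cfsg.pCore 2 G)) (h32 : Nat.card ↥(Cfsg.pCore 2 G) = 32)
    (hminus : ∀ A : Subgroup G, A ≤ Cfsg.pCore 2 G → Cfsg.IsElementaryAbelian 2 A → Nat.card ↥A ≤ 4)
    (T : G) (hT : orderOf T = 2) (hTH : T ∉ Cfsg.pCore 2 G)
    (V : Subgroup G) (hV : V ≤ Cfsg.pCore 2 G ⊓ Subgroup.centralizer ({T} : Set G)) (hV4 : Nat.card ↥V = 4) (hVe : Cfsg.IsElementaryAbelian 2 V) :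
    Nat.card ↥(Cfsg.pCore 2 G ⊓ Subgroup.centralizer ({T} : Set G)) = 4 ∧
      Cfsg.IsElementaryAbelian 2 (Cfsg.pCore 2 G ⊓ Subgroup.centralizer ({T} : Set G)) := by
  classical
  have hF2 : Fact (Nat.Prime 2) := ⟨Nat.prime_two⟩
  have hHn : (Cfsg.pCore 2 G).Normal := inferInstance
  -- solvability and self-centralizing Fitting subgroup
  have hsolv : Group.IsSolvable G :=
    Cfsg.Agent.CharLib.isSolvable_of_card_pq 2 5 6 1 Nat.prime_two (by norm_num) (by rw [hG]; norm_num)
  have hCH : Subgroup.centralizer (Cfsg.pCore 2 G : Set G) ≤ Cfsg.pCore 2 G := by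
    have := Cfsg.Agent.Lib.Helper8.HallSCN.centralizer_fitting_le (G := G)
    rw [← hHF] at this
    exact this
  obtain ⟨z', hz1', hzZ, hzz', hZall, hcomm', hsq'⟩ := Cfsg.Agent.Lib.Helper16.extraspecial_basic hex
  have hz1 : (z' : G) ≠ 1 := by
    intro h; apply hz1'; exact Subtype.ext h
  have hzz : (z' : G) * (z' : G) = 1 := congrArg Subtype.val hzz'
  have hzH : (z' : G) ∈ Cfsg.pCore 2 G := z'.2
  -- elements of H central in H are 1 or z
  have hcenH : ∀ w : G, w ∈ Cfsg.pCore 2 G → (∀ h ∈ Cfsg.pCore 2 G, w * h = h * w) → w = 1 ∨ w = (z' : G) := by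
    intro w hw hwc
    have hmem : (⟨w, hw⟩ : ↥(Cfsg.pCore 2 G)) ∈ Subgroup.center ↥(Cfsg.pCore 2 G) := by
      rw [Subgroup.mem_center_iff]
      intro h
      apply Subtype.ext
      exact (hwc h.1 h.2).symm
    rcases hZall _ hmem with h | h
    · left; exact congrArg Subtype.val h
    · right; exact congrArg Subtype.val h
  have hzcH : ∀ h ∈ Cfsg.pCore 2 G, h * (z' : G) = (z' : G) * h := by
    intro h hh
    have := Subgroup.mem_center_iff.mp hzZ ⟨h, hh⟩
    exact congrArg Subtype.val this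
  have hzc : ∀ g : G, g * (z' : G) = (z' : G) * g := by
    intro g
    have hwH : g * (z' : G) * g⁻¹ ∈ Cfsg.pCore 2 G := hHn.conj_mem _ hzH g
    have hwc : ∀ h ∈ Cfsg.pCore 2 G, g * (z' : G) * g⁻¹ * h = h * (g * (z' : G) * g⁻¹) := by
      intro h hh
      have h1 : g⁻¹ * h * g ∈ Cfsg.pCore 2 G := by
        have := hHn.conj_mem _ hh g⁻¹
        simpa using this
      have h2 := hzcH _ h1
      calc g * (z' : G) * g⁻¹ * h = g * ((z' : G) * (g⁻¹ * h * g)) * g⁻¹ := by group
        _ = g * ((g⁻¹ * h * g) * (z' : G)) * g⁻¹ := by rw [h2]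
        _ = h * (g * (z' : G) * g⁻¹) := by group
    rcases hcenH _ hwH hwc with h | h
    · exfalso; apply hz1
      have : (z' : G) = g⁻¹ * (g * (z' : G) * g⁻¹) * g := by group
      rw [this, h]; group
    · calc g * (z' : G) = (g * (z' : G) * g⁻¹) * g := by group
        _ = (z' : G) * g := by rw [h]
  have hcomm : ∀ a ∈ Cfsg.pCore 2 G, ∀ b ∈ Cfsg.pCore 2 G,
      a⁻¹ * b⁻¹ * a * b = 1 ∨ a⁻¹ * b⁻¹ * a * b = (z' : G) := by
    intro a ha b hb
    have h1 := hcomm' (⟨a, ha⟩⁻¹) (⟨b, hb⟩⁻¹)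
    rcases hZall _ h1 with h | h
    · left
      have := congrArg Subtype.val h
      simpa [commutatorElement_def] using this
    · right
      have := congrArg Subtype.val h
      simpa [commutatorElement_def] using this
  have hsq : ∀ a ∈ Cfsg.pCore 2 G, a * a = 1 ∨ a * a = (z' : G) := by
    intro a ha
    have h1 := hsq' ⟨a, ha⟩
    rcases hZall _ h1 with h | h
    · left
      have := congrArg Subtype.val h
      simpa [pow_two] using this
    · right
      have := congrArg Subtype.val h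
      simpa [pow_two] using this
  have hcen : ∀ w : G, (∀ h ∈ Cfsg.pCore 2 G, w * h = h * w) → w = 1 ∨ w = (z' : G) := by
    intro w hw
    apply hcenH w _ hw
    apply hCH
    rw [Subgroup.mem_centralizer_iff]
    intro h hh
    exact (hw h hh).symm
  have hcore : ∀ N : Subgroup G, N.Normal → IsPGroup 2 N → N ≤ Cfsg.pCore 2 G :=
    fun N hN hp => Cfsg.Agent.Lib.Helper16.le_pCore hN hp
  have hminus' : ∀ A : Subgroup G, A ≤ Cfsg.pCore 2 G → (∀ a ∈ A, ∀ b ∈ A, a * b = b * a) →
      (∀ a ∈ A, a * a = 1) → Nat.card A ≤ 4 := by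
    intro A hA hAc hA2
    apply hminus A hA
    refine ⟨⟨⟨fun a b => Subtype.ext (hAc a.1 a.2 b.1 b.2)⟩⟩, ?_⟩
    intro a ha
    rw [pow_two]; exact hA2 a ha
  have hTT : T * T = 1 := by
    have := pow_orderOf_eq_one T
    rw [hT, pow_two] at this
    exact this
  have key := Cfsg.Agent.Lib.Helper16.Order320.core_argument (Cfsg.pCore 2 G) (z' : G) hG h32 hz1 hzz hzH hzc
    hcomm hsq hcen hcore hminus' T hTT hTH V hV hV4
  rw [key]
  exact ⟨hV4, hVe⟩

end Cfsg.Agent.S4405
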