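import Cfsg.Statements.S4408
import Cfsg.Agent.Lib.Helper19.DihedralLemma
import Cfsg.Agent.S0044
import Cfsg.Agent.Lib.Helper1.Fitting

set_option autoImplicit false
open Cfsg

namespace Cfsg.Agent.S4408

/-- Let S be a finite solvable group whose Fitting subgroup F(S) has odd order, and let I be an elementary abelian 2-subgroup of S of order 2ⁿ with n ≥ 1. Then F(S) contains subgroups A₁, …, Aₙ of prime order, each normalized by I, pairwise commuting and generating a subgroup A of order |A₁|⋯|Aₙ| (their internal direct product), such that no non-identity element of I centralizes A. -/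
theorem result {S : Type*} [Group S] [Finite S]
    [Group.IsSolvable S] (hF : Odd (Nat.card ↥(Cfsg.fittingSubgroup S)))
    (I : Subgroup S) (hI : Cfsg.IsElementaryAbelian 2 I) (n : ℕ) (hn : 1 ≤ n) (hIn : Nat.card ↥I = 2 ^ n) :
    ∃ f : Fin n → Subgroup S, (∀ i, (Nat.card ↥(f i)).Prime) ∧ (∀ i, f i ≤ Cfsg.fittingSubgroup S) ∧
      (∀ i, I ≤ Subgroup.normalizer ((f i) : Set S)) ∧ (∀ i j, i ≠ j → ∀ a ∈ f i, ∀ b ∈ f j, a * b = b * a) ∧
      Nat.card ↥(⨆ i, f i) = ∏ i, Nat.card ↥(f i) ∧ I ⊓ Subgroup.centralizer ((⨆ i, f i : Subgroup S) : Set S) = ⊥ := by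
  classical
  set F : Subgroup S := Cfsg.fittingSubgroup S with hFdef
  have hFnorm : F.Normal := Cfsg.Agent.Lib.Helper1.fittingSubgroup_normal S
  have hFnil : Group.IsNilpotent ↥F := Cfsg.Agent.Lib.Helper1.fittingSubgroup_isNilpotent S
  have hAc : ∀ a ∈ I, ∀ b ∈ I, a * b = b * a := by
    intro a ha b hb
    have := hI.1.is_comm.comm (⟨a, ha⟩ : ↥I) ⟨b, hb⟩
    exact congrArg Subtype.val this
  have hA2 : ∀ a ∈ I, a * a = 1 := fun a ha => by rw [← pow_two]; exact hI.2 a ha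
  have hAF : I ≤ Subgroup.normalizer (F : Set S) := by
    rw [Subgroup.normalizer_eq_top]; exact le_top
  have hfaith : ∀ b ∈ I, Cfsg.Agent.Lib.Helper19.DihedralLemma.Cen b F → b = 1 := by
    intro b hb hcen
    have h1 : b ∈ Subgroup.centralizer (F : Set S) :=
      Cfsg.Agent.Lib.Helper19.DihedralLemma.cen_iff_mem_centralizer.mp hcen
    have h2 : b ∈ F := Cfsg.Agent.S0044.result h1
    exact Cfsg.Agent.Lib.Helper19.DihedralLemma.eq_one_of_sq_of_odd hF h2 (hA2 b hb)
  obtain ⟨b, Q, _, _, h3, _, _, _, h7, h8, h9⟩ :=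
    Cfsg.Agent.Lib.Helper19.DihedralLemma.nilpotent_core I F hF hFnil hAc hA2 hAF n I le_rfl hIn hfaith
  refine ⟨Q, fun i => (h3 i).2.1, fun i => (h3 i).1, fun i => (h3 i).2.2, h8, h9, ?_⟩
  rw [eq_bot_iff]
  rintro c ⟨hcI, hcC⟩
  rw [Subgroup.mem_bot]
  apply h7 c hcI
  intro i
  rw [Cfsg.Agent.Lib.Helper19.DihedralLemma.cen_iff_mem_centralizer]
  exact Subgroup.centralizer_le (by exact_mod_cast (le_iSup Q i)) hcC

end Cfsg.Agent.S4408
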