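import Cfsg.Statements.S4410
-- import your own Cfsg.Agent.* helpers here
import Cfsg.Agent.Lib.Helper29.Transv
import Cfsg.Agent.Lib.Helper1.Fitting
import Cfsg.Agent.S0044


set_option autoImplicit false
set_option linter.style.haveILetI false
open Cfsg
open Cfsg.Agent.Lib.Helper1 Cfsg.Agent.Lib.Helper29.Transv

namespace Cfsg.Agent.S4410

/-- if `O₂(G) = 1` the Fitting subgroup has odd order -/
theorem odd_orderOf_of_mem_fitting {G : Type*} [Group G] [Finite G] (hO2 : Cfsg.pCore 2 G = ⊥) :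
    ∀ g ∈ Cfsg.fittingSubgroup G, Odd (orderOf g) := by
  set F := Cfsg.fittingSubgroup G with hF
  haveI : Group.IsNilpotent ↥F := fittingSubgroup_isNilpotent G
  haveI : F.Normal := fittingSubgroup_normal G
  haveI : Fact (Nat.Prime 2) := ⟨Nat.prime_two⟩
  obtain ⟨P⟩ : Nonempty (Sylow 2 ↥F) := inferInstance
  have hchar : (P : Subgroup ↥F).Characteristic := Sylow.characteristic_of_normal P inferInstance
  have h1 : ((P : Subgroup ↥F).map F.subtype).Normal := inferInstance
  have h2 : IsPGroup 2 ((P : Subgroup ↥F).map F.subtype) := P.isPGroup'.map F.subtype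
  have h3 : (P : Subgroup ↥F).map F.subtype ≤ Cfsg.pCore 2 G := le_pCore h1 h2
  rw [hO2, le_bot_iff] at h3
  have h4 : (P : Subgroup ↥F) = ⊥ :=
    (Subgroup.map_eq_bot_iff_of_injective _ F.subtype_injective).mp h3
  have h5 : ¬ 2 ∣ Nat.card ↥F := by
    have := P.not_dvd_index
    rwa [h4, Subgroup.index_bot] at this
  intro g hg
  have h6 : orderOf g ∣ Nat.card ↥F := by
    have := orderOf_dvd_natCard (⟨g, hg⟩ : ↥F)
    rwa [← Subgroup.orderOf_coe] at this
  rw [← Nat.not_even_iff_odd, even_iff_two_dvd]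
  exact fun h => h5 (h.trans h6)


open ZModModule in
theorem main {V : Type*} [AddCommGroup V] [Module (ZMod 2) V] [Finite V]
    (S : Subgroup (V ≃ₗ[ZMod 2] V)) (hS : Group.IsSolvable ↥S) (hO2 : Cfsg.pCore 2 ↥S = ⊥)
    (P : V ≃ₗ[ZMod 2] V) (hPS : P ∈ S) (hP4 : orderOf P = 4) :
    4 ≤ Nat.card ↥(LinearMap.range (((P : V →ₗ[ZMod 2] V) - LinearMap.id) ^ 2)) := by
  classical
  by_contra hcon
  push Not at hcon
  haveI : Finite (V ≃ₗ[ZMod 2] V) :=
    Finite.of_injective (fun f : V ≃ₗ[ZMod 2] V => (f : V → V)) DFunLike.coe_injective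
  set N : V →ₗ[ZMod 2] V := (P : V →ₗ[ZMod 2] V) - LinearMap.id with hN
  set R := LinearMap.range (N ^ 2) with hR
  have hN2 : ∀ x, (N ^ 2) x = P (P x) - x := by
    intro x
    rw [pow_two, Module.End.mul_apply, hN]
    simp only [LinearMap.sub_apply, LinearMap.id_apply, LinearEquiv.coe_coe, map_sub]
    have e : P (P x) - P x - (P x - x) = P (P x) - x - 2 • (P x) + 2 • x := by abel
    rw [e, char_nsmul_eq_zero 2, char_nsmul_eq_zero 2, sub_zero, add_zero]
  have hmemR : ∀ x, P (P x) - x ∈ R := fun x => ⟨x, hN2 x⟩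
  -- `R` has at most two elements
  have hsmall : ∀ a ∈ R, ∀ b ∈ R, a ≠ 0 → b ≠ 0 → a = b := by
    intro a ha b hb ha0 hb0
    by_contra hab
    have hab0 : a + b ≠ 0 := by
      intro h
      apply hab
      have := eq_neg_of_add_eq_zero_left h
      rwa [ZModModule.neg_eq_self] at this
    have hsub : ({0, a, b, a + b} : Set V) ⊆ (R : Set V) := by
      intro x hx
      rcases hx with rfl | rfl | rfl | rfl
      · exact R.zero_mem
      · exact ha
      · exact hb
      · exact R.add_mem ha hb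
    have hc : ({0, a, b, a + b} : Set V).ncard = 4 := by
      rw [Set.ncard_insert_of_notMem, Set.ncard_insert_of_notMem, Set.ncard_pair]
      · intro h
        apply ha0
        have := add_left_cancel (a := b) (b := a) (c := 0) (by rw [add_zero, add_comm]; exact h.symm)
        exact this
      · intro h
        rcases h with h | h
        · exact hab h
        · apply hb0
          have : a + 0 = a + b := by rw [add_zero]; exact h
          exact (add_left_cancel this).symm
      · intro h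
        rcases h with h | h | h
        · exact ha0 h.symm
        · exact hb0 h.symm
        · exact hab0 h.symm
    have h1 := Set.ncard_le_ncard hsub (Set.toFinite _)
    rw [hc] at h1
    have h2 : Nat.card ↥R = (R : Set V).ncard := Nat.card_coe_set_eq (R : Set V)
    omega
  -- the group `Γ = S`
  haveI : Group.IsSolvable ↥S := hS
  set ρ : ↥S →* (V ≃ₗ[ZMod 2] V) := S.subtype with hρ
  set π : ↥S := ⟨P, hPS⟩ with hπ
  set τ : ↥S := π * π with hτ
  have hP4' : P ^ 4 = 1 := by rw [← hP4]; exact pow_orderOf_eq_one P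
  have hτ2 : τ * τ = 1 := by
    apply Subtype.ext
    show (P * P) * (P * P) = 1
    rw [← hP4', pow_succ, pow_succ, pow_two, mul_assoc (P * P)]
  have hPP : P * P ≠ 1 := by
    intro h
    have : orderOf P ∣ 2 := orderOf_dvd_of_pow_eq_one (by rw [pow_two]; exact h)
    rw [hP4] at this
    omega
  have hτ1 : τ ≠ 1 := fun h => hPP (congrArg Subtype.val h)
  have hρτ : ∀ x, ρ τ x = P (P x) := fun x => rfl
  obtain ⟨x₀, hx₀⟩ : ∃ x₀, P (P x₀) ≠ x₀ := by
    by_contra h
    push Not at h
    apply hPP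
    ext x
    exact h x
  set v : V := P (P x₀) - x₀ with hv
  have hv0 : v ≠ 0 := fun h => hx₀ (sub_eq_zero.mp h)
  have T : TV ρ τ v := by
    refine ⟨S.subtype_injective, hτ2, hv0, fun x => ?_, ⟨x₀, rfl⟩⟩
    by_cases h : ρ τ x - x = 0
    · exact Or.inl h
    · right
      exact hsmall _ (hmemR x) _ (hmemR x₀) h hv0
  -- the Fitting subgroup
  set F := Cfsg.fittingSubgroup ↥S with hF
  haveI hFnil : Group.IsNilpotent ↥F := fittingSubgroup_isNilpotent ↥S
  haveI hFn : F.Normal := fittingSubgroup_normal ↥S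
  have hFodd := odd_orderOf_of_mem_fitting hO2
  have hCF : Subgroup.centralizer (F : Set ↥S) ≤ F := Cfsg.Agent.S0044.result
  have hτC : τ ∉ Subgroup.centralizer (F : Set ↥S) := by
    intro h
    apply hτ1
    apply TV.eq_one_of_odd_of_pow τ (hFodd τ (hCF h)) 1
    rw [pow_one, pow_two]; exact hτ2
  rw [Subgroup.mem_centralizer_iff] at hτC
  push Not at hτC
  obtain ⟨f, hfF, hfτ⟩ := hτC
  have htt : ∀ y : ↥S, τ * (τ * y) = y := fun y => by rw [← mul_assoc, hτ2, one_mul]
  have hτinv : τ⁻¹ = τ := T.t_inv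
  -- an inverted element
  set h₀ : ↥S := f⁻¹ * (τ * f * τ) with hh₀
  have hh₀F : h₀ ∈ F := by
    apply F.mul_mem (F.inv_mem hfF)
    have := hFn.conj_mem f hfF τ
    rwa [hτinv] at this
  have hh₀inv : τ * h₀ * τ = h₀⁻¹ := by
    rw [hh₀]
    simp only [mul_inv_rev, inv_inv, hτinv, mul_assoc, htt, hτ2, mul_one]
  have hh₀1 : h₀ ≠ 1 := by
    intro h
    apply hfτ
    have h1 : τ * f * τ = f := by
      have := mul_eq_one_iff_eq_inv'.mp h
      rw [inv_inv] at this
      exact this.symm ▸ rfl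
    calc f * τ = (τ * f * τ) * τ := by rw [h1]
      _ = τ * f := by rw [mul_assoc, hτ2, mul_one]
  obtain ⟨hh₀3, -⟩ := T.cube h₀ hh₀inv (hFodd h₀ hh₀F) hh₀1
  -- its conjugate under `π`
  set k : ↥S := π * h₀ * π⁻¹ with hk
  have hkF : k ∈ F := hFn.conj_mem h₀ hh₀F π
  have hπτ : τ * π = π * τ := by rw [hτ, mul_assoc]
  have hkinv : τ * k * τ = k⁻¹ := by
    have e : τ * k * τ = π * (τ * h₀ * τ) * π⁻¹ := by
      rw [hk, hτ]; group
    rw [e, hh₀inv, hk]; group
  have hk1 : k ≠ 1 := by
    intro h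
    apply hh₀1
    have : h₀ = π⁻¹ * k * π := by rw [hk]; group
    rw [this, h, mul_one, inv_mul_cancel]
  have hτk : τ * h₀ * τ⁻¹ = π * k * π⁻¹ := by rw [hk, hτ]; group
  have hfin : h₀ = h₀⁻¹ → False := by
    intro h
    apply hh₀1
    apply TV.eq_one_of_odd_of_pow h₀ (hFodd h₀ hh₀F) 1
    rw [pow_one, pow_two]
    nth_rewrite 2 [h]
    exact mul_inv_cancel h₀
  have hh₀i : h₀⁻¹ = h₀ * h₀ := inv_eq_of_mul_eq_one_left hh₀3
  rw [hτinv, hh₀inv] at hτk
  rcases T.unique_inverted F hFnil hFodd h₀ k hh₀F hkF hh₀inv hkinv hh₀1 hk1 with e | e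
  · -- `k = h₀`
    apply hfin
    have : π * k * π⁻¹ = h₀ := by
      rw [e]; rw [hk] at e; exact e
    rw [hτk, this]
  · -- `k = h₀⁻¹`
    apply hfin
    rw [← hh₀i] at e
    have : π * k * π⁻¹ = h₀ := by
      have e2 : π * h₀⁻¹ * π⁻¹ = k⁻¹ := by rw [hk]; group
      rw [e, e2, e, inv_inv]
    rw [hτk, this]

/-- Let V be a finite-dimensional vector space over the field with two elements and S a solvable group of linear automorphisms of V with O₂(S) = 1. If P ∈ S has order 4 and (P − 1)³ = 0 on V, then the image of (P − 1)² has at least 4 elements; equivalently, in the decomposition of V into indecomposable modules for the cyclic group generated by P, at least two summands have dimension 3. -/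
theorem result
    {V : Type*} [AddCommGroup V] [Module (ZMod 2) V] [Finite V]
    (S : Subgroup (V ≃ₗ[ZMod 2] V)) (hS : Group.IsSolvable ↥S) (hO2 : Cfsg.pCore 2 ↥S = ⊥)
    (P : V ≃ₗ[ZMod 2] V) (hPS : P ∈ S) (hP4 : orderOf P = 4)
    (hcub : ((P : V →ₗ[ZMod 2] V) - LinearMap.id) ^ 3 = 0) :
    4 ≤ Nat.card ↥(LinearMap.range (((P : V →ₗ[ZMod 2] V) - LinearMap.id) ^ 2)) := by
  exact main S hS hO2 P hPS hP4

end Cfsg.Agent.S4410
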