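import Cfsg.Statements.S4412
import Cfsg.Agent.Lib.Helper29.ElemEight
import Cfsg.Agent.Lib.Helper1.PGroup


set_option autoImplicit false
set_option linter.style.haveILetI false
open Cfsg
open Subgroup Cfsg.Agent.Lib.Helper1 Cfsg.Agent.Lib.Helper29.ElemEight

namespace Cfsg.Agent.S4412

open scoped IsMulCommutative in
/-- step A: a four-group of elements with cyclic fixed points -/
theorem exists_four {P : Type*} [Group P] (I : Subgroup (MulAut P)) [Finite I]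
    (hI : Cfsg.IsElementaryAbelian 2 I) (hI8 : Nat.card ↥I = 8)
    (I₀ : Subgroup (MulAut P)) (hI₀ : I₀ < I) (cyc : MulAut P → Prop)
    (hdisj : ∀ T ∈ I₀, T ≠ 1 → cyc T)
    (hprod : ∀ T ∈ I, ∀ T' ∈ I, T ≠ 1 → T' ≠ 1 → ¬ cyc T → ¬ cyc T' → T * T' ∈ I₀) :
    ∃ x ∈ I, ∃ y ∈ I, x ≠ 1 ∧ y ≠ 1 ∧ x * y ≠ 1 ∧ cyc x ∧ cyc y ∧ cyc (x * y) := by
  haveI : IsMulCommutative ↥I := hI.1
  have hsq : ∀ g : ↥I, g * g = 1 := by
    intro g
    apply Subtype.ext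
    have := hI.2 g.1 g.2
    rw [pow_two] at this
    exact this
  -- the element `T₀`
  obtain ⟨T₀, hT₀I, hT₀, hT₀prop⟩ : ∃ T₀ ∈ I, T₀ ∉ I₀ ∧
      ∀ S ∈ I, S ≠ 1 → ¬ cyc S → T₀ * S ∈ I₀ := by
    by_cases hB : ∃ T ∈ I, T ≠ 1 ∧ ¬ cyc T
    · obtain ⟨T, hTI, hT1, hTc⟩ := hB
      exact ⟨T, hTI, fun h => hTc (hdisj T h hT1), fun S hS hS1 hSc => hprod T hTI S hS hT1 hS1 hTc hSc⟩
    · push Not at hB
      obtain ⟨T, hTI, hT⟩ := SetLike.exists_of_lt hI₀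
      exact ⟨T, hTI, hT, fun S hS hS1 hSc => absurd (hB S hS hS1) hSc⟩
  obtain ⟨M, hJM, htM, x, hxM, y, hyM, hx1, hy1, hxy⟩ :=
    exists_hyperplane (G := ↥I) hI8 hsq (I₀.subgroupOf I) ⟨T₀, hT₀I⟩
      (by rw [Subgroup.mem_subgroupOf]; exact hT₀)
  have hMc : ∀ S ∈ M, (S : MulAut P) ≠ 1 → cyc S := by
    intro S hS hS1
    by_contra hc
    have h1 : T₀ * S.1 ∈ I₀ := hT₀prop S.1 S.2 hS1 hc
    have h2 : (⟨T₀, hT₀I⟩ : ↥I) * S ∈ M := hJM (by rw [Subgroup.mem_subgroupOf]; exact h1)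
    have h3 : (⟨T₀, hT₀I⟩ : ↥I) = (⟨T₀, hT₀I⟩ * S) * S := by
      rw [mul_assoc, hsq S, mul_one]
    apply htM
    rw [h3]
    exact M.mul_mem h2 hS
  have hx1' : (x : MulAut P) ≠ 1 := fun h => hx1 (Subtype.ext h)
  have hy1' : (y : MulAut P) ≠ 1 := fun h => hy1 (Subtype.ext h)
  have hxy1 : x * y ≠ 1 := by
    intro h
    apply hxy
    have : x * y = x * x := by rw [h, hsq x]
    exact (mul_left_cancel this).symm
  have hxy1' : (x : MulAut P) * (y : MulAut P) ≠ 1 := fun h => hxy1 (Subtype.ext h)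
  exact ⟨x.1, x.2, y.1, y.2, hx1', hy1', hxy1', hMc x hxM hx1', hMc y hyM hy1',
    hMc (x * y) (M.mul_mem hxM hyM) hxy1'⟩


/-- the structure: three generators and three dual involutions -/
structure Data {P : Type*} [Group P] (I I₀ : Subgroup (MulAut P)) (cyc : MulAut P → Prop)
    (g₁ g₂ g₃ : P) (d₁ d₂ d₃ : MulAut P) : Prop where
  hd₁ : d₁ ∈ I
  hd₂ : d₂ ∈ I
  hd₃ : d₃ ∈ I
  cl : closure {g₁, g₂, g₃} = (⊤ : Subgroup P)
  g₁_ne : g₁ ≠ 1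
  g₂_ne : g₂ ≠ 1
  g₃_ne : g₃ ≠ 1
  d11 : d₁ g₁ = g₁⁻¹
  d12 : d₁ g₂ = g₂
  d13 : d₁ g₃ = g₃
  d21 : d₂ g₁ = g₁
  d22 : d₂ g₂ = g₂⁻¹
  d23 : d₂ g₃ = g₃
  d31 : d₃ g₁ = g₁
  d32 : d₃ g₂ = g₂
  d33 : d₃ g₃ = g₃⁻¹

theorem exists_data {P : Type*} [Group P] [Finite P] (p : ℕ) (hp : p.Prime) (hp2 : p ≠ 2)
    (hP : IsPGroup p P) (I : Subgroup (MulAut P)) [Finite I]
    (hI : Cfsg.IsElementaryAbelian 2 I) (hI8 : Nat.card ↥I = 8)
    (I₀ : Subgroup (MulAut P)) (hI₀ : I₀ < I) (cyc : MulAut P → Prop)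
    (hcyc : ∀ T, cyc T ↔ ∃ g : P, ∀ x : P, (T x = x ↔ x ∈ Subgroup.zpowers g))
    (hdisj : ∀ T ∈ I₀, T ≠ 1 → cyc T)
    (hprod : ∀ T ∈ I, ∀ T' ∈ I, T ≠ 1 → T' ≠ 1 → ¬ cyc T → ¬ cyc T' → T * T' ∈ I₀) :
    ∃ g₁ g₂ g₃ d₁ d₂ d₃, Data I I₀ cyc g₁ g₂ g₃ d₁ d₂ d₃ := by
  have hsq : ∀ T ∈ I, T * T = 1 := fun T hT => by
    have := hI.2 T hT; rwa [pow_two] at this
  have hcomm : ∀ T ∈ I, ∀ S ∈ I, T * S = S * T := by
    intro T hT S hS
    have := hI.1.is_comm.comm (⟨T, hT⟩ : ↥I) ⟨S, hS⟩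
    exact congrArg Subtype.val this
  have hinv2 : ∀ T ∈ I, ∀ u, T (T u) = u := fun T hT u => by
    have h2 := congrArg (fun f : MulAut P => f u) (hsq T hT)
    simpa using h2
  obtain ⟨x, hx, y, hy, hx1, hy1, hxy1, cx, cy, cxy⟩ :=
    exists_four I hI hI8 I₀ hI₀ cyc hdisj hprod
  obtain ⟨g₁, hg₁⟩ := (hcyc x).mp cx
  obtain ⟨g₂, hg₂⟩ := (hcyc y).mp cy
  obtain ⟨g₃, hg₃⟩ := (hcyc (x * y)).mp cxy
  have hfix : ∀ (T : MulAut P) (g : P), (∀ u, T u = u ↔ u ∈ zpowers g) → fixSub T = zpowers g := by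
    intro T g h
    ext u
    rw [mem_fixSub]; exact h u
  have hgen0 := four_gen hp hp2 hP x y (hcomm x hx y hy) (hsq x hx) (hsq y hy)
  rw [hfix x g₁ hg₁, hfix y g₂ hg₂, hfix (x * y) g₃ hg₃] at hgen0
  have hcl : closure {g₁, g₂, g₃} = (⊤ : Subgroup P) := by
    rw [eq_top_iff, ← hgen0]
    refine sup_le (sup_le ?_ ?_) ?_
    · rw [zpowers_le]; exact subset_closure (by simp)
    · rw [zpowers_le]; exact subset_closure (by simp)
    · rw [zpowers_le]; exact subset_closure (by simp)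
  have hgen : ∀ d : MulAut P, d g₁ = g₁ → d g₂ = g₂ → d g₃ = g₃ → d = 1 := by
    intro d h1 h2 h3
    have hle : closure {g₁, g₂, g₃} ≤ fixSub d := by
      rw [closure_le]
      rintro u (rfl | rfl | rfl)
      · exact h1
      · exact h2
      · exact h3
    rw [hcl] at hle
    ext u
    exact hle (Subgroup.mem_top u)
  -- every element of `I` fixes or inverts the generators
  have hpm : ∀ (T : MulAut P) (g : P), T ∈ I → (∀ u, T u = u ↔ u ∈ zpowers g) →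
      ∀ S ∈ I, S g = g ∨ S g = g⁻¹ := by
    intro T g hT hTg S hS
    apply fix_or_inv hp hp2 hP S (hinv2 S hS) g
    apply (hTg (S g)).mp
    have h1 : T (S g) = (T * S) g := rfl
    rw [h1, hcomm T hT S hS, MulAut.mul_apply, (hTg g).mpr (mem_zpowers g)]
  have hpm1 := hpm x g₁ hx hg₁
  have hpm2 := hpm y g₂ hy hg₂
  have hpm3 := hpm (x * y) g₃ (I.mul_mem hx hy) hg₃
  obtain ⟨d₃, hd₃, d31, d32, d33, g₃_ne⟩ := exists_dual I hI8 hsq g₁ g₂ g₃ hpm1 hpm2 hpm3 hgen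
  obtain ⟨d₂, hd₂, d21, d23, d22, g₂_ne⟩ := exists_dual I hI8 hsq g₁ g₃ g₂ hpm1 hpm3 hpm2
    (fun d h1 h3 h2 => hgen d h1 h2 h3)
  obtain ⟨d₁, hd₁, d12, d13, d11, g₁_ne⟩ := exists_dual I hI8 hsq g₂ g₃ g₁ hpm2 hpm3 hpm1
    (fun d h2 h3 h1 => hgen d h1 h2 h3)
  exact ⟨g₁, g₂, g₃, d₁, d₂, d₃, ⟨hd₁, hd₂, hd₃, hcl, g₁_ne, g₂_ne, g₃_ne, d11, d12, d13, d21, d22,
    d23, d31, d32, d33⟩⟩


open scoped IsMulCommutative in
theorem main_of_data {P : Type*} [Group P] [Finite P] (p : ℕ) (hp : p.Prime) (hp2 : p ≠ 2)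
    (hP : IsPGroup p P) (I : Subgroup (MulAut P)) [Finite I]
    (hI : Cfsg.IsElementaryAbelian 2 I) (hI8 : Nat.card ↥I = 8)
    (I₀ : Subgroup (MulAut P)) (hI₀ : I₀ < I) (cyc : MulAut P → Prop)
    (hcyc : ∀ T, cyc T ↔ ∃ g : P, ∀ x : P, (T x = x ↔ x ∈ Subgroup.zpowers g))
    (hdisj : ∀ T ∈ I₀, T ≠ 1 → cyc T)
    (hprod : ∀ T ∈ I, ∀ T' ∈ I, T ≠ 1 → T' ≠ 1 → ¬ cyc T → ¬ cyc T' → T * T' ∈ I₀)
    (g₁ g₂ g₃ : P) (d₁ d₂ d₃ : MulAut P) (D : Data I I₀ cyc g₁ g₂ g₃ d₁ d₂ d₃) :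
    IsMulCommutative P ∧ (∃ a b c : P, Subgroup.closure {a, b, c} = ⊤) ∧
      (¬ ∃ a b : P, Subgroup.closure {a, b} = ⊤) ∧
      Nat.card {T : MulAut P // T ∈ I ∧ T ≠ 1 ∧ ¬ cyc T} = 3 ∧
      Subgroup.closure {T : MulAut P | T ∈ I ∧ T ≠ 1 ∧ ¬ cyc T} = I ∧
      (I₀ : Set (MulAut P)) = {S : MulAut P | ∃ T T' : MulAut P, T ∈ I ∧ T' ∈ I ∧ T ≠ 1 ∧ T' ≠ 1 ∧
        (¬ cyc T) ∧ (¬ cyc T') ∧ S = T * T'} := by
  obtain ⟨hd₁, hd₂, hd₃, hcl, g₁_ne, g₂_ne, g₃_ne, d11, d12, d13, d21, d22, d23, d31, d32, d33⟩ := D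
  haveI : Fact p.Prime := ⟨hp⟩
  have hsq : ∀ T ∈ I, T * T = 1 := fun T hT => by
    have := hI.2 T hT; rwa [pow_two] at this
  have hcomm : ∀ T ∈ I, ∀ S ∈ I, T * S = S * T := by
    intro T hT S hS
    have := hI.1.is_comm.comm (⟨T, hT⟩ : ↥I) ⟨S, hS⟩
    exact congrArg Subtype.val this
  have hcommf : ∀ T ∈ I, ∀ S ∈ I, ∀ u, T (S u) = S (T u) := by
    intro T hT S hS u
    have h2 := congrArg (fun f : MulAut P => f u) (hcomm T hT S hS)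
    simpa using h2
  have hinv2 : ∀ T ∈ I, ∀ u, T (T u) = u := fun T hT u => by
    have h2 := congrArg (fun f : MulAut P => f u) (hsq T hT)
    simpa using h2
  have hne : ∀ g : P, g ≠ 1 → g⁻¹ ≠ g := fun g hg h => hg (eq_one_of_eq_inv hp hp2 hP h.symm)
  -- the `dᵢ` are broad
  have nc : ∀ (da dc : MulAut P) (ga gb : P), da ∈ I → dc ∈ I → ga ≠ 1 → gb ≠ 1 → dc ga = ga →
      dc gb = gb → da ga = ga⁻¹ → da gb = gb → ¬ cyc dc := by
    intro da dc ga gb hda hdc hga hgb h1 h2 h3 h4 hc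
    obtain ⟨h, hh⟩ := (hcyc dc).mp hc
    rcases mixed hp hp2 hP dc da (hcomm dc hdc da hda) (hinv2 da hda) h hh gb ga h2 h1 h4 h3
      with h | h
    · exact hgb h
    · exact hga h
  have nc₃ : ¬ cyc d₃ := nc d₁ d₃ g₁ g₂ hd₁ hd₃ g₁_ne g₂_ne d31 d32 d11 d12
  have nc₂ : ¬ cyc d₂ := nc d₁ d₂ g₁ g₃ hd₁ hd₂ g₁_ne g₃_ne d21 d23 d11 d13
  have nc₁ : ¬ cyc d₁ := nc d₂ d₁ g₂ g₃ hd₂ hd₁ g₂_ne g₃_ne d12 d13 d22 d23
  have d₁_ne : d₁ ≠ 1 := by
    intro h; rw [h, MulAut.one_apply] at d11; exact hne g₁ g₁_ne d11.symm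
  have d₂_ne : d₂ ≠ 1 := by
    intro h; rw [h, MulAut.one_apply] at d22; exact hne g₂ g₂_ne d22.symm
  have d₃_ne : d₃ ≠ 1 := by
    intro h; rw [h, MulAut.one_apply] at d33; exact hne g₃ g₃_ne d33.symm
  have h21 : d₂ ≠ d₁ := by
    intro h; rw [h, d11] at d21; exact hne g₁ g₁_ne d21
  have h31 : d₃ ≠ d₁ := by
    intro h; rw [h, d11] at d31; exact hne g₁ g₁_ne d31
  have h32 : d₃ ≠ d₂ := by
    intro h; rw [h, d22] at d32; exact hne g₂ g₂_ne d32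
  -- products
  have p12 : d₁ * d₂ ∈ I₀ := hprod d₁ hd₁ d₂ hd₂ d₁_ne d₂_ne nc₁ nc₂
  have p13 : d₁ * d₃ ∈ I₀ := hprod d₁ hd₁ d₃ hd₃ d₁_ne d₃_ne nc₁ nc₃
  have p23 : d₂ * d₃ ∈ I₀ := hprod d₂ hd₂ d₃ hd₃ d₂_ne d₃_ne nc₂ nc₃
  have e12 : (d₁ * d₂) g₃ = g₃ := by rw [MulAut.mul_apply, d23, d13]
  have e13 : (d₁ * d₃) g₂ = g₂ := by rw [MulAut.mul_apply, d32, d12]
  have e23 : (d₂ * d₃) g₁ = g₁ := by rw [MulAut.mul_apply, d31, d21]
  have n12 : d₁ * d₂ ≠ 1 := by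
    intro h
    have : (d₁ * d₂) g₁ = g₁ := by rw [h, MulAut.one_apply]
    rw [MulAut.mul_apply, d21, d11] at this
    exact hne g₁ g₁_ne this
  have n13 : d₁ * d₃ ≠ 1 := by
    intro h
    have : (d₁ * d₃) g₁ = g₁ := by rw [h, MulAut.one_apply]
    rw [MulAut.mul_apply, d31, d11] at this
    exact hne g₁ g₁_ne this
  have n23 : d₂ * d₃ ≠ 1 := by
    intro h
    have : (d₂ * d₃) g₂ = g₂ := by rw [h, MulAut.one_apply]
    rw [MulAut.mul_apply, d32, d22] at this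
    exact hne g₂ g₂_ne this
  have c12 : cyc (d₁ * d₂) := hdisj _ p12 n12
  have c13 : cyc (d₁ * d₃) := hdisj _ p13 n13
  have c23 : cyc (d₂ * d₃) := hdisj _ p23 n23
  have h3_12 : d₃ ≠ d₁ * d₂ := by
    intro h; rw [h, e12] at d33; exact hne g₃ g₃_ne d33.symm
  -- commutation of the generators
  have cm : ∀ (s dc : MulAut P) (ga gb gc : P), s ∈ I → dc ∈ I → cyc s → dc ga = ga →
      dc gb = gb → dc gc = gc⁻¹ → gc ≠ 1 → s gc = gc → ga * gb = gb * ga := by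
    intro s dc ga gb gc hs hdc hsc h1 h2 h3 hgc h4
    obtain ⟨h, hh⟩ := (hcyc s).mp hsc
    refine comm_of_fpf (fixSub dc) s ?_ (hinv2 s hs) ?_ ga h1 gb h2
    · intro u hu
      rw [mem_fixSub] at hu ⊢
      rw [hcommf dc hdc s hs, hu]
    · intro u hu hsu
      rw [mem_fixSub] at hu
      rcases mixed hp hp2 hP s dc (hcomm s hs dc hdc) (hinv2 dc hdc) h hh u gc hsu h4 hu h3
        with h | h
      · exact h
      · exact absurd h hgc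
  have k12 : g₁ * g₂ = g₂ * g₁ :=
    cm (d₁ * d₂) d₃ g₁ g₂ g₃ (I.mul_mem hd₁ hd₂) hd₃ c12 d31 d32 d33 g₃_ne e12
  have k13 : g₁ * g₃ = g₃ * g₁ :=
    cm (d₁ * d₃) d₂ g₁ g₃ g₂ (I.mul_mem hd₁ hd₃) hd₂ c13 d21 d23 d22 g₂_ne e13
  have k23 : g₂ * g₃ = g₃ * g₂ :=
    cm (d₂ * d₃) d₁ g₂ g₃ g₁ (I.mul_mem hd₂ hd₃) hd₁ c23 d12 d13 d11 g₁_ne e23
  have hgencomm : ∀ s ∈ ({g₁, g₂, g₃} : Set P), ∀ t ∈ ({g₁, g₂, g₃} : Set P), s * t = t * s := by
    rintro s (rfl | rfl | rfl) t (rfl | rfl | rfl)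
    · rfl
    · exact k12
    · exact k13
    · exact k12.symm
    · rfl
    · exact k23
    · exact k13.symm
    · exact k23.symm
    · rfl
  have hmemcl : ∀ u : P, u ∈ closure {g₁, g₂, g₃} := fun u => hcl ▸ Subgroup.mem_top u
  have hcen1 : ∀ s ∈ ({g₁, g₂, g₃} : Set P), ∀ u : P, s * u = u * s := by
    intro s hs u
    have hle : closure {g₁, g₂, g₃} ≤ centralizer {s} := by
      rw [closure_le]
      intro t ht
      rw [SetLike.mem_coe, mem_centralizer_iff]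
      intro h hh
      rw [Set.mem_singleton_iff] at hh
      subst hh
      exact hgencomm h hs t ht
    exact (mem_centralizer_iff.mp (hle (hmemcl u))) s rfl
  have hPcomm : ∀ u v : P, u * v = v * u := by
    intro u v
    have hle : closure {g₁, g₂, g₃} ≤ centralizer {u} := by
      rw [closure_le]
      intro t ht
      rw [SetLike.mem_coe, mem_centralizer_iff]
      intro h hh
      rw [Set.mem_singleton_iff] at hh
      subst hh
      exact (hcen1 t ht h).symm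
    exact (mem_centralizer_iff.mp (hle (hmemcl v))) u rfl
  refine ⟨⟨⟨hPcomm⟩⟩, ⟨g₁, g₂, g₃, hcl⟩, ?_, ?_⟩
  · -- not two-generated
    rintro ⟨a, b, hab⟩
    set Φ := frattini P with hΦ
    set Z₁ := zpowers g₁ with hZ₁
    set Z₂ := zpowers g₂ with hZ₂
    set Z₃ := zpowers g₃ with hZ₃
    have hZ : Z₁ ⊔ Z₂ ⊔ Z₃ = ⊤ := by
      rw [eq_top_iff, ← hcl, closure_le]
      rintro u (rfl | rfl | rfl)
      · exact (le_sup_of_le_left le_sup_left : Z₁ ≤ Z₁ ⊔ Z₂ ⊔ Z₃) (mem_zpowers _)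
      · exact (le_sup_of_le_left le_sup_right : Z₂ ≤ Z₁ ⊔ Z₂ ⊔ Z₃) (mem_zpowers _)
      · exact (le_sup_right : Z₃ ≤ Z₁ ⊔ Z₂ ⊔ Z₃) (mem_zpowers _)
    have nofix : ∀ (d : MulAut P) (A : Subgroup P), A ≤ fixSub d → A ⊔ Φ = ⊤ → ∀ u, d u = u := by
      intro d A hA h u
      have hAt : A = ⊤ := frattini_nongenerating h
      exact hA (hAt ▸ Subgroup.mem_top u)
    have h01 : Φ < Φ ⊔ Z₃ := by
      apply lt_of_le_of_ne le_sup_left
      intro h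
      have h3 : Z₃ ≤ Φ := h ▸ le_sup_right
      have h4 : (Z₁ ⊔ Z₂) ⊔ Φ = ⊤ := by
        rw [eq_top_iff, ← hZ]
        exact sup_le le_sup_left (h3.trans le_sup_right)
      have := nofix d₃ (Z₁ ⊔ Z₂) (sup_le (zpowers_le.mpr d31) (zpowers_le.mpr d32)) h4 g₃
      rw [d33] at this
      exact hne g₃ g₃_ne this
    have h12 : Φ ⊔ Z₃ < Φ ⊔ Z₃ ⊔ Z₂ := by
      apply lt_of_le_of_ne le_sup_left
      intro h
      have h3 : Z₂ ≤ Φ ⊔ Z₃ := h ▸ le_sup_right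
      have h4 : (Z₁ ⊔ Z₃) ⊔ Φ = ⊤ := by
        rw [eq_top_iff, ← hZ]
        refine sup_le (sup_le (le_sup_of_le_left le_sup_left) (h3.trans ?_))
          (le_sup_of_le_left le_sup_right)
        exact sup_le le_sup_right (le_sup_of_le_left le_sup_right)
      have := nofix d₂ (Z₁ ⊔ Z₃) (sup_le (zpowers_le.mpr d21) (zpowers_le.mpr d23)) h4 g₂
      rw [d22] at this
      exact hne g₂ g₂_ne this
    have h23 : Φ ⊔ Z₃ ⊔ Z₂ < ⊤ := by
      rw [lt_top_iff_ne_top]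
      intro h
      have h4 : (Z₂ ⊔ Z₃) ⊔ Φ = ⊤ := by
        rw [eq_top_iff, ← h]
        exact sup_le (sup_le le_sup_right (le_sup_of_le_left le_sup_right))
          (le_sup_of_le_left le_sup_left)
      have := nofix d₁ (Z₂ ⊔ Z₃) (sup_le (zpowers_le.mpr d12) (zpowers_le.mpr d13)) h4 g₁
      rw [d11] at this
      exact hne g₁ g₁_ne this
    have b1 := index_ge_of_chain hp hP Φ (Φ ⊔ Z₃) (Φ ⊔ Z₃ ⊔ Z₂) h01 h12 h23
    have b2 := index_le_of_closure_pair Φ p hp.pos (fun x => IsPGroup.pow_mem_frattini hP x)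
      (IsPGroup.commutator_le_frattini hP) a b hab
    have := (Nat.pow_le_pow_iff_right hp.one_lt).mp (b1.trans b2)
    omega
  · -- enumeration of `I`
    haveI : IsMulCommutative ↥I := hI.1
    have hsq' : ∀ g : ↥I, g * g = 1 := fun g => Subtype.ext (hsq g.1 g.2)
    have henum : ∀ T ∈ I, T = 1 ∨ T = d₁ ∨ T = d₂ ∨ T = d₃ ∨ T = d₁ * d₂ ∨ T = d₁ * d₃ ∨
        T = d₂ * d₃ ∨ T = d₁ * d₂ * d₃ := by
      intro T hT
      have := enum_eight (G := ↥I) hI8 hsq' ⟨d₁, hd₁⟩ ⟨d₂, hd₂⟩ ⟨d₃, hd₃⟩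
        (fun h => d₁_ne (congrArg Subtype.val h)) (fun h => d₂_ne (congrArg Subtype.val h))
        (fun h => h21 (congrArg Subtype.val h)) (fun h => d₃_ne (congrArg Subtype.val h))
        (fun h => h31 (congrArg Subtype.val h)) (fun h => h32 (congrArg Subtype.val h))
        (fun h => h3_12 (congrArg Subtype.val h)) ⟨T, hT⟩
      simpa [Subtype.ext_iff] using this
    -- the product of the three inverts everything
    have hfinv : ∀ u : P, (d₁ * d₂ * d₃) u = u⁻¹ := by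
      intro u
      refine Subgroup.closure_induction (p := fun u _ => (d₁ * d₂ * d₃) u = u⁻¹) ?_ ?_ ?_ ?_
        (hmemcl u)
      · rintro v (rfl | rfl | rfl)
        · show d₁ (d₂ (d₃ v)) = v⁻¹
          rw [d31, d21, d11]
        · show d₁ (d₂ (d₃ v)) = v⁻¹
          rw [d32, d22, map_inv, d12]
        · show d₁ (d₂ (d₃ v)) = v⁻¹
          rw [d33, map_inv, d23, map_inv, d13]
      · rw [map_one, inv_one]
      · intro x y _ _ hx hy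
        rw [map_mul, hx, hy, mul_inv_rev, hPcomm]
      · intro x _ hx
        rw [map_inv, hx]
    have cf : cyc (d₁ * d₂ * d₃) := by
      refine (hcyc _).mpr ⟨1, fun u => ⟨fun h => ?_, fun h => ?_⟩⟩
      · rw [hfinv u] at h
        rw [eq_one_of_eq_inv hp hp2 hP h.symm]
        exact one_mem _
      · rw [zpowers_one_eq_bot, mem_bot] at h
        rw [h, map_one]
    have hbroad : ∀ T, (T ∈ I ∧ T ≠ 1 ∧ ¬ cyc T) ↔ (T = d₁ ∨ T = d₂ ∨ T = d₃) := by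
      intro T
      constructor
      · rintro ⟨hT, hT1, hTc⟩
        rcases henum T hT with rfl | rfl | rfl | rfl | rfl | rfl | rfl | rfl
        · exact absurd rfl hT1
        · exact Or.inl rfl
        · exact Or.inr (Or.inl rfl)
        · exact Or.inr (Or.inr rfl)
        · exact absurd c12 hTc
        · exact absurd c13 hTc
        · exact absurd c23 hTc
        · exact absurd cf hTc
      · rintro (rfl | rfl | rfl)
        · exact ⟨hd₁, d₁_ne, nc₁⟩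
        · exact ⟨hd₂, d₂_ne, nc₂⟩
        · exact ⟨hd₃, d₃_ne, nc₃⟩
    refine ⟨?_, ?_, ?_⟩
    · have e : {T : MulAut P // T ∈ I ∧ T ≠ 1 ∧ ¬ cyc T} ≃ (({d₁, d₂, d₃} : Set (MulAut P))) :=
        Equiv.subtypeEquivRight (fun T => by
          rw [hbroad T, Set.mem_insert_iff, Set.mem_insert_iff, Set.mem_singleton_iff])
      rw [Nat.card_congr e, Nat.card_coe_set_eq, Set.ncard_eq_three]
      exact ⟨d₁, d₂, d₃, h21.symm, h31.symm, h32.symm, rfl⟩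
    · apply le_antisymm
      · rw [closure_le]
        intro T hT
        exact hT.1
      · intro T hT
        have m1 : d₁ ∈ closure {T : MulAut P | T ∈ I ∧ T ≠ 1 ∧ ¬ cyc T} :=
          subset_closure ((hbroad d₁).mpr (Or.inl rfl))
        have m2 : d₂ ∈ closure {T : MulAut P | T ∈ I ∧ T ≠ 1 ∧ ¬ cyc T} :=
          subset_closure ((hbroad d₂).mpr (Or.inr (Or.inl rfl)))
        have m3 : d₃ ∈ closure {T : MulAut P | T ∈ I ∧ T ≠ 1 ∧ ¬ cyc T} :=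
          subset_closure ((hbroad d₃).mpr (Or.inr (Or.inr rfl)))
        rcases henum T hT with rfl | rfl | rfl | rfl | rfl | rfl | rfl | rfl
        · exact one_mem _
        · exact m1
        · exact m2
        · exact m3
        · exact mul_mem m1 m2
        · exact mul_mem m1 m3
        · exact mul_mem m2 m3
        · exact mul_mem (mul_mem m1 m2) m3
    · ext S
      constructor
      · intro hS
        rw [SetLike.mem_coe] at hS
        have hSI : S ∈ I := hI₀.le hS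
        rcases henum S hSI with rfl | rfl | rfl | rfl | rfl | rfl | rfl | rfl
        · exact ⟨d₁, d₁, hd₁, hd₁, d₁_ne, d₁_ne, nc₁, nc₁, (hsq d₁ hd₁).symm⟩
        · exact absurd (hdisj _ hS d₁_ne) nc₁
        · exact absurd (hdisj _ hS d₂_ne) nc₂
        · exact absurd (hdisj _ hS d₃_ne) nc₃
        · exact ⟨d₁, d₂, hd₁, hd₂, d₁_ne, d₂_ne, nc₁, nc₂, rfl⟩
        · exact ⟨d₁, d₃, hd₁, hd₃, d₁_ne, d₃_ne, nc₁, nc₃, rfl⟩
        · exact ⟨d₂, d₃, hd₂, hd₃, d₂_ne, d₃_ne, nc₂, nc₃, rfl⟩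
        · exfalso
          have h := I₀.mul_mem hS p23
          rw [mul_assoc d₁ d₂ d₃, mul_assoc, hsq (d₂ * d₃) (I.mul_mem hd₂ hd₃), mul_one] at h
          exact nc₁ (hdisj _ h d₁_ne)
      · rintro ⟨T, T', hT, hT', hT1, hT'1, hTc, hT'c, rfl⟩
        exact hprod T hT T' hT' hT1 hT'1 hTc hT'c



/-- Let p be an odd prime, P a finite p-group and I an elementary abelian subgroup of order 8 of Aut(P). Call T ∈ I, T ≠ 1, broad when its fixed-point subgroup C_P(T) is not cyclic. Suppose I has a proper subgroup I₀ containing no broad element such that the product of any two broad elements lies in I₀. Then P is abelian of rank exactly 3 (generated by three elements but not by two), there are exactly three broad elements and they generate I, and I₀ is exactly the set of products of two broad elements. -/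
theorem result
    {P : Type*} [Group P] [Finite P] (p : ℕ) (hp : p.Prime) (hp2 : p ≠ 2) (hP : IsPGroup p P)
    (I : Subgroup (MulAut P)) (hI : Cfsg.IsElementaryAbelian 2 I) (hI8 : Nat.card ↥I = 8)
    (I₀ : Subgroup (MulAut P)) (hI₀ : I₀ < I)
    (hdisj : ∀ T ∈ I₀, T ≠ 1 → ∃ g : P, ∀ x : P, (T x = x ↔ x ∈ Subgroup.zpowers g))
    (hprod : ∀ T ∈ I, ∀ T' ∈ I, T ≠ 1 → T' ≠ 1 → (¬ ∃ g : P, ∀ x : P, (T x = x ↔ x ∈ Subgroup.zpowers g)) →
      (¬ ∃ g : P, ∀ x : P, (T' x = x ↔ x ∈ Subgroup.zpowers g)) → T * T' ∈ I₀) :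
    IsMulCommutative P ∧ (∃ a b c : P, Subgroup.closure {a, b, c} = ⊤) ∧ (¬ ∃ a b : P, Subgroup.closure {a, b} = ⊤) ∧
      Nat.card {T : MulAut P // T ∈ I ∧ T ≠ 1 ∧ ¬ ∃ g : P, ∀ x : P, (T x = x ↔ x ∈ Subgroup.zpowers g)} = 3 ∧
      Subgroup.closure {T : MulAut P | T ∈ I ∧ T ≠ 1 ∧ ¬ ∃ g : P, ∀ x : P, (T x = x ↔ x ∈ Subgroup.zpowers g)} = I ∧
      (I₀ : Set (MulAut P)) = {S : MulAut P | ∃ T T' : MulAut P, T ∈ I ∧ T' ∈ I ∧ T ≠ 1 ∧ T' ≠ 1 ∧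
        (¬ ∃ g : P, ∀ x : P, (T x = x ↔ x ∈ Subgroup.zpowers g)) ∧ (¬ ∃ g : P, ∀ x : P, (T' x = x ↔ x ∈ Subgroup.zpowers g)) ∧ S = T * T'} := by
  haveI : Finite ↥I := Nat.finite_of_card_ne_zero (by rw [hI8]; norm_num)
  obtain ⟨g₁, g₂, g₃, d₁, d₂, d₃, D⟩ := exists_data p hp hp2 hP I hI hI8 I₀ hI₀
    (fun T => ∃ g : P, ∀ x : P, (T x = x ↔ x ∈ Subgroup.zpowers g)) (fun T => Iff.rfl) hdisj hprod
  exact main_of_data p hp hp2 hP I hI hI8 I₀ hI₀ _ (fun T => Iff.rfl) hdisj hprod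
    g₁ g₂ g₃ d₁ d₂ d₃ D

end Cfsg.Agent.S4412
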