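import Cfsg.Statements.S4419
import Cfsg.Agent.Lib.Helper29.Frobenius
import Cfsg.Agent.Lib.Helper29.MinNonPNilpotent
import Cfsg.Agent.Lib.Helper29.PrimePowerElement
import Cfsg.Agent.Lib.Helper29.MetacyclicAut
import Cfsg.Agent.Lib.Helper12.PPrimeP
import Cfsg.Agent.Lib.Helper10.CNGroup

set_option autoImplicit false
open Cfsg

namespace Cfsg.Agent.S4419

open Subgroup Cfsg.Agent.Lib.Helper29 Cfsg.Agent.Lib.Helper12

/-- every subgroup of a metacyclic subgroup is generated by two elements -/
theorem two_gen_of_le {G : Type*} [Group G] (S : Subgroup G) (hS : Cfsg.IsMetacyclic ↥S)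
    (H : Subgroup G) (hHS : H ≤ S) : ∃ a b : G, H = closure {a, b} := by
  obtain ⟨a, b, hab⟩ := exists_closure_pair_of_isMetacyclic hS (H.subgroupOf S)
  refine ⟨a, b, ?_⟩
  have h1 : (H.subgroupOf S).map S.subtype = H := Subgroup.map_subgroupOf_eq_of_le hHS
  rw [← h1, hab, MonoidHom.map_closure, Set.image_pair]
  rfl

/-- Let p be a prime and G a finite group whose Sylow p-subgroups are metacyclic (a cyclic normal subgroup with cyclic quotient). Then G has a normal p-complement if and only if the order of G/O_{p′,p}(G) is coprime to p² − 1. -/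
theorem result {G : Type*} [Group G] [Finite G] (p : ℕ) [Fact p.Prime] (S : Sylow p G) (hS : Cfsg.IsMetacyclic ↥(S : Subgroup G)) : Cfsg.HasNormalPComplement p G ↔ Nat.Coprime (Nat.card (G ⧸ Cfsg.pPrimePCore p G)) (p ^ 2 - 1) := by
  have hp : p.Prime := Fact.out
  constructor
  · rintro ⟨P', N, hNn, hN⟩
    have hNcop : (Nat.card N).Coprime p := by
      rw [← hN.index_eq_card]
      exact ((Nat.Prime.coprime_iff_not_dvd hp).mpr P'.not_dvd_index).symm
    have hNK : N ≤ Cfsg.pPrimeCore p G := le_pPrimeCore p N hNn hNcop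
    obtain ⟨n, hn⟩ := IsPGroup.iff_card.mp P'.2
    have hKidx : (Cfsg.pPrimeCore p G).index ∣ p ^ n := by
      rw [← hn, ← hN.symm.index_eq_card]
      exact Subgroup.index_dvd_of_le hNK
    obtain ⟨j, -, hj⟩ := (Nat.dvd_prime_pow hp).mp hKidx
    have hquot : IsPGroup p (G ⧸ Cfsg.pPrimeCore p G) :=
      IsPGroup.of_card (n := j) (by rw [← Subgroup.index_eq_card]; exact hj)
    have htop : Cfsg.pCore p (G ⧸ Cfsg.pPrimeCore p G) = ⊤ := by
      rw [eq_top_iff]
      exact le_pCore' p ⊤ inferInstance (hquot.to_subgroup ⊤)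
    have hM : Cfsg.pPrimePCore p G = ⊤ := by
      unfold Cfsg.pPrimePCore
      rw [htop, Subgroup.comap_top]
    rw [← Subgroup.index_eq_card, hM, Subgroup.index_top]
    exact Nat.coprime_one_left _
  · intro hcop
    have hF : FrobCond p G := by
      apply frobCond_of_sylow S
      intro Q hQS g hgN hgcop
      by_contra hgc
      obtain ⟨g', hg'z, hg'c, r, k, hr, hg'o⟩ :=
        exists_prime_pow_order_not_mem (centralizer (Q : Set G)) _ g rfl hgc
      have hg'N : g' ∈ normalizer (Q : Set G) := (Subgroup.zpowers_le.mpr hgN) hg'z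
      have hd : orderOf g' ∣ orderOf g := by
        obtain ⟨j, rfl⟩ := Subgroup.mem_zpowers_iff.mp hg'z
        exact orderOf_dvd_of_pow_eq_one (by
          rw [← zpow_natCast, ← zpow_mul, mul_comm, zpow_mul, zpow_natCast, pow_orderOf_eq_one,
            one_zpow])
      have hk : k ≠ 0 := by
        rintro rfl
        rw [pow_zero, orderOf_eq_one_iff] at hg'o
        rw [hg'o] at hg'c
        exact hg'c (Subgroup.one_mem _)
      have hrp : r ≠ p := by
        rintro rfl
        have h1 : r ∣ orderOf g := dvd_trans (by rw [hg'o]; exact dvd_pow_self r hk) hd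
        have := Nat.eq_one_of_dvd_coprimes hgcop h1 (dvd_refl r)
        exact hr.one_lt.ne' this
      haveI : Fact r.Prime := ⟨hr⟩
      have hg'pow : g' ^ r ^ k = 1 := by rw [← hg'o]; exact pow_orderOf_eq_one g'
      apply hg'c
      by_cases hdiv : r ∣ p ^ 2 - 1
      · have hrM : ¬ r ∣ (Cfsg.pPrimePCore p G).index := by
          rw [Subgroup.index_eq_card]
          intro h
          have := Nat.eq_one_of_dvd_coprimes hcop h hdiv
          exact hr.one_lt.ne' this
        have hg'M : g' ∈ Cfsg.pPrimePCore p G :=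
          Cfsg.Agent.Lib.Helper10.mem_of_pow_mem_of_coprime _ g' (x := r ^ k)
            (y := (Cfsg.pPrimePCore p G).index)
            (Nat.Coprime.pow_left k ((Nat.Prime.coprime_iff_not_dvd hr).mpr hrM))
            (by rw [hg'pow]; exact Subgroup.one_mem _) (Subgroup.pow_index_mem _ g')
        obtain ⟨a, ha⟩ := relIndex_pPrimeCore_pPrimePCore (G := G) p
        have hg'K : g' ∈ Cfsg.pPrimeCore p G := by
          refine Cfsg.Agent.Lib.Helper10.mem_of_pow_mem_of_coprime _ g' (x := r ^ k) (y := p ^ a)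
            (Nat.Coprime.pow k a ((Nat.coprime_primes hr hp).mpr hrp))
            (by rw [hg'pow]; exact Subgroup.one_mem _) ?_
          have h1 := Subgroup.pow_index_mem
            ((Cfsg.pPrimeCore p G).subgroupOf (Cfsg.pPrimePCore p G)) ⟨g', hg'M⟩
          rw [Subgroup.mem_subgroupOf] at h1
          have h2 : ((Cfsg.pPrimeCore p G).subgroupOf (Cfsg.pPrimePCore p G)).index = p ^ a := ha
          rw [h2] at h1
          simpa using h1
        have hKQ : Cfsg.pPrimeCore p G ⊓ Q = ⊥ :=
          inf_eq_bot_of_coprime_of_isPGroup (pPrimeCore_coprime p) (S.2.to_le hQS)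
        rw [Subgroup.mem_centralizer_iff]
        intro x hx
        have hxQ : x ∈ Q := hx
        have h1 : g' * x * g'⁻¹ * x⁻¹ ∈ Cfsg.pPrimeCore p G ⊓ Q := by
          constructor
          · have h3 : x * g'⁻¹ * x⁻¹ ∈ Cfsg.pPrimeCore p G :=
              (pPrimeCore_normal' p).conj_mem _ (Subgroup.inv_mem _ hg'K) x
            have h4 := Subgroup.mul_mem _ hg'K h3
            have e : g' * (x * g'⁻¹ * x⁻¹) = g' * x * g'⁻¹ * x⁻¹ := by group
            rwa [e] at h4
          · exact Q.mul_mem ((Subgroup.mem_normalizer_iff.mp hg'N x).mp hxQ) (Q.inv_mem hxQ)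
        rw [hKQ, Subgroup.mem_bot] at h1
        have e : g' * x = (g' * x * g'⁻¹ * x⁻¹) * (x * g') := by group
        rw [e, h1, one_mul]
      · exact mem_centralizer_of_two_gen hdiv hrp g' k hg'pow _ Q rfl (S.2.to_le hQS)
          (fun H hH => two_gen_of_le (S : Subgroup G) hS H (hH.trans hQS)) hg'N
    exact frobCond_iff.mp hF

end Cfsg.Agent.S4419
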