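import Cfsg.Statements.S4420
-- import your own Cfsg.Agent.* helpers here

set_option autoImplicit false
open Cfsg

namespace Cfsg.Agent.S4420

/-- Structure of groups in which every element outside some proper subgroup has square 1. Let H be a finite group with a proper subgroup A such that every element outside A has square 1. Then H has an abelian normal subgroup B of index 2 such that every element outside B is an involution inverting every element of B; and if H is not an elementary abelian 2-group, B is the only abelian normal subgroup of index 2 with this property. -/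
theorem result {H : Type*} [Group H] [Finite H] (A : Subgroup H) (hA : A ≠ ⊤) (hD : ∀ x : H, x ∉ A → x ^ 2 = 1) :
    ∃ B : Subgroup H, B.Normal ∧ IsMulCommutative ↥B ∧ B.index = 2 ∧
      (∀ x : H, x ∉ B → x ^ 2 = 1 ∧ ∀ b ∈ B, x * b * x⁻¹ = b⁻¹) ∧
      (¬ (IsMulCommutative H ∧ ∀ x : H, x ^ 2 = 1) →
        ∀ B' : Subgroup H, B'.Normal → IsMulCommutative ↥B' → B'.index = 2 →
          (∀ x : H, x ∉ B' → x ^ 2 = 1 ∧ ∀ b ∈ B', x * b * x⁻¹ = b⁻¹) → B' = B) := by
  classical
  obtain ⟨t, -, ht⟩ := SetLike.exists_of_lt (lt_top_iff_ne_top.mpr hA)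
  by_cases hall : ∀ x : H, x ^ 2 = 1
  · -- H is an elementary abelian 2-group
    have hinv : ∀ x : H, x⁻¹ = x := by
      intro x
      have := hall x
      rw [pow_two] at this
      exact inv_eq_of_mul_eq_one_left this
    have hcomm : ∀ a b : H, a * b = b * a := by
      intro a b
      have h1 := hinv (a * b)
      rw [mul_inv_rev, hinv a, hinv b] at h1
      exact h1.symm
    have hp : IsPGroup 2 H := fun g => ⟨1, by simpa using hall g⟩
    haveI : Fact (Nat.Prime 2) := ⟨Nat.prime_two⟩
    obtain ⟨n, hn⟩ := IsPGroup.iff_card.mp hp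
    have hn0 : n ≠ 0 := by
      rintro rfl
      rw [pow_zero] at hn
      have hsub : Subsingleton H := (Nat.card_eq_one_iff_unique.mp hn).1
      apply ht
      rw [Subsingleton.elim t 1]
      exact A.one_mem
    obtain ⟨K, hK⟩ := Sylow.exists_subgroup_card_pow_prime (G := H) 2 (n := n - 1)
      (by rw [hn]; exact pow_dvd_pow 2 (Nat.sub_le n 1))
    have hKi : K.index = 2 := by
      have h1 := K.card_mul_index
      rw [hK, hn] at h1
      have h2 : (2 : ℕ) ^ n = 2 ^ (n - 1) * 2 := by
        rw [← pow_succ]; congr 1; omega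
      rw [h2] at h1
      exact Nat.eq_of_mul_eq_mul_left (by positivity) h1
    refine ⟨K, ⟨fun n hn g => ?_⟩, ⟨⟨fun a b => Subtype.ext (hcomm a b)⟩⟩, hKi, ?_, ?_⟩
    · have : g * n * g⁻¹ = n := by rw [hcomm g n]; group
      rw [this]; exact hn
    · intro x _
      refine ⟨hall x, fun b _ => ?_⟩
      rw [hinv b, hcomm x b]; group
    · intro hneg
      exact absurd ⟨⟨⟨fun a b => hcomm a b⟩⟩, hall⟩ hneg
  · -- some element has square ≠ 1; then B = A works
    push Not at hall
    obtain ⟨y, hy⟩ := hall
    have hyA : y ∈ A := by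
      by_contra h
      exact hy (hD y h)
    -- elements outside A invert A
    have hinvA : ∀ s : H, s ∉ A → ∀ a ∈ A, s * a * s⁻¹ = a⁻¹ := by
      intro s hs a ha
      have hsa : s * a ∉ A := by
        intro h
        apply hs
        have := A.mul_mem h (A.inv_mem ha)
        simpa using this
      have h1 := hD _ hsa
      have h2 := hD _ hs
      have hsinv : s⁻¹ = s := by
        rw [pow_two] at h2
        exact inv_eq_of_mul_eq_one_left h2
      rw [pow_two] at h1
      rw [hsinv]
      -- s a s a = 1
      have : s * a * s = a⁻¹ := by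
        have h3 : s * a * s * a = 1 := by simpa [mul_assoc] using h1
        exact eq_inv_of_mul_eq_one_left h3
      exact this
    have hy' : y⁻¹ ≠ y := by
      intro h
      apply hy
      rw [pow_two]
      nth_rewrite 1 [← h]
      exact inv_mul_cancel y
    have hcommA : ∀ a ∈ A, ∀ b ∈ A, a * b = b * a := by
      intro a ha b hb
      have h1 := hinvA t ht (a * b) (A.mul_mem ha hb)
      have h2 := hinvA t ht a ha
      have h3 := hinvA t ht b hb
      have h4 : t * (a * b) * t⁻¹ = (t * a * t⁻¹) * (t * b * t⁻¹) := by group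
      rw [h4, h2, h3, mul_inv_rev] at h1
      have := congrArg (fun z => z⁻¹) h1
      simpa using this.symm
    have hprod : ∀ s u : H, s ∉ A → u ∉ A → s * u ∈ A := by
      intro s u hs hu
      by_contra hsu
      have h1 := hinvA (s * u) hsu y hyA
      have h2 := hinvA u hu y hyA
      have h3 := hinvA s hs y⁻¹ (A.inv_mem hyA)
      have h4 : s * u * y * (s * u)⁻¹ = s * (u * y * u⁻¹) * s⁻¹ := by group
      rw [h4, h2, h3, inv_inv] at h1
      exact hy' h1.symm
    have hidx : A.index = 2 := by
      rw [Subgroup.index_eq_two_iff]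
      refine ⟨t, fun b => ?_⟩
      by_cases hb : b ∈ A
      · refine Or.inr ⟨hb, ?_⟩
        intro h
        apply ht
        have := A.mul_mem (A.inv_mem hb) h
        simpa using this
      · exact Or.inl ⟨hprod b t hb ht, hb⟩
    refine ⟨A, Subgroup.normal_of_index_eq_two hidx,
      ⟨⟨fun a b => Subtype.ext (hcommA a a.2 b b.2)⟩⟩, hidx, ?_, ?_⟩
    · intro x hx
      exact ⟨hD x hx, hinvA x hx⟩
    · intro _ B' _ hB'c _ hB'
      have hyB' : y ∈ B' := by
        by_contra h
        exact hy (hB' y h).1
      have hcommB' : ∀ a ∈ B', ∀ b ∈ B', a * b = b * a := by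
        intro a ha b hb
        have := hB'c.is_comm.comm ⟨a, ha⟩ ⟨b, hb⟩
        exact congrArg Subtype.val this
      apply le_antisymm
      · intro x hx
        by_contra hxA
        have h1 := hinvA x hxA y hyA
        have h2 : x * y * x⁻¹ = y := by rw [hcommB' x hx y hyB']; group
        rw [h2] at h1
        exact hy' h1.symm
      · intro x hx
        by_contra hxB
        have h1 := (hB' x hxB).2 y hyB'
        have h2 : x * y * x⁻¹ = y := by rw [hcommA x hx y hyA]; group
        rw [h2] at h1
        exact hy' h1.symm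

end Cfsg.Agent.S4420
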