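import Cfsg.Statements.S4421
-- import your own Cfsg.Agent.* helpers here

set_option autoImplicit false
open Cfsg

namespace Cfsg.Agent.S4421

/-- A factorization of a normalizer from two-step control of fusion. Let `G` be a finite group and `A ≤ S ≤ H` subgroups of `G` such that: (i) `S` controls the `G`-fusion of `A` in the sense that every `G`-conjugate of `A` lying in `S` is an `S`-conjugate of `A`; (ii) `H` controls the `G`-fusion of `S` in the same sense; (iii) every conjugate of `S` by an element of the normalizer of `A` lies in `H`. Then `N_G(A) = N_H(A) · (N_G(S) ∩ N_G(A))`: every element of the normalizer of `A` is a product of an element of `H` normalizing `A` and an element normalizing both `S` and `A`. -/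
theorem result {G : Type*} [Group G] [Finite G] (A S H : Subgroup G)
    (hAS : A ≤ S) (hSH : S ≤ H)
    (h1 : ∀ g : G, A.map (MulAut.conj g).toMonoidHom ≤ S → ∃ s ∈ S, A.map (MulAut.conj g).toMonoidHom = A.map (MulAut.conj s).toMonoidHom)
    (h2 : ∀ g : G, S.map (MulAut.conj g).toMonoidHom ≤ H → ∃ y ∈ H, S.map (MulAut.conj g).toMonoidHom = S.map (MulAut.conj y).toMonoidHom)
    (h3 : ∀ x ∈ Subgroup.normalizer (A : Set G), S.map (MulAut.conj x).toMonoidHom ≤ H) :
    ∀ x ∈ Subgroup.normalizer (A : Set G), ∃ y ∈ H ⊓ Subgroup.normalizer (A : Set G),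
      ∃ z ∈ Subgroup.normalizer (S : Set G) ⊓ Subgroup.normalizer (A : Set G), x = y * z := by
  intro x hx
  -- conj x maps A to A
  have hxA : A.map (MulAut.conj x).toMonoidHom = A := by
    ext g
    simp only [Subgroup.mem_map, MulEquiv.coe_toMonoidHom, MulAut.conj_apply]
    constructor
    · rintro ⟨a, ha, rfl⟩
      exact (Subgroup.mem_normalizer_iff.mp hx a).mp ha
    · intro hg
      refine ⟨x⁻¹ * g * x, ?_, by group⟩
      have := (Subgroup.mem_normalizer_iff.mp hx (x⁻¹ * g * x))
      rw [this]
      simpa [mul_assoc] using hg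
  obtain ⟨y, hyH, hy⟩ := h2 x (h3 x hx)
  -- conj y⁻¹ A ≤ S
  have hA1 : A.map (MulAut.conj y⁻¹).toMonoidHom ≤ S := by
    intro g hg
    simp only [Subgroup.mem_map, MulEquiv.coe_toMonoidHom, MulAut.conj_apply] at hg
    obtain ⟨a, ha, rfl⟩ := hg
    -- a ∈ A = conj x A ≤ conj x S = conj y S
    have ha' : a ∈ S.map (MulAut.conj y).toMonoidHom := by
      rw [← hy]
      rw [← hxA] at ha
      simp only [Subgroup.mem_map, MulEquiv.coe_toMonoidHom, MulAut.conj_apply] at ha ⊢
      obtain ⟨b, hb, rfl⟩ := ha
      exact ⟨b, hAS hb, rfl⟩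
    simp only [Subgroup.mem_map, MulEquiv.coe_toMonoidHom, MulAut.conj_apply] at ha'
    obtain ⟨s, hs, rfl⟩ := ha'
    simpa [mul_assoc] using hs
  obtain ⟨s, hsS, hs⟩ := h1 y⁻¹ hA1
  -- y * s normalizes A
  have hysA : A.map (MulAut.conj (y * s)).toMonoidHom = A := by
    have : A.map (MulAut.conj (y * s)).toMonoidHom =
        (A.map (MulAut.conj s).toMonoidHom).map (MulAut.conj y).toMonoidHom := by
      rw [Subgroup.map_map]
      congr 1
      ext g
      simp [mul_assoc]
    rw [this, ← hs, Subgroup.map_map]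
    ext g
    simp only [Subgroup.mem_map, MonoidHom.coe_comp, MulEquiv.coe_toMonoidHom, Function.comp_apply,
      MulAut.conj_apply]
    constructor
    · rintro ⟨a, ha, rfl⟩
      simpa [mul_assoc] using ha
    · intro hg
      exact ⟨g, hg, by group⟩
  have mem_norm_of_map : ∀ (K : Subgroup G) (z : G), K.map (MulAut.conj z).toMonoidHom = K →
      z ∈ Subgroup.normalizer (K : Set G) := by
    intro K z hz
    rw [Subgroup.mem_normalizer_iff]
    intro h
    constructor
    · intro hh
      rw [← hz]
      exact ⟨h, hh, rfl⟩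
    · intro hh
      rw [← hz] at hh
      simp only [Subgroup.mem_map, MulEquiv.coe_toMonoidHom, MulAut.conj_apply] at hh
      obtain ⟨a, ha, hae⟩ := hh
      have : a = h := by
        have := congrArg (fun t => z⁻¹ * t * z) hae
        simpa [mul_assoc] using this
      exact this ▸ ha
  refine ⟨y * s, ⟨H.mul_mem hyH (hSH hsS), mem_norm_of_map A _ hysA⟩, (y * s)⁻¹ * x, ⟨?_, ?_⟩, by group⟩
  · -- normalizes S
    apply mem_norm_of_map
    have : S.map (MulAut.conj ((y * s)⁻¹ * x)).toMonoidHom =
        (S.map (MulAut.conj x).toMonoidHom).map (MulAut.conj (y * s)⁻¹).toMonoidHom := by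
      rw [Subgroup.map_map]
      congr 1
      ext g
      simp [mul_assoc]
    rw [this, hy, Subgroup.map_map]
    ext g
    simp only [Subgroup.mem_map, MonoidHom.coe_comp, MulEquiv.coe_toMonoidHom, Function.comp_apply,
      MulAut.conj_apply]
    constructor
    · rintro ⟨a, ha, rfl⟩
      have : (y * s)⁻¹ * (y * a * y⁻¹) * (y * s)⁻¹⁻¹ = s⁻¹ * a * s := by group
      rw [this]
      exact S.mul_mem (S.mul_mem (S.inv_mem hsS) ha) hsS
    · intro hg
      refine ⟨s * g * s⁻¹, S.mul_mem (S.mul_mem hsS hg) (S.inv_mem hsS), by group⟩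
  · apply mem_norm_of_map
    have : A.map (MulAut.conj ((y * s)⁻¹ * x)).toMonoidHom =
        (A.map (MulAut.conj x).toMonoidHom).map (MulAut.conj (y * s)⁻¹).toMonoidHom := by
      rw [Subgroup.map_map]
      congr 1
      ext g
      simp [mul_assoc]
    rw [this, hxA]
    nth_rewrite 1 [← hysA]
    rw [Subgroup.map_map]
    ext g
    simp only [Subgroup.mem_map, MonoidHom.coe_comp, MulEquiv.coe_toMonoidHom, Function.comp_apply,
      MulAut.conj_apply]
    constructor
    · rintro ⟨a, ha, rfl⟩
      have : (y * s)⁻¹ * (y * s * a * (y * s)⁻¹) * (y * s)⁻¹⁻¹ = a := by group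
      rw [this]; exact ha
    · intro hg
      exact ⟨g, hg, by group⟩

end Cfsg.Agent.S4421
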