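import Cfsg.Statements.S4422
-- import your own Cfsg.Agent.* helpers here

set_option autoImplicit false
open Cfsg

namespace Cfsg.Agent.S4422

/-- Primitive divisors of `q^e - 1` are congruent to 1 modulo `e`. Let `q ≥ 2` and `e ≥ 1` be natural numbers and let `m` be a divisor of `q^e - 1` that is coprime to `q^i - 1` for every `1 ≤ i < e` (so `m` divides the primitive part of `q^e - 1`, the largest such divisor). Then `m ≡ 1 (mod e)`. -/
theorem result (q e m : ℕ) (hq : 2 ≤ q) (he : 1 ≤ e)
    (hm : m ∣ q ^ e - 1) (hcop : ∀ i : ℕ, 1 ≤ i → i < e → Nat.Coprime m (q ^ i - 1)) :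
    m % e = 1 % e := by
  have hqe : 1 ≤ q ^ e := Nat.one_le_pow _ _ (by omega)
  have hpos : 0 < q ^ e - 1 := by
    have : 2 ≤ q ^ e := by
      calc 2 ≤ q := hq
        _ = q ^ 1 := (pow_one q).symm
        _ ≤ q ^ e := Nat.pow_le_pow_right (by omega) he
    omega
  have hm0 : m ≠ 0 := by
    rintro rfl
    rw [zero_dvd_iff] at hm
    omega
  -- every prime factor of m is ≡ 1 mod e
  have hprime : ∀ p : ℕ, p.Prime → p ∣ m → p ≡ 1 [MOD e] := by
    intro p hp hpm
    haveI : Fact p.Prime := ⟨hp⟩
    have hpq : p ∣ q ^ e - 1 := hpm.trans hm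
    have h1 : ((q : ZMod p)) ^ e = 1 := by
      have : ((q ^ e - 1 : ℕ) : ZMod p) = 0 := (ZMod.natCast_eq_zero_iff _ _).mpr hpq
      rw [Nat.cast_sub hqe] at this
      push_cast at this
      exact sub_eq_zero.mp this
    have hq0 : (q : ZMod p) ≠ 0 := by
      intro h0
      rw [h0, zero_pow (by omega)] at h1
      exact zero_ne_one h1
    set d := orderOf (q : ZMod p) with hd
    have hde : d ∣ e := orderOf_dvd_of_pow_eq_one h1
    have hdpos : 0 < d := Nat.pos_of_dvd_of_pos hde (by omega)
    have hdle : d ≤ e := Nat.le_of_dvd (by omega) hde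
    have hdeq : d = e := by
      by_contra hne
      have hlt : d < e := lt_of_le_of_ne hdle hne
      have hc := hcop d hdpos hlt
      have hqd : 1 ≤ q ^ d := Nat.one_le_pow _ _ (by omega)
      have hpd : p ∣ q ^ d - 1 := by
        rw [← ZMod.natCast_eq_zero_iff, Nat.cast_sub hqd]
        push_cast
        rw [pow_orderOf_eq_one, sub_self]
      have : p ∣ 1 := by
        have := Nat.dvd_gcd hpm hpd
        rwa [hc] at this
      exact hp.one_lt.ne' (Nat.dvd_one.mp this)
    have hdiv : e ∣ p - 1 := hdeq ▸ ZMod.orderOf_dvd_card_sub_one hq0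
    have hp1 : 1 ≤ p := hp.one_lt.le
    obtain ⟨c, hc⟩ := hdiv
    have : p = 1 + e * c := by omega
    rw [this]
    unfold Nat.ModEq
    simp
  -- product of numbers ≡ 1 is ≡ 1
  have hlist : ∀ l : List ℕ, (∀ x ∈ l, x ≡ 1 [MOD e]) → l.prod ≡ 1 [MOD e] := by
    intro l
    induction l with
    | nil => intro _; simp [Nat.ModEq]
    | cons a t ih =>
      intro h
      rw [List.prod_cons]
      have ha := h a (by simp)
      have ht := ih (fun x hx => h x (by simp [hx]))
      simpa using ha.mul ht
  have := hlist m.primeFactorsList (fun x hx =>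
    hprime x (Nat.prime_of_mem_primeFactorsList hx) (Nat.dvd_of_mem_primeFactorsList hx))
  rw [Nat.prod_primeFactorsList hm0] at this
  exact this

end Cfsg.Agent.S4422
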