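import Cfsg.Statements.S4425
import Mathlib
import Cfsg.Agent.Lib.Helper2.PRegGenChar
import Cfsg.Agent.Lib.Helper24.IrrFacts

set_option autoImplicit false
open Cfsg

namespace Cfsg.Agent.S4425

open Cfsg.Agent.Lib.Helper2 Cfsg.Agent.CharLib Cfsg.Agent.Lib.Helper24 in
theorem aux1 {G : Type*} [Group G] [Finite G] (p : ℕ) [Fact p.Prime] (χ : Cfsg.IrrCharacter G) :
    Cfsg.IsGeneralizedCharacter G (fun x : G => if p ∣ orderOf x then (0 : ℂ) else
      ((p ^ ((Nat.card G).factorization p -
        (Cfsg.charDegree (χ : G → ℂ)).factorization p) : ℕ) : ℂ) * (χ : G → ℂ) x) := by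
  classical
  have hFG : Fintype G := Fintype.ofFinite G
  have hp : p.Prime := Fact.out
  have hχ : IsCharacter G (χ : G → ℂ) := IsIrrCharacter.isCharacter χ.2
  have key := scaled_pRegPart_isGenChar hχ (p := p) (p ^ ((Nat.card G).factorization p -
        (Cfsg.charDegree (χ : G → ℂ)).factorization p)) (by
    intro g j hj
    have h1 := irr_apply_one χ
    obtain ⟨n, ρ, hρ, hρχ⟩ := χ.2
    have hρ' : ρ.IsIrreducible := hρ
    have h2 := isIntegral_pow_mul_char_div ρ hp g j hj
    rw [hρχ] at h2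
    have h3 : Module.finrank ℂ (Fin n → ℂ) = Cfsg.charDegree (χ : G → ℂ) := by
      have h4 : (Module.finrank ℂ (Fin n → ℂ) : ℂ) = (Cfsg.charDegree (χ : G → ℂ) : ℂ) := by
        rw [← h1, ← hρχ, Representation.char_one]
      exact_mod_cast h4
    rw [h3] at h2
    exact h2)
  convert key using 1
  funext x
  unfold pRegPart
  split_ifs
  · rw [mul_zero]
  · rfl

open Cfsg.Agent.Lib.Helper2 Cfsg.Agent.CharLib Cfsg.Agent.Lib.Helper24 in
theorem aux2 {G : Type*} [Group G] [Finite G] (p : ℕ) [Fact p.Prime] (χ : Cfsg.IrrCharacter G) :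
    ¬ Cfsg.IsGeneralizedCharacter G (fun x : G => if p ∣ orderOf x then (0 : ℂ) else
      ((p ^ (Nat.card G).factorization p : ℕ) : ℂ) /
        ((p ^ ((Cfsg.charDegree (χ : G → ℂ)).factorization p + 1) : ℕ) : ℂ) * (χ : G → ℂ) x) := by
  classical
  intro hgen
  have hFG : Fintype G := Fintype.ofFinite G
  have hp : p.Prime := Fact.out
  obtain ⟨S⟩ : Nonempty (Sylow p G) := inferInstance
  have hFS : Fintype (S : Subgroup G) := Fintype.ofFinite _
  set η : G → ℂ := fun x : G => if p ∣ orderOf x then (0 : ℂ) else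
      ((p ^ (Nat.card G).factorization p : ℕ) : ℂ) /
        ((p ^ ((Cfsg.charDegree (χ : G → ℂ)).factorization p + 1) : ℕ) : ℂ) * (χ : G → ℂ) x with hη
  -- restriction to the Sylow subgroup
  have hres : IsGeneralizedCharacter (S : Subgroup G) (fun s : (S : Subgroup G) => η s) := by
    obtain ⟨A, B, hA, hB, hAB⟩ := hgen
    refine ⟨fun s => A s, fun s => B s, IsCharacter.restrict hA _, IsCharacter.restrict hB _, ?_⟩
    funext s
    have := congrFun hAB s
    exact this
  obtain ⟨k, hk⟩ := Cfsg.Agent.Lib.Helper10.genChar_classInner_int hres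
    (isCharacter_one (G := (S : Subgroup G)))
  -- the inner product
  have hS : Nat.card (S : Subgroup G) = p ^ (Nat.card G).factorization p :=
    S.card_eq_multiplicity
  have hvan : ∀ s : (S : Subgroup G), s ≠ 1 → η s = 0 := by
    intro s hs
    have h1 : p ∣ orderOf (s : G) := by
      rw [Subgroup.orderOf_coe]
      obtain ⟨m, hm⟩ := (IsPGroup.iff_orderOf.mp S.isPGroup') s
      rw [hm]
      have hm0 : m ≠ 0 := by
        rintro rfl
        rw [pow_zero, orderOf_eq_one_iff] at hm
        exact hs hm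
      exact dvd_pow_self p hm0
    rw [hη]
    simp only
    rw [if_pos h1]
  have hsum : ∑ s : (S : Subgroup G), η s * (starRingEnd ℂ) ((1 : ↥(S : Subgroup G) → ℂ) s) =
      η 1 := by
    rw [Finset.sum_eq_single (1 : (S : Subgroup G))]
    · simp
    · intro s _ hs
      rw [hvan s hs, zero_mul]
    · intro h; exact absurd (Finset.mem_univ _) h
  unfold classInner at hk
  rw [hsum, hS] at hk
  have hη1 : η 1 = ((p ^ (Nat.card G).factorization p : ℕ) : ℂ) /
        ((p ^ ((Cfsg.charDegree (χ : G → ℂ)).factorization p + 1) : ℕ) : ℂ) *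
          (Cfsg.charDegree (χ : G → ℂ) : ℂ) := by
    rw [hη]
    simp only
    have hp1 : ¬ p ∣ orderOf (1 : G) := by
      rw [orderOf_one]
      exact hp.one_lt.ne' ∘ Nat.dvd_one.mp
    rw [if_neg hp1, irr_apply_one χ]
  rw [hη1] at hk
  have hp0 : (p : ℂ) ≠ 0 := by exact_mod_cast hp.ne_zero
  have hkey : (Cfsg.charDegree (χ : G → ℂ) : ℂ) =
      ((p ^ ((Cfsg.charDegree (χ : G → ℂ)).factorization p + 1) : ℕ) : ℂ) * k := by
    push_cast at hk ⊢
    field_simp at hk
    linear_combination hk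
  have hk0 : 0 ≤ k := by
    by_contra hneg
    rw [not_le] at hneg
    have h1 : ((Cfsg.charDegree (χ : G → ℂ) : ℤ) : ℂ) =
        (((p ^ ((Cfsg.charDegree (χ : G → ℂ)).factorization p + 1) : ℕ) : ℤ) * k : ℤ) := by
      push_cast; push_cast at hkey; exact hkey
    have h2 : (Cfsg.charDegree (χ : G → ℂ) : ℤ) =
        ((p ^ ((Cfsg.charDegree (χ : G → ℂ)).factorization p + 1) : ℕ) : ℤ) * k := by
      exact_mod_cast h1
    have h3 : (0 : ℤ) < (Cfsg.charDegree (χ : G → ℂ) : ℤ) := by
      exact_mod_cast irr_charDegree_pos χ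
    have h4 : (0 : ℤ) < ((p ^ ((Cfsg.charDegree (χ : G → ℂ)).factorization p + 1) : ℕ) : ℤ) := by
      exact_mod_cast pow_pos hp.pos _
    nlinarith
  obtain ⟨k', rfl⟩ := Int.eq_ofNat_of_zero_le hk0
  have hdvd : p ^ ((Cfsg.charDegree (χ : G → ℂ)).factorization p + 1) ∣
      Cfsg.charDegree (χ : G → ℂ) := by
    refine ⟨k', ?_⟩
    have : ((Cfsg.charDegree (χ : G → ℂ) : ℕ) : ℂ) =
        ((p ^ ((Cfsg.charDegree (χ : G → ℂ)).factorization p + 1) * k' : ℕ) : ℂ) := by
      push_cast; push_cast at hkey; exact hkey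
    exact_mod_cast this
  exact Nat.pow_succ_factorization_not_dvd (irr_charDegree_pos χ).ne' hp hdvd

/-- Let χ be an irreducible character of the finite group G, p a prime, p^a the p-part of the order of G and p^b the p-part of the degree χ(1). Let χ̃ be the class function equal to p^a · χ on p-regular elements and zero on p-singular elements. Then p^(−b) · χ̃ is a generalized character of G, while p^(−(b+1)) · χ̃ is not. -/
theorem result {G : Type*} [Group G] [Finite G] (p : ℕ) [Fact p.Prime] (χ : Cfsg.IrrCharacter G) : Cfsg.IsGeneralizedCharacter G (fun x : G => if p ∣ orderOf x then (0 : ℂ) else ((p ^ ((Nat.card G).factorization p - (Cfsg.charDegree (χ : G → ℂ)).factorization p) : ℕ) : ℂ) * (χ : G → ℂ) x) ∧ ¬ Cfsg.IsGeneralizedCharacter G (fun x : G => if p ∣ orderOf x then (0 : ℂ) else ((p ^ (Nat.card G).factorization p : ℕ) : ℂ) / ((p ^ ((Cfsg.charDegree (χ : G → ℂ)).factorization p + 1) : ℕ) : ℂ) * (χ : G → ℂ) x) := by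
  exact ⟨aux1 p χ, aux2 p χ⟩

end Cfsg.Agent.S4425
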