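import Cfsg.Statements.S4444
import Mathlib
import Cfsg.Agent.Lib.Helper2.GlaubPInd

set_option autoImplicit false
open Cfsg

namespace Cfsg.Agent.S4444

/-- The Glauberman correspondence for a p-group of operators. Inside a finite group Γ let S normalise G with the orders of G and S coprime, S a p-group, and let C = G ⊓ C(S) be the fixed points. Call an irreducible character χ of G S-invariant when χ(s g s⁻¹) = χ(g) for s ∈ S, g ∈ G. Then: (i) for every S-invariant χ there is exactly one irreducible character β of C whose multiplicity [χ_C, β] in the restriction of χ is not divisible by p; (ii) that multiplicity is ≡ 1 or ≡ −1 (mod p); (iii) distinct S-invariant χ give distinct β; (iv) every irreducible character of C arises in this way. So χ ↦ β is a bijection from the S-invariant irreducible characters of G onto the irreducible characters of C. -/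
theorem result {Γ : Type*} [Group Γ] [Fintype Γ] (G S : Subgroup Γ) [Fintype G] (hnorm : ∀ s ∈ S, ∀ g ∈ G, s * g * s⁻¹ ∈ G) (hcop : (Nat.card G).Coprime (Nat.card S)) (p : ℕ) (hp : p.Prime) (hS : IsPGroup p S) (C : Subgroup Γ) [Fintype C] (hC : C = G ⊓ Subgroup.centralizer (S : Set Γ)) (hCG : C ≤ G) : (∀ χ : Cfsg.IrrCharacter G, (∀ s ∈ S, ∀ g g' : G, (g' : Γ) = s * g * s⁻¹ → (χ : G → ℂ) g' = (χ : G → ℂ) g) → ∃! β : Cfsg.IrrCharacter C, ∃ m : ℕ, Cfsg.classInner (fun c : C => (χ : G → ℂ) ⟨c, hCG c.2⟩) (β : C → ℂ) = (m : ℂ) ∧ ¬ p ∣ m) ∧ (∀ χ : Cfsg.IrrCharacter G, (∀ s ∈ S, ∀ g g' : G, (g' : Γ) = s * g * s⁻¹ → (χ : G → ℂ) g' = (χ : G → ℂ) g) → ∀ β : Cfsg.IrrCharacter C, ∀ m : ℕ, Cfsg.classInner (fun c : C => (χ : G → ℂ) ⟨c, hCG c.2⟩) (β : C → ℂ) = (m : ℂ) → ¬ p ∣ m → ((m : ℤ) ≡ 1 [ZMOD p] ∨ (m : ℤ) ≡ -1 [ZMOD p])) ∧ (∀ χ χ' : Cfsg.IrrCharacter G, (∀ s ∈ S, ∀ g g' : G, (g' : Γ)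 = s * g * s⁻¹ → (χ : G → ℂ) g' = (χ : G → ℂ) g) → (∀ s ∈ S, ∀ g g' : G, (g' : Γ) = s * g * s⁻¹ → (χ' : G → ℂ) g' = (χ' : G → ℂ) g) → ∀ β : Cfsg.IrrCharacter C, ∀ m m' : ℕ, Cfsg.classInner (fun c : C => (χ : G → ℂ) ⟨c, hCG c.2⟩) (β : C → ℂ) = (m : ℂ) → ¬ p ∣ m → Cfsg.classInner (fun c : C => (χ' : G → ℂ) ⟨c, hCG c.2⟩) (β : C → ℂ) = (m' : ℂ) → ¬ p ∣ m' → χ = χ') ∧ (∀ β : Cfsg.IrrCharacter C, ∃ χ : Cfsg.IrrCharacter G, (∀ s ∈ S, ∀ g g' : G, (g' : Γ) = s * g * s⁻¹ → (χ : G → ℂ) g' = (χ : G → ℂ) g) ∧ ∃ m : ℕ, Cfsg.classInner (fun c : C => (χ : G → ℂ) ⟨c, hCG c.2⟩) (β : C → ℂ) = (m : ℂ) ∧ ¬ p ∣ m) := by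
  obtain ⟨h1, h3, h4⟩ := Cfsg.Agent.Lib.Helper2.Glaub.pgroup_corr hp (Nat.card S) G S C rfl hnorm
    hcop hS hC hCG
  refine ⟨?_, ?_, h3, h4⟩
  · intro χ hχ
    obtain ⟨β, ε, hε, hβ⟩ := h1 χ hχ
    refine ⟨β, ?_, ?_⟩
    · obtain ⟨m, hm, hmod⟩ := hβ β
      rw [if_pos rfl] at hmod
      exact ⟨m, hm, Cfsg.Agent.Lib.Helper2.Glaub.not_dvd_of_modEq_sign hp hε hmod⟩
    · rintro β' ⟨m, hm, hpm⟩
      by_contra hne
      obtain ⟨m', hm', hmod⟩ := hβ β'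
      rw [if_neg hne] at hmod
      have hmm : m = m' := by exact_mod_cast hm.symm.trans hm'
      subst hmm
      apply hpm
      exact_mod_cast Int.modEq_zero_iff_dvd.mp hmod
  · intro χ hχ β' m hm hpm
    obtain ⟨β, ε, hε, hβ⟩ := h1 χ hχ
    obtain ⟨m', hm', hmod⟩ := hβ β'
    have hmm : m = m' := by exact_mod_cast hm.symm.trans hm'
    subst hmm
    by_cases hb : β' = β
    · rw [if_pos hb] at hmod
      rcases hε with rfl | rfl
      · exact Or.inl hmod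
      · exact Or.inr hmod
    · rw [if_neg hb] at hmod
      exfalso
      apply hpm
      exact_mod_cast Int.modEq_zero_iff_dvd.mp hmod

end Cfsg.Agent.S4444
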