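import Cfsg.Statements.S4446
import Mathlib
import Cfsg.Agent.Lib.Helper2.GlaubTransl

set_option autoImplicit false
open Cfsg

namespace Cfsg.Agent.S4446

open Cfsg.Agent.CharLib Cfsg.Agent.Lib.Helper6 Cfsg.Agent.Lib.Helper2.Glaub

/-- Let the finite group Γ be generated by a normal subgroup G and a cyclic subgroup S of coprime orders, C = G ⊓ C(S), and let χ be an S-invariant irreducible character of G with canonical extension χ̂ to Γ (the extension whose determinantal order is coprime to the order of S). Then there are exactly one irreducible character β of C and one sign ε such that χ̂(c s) = ε β(c) for every c ∈ C and every generator s of S; this β is a constituent of the restriction of χ to C; distinct S-invariant χ give distinct β; and every irreducible character of C arises in this way. -/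
theorem result {Γ : Type*} [Group Γ] [Fintype Γ] (G S : Subgroup Γ) [Fintype G] (hnorm : ∀ s ∈ S, ∀ g ∈ G, s * g * s⁻¹ ∈ G) (hcop : (Nat.card G).Coprime (Nat.card S)) (htop : G ⊔ S = ⊤) (hcyc : IsCyclic S) (C : Subgroup Γ) [Fintype C] (hC : C = G ⊓ Subgroup.centralizer (S : Set Γ)) (hCG : C ≤ G) : (∀ (χ : Cfsg.IrrCharacter G) (χh : Cfsg.IrrCharacter Γ), (∀ s ∈ S, ∀ g g' : G, (g' : Γ) = s * g * s⁻¹ → (χ : G → ℂ) g' = (χ : G → ℂ) g) → (∀ g : G, (χh : Γ → ℂ) g = (χ : G → ℂ) g) → (Cfsg.detOrder (χh : Γ → ℂ)).Coprime (Nat.card S) → (∃! βε : Cfsg.IrrCharacter C × ℤ, (βε.2 = 1 ∨ βε.2 = -1) ∧ ∀ c : C, ∀ s : Γ, Subgroup.zpowers s = S → (χh : Γ → ℂ) ((c : Γ) * s) = (βε.2 : ℂ) * (βε.1 : C → ℂ) c) ∧ ∀ β : Cfsg.IrrCharacter C, ∀ ε : ℤ, (ε = 1 ∨ ε = -1) → (∀ c : C, ∀ s : Γ, Subgroup.zpowers s = S → (χh : Γ → ℂ) ((c : Γ) * s) = (ε : ℂ) * (β : C → ℂ) c) → Cfsg.classInner (fun c : C =>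 (χ : G → ℂ) ⟨c, hCG c.2⟩) (β : C → ℂ) ≠ 0) ∧ (∀ (χ χ' : Cfsg.IrrCharacter G) (χh χh' : Cfsg.IrrCharacter Γ), (∀ s ∈ S, ∀ g g' : G, (g' : Γ) = s * g * s⁻¹ → (χ : G → ℂ) g' = (χ : G → ℂ) g) → (∀ s ∈ S, ∀ g g' : G, (g' : Γ) = s * g * s⁻¹ → (χ' : G → ℂ) g' = (χ' : G → ℂ) g) → (∀ g : G, (χh : Γ → ℂ) g = (χ : G → ℂ) g) → (∀ g : G, (χh' : Γ → ℂ) g = (χ' : G → ℂ) g) → (Cfsg.detOrder (χh : Γ → ℂ)).Coprime (Nat.card S) → (Cfsg.detOrder (χh' : Γ → ℂ)).Coprime (Nat.card S) → ∀ β : Cfsg.IrrCharacter C, ∀ ε ε' : ℤ, (ε = 1 ∨ ε = -1) → (ε' = 1 ∨ ε' = -1) → (∀ c : C, ∀ s : Γ, Subgroup.zpowers s = S → (χh : Γ → ℂ) ((c : Γ) * s) = (ε : ℂ) * (β : C → ℂ) c) → (∀ c : C, ∀ s : Γ, Subgroup.zpowers s = S → (χh' : Γ → ℂ) ((c : Γ) * s) = (ε' : ℂ) * (β : C → ℂ) c) → χ = χ') ∧ (∀ β : Cfsg.IrrCharacter C, ∃ (χ : Cfsg.IrrCharacter G) (χh : Cfsg.IrrCharacter Γ) (ε : ℤ), (∀ s ∈ S, ∀ g g' : G, (g' : Γ)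 = s * g * s⁻¹ → (χ : G → ℂ) g' = (χ : G → ℂ) g) ∧ (∀ g : G, (χh : Γ → ℂ) g = (χ : G → ℂ) g) ∧ (Cfsg.detOrder (χh : Γ → ℂ)).Coprime (Nat.card S) ∧ (ε = 1 ∨ ε = -1) ∧ ∀ c : C, ∀ s : Γ, Subgroup.zpowers s = S → (χh : Γ → ℂ) ((c : Γ) * s) = (ε : ℂ) * (β : C → ℂ) c) := by
  classical
  haveI hGn : G.Normal := normal_of_sup_eq_top G S hnorm htop
  obtain ⟨s₀', hs₀'⟩ := hcyc.exists_generator
  have hs₀ : Subgroup.zpowers (s₀' : Γ) = S := by
    apply le_antisymm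
    · rw [Subgroup.zpowers_le]
      exact s₀'.2
    · intro x hx
      obtain ⟨k, hk⟩ := Subgroup.mem_zpowers_iff.mp (hs₀' ⟨x, hx⟩)
      rw [Subgroup.mem_zpowers_iff]
      refine ⟨k, ?_⟩
      have h1 := congrArg (fun y : S => (y : Γ)) hk
      simpa using h1
  have hS := setup_of_zpowers G S C (s₀' : Γ) hs₀ hcop htop hC
  have htop' : G ⊔ Subgroup.zpowers (s₀' : Γ) = ⊤ := by rw [hs₀]; exact htop
  have hidx : G.index ∣ Nat.card S := by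
    have h1 := hS.hidx
    rwa [← Nat.card_zpowers, hs₀] at h1
  have hcanon : ∀ (χ : Cfsg.IrrCharacter G) (χh : Cfsg.IrrCharacter Γ),
      (∀ g : G, (χh : Γ → ℂ) g = (χ : G → ℂ) g) →
      (Cfsg.detOrder (χh : Γ → ℂ)).Coprime (Nat.card S) → CanonExt G (χh : Γ → ℂ) := by
    intro χ χh hext hdet
    refine ⟨χh.2, ?_, ?_⟩
    · have h1 : resFun G (χh : Γ → ℂ) = (χ : G → ℂ) := funext hext
      rw [h1]
      exact χ.2
    · exact (Nat.Coprime.coprime_dvd_right hidx hdet).symm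
  have hres : ∀ (χ : Cfsg.IrrCharacter G) (χh : Cfsg.IrrCharacter Γ),
      (∀ g : G, (χh : Γ → ℂ) g = (χ : G → ℂ) g) →
      (fun c : C => (χ : G → ℂ) ⟨c, hCG c.2⟩) = fun c : C => (χh : Γ → ℂ) (c : Γ) :=
    fun χ χh hext => funext fun c => (hext ⟨c, hCG c.2⟩).symm
  refine ⟨?_, ?_, ?_⟩
  · intro χ χh hinv hext hdet
    have hc := hcanon χ χh hext hdet
    obtain ⟨β₀, ε₀, hε₀, h1, h2⟩ := hc.exists_sign_irr_gen hS
    have key : ∀ (β : Cfsg.IrrCharacter C) (ε : ℤ), (ε = 1 ∨ ε = -1) →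
        (∀ c : C, ∀ s : Γ, Subgroup.zpowers s = S →
          (χh : Γ → ℂ) ((c : Γ) * s) = (ε : ℂ) * (β : C → ℂ) c) → β = β₀ ∧ ε = ε₀ := by
      intro β ε hε h
      apply sign_irr_unique hε hε₀
      intro c
      rw [← h c (s₀' : Γ) hs₀, ← h1 c (s₀' : Γ) rfl]
    constructor
    · refine ⟨(β₀, ε₀), ⟨hε₀, fun c s hs => h1 c s (by rw [hs, hs₀])⟩, ?_⟩
      rintro ⟨β, ε⟩ ⟨hε, h⟩
      obtain ⟨h3, h4⟩ := key β ε hε h
      rw [h3, h4]
    · intro β ε hε h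
      obtain ⟨h3, h4⟩ := key β ε hε h
      rw [h3, hres χ χh hext]
      exact h2
  · intro χ χ' χh χh' hinv hinv' hext hext' hdet hdet' β ε ε' hε hε' h h'
    have hc := hcanon χ χh hext hdet
    have hc' := hcanon χ' χh' hext' hdet'
    have h3 := sign_irr_inj hS hc.irr hc.res hc'.irr hc'.res β.2 hε hε'
      (fun c => h c (s₀' : Γ) hs₀) (fun c => h' c (s₀' : Γ) hs₀)
    apply Subtype.ext
    funext g
    have h4 := congrFun h3 g
    rw [resFun_apply, resFun_apply, hext, hext'] at h4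
    exact h4.symm
  · intro β
    obtain ⟨χ, χh, ε, hstab, hc, hext, hdet, hε, h⟩ := exists_canonExt_of_irr hS htop' β
    refine ⟨χ, ⟨χh, hc.irr⟩, ε, ?_, hext, ?_, hε, ?_⟩
    · rw [invariant_iff_le_stabSub, hstab]
      exact le_top
    · show (Cfsg.detOrder χh).Coprime (Nat.card S)
      rw [hdet]
      exact Nat.Coprime.coprime_dvd_left
        (detOrder_dvd_card (IsIrrCharacter.isCharacter χ.2)) hcop
    · intro c s hs
      exact h c s (by rw [hs, hs₀])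

end Cfsg.Agent.S4446
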