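import Cfsg.Statements.S4447
import Cfsg.Agent.Lib.Helper1.Coprime
import Cfsg.Agent.Lib.Helper6.Clifford
import Cfsg.Agent.Lib.Helper6.CliffordCorr
import Cfsg.Agent.Lib.Helper24.IrrFacts

set_option autoImplicit false
open Cfsg

namespace Cfsg.Agent.S4447

open Cfsg.Agent.Lib Cfsg.Agent.CharLib
open Pointwise

/-- Group-theoretic core (Glauberman's lemma in quotient form). -/
theorem core {X : Type*} [Group X] [Finite X] (N₂ G₂ S₂ W : Subgroup X) [hN : N₂.Normal]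
    [hG : G₂.Normal] (htop : G₂ ⊔ S₂ = ⊤) (hNW : N₂ ≤ W)
    (hcop : (N₂.relIndex G₂).Coprime (Nat.card S₂))
    (hsolv : Group.IsSolvable S₂ ∨ Group.IsSolvable (G₂.map (QuotientGroup.mk' N₂)))
    (hfac : ∀ x : X, ∃ g ∈ G₂, ∃ u ∈ W, x = g * u) :
    ∃ g ∈ G₂, ∀ s ∈ S₂, g⁻¹ * s * g ∈ W := by
  classical
  set π := QuotientGroup.mk' N₂ with hπ
  have hπs : Function.Surjective π := QuotientGroup.mk'_surjective N₂
  set K := G₂.map π with hK
  set A := S₂.map π with hA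
  set U := W.map π with hU
  haveI : K.Normal := Subgroup.Normal.map hG π hπs
  have hAK : A ≤ Subgroup.normalizer (K : Set (X ⧸ N₂)) := by
    rw [Subgroup.normalizer_eq_top]; exact le_top
  have hcardK : Nat.card K = N₂.relIndex G₂ := by
    have h1 := Subgroup.relIndex_comap (⊥ : Subgroup (X ⧸ N₂)) π G₂
    rw [MonoidHom.comap_bot, QuotientGroup.ker_mk', Subgroup.relIndex_bot_left] at h1
    exact h1.symm
  have hcop' : Nat.Coprime (Nat.card A) (Nat.card K) := by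
    rw [hcardK]
    exact (Nat.Coprime.coprime_dvd_right (Subgroup.card_map_dvd S₂ π) hcop).symm
  have hsolv' : Group.IsSolvable A ∨ Group.IsSolvable K := by
    rcases hsolv with h | h
    · left
      exact solvable_of_surjective (MonoidHom.subgroupMap_surjective π S₂)
    · right; exact h
  have hKA : K ⊔ A = ⊤ := by
    rw [hK, hA, ← Subgroup.map_sup, htop, Subgroup.map_top_of_surjective π hπs]
  have hKU : ∀ γ ∈ K ⊔ A, ∃ k ∈ K, ∃ u ∈ U, γ = k * u := by
    intro γ _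
    obtain ⟨x, rfl⟩ := hπs γ
    obtain ⟨g, hg, u, hu, rfl⟩ := hfac x
    exact ⟨π g, Subgroup.mem_map_of_mem π hg, π u, Subgroup.mem_map_of_mem π hu, map_mul π g u⟩
  obtain ⟨k, hk, hle⟩ := Helper1.exists_le_conj_smul_of_coprime hAK hcop' hsolv'
    (by rw [hKA]; exact le_top) hKU
  obtain ⟨g, hg, rfl⟩ := hk
  refine ⟨g, hg, fun s hs => ?_⟩
  have h1 : π s ∈ MulAut.conj (π g) • U := hle (Subgroup.mem_map_of_mem π hs)
  rw [Helper1.mem_conj_smul_iff] at h1
  obtain ⟨w, hw, hwe⟩ := h1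
  have h2 : π w = π (g⁻¹ * s * g) := by
    rw [hwe]; simp
  have h3 : w⁻¹ * (g⁻¹ * s * g) ∈ N₂ := by
    rw [← QuotientGroup.eq]
    exact h2
  have h4 : g⁻¹ * s * g = w * (w⁻¹ * (g⁻¹ * s * g)) := by group
  rw [h4]
  exact W.mul_mem hw (hNW h3)


/-- The stabilizer of a function on a normal subgroup under conjugation. -/
def stab {X : Type*} [Group X] (N₂ : Subgroup X) [hN : N₂.Normal] (ψ : N₂ → ℂ) : Subgroup X where
  carrier := {x | Helper6.conjFun N₂ x ψ = ψ}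
  one_mem' := Helper6.conjFun_one N₂ ψ
  mul_mem' := by
    intro a b ha hb
    simp only [Set.mem_setOf_eq] at ha hb ⊢
    rw [Helper6.conjFun_mul, ha, hb]
  inv_mem' := by
    intro a ha
    simp only [Set.mem_setOf_eq] at ha ⊢
    have := Helper6.conjFun_inv_conjFun N₂ a ψ
    rw [ha] at this
    exact this

theorem mem_stab {X : Type*} [Group X] (N₂ : Subgroup X) [hN : N₂.Normal] (ψ : N₂ → ℂ) (x : X) :
    x ∈ stab N₂ ψ ↔ Helper6.conjFun N₂ x ψ = ψ := Iff.rfl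

/-- The abstract version: a nonzero invariant character of a normal subgroup whose irreducible
constituents are permuted transitively by `G₂` has an `S₂`-invariant irreducible constituent. -/
theorem main_abstract {X : Type*} [Group X] [Fintype X] (N₂ G₂ S₂ : Subgroup X) [hN : N₂.Normal]
    [hG : G₂.Normal] [Fintype N₂] (htop : G₂ ⊔ S₂ = ⊤)
    (hcop : (N₂.relIndex G₂).Coprime (Nat.card S₂))
    (hsolv : Group.IsSolvable S₂ ∨ Group.IsSolvable (G₂.map (QuotientGroup.mk' N₂)))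
    (Φ : N₂ → ℂ) (hΦ : IsCharacter N₂ Φ) (hΦ0 : Φ ≠ 0)
    (hΦinv : ∀ x : X, Helper6.conjFun N₂ x Φ = Φ)
    (htrans : ∀ ψ φ : N₂ → ℂ, IsIrrCharacter N₂ ψ → IsIrrCharacter N₂ φ →
      classInner Φ ψ ≠ 0 → classInner Φ φ ≠ 0 → ∃ g ∈ G₂, Helper6.conjFun N₂ g ψ = φ) :
    ∃ ψ : N₂ → ℂ, IsIrrCharacter N₂ ψ ∧ classInner Φ ψ ≠ 0 ∧
      ∀ s ∈ S₂, Helper6.conjFun N₂ s ψ = ψ := by
  classical
  obtain ⟨ψ₀, hψ₀, hψ₀c⟩ := Helper6.IsCharacter.exists_constituent hΦ hΦ0
  -- all conjugates are constituents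
  have hconst : ∀ x : X, classInner Φ (Helper6.conjFun N₂ x ψ₀) ≠ 0 := by
    intro x
    have := Helper6.classInner_conjFun N₂ x Φ ψ₀
    rw [hΦinv x] at this
    rw [this]; exact hψ₀c
  -- the stabilizer
  let W : Subgroup X := stab N₂ ψ₀
  have hWmem : ∀ x : X, x ∈ W ↔ Helper6.conjFun N₂ x ψ₀ = ψ₀ := fun x => Iff.rfl
  have hNW : N₂ ≤ W := by
    intro x hx
    rw [hWmem]
    exact Helper6.conjFun_of_mem N₂ (IsCharacter.isClassFunction (IsIrrCharacter.isCharacter hψ₀)) hx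
  have hfac : ∀ x : X, ∃ g ∈ G₂, ∃ u ∈ W, x = g * u := by
    intro x
    obtain ⟨g, hg, hge⟩ := htrans ψ₀ (Helper6.conjFun N₂ x⁻¹ ψ₀) hψ₀
      (Helper6.isIrrCharacter_conjFun N₂ hψ₀ x⁻¹) hψ₀c (hconst x⁻¹)
    -- conjFun g ψ₀ = conjFun x⁻¹ ψ₀, so g * x ∈ W
    have hu : g * x ∈ W := by
      rw [hWmem, Helper6.conjFun_mul, hge]
      have := Helper6.conjFun_inv_conjFun N₂ x⁻¹ ψ₀
      rwa [inv_inv] at this
    exact ⟨g⁻¹, G₂.inv_mem hg, g * x, hu, by group⟩
  obtain ⟨g, hg, hgS⟩ := core N₂ G₂ S₂ W htop hNW hcop hsolv hfac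
  refine ⟨Helper6.conjFun N₂ g⁻¹ ψ₀, Helper6.isIrrCharacter_conjFun N₂ hψ₀ g⁻¹, hconst g⁻¹,
    fun s hs => ?_⟩
  have h1 := (hWmem _).1 (hgS s hs)
  rw [Helper6.conjFun_mul, Helper6.conjFun_mul] at h1
  -- conjFun g (conjFun s (conjFun g⁻¹ ψ₀)) = ψ₀
  have h2 := congrArg (Helper6.conjFun N₂ g⁻¹) h1
  rw [Helper6.conjFun_inv_conjFun] at h2
  exact h2


theorem result' {Γ : Type*} [Group Γ] [Fintype Γ] (G S N : Subgroup Γ) [Fintype G] [Fintype N]
    (hnorm : ∀ s ∈ S, ∀ g ∈ G, s * g * s⁻¹ ∈ G) (hNG : N ≤ G) [hNn : (N.subgroupOf G).Normal]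
    (hNS : ∀ s ∈ S, ∀ n ∈ N, s * n * s⁻¹ ∈ N) (hcop : (N.relIndex G).Coprime (Nat.card S))
    (hsolv : Group.IsSolvable S ∨ Group.IsSolvable (G ⧸ N.subgroupOf G))
    (χ : Cfsg.IrrCharacter G)
    (hinv : (∀ s ∈ S, ∀ g g' : G, (g' : Γ) = s * g * s⁻¹ → (χ : G → ℂ) g' = (χ : G → ℂ) g)) :
    ∃ θ : Cfsg.IrrCharacter N,
      Cfsg.classInner (fun n : N => (χ : G → ℂ) ⟨n, hNG n.2⟩) (θ : N → ℂ) ≠ 0 ∧
      (∀ s ∈ S, ∀ g g' : N, (g' : Γ) = s * g * s⁻¹ → (θ : N → ℂ) g' = (θ : N → ℂ) g) := by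
  classical
  set X : Subgroup Γ := G ⊔ S with hX
  have hGX : G ≤ X := le_sup_left
  have hSX : S ≤ X := le_sup_right
  have hNX : N ≤ X := hNG.trans hGX
  have hGnN : G ≤ Subgroup.normalizer (N : Set Γ) :=
    (Subgroup.normal_subgroupOf_iff_le_normalizer hNG).1 hNn
  have hSnN : S ≤ Subgroup.normalizer (N : Set Γ) :=
    fun s hs => Helper1.mem_normalizer_of_forall_conj_mem N s (hNS s hs)
  have hXnN : X ≤ Subgroup.normalizer (N : Set Γ) := sup_le hGnN hSnN
  have hSnG : S ≤ Subgroup.normalizer (G : Set Γ) :=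
    fun s hs => Helper1.mem_normalizer_of_forall_conj_mem G s (hnorm s hs)
  have hXnG : X ≤ Subgroup.normalizer (G : Set Γ) := sup_le Subgroup.le_normalizer hSnG
  haveI hN₂ : (N.subgroupOf X).Normal :=
    (Subgroup.normal_subgroupOf_iff_le_normalizer hNX).2 hXnN
  haveI hG₂ : (G.subgroupOf X).Normal :=
    (Subgroup.normal_subgroupOf_iff_le_normalizer hGX).2 hXnG
  have htop : G.subgroupOf X ⊔ S.subgroupOf X = ⊤ := by
    rw [← Subgroup.subgroupOf_sup hGX hSX, Subgroup.subgroupOf_self]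
  have hcop₂ : ((N.subgroupOf X).relIndex (G.subgroupOf X)).Coprime
      (Nat.card (S.subgroupOf X)) := by
    rw [Subgroup.relIndex_subgroupOf hGX, Helper1.card_subgroupOf_of_le hSX]; exact hcop
  -- solvability
  have hsolv₂ : Group.IsSolvable (S.subgroupOf X) ∨
      Group.IsSolvable ((G.subgroupOf X).map (QuotientGroup.mk' (N.subgroupOf X))) := by
    rcases hsolv with h | h
    · left
      exact solvable_of_surjective (f := (Subgroup.subgroupOfEquivOfLe hSX).symm.toMonoidHom)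
        (MulEquiv.surjective _)
    · right
      let φ : G →* X ⧸ N.subgroupOf X :=
        (QuotientGroup.mk' (N.subgroupOf X)).comp (Subgroup.inclusion hGX)
      have hker : N.subgroupOf G ≤ φ.ker := by
        intro h hh
        rw [MonoidHom.mem_ker]
        change QuotientGroup.mk' (N.subgroupOf X) (Subgroup.inclusion hGX h) = 1
        rw [QuotientGroup.mk'_apply, QuotientGroup.eq_one_iff]
        exact hh
      let L := QuotientGroup.lift (N.subgroupOf G) φ hker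
      have hLmem : ∀ q, L q ∈ (G.subgroupOf X).map (QuotientGroup.mk' (N.subgroupOf X)) := by
        intro q
        induction q using QuotientGroup.induction_on with
        | H g =>
          change φ g ∈ _
          exact Subgroup.mem_map_of_mem _ (by
            rw [Subgroup.mem_subgroupOf]; exact g.2)
      let L' := L.codRestrict _ hLmem
      have hsurj : Function.Surjective L' := by
        rintro ⟨k, x, hx, rfl⟩
        have hx' : (x : Γ) ∈ G := hx
        refine ⟨QuotientGroup.mk ⟨x.1, hx'⟩, ?_⟩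
        apply Subtype.ext
        rfl
      exact solvable_of_surjective hsurj
  -- the transfer maps
  let e₂ : N.subgroupOf X ≃* N := Subgroup.subgroupOfEquivOfLe hNX
  let ι : N.subgroupOf G ≃* N.subgroupOf X := (Subgroup.subgroupOfEquivOfLe hNG).trans e₂.symm
  let j : N.subgroupOf X →* G := (Subgroup.inclusion hNG).comp e₂.toMonoidHom
  let Φ : N.subgroupOf X → ℂ := (χ : G → ℂ) ∘ j
  have hΦ : IsCharacter (N.subgroupOf X) Φ :=
    IsCharacter.comp_hom (IsIrrCharacter.isCharacter χ.2) j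
  have hΦ0 : Φ ≠ 0 := by
    intro h
    have h1 := congrFun h 1
    have h2 : Φ 1 = (χ : G → ℂ) 1 := by
      change (χ : G → ℂ) (j 1) = _
      rw [map_one]
    rw [h2] at h1
    exact Helper24.irr_apply_one_ne_zero χ h1
  have hΦapp : ∀ n : N.subgroupOf X, Φ n = (χ : G → ℂ) ⟨((n : X) : Γ), hNG n.2⟩ := fun n => rfl
  -- invariance of Φ
  have hΦinv : ∀ x : X, Helper6.conjFun (N.subgroupOf X) x Φ = Φ := by
    have hle : G.subgroupOf X ⊔ S.subgroupOf X ≤ stab (N.subgroupOf X) Φ := by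
      apply sup_le
      · intro x hx
        have hx' : (x : Γ) ∈ G := hx
        rw [mem_stab]
        funext n
        rw [Helper6.conjFun_apply, hΦapp, hΦapp]
        have hcf := IsCharacter.isClassFunction (IsIrrCharacter.isCharacter χ.2)
        have := hcf ⟨((n : X) : Γ), hNG n.2⟩ ⟨(x : Γ), hx'⟩
        rw [← this]
        congr 1
      · intro x hx
        have hx' : (x : Γ) ∈ S := hx
        rw [mem_stab]
        funext n
        rw [Helper6.conjFun_apply, hΦapp, hΦapp]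
        exact hinv (x : Γ) hx' _ _ rfl
    intro x
    rw [← mem_stab]
    apply hle
    rw [htop]
    exact Subgroup.mem_top x
  -- Clifford transitivity
  have hres : Helper6.resFun (N.subgroupOf G) (χ : G → ℂ) = Φ ∘ ι := by
    funext h
    rfl
  have htrans : ∀ ψ φ : N.subgroupOf X → ℂ, IsIrrCharacter (N.subgroupOf X) ψ →
      IsIrrCharacter (N.subgroupOf X) φ → classInner Φ ψ ≠ 0 → classInner Φ φ ≠ 0 →
      ∃ g ∈ G.subgroupOf X, Helper6.conjFun (N.subgroupOf X) g ψ = φ := by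
    intro ψ φ hψ hφ hψc hφc
    have h1 : classInner (Helper6.resFun (N.subgroupOf G) (χ : G → ℂ)) (ψ ∘ ι) ≠ 0 := by
      rw [hres, Helper6.classInner_comp_mulEquiv]; exact hψc
    have h2 : classInner (Helper6.resFun (N.subgroupOf G) (χ : G → ℂ)) (φ ∘ ι) ≠ 0 := by
      rw [hres, Helper6.classInner_comp_mulEquiv]; exact hφc
    obtain ⟨g, hg⟩ := Helper6.exists_conjFun_eq_of_constituent (N.subgroupOf G) χ.2
      (Helper6.isIrrCharacter_comp_mulEquiv' ι hψ) (Helper6.isIrrCharacter_comp_mulEquiv' ι hφ)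
      h1 h2
    refine ⟨⟨(g : Γ), hGX g.2⟩, g.2, ?_⟩
    funext n
    obtain ⟨h, rfl⟩ := ι.surjective n
    have h3 := congrFun hg h
    rw [Helper6.conjFun_apply] at h3 ⊢
    rw [Function.comp_apply, Function.comp_apply] at h3
    rw [← h3]
    congr 1
  obtain ⟨ψ₃, hψ₃, hψ₃c, hψ₃S⟩ := main_abstract (N.subgroupOf X) (G.subgroupOf X)
    (S.subgroupOf X) htop hcop₂ hsolv₂ Φ hΦ hΦ0 hΦinv htrans
  refine ⟨⟨ψ₃ ∘ e₂.symm, Helper6.isIrrCharacter_comp_mulEquiv' e₂.symm hψ₃⟩, ?_, ?_⟩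
  · have h4 : (fun n : N => (χ : G → ℂ) ⟨n, hNG n.2⟩) = Φ ∘ e₂.symm := by
      funext n
      rfl
    change classInner (fun n : N => (χ : G → ℂ) ⟨n, hNG n.2⟩) (ψ₃ ∘ e₂.symm) ≠ 0
    rw [h4, Helper6.classInner_comp_mulEquiv]
    exact hψ₃c
  · intro s hs n n' hn
    change ψ₃ (e₂.symm n') = ψ₃ (e₂.symm n)
    have h5 := congrFun (hψ₃S ⟨s, hSX hs⟩ hs) (e₂.symm n)
    rw [Helper6.conjFun_apply] at h5
    rw [← h5]
    congr 1
    apply Subtype.ext
    apply Subtype.ext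
    exact hn

/-- Inside a finite group Γ let S normalise G and also normalise a normal subgroup N of G, with the order of S coprime to the index of N in G and S or G/N solvable. Then for every S-invariant irreducible character χ of G, the restriction of χ to N has an S-invariant irreducible constituent. -/
theorem result {Γ : Type*} [Group Γ] [Fintype Γ] (G S N : Subgroup Γ) [Fintype G] [Fintype N] (hnorm : ∀ s ∈ S, ∀ g ∈ G, s * g * s⁻¹ ∈ G) (hNG : N ≤ G) [hNn : (N.subgroupOf G).Normal] (hNS : ∀ s ∈ S, ∀ n ∈ N, s * n * s⁻¹ ∈ N) (hcop : (N.relIndex G).Coprime (Nat.card S)) (hsolv : Group.IsSolvable S ∨ Group.IsSolvable (G ⧸ N.subgroupOf G)) (χ : Cfsg.IrrCharacter G) (hinv : (∀ s ∈ S, ∀ g g' : G, (g' : Γ) = s * g * s⁻¹ → (χ : G → ℂ) g' = (χ : G → ℂ) g)) : ∃ θ : Cfsg.IrrCharacter N, Cfsg.classInner (fun n : N => (χ : G → ℂ) ⟨n, hNG n.2⟩) (θ : N → ℂ) ≠ 0 ∧ (∀ s ∈ S, ∀ g g' : N, (g' : Γ) = s * g * s⁻¹ → (θ : N → ℂ) g' = (θ :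 N → ℂ) g) := by
  exact result' G S N hnorm hNG hNS hcop hsolv χ hinv

end Cfsg.Agent.S4447
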