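import Cfsg.Statements.S4455
import Cfsg.Agent.Lib.Helper23.CoprimeExt
import Cfsg.Agent.Lib.Helper12.Residual

set_option autoImplicit false
open Cfsg

namespace Cfsg.Agent.S4455



/-- Fix a prime p and a finite group G. Let s be the sum of χ(1)² over the irreducible characters χ of G whose degree is not divisible by p and whose determinantal order o(χ) is not divisible by p. Then the order of O^p(G), the subgroup generated by the elements of order prime to p, is congruent to s modulo p. -/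
theorem result {G : Type*} [Group G] [Finite G] (p : ℕ) (hp : p.Prime) : (Nat.card (Cfsg.pResidual p G) : ℤ) ≡ (∑ᶠ χ ∈ {χ : Cfsg.IrrCharacter G | ¬ p ∣ Cfsg.charDegree (χ : G → ℂ) ∧ ¬ p ∣ Cfsg.detOrder (χ : G → ℂ)}, (Cfsg.charDegree (χ : G → ℂ) : ℤ) ^ 2) [ZMOD p] := by
  classical
  haveI : Fact p.Prime := ⟨hp⟩
  letI := Cfsg.Agent.CharLib.fintypeIrr G
  haveI := Cfsg.Agent.Lib.Helper12.pResidual_normal' p G
  obtain ⟨k, hk⟩ := Cfsg.Agent.Lib.Helper12.pResidual_index_eq_pow p G
  have h := Cfsg.Agent.Lib.Helper23.card_modEq_sum_canonical (Cfsg.pResidual p G) hk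
    Cfsg.Agent.Lib.Helper23.coprime_orderOf_hom_pResidual
  have hset : {χ : Cfsg.IrrCharacter G | ¬ p ∣ Cfsg.charDegree (χ : G → ℂ) ∧
      ¬ p ∣ Cfsg.detOrder (χ : G → ℂ)} =
      ↑(Finset.univ.filter (fun χ : Cfsg.IrrCharacter G => ¬ p ∣ Cfsg.charDegree (χ : G → ℂ) ∧
        ¬ p ∣ Cfsg.detOrder (χ : G → ℂ))) := by
    ext χ
    simp
  rw [hset, finsum_mem_coe_finset]
  have h2 := Int.natCast_modEq_iff.mpr h
  push_cast at h2
  exact h2

end Cfsg.Agent.S4455
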