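import Cfsg.Statements.S4460
import Mathlib
import Cfsg.Agent.Lib.Helper24.ThreeDeg1
import Cfsg.Agent.Lib.Helper24.ThreeDeg4
import Cfsg.Agent.Lib.Helper21.IsaacsMain
import Cfsg.Agent.Lib.Lead.GalDegE

set_option autoImplicit false
open Cfsg

namespace Cfsg.Agent.S4460

open Cfsg.Agent.CharLib Cfsg.Agent.Lib.Helper6 Cfsg.Agent.Lib.Helper24 Cfsg.Agent.Lib.Helper25
open Cfsg.Agent.Lib.Helper23 Cfsg.Agent.Lib.Helper21.Isaacs Cfsg.Agent.Lib.Helper24.ThreeDeg
open scoped ComplexConjugate commutatorElement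

universe u

/-- Case (B) of Isaacs 12.15: the two nonlinear degrees are coprime. -/
theorem caseB {G : Type u} [Group G] [Finite G]
    (ih : ∀ (H : Type u) [Group H] [Finite H], Nat.card H < Nat.card G → ∀ m n : ℕ,
      (∀ χ : IrrCharacter H, charDegree (χ : H → ℂ) = 1 ∨ charDegree (χ : H → ℂ) = m ∨
        charDegree (χ : H → ℂ) = n) → derivedSeries H 3 = ⊥)
    (m n : ℕ) (hm : 1 < m) (hmn : m < n) (hcop : Nat.Coprime m n)
    (hcd : ∀ χ : IrrCharacter G, charDegree (χ : G → ℂ) = 1 ∨ charDegree (χ : G → ℂ) = m ∨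
      charDegree (χ : G → ℂ) = n)
    (χ₀ ψ₀ : IrrCharacter G) (hχ₀ : charDegree (χ₀ : G → ℂ) = m)
    (hψ₀ : charDegree (ψ₀ : G → ℂ) = n) : derivedSeries G 3 = ⊥ := by
  classical
  have hna : ¬ ∀ a b : G, a * b = b * a := by
    intro h
    have h1 := (comm_iff_forall_irr_apply_one (G := G)).mp h χ₀
    rw [irr_apply_one, hχ₀] at h1
    have : m = 1 := by exact_mod_cast h1
    omega
  obtain ⟨K, hKn, hKne, hKmax⟩ := exists_max_nonabelian_quotient hna
  haveI := hKn
  obtain ⟨hmin, hQne⟩ := quotient_min K hKne hKmax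
  by_cases hK : K = ⊥
  · exfalso
    letI := Fintype.ofFinite G
    letI := fintypeIrr G
    apply fusion_false hcd hm hmn hcop ?_ χ₀ ψ₀ hχ₀ hψ₀
    intro χ hχ1 g hg
    obtain ⟨N, hNn, hN, ψ', hψ', hψ'χ⟩ := GalDeg.exists_kernel_deflation χ.2
    by_contra hg1
    have hNne : N ≠ K := by
      rw [hK]
      intro h
      have := (hN g).mpr hg
      rw [h, Subgroup.mem_bot] at this
      exact hg1 this
    have hcomm : commutator G ≤ N := hKmax N hNn (by rw [hK]; exact bot_le) hNne
    have hQab : ∀ a b : G ⧸ N, a * b = b * a := by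
      intro a b
      induction a using QuotientGroup.induction_on with
      | H a =>
      induction b using QuotientGroup.induction_on with
      | H b =>
      rw [← QuotientGroup.mk_mul, ← QuotientGroup.mk_mul, QuotientGroup.eq]
      apply hcomm
      have : (a * b)⁻¹ * (b * a) = ⁅b⁻¹, a⁻¹⁆ := by
        rw [commutatorElement_def]; group
      rw [this, commutator_def]
      exact Subgroup.commutator_mem_commutator (Subgroup.mem_top _) (Subgroup.mem_top _)
    have h1 := (comm_iff_forall_irr_apply_one (G := G ⧸ N)).mp hQab ⟨ψ', hψ'⟩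
    have h2 : (χ : G → ℂ) 1 = 1 := by
      rw [← hψ'χ 1]
      exact h1
    rw [irr_apply_one] at h2
    apply hχ1
    exact_mod_cast h2
  · have hltQ : Nat.card (G ⧸ K) < Nat.card G := by
      rw [← Subgroup.index_eq_card, ← Subgroup.card_mul_index K]
      have h1 : 1 < Nat.card K := (Subgroup.one_lt_card_iff_ne_bot K).mpr hK
      have h2 : 0 < K.index := Nat.pos_of_ne_zero Subgroup.index_ne_zero_of_finite
      nlinarith
    have hQ3 := ih (G ⧸ K) hltQ m n (cd_quotient_three K m n hcd)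
    have hQ2 : derivedSeries (G ⧸ K) 2 = ⊥ := by
      by_contra hne
      have h3 : commutator (G ⧸ K) ≤ derivedSeries (G ⧸ K) 2 :=
        hmin _ (derivedSeries_normal _ 2) hne
      have h4 : derivedSeries (G ⧸ K) 2 = derivedSeries (G ⧸ K) 1 :=
        le_antisymm (derivedSeries_antitone _ (by omega)) (by rw [derivedSeries_one]; exact h3)
      have h5 : derivedSeries (G ⧸ K) 3 = derivedSeries (G ⧸ K) 2 := by
        rw [derivedSeries_succ, h4, ← derivedSeries_succ]
        exact h4
      rw [hQ3] at h5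
      exact hne h5.symm
    have hab : ∀ a ∈ commutator (G ⧸ K), ∀ b ∈ commutator (G ⧸ K), a * b = b * a := by
      intro a ha b hb
      have h1 : ⁅a, b⁆ ∈ derivedSeries (G ⧸ K) 2 := by
        rw [derivedSeries_succ, derivedSeries_one]
        exact Subgroup.commutator_mem_commutator ha hb
      rw [hQ2, Subgroup.mem_bot, commutatorElement_eq_one_iff_mul_comm] at h1
      exact h1
    obtain ⟨p, hp, hcase⟩ := lemma_12_3 hmin hab hQne
    rcases hcase with hQp | ⟨hMp, hcopi, hfpf⟩
    · exfalso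
      apply caseI_false K hm (hm.trans hmn) hcop hcd ⟨χ₀, hχ₀⟩ ⟨ψ₀, hψ₀⟩ p hp hQp
      intro hcomm
      apply hQne
      rw [eq_bot_iff, commutator_def, Subgroup.commutator_le]
      intro a _ b _
      rw [Subgroup.mem_bot, commutatorElement_eq_one_iff_mul_comm]
      exact hcomm a b
    · obtain ⟨L, hLn, hGL, x, hx⟩ :=
        caseII_three K hm (hm.trans hmn) hcop hcd hQne hab p hp hMp hcopi hfpf
      have hL2 : derivedSeries L 2 = ⊥ := derivedSeries_two_of_two_degrees x hx
      have h1 : derivedSeries G 1 ≤ (derivedSeries L 0).map L.subtype := by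
        rw [map_subtype_derivedSeries_zero, derivedSeries_one]
        exact hGL
      have h2 := derivedSeries_le_map_subtype L 1 0 h1 2
      rw [show (0 + 2) = 2 from rfl, hL2, Subgroup.map_bot] at h2
      exact le_bot_iff.mp h2

theorem main_aux (N : ℕ) : ∀ (G : Type u) [Group G] [Finite G], Nat.card G = N → ∀ m n : ℕ,
    (∀ χ : IrrCharacter G, charDegree (χ : G → ℂ) = 1 ∨ charDegree (χ : G → ℂ) = m ∨
      charDegree (χ : G → ℂ) = n) → derivedSeries G 3 = ⊥ := by
  induction N using Nat.strong_induction_on with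
  | _ N IH =>
  intro G _ _ hN m n hcd
  have ih : ∀ (H : Type u) [Group H] [Finite H], Nat.card H < Nat.card G → ∀ m n : ℕ,
      (∀ χ : IrrCharacter H, charDegree (χ : H → ℂ) = 1 ∨ charDegree (χ : H → ℂ) = m ∨
        charDegree (χ : H → ℂ) = n) → derivedSeries H 3 = ⊥ := by
    intro H _ _ hlt m n h
    exact IH (Nat.card H) (hN ▸ hlt) H rfl m n h
  have two : ∀ x : ℕ, (∀ χ : IrrCharacter G, charDegree (χ : G → ℂ) = 1 ∨
      charDegree (χ : G → ℂ) = x) → derivedSeries G 3 = ⊥ := fun x h =>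
    derivedSeries_eq_bot_of_le (by omega : 2 ≤ 3) (derivedSeries_two_of_two_degrees x h)
  by_cases hχm : ∃ χ : IrrCharacter G, charDegree (χ : G → ℂ) = m
  swap
  · apply two n
    intro χ
    rcases hcd χ with h | h | h
    · exact Or.inl h
    · exact absurd ⟨χ, h⟩ hχm
    · exact Or.inr h
  by_cases hχn : ∃ χ : IrrCharacter G, charDegree (χ : G → ℂ) = n
  swap
  · apply two m
    intro χ
    rcases hcd χ with h | h | h
    · exact Or.inl h
    · exact Or.inr h
    · exact absurd ⟨χ, h⟩ hχn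
  by_cases hm1 : m = 1
  · apply two n
    intro χ
    rcases hcd χ with h | h | h
    · exact Or.inl h
    · exact Or.inl (h.trans hm1)
    · exact Or.inr h
  by_cases hn1 : n = 1
  · apply two m
    intro χ
    rcases hcd χ with h | h | h
    · exact Or.inl h
    · exact Or.inr h
    · exact Or.inl (h.trans hn1)
  by_cases hmn : m = n
  · apply two m
    intro χ
    rcases hcd χ with h | h | h
    · exact Or.inl h
    · exact Or.inr h
    · exact Or.inr (h.trans hmn.symm)
  obtain ⟨χ₀, hχ₀⟩ := hχm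
  obtain ⟨ψ₀, hψ₀⟩ := hχn
  have hm0 : 0 < m := hχ₀ ▸ irr_charDegree_pos χ₀
  have hn0 : 0 < n := hψ₀ ▸ irr_charDegree_pos ψ₀
  by_cases hp : ∃ p : ℕ, p.Prime ∧ p ∣ m ∧ p ∣ n
  · obtain ⟨p, hp, hpm, hpn⟩ := hp
    refine caseA ih ?_ m n (by omega) (by omega) hcd ⟨χ₀, hχ₀⟩ p hp hpm hpn
    intro H hHn p k hp hk hab
    haveI := hHn
    exact abelian_by_pgroup_three H p k hp hk hab m n hcd
  · have hcop : Nat.Coprime m n := by
      apply Nat.coprime_of_dvd
      intro k hk hkm hkn
      exact hp ⟨k, hk, hkm, hkn⟩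
    rcases lt_or_gt_of_ne hmn with h | h
    · exact caseB ih m n (by omega) h hcop hcd χ₀ ψ₀ hχ₀ hψ₀
    · exact caseB ih n m (by omega) h hcop.symm (fun χ => by have := hcd χ; tauto) ψ₀ χ₀ hψ₀ hχ₀

theorem result' {G : Type u} [Group G] [Finite G]
    (hcd : Nat.card {n : ℕ // ∃ χ : Cfsg.IrrCharacter G, Cfsg.charDegree (χ : G → ℂ) = n} = 3) :
    derivedSeries G 3 = ⊥ := by
  classical
  set S : Set ℕ := {n : ℕ | ∃ χ : Cfsg.IrrCharacter G, Cfsg.charDegree (χ : G → ℂ) = n} with hS
  have h3 : S.ncard = 3 := by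
    rw [← Nat.card_coe_set_eq]
    exact hcd
  obtain ⟨x, y, z, hxy, hxz, hyz, hSxyz⟩ := Set.ncard_eq_three.mp h3
  have h1 : (1 : ℕ) ∈ S := by
    refine ⟨⟨1, isIrrCharacter_one⟩, ?_⟩
    have := irr_apply_one (⟨1, isIrrCharacter_one⟩ : IrrCharacter G)
    have h2 : ((⟨1, isIrrCharacter_one⟩ : IrrCharacter G) : G → ℂ) 1 = 1 := rfl
    rw [h2] at this
    exact_mod_cast this.symm
  have hmem : ∀ χ : IrrCharacter G, charDegree (χ : G → ℂ) = x ∨ charDegree (χ : G → ℂ) = y ∨
      charDegree (χ : G → ℂ) = z := by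
    intro χ
    have : charDegree (χ : G → ℂ) ∈ S := ⟨χ, rfl⟩
    rw [hSxyz] at this
    simpa using this
  rw [hSxyz] at h1
  simp only [Set.mem_insert_iff, Set.mem_singleton_iff] at h1
  rcases h1 with h | h | h
  · exact main_aux (Nat.card G) G rfl y z (fun χ => by have := hmem χ; rw [← h] at this; exact this)
  · exact main_aux (Nat.card G) G rfl x z (fun χ => by have := hmem χ; rw [← h] at this; tauto)
  · exact main_aux (Nat.card G) G rfl x y (fun χ => by have := hmem χ; rw [← h] at this; tauto)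

/-- A finite group with exactly three distinct irreducible character degrees is solvable of derived length at most 3: its third derived subgroup is trivial. -/
theorem result {G : Type*} [Group G] [Finite G] (hcd : Nat.card {n : ℕ // ∃ χ : Cfsg.IrrCharacter G, Cfsg.charDegree (χ : G → ℂ) = n} = 3) : derivedSeries G 3 = ⊥ := by
  exact result' hcd

end Cfsg.Agent.S4460
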