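import Cfsg.Statements.S4463
import Cfsg.Agent.Lib.Helper19.IPType2
import Cfsg.Agent.Lib.Helper19.IPType3

set_option autoImplicit false
open Cfsg

namespace Cfsg.Agent.S4463

open Cfsg.Agent.CharLib Cfsg.Agent.Lib.Helper6 Cfsg.Agent.Lib.Helper24 Cfsg.Agent.Lib.Helper25
open Cfsg.Agent.Lib.Helper21.Isaacs Cfsg.Agent.Lib.Helper19.IP

universe u

/-- `b² ⌊b/2⌋! ≤ b!` for `b ≥ 5` -/
theorem sq_mul_factorial_half_le (b : ℕ) (hb : 5 ≤ b) :
    b ^ 2 * Nat.factorial (b / 2) ≤ Nat.factorial b := by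
  obtain ⟨c, rfl⟩ : ∃ c, b = c + 3 := ⟨b - 3, by omega⟩
  have hc : 2 ≤ c := by omega
  have h1 : Nat.factorial ((c + 3) / 2) ≤ Nat.factorial c := Nat.factorial_le (by omega)
  have h2 : Nat.factorial (c + 3) = (c + 3) * ((c + 2) * ((c + 1) * Nat.factorial c)) := by
    rw [Nat.factorial_succ, Nat.factorial_succ, Nat.factorial_succ]
  rw [h2]
  have h3 : c + 3 ≤ (c + 2) * (c + 1) := by nlinarith
  calc (c + 3) ^ 2 * Nat.factorial ((c + 3) / 2) ≤ (c + 3) ^ 2 * Nat.factorial c :=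
        Nat.mul_le_mul_left _ h1
    _ = (c + 3) * ((c + 3) * Nat.factorial c) := by ring
    _ ≤ (c + 3) * (((c + 2) * (c + 1)) * Nat.factorial c) :=
        Nat.mul_le_mul_left _ (Nat.mul_le_mul_right _ h3)
    _ = (c + 3) * ((c + 2) * ((c + 1) * Nat.factorial c)) := by ring

/-- the inductive step: a nonabelian group has a subgroup with smaller degree bound and
controlled index -/
theorem key {G : Type u} [Group G] [Finite G] (b : ℕ)
    (hb : ∀ χ : IrrCharacter G, charDegree (χ : G → ℂ) ≤ b)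
    (hna : ¬ ∀ a b : G, a * b = b * a) :
    ∃ H : Subgroup G, ∃ b' : ℕ, b' < b ∧ (∀ θ : IrrCharacter H, charDegree (θ : H → ℂ) ≤ b') ∧
      H.index * (Nat.factorial b') ^ 2 ≤ (Nat.factorial b) ^ 2 := by
  classical
  obtain ⟨K, hKn, hKne, hKmax⟩ := exists_max_nonabelian_quotient hna
  haveI := hKn
  obtain ⟨hmin, hQne⟩ := quotient_min K hKne hKmax
  have hQna := not_comm_of_commutator_ne_bot hQne
  have hb1 : 1 ≤ b := by
    have h1 := hb ⟨1, Cfsg.Agent.CharLib.isIrrCharacter_one⟩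
    have h2 := irr_charDegree_pos (⟨1, Cfsg.Agent.CharLib.isIrrCharacter_one⟩ : IrrCharacter G)
    omega
  have alt : (∃ H : Subgroup G, H.index ≤ b ^ 2 ∧
      ∀ θ : IrrCharacter H, charDegree (θ : H → ℂ) < b) ∨ (5 ≤ b ∧ K.index ≤ b ^ 4) := by
    by_cases hab : ∀ a ∈ commutator (G ⧸ K), ∀ b ∈ commutator (G ⧸ K), a * b = b * a
    · left
      obtain ⟨p, hp, hQp | ⟨hMp, hcop, hfpf⟩⟩ := lemma_12_3 hmin hab hQne
      · exact type1 K b hb hmin hQne p hp hQp
      · exact type2 K b hb hQne hab p hp hMp hcop hfpf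
    · exact type3 K b hb hmin hQne hab
  rcases alt with ⟨H, hidx, hdeg⟩ | ⟨hb5, hKidx⟩
  · refine ⟨H, b - 1, by omega, fun θ => by have := hdeg θ; omega, ?_⟩
    have h1 : b * Nat.factorial (b - 1) = Nat.factorial b := Nat.mul_factorial_pred (by omega)
    calc H.index * Nat.factorial (b - 1) ^ 2 ≤ b ^ 2 * Nat.factorial (b - 1) ^ 2 :=
          Nat.mul_le_mul_right _ hidx
      _ = (b * Nat.factorial (b - 1)) ^ 2 := by ring
      _ = Nat.factorial b ^ 2 := by rw [h1]
  · refine ⟨K, b / 2, by omega, fun ξ => ?_, ?_⟩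
    · have := two_mul_charDegree_le K b hb hQna ξ
      omega
    · have h1 := sq_mul_factorial_half_le b hb5
      calc K.index * Nat.factorial (b / 2) ^ 2 ≤ b ^ 4 * Nat.factorial (b / 2) ^ 2 :=
            Nat.mul_le_mul_right _ hKidx
        _ = (b ^ 2 * Nat.factorial (b / 2)) ^ 2 := by ring
        _ ≤ Nat.factorial b ^ 2 := Nat.pow_le_pow_left h1 2

/-- Isaacs–Passman, with `b` any upper bound for the irreducible degrees -/
theorem main (b : ℕ) : ∀ (G : Type u) [Group G] [Finite G],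
    (∀ χ : IrrCharacter G, charDegree (χ : G → ℂ) ≤ b) →
    ∃ A : Subgroup G, (∀ x ∈ A, ∀ y ∈ A, x * y = y * x) ∧ A.index ≤ (Nat.factorial b) ^ 2 := by
  induction b using Nat.strong_induction_on with
  | _ b ih =>
    intro G _ _ hb
    by_cases hcomm : ∀ a b : G, a * b = b * a
    · refine ⟨⊤, fun x _ y _ => hcomm x y, ?_⟩
      rw [Subgroup.index_top]
      exact Nat.one_le_pow _ _ (Nat.factorial_pos b)
    · obtain ⟨H, b', hb'lt, hdeg, hidx⟩ := key b hb hcomm
      obtain ⟨A', hA'comm, hA'idx⟩ := ih b' hb'lt H hdeg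
      refine ⟨A'.map H.subtype, ?_, ?_⟩
      · intro x hx y hy
        obtain ⟨x', hx', rfl⟩ := Subgroup.mem_map.mp hx
        obtain ⟨y', hy', rfl⟩ := Subgroup.mem_map.mp hy
        rw [← map_mul, ← map_mul, hA'comm x' hx' y' hy']
      · rw [Subgroup.index_map_subtype]
        calc A'.index * H.index ≤ Nat.factorial b' ^ 2 * H.index := Nat.mul_le_mul_right _ hA'idx
          _ = H.index * Nat.factorial b' ^ 2 := by ring
          _ ≤ Nat.factorial b ^ 2 := hidx

/-- Let b be the largest irreducible character degree of the finite group G. Then G has an abelian subgroup of index at most (b!)². -/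
theorem result {G : Type*} [Group G] [Finite G] (b : ℕ) (hb : IsGreatest {d : ℕ | ∃ χ : Cfsg.IrrCharacter G, Cfsg.charDegree (χ : G → ℂ) = d} b) : ∃ A : Subgroup G, (∀ x ∈ A, ∀ y ∈ A, x * y = y * x) ∧ A.index ≤ (Nat.factorial b) ^ 2 := by
  exact main b G (fun χ => hb.2 ⟨χ, rfl⟩)

end Cfsg.Agent.S4463
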