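import Cfsg.Statements.S4467
import Mathlib
import Cfsg.Agent.Lib.Helper24.Winter5
import Cfsg.Agent.Lib.Helper24.IrrFacts

set_option autoImplicit false
open Cfsg

namespace Cfsg.Agent.S4467

open Cfsg.Agent.Lib.Helper24 Cfsg.Agent.Lib.Helper24.Winter

universe u

theorem result' {G : Type u} [Group G] [Finite G] (χ : Cfsg.IrrCharacter G)
    (hfaith : ∀ g : G, (χ : G → ℂ) g = (χ : G → ℂ) 1 → g = 1) (n : ℕ)
    (hn : Cfsg.charDegree (χ : G → ℂ) = n) (hsolv : Group.IsSolvable G) (p : ℕ) (hp : p.Prime)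
    (P : Sylow p G) (hP : ¬ (P : Subgroup G).Normal) :
    ∃ q : ℕ, IsPrimePow q ∧ q ∣ n ∧
      ((q : ℤ) ≡ -1 [ZMOD p] ∨ (q : ℤ) ≡ 0 [ZMOD p] ∨ (q : ℤ) ≡ 1 [ZMOD p]) := by
  have : Fact p.Prime := ⟨hp⟩
  have h1 := irr_apply_one χ
  obtain ⟨d, ρ, hirr, hρ⟩ := χ.2
  have hd : d = n := by
    have h2 : (χ : G → ℂ) 1 = d := by
      rw [← hρ, Representation.char_one, Module.finrank_fin_fun]
    rw [h2, hn] at h1
    exact_mod_cast h1
  have hker : MonoidHom.ker (ρ : G →* Module.End ℂ (Fin d → ℂ)) = ⊥ := by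
    rw [eq_bot_iff]
    intro g hg
    rw [Subgroup.mem_bot]
    apply hfaith
    have h3 : ρ g = 1 := MonoidHom.mem_ker.mp hg
    rw [← hρ]
    unfold Representation.character
    rw [h3, ← map_one ρ]
  have h4 := holdsA_all p (Nat.card G) G rfl hsolv d ρ hirr ⟨P, by rw [hker, sup_bot_eq]; exact hP⟩
  rw [hd] at h4
  exact h4

/-- Let the finite solvable group G have a faithful irreducible character of degree n, and suppose that for the prime p a Sylow p-subgroup of G is not normal. Then n is divisible by a prime power q > 1 with q congruent to −1, 0 or 1 modulo p. -/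
theorem result {G : Type*} [Group G] [Finite G] (χ : Cfsg.IrrCharacter G) (hfaith : ∀ g : G, (χ : G → ℂ) g = (χ : G → ℂ) 1 → g = 1) (n : ℕ) (hn : Cfsg.charDegree (χ : G → ℂ) = n) (hsolv : Group.IsSolvable G) (p : ℕ) (hp : p.Prime) (P : Sylow p G) (hP : ¬ (P : Subgroup G).Normal) : ∃ q : ℕ, IsPrimePow q ∧ q ∣ n ∧ ((q : ℤ) ≡ -1 [ZMOD p] ∨ (q : ℤ) ≡ 0 [ZMOD p] ∨ (q : ℤ) ≡ 1 [ZMOD p]) := by
  exact result' χ hfaith n hn hsolv p hp P hP

end Cfsg.Agent.S4467
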