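import Cfsg.Statements.S4469
import Cfsg.Agent.Lib.Lead.Jordan6
import Cfsg.Agent.Lib.Lead.Blich4
import Cfsg.Agent.Lib.Lead.BlockBasic

set_option autoImplicit false
open Cfsg

namespace Cfsg.Agent.S4469

/-- The classical bound for finite linear groups, in explicit form. Let the finite group G have a faithful character of degree n. Then G has an abelian normal subgroup whose index is at most n! · 12^(n·(π(n+1)+1)), π(k) denoting the number of primes not exceeding k. -/
theorem result {G : Type*} [Group G] [Finite G] (χ : G → ℂ) (hχ : Cfsg.IsCharacter G χ) (hfaith : ∀ g : G, χ g = χ 1 → g = 1) (n : ℕ) (hn : Cfsg.charDegree χ = n) : ∃ A : Subgroup G, A.Normal ∧ (∀ x ∈ A, ∀ y ∈ A, x * y = y * x) ∧ A.index ≤ Nat.factorial n * 12 ^ (n * (Nat.primeCounting (n + 1) + 1)) := by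
  obtain ⟨H₀, hH₀, -, hH₀i⟩ := Cfsg.Agent.CharLib.Blich.exists_abelian_hall hχ hfaith
    (n := n) (by
      have h0 : χ 1 = ((Cfsg.charDegree χ : ℕ) : ℂ) := by
        obtain ⟨m, ρ, hρ⟩ := hχ
        have h1 : χ 1 = (m : ℂ) := by
          rw [← hρ]
          simp [Representation.character]
        rw [Cfsg.Agent.CharLib.charDegree_eq_of_apply_one h1, h1]
      rw [h0, hn])
  obtain ⟨m, ρ, hρ⟩ := hχ
  have h1 : χ 1 = (m : ℂ) := by
    rw [← hρ]
    simp [Representation.character]
  have hm : n = m := by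
    rw [← hn]
    exact Cfsg.Agent.CharLib.charDegree_eq_of_apply_one h1
  let M : G →* Matrix (Fin m) (Fin m) ℂ :=
    (LinearMap.toMatrixAlgEquiv' (R := ℂ) (n := Fin m)).toAlgHom.toRingHom.toMonoidHom.comp ρ
  have hM : ∀ g, M g = LinearMap.toMatrix' (ρ g) := fun g => rfl
  have hinj : Function.Injective M := by
    intro g h hgh
    rw [hM, hM] at hgh
    have h2 : ρ g = ρ h := LinearMap.toMatrix'.injective hgh
    have h3 : ρ (g⁻¹ * h) = 1 := by
      rw [map_mul, ← h2, ← map_mul, inv_mul_cancel, map_one]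
    have h4 : χ (g⁻¹ * h) = χ 1 := by
      rw [← hρ]
      simp only [Representation.character, h3, map_one]
    have h5 := hfaith _ h4
    exact inv_mul_eq_one.mp h5
  have hcard : Fintype.card (Fin m) = n := by rw [Fintype.card_fin, hm]
  obtain ⟨A, hA1, hA2, hA3⟩ :=
    Cfsg.Agent.CharLib.Jordan.exists_abelian_normal_index_le_explicit M hinj H₀ hH₀
      (by rw [hcard]; exact hH₀i)
  refine ⟨A, hA1, hA2, ?_⟩
  rw [hcard] at hA3
  exact hA3

end Cfsg.Agent.S4469
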