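import Cfsg.Statements.S4470
import Cfsg.Agent.Lib.Lead.Jordan4
import Cfsg.Agent.Lib.Lead.BlockBasic

set_option autoImplicit false
open Cfsg

namespace Cfsg.Agent.S4470

/-- Let the finite group G have a faithful character of degree n. Then G has an abelian normal subgroup A such that every abelian subgroup H of G satisfies [H : H ⊓ A] ≤ 12^n. -/
theorem result {G : Type*} [Group G] [Finite G] (χ : G → ℂ) (hχ : Cfsg.IsCharacter G χ) (hfaith : ∀ g : G, χ g = χ 1 → g = 1) (n : ℕ) (hn : Cfsg.charDegree χ = n) : ∃ A : Subgroup G, A.Normal ∧ (∀ x ∈ A, ∀ y ∈ A, x * y = y * x) ∧ ∀ H : Subgroup G, (∀ x ∈ H, ∀ y ∈ H, x * y = y * x) → (A.subgroupOf H).index ≤ 12 ^ n := by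
  obtain ⟨m, ρ, hρ⟩ := hχ
  have h1 : χ 1 = (m : ℂ) := by
    rw [← hρ]
    simp [Representation.character]
  have hm : n = m := by
    rw [← hn]
    exact Cfsg.Agent.CharLib.charDegree_eq_of_apply_one h1
  let M : G →* Matrix (Fin m) (Fin m) ℂ :=
    (LinearMap.toMatrixAlgEquiv' (R := ℂ) (n := Fin m)).toAlgHom.toRingHom.toMonoidHom.comp ρ
  have hM : ∀ g, M g = LinearMap.toMatrix' (ρ g) := fun g => rfl
  have hinj : Function.Injective M := by
    intro g h hgh
    rw [hM, hM] at hgh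
    have h2 : ρ g = ρ h := LinearMap.toMatrix'.injective hgh
    have h3 : ρ (g⁻¹ * h) = 1 := by
      rw [map_mul, ← h2, ← map_mul, inv_mul_cancel, map_one]
    have h4 : χ (g⁻¹ * h) = χ 1 := by
      rw [← hρ]
      simp only [Representation.character, h3, map_one]
    have h5 := hfaith _ h4
    exact inv_mul_eq_one.mp h5
  obtain ⟨A, hA1, hA2, hA3⟩ := Cfsg.Agent.CharLib.Jordan.exists_abelian_normal_index_le M hinj
  refine ⟨A, hA1, hA2, fun H hH => ?_⟩
  have := hA3 H hH
  rw [Fintype.card_fin] at this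
  rw [hm]
  exact this

end Cfsg.Agent.S4470
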