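import Cfsg.Statements.S4473
import Cfsg.Agent.Lib.Lead.Prim2D
import Cfsg.Agent.Lib.Lead.BlockBasic
import Cfsg.Agent.Lib.Helper24.CentralElt

set_option autoImplicit false
open Cfsg

namespace Cfsg.Agent.S4473

/-- Let the finite group G have a faithful irreducible character χ of degree 2 that is primitive: χ is not induced from a character of any proper subgroup. Then the centre of G has index 12, 24 or 60. -/
theorem result {G : Type*} [Group G] [Fintype G] (χ : Cfsg.IrrCharacter G) (hfaith : ∀ g : G, (χ : G → ℂ) g = (χ : G → ℂ) 1 → g = 1) (h2 : Cfsg.charDegree (χ : G → ℂ) = 2) (hprim : ∀ H : Subgroup G, H ≠ ⊤ → ∀ θ : H → ℂ, Cfsg.IsCharacter H θ → (χ : G → ℂ) ≠ Cfsg.indFun H θ) : (Subgroup.center G).index = 12 ∨ (Subgroup.center G).index = 24 ∨ (Subgroup.center G).index = 60 := by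
  classical
  obtain ⟨χf, hχ⟩ := χ
  simp only at hfaith h2 hprim
  have hχ' := hχ
  obtain ⟨m, ρ, hirr, hρ⟩ := hχ'
  have h1 : χf 1 = (m : ℂ) := by
    rw [← hρ]
    simp [Representation.character]
  have hm : m = 2 := by
    rw [← h2]
    exact (Cfsg.Agent.CharLib.charDegree_eq_of_apply_one h1).symm
  subst hm
  haveI := hirr
  let M : G →* Matrix (Fin 2) (Fin 2) ℂ :=
    (LinearMap.toMatrixAlgEquiv' (R := ℂ) (n := Fin 2)).toAlgHom.toRingHom.toMonoidHom.comp ρ
  have hM : ∀ g, M g = LinearMap.toMatrix' (ρ g) := fun g => rfl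
  have hML : ∀ g, Matrix.toLin' (M g) = ρ g := fun g => by rw [hM, Matrix.toLin'_toMatrix']
  have hinj : Function.Injective M := by
    intro g h hgh
    rw [hM, hM] at hgh
    have h2' : ρ g = ρ h := LinearMap.toMatrix'.injective hgh
    have h3 : ρ (g⁻¹ * h) = 1 := by
      rw [map_mul, ← h2', ← map_mul, inv_mul_cancel, map_one]
    have h4 : χf (g⁻¹ * h) = χf 1 := by
      rw [← hρ]
      simp only [Representation.character, h3, map_one]
    have h5 := hfaith _ h4
    exact inv_mul_eq_one.mp h5
  have htr : ∀ g, χf g = (M g).trace := by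
    intro g
    rw [← hρ, hM]
    unfold Representation.character
    rw [LinearMap.trace_eq_matrix_trace ℂ (Pi.basisFun ℂ (Fin 2)), LinearMap.toMatrix_eq_toMatrix']
  have hZ : ∀ g, g ∈ Subgroup.center G ↔ ∃ c : ℂ, M g = c • 1 := by
    intro g
    constructor
    · intro hg
      obtain ⟨c, hc⟩ := Cfsg.Agent.Lib.Helper24.exists_central_scalar ρ g hg
      refine ⟨c, ?_⟩
      rw [hM, hc, map_smul]
      congr 1
      exact LinearMap.toMatrix'_one
    · rintro ⟨c, hc⟩
      rw [Subgroup.mem_center_iff]
      intro h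
      apply hinj
      rw [map_mul, map_mul, hc, Matrix.mul_smul, Matrix.smul_mul, Matrix.mul_one, Matrix.one_mul]
  rcases Cfsg.Agent.CharLib.Prim2.exists_small_orbit_or M (Subgroup.center G) hZ with
    ⟨W, hW, hidx⟩ | h
  · exfalso
    set H := MulAction.stabilizer G W with hH
    have hinv : ∀ h ∈ H, W.sub.map (Matrix.toLin' (M h)) = W.sub := by
      intro h hh
      exact MulAction.mem_stabilizer_iff.mp hh
    have hidx0 : H.index ≠ 0 := Subgroup.index_ne_zero_of_finite
    have hcases : H.index = 1 ∨ H.index = 2 := by omega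
    rcases hcases with h1' | h2'
    · -- G fixes the line: reducible
      rw [Subgroup.index_eq_one] at h1'
      let σ : Subrepresentation ρ :=
        { toSubmodule := W.sub
          apply_mem_toSubmodule := by
            intro g v hv
            have hg : g ∈ H := by rw [h1']; trivial
            have := hinv g hg
            rw [← this]
            exact ⟨v, hv, by rw [hML]⟩ }
      rcases eq_bot_or_eq_top σ with hσ | hσ
      · have : W.sub = ⊥ := congrArg Subrepresentation.toSubmodule hσ
        rw [this, finrank_bot] at hW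
        omega
      · have : W.sub = ⊤ := congrArg Subrepresentation.toSubmodule hσ
        rw [this, finrank_top, Module.finrank_fin_fun] at hW
        omega
    · obtain ⟨lam, mu, hlm⟩ :=
        Cfsg.Agent.CharLib.Prim2.exists_linear_of_invariant_line M H W.sub hW hinv
      have hsum : ∀ h : H, χf h = ((lam h : ℂˣ) : ℂ) + ((mu h : ℂˣ) : ℂ) := fun h => by
        rw [htr, hlm]
      have h1x : χf 1 = 2 := by rw [h1]; norm_num
      have hind := Cfsg.Agent.CharLib.Prim2.induced_of_index_two χf hχ h1x H h2' lam mu hsum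
      have hHtop : H ≠ ⊤ := by
        intro ht
        rw [ht, Subgroup.index_top] at h2'
        omega
      exact hprim H hHtop _ (Cfsg.Agent.Lib.Helper6.isCharacter_of_hom lam) hind
  · exact h

end Cfsg.Agent.S4473
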