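import Cfsg.Statements.S4476
import Cfsg.Agent.Lib.Lead.FrobSchur
import Cfsg.Agent.Lib.Helper24.PerfectLemmas
import Cfsg.Agent.Lib.Helper21.ClassSize

set_option autoImplicit false
open Cfsg

namespace Cfsg.Agent.S4476

open Cfsg.Agent.CharLib Cfsg.Agent.Lib.Helper24 Cfsg.Agent.Lib.Helper21

/-- number of solutions of `s * s = 1` is one more than the number of involutions -/
theorem card_sq_eq_one_eq {G : Type*} [Group G] [Fintype G] :
    Nat.card {s : G // s * s = 1} = 1 + Nat.card {x : G // orderOf x = 2} := by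
  classical
  rw [Nat.card_eq_fintype_card, Nat.card_eq_fintype_card, Fintype.card_subtype, Fintype.card_subtype]
  have h : (Finset.univ.filter fun s : G => s * s = 1) =
      insert (1 : G) (Finset.univ.filter fun x : G => orderOf x = 2) := by
    ext s
    simp only [Finset.mem_filter, Finset.mem_univ, true_and, Finset.mem_insert]
    rw [orderOf_eq_prime_iff (p := 2), pow_two]
    constructor
    · intro h
      by_cases h1 : s = 1
      · exact Or.inl h1
      · exact Or.inr ⟨h, h1⟩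
    · rintro (h | h)
      · rw [h, one_mul]
      · exact h.1
  rw [h, Finset.card_insert_of_notMem, add_comm]
  simp

/-- the Frobenius–Schur indicator as an integer in {0, 1, -1}, nonzero only for real characters -/
theorem exists_indicator {G : Type*} [Group G] [Fintype G] (χ : IrrCharacter G) :
    ∃ z : ℤ, ((Nat.card G : ℂ)⁻¹ * ∑ s : G, (χ : G → ℂ) (s * s)) = (z : ℂ) ∧ z ≤ 1 ∧
      (z ≠ 0 → ∀ s : G, ((χ : G → ℂ) s).im = 0) := by
  obtain ⟨n, ρ, hirr, hρ⟩ := χ.2
  have h := frobenius_schur_aux ρ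
  rw [hρ] at h
  by_cases hre : ∀ s : G, ((χ : G → ℂ) s).im = 0
  · rcases h.1 hre with h1 | h1
    · exact ⟨1, by rw [h1]; simp, le_refl _, fun _ => hre⟩
    · exact ⟨-1, by rw [h1]; simp, by norm_num, fun _ => hre⟩
  · have hre' : ∃ s : G, ((χ : G → ℂ) s).im ≠ 0 := by
      by_contra hcon
      apply hre
      intro s
      by_contra hs
      exact hcon ⟨s, hs⟩
    exact ⟨0, by rw [h.2 hre']; simp, by norm_num, fun h0 => absurd rfl h0⟩


theorem result {G : Type*} [Group G] [Fintype G] (heven : Even (Nat.card G)) (t : ℕ) (ht : Nat.card {x : G // orderOf x = 2} = t) : (∃ x : G, x ≠ 1 ∧ ((Subgroup.centralizer ({x} : Set G)).index : ℚ) ≤ (((Nat.card G : ℚ) - 1) / t) ^ 2) ∧ ∃ χ : Cfsg.IrrCharacter G, (χ : G → ℂ) ≠ (fun _ => 1) ∧ (∀ g : G, ((χ : G → ℂ) g).im = 0) ∧ (Cfsg.charDegree (χ : G → ℂ) : ℚ) ≤ ((Nat.card G : ℚ) - 1) / t := by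
  classical
  letI := fintypeIrr G
  -- t ≥ 1
  have htpos : 1 ≤ t := by
    obtain ⟨x, hx⟩ := exists_prime_orderOf_dvd_card' (G := G) 2 (even_iff_two_dvd.mp heven)
    rw [← ht]
    exact Nat.one_le_iff_ne_zero.mpr (Nat.card_ne_zero.mpr ⟨⟨⟨x, hx⟩⟩, inferInstance⟩)
  choose e he1 he2 he3 using fun χ : IrrCharacter G => exists_indicator χ
  set d : IrrCharacter G → ℕ := fun χ => charDegree (χ : G → ℂ) with hd
  set χ₀ : IrrCharacter G := trivIrr G with hχ₀
  have hd0 : d χ₀ = 1 := charDegree_trivIrr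
  have hdpos : ∀ χ, 0 < d χ := fun χ => irr_charDegree_pos χ
  -- main identity
  have hmain : ((1 + t : ℕ) : ℤ) = ∑ χ : IrrCharacter G, e χ * (d χ : ℤ) := by
    have h1 := card_sq_eq_one (G := G)
    rw [card_sq_eq_one_eq, ht, finsum_eq_sum_of_fintype] at h1
    have h2 : ((∑ χ : IrrCharacter G, e χ * (d χ : ℤ) : ℤ) : ℂ) = ((1 + t : ℕ) : ℂ) := by
      rw [h1]
      push_cast
      apply Finset.sum_congr rfl
      intro χ _
      rw [he1 χ, irr_apply_one χ]
    have h3 : ((∑ χ : IrrCharacter G, e χ * (d χ : ℤ) : ℤ) : ℂ) = (((1 + t : ℕ) : ℤ) : ℂ) := by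
      rw [h2]; push_cast; rfl
    exact (Int.cast_injective h3).symm
  have he0 : e χ₀ = 1 := by
    have h1 := he1 χ₀
    have h2 : ∀ s : G, ((χ₀ : IrrCharacter G) : G → ℂ) (s * s) = 1 := fun s => rfl
    simp only [h2, Finset.sum_const, Finset.card_univ, nsmul_eq_mul, mul_one] at h1
    rw [Nat.card_eq_fintype_card, inv_mul_cancel₀] at h1
    · exact_mod_cast h1.symm
    · exact_mod_cast Fintype.card_ne_zero
  -- t as a sum over nontrivial characters
  have ht1 : (t : ℤ) = ∑ χ ∈ Finset.univ.erase χ₀, e χ * (d χ : ℤ) := by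
    have h := Finset.add_sum_erase Finset.univ (fun χ => e χ * (d χ : ℤ)) (Finset.mem_univ χ₀)
    rw [← hmain, he0, hd0] at h
    push_cast at h
    linarith
  set R : Finset (IrrCharacter G) := (Finset.univ.erase χ₀).filter (fun χ => e χ ≠ 0) with hR
  have ht2 : (t : ℤ) ≤ ∑ χ ∈ R, (d χ : ℤ) := by
    rw [ht1, hR, Finset.sum_filter]
    apply Finset.sum_le_sum
    intro χ _
    by_cases h0 : e χ = 0
    · simp [h0]
    · rw [if_pos h0]
      have := he2 χ
      nlinarith [hdpos χ]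
  -- sum of squares over nontrivial characters
  have hsq : ∑ χ ∈ Finset.univ.erase χ₀, (d χ) ^ 2 = Fintype.card G - 1 := by
    have h := Finset.add_sum_erase Finset.univ (fun χ => (d χ) ^ 2) (Finset.mem_univ χ₀)
    rw [sum_charDegree_sq, hd0] at h
    omega
  have hsqR : ∑ χ ∈ R, (d χ) ^ 2 ≤ Fintype.card G - 1 := by
    rw [← hsq]
    exact Finset.sum_le_sum_of_subset (Finset.filter_subset _ _)
  have hRne : R.Nonempty := by
    by_contra hcon
    rw [Finset.not_nonempty_iff_eq_empty] at hcon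
    rw [hcon, Finset.sum_empty] at ht2
    omega
  have hg1 : 1 ≤ Fintype.card G := Fintype.card_pos
  have hgq : ((Fintype.card G - 1 : ℕ) : ℚ) = (Nat.card G : ℚ) - 1 := by
    rw [Nat.card_eq_fintype_card]; push_cast [hg1]; ring
  have htq : (0 : ℚ) < t := by exact_mod_cast htpos
  have ht2q : (t : ℚ) ≤ ∑ χ ∈ R, (d χ : ℚ) := by exact_mod_cast ht2
  have hsqRq : ∑ χ ∈ R, (d χ : ℚ) ^ 2 ≤ (Nat.card G : ℚ) - 1 := by
    rw [← hgq]; exact_mod_cast hsqR
  have hgpos : (0 : ℚ) ≤ (Nat.card G : ℚ) - 1 := by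
    rw [← hgq]; positivity
  set α : ℚ := ((Nat.card G : ℚ) - 1) / t with hα
  have hα0 : 0 ≤ α := div_nonneg hgpos htq.le
  have hαt : α * t = (Nat.card G : ℚ) - 1 := div_mul_cancel₀ _ htq.ne'
  refine ⟨?_, ?_⟩
  · -- Cauchy–Schwarz
    have hcs : (∑ χ ∈ R, (d χ : ℚ)) ^ 2 ≤ (R.card : ℚ) * ∑ χ ∈ R, (d χ : ℚ) ^ 2 :=
      sq_sum_le_card_mul_sum_sq
    have hRcard : R.card ≤ Fintype.card (IrrCharacter G) - 1 := by
      rw [← Finset.card_univ, ← Finset.card_erase_of_mem (Finset.mem_univ χ₀)]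
      exact Finset.card_le_card (Finset.filter_subset _ _)
    have hRpos : 1 ≤ R.card := Finset.card_pos.mpr hRne
    set k : ℕ := Fintype.card (IrrCharacter G) with hk
    have hk2 : 2 ≤ k := by omega
    have hkq : ((k - 1 : ℕ) : ℚ) = (k : ℚ) - 1 := by push_cast [show 1 ≤ k by omega]; ring
    have hRq : (R.card : ℚ) ≤ (k : ℚ) - 1 := by rw [← hkq]; exact_mod_cast hRcard
    have htsq : (t : ℚ) ^ 2 ≤ ((k : ℚ) - 1) * ((Nat.card G : ℚ) - 1) := by
      calc (t : ℚ) ^ 2 ≤ (∑ χ ∈ R, (d χ : ℚ)) ^ 2 := by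
            apply pow_le_pow_left₀ htq.le ht2q
        _ ≤ (R.card : ℚ) * ∑ χ ∈ R, (d χ : ℚ) ^ 2 := hcs
        _ ≤ ((k : ℚ) - 1) * ((Nat.card G : ℚ) - 1) := by
            apply mul_le_mul hRq hsqRq
            · apply Finset.sum_nonneg; intro χ _; positivity
            · linarith [show (0 : ℚ) ≤ R.card by positivity]
    -- classes
    letI : Fintype (ConjClasses G) := Fintype.ofFinite _
    have hkc : Fintype.card (ConjClasses G) = k := by
      rw [hk, ← Nat.card_eq_fintype_card, ← Nat.card_eq_fintype_card, card_irrCharacter]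
    set C₀ : ConjClasses G := ConjClasses.mk 1 with hC₀
    have hcs0 : C₀.carrier.ncard = 1 := by
      rw [hC₀, ← index_centralizer_eq_ncard_carrier, Subgroup.index_eq_one]
      ext x
      simp [Subgroup.mem_centralizer_iff]
    have hsum : ∑ C ∈ Finset.univ.erase C₀, C.carrier.ncard = Fintype.card G - 1 := by
      have h := Finset.add_sum_erase Finset.univ (fun C : ConjClasses G => C.carrier.ncard) (Finset.mem_univ C₀)
      have h2 := Group.sum_card_conj_classes_eq_card G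
      rw [finsum_eq_sum_of_fintype, Nat.card_eq_fintype_card] at h2
      rw [h2, hcs0] at h
      omega
    by_contra hcon
    push Not at hcon
    have hall : ∀ C ∈ Finset.univ.erase C₀, α ^ 2 < (C.carrier.ncard : ℚ) := by
      intro C hC
      obtain ⟨x, rfl⟩ := ConjClasses.exists_rep C
      rw [← index_centralizer_eq_ncard_carrier]
      apply hcon x
      rintro rfl
      exact (Finset.mem_erase.mp hC).1 rfl
    have hne : (Finset.univ.erase C₀).Nonempty := by
      rw [← Finset.card_pos, Finset.card_erase_of_mem (Finset.mem_univ C₀), Finset.card_univ, hkc]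
      omega
    have h1 : ∑ C ∈ Finset.univ.erase C₀, α ^ 2 < ∑ C ∈ Finset.univ.erase C₀, (C.carrier.ncard : ℚ) :=
      Finset.sum_lt_sum_of_nonempty hne hall
    rw [Finset.sum_const, Finset.card_erase_of_mem (Finset.mem_univ C₀), Finset.card_univ, hkc,
      nsmul_eq_mul, hkq] at h1
    have h2 : ∑ C ∈ Finset.univ.erase C₀, (C.carrier.ncard : ℚ) = (Nat.card G : ℚ) - 1 := by
      rw [← hgq, ← hsum]; push_cast; rfl
    rw [h2] at h1
    -- (k-1) α² < g - 1, t² ≤ (k-1)(g-1), α t = g - 1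
    have h3 : ((k : ℚ) - 1) * (α * t) ^ 2 < ((Nat.card G : ℚ) - 1) * (t : ℚ) ^ 2 := by
      rw [mul_pow, ← mul_assoc]
      exact mul_lt_mul_of_pos_right h1 (by positivity)
    rw [hαt] at h3
    have h4 : ((Nat.card G : ℚ) - 1) * (t : ℚ) ^ 2 ≤
        ((Nat.card G : ℚ) - 1) * (((k : ℚ) - 1) * ((Nat.card G : ℚ) - 1)) :=
      mul_le_mul_of_nonneg_left htsq hgpos
    nlinarith
  · by_contra hcon
    push Not at hcon
    have hall : ∀ χ ∈ R, α < (d χ : ℚ) := by
      intro χ hχ
      rw [hR, Finset.mem_filter, Finset.mem_erase] at hχ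
      apply hcon χ
      · intro h
        apply hχ.1.1
        apply Subtype.ext
        rw [h]; rfl
      · exact he3 χ hχ.2
    have h1 : α * t ≤ ∑ χ ∈ R, α * (d χ : ℚ) := by
      rw [← Finset.mul_sum]
      exact mul_le_mul_of_nonneg_left ht2q hα0
    have h2 : ∑ χ ∈ R, α * (d χ : ℚ) < ∑ χ ∈ R, (d χ : ℚ) ^ 2 := by
      apply Finset.sum_lt_sum_of_nonempty hRne
      intro χ hχ
      have h3 : (0 : ℚ) < d χ := by exact_mod_cast hdpos χ
      rw [pow_two]
      exact mul_lt_mul_of_pos_right (hall χ hχ) h3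
    linarith

end Cfsg.Agent.S4476
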