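import Cfsg.Statements.S4477
import Cfsg.Agent.Lib.Helper23.FSInd
import Cfsg.Agent.Lib.Helper23.LinTwist
import Cfsg.Agent.Lib.Helper1.PGroup

set_option autoImplicit false
open Cfsg

namespace Cfsg.Agent.S4477

open Cfsg.Agent.CharLib Cfsg.Agent.Lib.Helper24 Cfsg.Agent.Lib.Helper6 Cfsg.Agent.Lib.Helper23
open scoped ComplexConjugate

universe u
variable {G : Type u} [Group G]

open Classical in
/-- the sign character of a subgroup of index two -/
noncomputable def signHom (M : Subgroup G) (hM : M.index = 2) : G →* ℂˣ :=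
  MonoidHom.mk' (fun g => if g ∈ M then 1 else -1) (by
    intro a b
    have h := Subgroup.mul_mem_iff_of_index_two hM (a := a) (b := b)
    by_cases ha : a ∈ M <;> by_cases hb : b ∈ M <;> simp [ha, hb, h])

open Classical in
theorem signHom_apply (M : Subgroup G) (hM : M.index = 2) (g : G) :
    signHom M hM g = if g ∈ M then 1 else -1 := rfl

theorem signHom_eq_one_iff (M : Subgroup G) (hM : M.index = 2) (g : G) :
    signHom M hM g = 1 ↔ g ∈ M := by
  rw [signHom_apply]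
  by_cases h : g ∈ M
  · simp [h]
  · simp only [h, if_false, iff_false]
    intro h1
    have h2 : ((-1 : ℂˣ) : ℂ) = ((1 : ℂˣ) : ℂ) := by rw [h1]
    norm_num at h2

theorem signHom_sq (M : Subgroup G) (hM : M.index = 2) : signHom M hM ^ 2 = 1 := by
  ext g
  rw [MonoidHom.pow_apply, signHom_apply]
  by_cases h : g ∈ M <;> simp [h]

theorem signHom_ne_one (M : Subgroup G) (hM : M.index = 2) : signHom M hM ≠ 1 := by
  intro h
  have hne : M ≠ ⊤ := by
    intro htop
    rw [htop, Subgroup.index_top] at hM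
    omega
  apply hne
  rw [eq_top_iff]
  intro g _
  rw [← signHom_eq_one_iff M hM, h]
  rfl

theorem signHom_injective (M₁ M₂ : Subgroup G) (h₁ : M₁.index = 2) (h₂ : M₂.index = 2)
    (h : signHom M₁ h₁ = signHom M₂ h₂) : M₁ = M₂ := by
  ext g
  rw [← signHom_eq_one_iff M₁ h₁, ← signHom_eq_one_iff M₂ h₂, h]

/-- A non-cyclic finite 2-group has two distinct subgroups of index two. -/
theorem exists_two_index_two [Finite G] (hG : IsPGroup 2 G) (hncyc : ¬ IsCyclic G) :
    ∃ M₁ M₂ : Subgroup G, M₁.index = 2 ∧ M₂.index = 2 ∧ M₁ ≠ M₂ := by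
  haveI : Fact (Nat.Prime 2) := ⟨Nat.prime_two⟩
  have hnt : Nontrivial G := by
    by_contra h
    rw [not_nontrivial_iff_subsingleton] at h
    exact hncyc inferInstance
  obtain ⟨M₁, hM₁⟩ := IsCoatomic.exists_coatom (Subgroup G)
  by_contra hcon
  push Not at hcon
  apply hncyc
  -- M₁ is the only coatom
  have huniq : ∀ M : Subgroup G, IsCoatom M → M = M₁ := by
    intro M hM
    by_contra hne
    exact hne ((hcon M₁ M (Cfsg.Agent.Lib.Helper1.IsPGroup.coatom_index hG M₁ hM₁) (Cfsg.Agent.Lib.Helper1.IsPGroup.coatom_index hG M hM)).symm ▸ rfl)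
  obtain ⟨x, hx⟩ : ∃ x : G, x ∉ M₁ := by
    by_contra h
    push Not at h
    exact hM₁.1 (eq_top_iff.mpr fun g _ => h g)
  have hzp : Subgroup.zpowers x = ⊤ := by
    rcases IsCoatomic.eq_top_or_exists_le_coatom (Subgroup.zpowers x) with h | ⟨M, hM, hle⟩
    · exact h
    · rw [huniq M hM] at hle
      exact absurd (hle (Subgroup.mem_zpowers x)) hx
  exact ⟨⟨x, fun g => by rw [← Subgroup.mem_zpowers_iff, hzp] ; exact Subgroup.mem_top g⟩⟩


/-- values of a hom of order dividing two are real and self-conjugate -/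
theorem hom_sq_apply {φ : G →* ℂˣ} (h : φ ^ 2 = 1) (g : G) :
    ((φ g : ℂˣ) : ℂ) * ((φ g : ℂˣ) : ℂ) = 1 := by
  have h1 : (φ ^ 2) g = 1 := by rw [h]; rfl
  rw [MonoidHom.pow_apply, pow_two] at h1
  have h2 := congrArg (Units.val) h1
  simpa using h2

theorem hom_conj_of_sq [Finite G] {φ : G →* ℂˣ} (h : φ ^ 2 = 1) (g : G) :
    conj ((φ g : ℂˣ) : ℂ) = ((φ g : ℂˣ) : ℂ) := by
  have h1 := hom_mul_conj φ g
  have h2 := hom_sq_apply h g
  have h3 : ((φ g : ℂˣ) : ℂ) ≠ 0 := Units.ne_zero _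
  exact mul_left_cancel₀ h3 (h1.trans h2.symm)

theorem hom_im_of_sq [Finite G] {φ : G →* ℂˣ} (h : φ ^ 2 = 1) (g : G) :
    (((φ g : ℂˣ) : ℂ)).im = 0 :=
  Complex.conj_eq_iff_im.mp (hom_conj_of_sq h g)

/-- a real-valued hom has square one -/
theorem hom_sq_of_real [Finite G] {φ : G →* ℂˣ} (h : ∀ g : G, (((φ g : ℂˣ) : ℂ)).im = 0) :
    φ ^ 2 = 1 := by
  ext g
  rw [MonoidHom.pow_apply, pow_two]
  have h1 := hom_mul_conj φ g
  rw [Complex.conj_eq_iff_im.mpr (h g)] at h1
  simpa using h1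

/-- twisting a real character by a hom of order two gives a real character -/
theorem twist_real [Finite G] {φ : G →* ℂˣ} (h : φ ^ 2 = 1) {χ : IrrCharacter G}
    (hχ : ∀ g : G, ((χ : G → ℂ) g).im = 0) (g : G) : ((twist φ χ : G → ℂ) g).im = 0 := by
  rw [twist_apply, Complex.mul_im, hχ g, hom_im_of_sq h g]
  ring


/-- In a commutative group, two distinct nontrivial involutions generate a four-group. -/
theorem card_four_group {A : Type*} [CommGroup A] [DecidableEq A] (a b : A) (ha : a ^ 2 = 1)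
    (hb : b ^ 2 = 1) (ha1 : a ≠ 1) (hb1 : b ≠ 1) (hab : a ≠ b) :
    ({1, a, b, a * b} : Finset A).card = 4 := by
  have h12a : a * b ≠ 1 := by
    intro h
    apply hab
    calc a = a * b ^ 2 := by rw [hb, mul_one]
      _ = (a * b) * b := by rw [pow_two, mul_assoc]
      _ = b := by rw [h, one_mul]
  have h12b : a * b ≠ a := fun h => hb1 (mul_eq_left.mp h)
  have h12c : a * b ≠ b := fun h => ha1 (mul_eq_right.mp h)
  rw [Finset.card_insert_of_notMem, Finset.card_insert_of_notMem, Finset.card_insert_of_notMem,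
    Finset.card_singleton]
  · simp only [Finset.mem_singleton]
    exact fun h => h12c h.symm
  · simp only [Finset.mem_insert, Finset.mem_singleton, not_or]
    exact ⟨hab, fun h => h12b h.symm⟩
  · simp only [Finset.mem_insert, Finset.mem_singleton, not_or]
    exact ⟨ha1.symm, hb1.symm, h12a.symm⟩

/-- If `φ` has 2-power order and lies outside a set containing `1`, some power of `φ` lies outside
the set while its square lies inside. -/
theorem exists_sq_mem {A : Type*} [Monoid A] (V : Set A) (h1 : (1 : A) ∈ V) (φ : A) (n : ℕ)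
    (hφ : φ ^ (2 ^ n) = 1) (hV : φ ∉ V) : ∃ ψ : A, ψ ∉ V ∧ ψ ^ 2 ∈ V := by
  classical
  have hex : ∃ j : ℕ, φ ^ (2 ^ j) ∈ V := ⟨n, by rw [hφ]; exact h1⟩
  have hj0 : Nat.find hex ≠ 0 := by
    intro h0
    have := Nat.find_spec hex
    rw [h0, pow_zero, pow_one] at this
    exact hV this
  obtain ⟨j, hj⟩ := Nat.exists_eq_succ_of_ne_zero hj0
  refine ⟨φ ^ (2 ^ j), ?_, ?_⟩
  · exact Nat.find_min hex (by rw [hj]; exact Nat.lt_succ_self j)
  · have := Nat.find_spec hex
    rw [hj, pow_succ, pow_mul] at this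
    exact this

theorem commGroup_sq_mul_self {A : Type*} [CommGroup A] (a : A) (ha : a ^ 2 = 1) : a * a = 1 := by
  rw [← pow_two]; exact ha


theorem result {G : Type*} [Group G] [Finite G] (hG : IsPGroup 2 G) (ht : Nat.card {x : G // orderOf x = 2} % 4 = 1) : IsCyclic G ∨ (commutator G).index = 4 := by
  classical
  by_contra hcon
  push Not at hcon
  obtain ⟨hncyc, hidx⟩ := hcon
  let _ := Fintype.ofFinite G
  let _ := fintypeIrr G
  haveI : Fact (Nat.Prime 2) := ⟨Nat.prime_two⟩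
  obtain ⟨n, hn⟩ := (IsPGroup.iff_card).mp hG
  -- the group of linear characters is finite
  have hAcard : Nat.card (G →* ℂˣ) = (commutator G).index := card_hom_units
  haveI : Finite (G →* ℂˣ) := Nat.finite_of_card_ne_zero (by
    rw [hAcard]; exact Subgroup.index_ne_zero_of_finite)
  let _ := Fintype.ofFinite (G →* ℂˣ)
  -- two distinct sign characters
  obtain ⟨M₁, M₂, hM₁, hM₂, hM₁₂⟩ := exists_two_index_two hG hncyc
  set l₁ : G →* ℂˣ := signHom M₁ hM₁ with hl₁
  set l₂ : G →* ℂˣ := signHom M₂ hM₂ with hl₂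
  have hl₁sq : l₁ ^ 2 = 1 := signHom_sq M₁ hM₁
  have hl₂sq : l₂ ^ 2 = 1 := signHom_sq M₂ hM₂
  have hl₁ne : l₁ ≠ 1 := signHom_ne_one M₁ hM₁
  have hl₂ne : l₂ ≠ 1 := signHom_ne_one M₂ hM₂
  have hl₁₂ : l₁ ≠ l₂ := fun h => hM₁₂ (signHom_injective M₁ M₂ hM₁ hM₂ h)
  -- every hom has 2-power order
  have hpow : ∀ φ : G →* ℂˣ, φ ^ (2 ^ n) = 1 := by
    intro φ
    ext g
    rw [MonoidHom.pow_apply, ← map_pow, ← hn, pow_card_eq_one', map_one]
    rfl
  -- indicators
  choose e he1 he2 he3 using fun χ : IrrCharacter G => exists_fsIndicator χ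
  set d : IrrCharacter G → ℕ := fun χ => charDegree (χ : G → ℂ) with hd
  have hmain := one_add_card_involutions_eq e he1
  -- degrees are powers of two
  have hdpow : ∀ χ : IrrCharacter G, ∃ j : ℕ, d χ = 2 ^ j := by
    intro χ
    have h1 : d χ ∣ 2 ^ n := hn ▸ irr_charDegree_dvd_card χ
    obtain ⟨j, -, hj⟩ := (Nat.dvd_prime_pow Nat.prime_two).mp h1
    exact ⟨j, hj⟩
  -- a real linear character has indicator one
  have hlinreal : ∀ χ : IrrCharacter G, d χ = 1 → (∀ g : G, ((χ : G → ℂ) g).im = 0) → e χ = 1 := by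
    intro χ hχ1 hχre
    obtain ⟨φ, rfl⟩ := exists_lin_eq χ hχ1
    have hφ : φ ^ 2 = 1 := hom_sq_of_real hχre
    have h1 := he1 (lin φ)
    have h2 : ∀ s : G, (lin φ : G → ℂ) (s * s) = 1 := by
      intro s
      rw [lin_apply, map_mul, Units.val_mul]
      exact hom_sq_apply hφ s
    simp only [h2, Finset.sum_const, Finset.card_univ, nsmul_eq_mul, mul_one] at h1
    rw [Nat.card_eq_fintype_card, inv_mul_cancel₀ (by exact_mod_cast Fintype.card_ne_zero)] at h1
    exact_mod_cast h1.symm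
  -- decomposition of each term modulo 4
  have hterm : ∀ χ : IrrCharacter G, ∃ q : ℤ, e χ * (d χ : ℤ) =
      (if d χ = 1 ∧ (∀ g : G, ((χ : G → ℂ) g).im = 0) then 1 else 0) +
      2 * (if d χ = 2 ∧ (∀ g : G, ((χ : G → ℂ) g).im = 0) then 1 else 0) + 4 * q := by
    intro χ
    obtain ⟨j, hj⟩ := hdpow χ
    by_cases hre : ∀ g : G, ((χ : G → ℂ) g).im = 0
    · have hne : e χ ≠ 0 := (he3 χ).mpr hre
      rcases Nat.lt_or_ge j 2 with hj2 | hj2
      · interval_cases j
        · have hd1 : d χ = 1 := by rw [hj]; rfl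
          refine ⟨0, ?_⟩
          rw [hlinreal χ hd1 hre, hd1]
          simp [hre]
        · have hd2 : d χ = 2 := by rw [hj]; rfl
          rcases he2 χ with h0 | h1 | h1
          · exact absurd h0 hne
          · refine ⟨0, ?_⟩
            rw [h1, hd2]
            simp [hre]
          · refine ⟨-1, ?_⟩
            rw [h1, hd2]
            simp [hre]
      · obtain ⟨m, rfl⟩ := Nat.exists_eq_add_of_le hj2
        have hd4 : d χ = 4 * 2 ^ m := by rw [hj, pow_add]; norm_num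
        have hne1 : d χ ≠ 1 := by rw [hd4]; have := Nat.one_le_two_pow (n := m); omega
        have hne2 : d χ ≠ 2 := by rw [hd4]; have := Nat.one_le_two_pow (n := m); omega
        refine ⟨e χ * 2 ^ m, ?_⟩
        rw [if_neg (fun h => hne1 h.1), if_neg (fun h => hne2 h.1), hd4]
        push_cast
        ring
    · have h0 : e χ = 0 := by
        by_contra hne
        exact hre ((he3 χ).mp hne)
      refine ⟨0, ?_⟩
      rw [h0]
      simp [hre]
  choose q hq using hterm
  set Lf : Finset (IrrCharacter G) :=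
    Finset.univ.filter (fun χ => d χ = 1 ∧ (∀ g : G, ((χ : G → ℂ) g).im = 0)) with hLf
  set Y : Finset (IrrCharacter G) :=
    Finset.univ.filter (fun χ => d χ = 2 ∧ (∀ g : G, ((χ : G → ℂ) g).im = 0)) with hY
  have hsum : ((1 + Nat.card {x : G // orderOf x = 2} : ℕ) : ℤ) =
      (Lf.card : ℤ) + 2 * (Y.card : ℤ) + 4 * ∑ χ : IrrCharacter G, q χ := by
    rw [hmain, Finset.sum_congr rfl (fun χ _ => hq χ), Finset.sum_add_distrib, Finset.sum_add_distrib,
      ← Finset.mul_sum, ← Finset.mul_sum, Finset.sum_boole, Finset.sum_boole]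
  -- the real linear characters
  set R : Finset (G →* ℂˣ) := Finset.univ.filter (fun φ => φ ^ 2 = 1) with hR
  have hLfR : Lf = R.image lin := by
    ext χ
    simp only [hLf, hR, Finset.mem_filter, Finset.mem_univ, true_and, Finset.mem_image]
    constructor
    · rintro ⟨h1, h2⟩
      obtain ⟨φ, rfl⟩ := exists_lin_eq χ h1
      exact ⟨φ, hom_sq_of_real h2, rfl⟩
    · rintro ⟨φ, hφ, rfl⟩
      exact ⟨charDegree_lin φ, fun g => hom_im_of_sq hφ g⟩
  have hLfcard : Lf.card = R.card := by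
    rw [hLfR, Finset.card_image_of_injective _ lin_injective]
  let Λ : Subgroup (G →* ℂˣ) := (powMonoidHom 2 : (G →* ℂˣ) →* (G →* ℂˣ)).ker
  have hΛmem : ∀ φ, φ ∈ Λ ↔ φ ^ 2 = 1 := fun φ => by
    rw [MonoidHom.mem_ker, powMonoidHom_apply]
  have hRcard : R.card = Nat.card Λ := by
    rw [Nat.card_eq_fintype_card, Fintype.card_subtype]
    congr 1
    ext φ
    simp [hR, hΛmem]
  have hΛdvd : Nat.card Λ ∣ 2 ^ n := by
    have h1 : Nat.card Λ ∣ Nat.card (G →* ℂˣ) := Subgroup.card_subgroup_dvd_card Λ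
    rw [hAcard] at h1
    exact h1.trans (hn ▸ Subgroup.index_dvd_card _)
  obtain ⟨r, -, hr⟩ := (Nat.dvd_prime_pow Nat.prime_two).mp hΛdvd
  have h3 : 3 ≤ R.card := by
    have hsub : ({1, l₁, l₂} : Finset (G →* ℂˣ)) ⊆ R := by
      intro φ hφ
      simp only [Finset.mem_insert, Finset.mem_singleton] at hφ
      have h1sq : (1 : G →* ℂˣ) ^ 2 = 1 := by
        ext g
        rw [MonoidHom.pow_apply]
        simp
      rcases hφ with rfl | rfl | rfl
      · exact Finset.mem_filter.mpr ⟨Finset.mem_univ _, h1sq⟩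
      · exact Finset.mem_filter.mpr ⟨Finset.mem_univ _, hl₁sq⟩
      · exact Finset.mem_filter.mpr ⟨Finset.mem_univ _, hl₂sq⟩
    have hc : ({1, l₁, l₂} : Finset (G →* ℂˣ)).card = 3 := by
      rw [Finset.card_insert_of_notMem, Finset.card_insert_of_notMem, Finset.card_singleton]
      · simpa using hl₁₂
      · simp only [Finset.mem_insert, Finset.mem_singleton, not_or]
        exact ⟨hl₁ne.symm, hl₂ne.symm⟩
    exact hc ▸ Finset.card_le_card hsub
  have h4 : 4 ∣ Lf.card := by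
    rw [hLfcard, hRcard, hr]
    have h2r : 2 ≤ r := by
      by_contra hlt
      push Not at hlt
      rw [hRcard, hr] at h3
      interval_cases r <;> omega
    obtain ⟨m, rfl⟩ := Nat.exists_eq_add_of_le h2r
    exact ⟨2 ^ m, by rw [pow_add]; norm_num⟩
  have hYodd : Odd Y.card := by
    obtain ⟨a, ha⟩ := h4
    rw [Nat.odd_iff]
    push_cast at hsum
    omega
  -- twisting by a hom of order two preserves `Y` and is an involution
  have hYmap : ∀ φ : G →* ℂˣ, φ ^ 2 = 1 → ∀ χ ∈ Y, twist φ χ ∈ Y := by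
    intro φ hφ χ hχ
    rw [hY, Finset.mem_filter] at hχ ⊢
    refine ⟨Finset.mem_univ _, ?_, fun g => twist_real hφ hχ.2.2 g⟩
    show charDegree _ = 2
    rw [charDegree_twist]
    exact hχ.2.1
  have hinvol : ∀ φ : G →* ℂˣ, φ ^ 2 = 1 → ∀ χ : IrrCharacter G, twist φ (twist φ χ) = χ := by
    intro φ hφ χ
    rw [← twist_mul, commGroup_sq_mul_self φ hφ, twist_one]
  -- Stage 1
  set F₁ : Finset (IrrCharacter G) := Y.filter (fun χ => twist l₁ χ = χ) with hF₁
  have hF₁odd : Odd F₁.card :=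
    odd_card_filter_fixed Y (twist l₁) (hYmap l₁ hl₁sq) (fun χ _ => hinvol l₁ hl₁sq χ) hYodd
  -- Stage 2
  set F₂ : Finset (IrrCharacter G) := F₁.filter (fun χ => twist l₂ χ = χ) with hF₂
  have hF₂odd : Odd F₂.card := by
    apply odd_card_filter_fixed F₁ (twist l₂) _ (fun χ _ => hinvol l₂ hl₂sq χ) hF₁odd
    intro χ hχ
    rw [hF₁, Finset.mem_filter] at hχ ⊢
    refine ⟨hYmap l₂ hl₂sq χ hχ.1, ?_⟩
    rw [twist_comm, hχ.2]
  -- the four-group
  set V : Finset (G →* ℂˣ) := {1, l₁, l₂, l₁ * l₂} with hV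
  have hVfix : ∀ φ ∈ V, ∀ χ ∈ F₂, twist φ χ = χ := by
    intro φ hφ χ hχ
    have hχ1 : twist l₁ χ = χ := (Finset.mem_filter.mp (Finset.mem_filter.mp hχ).1).2
    have hχ2 : twist l₂ χ = χ := (Finset.mem_filter.mp hχ).2
    simp only [hV, Finset.mem_insert, Finset.mem_singleton] at hφ
    rcases hφ with rfl | rfl | rfl | rfl
    · exact twist_one χ
    · exact hχ1
    · exact hχ2
    · rw [twist_mul, hχ2, hχ1]
  have hVcard : V.card = 4 := card_four_group l₁ l₂ hl₁sq hl₂sq hl₁ne hl₂ne hl₁₂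
  -- a hom outside V
  have hexφ : ∃ φ : G →* ℂˣ, φ ∉ V := by
    by_contra hall
    push Not at hall
    have huniv : (Finset.univ : Finset (G →* ℂˣ)) = V := by
      ext φ
      simp [hall φ]
    have hc : Fintype.card (G →* ℂˣ) = 4 := by rw [← Finset.card_univ, huniv, hVcard]
    rw [← Nat.card_eq_fintype_card, hAcard] at hc
    exact hidx hc
  obtain ⟨φ, hφV⟩ := hexφ
  obtain ⟨l₃, hl₃V, hl₃sq⟩ := exists_sq_mem (V : Set (G →* ℂˣ)) (by simp [hV]) φ n (hpow φ)
    (by simpa using hφV)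
  have hl₃V' : l₃ ∉ V := by simpa using hl₃V
  have hl₃sq' : l₃ ^ 2 ∈ V := by simpa using hl₃sq
  -- Stage 3
  have hl₃fix : ∀ χ ∈ F₂, twist (l₃ ^ 2) χ = χ := fun χ hχ => hVfix (l₃ ^ 2) hl₃sq' χ hχ
  have hl₃map : ∀ χ ∈ F₂, twist l₃ χ ∈ F₂ := by
    intro χ hχ
    have hχF₁ := (Finset.mem_filter.mp hχ).1
    have hχ2 := (Finset.mem_filter.mp hχ).2
    have hχY := (Finset.mem_filter.mp hχF₁).1
    have hχ1 := (Finset.mem_filter.mp hχF₁).2
    have hχY' := (Finset.mem_filter.mp hχY).2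
    rw [hF₂, Finset.mem_filter, hF₁, Finset.mem_filter, hY, Finset.mem_filter]
    refine ⟨⟨⟨Finset.mem_univ _, ?_, ?_⟩, ?_⟩, ?_⟩
    · show charDegree _ = 2
      rw [charDegree_twist]
      exact hχY'.1
    · intro g
      apply Complex.conj_eq_iff_im.mp
      rw [twist_apply, map_mul, Complex.conj_eq_iff_im.mpr (hχY'.2 g)]
      have h1 := hom_mul_conj l₃ g
      have h2 := congrFun (congrArg Subtype.val (hl₃fix χ hχ)) g
      rw [twist_apply, MonoidHom.pow_apply, Units.val_pow_eq_pow_val] at h2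
      calc conj ((l₃ g : ℂˣ) : ℂ) * (χ : G → ℂ) g
          = conj ((l₃ g : ℂˣ) : ℂ) * (((l₃ g : ℂˣ) : ℂ) ^ 2 * (χ : G → ℂ) g) := by rw [h2]
        _ = (((l₃ g : ℂˣ) : ℂ) * conj ((l₃ g : ℂˣ) : ℂ)) * (((l₃ g : ℂˣ) : ℂ) * (χ : G → ℂ) g) := by
            ring
        _ = ((l₃ g : ℂˣ) : ℂ) * (χ : G → ℂ) g := by rw [h1, one_mul]
    · rw [twist_comm, hχ1]
    · rw [twist_comm, hχ2]
  have hl₃inv : ∀ χ ∈ F₂, twist l₃ (twist l₃ χ) = χ := by
    intro χ hχ
    rw [← twist_mul]
    have h : l₃ * l₃ = l₃ ^ 2 := by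
      ext g
      rw [MonoidHom.mul_apply, MonoidHom.pow_apply, pow_two]
    rw [h]
    exact hl₃fix χ hχ
  set F₃ : Finset (IrrCharacter G) := F₂.filter (fun χ => twist l₃ χ = χ) with hF₃
  have hF₃odd : Odd F₃.card := odd_card_filter_fixed F₂ (twist l₃) hl₃map hl₃inv hF₂odd
  obtain ⟨χ, hχ⟩ : F₃.Nonempty := by
    rw [Finset.nonempty_iff_ne_empty]
    intro h
    rw [h] at hF₃odd
    simp at hF₃odd
  have hχF₂ := (Finset.mem_filter.mp hχ).1
  have hχ3 := (Finset.mem_filter.mp hχ).2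
  have hχY := (Finset.mem_filter.mp (Finset.mem_filter.mp hχF₂).1).1
  have hd2 : charDegree (χ : G → ℂ) = 2 := (Finset.mem_filter.mp hχY).2.1
  have hbound := card_le_sq_of_twist_eq χ (insert l₃ V) (by
    intro ψ hψ
    rcases Finset.mem_insert.mp hψ with rfl | hψ
    · exact hχ3
    · exact hVfix ψ hψ χ hχF₂)
  rw [Finset.card_insert_of_notMem hl₃V', hVcard, hd2] at hbound
  omega

end Cfsg.Agent.S4477
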