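import Cfsg.Statements.S4491
import Cfsg.Agent.Lib.Helper23.HeightZeroD

set_option autoImplicit false
open Cfsg

namespace Cfsg.Agent.S4491



/-- Let B be a p-block of defect d of the finite group G (relative to a maximal ideal M of the algebraic integers containing p), and let p^a be the p-part of the order of G. Then the exact power of p dividing the sum of the squares of the degrees of the irreducible characters in B is p^(2a − d). -/
theorem result {G : Type*} [Group G] [Finite G] (p : ℕ) [Fact p.Prime] (M : Ideal Cfsg.AlgInt) (hM : Cfsg.IsPModular p M) (B : Set (Cfsg.IrrCharacter G)) (hB : Cfsg.IsPBlock M B) : (∑ᶠ χ ∈ B, Cfsg.charDegree (χ : G → ℂ) ^ 2).factorization p = 2 * (Nat.card G).factorization p - Cfsg.blockDefect p B := by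
  classical
  have : Fintype G := Fintype.ofFinite G
  let _ := Cfsg.Agent.CharLib.fintypeIrr G
  have hprime : M.IsPrime := Cfsg.Agent.Lib.Helper24.isPrime_of_isPModular hM
  have hne : B.Nonempty := by
    obtain ⟨χ₁, rfl⟩ := hB
    exact ⟨χ₁, Cfsg.Agent.Lib.Helper6.mem_blockOf_self χ₁⟩
  rw [Cfsg.Agent.Lib.Helper6.finsum_mem_eq_sum_ite]
  have h0 := Cfsg.Agent.Lib.Helper23.factorization_sum_degree_sq hM hB
  have h1 : Cfsg.blockDefect p B =
      (Nat.card G).factorization p - Cfsg.Agent.Lib.Helper23.minVal p B := rfl
  have h2 := Cfsg.Agent.Lib.Helper23.minVal_le_factorization_card (p := p) hne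
  rw [h1]
  refine Eq.trans ?_ (show (Nat.card G).factorization p + Cfsg.Agent.Lib.Helper23.minVal p B = _ by omega)
  convert h0 using 3

end Cfsg.Agent.S4491
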