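import Cfsg.Statements.S4493
import Cfsg.Agent.Lib.Helper25.PSolvableOfSolvable
import Cfsg.Agent.S4713
-- import your own Cfsg.Agent.* helpers here

set_option autoImplicit false
open Cfsg

namespace Cfsg.Agent.S4493

open Cfsg.Agent.Lib.Helper25

/-- Let G be a finite solvable group and p a prime. Then G has a normal abelian Sylow p-subgroup if and only if no irreducible character degree of G is divisible by p. -/
theorem result {G : Type*} [Group G] [Finite G] (hsolv : Group.IsSolvable G) (p : ℕ) (hp : p.Prime) : (∃ P : Subgroup G, P.Normal ∧ (∀ x ∈ P, ∀ y ∈ P, x * y = y * x) ∧ IsPGroup p P ∧ ¬ p ∣ P.index) ↔ ∀ χ : Cfsg.IrrCharacter G, ¬ p ∣ Cfsg.charDegree (χ : G → ℂ) := by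
  haveI : Fact p.Prime := ⟨hp⟩
  have hps : Cfsg.IsPSolvable p G := isPSolvable_of_isSolvable' p hp hsolv
  constructor
  · rintro ⟨P, hPn, hPc, hPp, hPi⟩
    let Q : Sylow p G := hPp.toSylow hPi
    have hQ : (Q : Subgroup G) = P := IsPGroup.toSylow_coe hPp hPi
    refine (Cfsg.Agent.S4713.result p hps Q).mp ⟨by rw [hQ]; exact hPn, ?_⟩
    constructor; constructor
    intro a b
    apply Subtype.ext
    have ha : (a : G) ∈ P := hQ ▸ a.2
    have hb : (b : G) ∈ P := hQ ▸ b.2
    exact hPc _ ha _ hb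
  · intro h
    obtain ⟨Q⟩ : Nonempty (Sylow p G) := inferInstance
    obtain ⟨hQn, hQc⟩ := (Cfsg.Agent.S4713.result p hps Q).mpr h
    refine ⟨Q, hQn, ?_, Q.isPGroup', Q.not_dvd_index⟩
    intro x hx y hy
    have := hQc.is_comm.comm (⟨x, hx⟩ : Q) ⟨y, hy⟩
    exact congrArg Subtype.val this

end Cfsg.Agent.S4493
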