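import Cfsg.Statements.S4494
import Cfsg.Agent.Lib.Helper23.HeightZeroN
import Cfsg.Agent.Lib.Helper6.DefectOrder

set_option autoImplicit false
open Cfsg

namespace Cfsg.Agent.S4494



/-- The Brauer–Feit bound. Let B be a p-block of the finite group G (relative to a maximal ideal M of the algebraic integers containing p) and let d be its defect. Then the number k(B) of irreducible characters in B satisfies k(B) ≤ p^(2d)/4 + 1, stated here as 4·k(B) ≤ p^(2d) + 4. -/
theorem result {G : Type*} [Group G] [Finite G] (p : ℕ) [Fact p.Prime] (M : Ideal Cfsg.AlgInt) (hM : Cfsg.IsPModular p M) (B : Set (Cfsg.IrrCharacter G)) (hB : Cfsg.IsPBlock M B) : 4 * Nat.card B ≤ p ^ (2 * Cfsg.blockDefect p B) + 4 := by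
  classical
  let _ := Fintype.ofFinite G
  let _ := Cfsg.Agent.CharLib.fintypeIrr G
  have h := Cfsg.Agent.Lib.Helper23.brauer_feit_heights (p := p) hM hB
  have hd : Cfsg.blockDefect p B = (Nat.card G).factorization p -
      Cfsg.Agent.Lib.Helper23.minVal p B := rfl
  rw [hd]
  obtain ⟨h1, h2⟩ := h
  have hp : 0 < p := (Fact.out : p.Prime).pos
  have hcard : Nat.card B = (Finset.univ.filter (fun χ : Cfsg.IrrCharacter G => χ ∈ B)).card := by
    rw [Nat.card_eq_fintype_card, Fintype.card_subtype]
  have hle : (Finset.univ.filter (fun χ : Cfsg.IrrCharacter G => χ ∈ B)).card ≤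
      ∑ ψ ∈ Finset.univ.filter (fun χ : Cfsg.IrrCharacter G => χ ∈ B),
        p ^ (2 * ((Cfsg.charDegree (ψ : G → ℂ)).factorization p -
          Cfsg.Agent.Lib.Helper23.minVal p B)) := by
    rw [Finset.card_eq_sum_ones]
    apply Finset.sum_le_sum
    intro ψ _
    exact Nat.one_le_pow _ _ hp
  rw [hcard]
  omega

end Cfsg.Agent.S4494
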