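import Cfsg.Statements.S4710
import Cfsg.Agent.Lib.Helper23.HeightZeroO

set_option autoImplicit false
open Cfsg

namespace Cfsg.Agent.S4710



/-- Let p be a prime, M a maximal ideal of the algebraic integers containing p, and B a p-block of defect d of the finite group G containing k irreducible characters. If B contains a character of positive height then 2k ≤ p^(2d − 2); and every character in B has height 0 when d ≤ 1 and height at most d − 2 when d ≥ 2. -/
theorem result {G : Type*} [Group G] [Finite G] (p : ℕ) [Fact p.Prime] (M : Ideal Cfsg.AlgInt) (hM : Cfsg.IsPModular p M) (B : Set (Cfsg.IrrCharacter G)) (hB : Cfsg.IsPBlock M B) (d : ℕ) (hd : Cfsg.blockDefect p B = d) : ((∃ χ ∈ B, 0 < Cfsg.blockHeight p B (χ : G → ℂ)) → 2 * Nat.card B ≤ p ^ (2 * d - 2)) ∧ ∀ χ ∈ B, (d ≤ 1 → Cfsg.blockHeight p B (χ : G → ℂ) = 0) ∧ (2 ≤ d → Cfsg.blockHeight p B (χ : G → ℂ) ≤ d - 2) := by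
  classical
  let _ := Fintype.ofFinite G
  let _ := Cfsg.Agent.CharLib.fintypeIrr G
  have hdd : Cfsg.blockDefect p B = (Nat.card G).factorization p -
      Cfsg.Agent.Lib.Helper23.minVal p B := rfl
  have hh : ∀ χ : Cfsg.IrrCharacter G, Cfsg.blockHeight p B (χ : G → ℂ) =
      (Cfsg.charDegree (χ : G → ℂ)).factorization p - Cfsg.Agent.Lib.Helper23.minVal p B :=
    fun _ => rfl
  rw [hdd] at hd
  subst hd
  constructor
  · rintro ⟨χ, hχ, hpos⟩
    rw [hh] at hpos
    have h1 := Cfsg.Agent.Lib.Helper23.brauer_feit_pos_height_count hM hB hχ (by omega)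
    have hcard : Nat.card B =
        (Finset.univ.filter (fun χ : Cfsg.IrrCharacter G => χ ∈ B)).card := by
      rw [Nat.card_eq_fintype_card, Fintype.card_subtype]
    rw [hcard]
    exact h1
  · intro χ hχ
    rw [hh]
    have hle := Cfsg.Agent.Lib.Helper23.minVal_le (p := p) hχ
    by_cases hpos : Cfsg.Agent.Lib.Helper23.minVal p B <
        (Cfsg.charDegree (χ : G → ℂ)).factorization p
    · have h1 := Cfsg.Agent.Lib.Helper23.height_pos_add_two_le hM hB hχ hpos
      constructor
      · intro h2; omega
      · intro h2; omega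
    · constructor
      · intro h2; omega
      · intro h2; omega

end Cfsg.Agent.S4710
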