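import Cfsg.Statements.S4500
-- import your own Cfsg.Agent.* helpers here
import Cfsg.Agent.S4710
import Cfsg.Agent.Lib.Lead.SecondMain4
import Cfsg.Agent.Lib.Helper24.PerfectLemmas
import Cfsg.Agent.Lib.Helper6.Knoerr
import Cfsg.Agent.Lib.Helper6.FirstMain
import Cfsg.Agent.Lib.Helper6.IndFun

set_option autoImplicit false
open Cfsg

namespace Cfsg.Agent.S4500

theorem not_integral_aux (r : ℕ) (hr : 2 ≤ r) (β : ℂ) (hβ : IsIntegral ℤ β)
    (h : (r : ℂ) * β = -1) : False := by
  have hr0 : (r : ℂ) ≠ 0 := by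
    have : r ≠ 0 := by omega
    exact_mod_cast this
  have hq : β = ((-(1 : ℚ) / (r : ℚ) : ℚ) : ℂ) := by
    push_cast
    field_simp
    linear_combination h
  rw [hq] at hβ
  have h2 : IsIntegral ℤ (-(1 : ℚ) / (r : ℚ) : ℚ) :=
    (isIntegral_algebraMap_iff (algebraMap ℚ ℂ).injective).mp hβ
  obtain ⟨z, hz⟩ := IsIntegrallyClosed.isIntegral_iff.mp h2
  have hr0' : (r : ℚ) ≠ 0 := by
    have : r ≠ 0 := by omega
    exact_mod_cast this
  have h3 : (z : ℚ) * (r : ℚ) = -1 := by
    have : (algebraMap ℤ ℚ) z = (z : ℚ) := rfl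
    rw [this] at hz
    rw [hz]
    field_simp
  have h4 : z * (r : ℤ) = -1 := by exact_mod_cast h3
  have h5 : (r : ℤ) ∣ 1 := ⟨-z, by linarith⟩
  have h6 : (r : ℤ) ≤ 1 := Int.le_of_dvd one_pos h5
  omega

open Cfsg.Agent.Lib.Helper24 in
/-- core: a finite set of irreducible characters containing the trivial one, with
`∑ χ(1) χ(x) = 0`, contains a nonprincipal character of degree prime to `r`. -/
theorem exists_coprime_degree {G : Type*} [Group G] [Finite G]
    (S : Finset (IrrCharacter G)) (hS : trivIrr G ∈ S) (x : G)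
    (hsum : ∑ χ ∈ S, (χ : G → ℂ) 1 * (χ : G → ℂ) x = 0) (r : ℕ) (hr : r.Prime) :
    ∃ χ ∈ S, (χ : G → ℂ) ≠ (fun _ => 1) ∧ ¬ r ∣ charDegree (χ : G → ℂ) := by
  classical
  by_contra hcon
  push_neg at hcon
  have hdiv : ∀ χ ∈ S.erase (trivIrr G), r ∣ charDegree (χ : G → ℂ) := by
    intro χ hχ
    rw [Finset.mem_erase] at hχ
    apply hcon χ hχ.2
    intro hfun
    apply hχ.1
    apply Subtype.ext
    rw [hfun]
    rfl
  rw [← Finset.add_sum_erase S _ hS] at hsum
  have ht1 : ((trivIrr G : IrrCharacter G) : G → ℂ) 1 = 1 := rfl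
  have htx : ((trivIrr G : IrrCharacter G) : G → ℂ) x = 1 := rfl
  rw [ht1, htx, one_mul] at hsum
  set β : ℂ := ∑ χ ∈ S.erase (trivIrr G),
    ((charDegree (χ : G → ℂ) / r : ℕ) : ℂ) * (χ : G → ℂ) x with hβdef
  have hβint : IsIntegral ℤ β := by
    apply IsIntegral.sum
    intro χ _
    exact (isIntegral_natCast _).mul (irr_isIntegral χ x)
  have hβ : (r : ℂ) * β = -1 := by
    rw [hβdef, Finset.mul_sum]
    have : ∑ χ ∈ S.erase (trivIrr G), (r : ℂ) *
        (((charDegree (χ : G → ℂ) / r : ℕ) : ℂ) * (χ : G → ℂ) x) =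
        ∑ χ ∈ S.erase (trivIrr G), (χ : G → ℂ) 1 * (χ : G → ℂ) x := by
      apply Finset.sum_congr rfl
      intro χ hχ
      obtain ⟨m, hm⟩ := hdiv χ hχ
      rw [irr_apply_one χ, hm, Nat.mul_div_cancel_left m hr.pos]
      push_cast
      ring
    rw [this]
    linear_combination hsum
  exact not_integral_aux r hr.two_le β hβint hβ

open Cfsg.Agent.Lib.Helper24 Cfsg.Agent.Lib.Helper6 in
theorem key {G : Type*} [Group G] [Finite G] [Nontrivial G] (p q r a b c : ℕ) (hp : p.Prime)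
    (hq : q.Prime) (hr : r.Prime) (hpq : p ≠ q) (hpr : p ≠ r) (ha : a ≤ 2)
    (hG : Nat.card G = p ^ a * q ^ b * r ^ c) :
    ∃ χ : IrrCharacter G, (χ : G → ℂ) ≠ (fun _ => 1) ∧ ¬ p ∣ charDegree (χ : G → ℂ) ∧
      ¬ r ∣ charDegree (χ : G → ℂ) := by
  classical
  let _ := Fintype.ofFinite G
  let _ := Cfsg.Agent.CharLib.fintypeIrr G
  by_cases hpG : p ∣ Nat.card G
  · haveI : Fact p.Prime := ⟨hp⟩
    obtain ⟨M, hM⟩ := exists_isPModular p
    haveI : M.IsPrime := hM.2.1.isPrime
    set B0 : Set (IrrCharacter G) := principalBlock M G with hB0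
    have hB : IsPBlock M B0 := ⟨trivIrr G, rfl⟩
    have htriv : trivIrr G ∈ B0 := mem_blockOf_self (trivIrr G)
    have hinf : sInf ((fun χ : IrrCharacter G => (charDegree (χ : G → ℂ)).factorization p) '' B0)
        = 0 := by
      have hle : sInf ((fun χ : IrrCharacter G =>
          (charDegree (χ : G → ℂ)).factorization p) '' B0) ≤ 0 := by
        apply Nat.sInf_le
        refine ⟨trivIrr G, htriv, ?_⟩
        show (charDegree ((trivIrr G : IrrCharacter G) : G → ℂ)).factorization p = 0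
        rw [charDegree_trivIrr]
        simp
      omega
    have hfac : (Nat.card G).factorization p = a := by
      have hpa : p ^ a ≠ 0 := (pow_pos hp.pos a).ne'
      have hqb : q ^ b ≠ 0 := (pow_pos hq.pos b).ne'
      have hrc : r ^ c ≠ 0 := (pow_pos hr.pos c).ne'
      rw [hG, Nat.factorization_mul (mul_ne_zero hpa hqb) hrc,
        Nat.factorization_mul hpa hqb]
      simp only [Finsupp.coe_add, Pi.add_apply, Nat.factorization_pow, Finsupp.coe_smul,
        Pi.smul_apply, smul_eq_mul]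
      rw [hp.factorization_self, hq.factorization, hr.factorization]
      simp [hpq.symm, hpr.symm]
    have hdef : blockDefect p B0 ≤ 2 := by
      unfold blockDefect
      rw [hfac]
      omega
    have hheight : ∀ χ ∈ B0, ¬ p ∣ charDegree (χ : G → ℂ) := by
      intro χ hχ hdvd
      have h1 := (Cfsg.Agent.S4710.result p M hM B0 hB _ rfl).2 χ hχ
      have h0 : blockHeight p B0 (χ : G → ℂ) = 0 := by
        by_cases hd1 : blockDefect p B0 ≤ 1
        · exact h1.1 hd1
        · have := h1.2 (by omega)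
          omega
      unfold blockHeight at h0
      rw [hinf, Nat.sub_zero] at h0
      have hpos := irr_charDegree_pos χ
      have := (hp.dvd_iff_one_le_factorization hpos.ne').mp hdvd
      omega
    obtain ⟨x, hx⟩ := exists_prime_orderOf_dvd_card' (G := G) p hpG
    have hx1 : x ≠ 1 := by
      rintro rfl
      rw [orderOf_one] at hx
      exact hp.one_lt.ne hx
    have horth := Cfsg.Agent.CharLib.block_orthogonality hM x 1 x 1
      ⟨1, mul_one x, Commute.one_right x, ⟨1, by rw [hx, pow_one]⟩, by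
        rw [orderOf_one]; exact hp.not_dvd_one⟩
      ⟨1, mul_one 1, Commute.one_right 1, ⟨0, by rw [orderOf_one, pow_zero]⟩, by
        rw [orderOf_one]; exact hp.not_dvd_one⟩
      (by
        intro hc
        exact hx1 (isConj_one_left.mp hc)) B0 hB
    rw [finsum_mem_eq_sum_ite, ← Finset.sum_filter] at horth
    have hsum : ∑ χ ∈ Finset.univ.filter (fun χ : IrrCharacter G => χ ∈ B0),
        (χ : G → ℂ) 1 * (χ : G → ℂ) x = 0 := by
      rw [← horth]
      apply Finset.sum_congr rfl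
      intro χ _
      rw [inv_one, mul_comm]
    obtain ⟨χ, hχS, hne, hrd⟩ := exists_coprime_degree
      (Finset.univ.filter (fun χ : IrrCharacter G => χ ∈ B0))
      (by simp [htriv]) x hsum r hr
    refine ⟨χ, hne, hheight χ ?_, hrd⟩
    simpa using hχS
  · obtain ⟨x, hx1⟩ := exists_ne (1 : G)
    have hsum : ∑ χ ∈ (Finset.univ : Finset (IrrCharacter G)),
        (χ : G → ℂ) 1 * (χ : G → ℂ) x = 0 := by
      rw [sum_irr_degree_mul x, if_neg hx1]
    obtain ⟨χ, _, hne, hrd⟩ := exists_coprime_degree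
      (Finset.univ : Finset (IrrCharacter G)) (Finset.mem_univ _) x hsum r hr
    refine ⟨χ, hne, ?_, hrd⟩
    intro hdvd
    exact hpG (hdvd.trans (irr_charDegree_dvd_card χ))

open Cfsg.Agent.Lib.Helper24 in
theorem pow_of_key {G : Type*} [Group G] [Finite G] (p q r a b c : ℕ) (hp : p.Prime)
    (hq : q.Prime) (hr : r.Prime)
    (hG : Nat.card G = p ^ a * q ^ b * r ^ c) (χ : IrrCharacter G)
    (h1 : ¬ p ∣ charDegree (χ : G → ℂ)) (h2 : ¬ r ∣ charDegree (χ : G → ℂ)) :
    ∃ k : ℕ, charDegree (χ : G → ℂ) = q ^ k := by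
  have hdvd := irr_charDegree_dvd_card χ
  rw [hG] at hdvd
  have hc1 : Nat.Coprime (charDegree (χ : G → ℂ)) (r ^ c) :=
    Nat.Coprime.pow_right c ((Nat.Prime.coprime_iff_not_dvd hr).mpr h2).symm
  have hc2 : Nat.Coprime (charDegree (χ : G → ℂ)) (p ^ a) :=
    Nat.Coprime.pow_right a ((Nat.Prime.coprime_iff_not_dvd hp).mpr h1).symm
  have h3 : charDegree (χ : G → ℂ) ∣ p ^ a * q ^ b := hc1.dvd_of_dvd_mul_right hdvd
  have h4 : charDegree (χ : G → ℂ) ∣ q ^ b := hc2.dvd_of_dvd_mul_left h3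
  obtain ⟨k, _, hk⟩ := (Nat.dvd_prime_pow hq).mp h4
  exact ⟨k, hk⟩

/-- Let G be a non-trivial finite group of order p^a · q^b · r^c with p, q, r distinct primes and a ≤ 2. Then G has a non-principal irreducible character whose degree is a power of q, and a non-principal irreducible character whose degree is a power of r; the power may be the zeroth, so a non-principal linear character serves for both. -/
theorem result {G : Type*} [Group G] [Finite G] [Nontrivial G] (p q r a b c : ℕ) (hp : p.Prime) (hq : q.Prime) (hr : r.Prime) (hpq : p ≠ q) (hpr : p ≠ r) (hqr : q ≠ r) (ha : a ≤ 2) (hG : Nat.card G = p ^ a * q ^ b * r ^ c) : (∃ χ : Cfsg.IrrCharacter G, (χ : G → ℂ) ≠ (fun _ => 1) ∧ ∃ k : ℕ, Cfsg.charDegree (χ : G → ℂ) = q ^ k) ∧ ∃ χ : Cfsg.IrrCharacter G, (χ : G → ℂ) ≠ (fun _ => 1) ∧ ∃ k : ℕ, Cfsg.charDegree (χ : G → ℂ) = r ^ k := by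
  constructor
  · obtain ⟨χ, hne, h1, h2⟩ := key p q r a b c hp hq hr hpq hpr ha hG
    exact ⟨χ, hne, pow_of_key p q r a b c hp hq hr hG χ h1 h2⟩
  · have hG' : Nat.card G = p ^ a * r ^ c * q ^ b := by rw [hG]; ring
    obtain ⟨χ, hne, h1, h2⟩ := key p r q a c b hp hr hq hpr hpq ha hG'
    exact ⟨χ, hne, pow_of_key p r q a c b hp hr hq hG' χ h1 h2⟩

end Cfsg.Agent.S4500
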