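import Cfsg.Statements.S4508
import Mathlib
import Cfsg.Agent.Lib.Helper2.SelfCentA
import Cfsg.Agent.Lib.Helper2.SelfCentB
import Cfsg.Agent.Lib.Helper2.SelfCentC
import Cfsg.Agent.Lib.Helper6.DetChar
import Cfsg.Agent.Lib.Lead.BlockBasic

set_option autoImplicit false
open Cfsg

namespace Cfsg.Agent.S4508

open Cfsg.Agent.Lib.Helper2.SelfCent Cfsg.Agent.Lib.Helper10 Cfsg.Agent.CharLib in

/-- Let the finite group G contain an element x of prime order p with C_G(x) = ⟨x⟩, and let t be the number of conjugacy classes of elements of order p. If G has an irreducible character of degree p − 1, then t is even or the commutator subgroup has even index. -/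
theorem result {G : Type*} [Group G] [Finite G] (p : ℕ) (hp : p.Prime) (x : G) (hx : orderOf x = p) (hC : Subgroup.centralizer ({x} : Set G) = Subgroup.zpowers x) (t : ℕ) (ht : Nat.card {C : ConjClasses G // ∃ g ∈ C.carrier, orderOf g = p} = t) (χ : Cfsg.IrrCharacter G) (hχ : Cfsg.charDegree (χ : G → ℂ) + 1 = p) : Even t ∨ Even (commutator G).index := by
  classical
  have := Fintype.ofFinite G
  have hidx0 : (commutator G).index ≠ 0 := Subgroup.index_ne_zero_of_finite
  rcases eq_or_ne p 2 with hp2 | hp2
  · obtain ⟨h1, h2⟩ := scp_commutator_index hp hx hC t ht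
    by_cases ht1 : t = p - 1
    · right
      rw [h2 ht1, hp2]
      exact even_two
    · left
      have h3 := h1 ht1
      rw [hp2] at h3 ht1
      have h4 : 1 ≤ (commutator G).index := Nat.one_le_iff_ne_zero.mpr hidx0
      have h5 : t ≤ 1 := by nlinarith
      have h6 : t = 0 := by omega
      rw [h6]
      exact ⟨0, rfl⟩
  · by_contra hcon
    push Not at hcon
    obtain ⟨htodd, hiodd⟩ := hcon
    rw [Nat.not_even_iff_odd] at htodd hiodd
    set K : Subgroup G := Subgroup.zpowers x with hK
    set N : Subgroup G := Subgroup.normalizer (K : Set G) with hN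
    have hte := card_classes_mul_eq hp hx hC
    rw [ht] at hte
    have hpodd : Odd p := hp.odd_of_ne_two hp2
    have hp1 : p - 1 ≠ 0 := by have := hp.two_le; omega
    obtain ⟨a, q, hq, hpa⟩ := Nat.exists_eq_two_pow_mul_odd hp1
    have ha : 2 ^ a ∣ K.relIndex N := by
      have h1 : 2 ^ a ∣ t * K.relIndex N := by
        rw [hte, hpa]
        exact dvd_mul_right _ _
      have h2 : Nat.Coprime (2 ^ a) t :=
        Nat.Coprime.pow_left a (Nat.coprime_two_left.mpr htodd)
      exact h2.dvd_of_dvd_mul_left h1
    have ha1 : 1 ≤ a := by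
      by_contra h
      have ha0 : a = 0 := by omega
      rw [ha0, pow_zero, one_mul] at hpa
      obtain ⟨k, hk⟩ := hq
      obtain ⟨l, hl⟩ := hpodd
      omega
    obtain ⟨y, hyN, hyo, hyK⟩ := exists_two_pow_element hp hp2 hx hC a ha
    obtain ⟨n, ρ, hirr, hρ⟩ := χ.2
    have hχ1 : (χ : G → ℂ) 1 = n := by
      rw [← hρ, Representation.char_one]
      simp
    have hdeg : Cfsg.charDegree (χ : G → ℂ) = n := charDegree_eq_of_apply_one hχ1
    have hnp : n + 1 = p := by rw [← hdeg]; exact hχ
    have hKcard : Nat.card K = p := by rw [hK, Nat.card_zpowers, hx]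
    -- hypotheses for `vanish_off`
    have hC' : ∀ k ∈ K, k ≠ 1 → Subgroup.centralizer ({k} : Set G) ≤ K := by
      intro k hk hk1
      rw [scp_centralizer_eq hp hx hC hk hk1]
    have hTI : ∀ g : G, g ∉ Subgroup.normalizer (K : Set G) → ∀ k ∈ K, g * k * g⁻¹ ∈ K → k = 1 := by
      intro g hg k hk hgk
      by_contra hk1
      exact hg (scp_mem_normalizer hp hx hk hk1 hgk)
    have hab : ∀ a ∈ K, ∀ b ∈ K, a * b = b * a := by
      intro a ha b hb
      obtain ⟨i, rfl⟩ := Subgroup.mem_zpowers_iff.mp ha
      obtain ⟨j, rfl⟩ := Subgroup.mem_zpowers_iff.mp hb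
      rw [← zpow_add, ← zpow_add, add_comm]
    have he : 2 ≤ (K.subgroupOf (Subgroup.normalizer (K : Set G))).index := by
      have h1 : (K.subgroupOf (Subgroup.normalizer (K : Set G))).index = K.relIndex N := rfl
      rw [h1]
      have h2 : 2 ∣ K.relIndex N := dvd_trans (dvd_pow_self 2 (by omega)) ha
      have h3 : K.relIndex N ≠ 0 := by
        intro h0
        rw [h0, mul_zero] at hte
        exact hp1 hte.symm
      have := Nat.le_of_dvd (Nat.pos_of_ne_zero h3) h2
      exact this
    have hχne : (χ : G → ℂ) ≠ 1 := by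
      intro h
      have h1 : (χ : G → ℂ) 1 = 1 := by rw [h]; rfl
      rw [hχ1] at h1
      have h2 : n = 1 := by exact_mod_cast h1
      have := hp.two_le
      have h3 : p = 2 := by omega
      exact hp2 h3
    have hvan : ∀ j, 0 < j → j < 2 ^ a → ρ.character (y ^ j) = 0 := by
      intro j hj0 hj
      have hmem : y ^ j ∈ Subgroup.normalizer (K : Set G) := Subgroup.pow_mem _ hyN j
      have := vanish_off K hC' hTI hab he χ.2 hχne n hχ1 (by rw [hKcard]; exact hnp)
        ⟨y ^ j, hmem⟩ (hyK j hj0 hj)
      rw [hρ]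
      exact this
    have hdet : LinearMap.det (ρ y) = -1 := by
      apply det_eq_neg_one ρ y (2 ^ a) q hyo _ hq _ hvan
      · exact (Nat.even_pow' (by omega)).mpr even_two
      · rw [Module.finrank_fin_fun, ← hpa]
        omega
    -- the determinant kills the commutator subgroup
    have hker : commutator G ≤ (Cfsg.Agent.Lib.Helper6.repDetHom ρ).ker :=
      Abelianization.commutator_subset_ker _
    have hpow : y ^ (commutator G).index ∈ commutator G := Subgroup.pow_index_mem _ y
    have h1 := MonoidHom.mem_ker.mp (hker hpow)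
    rw [map_pow] at h1
    have h2 : (((Cfsg.Agent.Lib.Helper6.repDetHom ρ y) ^ (commutator G).index : ℂˣ) : ℂ) = 1 := by
      rw [h1]; rfl
    rw [Units.val_pow_eq_pow_val, Cfsg.Agent.Lib.Helper6.repDetHom_apply, hdet, hiodd.neg_one_pow] at h2
    norm_num at h2

end Cfsg.Agent.S4508
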