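import Cfsg.Statements.S4512
import Cfsg.Agent.Lib.Lead.KleinBlock4

set_option autoImplicit false
open Cfsg

namespace Cfsg.Agent.S4512

/-- If G is a finite group with a Sylow 2-subgroup that is a Klein four-group and a single conjugacy class of involutions, then its principal 2-block (relative to a maximal ideal M of the algebraic integers containing 2) has 2-regular rank 3: the restrictions of its irreducible characters to the elements of odd order span a space of dimension 3 (it has three irreducible Brauer characters). -/
theorem result {G : Type*} [Group G] [Finite G] (M : Ideal Cfsg.AlgInt) (hM : Cfsg.IsPModular 2 M) (P : Sylow 2 G)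
    (hP : Nat.card P = 4) (hexp : ∀ x : P, x * x = 1)
    (hone : ∀ s t : G, orderOf s = 2 → orderOf t = 2 → IsConj s t) :
    Cfsg.blockRank 2 (Cfsg.principalBlock M G) = 3 := by
  have hK : IsKleinFour (P : Subgroup G) := by
    refine ⟨hP, ?_⟩
    have h1 : Monoid.exponent (P : Subgroup G) ∣ 2 := by
      apply Monoid.exponent_dvd_of_forall_pow_eq_one
      intro x
      rw [pow_two]
      exact hexp x
    rcases (Nat.dvd_prime Nat.prime_two).mp h1 with h | h
    · exfalso
      have h2 : Subsingleton (P : Subgroup G) := Monoid.exp_eq_one_iff.mp h
      have h3 : Nat.card (P : Subgroup G) ≤ 1 := Finite.card_le_one_iff_subsingleton.mpr h2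
      have h4 : Nat.card (P : Subgroup G) = 4 := hP
      omega
    · exact h
  exact Cfsg.Agent.CharLib.klein_blockRank hM P hK hone

end Cfsg.Agent.S4512
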