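import Cfsg.Statements.S4518
import Cfsg.Agent.Lib.Helper23.GaloisChar
import Cfsg.Agent.Lib.Helper6.Clifford

set_option autoImplicit false
open Cfsg

namespace Cfsg.Agent.S4518



/-- Let N be a normal subgroup of the finite group G whose index is not divisible by the prime p, and let k be coprime to the order of G with k ^ (p ^ e) ≡ 1 modulo the order of G for some e (so g ↦ g ^ k induces a field automorphism of p-power order on character values). If an irreducible character χ of G satisfies χ (g ^ k) = χ g for all g, then every irreducible constituent θ of the restriction of χ to N satisfies θ (n ^ k) = θ n for all n. -/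
theorem result {G : Type*} [Group G] [Fintype G] (p : ℕ) [Fact p.Prime] (N : Subgroup G) [N.Normal] [Fintype N] (hidx : ¬ p ∣ N.index) (k e : ℕ) (hk : Nat.Coprime k (Nat.card G)) (hke : k ^ (p ^ e) ≡ 1 [MOD Nat.card G]) (χ : Cfsg.IrrCharacter G) (hχ : ∀ g : G, (χ : G → ℂ) (g ^ k) = (χ : G → ℂ) g) (θ : Cfsg.IrrCharacter N) (hθ : Cfsg.classInner (fun n : N => (χ : G → ℂ) n) (θ : N → ℂ) ≠ 0) : ∀ n : N, (θ : N → ℂ) (n ^ k) = (θ : N → ℂ) n := by
  classical
  -- the power map on functions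
  set T : (N → ℂ) → (N → ℂ) := fun ψ n => ψ (n ^ k) with hT
  have hNG : Nat.card N ∣ Nat.card G := Subgroup.card_subgroup_dvd_card N
  have hkN : Nat.Coprime k (Nat.card N) := Nat.Coprime.coprime_dvd_right hNG hk
  have hχirr : IsIrrCharacter G (χ : G → ℂ) := χ.2
  have hχcls : Cfsg.IsClassFunction G (χ : G → ℂ) :=
    Cfsg.Agent.CharLib.IsCharacter.isClassFunction (Cfsg.Agent.CharLib.IsIrrCharacter.isCharacter hχirr)
  -- iterates of T
  have hTiter : ∀ (m : ℕ) (ψ : N → ℂ), T^[m] ψ = fun n => ψ (n ^ (k ^ m)) := by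
    intro m
    induction m with
    | zero => intro ψ; funext n; simp
    | succ m ih =>
      intro ψ
      rw [Function.iterate_succ_apply', ih]
      funext n
      show ψ ((n ^ k) ^ k ^ m) = ψ (n ^ k ^ (m + 1))
      rw [← pow_mul, pow_succ, mul_comm]
  have hTperiod : ∀ ψ : N → ℂ, T^[p ^ e] ψ = ψ := by
    intro ψ
    rw [hTiter]
    funext n
    congr 1
    have h1 : n ^ (k ^ p ^ e) = n ^ 1 := by
      rw [pow_eq_pow_iff_modEq]
      exact hke.of_dvd ((orderOf_dvd_natCard n).trans hNG)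
    rw [h1, pow_one]
  -- T preserves inner products
  have hTinner : ∀ φ ψ : N → ℂ, classInner (T φ) (T ψ) = classInner φ ψ := by
    intro φ ψ
    unfold classInner
    congr 1
    have h2 := Equiv.sum_comp (powCoprime hkN.symm) (fun n => φ n * (starRingEnd ℂ) (ψ n))
    simpa [powCoprime_apply, hT] using h2
  -- T fixes the restriction of χ
  have hTχ : T (Cfsg.Agent.Lib.Helper6.resFun N (χ : G → ℂ)) = Cfsg.Agent.Lib.Helper6.resFun N (χ : G → ℂ) := by
    funext n
    show (χ : G → ℂ) ((n ^ k : N) : G) = (χ : G → ℂ) (n : G)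
    rw [Subgroup.coe_pow]
    exact hχ n
  -- T commutes with conjugation
  have hTconj : ∀ (g : G) (ψ : N → ℂ), T (Cfsg.Agent.Lib.Helper6.conjFun N g ψ) =
      Cfsg.Agent.Lib.Helper6.conjFun N g (T ψ) := by
    intro g ψ
    funext n
    show ψ _ = ψ _
    congr 1
    apply Subtype.ext
    simp [conj_pow]
  have hθ' : classInner (Cfsg.Agent.Lib.Helper6.resFun N (χ : G → ℂ)) (θ : N → ℂ) ≠ 0 := hθ
  -- the orbit
  set Ω := Cfsg.Agent.Lib.Helper6.conjOrbit N (θ : N → ℂ) with hΩ
  have hTΩ : ∀ ψ ∈ Ω, T ψ ∈ Ω := by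
    intro ψ hψ
    obtain ⟨g, rfl⟩ := (Cfsg.Agent.Lib.Helper6.mem_conjOrbit N).mp hψ
    have hirr1 : IsIrrCharacter N (Cfsg.Agent.Lib.Helper6.conjFun N g (θ : N → ℂ)) :=
      Cfsg.Agent.Lib.Helper6.isIrrCharacter_conjFun N θ.2 g
    have hirr2 : IsIrrCharacter N (T (Cfsg.Agent.Lib.Helper6.conjFun N g (θ : N → ℂ))) :=
      Cfsg.Agent.Lib.Helper23.isIrrCharacter_comp_pow hirr1 k hkN
    have hne : classInner (Cfsg.Agent.Lib.Helper6.resFun N (χ : G → ℂ))
        (T (Cfsg.Agent.Lib.Helper6.conjFun N g (θ : N → ℂ))) ≠ 0 := by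
      rw [← hTχ, hTinner, Cfsg.Agent.Lib.Helper6.classInner_resFun_conjFun N hχcls]
      exact hθ'
    obtain ⟨g', hg'⟩ := Cfsg.Agent.Lib.Helper6.exists_conjFun_eq_of_constituent N hχirr θ.2 hirr2 hθ' hne
    exact (Cfsg.Agent.Lib.Helper6.mem_conjOrbit N).mpr ⟨g', hg'⟩
  -- size of the orbit is prime to p
  have hΩcard : ¬ p ∣ Ω.card := by
    intro hdiv
    apply hidx
    have h1 := Cfsg.Agent.Lib.Helper6.card_conjOrbit_mul N (θ : N → ℂ)
    -- the stabiliser contains N
    let S : Subgroup G :=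
      { carrier := {g | Cfsg.Agent.Lib.Helper6.conjFun N g (θ : N → ℂ) = θ}
        one_mem' := Cfsg.Agent.Lib.Helper6.conjFun_one N _
        mul_mem' := by
          intro a b ha hb
          show Cfsg.Agent.Lib.Helper6.conjFun N (a * b) _ = _
          rw [Cfsg.Agent.Lib.Helper6.conjFun_mul, ha, hb]
        inv_mem' := by
          intro a ha
          show Cfsg.Agent.Lib.Helper6.conjFun N a⁻¹ _ = _
          conv_lhs => rw [← ha]
          exact Cfsg.Agent.Lib.Helper6.conjFun_inv_conjFun N a _ }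
    have hNS : N ≤ S := by
      intro g hg
      exact Cfsg.Agent.Lib.Helper6.conjFun_of_mem N
        (Cfsg.Agent.CharLib.IsCharacter.isClassFunction (Cfsg.Agent.CharLib.IsIrrCharacter.isCharacter θ.2)) hg
    have h2 : Nat.card {g : G // Cfsg.Agent.Lib.Helper6.conjFun N g (θ : N → ℂ) = θ} = Nat.card S := rfl
    rw [h2] at h1
    -- |Ω| * |S| = |G|, so |Ω| = [G : S] divides [G : N]
    have h3 : Ω.card = S.index := by
      have h4 := S.card_mul_index
      have h5 : Nat.card S ≠ 0 := Nat.card_pos.ne'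
      have h6 : Ω.card * Nat.card S = S.index * Nat.card S := by rw [h1, ← h4, mul_comm]
      exact Nat.eq_of_mul_eq_mul_right (Nat.pos_of_ne_zero h5) h6
    rw [h3] at hdiv
    exact hdiv.trans (Subgroup.index_dvd_of_le hNS)
  -- fixed point
  let f : Function.End {ψ // ψ ∈ Ω} := fun ψ => ⟨T ψ.1, hTΩ ψ.1 ψ.2⟩
  have hfiter : ∀ (m : ℕ) (ψ : {ψ // ψ ∈ Ω}), ((f ^ m) ψ).1 = T^[m] ψ.1 := by
    intro m
    induction m with
    | zero => intro ψ; rfl
    | succ m ih =>
      intro ψ
      rw [pow_succ', Function.iterate_succ_apply']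
      show T ((f ^ m) ψ).1 = _
      rw [ih]
  have hf : f ^ p ^ e = 1 := by
    funext ψ
    apply Subtype.ext
    rw [hfiter, hTperiod]
    rfl
  have hmod := Equiv.Perm.card_fixedPoints_modEq (f := f) (p := p) (n := e) hf
  have hfix : (Function.fixedPoints f).Nonempty := by
    by_contra hcon
    rw [Set.not_nonempty_iff_eq_empty] at hcon
    have h0 : Fintype.card (Function.fixedPoints f) = 0 := by
      rw [Fintype.card_eq_zero_iff]
      constructor
      rintro ⟨x, hx⟩
      rw [hcon] at hx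
      exact hx
    rw [h0, Fintype.card_coe] at hmod
    exact hΩcard ((Nat.modEq_zero_iff_dvd).mp hmod)
  obtain ⟨ψ₀, hψ₀⟩ := hfix
  have hψ₀' : T ψ₀.1 = ψ₀.1 := congrArg Subtype.val hψ₀
  obtain ⟨g, hg⟩ := (Cfsg.Agent.Lib.Helper6.mem_conjOrbit N).mp ψ₀.2
  rw [← hg, hTconj] at hψ₀'
  have hfin : T (θ : N → ℂ) = θ := Cfsg.Agent.Lib.Helper6.conjFun_injective N g hψ₀'
  intro n
  exact congrFun hfin n

end Cfsg.Agent.S4518
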