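import Cfsg.Statements.S4541
import Cfsg.Agent.Lib.Helper23.SubsecH

set_option autoImplicit false
open Cfsg

namespace Cfsg.Agent.S4541



/-- Let B be a 2-block of the finite group G (relative to a maximal ideal M of the algebraic integers containing 2), u a 2-element, and b a block of the centralizer of u inducing B (a subsection (u, b)), of defect q and 2-regular rank l; write s for the integer square root of l and k₀(B) for the number of members of B of height zero. If s is odd then k₀(B) ≤ s·2 ^ q, and otherwise (s + 1)·k₀(B) ≤ l·2 ^ q; in particular k₀(B) ≤ 2 ^ q when l ≤ 3. -/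
theorem result {G : Type*} [Group G] [Finite G] (M : Ideal Cfsg.AlgInt) (hM : Cfsg.IsPModular 2 M) (B : Set (Cfsg.IrrCharacter G)) (hB : Cfsg.IsPBlock M B) (u : G) (hu : ∃ j : ℕ, orderOf u = 2 ^ j) (b : Set (Cfsg.IrrCharacter ↥(Subgroup.centralizer ({u} : Set G)))) (hb : Cfsg.IsInducedBlock M (Subgroup.centralizer ({u} : Set G)) b B) : (Odd (Nat.sqrt (Cfsg.blockRank 2 b)) → Nat.card {χ : Cfsg.IrrCharacter G // χ ∈ B ∧ Cfsg.blockHeight 2 B (χ : G → ℂ) = 0} ≤ Nat.sqrt (Cfsg.blockRank 2 b) * 2 ^ Cfsg.blockDefect 2 b) ∧ (¬ Odd (Nat.sqrt (Cfsg.blockRank 2 b)) → (Nat.sqrt (Cfsg.blockRank 2 b) + 1) * Nat.card {χ : Cfsg.IrrCharacter G // χ ∈ B ∧ Cfsg.blockHeight 2 B (χ : G → ℂ) = 0} ≤ Cfsg.blockRank 2 b * 2 ^ Cfsg.blockDefect 2 b) ∧ (Cfsg.blockRank 2 b ≤ 3 → Nat.card {χ : Cfsg.IrrCharacter G // χ ∈ B ∧ Cfsg.blockHeight 2 B (χ : G → ℂ) = 0} ≤ 2 ^ Cfsg.blockDefect 2 b) := by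
  classical
  let _ : Fintype G := Fintype.ofFinite G
  let _ := Cfsg.Agent.CharLib.fintypeIrr G
  set B₀ := Finset.univ.filter (fun χ : IrrCharacter G =>
    χ ∈ B ∧ Cfsg.blockHeight 2 B (χ : G → ℂ) = 0) with hB₀
  have hmem : ∀ χ ∈ B₀, χ ∈ B ∧ Cfsg.blockHeight 2 B (χ : G → ℂ) = 0 := by
    intro χ hχ
    rw [hB₀, Finset.mem_filter] at hχ
    exact hχ.2
  have hcard : Nat.card {χ : Cfsg.IrrCharacter G // χ ∈ B ∧
      Cfsg.blockHeight 2 B (χ : G → ℂ) = 0} = B₀.card := by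
    rw [Nat.card_eq_fintype_card, hB₀, Fintype.card_subtype]
  rw [hcard]
  rcases B₀.eq_empty_or_nonempty with hemp | hne
  · rw [hemp, Finset.card_empty]
    refine ⟨fun _ => Nat.zero_le _, fun _ => ?_, fun _ => Nat.zero_le _⟩
    rw [Nat.mul_zero]
    exact Nat.zero_le _
  · obtain ⟨x, hxodd, hA, hBB⟩ :=
      Cfsg.Agent.Lib.Helper23.Subsec.two_heightZero_bounds hM u hu B hB b hb B₀ hmem hne
    exact Cfsg.Agent.Lib.Helper23.Subsec.two_subsec_arith B₀.card x (2 ^ Cfsg.blockDefect 2 b)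
      (Cfsg.blockRank 2 b) (Nat.sqrt (Cfsg.blockRank 2 b)) (Nat.sqrt_le _) (Nat.lt_succ_sqrt _)
      hxodd hA hBB

end Cfsg.Agent.S4541
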