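import Cfsg.Statements.S4549
import Mathlib
import Cfsg.Agent.Lib.Helper24.PrincipalLinear
import Cfsg.Agent.Lib.Helper24.TateFrattini
import Cfsg.Agent.Lib.Helper6.QuotBlock

set_option autoImplicit false
open Cfsg

namespace Cfsg.Agent.S4549

open Cfsg.Agent.CharLib Cfsg.Agent.Lib.Helper24 Cfsg.Agent.Lib.Helper6
open scoped ComplexConjugate
universe u

/-- With a normal `p`-complement, characters of `p'`-degree in the principal block are linear. -/
theorem charDegree_eq_one_of_pcomplement {G : Type u} [Group G] [Finite G] {p : ℕ}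
    [hpp : Fact p.Prime] {M : Ideal AlgInt} (hM : IsPModular p M) (h : HasNormalPComplement p G)
    (χ : IrrCharacter G) (hχ : χ ∈ principalBlock M G) (hpd : ¬ p ∣ charDegree (χ : G → ℂ)) :
    charDegree (χ : G → ℂ) = 1 := by
  classical
  obtain ⟨P, N, hNn, hcompl⟩ := h
  haveI := hNn
  have hcard : Nat.card N * Nat.card P = Nat.card G := hcompl.card_mul
  have hPcard : Nat.card P = p ^ (Nat.card G).factorization p := Sylow.card_eq_multiplicity P
  have hNp : ¬ p ∣ Nat.card N := by
    intro h
    have h1 : p ^ ((Nat.card G).factorization p + 1) ∣ Nat.card G := by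
      have h2 : Nat.card N * p ^ (Nat.card G).factorization p = Nat.card G := by
        rw [← hPcard, hcard]
      have h3 : p * p ^ (Nat.card G).factorization p ∣
          Nat.card N * p ^ (Nat.card G).factorization p := Nat.mul_dvd_mul_right h _
      rw [h2] at h3
      rw [pow_succ, mul_comm]
      exact h3
    exact (Nat.pow_succ_factorization_not_dvd Nat.card_pos.ne' hpp.out) h1
  have hker := le_ker_of_sameBlock_one hM N hNp χ hχ
  obtain ⟨β, hβ⟩ := exists_deflation N χ hker
  have hβdeg : charDegree (β : G ⧸ N → ℂ) = charDegree (χ : G → ℂ) := by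
    unfold charDegree
    have := hβ 1
    rw [QuotientGroup.mk_one] at this
    rw [this]
  have hβdvd := irr_charDegree_dvd_card β
  rw [hβdeg] at hβdvd
  have hidx : Nat.card (G ⧸ N) = Nat.card P := by
    have h1 : Nat.card N * Nat.card (G ⧸ N) = Nat.card G := by
      rw [← Subgroup.index_eq_card]; exact Subgroup.card_mul_index N
    have h2 : 0 < Nat.card N := Nat.card_pos
    exact Nat.eq_of_mul_eq_mul_left h2 (h1.trans hcard.symm)
  rw [hidx, hPcard] at hβdvd
  obtain ⟨i, -, hi⟩ := (Nat.dvd_prime_pow hpp.out).mp hβdvd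
  rcases Nat.eq_zero_or_pos i with h0 | hpos
  · rw [hi, h0, pow_zero]
  · exfalso
    apply hpd
    rw [hi]
    exact dvd_pow_self p hpos.ne'

theorem coprime_of_pow_conditions {G : Type u} [Group G] [Finite G] (k : ℕ)
    (hk₁ : ∀ g : G, (∃ j : ℕ, orderOf g = 2 ^ j) → g ^ k = g ^ 3)
    (hk₂ : ∀ g : G, Odd (orderOf g) → g ^ k = g) : k.Coprime (Nat.card G) := by
  apply Nat.coprime_of_dvd
  intro q hq hqk hqG
  haveI : Fact q.Prime := ⟨hq⟩
  obtain ⟨g, hg⟩ := exists_prime_orderOf_dvd_card' q hqG
  have hgk : g ^ k = 1 := orderOf_dvd_iff_pow_eq_one.mp (hg ▸ hqk)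
  have hg1 : g ^ k = g := by
    rcases hq.eq_two_or_odd' with h2 | hodd
    · have h3 := hk₁ g ⟨1, by rw [hg, h2, pow_one]⟩
      rw [h3]
      have h4 : g ^ 2 = 1 := by rw [← h2, ← hg]; exact pow_orderOf_eq_one g
      rw [show 3 = 2 + 1 from rfl, pow_add, h4, one_mul, pow_one]
    · exact hk₂ g (hg ▸ hodd)
  rw [hgk] at hg1
  rw [← hg1, orderOf_one] at hg
  exact hq.one_lt.ne hg

theorem result' {G : Type u} [Group G] [Finite G] (M : Ideal Cfsg.AlgInt) (hM : Cfsg.IsPModular 2 M)
    (k : ℕ) (hk₁ : ∀ g : G, (∃ j : ℕ, orderOf g = 2 ^ j) → g ^ k = g ^ 3)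
    (hk₂ : ∀ g : G, Odd (orderOf g) → g ^ k = g) :
    Cfsg.HasNormalPComplement 2 G ↔ ∀ χ ∈ Cfsg.principalBlock M G,
      Odd (Cfsg.charDegree (χ : G → ℂ)) → (∀ g : G, (χ : G → ℂ) (g ^ k) = (χ : G → ℂ) g) →
      Cfsg.charDegree (χ : G → ℂ) = 1 := by
  classical
  haveI : Fact (Nat.Prime 2) := ⟨Nat.prime_two⟩
  constructor
  · intro h χ hχ hodd _
    apply charDegree_eq_one_of_pcomplement hM h χ hχ
    rw [← Nat.not_even_iff_odd, even_iff_two_dvd] at hodd
    exact hodd
  · intro h
    obtain ⟨P⟩ : Nonempty (Sylow 2 G) := inferInstance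
    apply hasNormalPComplement_of_hom_extensions P
    intro μ hμ2
    have hk := coprime_of_pow_conditions k hk₁ hk₂
    have hk₂' : ∀ g : G, Odd (orderOf g) → g ^ (k ^ 2) = g := by
      intro g hg
      rw [pow_two, pow_mul, hk₂ g hg, hk₂ g hg]
    have hτ := twPerm_pow_two_pow k hk hk₂'
    refine exists_hom_extension hM (P : Subgroup G) P.isPGroup'
      (fun g hg => exists_conj_mem_sylow_of_pow P g hg) k hk _ hτ ?_ μ ?_
    · intro χ hχ hpd hfix
      apply h χ hχ _ hfix
      rw [← Nat.not_even_iff_odd, even_iff_two_dvd]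
      exact hpd
    · intro y
      obtain ⟨j, hj⟩ := (IsPGroup.iff_orderOf.mp P.isPGroup') y
      have h3 : y ^ k = y ^ 3 := by
        apply Subtype.ext
        rw [Subgroup.coe_pow, Subgroup.coe_pow]
        exact hk₁ (y : G) ⟨j, by rw [Subgroup.orderOf_coe, hj]⟩
      rw [h3, map_pow, show 3 = 2 + 1 from rfl, pow_add, hμ2, one_mul, pow_one]

/-- Let G be a finite group and M a maximal ideal of the algebraic integers containing 2. Let k be a natural number with g ^ k = g ^ 3 for every 2-element g and g ^ k = g for every element g of odd order (such k exist); an irreducible character χ is unchanged by g ↦ g ^ k exactly when it is fixed by the field automorphism that cubes the 2-power roots of unity and fixes the roots of unity of odd order. Then G has a normal 2-complement if and only if every member χ of the principal 2-block of odd degree with χ (g ^ k) = χ g for all g has degree one. -/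
theorem result {G : Type*} [Group G] [Finite G] (M : Ideal Cfsg.AlgInt) (hM : Cfsg.IsPModular 2 M) (k : ℕ) (hk₁ : ∀ g : G, (∃ j : ℕ, orderOf g = 2 ^ j) → g ^ k = g ^ 3) (hk₂ : ∀ g : G, Odd (orderOf g) → g ^ k = g) : Cfsg.HasNormalPComplement 2 G ↔ ∀ χ ∈ Cfsg.principalBlock M G, Odd (Cfsg.charDegree (χ : G → ℂ)) → (∀ g : G, (χ : G → ℂ) (g ^ k) = (χ : G → ℂ) g) → Cfsg.charDegree (χ : G → ℂ) = 1 := by
  exact result' M hM k hk₁ hk₂

end Cfsg.Agent.S4549
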