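import Cfsg.Statements.S4550
import Cfsg.Agent.Lib.Lead.PowTwist2
import Cfsg.Agent.Lib.Lead.RealOddBlock

set_option autoImplicit false
open Cfsg

namespace Cfsg.Agent.S4550

/-- Let G be a finite group of even order and M a maximal ideal of the algebraic integers containing 2. Let k be a natural number with g ^ k = g ^ 3 for every 2-element g and g ^ k = g for every element g of odd order (such k exist); an irreducible character χ is unchanged by g ↦ g ^ k exactly when it is fixed by the field automorphism that cubes the 2-power roots of unity and fixes the roots of unity of odd order. Then the number of members χ of the principal 2-block of odd degree with χ (g ^ k) = χ g for all g is even. -/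
theorem result {G : Type*} [Group G] [Finite G] (M : Ideal Cfsg.AlgInt) (hM : Cfsg.IsPModular 2 M) (hev : Even (Nat.card G)) (k : ℕ) (hk₁ : ∀ g : G, (∃ j : ℕ, orderOf g = 2 ^ j) → g ^ k = g ^ 3) (hk₂ : ∀ g : G, Odd (orderOf g) → g ^ k = g) : Even (Nat.card {χ : Cfsg.IrrCharacter G // χ ∈ Cfsg.principalBlock M G ∧ Odd (Cfsg.charDegree (χ : G → ℂ)) ∧ ∀ g : G, (χ : G → ℂ) (g ^ k) = (χ : G → ℂ) g}) := by
  classical
  let _ := Fintype.ofFinite G
  let _ := Cfsg.Agent.CharLib.fintypeIrr G
  haveI : Fact (Nat.Prime 2) := ⟨Nat.prime_two⟩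
  have hp : M.IsPrime := Cfsg.Agent.Lib.Helper24.isPrime_of_isPModular hM
  have hM1 := Cfsg.Agent.Lib.Helper24.one_not_mem_of_isPModular hM
  have h2 := Cfsg.Agent.CharLib.two_memLocalIdeal hM
  have h2dvd : 2 ∣ Nat.card G := even_iff_two_dvd.mp hev
  -- k is coprime to the group order
  have hkcop : Nat.Coprime k (Nat.card G) := by
    apply Nat.coprime_of_dvd
    intro q hq hqk hqG
    haveI : Fact q.Prime := ⟨hq⟩
    obtain ⟨g, hg⟩ := exists_prime_orderOf_dvd_card' q hqG
    have hgk : g ^ k = 1 := by
      obtain ⟨c, rfl⟩ := hqk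
      rw [pow_mul, ← hg, pow_orderOf_eq_one, one_pow]
    have hg1 : g ≠ 1 := by
      intro h1
      rw [h1, orderOf_one] at hg
      exact hq.one_lt.ne hg
    rcases hq.eq_two_or_odd' with h2q | hodd
    · have h3 := hk₁ g ⟨1, by rw [hg, h2q, pow_one]⟩
      rw [hgk] at h3
      have hg2 : g ^ 2 = 1 := by rw [← h2q, ← hg]; exact pow_orderOf_eq_one g
      have : g ^ 3 = g := by rw [pow_succ, hg2, one_mul]
      rw [this] at h3
      exact hg1 h3.symm
    · have h3 := hk₂ g (by rw [hg]; exact hodd)
      rw [hgk] at h3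
      exact hg1 h3.symm
  have hk₂' : ∀ g : G, Odd (orderOf g) → g ^ (k ^ 2) = g := by
    intro g hg
    rw [pow_two, pow_mul, hk₂ g hg, hk₂ g hg]
  set π := Cfsg.Agent.CharLib.twPerm k hkcop with hπ
  have hπpow := Cfsg.Agent.CharLib.twPerm_pow_two_pow k hkcop hk₂'
  have hB : principalBlock M G =
      blockOf M ((Cfsg.Agent.CharLib.trivIrr G : IrrCharacter G) : G → ℂ) := rfl
  -- the set X of odd-degree members of the principal block
  set X : Finset (IrrCharacter G) := Finset.univ.filter
    (fun χ => χ ∈ principalBlock M G ∧ Odd (charDegree (χ : G → ℂ))) with hX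
  -- degrees
  have hdeg : ∀ χ : IrrCharacter G, ∃ d : ℕ, (χ : G → ℂ) 1 = d :=
    fun χ => (Cfsg.Agent.CharLib.IsIrrCharacter.apply_one_pos χ.2).imp (fun d h => h.2)
  choose d hd using hdeg
  have hcd : ∀ χ : IrrCharacter G, charDegree (χ : G → ℂ) = d χ :=
    fun χ => Cfsg.Agent.CharLib.charDegree_eq_of_apply_one (hd χ)
  -- X is stable under the twist
  have hcentral : ∀ (χ : IrrCharacter G) (g : G),
      centralChar ((π χ : IrrCharacter G) : G → ℂ) g = centralChar (χ : G → ℂ) (g ^ k) := by
    intro χ g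
    unfold centralChar
    have h1 : ((π χ : IrrCharacter G) : G → ℂ) g = (χ : G → ℂ) (g ^ k) := rfl
    have h3 : ((π χ : IrrCharacter G) : G → ℂ) 1 = (χ : G → ℂ) 1 := by
      change (χ : G → ℂ) (1 ^ k) = _
      rw [one_pow]
    have hcent : Subgroup.centralizer ({g ^ k} : Set G) = Subgroup.centralizer ({g} : Set G) := by
      ext y
      simp only [Subgroup.mem_centralizer_iff, Set.mem_singleton_iff, forall_eq]
      constructor
      · intro h
        have hc : Commute (g ^ k) y := h
        have hx := Cfsg.Agent.CharLib.pow_pow_two_pow_eq_gen k hkcop hk₂' g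
        have hN : 2 ^ ((Nat.card G).factorization 2 + 1) =
            (2 ^ ((Nat.card G).factorization 2 + 1) - 1) + 1 := by
          have : 0 < 2 ^ ((Nat.card G).factorization 2 + 1) := pow_pos (by norm_num) _
          omega
        rw [hN, pow_succ', pow_mul] at hx
        have := hc.pow_left (k ^ (2 ^ ((Nat.card G).factorization 2 + 1) - 1))
        rw [hx] at this
        exact this
      · intro h
        have hc : Commute g y := h
        exact hc.pow_left k
    rw [h1, h3, hcent]
  have hXstab : ∀ χ ∈ X, π χ ∈ X := by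
    intro χ hχ
    rw [hX, Finset.mem_filter] at hχ ⊢
    refine ⟨Finset.mem_univ _, ?_, ?_⟩
    · intro g
      have h1 := hχ.2.1 (g ^ k)
      rw [hcentral]
      have h3 : centralChar (fun _ : G => (1 : ℂ)) g = centralChar (fun _ : G => (1 : ℂ)) (g ^ k) := by
        have := hcentral (Cfsg.Agent.CharLib.trivIrr G) g
        have h4 : ((π (Cfsg.Agent.CharLib.trivIrr G) : IrrCharacter G) : G → ℂ) =
            fun _ : G => (1 : ℂ) := by
          funext x
          rfl
        rw [h4] at this
        exact this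
      rw [h3]
      exact h1
    · have h3 : ((π χ : IrrCharacter G) : G → ℂ) 1 = (χ : G → ℂ) 1 := by
        change (χ : G → ℂ) (1 ^ k) = _
        rw [one_pow]
      have : charDegree ((π χ : IrrCharacter G) : G → ℂ) = charDegree (χ : G → ℂ) := by
        unfold charDegree
        rw [h3]
      rw [this]
      exact hχ.2.2
  -- orbit counting with the constant function 1
  have hA := Cfsg.Agent.CharLib.sum_sub_sum_fixed_memLocalIdeal (M := M) h2
    (fun _ : IrrCharacter G => (1 : ℂ)) ((Nat.card G).factorization 2 + 1) π X hXstab hπpow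
    (fun _ _ => Cfsg.Agent.Lib.Helper6.memLocalRing_one)
    (fun _ _ => by rw [sub_self]; exact Cfsg.Agent.Lib.Helper24.memLocalIdeal_zero hM1)
  simp only [Finset.sum_const, nsmul_eq_mul, mul_one] at hA
  -- |X| is even
  have hXev : Cfsg.MemLocalIdeal M (X.card : ℂ) := by
    have hS := Cfsg.Agent.CharLib.memLocalIdeal_sum_sq_block hM h2dvd (Cfsg.Agent.CharLib.trivIrr G)
    have hdiff : Cfsg.MemLocalIdeal M ((∑ χ : IrrCharacter G,
        if χ ∈ blockOf M ((Cfsg.Agent.CharLib.trivIrr G : IrrCharacter G) : G → ℂ) then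
          (χ : G → ℂ) 1 * (starRingEnd ℂ) ((χ : G → ℂ) 1) else 0) - (X.card : ℂ)) := by
      have hcardX : (X.card : ℂ) = ∑ χ : IrrCharacter G,
          if (χ ∈ principalBlock M G ∧ Odd (charDegree (χ : G → ℂ))) then (1 : ℂ) else 0 := by
        rw [hX, Finset.card_filter]
        push_cast
        rfl
      rw [hcardX, ← Finset.sum_sub_distrib]
      apply Cfsg.Agent.Lib.Helper24.sum_memLocalIdeal
      intro χ _
      by_cases hχB : χ ∈ principalBlock M G
      · rw [if_pos (hB ▸ hχB)]
        rw [hd χ, Complex.conj_natCast]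
        by_cases hodd : Odd (charDegree (χ : G → ℂ))
        · rw [if_pos ⟨hχB, hodd⟩]
          rw [hcd χ] at hodd
          obtain ⟨c, hc⟩ := hodd
          have : ((d χ : ℂ) * (d χ : ℂ) - 1) = ((2 * (2 * c * c + 2 * c) : ℕ) : ℂ) := by
            rw [hc]; push_cast; ring
          rw [this]
          exact Cfsg.Agent.CharLib.memLocalIdeal_natCast_of_dvd hM (Dvd.intro _ rfl)
        · rw [if_neg (fun h => hodd h.2), sub_zero]
          rw [hcd χ, Nat.not_odd_iff_even] at hodd
          obtain ⟨c, hc⟩ := hodd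
          have : ((d χ : ℂ) * (d χ : ℂ)) = ((2 * (2 * c * c) : ℕ) : ℂ) := by
            rw [hc]; push_cast; ring
          rw [this]
          exact Cfsg.Agent.CharLib.memLocalIdeal_natCast_of_dvd hM (Dvd.intro _ rfl)
      · rw [if_neg (fun h => hχB (hB ▸ h)), if_neg (fun h => hχB h.1), sub_zero]
        exact Cfsg.Agent.Lib.Helper24.memLocalIdeal_zero hM1
    have := Cfsg.Agent.Lib.Helper24.memLocalIdeal_sub hS hdiff
    rwa [sub_sub_cancel] at this
  -- hence the number of fixed points is even
  have hYev : Cfsg.MemLocalIdeal M ((X.filter (fun χ => π χ = χ)).card : ℂ) := by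
    have := Cfsg.Agent.Lib.Helper24.memLocalIdeal_sub hXev hA
    rwa [sub_sub_cancel] at this
  have hYeven : Even (X.filter (fun χ => π χ = χ)).card := by
    by_contra hne
    rw [Nat.not_even_iff_odd] at hne
    exact Cfsg.Agent.CharLib.not_memLocalIdeal_of_odd hM hne hYev
  -- identify the subtype
  rw [Nat.card_eq_fintype_card, Fintype.card_subtype]
  have hset : (Finset.univ.filter (fun χ : IrrCharacter G => χ ∈ principalBlock M G ∧
      Odd (charDegree (χ : G → ℂ)) ∧ ∀ g : G, (χ : G → ℂ) (g ^ k) = (χ : G → ℂ) g)) =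
      X.filter (fun χ => π χ = χ) := by
    ext χ
    rw [hX, Finset.mem_filter, Finset.mem_filter, Finset.mem_filter]
    have hiff : π χ = χ ↔ ∀ g : G, (χ : G → ℂ) (g ^ k) = (χ : G → ℂ) g :=
      Cfsg.Agent.CharLib.twIrr_eq_iff k hkcop χ
    rw [hiff]
    tauto
  rw [hset]
  exact hYeven

end Cfsg.Agent.S4550
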