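import Cfsg.Statements.S4551
import Mathlib
import Cfsg.Agent.Lib.Helper17.AlpDadeMain
import Cfsg.Agent.Lib.Helper26.AlpDadeL4b

set_option autoImplicit false
open Cfsg

namespace Cfsg.Agent.S4551

open Cfsg.Agent.Lib.Helper6 Cfsg.Agent.Lib.Helper17.AlpDade Cfsg.Agent.Lib.Helper12.AlpDade Cfsg.Agent.Lib.Helper26.AlpDade

universe u

theorem result' {G : Type u} [Group G] [Finite G] (p : ℕ) [Fact p.Prime] (M : Ideal Cfsg.AlgInt) (hM : Cfsg.IsPModular p M) (N : Subgroup G) [N.Normal] (hidx : ¬ p ∣ N.index) (P : Sylow p G) (hsup : N ⊔ Subgroup.centralizer ((P : Subgroup G) : Set G) = ⊤) : (∀ χ ∈ Cfsg.principalBlock M G, ∃ θ ∈ Cfsg.principalBlock M ↥N, ∀ n : N, (χ : G → ℂ) n = (θ : N → ℂ) n) ∧ ∀ θ ∈ Cfsg.principalBlock M ↥N, ∃! χ : Cfsg.IrrCharacter G, χ ∈ Cfsg.principalBlock M G ∧ ∀ n : N, (χ : G → ℂ) n = (θ : N → ℂ) n := by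
  classical
  let _ : Fintype G := Fintype.ofFinite G
  let _ : Fintype N := Fintype.ofFinite N
  constructor
  · intro χ hχ
    -- a constituent of the restriction
    have hchar : IsCharacter N (resFun N (χ : G → ℂ)) :=
      isCharacter_resFun N (Cfsg.Agent.CharLib.IsIrrCharacter.isCharacter χ.2)
    have hne : resFun N (χ : G → ℂ) ≠ 0 := by
      intro h
      have h1 := congrFun h 1
      rw [resFun_apply] at h1
      exact Cfsg.Agent.Lib.Helper24.irr_apply_one_ne_zero χ h1
    obtain ⟨ψ, hψ, hover⟩ := IsCharacter.exists_constituent hchar hne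
    have hθ : (⟨ψ, hψ⟩ : IrrCharacter N) ∈ principalBlock M N :=
      Cfsg.Agent.S4708.constituent_mem_principal N p M hM χ hχ ⟨ψ, hψ⟩ hover
    obtain ⟨χ₁, hχ₁, hχ₁eq⟩ := exists_extension_mem_principal p M hM N hidx P hsup ⟨ψ, hψ⟩ hθ
    have hext : resFun N (χ₁ : G → ℂ) = ψ := by
      funext n
      rw [resFun_apply]
      exact hχ₁eq n
    have hres := resFun_eq_of_extension p M hM N hidx P hsup ⟨ψ, hψ⟩ (χ₁ : G → ℂ) χ₁.2 hext χ hχ
      hover
    refine ⟨⟨ψ, hψ⟩, hθ, fun n => ?_⟩
    have := congrFun hres n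
    rw [resFun_apply] at this
    exact this
  · intro θ hθ
    obtain ⟨χ, hχ, hχeq⟩ := exists_extension_mem_principal p M hM N hidx P hsup θ hθ
    refine ⟨χ, ⟨hχ, hχeq⟩, ?_⟩
    rintro χ' ⟨hχ', hχ'eq⟩
    have hres : resFun N (χ : G → ℂ) = (θ : N → ℂ) := by
      funext n
      rw [resFun_apply]
      exact hχeq n
    have hres' : resFun N (χ' : G → ℂ) = (θ : N → ℂ) := by
      funext n
      rw [resFun_apply]
      exact hχ'eq n
    symm
    apply eq_of_resFun_eq p M hM N hidx P hsup χ χ' hχ hχ'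
    · rw [hres]; exact θ.2
    · rw [hres, hres']

/-- Let N be a normal subgroup of the finite group G of index prime to p, P a Sylow p-subgroup of G with G = N·C_G(P), and M a maximal ideal of the algebraic integers containing p. Then restriction to N is a bijection from the principal p-block of G onto the principal p-block of N: every member of the principal block of G restricts to a member of the principal block of N, and every member of the principal block of N is the restriction of exactly one member of the principal block of G. -/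
theorem result {G : Type*} [Group G] [Finite G] (p : ℕ) [Fact p.Prime] (M : Ideal Cfsg.AlgInt) (hM : Cfsg.IsPModular p M) (N : Subgroup G) [N.Normal] (hidx : ¬ p ∣ N.index) (P : Sylow p G) (hsup : N ⊔ Subgroup.centralizer ((P : Subgroup G) : Set G) = ⊤) : (∀ χ ∈ Cfsg.principalBlock M G, ∃ θ ∈ Cfsg.principalBlock M ↥N, ∀ n : N, (χ : G → ℂ) n = (θ : N → ℂ) n) ∧ ∀ θ ∈ Cfsg.principalBlock M ↥N, ∃! χ : Cfsg.IrrCharacter G, χ ∈ Cfsg.principalBlock M G ∧ ∀ n : N, (χ : G → ℂ) n = (θ : N → ℂ) n := by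
  exact result' p M hM N hidx P hsup

end Cfsg.Agent.S4551
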