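import Cfsg.Statements.S4553
import Mathlib
import Cfsg.Agent.Lib.Helper24.TwistDet
import Cfsg.Agent.Lib.Helper24.PrincipalCover
import Cfsg.Agent.Lib.Helper24.IrrFacts
import Cfsg.Agent.Lib.Helper23.CoprimeExt
import Cfsg.Agent.Lib.Helper6.Gallagher2
import Cfsg.Agent.Lib.Helper6.LinChar
import Cfsg.Agent.Lib.Helper6.AbelianQuot
import Cfsg.Agent.Lib.Helper12.Residual

set_option autoImplicit false
open Cfsg

namespace Cfsg.Agent.S4553

open Cfsg.Agent.CharLib Cfsg.Agent.Lib.Helper24 Cfsg.Agent.Lib.Helper6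
open scoped ComplexConjugate
universe u

section prelim

/-- the exponent `k` is prime to the group order -/
theorem coprime_of_pow_conditions {G : Type u} [Group G] [Finite G] (p : ℕ) [hp : Fact p.Prime]
    (k : ℕ) (hk₁ : ∀ g : G, (∃ j : ℕ, orderOf g = p ^ j) → g ^ k = g ^ (1 + p))
    (hk₂ : ∀ g : G, Nat.Coprime (orderOf g) p → g ^ k = g) : k.Coprime (Nat.card G) := by
  apply Nat.coprime_of_dvd
  intro q hq hqk hqG
  haveI : Fact q.Prime := ⟨hq⟩
  obtain ⟨g, hg⟩ := exists_prime_orderOf_dvd_card' q hqG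
  have hgk : g ^ k = 1 := by
    apply orderOf_dvd_iff_pow_eq_one.mp
    rw [hg]; exact hqk
  have hg1 : g ≠ 1 := by
    intro h
    rw [h, orderOf_one] at hg
    exact hq.one_lt.ne hg
  by_cases hqp : q = p
  · subst hqp
    have := hk₁ g ⟨1, by rw [hg, pow_one]⟩
    rw [hgk, pow_add, pow_one] at this
    have h2 : g ^ q = 1 := by rw [← hg]; exact pow_orderOf_eq_one g
    rw [h2, mul_one] at this
    exact hg1 this.symm
  · have hc : Nat.Coprime (orderOf g) p := by
      rw [hg]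
      exact (Nat.coprime_primes hq hp.out).mpr hqp
    have := hk₂ g hc
    rw [hgk] at this
    exact hg1 this.symm

/-- the number of characters `μ` of a cyclic group of order divisible by `p` with `μ ^ k = μ`,
when `q ^ k = q ^ (1 + p)` for all `q` -/
theorem card_fixed_hom {Q : Type u} [Group Q] [Finite Q] (hcyc : IsCyclic Q) (p : ℕ)
    [hp : Fact p.Prime] (hpQ : p ∣ Nat.card Q) (k : ℕ) (hkQ : ∀ q : Q, q ^ k = q ^ (1 + p)) :
    Nat.card {μ : Q →* ℂˣ // μ ^ k = μ} = p := by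
  classical
  have he : Nonempty ((Q →* ℂˣ) ≃* Q) := by
    letI : CommGroup Q := IsCyclic.commGroup
    have hne : NeZero ((Monoid.exponent Q : ℕ) : ℂ) :=
      ⟨by exact_mod_cast Monoid.exponent_ne_zero_of_finite⟩
    exact CommGroup.monoidHom_mulEquiv_of_hasEnoughRootsOfUnity Q ℂ
  obtain ⟨e⟩ := he
  haveI : Finite (Q →* ℂˣ) := Finite.of_equiv Q e.symm.toEquiv
  haveI : IsCyclic (Q →* ℂˣ) := isCyclic_of_surjective e.symm e.symm.surjective
  have hcard : Nat.card (Q →* ℂˣ) = Nat.card Q := Nat.card_congr e.toEquiv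
  have hiff : ∀ μ : Q →* ℂˣ, μ ^ k = μ ↔ μ ∈ (powMonoidHom p : (Q →* ℂˣ) →* (Q →* ℂˣ)).ker := by
    intro μ
    have h1 : μ ^ k = μ ^ (1 + p) := by
      ext q
      rw [MonoidHom.pow_apply, MonoidHom.pow_apply, ← map_pow, ← map_pow, hkQ]
    have h2 : μ ^ (1 + p) = μ * μ ^ p := by
      ext q
      rw [MonoidHom.mul_apply, MonoidHom.pow_apply, MonoidHom.pow_apply, pow_add, pow_one]
    rw [h1, MonoidHom.mem_ker, powMonoidHom_apply, h2]
    constructor
    · intro h
      exact mul_left_cancel (a := μ) (by rw [h, mul_one])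
    · intro h
      rw [h, mul_one]
  rw [Nat.card_congr (Equiv.subtypeEquivRight hiff)]
  have := IsCyclic.card_powMonoidHom_ker (Q →* ℂˣ) p
  rw [hcard, Nat.gcd_eq_right hpQ] at this
  exact this

end prelim

section lam
variable {G : Type u} [Group G] (N : Subgroup G) [hN : N.Normal]

/-- the linear character of `G` attached to a character of `G ⧸ N` -/
noncomputable def lam (μ : G ⧸ N →* ℂˣ) : G → ℂ := fun g => ((μ (g : G ⧸ N) : ℂˣ) : ℂ)

theorem lam_apply (μ : G ⧸ N →* ℂˣ) (g : G) : lam N μ g = ((μ (g : G ⧸ N) : ℂˣ) : ℂ) := rfl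

theorem lam_eq (μ : G ⧸ N →* ℂˣ) :
    lam N μ = fun g => (((μ.comp (QuotientGroup.mk' N)) g : ℂˣ) : ℂ) := rfl

theorem lam_isIrr (μ : G ⧸ N →* ℂˣ) : IsIrrCharacter G (lam N μ) := by
  rw [lam_eq]
  exact isIrrCharacter_of_hom _

theorem lam_isChar (μ : G ⧸ N →* ℂˣ) : IsCharacter G (lam N μ) :=
  IsIrrCharacter.isCharacter (lam_isIrr N μ)

theorem lam_one (μ : G ⧸ N →* ℂˣ) : lam N μ 1 = 1 := by
  rw [lam_apply, QuotientGroup.mk_one, map_one, Units.val_one]

theorem lam_mem (μ : G ⧸ N →* ℂˣ) {n : G} (hn : n ∈ N) : lam N μ n = 1 := by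
  rw [lam_apply, (QuotientGroup.eq_one_iff n).mpr hn, map_one, Units.val_one]

theorem lam_pow_apply (μ : G ⧸ N →* ℂˣ) (j : ℕ) (g : G) : lam N (μ ^ j) g = lam N μ (g ^ j) := by
  rw [lam_apply, lam_apply, MonoidHom.pow_apply, QuotientGroup.mk_pow, map_pow]

theorem lam_injective : Function.Injective (lam N) := by
  intro μ μ' h
  apply MonoidHom.ext
  intro q
  obtain ⟨g, rfl⟩ := QuotientGroup.mk_surjective q
  apply Units.ext
  exact congrFun h g

variable [Fintype G] [Fintype N]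

theorem lam_mem_S1 (μ : G ⧸ N →* ℂˣ) :
    lam N μ ∈ {β : G → ℂ | IsIrrCharacter G β ∧ classInner (indFun N (1 : N → ℂ)) β ≠ 0} := by
  refine ⟨lam_isIrr N μ, ?_⟩
  rw [classInner_indFun_one N (IsCharacter.isClassFunction (lam_isChar N μ))]
  have h1 : ∀ n : N, lam N μ (n : G) = 1 := fun n => lam_mem N μ n.2
  simp_rw [h1]
  rw [Finset.sum_const, Finset.card_univ, nsmul_eq_mul, mul_one, map_natCast,
    Nat.card_eq_fintype_card]
  have : (Fintype.card N : ℂ) ≠ 0 := Nat.cast_ne_zero.mpr Fintype.card_ne_zero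
  rw [inv_mul_cancel₀ this]
  exact one_ne_zero

/-- a member of `Irr(G/N)` of degree one is of the form `lam μ` -/
theorem exists_lam_eq {β : G → ℂ}
    (hβ : β ∈ {β : G → ℂ | IsIrrCharacter G β ∧ classInner (indFun N (1 : N → ℂ)) β ≠ 0})
    (h1 : β 1 = 1) : ∃ μ : G ⧸ N →* ℂˣ, lam N μ = β := by
  obtain ⟨hirr, hne⟩ := hβ
  have hc := IsIrrCharacter.isCharacter hirr
  have hmul := (apply_mul_of_indFun_one_ne_zero N hirr hne).2
  set f := linCharUnitsHom hc h1 with hf
  have hker : N ≤ f.ker := by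
    intro n hn
    rw [MonoidHom.mem_ker]
    apply Units.ext
    rw [hf, linCharUnitsHom_apply, Units.val_one]
    have := hmul ⟨n, hn⟩ 1
    rw [mul_one] at this
    rw [this, h1]
  refine ⟨QuotientGroup.lift N f hker, ?_⟩
  funext g
  rw [lam_apply, QuotientGroup.lift_mk]
  rfl

end lam

section fiber
variable {G : Type u} [Group G] [Fintype G] (N : Subgroup G) [hN : N.Normal] [Fintype N]
variable {χh : G → ℂ} (hχh : IsIrrCharacter G χh) (hθ : IsIrrCharacter N (resFun N χh))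

/-- the twist of the fixed extension by a character of `G ⧸ N` -/
noncomputable def tw (χh : G → ℂ) (μ : G ⧸ N →* ℂˣ) : G → ℂ := lam N μ * χh

omit [Fintype G] [Fintype N] in
theorem tw_apply (μ : G ⧸ N →* ℂˣ) (g : G) : tw N χh μ g = lam N μ g * χh g := rfl

include hχh in
omit [Fintype N] in
theorem tw_isIrr (μ : G ⧸ N →* ℂˣ) : IsIrrCharacter G (tw N χh μ) :=
  isIrrCharacter_linear_mul (lam_isChar N μ) (lam_one N μ) hχh

omit [Fintype G] [Fintype N] in
theorem tw_resFun (μ : G ⧸ N →* ℂˣ) : resFun N (tw N χh μ) = resFun N χh := by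
  funext n
  rw [resFun_apply, resFun_apply, tw_apply, lam_mem N μ n.2, one_mul]

include hχh hθ in
theorem tw_injective : Function.Injective (tw N χh) := by
  intro μ μ' h
  have hinj := (gallagher_bijOn N hχh hθ).injOn
  exact lam_injective N (hinj (lam_mem_S1 N μ) (lam_mem_S1 N μ') h)

include hχh hθ in
theorem exists_tw_eq {ψ : G → ℂ} (hψ : IsIrrCharacter G ψ) (hres : resFun N ψ = resFun N χh) :
    ∃ μ : G ⧸ N →* ℂˣ, tw N χh μ = ψ := by
  have hsurj := (gallagher_bijOn N hχh hθ).surjOn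
  have hψmem : ψ ∈ {ψ : G → ℂ | IsIrrCharacter G ψ ∧
      classInner (indFun N (resFun N χh)) ψ ≠ 0} := by
    refine ⟨hψ, ?_⟩
    rw [frobenius_reciprocity N _ (IsCharacter.isClassFunction (IsIrrCharacter.isCharacter hψ))]
    have : (fun h : N => ψ h) = resFun N χh := hres
    rw [this, classInner_irr hθ hθ, if_pos rfl]
    exact one_ne_zero
  obtain ⟨β, hβ, hβψ⟩ := hsurj hψmem
  have hβψ' : β * χh = ψ := hβψ
  have h1 : ψ 1 = χh 1 := by
    have := congrFun hres 1
    rw [resFun_apply, resFun_apply] at this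
    exact this
  have hχ1 : χh 1 ≠ 0 := Cfsg.Agent.Lib.Helper10.irr_one_ne_zero hχh
  have hβ1 : β 1 = 1 := by
    have := congrFun hβψ' 1
    rw [Pi.mul_apply, h1] at this
    exact mul_right_cancel₀ hχ1 (by rw [this, one_mul])
  obtain ⟨μ, hμ⟩ := exists_lam_eq N hβ hβ1
  refine ⟨μ, ?_⟩
  unfold tw
  rw [hμ, hβψ']

include hχh hθ in
theorem tw_fixed_iff (k : ℕ) (hfix : ∀ g : G, χh (g ^ k) = χh g) (μ : G ⧸ N →* ℂˣ) :
    (∀ g : G, tw N χh μ (g ^ k) = tw N χh μ g) ↔ μ ^ k = μ := by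
  constructor
  · intro h
    apply tw_injective N hχh hθ
    funext g
    rw [tw_apply, lam_pow_apply, ← hfix g, ← tw_apply, h g]
  · intro h g
    rw [tw_apply, ← lam_pow_apply, h, hfix g, tw_apply]

end fiber

theorem result' {G : Type u} [Group G] [Finite G] (p : ℕ) [Fact p.Prime] (M : Ideal Cfsg.AlgInt) (hM : Cfsg.IsPModular p M) (P : Sylow p G) (N : Subgroup G) [hN : N.Normal] (hNres : N = Cfsg.pResidual p G) (hcyc : IsCyclic (G ⧸ N)) (hnt : N ≠ ⊤) (k : ℕ) (hk₁ : ∀ g : G, (∃ j : ℕ, orderOf g = p ^ j) → g ^ k = g ^ (1 + p)) (hk₂ : ∀ g : G, Nat.Coprime (orderOf g) p → g ^ k = g) : Nat.card {χ : Cfsg.IrrCharacter G // χ ∈ Cfsg.principalBlock M G ∧ ¬ p ∣ Cfsg.charDegree (χ : G → ℂ) ∧ ∀ g : G, (χ : G → ℂ) (g ^ k) = (χ : G → ℂ) g} = p * Nat.card {θ : Cfsg.IrrCharacter ↥N // θ ∈ Cfsg.principalBlock M ↥N ∧ ¬ p ∣ Cfsg.charDegree (θ : ↥N → ℂ) ∧ (∀ x ∈ (P : Subgroup G), ∀ n : ↥N, (θ : ↥N → ℂ) ⟨x * n * x⁻¹, hN.conj_mem n n.2 x⟩ = (θ : ↥N → ℂ) n)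 ∧ ∀ n : ↥N, (θ : ↥N → ℂ) (n ^ k) = (θ : ↥N → ℂ) n} := by
  classical
  let _ : Fintype G := Fintype.ofFinite G
  have hpp : p.Prime := Fact.out
  have hkcop := coprime_of_pow_conditions p k hk₁ hk₂
  subst hNres
  let _ : Fintype (Cfsg.pResidual p G) := Fintype.ofFinite _
  obtain ⟨a, ha⟩ := Cfsg.Agent.Lib.Helper12.pResidual_index_eq_pow p G
  have hhom : ∀ φ : Cfsg.pResidual p G →* ℂˣ, (orderOf φ).Coprime p :=
    Cfsg.Agent.Lib.Helper23.coprime_orderOf_hom_pResidual
  have hreg : ∀ g : G, ¬ p ∣ orderOf g → g ∈ Cfsg.pResidual p G := by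
    intro g hg
    apply Subgroup.subset_closure
    exact ((Nat.Prime.coprime_iff_not_dvd hpp).mpr hg).symm
  have hapos : 0 < a := by
    rcases Nat.eq_zero_or_pos a with h | h
    · exfalso
      apply hnt
      rw [← Subgroup.index_eq_one, ha, h, pow_zero]
    · exact h
  have hsup : (P : Subgroup G) ⊔ Cfsg.pResidual p G = ⊤ :=
    Cfsg.Agent.Lib.Helper12.sup_pResidual_eq_top (P : Subgroup G) P.not_dvd_index
  have hdecomp : ∀ g : G, ∃ x ∈ (P : Subgroup G), ∃ n ∈ Cfsg.pResidual p G, x * n = g := by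
    intro g
    have hg : g ∈ (P : Subgroup G) ⊔ Cfsg.pResidual p G := by rw [hsup]; trivial
    exact Subgroup.mem_sup_of_normal_right.mp hg
  have hkQ : ∀ q : G ⧸ Cfsg.pResidual p G, q ^ k = q ^ (1 + p) := by
    intro q
    obtain ⟨g, rfl⟩ := QuotientGroup.mk_surjective q
    obtain ⟨x, hx, n, hn, rfl⟩ := hdecomp g
    have hq : ((x * n : G) : G ⧸ Cfsg.pResidual p G) = (x : G ⧸ Cfsg.pResidual p G) := by
      rw [QuotientGroup.mk_mul, (QuotientGroup.eq_one_iff n).mpr hn, mul_one]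
    rw [hq, ← QuotientGroup.mk_pow, ← QuotientGroup.mk_pow]
    congr 1
    apply hk₁
    obtain ⟨j, hj⟩ := (IsPGroup.iff_orderOf.mp P.isPGroup') ⟨x, hx⟩
    refine ⟨j, ?_⟩
    rw [← hj, Subgroup.orderOf_mk]
  have hpQ : p ∣ Nat.card (G ⧸ Cfsg.pResidual p G) := by
    have : Nat.card (G ⧸ Cfsg.pResidual p G) = (Cfsg.pResidual p G).index := rfl
    rw [this, ha]
    exact dvd_pow_self p hapos.ne'
  have hcardΛ := card_fixed_hom hcyc p hpQ k hkQ
  -- the restriction map
  set A := {χ : Cfsg.IrrCharacter G // χ ∈ Cfsg.principalBlock M G ∧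
    ¬ p ∣ Cfsg.charDegree (χ : G → ℂ) ∧ ∀ g : G, (χ : G → ℂ) (g ^ k) = (χ : G → ℂ) g} with hA
  set B := {θ : Cfsg.IrrCharacter ↥(Cfsg.pResidual p G) //
    θ ∈ Cfsg.principalBlock M ↥(Cfsg.pResidual p G) ∧
    ¬ p ∣ Cfsg.charDegree (θ : ↥(Cfsg.pResidual p G) → ℂ) ∧
    (∀ x ∈ (P : Subgroup G), ∀ n : ↥(Cfsg.pResidual p G),
      (θ : ↥(Cfsg.pResidual p G) → ℂ) ⟨x * n * x⁻¹, hN.conj_mem n n.2 x⟩ =
        (θ : ↥(Cfsg.pResidual p G) → ℂ) n) ∧
    ∀ n : ↥(Cfsg.pResidual p G), (θ : ↥(Cfsg.pResidual p G) → ℂ) (n ^ k) =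
      (θ : ↥(Cfsg.pResidual p G) → ℂ) n} with hB
  have hresirr : ∀ χ : A, IsIrrCharacter (Cfsg.pResidual p G)
      (resFun (Cfsg.pResidual p G) (χ.1 : G → ℂ)) := fun χ =>
    Cfsg.Agent.Lib.Helper23.isIrrCharacter_resFun_of_not_dvd (Cfsg.pResidual p G) ha hhom
      χ.1.2 χ.2.2.1
  let R : A → B := fun χ =>
    ⟨⟨resFun (Cfsg.pResidual p G) (χ.1 : G → ℂ), hresirr χ⟩, by
      refine ⟨?_, ?_, ?_, ?_⟩
      · apply mem_principalBlock_of_over (Cfsg.pResidual p G) hM χ.1 _ _ χ.2.1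
        have : (fun n : Cfsg.pResidual p G => (χ.1 : G → ℂ) n) =
            resFun (Cfsg.pResidual p G) (χ.1 : G → ℂ) := rfl
        rw [this, classInner_irr (hresirr χ) (hresirr χ), if_pos rfl]
        exact one_ne_zero
      · exact χ.2.2.1
      · intro x _ n
        exact irr_conj χ.1 (n : G) x
      · intro n
        exact χ.2.2.2 (n : G)⟩
  have hfiber : ∀ b : B, Nat.card {χ : A // R χ = b} = p := by
    intro b
    obtain ⟨⟨θ, hθirr⟩, hbB, hbdeg, hbP, hbk⟩ := b
    set θI : Cfsg.IrrCharacter ↥(Cfsg.pResidual p G) := ⟨θ, hθirr⟩ with hθI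
    change ¬ p ∣ Cfsg.charDegree θ at hbdeg
    change ∀ x ∈ (P : Subgroup G), ∀ n : ↥(Cfsg.pResidual p G),
      θ ⟨x * n * x⁻¹, hN.conj_mem n n.2 x⟩ = θ n at hbP
    change ∀ n : ↥(Cfsg.pResidual p G), θ (n ^ k) = θ n at hbk
    have hinv : ∀ g : G, Cfsg.Agent.Lib.Helper6.conjFun (Cfsg.pResidual p G) g θ = θ := by
      intro g
      obtain ⟨x, hx, n, hn, rfl⟩ := hdecomp g
      funext m
      rw [conjFun_apply]
      have h1 := hbP x hx ⟨n * m * n⁻¹, hN.conj_mem m m.2 n⟩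
      have h2 : θ ⟨n * m * n⁻¹, hN.conj_mem m m.2 n⟩ = θ m := by
        have h3 : θ (⟨n, hn⟩ * m * ⟨n, hn⟩⁻¹) = θ m := irr_conj θI m ⟨n, hn⟩
        rw [← h3]
        exact congrArg θ (Subtype.ext (by simp))
      refine Eq.trans ?_ (h1.trans h2)
      exact congrArg θ (Subtype.ext (by simp only []; group))
    have hd : θ 1 = (Cfsg.charDegree θ : ℂ) := irr_apply_one θI
    obtain ⟨χh, hχh, hχhN, hdet⟩ :=
      Cfsg.Agent.Lib.Helper23.exists_canonical_extension (Cfsg.pResidual p G) ha hhom hθirr hinv hd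
        hbdeg
    have hθ : IsIrrCharacter (Cfsg.pResidual p G) (resFun (Cfsg.pResidual p G) χh) := by
      rw [hχhN]; exact hθirr
    have hχh1 : χh 1 = (Cfsg.charDegree θ : ℂ) := by
      have := congrFun hχhN 1
      rw [resFun_apply] at this
      rw [← hd, ← this]
      rfl
    have hfix : ∀ g : G, χh (g ^ k) = χh g := by
      have hres : resFun (Cfsg.pResidual p G) (fun g => χh (g ^ k)) =
          resFun (Cfsg.pResidual p G) χh := by
        funext n
        rw [resFun_apply, resFun_apply]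
        have h1 := congrFun hχhN (n ^ k)
        have h2 := congrFun hχhN n
        rw [resFun_apply] at h1 h2
        rw [h2, ← hbk n, ← h1]
        rfl
      have := Cfsg.Agent.Lib.Helper23.canonical_extension_unique (Cfsg.pResidual p G) ha hhom hχh
        (Cfsg.Agent.Lib.Helper23.isIrrCharacter_comp_pow hχh k hkcop) hres hθ hχh1 hbdeg hdet
        (coprime_detOrder_comp_pow (IsIrrCharacter.isCharacter hχh) k hkcop hdet)
      exact fun g => congrFun this g
    have htwN : ∀ μ : G ⧸ Cfsg.pResidual p G →* ℂˣ,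
        resFun (Cfsg.pResidual p G) (tw (Cfsg.pResidual p G) χh μ) = θ := fun μ =>
      (tw_resFun (Cfsg.pResidual p G) μ).trans hχhN
    let Φ : {μ : G ⧸ Cfsg.pResidual p G →* ℂˣ // μ ^ k = μ} → {χ : A // R χ = ⟨θI, hbB, hbdeg, hbP, hbk⟩} := fun μ =>
      ⟨⟨⟨tw (Cfsg.pResidual p G) χh μ.1, tw_isIrr (Cfsg.pResidual p G) hχh μ.1⟩, by
        refine ⟨?_, ?_, ?_⟩
        · apply mem_principalBlock_of_over_of_regular_le (Cfsg.pResidual p G) hM hreg _ θI _ hbB
          have : (fun n : Cfsg.pResidual p G => tw (Cfsg.pResidual p G) χh μ.1 n) = θ := htwN μ.1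
          change classInner (fun n : Cfsg.pResidual p G => tw (Cfsg.pResidual p G) χh μ.1 n) θ ≠ 0
          rw [this, classInner_irr hθirr hθirr, if_pos rfl]
          exact one_ne_zero
        · have h1 : tw (Cfsg.pResidual p G) χh μ.1 1 = (Cfsg.charDegree θ : ℂ) := by
            rw [tw_apply, lam_one, one_mul, hχh1]
          have h2 : Cfsg.charDegree (tw (Cfsg.pResidual p G) χh μ.1) = Cfsg.charDegree θ := by
            unfold Cfsg.charDegree
            rw [h1, ← hd]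
          change ¬ p ∣ Cfsg.charDegree (tw (Cfsg.pResidual p G) χh μ.1)
          rw [h2]
          exact hbdeg
        · exact (tw_fixed_iff (Cfsg.pResidual p G) hχh hθ k hfix μ.1).mpr μ.2⟩, by
        apply Subtype.ext
        apply Subtype.ext
        exact htwN μ.1⟩
    have hΦinj : Function.Injective Φ := by
      intro μ μ' h
      apply Subtype.ext
      apply tw_injective (Cfsg.pResidual p G) hχh hθ
      have := congrArg (fun c : {χ : A // R χ = ⟨θI, hbB, hbdeg, hbP, hbk⟩} => (c.1.1 : G → ℂ)) h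
      exact this
    have hΦsurj : Function.Surjective Φ := by
      intro c
      have hres : resFun (Cfsg.pResidual p G) (c.1.1 : G → ℂ) =
          resFun (Cfsg.pResidual p G) χh := by
        have := congrArg (fun t : B => (t.1 : Cfsg.pResidual p G → ℂ)) c.2
        rw [hχhN]
        exact this
      obtain ⟨μ, hμ⟩ := exists_tw_eq (Cfsg.pResidual p G) hχh hθ c.1.1.2 hres
      have hμk : μ ^ k = μ := by
        apply (tw_fixed_iff (Cfsg.pResidual p G) hχh hθ k hfix μ).mp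
        intro g
        rw [hμ]
        exact c.1.2.2.2 g
      refine ⟨⟨μ, hμk⟩, ?_⟩
      apply Subtype.ext
      apply Subtype.ext
      apply Subtype.ext
      exact hμ
    exact (Nat.card_congr (Equiv.ofBijective Φ ⟨hΦinj, hΦsurj⟩)).symm.trans hcardΛ
  let _ : Fintype B := Fintype.ofFinite B
  rw [Nat.card_congr (Equiv.sigmaFiberEquiv R).symm, Nat.card_sigma]
  simp_rw [hfiber]
  rw [Finset.sum_const, Finset.card_univ, smul_eq_mul, Nat.card_eq_fintype_card, mul_comm]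

/-- Let G be a finite group, p a prime, P a Sylow p-subgroup, N the p-residual of G (the subgroup generated by the elements of order prime to p, the smallest normal subgroup with G/N a p-group), and M a maximal ideal of the algebraic integers containing p; suppose G/N is cyclic and nontrivial. Let k be a natural number with g ^ k = g ^ (1 + p) for every p-element g and g ^ k = g for every element g of order prime to p (so that χ (g ^ k) is the image of χ g under the field automorphism that raises p-power roots of unity to the power 1 + p and fixes the roots of unity of order prime to p). Then the number of members χ of the principal block of G of degree prime to p with χ (g ^ k) = χ g for all g equals p times the number of members θ of the principal block of N of degree prime to p that are invariant under conjugation by P and satisfy θ (n ^ k) = θ n for all n. -/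
theorem result {G : Type*} [Group G] [Finite G] (p : ℕ) [Fact p.Prime] (M : Ideal Cfsg.AlgInt) (hM : Cfsg.IsPModular p M) (P : Sylow p G) (N : Subgroup G) [hN : N.Normal] (hNres : N = Cfsg.pResidual p G) (hcyc : IsCyclic (G ⧸ N)) (hnt : N ≠ ⊤) (k : ℕ) (hk₁ : ∀ g : G, (∃ j : ℕ, orderOf g = p ^ j) → g ^ k = g ^ (1 + p)) (hk₂ : ∀ g : G, Nat.Coprime (orderOf g) p → g ^ k = g) : Nat.card {χ : Cfsg.IrrCharacter G // χ ∈ Cfsg.principalBlock M G ∧ ¬ p ∣ Cfsg.charDegree (χ : G → ℂ) ∧ ∀ g : G, (χ : G → ℂ) (g ^ k) = (χ : G → ℂ) g} = p * Nat.card {θ : Cfsg.IrrCharacter ↥N // θ ∈ Cfsg.principalBlock M ↥N ∧ ¬ p ∣ Cfsg.charDegree (θ : ↥N → ℂ) ∧ (∀ x ∈ (P : Subgroup G), ∀ n : ↥N, (θ : ↥N → ℂ) ⟨x * n * x⁻¹, hN.conj_mem n n.2 x⟩ = (θ : ↥N → ℂ) n) ∧ ∀ n : ↥N, (θ : ↥N → ℂ) (n ^ k) = (θ : ↥N → ℂ) n} := by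
  exact result' p M hM P N hNres hcyc hnt k hk₁ hk₂

end Cfsg.Agent.S4553
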