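import Cfsg.Statements.S4558
import Mathlib

set_option autoImplicit false
open Cfsg

namespace Cfsg.Agent.S4558

open Polynomial in
theorem sum_roots_unity_zero (p : ℕ) [hp : Fact p.Prime] (j : ℕ) (s : Multiset ℂ)
    (hs : ∀ μ ∈ s, μ ^ (p ^ j) = 1) (hsum : s.sum = 0) : p ∣ Multiset.card s := by
  classical
  rcases Nat.eq_zero_or_pos j with rfl | hj
  · have h1 : s = Multiset.replicate (Multiset.card s) 1 :=
      Multiset.eq_replicate.mpr ⟨rfl, fun μ hμ => by simpa using hs μ hμ⟩
    rw [h1, Multiset.sum_replicate] at hsum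
    simp at hsum
    rw [hsum]; exact dvd_zero _
  · obtain ⟨k, rfl⟩ : ∃ k, j = k + 1 := ⟨j - 1, by omega⟩
    have hn : 0 < p ^ (k + 1) := pow_pos hp.out.pos _
    have hn' : p ^ (k + 1) ≠ 0 := hn.ne'
    set ζ : ℂ := Complex.exp (2 * Real.pi * Complex.I / ((p ^ (k + 1) : ℕ) : ℂ)) with hζdef
    have hζ : IsPrimitiveRoot ζ (p ^ (k + 1)) := Complex.isPrimitiveRoot_exp _ hn'
    have hex : ∀ μ : ℂ, ∃ i : ℕ, μ ^ (p ^ (k + 1)) = 1 → ζ ^ i = μ := by
      intro μ
      by_cases h : μ ^ (p ^ (k + 1)) = 1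
      · obtain ⟨i, _, hi⟩ := hζ.eq_pow_of_pow_eq_one h
        exact ⟨i, fun _ => hi⟩
      · exact ⟨0, fun h' => absurd h' h⟩
    choose a ha using hex
    set f : ℤ[X] := (s.map (fun μ => (X : ℤ[X]) ^ (a μ))).sum with hf
    have h1 : aeval ζ f = 0 := by
      rw [hf, map_multiset_sum, Multiset.map_map]
      rw [← hsum]
      congr 1
      conv_rhs => rw [← Multiset.map_id s]
      apply Multiset.map_congr rfl
      intro μ hμ
      simp [ha μ (hs μ hμ)]
    have h2 : f.eval 1 = (Multiset.card s : ℤ) := by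
      have : f.eval 1 = (evalRingHom (1 : ℤ)) f := rfl
      rw [this, hf, map_multiset_sum, Multiset.map_map]
      simp
    have h3 : cyclotomic (p ^ (k + 1)) ℤ ∣ f := by
      rw [cyclotomic_eq_minpoly hζ hn]
      exact minpoly.isIntegrallyClosed_dvd (hζ.isIntegral hn) h1
    have h4 : (cyclotomic (p ^ (k + 1)) ℤ).eval 1 ∣ f.eval 1 := eval_dvd h3
    rw [eval_one_cyclotomic_prime_pow, h2] at h4
    exact_mod_cast h4

theorem roots_charpoly_pow {V : Type*} [AddCommGroup V] [Module ℂ V] [Module.Finite ℂ V]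
    (A : Module.End ℂ V) (m : ℕ) (hA : A ^ m = 1) :
    (∀ μ ∈ A.charpoly.roots, μ ^ m = 1) ∧ Multiset.card A.charpoly.roots = Module.finrank ℂ V ∧
    LinearMap.trace ℂ V A = A.charpoly.roots.sum := by
  have hsplit : A.charpoly.Splits := IsAlgClosed.splits _
  refine ⟨?_, ?_, ?_⟩
  · intro μ hμ
    have hroot : A.charpoly.IsRoot μ := (Polynomial.mem_roots'.mp hμ).2
    have hev : A.HasEigenvalue μ := (Module.End.hasEigenvalue_iff_isRoot_charpoly A μ).mpr hroot
    obtain ⟨v, hv⟩ := hev.exists_hasEigenvector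
    have h1 := hv.pow_apply m
    rw [hA] at h1
    have h2 : (1 - μ ^ m) • v = 0 := by
      rw [sub_smul, one_smul, ← h1]; simp
    rcases smul_eq_zero.mp h2 with h | h
    · exact (sub_eq_zero.mp h).symm
    · exact absurd h hv.2
  · rw [← hsplit.natDegree_eq_card_roots, LinearMap.charpoly_natDegree]
  · exact Module.End.trace_eq_sum_roots_charpoly_of_splits hsplit

/-- Let χ be a character of the finite group G and g an element of p-power order for the prime p. If χ g = 0, then p divides the degree of χ. -/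
theorem result {G : Type*} [Group G] [Finite G] (p : ℕ) [Fact p.Prime] (χ : G → ℂ) (hχ : Cfsg.IsCharacter G χ) (g : G) (hg : ∃ j : ℕ, orderOf g = p ^ j) (h0 : χ g = 0) : p ∣ Cfsg.charDegree χ := by
  obtain ⟨n, ρ, rfl⟩ := hχ
  obtain ⟨j, hj⟩ := hg
  have hA : (ρ g) ^ (p ^ j) = 1 := by
    rw [← map_pow, ← hj, pow_orderOf_eq_one, map_one]
  obtain ⟨h1, h2, h3⟩ := roots_charpoly_pow (ρ g) (p ^ j) hA
  have hdeg : Cfsg.charDegree ρ.character = n := by
    unfold Cfsg.charDegree
    rw [Representation.char_one]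
    simp
  rw [hdeg]
  have h4 : (ρ g).charpoly.roots.sum = 0 := by
    rw [← h3]; exact h0
  have := sum_roots_unity_zero p j _ h1 h4
  rw [h2] at this
  simpa using this

end Cfsg.Agent.S4558
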