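import Cfsg.Statements.S4560
import Mathlib
import Cfsg.Agent.Lib.Helper2.PermSqF

set_option autoImplicit false
open Cfsg

namespace Cfsg.Agent.S4560

open Cfsg.Agent.Lib.Helper2.PermSq Cfsg.Agent.CharLib MulAction Equiv

/-- packaging for `thetaS` -/
theorem packS {n : ℕ} (hn : 6 ≤ n) : ∃ χ : Cfsg.IrrCharacter (alternatingGroup (Fin n)),
    (χ : alternatingGroup (Fin n) → ℂ) = thetaS (Fin n) ∧
    ∃ ψ : Cfsg.IrrCharacter (Equiv.Perm (Fin n)), ∀ x : alternatingGroup (Fin n),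
      (ψ : Equiv.Perm (Fin n) → ℂ) x = (χ : alternatingGroup (Fin n) → ℂ) x := by
  have h4 : 4 ≤ Fintype.card (Fin n) := by simp; omega
  have := alt_four_trans hn
  exact ⟨⟨thetaS (Fin n), thetaS_irr (Fin n) h4⟩, rfl, ⟨thetaS (Fin n), thetaS_irr (Fin n) h4⟩,
    fun x => thetaS_alt x⟩

theorem packL {n : ℕ} (hn : 6 ≤ n) : ∃ χ : Cfsg.IrrCharacter (alternatingGroup (Fin n)),
    (χ : alternatingGroup (Fin n) → ℂ) = thetaL (Fin n) ∧
    ∃ ψ : Cfsg.IrrCharacter (Equiv.Perm (Fin n)), ∀ x : alternatingGroup (Fin n),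
      (ψ : Equiv.Perm (Fin n) → ℂ) x = (χ : alternatingGroup (Fin n) → ℂ) x := by
  have h4 : 4 ≤ Fintype.card (Fin n) := by simp; omega
  have := alt_four_trans hn
  exact ⟨⟨thetaL (Fin n), thetaL_irr (Fin n) h4⟩, rfl, ⟨thetaL (Fin n), thetaL_irr (Fin n) h4⟩,
    fun x => thetaL_alt x⟩

/-- the standard character `π - 1` -/
theorem packP {n : ℕ} (hn : 6 ≤ n) : ∃ χ : Cfsg.IrrCharacter (alternatingGroup (Fin n)),
    (χ : alternatingGroup (Fin n) → ℂ) = (fun g => chA (Fin n) g - 1) ∧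
    ∃ ψ : Cfsg.IrrCharacter (Equiv.Perm (Fin n)), ∀ x : alternatingGroup (Fin n),
      (ψ : Equiv.Perm (Fin n) → ℂ) x = (χ : alternatingGroup (Fin n) → ℂ) x := by
  have h4 : 4 ≤ Fintype.card (Fin n) := by simp; omega
  have hA4 := alt_four_trans hn
  have hA2 : IsMultiplyPretransitive (alternatingGroup (Fin n)) (Fin n) 2 :=
    trans_le (Fin n) h4 (by norm_num)
  have hA1 : IsMultiplyPretransitive (alternatingGroup (Fin n)) (Fin n) 1 :=
    trans_le (Fin n) h4 (by norm_num)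
  have hS2 : IsMultiplyPretransitive (Equiv.Perm (Fin n)) (Fin n) 2 :=
    trans_le (Fin n) h4 (by norm_num)
  have hS1 : IsMultiplyPretransitive (Equiv.Perm (Fin n)) (Fin n) 1 :=
    trans_le (Fin n) h4 (by norm_num)
  have hAt : IsPretransitive (alternatingGroup (Fin n)) (Fin n) :=
    (is_one_pretransitive_iff).mp hA1
  have hSt : IsPretransitive (Equiv.Perm (Fin n)) (Fin n) :=
    (is_one_pretransitive_iff).mp hS1
  have hX : 2 ≤ Nat.card (Fin n) := by simp; omega
  have hAirr := (isIrrCharacter_card_fixedBy_sub_one_iff (G := alternatingGroup (Fin n))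
    (X := Fin n) hX).mpr hA2
  have hSirr := (isIrrCharacter_card_fixedBy_sub_one_iff (G := Equiv.Perm (Fin n))
    (X := Fin n) hX).mpr hS2
  refine ⟨⟨_, hAirr⟩, rfl, ⟨_, hSirr⟩, fun x => ?_⟩
  show (Nat.card (fixedBy (Fin n) (x : Equiv.Perm (Fin n))) : ℂ) - 1 =
    (Nat.card (fixedBy (Fin n) x) : ℂ) - 1
  rw [card_fixedBy_eq_fx, card_fixedBy_eq_fx, fx_alt]

theorem two_elt_of_dvd {G : Type*} [Group G] {x : G} {k : ℕ} (h : orderOf x ∣ 2 ^ k) :
    ∃ j : ℕ, orderOf x = 2 ^ j := by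
  obtain ⟨j, -, hj⟩ := (Nat.dvd_prime_pow Nat.prime_two).mp h
  exact ⟨j, hj⟩

theorem orderOf_dvd_of_cycleType {n : ℕ} (x : alternatingGroup (Fin n)) (L : ℕ)
    (h : ∀ b ∈ (x : Equiv.Perm (Fin n)).cycleType, b ∣ L) : orderOf x ∣ L := by
  rw [← Subgroup.orderOf_coe, ← Equiv.Perm.lcm_cycleType]
  exact Multiset.lcm_dvd.mpr h

/-- a 2-element with `n % 4` fixed points and cycles of lengths 4 and 8 only -/
theorem exists_two_elt {n : ℕ} (hn : 8 ≤ n) : ∃ x : alternatingGroup (Fin n),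
    (∃ j : ℕ, orderOf x = 2 ^ j) ∧ fx (Fin n) x = n % 4 ∧ sw (Fin n) x = 0 := by
  obtain ⟨m, r, hr, rfl⟩ : ∃ m r, r < 4 ∧ n = 4 * m + r :=
    ⟨n / 4, n % 4, Nat.mod_lt _ (by norm_num), (Nat.div_add_mod n 4).symm⟩
  have hm : 2 ≤ m := by omega
  have hmod : (4 * m + r) % 4 = r := by omega
  rcases Nat.even_or_odd m with hme | hmo
  · obtain ⟨x, hx⟩ := exists_cycleType (n := 4 * m + r) (Multiset.replicate m 4)
      (by rw [Multiset.sum_replicate]; simp; omega)
      (by intro a ha; rw [Multiset.eq_of_mem_replicate ha]; norm_num)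
      (by
        rw [Multiset.sum_replicate, Multiset.card_replicate]
        obtain ⟨k, rfl⟩ := hme
        exact ⟨5 * k, by simp; ring⟩)
    refine ⟨x, ?_, ?_, ?_⟩
    · apply two_elt_of_dvd (k := 3)
      apply orderOf_dvd_of_cycleType
      intro b hb
      rw [hx] at hb
      rw [Multiset.eq_of_mem_replicate hb]
      norm_num
    · rw [fx_alt, fx_perm, hx, Multiset.sum_replicate, hmod]
      simp
      omega
    · rw [sw_alt]
      apply sw_eq_zero_of_two_not_mem
      rw [hx]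
      intro h2
      have := Multiset.eq_of_mem_replicate h2
      norm_num at this
  · obtain ⟨x, hx⟩ := exists_cycleType (n := 4 * m + r) (8 ::ₘ Multiset.replicate (m - 2) 4)
      (by rw [Multiset.sum_cons, Multiset.sum_replicate]; simp; omega)
      (by
        intro a ha
        rw [Multiset.mem_cons] at ha
        rcases ha with rfl | ha
        · norm_num
        · rw [Multiset.eq_of_mem_replicate ha]; norm_num)
      (by
        rw [Multiset.sum_cons, Multiset.sum_replicate, Multiset.card_cons, Multiset.card_replicate]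
        obtain ⟨k, rfl⟩ := hmo
        have hk : 1 ≤ k := by omega
        refine ⟨5 * k + 2, ?_⟩
        simp
        omega)
    refine ⟨x, ?_, ?_, ?_⟩
    · apply two_elt_of_dvd (k := 3)
      apply orderOf_dvd_of_cycleType
      intro b hb
      rw [hx, Multiset.mem_cons] at hb
      rcases hb with rfl | hb
      · norm_num
      · rw [Multiset.eq_of_mem_replicate hb]
        norm_num
    · rw [fx_alt, fx_perm, hx, Multiset.sum_cons, Multiset.sum_replicate, hmod]
      simp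
      omega
    · rw [sw_alt]
      apply sw_eq_zero_of_two_not_mem
      rw [hx, Multiset.mem_cons]
      rintro (h2 | h2)
      · norm_num at h2
      · have := Multiset.eq_of_mem_replicate h2
        norm_num at this

/-- an element of order 3 with `n % 3` fixed points -/
theorem exists_three_elt {n : ℕ} (hn : 3 ≤ n) : ∃ x : alternatingGroup (Fin n),
    orderOf x = 3 ∧ fx (Fin n) x = n % 3 ∧ sw (Fin n) x = 0 := by
  obtain ⟨m, r, hr, rfl⟩ : ∃ m r, r < 3 ∧ n = 3 * m + r :=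
    ⟨n / 3, n % 3, Nat.mod_lt _ (by norm_num), (Nat.div_add_mod n 3).symm⟩
  have hm : 1 ≤ m := by omega
  have hmod : (3 * m + r) % 3 = r := by omega
  obtain ⟨x, hx⟩ := exists_cycleType (n := 3 * m + r) (Multiset.replicate m 3)
    (by rw [Multiset.sum_replicate]; simp; omega)
    (by intro a ha; rw [Multiset.eq_of_mem_replicate ha]; norm_num)
    (by
      rw [Multiset.sum_replicate, Multiset.card_replicate]
      exact ⟨2 * m, by simp; ring⟩)
  refine ⟨x, ?_, ?_, ?_⟩
  · have hdvd : orderOf x ∣ 3 := by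
      apply orderOf_dvd_of_cycleType
      intro b hb
      rw [hx] at hb
      rw [Multiset.eq_of_mem_replicate hb]
    rcases (Nat.dvd_prime Nat.prime_three).mp hdvd with h1 | h3
    · exfalso
      rw [orderOf_eq_one_iff] at h1
      have hx1 : (x : Equiv.Perm (Fin (3 * m + r))) = 1 := by rw [h1]; rfl
      rw [← Equiv.Perm.cycleType_eq_zero, hx] at hx1
      have := congrArg Multiset.card hx1
      rw [Multiset.card_replicate, Multiset.card_zero] at this
      omega
    · exact h3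
  · rw [fx_alt, fx_perm, hx, Multiset.sum_replicate, hmod]
    simp
    omega
  · rw [sw_alt]
    apply sw_eq_zero_of_two_not_mem
    rw [hx]
    intro h2
    have := Multiset.eq_of_mem_replicate h2
    norm_num at this

/-- in degree 7: a 2-element with exactly one fixed point -/
theorem exists_two_elt_seven : ∃ x : alternatingGroup (Fin 7),
    (∃ j : ℕ, orderOf x = 2 ^ j) ∧ fx (Fin 7) x = 1 := by
  obtain ⟨x, hx⟩ := exists_cycleType (n := 7) ({4, 2} : Multiset ℕ)
    (by decide) (by decide) (by decide)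
  refine ⟨x, ?_, ?_⟩
  · apply two_elt_of_dvd (k := 2)
    apply orderOf_dvd_of_cycleType
    rw [hx]
    decide
  · rw [fx_alt, fx_perm, hx]
    decide

/-- For n ≥ 7 the alternating group on n letters has an irreducible character that vanishes at some 2-element and is the restriction of an irreducible character of the symmetric group, and an irreducible character that vanishes at some element of order 3 and is the restriction of an irreducible character of the symmetric group. -/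
theorem result (n : ℕ) (hn : 7 ≤ n) : (∃ χ : Cfsg.IrrCharacter (alternatingGroup (Fin n)), (∃ x : alternatingGroup (Fin n), (∃ j : ℕ, orderOf x = 2 ^ j) ∧ (χ : alternatingGroup (Fin n) → ℂ) x = 0) ∧ ∃ ψ : Cfsg.IrrCharacter (Equiv.Perm (Fin n)), ∀ x : alternatingGroup (Fin n), (ψ : Equiv.Perm (Fin n) → ℂ) x = (χ : alternatingGroup (Fin n) → ℂ) x) ∧ (∃ χ : Cfsg.IrrCharacter (alternatingGroup (Fin n)), (∃ y : alternatingGroup (Fin n), orderOf y = 3 ∧ (χ : alternatingGroup (Fin n) → ℂ) y = 0) ∧ ∃ ψ : Cfsg.IrrCharacter (Equiv.Perm (Fin n)), ∀ x : alternatingGroup (Fin n), (ψ : Equiv.Perm (Fin n) → ℂ) x = (χ : alternatingGroup (Fin n) → ℂ) x) := by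
  have hn6 : 6 ≤ n := by omega
  constructor
  · -- the 2-element
    rcases Nat.lt_or_ge n 8 with h7 | h8
    · have h7' : n = 7 := by omega
      subst h7'
      obtain ⟨χ, hχ, ψ, hψ⟩ := packP (n := 7) hn6
      obtain ⟨x, hx2, hxf⟩ := exists_two_elt_seven
      refine ⟨χ, ⟨x, hx2, ?_⟩, ψ, hψ⟩
      rw [hχ]
      show chA (Fin 7) x - 1 = 0
      rw [chA_eq, hxf]
      simp
    · obtain ⟨x, hx2, hxf, hxs⟩ := exists_two_elt h8
      have hr : n % 4 < 4 := Nat.mod_lt _ (by norm_num)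
      have hcases : n % 4 = 0 ∨ n % 4 = 3 ∨ n % 4 = 1 ∨ n % 4 = 2 := by omega
      rcases hcases with h | h | h | h
      · obtain ⟨χ, hχ, ψ, hψ⟩ := packS hn6
        refine ⟨χ, ⟨x, hx2, ?_⟩, ψ, hψ⟩
        rw [hχ, thetaS_eq, hxf, hxs, h]
        simp
      · obtain ⟨χ, hχ, ψ, hψ⟩ := packS hn6
        refine ⟨χ, ⟨x, hx2, ?_⟩, ψ, hψ⟩
        rw [hχ, thetaS_eq, hxf, hxs, h]
        simp
      · obtain ⟨χ, hχ, ψ, hψ⟩ := packL hn6
        refine ⟨χ, ⟨x, hx2, ?_⟩, ψ, hψ⟩
        rw [hχ, thetaL_eq, hxf, hxs, h]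
        simp
      · obtain ⟨χ, hχ, ψ, hψ⟩ := packL hn6
        refine ⟨χ, ⟨x, hx2, ?_⟩, ψ, hψ⟩
        rw [hχ, thetaL_eq, hxf, hxs, h]
        norm_num
  · obtain ⟨x, hx3, hxf, hxs⟩ := exists_three_elt (n := n) (by omega)
    have hcases : n % 3 = 0 ∨ n % 3 = 1 ∨ n % 3 = 2 := by omega
    rcases hcases with h | h | h
    · obtain ⟨χ, hχ, ψ, hψ⟩ := packS hn6
      refine ⟨χ, ⟨x, hx3, ?_⟩, ψ, hψ⟩
      rw [hχ, thetaS_eq, hxf, hxs, h]
      simp
    · obtain ⟨χ, hχ, ψ, hψ⟩ := packL hn6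
      refine ⟨χ, ⟨x, hx3, ?_⟩, ψ, hψ⟩
      rw [hχ, thetaL_eq, hxf, hxs, h]
      simp
    · obtain ⟨χ, hχ, ψ, hψ⟩ := packL hn6
      refine ⟨χ, ⟨x, hx3, ?_⟩, ψ, hψ⟩
      rw [hχ, thetaL_eq, hxf, hxs, h]
      norm_num

end Cfsg.Agent.S4560
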