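import Cfsg.Statements.S4565


import Mathlib
import Cfsg.Agent.Lib.Helper6.CTripleE
import Cfsg.Agent.Lib.Helper6.FullyRamA

set_option autoImplicit false
open Cfsg

namespace Cfsg.Agent.S4565

open Cfsg.Agent.CharLib Cfsg.Agent.Lib.Helper24 Cfsg.Agent.Lib.Helper6
  Cfsg.Agent.Lib.Helper6.CTriple Cfsg.Agent.Lib.Helper6.FullyRam

universe u

theorem aux {H : Type u} [Group H] [Finite H] (Z : Subgroup H) [hZn : Z.Normal] (χ : Cfsg.IrrCharacter H) (hfr : ∃ (θ : Cfsg.IrrCharacter ↥Z) (e : ℕ), e ^ 2 = Z.index ∧ ∀ z : ↥Z, (χ : H → ℂ) z = (e : ℂ) * (θ : ↥Z → ℂ) z) (hZ : Z ≠ ⊤) (C : Subgroup (H ⧸ Z)) (hC : IsCyclic C) : Subgroup.centralizer (C : Set (H ⧸ Z)) ≠ C := by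
  classical
  obtain ⟨θ, e, he, hχθ⟩ := hfr
  letI : Fintype Z := Fintype.ofFinite Z
  have hidx : Z.index ≠ 0 := Subgroup.index_ne_zero_of_finite
  have he0 : e ≠ 0 := by
    rintro rfl
    exact hidx (by rw [← he]; rfl)
  have heC : (e : ℂ) ≠ 0 := Nat.cast_ne_zero.mpr he0
  have hχcf : IsClassFunction H (χ : H → ℂ) :=
    IsCharacter.isClassFunction (IsIrrCharacter.isCharacter χ.2)
  have hinv : ∀ (g : H) (n : Z), (θ : Z → ℂ) ⟨g * n * g⁻¹, hZn.conj_mem n n.2 g⟩ =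
      (θ : Z → ℂ) n := by
    intro g n
    have h1 := hχθ ⟨g * n * g⁻¹, hZn.conj_mem n n.2 g⟩
    have h2 := hχθ n
    have h3 : (χ : H → ℂ) (g * (n : H) * g⁻¹) = (χ : H → ℂ) (n : H) := hχcf (n : H) g
    change (χ : H → ℂ) (g * (n : H) * g⁻¹) = _ at h1
    rw [h3, h2] at h1
    exact (mul_left_cancel₀ heC h1).symm
  have hover : classInner (fun n : Z => (χ : H → ℂ) n) (θ : Z → ℂ) ≠ 0 := by
    have h1 : (fun n : Z => (χ : H → ℂ) n) = (e : ℂ) • (θ : Z → ℂ) := by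
      funext n
      rw [hχθ n, Pi.smul_apply, smul_eq_mul]
    rw [h1, classInner_smul_left, classInner_irr θ.2 θ.2, if_pos rfl, mul_one]
    exact heC
  obtain ⟨Eb, hEg, hEf, φ, β, hφ, hφc, hdeg⟩ := exists_projective_correspondent Z θ hinv χ hover
  have hθ0 : charDegree (θ : Z → ℂ) ≠ 0 := by
    intro h0
    have := irr_apply_one_ne_zero θ
    rw [irr_apply_one θ, h0] at this
    exact this (by simp)
  have hdegχ : charDegree (χ : H → ℂ) = e * charDegree (θ : Z → ℂ) := by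
    have h1 := hχθ 1
    rw [Subgroup.coe_one, irr_apply_one χ, irr_apply_one θ] at h1
    exact_mod_cast h1
  have hβe : charDegree (β : Eb → ℂ) = e := by
    rw [hdegχ] at hdeg
    exact (Nat.eq_of_mul_eq_mul_right (Nat.pos_of_ne_zero hθ0) hdeg).symm
  have hβ2 : (charDegree (β : Eb → ℂ)) ^ 2 = Nat.card (H ⧸ Z) := by
    rw [hβe, he, Subgroup.index_eq_card]
  have hQ : ∃ q : H ⧸ Z, q ≠ 1 := by
    have : ∃ h : H, h ∉ Z := by
      by_contra hcon
      push_neg at hcon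
      exact hZ (Subgroup.eq_top_iff' Z |>.mpr hcon)
    obtain ⟨h, hh⟩ := this
    refine ⟨(h : H ⧸ Z), ?_⟩
    rw [Ne, QuotientGroup.eq_one_iff]
    exact hh
  exact centralizer_ne_of_central_type φ hφ hφc β hβ2 hQ C hC

/-- Let χ be an irreducible character of the finite group H that is fully ramified over the normal subgroup Z: the restriction of χ to Z is e times an irreducible character of Z with e ^ 2 equal to the index of Z. If Z ≠ H, then H/Z has no cyclic subgroup that is its own centralizer. -/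
theorem result {H : Type*} [Group H] [Finite H] (Z : Subgroup H) [Z.Normal] (χ : Cfsg.IrrCharacter H) (hfr : ∃ (θ : Cfsg.IrrCharacter ↥Z) (e : ℕ), e ^ 2 = Z.index ∧ ∀ z : ↥Z, (χ : H → ℂ) z = (e : ℂ) * (θ : ↥Z → ℂ) z) (hZ : Z ≠ ⊤) (C : Subgroup (H ⧸ Z)) (hC : IsCyclic C) : Subgroup.centralizer (C : Set (H ⧸ Z)) ≠ C := by
  exact aux Z χ hfr hZ C hC

end Cfsg.Agent.S4565
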