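import Cfsg.Statements.S4566
import Cfsg.Agent.Lib.Helper24.CentralElt

set_option autoImplicit false
open Cfsg

namespace Cfsg.Agent.S4566

/-- Let N be a central subgroup of the finite group G, ψ a faithful irreducible (hence degree-one) character of N, and χ an irreducible character of G whose restriction to N contains ψ. If g ∈ G and some x ∈ G has commutator x⁻¹ g⁻¹ x g in N but different from 1, then χ g = 0. -/
theorem result {G : Type*} [Group G] [Fintype G] (N : Subgroup G) [Fintype N] (hN : N ≤ Subgroup.center G) (ψ : Cfsg.IrrCharacter ↥N) (hfaith : ∀ n : ↥N, (ψ : ↥N → ℂ) n = (ψ : ↥N → ℂ) 1 → n = 1) (χ : Cfsg.IrrCharacter G) (hover : Cfsg.classInner (fun n : ↥N => (χ : G → ℂ) n) (ψ : ↥N → ℂ) ≠ 0) (g x : G) (hcomm : x⁻¹ * g⁻¹ * x * g ∈ N) (hne : x⁻¹ * g⁻¹ * x * g ≠ 1) : (χ : G → ℂ) g = 0 := by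
  classical
  obtain ⟨n, ρ, hirr, hρ⟩ := χ.2
  obtain ⟨m, σ, hσirr, hσ⟩ := ψ.2
  have := hirr
  have := hσirr
  set z := x⁻¹ * g⁻¹ * x * g with hzdef
  have hz : z ∈ Subgroup.center G := hN hcomm
  obtain ⟨c, hc⟩ := Cfsg.Agent.Lib.Helper24.exists_central_scalar ρ z hz
  have hconj : x * g * x⁻¹ = g * z := by
    have h1 : z = x * z * x⁻¹ := by
      have := (Subgroup.mem_center_iff.mp hz) x
      rw [this]; group
    calc x * g * x⁻¹ = g * (x * (x⁻¹ * g⁻¹ * x * g) * x⁻¹) := by group
      _ = g * (x * z * x⁻¹) := by rw [hzdef]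
      _ = g * z := by rw [← h1]
  have hχ : ∀ y : G, (χ : G → ℂ) y = ρ.character y := fun y => by rw [hρ]
  have hψ : ∀ y : N, (ψ : N → ℂ) y = σ.character y := fun y => by rw [hσ]
  have key1 : (χ : G → ℂ) g = c * (χ : G → ℂ) g := by
    rw [hχ]
    calc ρ.character g = ρ.character (x * g * x⁻¹) := (Representation.char_conj ρ g x).symm
      _ = ρ.character (g * z) := by rw [hconj]
      _ = c * ρ.character g := Cfsg.Agent.Lib.Helper24.char_mul_scalar ρ z c hc g
  by_cases hc1 : c = 1
  · exfalso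
    apply hne
    -- show z = 1 by faithfulness of ψ
    let z' : N := ⟨z, hcomm⟩
    have hz' : z' ∈ Subgroup.center N := by
      rw [Subgroup.mem_center_iff]
      intro y
      apply Subtype.ext
      simp only [Subgroup.coe_mul]
      exact (Subgroup.mem_center_iff.mp hz) y
    obtain ⟨d, hd⟩ := Cfsg.Agent.Lib.Helper24.exists_central_scalar σ z' hz'
    set S : ℂ := ∑ y : N, (χ : G → ℂ) y * (starRingEnd ℂ) ((ψ : N → ℂ) y) with hS
    have hS0 : S ≠ 0 := by
      intro h0
      apply hover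
      unfold Cfsg.classInner
      rw [← hS, h0, mul_zero]
    have hS2 : S = (starRingEnd ℂ) d * S := by
      rw [hS, Finset.mul_sum]
      rw [← Equiv.sum_comp (Equiv.mulRight z') (fun y : N => (χ : G → ℂ) y * (starRingEnd ℂ) ((ψ : N → ℂ) y))]
      apply Finset.sum_congr rfl
      intro y _
      simp only [Equiv.coe_mulRight]
      have e1 : (χ : G → ℂ) ((y * z' : N) : G) = (χ : G → ℂ) y := by
        rw [hχ, hχ]
        have : ((y * z' : N) : G) = (y : G) * z := rfl
        rw [this, Cfsg.Agent.Lib.Helper24.char_mul_scalar ρ z c hc, hc1, one_mul]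
      have e2 : (ψ : N → ℂ) (y * z') = d * (ψ : N → ℂ) y := by
        rw [hψ, hψ, Cfsg.Agent.Lib.Helper24.char_mul_scalar σ z' d hd]
      rw [e1, e2, map_mul]
      ring
    have hd1 : d = 1 := by
      have h3 : (1 - (starRingEnd ℂ) d) * S = 0 := by
        rw [sub_mul, one_mul, ← hS2, sub_self]
      rcases mul_eq_zero.mp h3 with h4 | h4
      · have h5 : (starRingEnd ℂ) d = 1 := (sub_eq_zero.mp h4).symm
        have := congrArg (starRingEnd ℂ) h5
        simpa using this
      · exact absurd h4 hS0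
    have h6 : (ψ : N → ℂ) z' = (ψ : N → ℂ) 1 := by
      rw [hψ, hψ, Cfsg.Agent.Lib.Helper24.char_scalar σ z' d hd, hd1, one_mul, Representation.char_one]
    have h7 := hfaith z' h6
    exact congrArg Subtype.val h7
  · have h3 : (1 - c) * (χ : G → ℂ) g = 0 := by
      rw [sub_mul, one_mul, ← key1, sub_self]
    rcases mul_eq_zero.mp h3 with h4 | h4
    · exact absurd (sub_eq_zero.mp h4).symm hc1
    · exact h4

end Cfsg.Agent.S4566
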