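import Cfsg.Statements.S4567
import Cfsg.Agent.Lib.Helper24.ClassPred
import Cfsg.Agent.Lib.Helper24.IrrFacts
import Cfsg.Agent.Lib.Helper6.CentralHom
import Cfsg.Agent.Lib.Helper6.CharNorm
import Cfsg.Agent.Lib.Helper12.Cores
import Cfsg.Agent.Lib.Lead.CharMore

set_option autoImplicit false
open Cfsg

namespace Cfsg.Agent.S4567

open Cfsg.Agent.Lib.Helper24 Cfsg.Agent.CharLib Cfsg.Agent.Lib.Helper6 Cfsg
open scoped ComplexConjugate

/-- the "special" predicate of the statement -/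
def Special {G : Type*} [Group G] (N : Subgroup G) (g : G) : Prop :=
  ∀ x : G, x⁻¹ * g⁻¹ * x * g ∈ N → x * g = g * x

section special
variable {G : Type*} [Group G] (N : Subgroup G) (hN : N ≤ Subgroup.center G)

theorem central_comm (hN : N ≤ Subgroup.center G) {n : G} (hn : n ∈ N) (x : G) : n * x = x * n :=
  ((Subgroup.mem_center_iff.mp (hN hn)) x).symm

include hN in
theorem special_mul_right {g n : G} (hn : n ∈ N) (hg : Special N g) : Special N (g * n) := by
  intro x hx
  have hc := central_comm N hN hn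
  have hc' := central_comm N hN (N.inv_mem hn)
  have h1 : x⁻¹ * (g * n)⁻¹ * x * (g * n) = x⁻¹ * g⁻¹ * x * g := by
    rw [mul_inv_rev]
    calc x⁻¹ * (n⁻¹ * g⁻¹) * x * (g * n) = x⁻¹ * (n⁻¹ * (g⁻¹ * x * g)) * n := by group
      _ = x⁻¹ * ((g⁻¹ * x * g) * n⁻¹) * n := by rw [hc' (g⁻¹ * x * g)]
      _ = x⁻¹ * g⁻¹ * x * g := by group
  rw [h1] at hx
  have h2 := hg x hx
  calc x * (g * n) = (x * g) * n := by group
    _ = (g * x) * n := by rw [h2]
    _ = g * (x * n) := by group
    _ = g * (n * x) := by rw [hc x]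
    _ = g * n * x := by group

theorem special_conj [hNn : N.Normal] {g : G} (a : G) (hg : Special N g) : Special N (a * g * a⁻¹) := by
  intro x hx
  have h1 : a⁻¹ * (x⁻¹ * (a * g * a⁻¹)⁻¹ * x * (a * g * a⁻¹)) * a⁻¹⁻¹ ∈ N := hNn.conj_mem _ hx a⁻¹
  have h2 : a⁻¹ * (x⁻¹ * (a * g * a⁻¹)⁻¹ * x * (a * g * a⁻¹)) * a⁻¹⁻¹ =
      (a⁻¹ * x * a)⁻¹ * g⁻¹ * (a⁻¹ * x * a) * g := by group
  rw [h2] at h1
  have h3 := hg _ h1
  calc x * (a * g * a⁻¹) = a * ((a⁻¹ * x * a) * g) * a⁻¹ := by group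
    _ = a * (g * (a⁻¹ * x * a)) * a⁻¹ := by rw [h3]
    _ = a * g * a⁻¹ * x := by group

include hN in
theorem special_iff (g : G) : Special N g ↔ ∀ n : N, IsConj ((n : G) * g) g → n = 1 := by
  constructor
  · intro hg n hconj
    obtain ⟨c, hc⟩ := isConj_iff.mp hconj
    have hcn := central_comm N hN n.2
    have h0 : c * ((n : G) * g) * c⁻¹ = (n : G) * (c * g * c⁻¹) := by
      calc c * ((n : G) * g) * c⁻¹ = (c * (n : G)) * g * c⁻¹ := by group
        _ = ((n : G) * c) * g * c⁻¹ := by rw [hcn c]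
        _ = (n : G) * (c * g * c⁻¹) := by group
    rw [h0] at hc
    have h1 : c * g * c⁻¹ = (n : G)⁻¹ * g := eq_inv_mul_of_mul_eq hc
    have h2 : (c⁻¹)⁻¹ * g⁻¹ * c⁻¹ * g = (n : G) := by
      calc (c⁻¹)⁻¹ * g⁻¹ * c⁻¹ * g = (c * g * c⁻¹)⁻¹ * g := by group
        _ = ((n : G)⁻¹ * g)⁻¹ * g := by rw [h1]
        _ = g⁻¹ * ((n : G) * g) := by group
        _ = g⁻¹ * (g * (n : G)) := by rw [hcn g]
        _ = (n : G) := by group
    have h3 := hg c⁻¹ (by rw [h2]; exact n.2)
    have h4 : c * g * c⁻¹ = g := by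
      rw [mul_assoc, ← h3]; group
    rw [h4] at h1
    have h5 : (n : G)⁻¹ = 1 := by
      have h6 : (n : G)⁻¹ * g = 1 * g := by rw [one_mul]; exact h1.symm
      exact mul_right_cancel h6
    apply Subtype.ext
    rw [inv_eq_one] at h5
    exact h5
  · intro h x hx
    have hm := central_comm N hN hx
    have hm1 : x * (x⁻¹ * g⁻¹ * x * g) * x⁻¹ = x⁻¹ * g⁻¹ * x * g := by
      rw [← hm x]; group
    have hm2 : g * (x⁻¹ * g⁻¹ * x * g) = x * g * x⁻¹ := by
      calc g * (x⁻¹ * g⁻¹ * x * g) = g * (x * (x⁻¹ * g⁻¹ * x * g) * x⁻¹) := by rw [hm1]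
        _ = x * g * x⁻¹ := by group
    have hconj : IsConj (((⟨x⁻¹ * g⁻¹ * x * g, hx⟩ : N) : G) * g) g := by
      rw [isConj_iff]
      refine ⟨x⁻¹, ?_⟩
      show x⁻¹ * ((x⁻¹ * g⁻¹ * x * g) * g) * x⁻¹⁻¹ = g
      rw [hm g, hm2]
      group
    have h1 := h ⟨x⁻¹ * g⁻¹ * x * g, hx⟩ hconj
    have h2 : x⁻¹ * g⁻¹ * x * g = 1 := congrArg Subtype.val h1
    calc x * g = g * x * (x⁻¹ * g⁻¹ * x * g) := by group
      _ = g * x := by rw [h2, mul_one]
end special

section chars
variable {G : Type*} [Group G] [Fintype G] (N : Subgroup G) [Fintype N]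

/-- Facts about a linear character `ψ` of a commutative group. -/
theorem psi_one (hN : N ≤ Subgroup.center G) (ψ : Cfsg.IrrCharacter ↥N) : (ψ : ↥N → ℂ) 1 = 1 := by
  have hcomm : ∀ a b : ↥N, a * b = b * a := by
    intro a b
    apply Subtype.ext
    rw [Subgroup.coe_mul, Subgroup.coe_mul]
    exact central_comm N hN a.2 b
  exact (comm_iff_forall_irr_apply_one.mp hcomm) ψ

/-- The dichotomy: projecting an irreducible character onto its `ψ`-part over a central subgroup. -/
theorem proj_irr (hN : N ≤ Subgroup.center G) (ψ : Cfsg.IrrCharacter ↥N) (χ : Cfsg.IrrCharacter G) (g : G) :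
    (Nat.card ↥N : ℂ)⁻¹ * ∑ n : ↥N, conj ((ψ : ↥N → ℂ) n) * (χ : G → ℂ) ((n : G) * g) =
      if Cfsg.classInner (fun n : ↥N => (χ : G → ℂ) n) (ψ : ↥N → ℂ) ≠ 0 then (χ : G → ℂ) g else 0 := by
  classical
  have hψ1 := psi_one N hN ψ
  have hψc : IsCharacter ↥N (ψ : ↥N → ℂ) := IsIrrCharacter.isCharacter ψ.2
  have hψmul := IsCharacter.map_mul_of_apply_one hψc hψ1
  have hψcc := IsCharacter.mul_conj_eq_one_of_apply_one hψc hψ1
  obtain ⟨c, hc, hcn⟩ := IsIrrCharacter.exists_central_hom χ.2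
  set lam : ↥N → ℂ := fun n => c ⟨(n : G), hN n.2⟩ with hlam
  have hlam_mul : ∀ a b : ↥N, lam (a * b) = lam a * lam b := by
    intro a b
    simp only [hlam]
    rw [← map_mul]
    rfl
  have hχ : ∀ (n : ↥N) (x : G), (χ : G → ℂ) ((n : G) * x) = lam n * (χ : G → ℂ) x := by
    intro n x
    exact hc ⟨(n : G), hN n.2⟩ x
  set μ : ↥N → ℂ := fun n => lam n * conj ((ψ : ↥N → ℂ) n) with hμ
  have hμmul : ∀ a b : ↥N, μ (a * b) = μ a * μ b := by
    intro a b
    simp only [hμ]
    rw [hlam_mul, hψmul, map_mul]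
    ring
  have hsum : ∑ n : ↥N, conj ((ψ : ↥N → ℂ) n) * (χ : G → ℂ) ((n : G) * g) = (∑ n : ↥N, μ n) * (χ : G → ℂ) g := by
    rw [Finset.sum_mul]
    apply Finset.sum_congr rfl
    intro n _
    rw [hχ n g]
    simp only [hμ]
    ring
  have hinner : Cfsg.classInner (fun n : ↥N => (χ : G → ℂ) n) (ψ : ↥N → ℂ) =
      (Nat.card ↥N : ℂ)⁻¹ * ((∑ n : ↥N, μ n) * (χ : G → ℂ) 1) := by
    unfold Cfsg.classInner
    congr 1
    rw [Finset.sum_mul]
    apply Finset.sum_congr rfl
    intro n _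
    have h1 : (χ : G → ℂ) (n : G) = lam n * (χ : G → ℂ) 1 := by
      have := hχ n 1
      rwa [mul_one] at this
    show (χ : G → ℂ) (n : G) * conj ((ψ : ↥N → ℂ) n) = μ n * (χ : G → ℂ) 1
    rw [h1]
    simp only [hμ]
    ring
  have hNne : (Nat.card ↥N : ℂ) ≠ 0 := by
    have : 0 < Nat.card ↥N := Nat.card_pos
    exact_mod_cast this.ne'
  rw [hsum, hinner]
  by_cases hall : ∀ n : ↥N, μ n = 1
  · have hS : ∑ n : ↥N, μ n = (Nat.card ↥N : ℂ) := by
      rw [Finset.sum_congr rfl (fun n _ => hall n), Finset.sum_const, Finset.card_univ,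
        Nat.card_eq_fintype_card]
      simp
    have hv : (Nat.card ↥N : ℂ)⁻¹ * ((Nat.card ↥N : ℂ) * (χ : G → ℂ) 1) = (χ : G → ℂ) 1 := by
      rw [← mul_assoc, inv_mul_cancel₀ hNne, one_mul]
    rw [hS, hv, if_pos (irr_apply_one_ne_zero χ), ← mul_assoc, inv_mul_cancel₀ hNne, one_mul]
  · push Not at hall
    obtain ⟨n₀, hn₀⟩ := hall
    have hS := sum_eq_zero_of_mul_of_ne_one μ hμmul n₀ hn₀
    rw [hS, zero_mul, mul_zero, zero_mul, mul_zero, if_neg (by simp)]

/-- conjugacy is preserved by multiplying with a central element -/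
theorem isConj_central_mul {z : G} (hz : z ∈ Subgroup.center G) {a b : G} (h : IsConj a b) :
    IsConj (z * a) (z * b) := by
  obtain ⟨c, hc⟩ := isConj_iff.mp h
  rw [isConj_iff]
  refine ⟨c, ?_⟩
  have hzc : z * c = c * z := (Subgroup.mem_center_iff.mp hz c).symm
  calc c * (z * a) * c⁻¹ = (c * z) * a * c⁻¹ := by group
    _ = (z * c) * a * c⁻¹ := by rw [hzc]
    _ = z * (c * a * c⁻¹) := by group
    _ = z * b := by rw [hc]

/-- The key vanishing: the `ψ`-twisted count of central translates of `g` conjugate to `g`. -/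
theorem sum_conj_psi_classIndicator (hN : N ≤ Subgroup.center G) (ψ : Cfsg.IrrCharacter ↥N)
    (hfaith : ∀ n : ↥N, (ψ : ↥N → ℂ) n = (ψ : ↥N → ℂ) 1 → n = 1) (g : G) [Decidable (Special N g)] :
    ∑ n : ↥N, conj ((ψ : ↥N → ℂ) n) * classIndicator g ((n : G) * g) = if Special N g then 1 else 0 := by
  classical
  have hψ1 := psi_one N hN ψ
  have hψc : IsCharacter ↥N (ψ : ↥N → ℂ) := IsIrrCharacter.isCharacter ψ.2
  have hψmul := IsCharacter.map_mul_of_apply_one hψc hψ1
  have hind : ∀ x : G, classIndicator g x = if IsConj x g then 1 else 0 := by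
    intro x
    unfold classIndicator
    congr
  by_cases hg : Special N g
  · rw [if_pos hg]
    have hsp := (special_iff N hN g).mp hg
    rw [Finset.sum_eq_single (1 : ↥N)]
    · rw [hψ1, map_one, one_mul, hind, if_pos]
      rw [Subgroup.coe_one, one_mul]
    · intro n _ hn
      rw [hind, if_neg, mul_zero]
      intro hconj
      exact hn (hsp n hconj)
    · intro h
      exact absurd (Finset.mem_univ _) h
  · rw [if_neg hg]
    have hns : ¬ ∀ n : ↥N, IsConj ((n : G) * g) g → n = 1 := fun h => hg ((special_iff N hN g).mpr h)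
    push Not at hns
    obtain ⟨n₀, hconj₀, hn₀⟩ := hns
    have hψn₀ : conj ((ψ : ↥N → ℂ) n₀) ≠ 1 := by
      intro h
      apply hn₀
      apply hfaith
      rw [hψ1]
      have := congrArg conj h
      rwa [Complex.conj_conj, map_one] at this
    set f : ↥N → ℂ := fun n => conj ((ψ : ↥N → ℂ) n) * classIndicator g ((n : G) * g) with hf
    have hshift : ∀ n : ↥N, f (n₀ * n) = conj ((ψ : ↥N → ℂ) n₀) * f n := by
      intro n
      simp only [hf]
      rw [hψmul, map_mul, hind, hind]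
      have hiff : IsConj (((n₀ * n : ↥N) : G) * g) g ↔ IsConj ((n : G) * g) g := by
        rw [Subgroup.coe_mul]
        have hcomm : (n₀ : G) * (n : G) = (n : G) * (n₀ : G) := central_comm N hN n₀.2 n
        constructor
        · intro h
          have h1 : IsConj ((n : G) * ((n₀ : G) * g)) ((n : G) * g) := isConj_central_mul (hN n.2) hconj₀
          rw [← mul_assoc, ← hcomm] at h1
          exact h1.symm.trans h
        · intro h
          have h1 : IsConj ((n₀ : G) * ((n : G) * g)) ((n₀ : G) * g) := isConj_central_mul (hN n₀.2) h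
          rw [← mul_assoc] at h1
          exact h1.trans hconj₀
      by_cases h : IsConj ((n : G) * g) g
      · rw [if_pos h, if_pos (hiff.mpr h)]
        ring
      · rw [if_neg h, if_neg (fun h' => h (hiff.mp h'))]
        ring
    have h1 : ∑ n : ↥N, f n = conj ((ψ : ↥N → ℂ) n₀) * ∑ n : ↥N, f n := by
      rw [Finset.mul_sum, ← Equiv.sum_comp (Equiv.mulLeft n₀) f]
      apply Finset.sum_congr rfl
      intro n _
      rw [Equiv.coe_mulLeft, hshift]
    have h2 : (1 - conj ((ψ : ↥N → ℂ) n₀)) * ∑ n : ↥N, f n = 0 := by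
      rw [sub_mul, one_mul, ← h1, sub_self]
    rcases mul_eq_zero.mp h2 with h | h
    · exfalso; apply hψn₀; exact (sub_eq_zero.mp h).symm
    · exact h
end chars

section counting
variable {G : Type*} [Group G] [Fintype G] (N : Subgroup G) [Fintype N]

/-- The number of irreducible characters over `ψ` as a character sum. -/
theorem card_over_eq (hN : N ≤ Subgroup.center G) (ψ : Cfsg.IrrCharacter ↥N) :
    (Nat.card {χ : Cfsg.IrrCharacter G //
        Cfsg.classInner (fun n : ↥N => (χ : G → ℂ) n) (ψ : ↥N → ℂ) ≠ 0} : ℂ) =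
      (Nat.card G : ℂ)⁻¹ * ((Nat.card ↥N : ℂ)⁻¹ * ∑ g : G,
        (∑ n : ↥N, conj ((ψ : ↥N → ℂ) n) * classIndicator g ((n : G) * g)) *
          (Nat.card (Subgroup.centralizer ({g} : Set G)) : ℂ)) := by
  classical
  let _ := fintypeIrr G
  set P : Cfsg.IrrCharacter G → Prop :=
    fun χ => Cfsg.classInner (fun n : ↥N => (χ : G → ℂ) n) (ψ : ↥N → ℂ) ≠ 0 with hP
  have hcard : (Nat.card {χ : Cfsg.IrrCharacter G // P χ} : ℂ) =
      ∑ χ : Cfsg.IrrCharacter G, if P χ then (1 : ℂ) else 0 := by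
    rw [Nat.card_eq_fintype_card, Fintype.card_subtype, Finset.card_filter]
    push_cast
    rfl
  have hterm : ∀ χ : Cfsg.IrrCharacter G, (if P χ then (1 : ℂ) else 0) =
      (Nat.card G : ℂ)⁻¹ * ∑ g : G, ((Nat.card ↥N : ℂ)⁻¹ *
        ∑ n : ↥N, conj ((ψ : ↥N → ℂ) n) * (χ : G → ℂ) ((n : G) * g)) * conj ((χ : G → ℂ) g) := by
    intro χ
    have h1 := classInner_irr' χ χ
    rw [if_pos rfl] at h1
    unfold Cfsg.classInner at h1
    by_cases hPχ : P χ
    · rw [if_pos hPχ, ← h1]
      congr 1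
      apply Finset.sum_congr rfl
      intro g _
      rw [proj_irr N hN ψ χ g, if_pos hPχ]
    · rw [if_neg hPχ]
      have h0 : ∀ g : G, ((Nat.card ↥N : ℂ)⁻¹ *
          ∑ n : ↥N, conj ((ψ : ↥N → ℂ) n) * (χ : G → ℂ) ((n : G) * g)) * conj ((χ : G → ℂ) g) = 0 := by
        intro g
        rw [proj_irr N hN ψ χ g, if_neg hPχ, zero_mul]
      rw [Finset.sum_congr rfl (fun g _ => h0 g)]
      simp
  rw [hcard, Finset.sum_congr rfl (fun χ _ => hterm χ), ← Finset.mul_sum, Finset.sum_comm]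
  congr 1
  rw [Finset.mul_sum]
  apply Finset.sum_congr rfl
  intro g _
  calc ∑ χ : Cfsg.IrrCharacter G, ((Nat.card ↥N : ℂ)⁻¹ *
        ∑ n : ↥N, conj ((ψ : ↥N → ℂ) n) * (χ : G → ℂ) ((n : G) * g)) * conj ((χ : G → ℂ) g)
      = (Nat.card ↥N : ℂ)⁻¹ * ∑ χ : Cfsg.IrrCharacter G, ∑ n : ↥N,
          conj ((ψ : ↥N → ℂ) n) * ((χ : G → ℂ) ((n : G) * g) * conj ((χ : G → ℂ) g)) := by
        rw [Finset.mul_sum]
        apply Finset.sum_congr rfl
        intro χ _
        rw [mul_assoc, Finset.sum_mul]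
        congr 1
        apply Finset.sum_congr rfl
        intro n _
        ring
    _ = (Nat.card ↥N : ℂ)⁻¹ * ∑ n : ↥N, conj ((ψ : ↥N → ℂ) n) *
          ∑ χ : Cfsg.IrrCharacter G, (χ : G → ℂ) ((n : G) * g) * conj ((χ : G → ℂ) g) := by
        rw [Finset.sum_comm]
        congr 1
        apply Finset.sum_congr rfl
        intro n _
        rw [Finset.mul_sum]
    _ = _ := by
        congr 1
        rw [Finset.sum_mul]
        apply Finset.sum_congr rfl
        intro n _
        rw [sum_irr_mul_conj]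
        ring

/-- Summing a function of the coset over the group. -/
theorem sum_comp_mk [N.Normal] [Fintype (G ⧸ N)] (h : G ⧸ N → ℕ) :
    ∑ g : G, h (g : G ⧸ N) = Nat.card ↥N * ∑ q : G ⧸ N, h q := by
  classical
  rw [← Fintype.sum_fiberwise (fun g : G => (g : G ⧸ N)) (fun g => h (g : G ⧸ N)), Finset.mul_sum]
  apply Finset.sum_congr rfl
  intro q _
  have hq : ∀ g : {g : G // (g : G ⧸ N) = q}, h ((g : G) : G ⧸ N) = h q := fun g => by rw [g.2]
  rw [Finset.sum_congr rfl (fun g _ => hq g), Finset.sum_const, Finset.card_univ, smul_eq_mul]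
  congr 1
  obtain ⟨g₀, rfl⟩ := QuotientGroup.mk_surjective q
  rw [← Nat.card_eq_fintype_card]
  apply Nat.card_congr
  exact
    { toFun := fun g => ⟨g₀⁻¹ * (g : G), QuotientGroup.eq.mp g.2.symm⟩
      invFun := fun n => ⟨g₀ * (n : G), by
        rw [eq_comm, QuotientGroup.eq]
        have : g₀⁻¹ * (g₀ * (n : G)) = (n : G) := by group
        rw [this]
        exact n.2⟩
      left_inv := by
        intro g
        apply Subtype.ext
        show g₀ * (g₀⁻¹ * (g : G)) = (g : G)
        group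
      right_inv := by
        intro n
        apply Subtype.ext
        show g₀⁻¹ * (g₀ * (n : G)) = (n : G)
        group }

/-- For a special element, the centralizer of its coset is the image of its centralizer. -/
theorem card_centralizer_special [N.Normal] {g : G} (hg : Special N g) :
    Nat.card (Subgroup.centralizer ({g} : Set G)) =
      Nat.card ↥N * Nat.card (Subgroup.centralizer ({(g : G ⧸ N)} : Set (G ⧸ N))) := by
  rw [← Cfsg.Agent.Lib.Helper12.card_comap_mk']
  have heq : (Subgroup.centralizer ({(g : G ⧸ N)} : Set (G ⧸ N))).comap (QuotientGroup.mk' N) =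
      Subgroup.centralizer ({g} : Set G) := by
    ext x
    rw [Subgroup.mem_comap, Subgroup.mem_centralizer_singleton_iff, Subgroup.mem_centralizer_singleton_iff]
    constructor
    · intro hx
      have h1 : ((x * g : G) : G ⧸ N) = ((g * x : G) : G ⧸ N) := hx
      have h2 : (x * g)⁻¹ * (g * x) ∈ N := QuotientGroup.eq.mp h1
      have h3 : (x⁻¹)⁻¹ * g⁻¹ * x⁻¹ * g ∈ N := by
        have h4 : (x⁻¹)⁻¹ * g⁻¹ * x⁻¹ * g = x * ((x * g)⁻¹ * (g * x)) * x⁻¹ := by group
        rw [h4]
        exact Subgroup.Normal.conj_mem inferInstance _ h2 x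
      have h5 := hg x⁻¹ h3
      calc x * g = x * (g * x⁻¹) * x := by group
        _ = x * (x⁻¹ * g) * x := by rw [h5]
        _ = g * x := by group
    · intro hx
      show ((x : G) : G ⧸ N) * (g : G ⧸ N) = (g : G ⧸ N) * (x : G ⧸ N)
      rw [← QuotientGroup.mk_mul, ← QuotientGroup.mk_mul, hx]
  rw [heq]

end counting

section final
variable {G : Type*} [Group G] [Fintype G] (N : Subgroup G) [Fintype N]

/-- Sum of centralizer orders of the special elements. -/
theorem sum_special_centralizer [N.Normal] (hN : N ≤ Subgroup.center G) [DecidablePred (Special N)] :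
    ∑ g : G, (if Special N g then Nat.card (Subgroup.centralizer ({g} : Set G)) else 0) =
      Nat.card ↥N * (Nat.card ↥N *
        (Nat.card {C : ConjClasses (G ⧸ N) // ∃ q : G ⧸ N, ConjClasses.mk q = C ∧
            ∃ g : G, (g : G ⧸ N) = q ∧ Special N g} * Nat.card (G ⧸ N))) := by
  classical
  let _ : Fintype (G ⧸ N) := Fintype.ofFinite _
  set F : G ⧸ N → Prop := fun q => ∃ g : G, (g : G ⧸ N) = q ∧ Special N g with hF
  have hFconj : ∀ a q : G ⧸ N, F q → F (a * q * a⁻¹) := by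
    intro a q hq
    obtain ⟨a', rfl⟩ := QuotientGroup.mk_surjective a
    obtain ⟨g, rfl, hg⟩ := hq
    exact ⟨a' * g * a'⁻¹, by simp, special_conj N a' hg⟩
  have hFiff : ∀ g : G, F (g : G ⧸ N) ↔ Special N g := by
    intro g
    constructor
    · rintro ⟨g', hg', hsp⟩
      have h1 : g'⁻¹ * g ∈ N := QuotientGroup.eq.mp hg'
      have h2 := special_mul_right N hN h1 hsp
      have h3 : g' * (g'⁻¹ * g) = g := by group
      rwa [h3] at h2
    · intro hg
      exact ⟨g, rfl, hg⟩
  have h := sum_card_centralizer_of_pred F hFconj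
  rw [← h, ← sum_comp_mk N (fun q => if F q then Nat.card (Subgroup.centralizer ({q} : Set (G ⧸ N))) else 0),
    Finset.mul_sum]
  apply Finset.sum_congr rfl
  intro g _
  by_cases hg : Special N g
  · rw [if_pos hg, if_pos ((hFiff g).mpr hg), card_centralizer_special N hg]
  · rw [if_neg hg, if_neg (fun h' => hg ((hFiff g).mp h')), mul_zero]

end final

/-- Let N be a central subgroup of the finite group G and ψ a faithful irreducible (hence degree-one) character of N. Call a coset g N special when every x ∈ G whose commutator x⁻¹ g⁻¹ x g lies in N actually commutes with g (this depends only on the coset). Then the number of irreducible characters of G whose restriction to N contains ψ equals the number of conjugacy classes of G/N consisting of special cosets. -/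
theorem result {G : Type*} [Group G] [Fintype G] (N : Subgroup G) [N.Normal] [Fintype N] (hN : N ≤ Subgroup.center G) (ψ : Cfsg.IrrCharacter ↥N) (hfaith : ∀ n : ↥N, (ψ : ↥N → ℂ) n = (ψ : ↥N → ℂ) 1 → n = 1) : Nat.card {χ : Cfsg.IrrCharacter G // Cfsg.classInner (fun n : ↥N => (χ : G → ℂ) n) (ψ : ↥N → ℂ) ≠ 0} = Nat.card {C : ConjClasses (G ⧸ N) // ∃ g : G, ConjClasses.mk (g : G ⧸ N) = C ∧ ∀ x : G, x⁻¹ * g⁻¹ * x * g ∈ N → x * g = g * x} := by
  classical
  have hNpos : 0 < Nat.card ↥N := Nat.card_pos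
  have hGpos : 0 < Nat.card G := Nat.card_pos
  have hNne : (Nat.card ↥N : ℂ) ≠ 0 := by exact_mod_cast hNpos.ne'
  have hGne : (Nat.card G : ℂ) ≠ 0 := by exact_mod_cast hGpos.ne'
  have hidx : Nat.card G = Nat.card (G ⧸ N) * Nat.card ↥N := Subgroup.card_eq_card_quotient_mul_card_subgroup N
  have hcongr : Nat.card {C : ConjClasses (G ⧸ N) // ∃ g : G, ConjClasses.mk (g : G ⧸ N) = C ∧
        ∀ x : G, x⁻¹ * g⁻¹ * x * g ∈ N → x * g = g * x} =
      Nat.card {C : ConjClasses (G ⧸ N) // ∃ q : G ⧸ N, ConjClasses.mk q = C ∧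
            ∃ g : G, (g : G ⧸ N) = q ∧ Special N g} := by
    apply Nat.card_congr
    apply Equiv.subtypeEquivRight
    intro C
    constructor
    · rintro ⟨g, hC, hg⟩
      exact ⟨(g : G ⧸ N), hC, g, rfl, hg⟩
    · rintro ⟨q, hC, g, rfl, hg⟩
      exact ⟨g, hC, hg⟩
  rw [hcongr]
  have h1 := card_over_eq N hN ψ
  have h2 : ∑ g : G, (∑ n : ↥N, conj ((ψ : ↥N → ℂ) n) * classIndicator g ((n : G) * g)) *
          (Nat.card (Subgroup.centralizer ({g} : Set G)) : ℂ) =
      ((∑ g : G, (if Special N g then Nat.card (Subgroup.centralizer ({g} : Set G)) else 0) : ℕ) : ℂ) := by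
    rw [Nat.cast_sum]
    apply Finset.sum_congr rfl
    intro g _
    rw [sum_conj_psi_classIndicator N hN ψ hfaith g]
    by_cases hg : Special N g
    · rw [if_pos hg, if_pos hg, one_mul]
    · rw [if_neg hg, if_neg hg, zero_mul, Nat.cast_zero]
  rw [h2, sum_special_centralizer N hN, hidx] at h1
  have h3 : (Nat.card {χ : Cfsg.IrrCharacter G //
        Cfsg.classInner (fun n : ↥N => (χ : G → ℂ) n) (ψ : ↥N → ℂ) ≠ 0} : ℂ) =
      (Nat.card {C : ConjClasses (G ⧸ N) // ∃ q : G ⧸ N, ConjClasses.mk q = C ∧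
            ∃ g : G, (g : G ⧸ N) = q ∧ Special N g} : ℂ) := by
    rw [h1]
    have hQne : (Nat.card (G ⧸ N) : ℂ) ≠ 0 := by
      intro h0
      apply hGne
      rw [hidx]
      push_cast
      rw [h0, zero_mul]
    push_cast
    field_simp
  exact_mod_cast h3

end Cfsg.Agent.S4567
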