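import Cfsg.Statements.S4574
import Cfsg.Agent.Lib.Helper24.GaloisNorm
import Cfsg.Agent.Lib.Helper24.IrrFacts

set_option autoImplicit false
open Cfsg

namespace Cfsg.Agent.S4574

open Cfsg.Agent.Lib.Helper24 Cfsg.Agent.CharLib Cfsg

/-- `(g ^ k) ^ (k⁻¹) = g` for a unit `k` of `ZMod |G|`. -/
theorem pow_units_inv {G : Type*} [Group G] [Fintype G] (g : G) (k : (ZMod (Fintype.card G))ˣ) :
    (g ^ (k : ZMod (Fintype.card G)).val) ^ ((k⁻¹ : (ZMod (Fintype.card G))ˣ) : ZMod (Fintype.card G)).val = g := by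
  have hN : NeZero (Fintype.card G) := ⟨Fintype.card_ne_zero⟩
  rw [← pow_mul]
  have h1 : (((k : ZMod (Fintype.card G)).val *
      ((k⁻¹ : (ZMod (Fintype.card G))ˣ) : ZMod (Fintype.card G)).val : ℕ) : ZMod (Fintype.card G)) = ((1 : ℕ) : ZMod (Fintype.card G)) := by
    rw [Nat.cast_mul, ZMod.natCast_val, ZMod.natCast_val, ZMod.cast_id, ZMod.cast_id, Nat.cast_one,
      ← Units.val_mul, mul_inv_cancel, Units.val_one]
  have h2 := (ZMod.natCast_eq_natCast_iff _ _ _).mp h1
  rw [← pow_mod_card, h2, pow_mod_card, pow_one]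

/-- Let χ be an irreducible character of the finite group G, of degree d, and let Z(χ) be the set of elements g with |χ g| = d (the centre of χ). Then χ vanishes on at least (d ^ 2 - 1) · |Z(χ)| elements of G, with equality when every value |χ g| is 0, 1 or d. -/
theorem result {G : Type*} [Group G] [Fintype G] [DecidableEq G] (χ : G → ℂ) (hχ : Cfsg.IsIrrCharacter G χ) : (Cfsg.charDegree χ ^ 2 - 1) * (Finset.univ.filter (fun g : G => ‖χ g‖ = (Cfsg.charDegree χ : ℝ))).card ≤ (Finset.univ.filter (fun g : G => χ g = 0)).card ∧ ((∀ g : G, ‖χ g‖ = 0 ∨ ‖χ g‖ = 1 ∨ ‖χ g‖ = (Cfsg.charDegree χ : ℝ)) → (Cfsg.charDegree χ ^ 2 - 1) * (Finset.univ.filter (fun g : G => ‖χ g‖ = (Cfsg.charDegree χ : ℝ))).card = (Finset.univ.filter (fun g : G => χ g = 0)).card) := by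
  classical
  have hN : NeZero (Fintype.card G) := ⟨Fintype.card_ne_zero⟩
  have hd1 : χ 1 = (Cfsg.charDegree χ : ℂ) := irr_apply_one ⟨χ, hχ⟩
  have hdpos : 0 < Cfsg.charDegree χ := irr_charDegree_pos ⟨χ, hχ⟩
  -- first orthogonality relation
  have horth : ∑ g : G, ‖χ g‖ ^ 2 = (Fintype.card G : ℝ) := by
    have h := classInner_irr' (⟨χ, hχ⟩ : IrrCharacter G) ⟨χ, hχ⟩
    simp only [if_true, classInner] at h
    have hc : (Nat.card G : ℂ) ≠ 0 := by
      rw [Nat.card_eq_fintype_card]; exact_mod_cast Fintype.card_ne_zero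
    rw [inv_mul_eq_iff_eq_mul₀ hc, mul_one, Nat.card_eq_fintype_card] at h
    have h2 : ((∑ g : G, ‖χ g‖ ^ 2 : ℝ) : ℂ) = ((Fintype.card G : ℝ) : ℂ) := by
      rw [Complex.ofReal_natCast, ← h, Complex.ofReal_sum]
      apply Finset.sum_congr rfl
      intro g _
      rw [Complex.mul_conj, Complex.normSq_eq_norm_sq]
    exact_mod_cast h2
  obtain ⟨n, ρ, hirr, hρ⟩ := hχ
  set d := Cfsg.charDegree χ with hd
  have hfin : (Module.finrank ℂ (Fin n → ℂ) : ℝ) = (d : ℝ) := by
    have h1 : ρ.character 1 = (Module.finrank ℂ (Fin n → ℂ) : ℂ) := Representation.char_one ρ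
    rw [hρ, hd1] at h1
    have h2 : d = Module.finrank ℂ (Fin n → ℂ) := by exact_mod_cast h1
    rw [← h2]
  -- the remainder function
  set F : G → ℝ := fun g => if χ g = 0 then 0 else if ‖χ g‖ = (d : ℝ) then 0 else ‖χ g‖ ^ 2 - 1 with hF
  have hkey : ∀ g : G, 0 ≤ ∑ k : (ZMod (Fintype.card G))ˣ, F (g ^ (k : ZMod (Fintype.card G)).val) := by
    intro g
    have hgN : ∀ x : G, x ^ Fintype.card G = 1 := fun x => pow_card_eq_one
    by_cases h0 : χ g = 0
    · -- all conjugate values vanish
      apply Finset.sum_nonneg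
      intro k _
      have hk0 : χ (g ^ (k : ZMod (Fintype.card G)).val) = 0 := by
        by_contra hne
        have := (char_pow_units_sum_nonneg ρ (g ^ (k : ZMod (Fintype.card G)).val) (Fintype.card G)
          (hgN _) (by rw [hρ]; exact hne)).1 k⁻¹
        rw [pow_units_inv, hρ] at this
        exact this h0
      simp only [hF, hk0, if_true, le_refl]
    · by_cases h1 : ‖χ g‖ = (d : ℝ)
      · apply Finset.sum_nonneg
        intro k _
        have hk1 : ‖χ (g ^ (k : ZMod (Fintype.card G)).val)‖ = (d : ℝ) := by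
          have := norm_char_pow_eq_of_norm_char_eq ρ g (by rw [hρ, hfin]; exact h1)
            (k : ZMod (Fintype.card G)).val
          rw [hρ, hfin] at this
          exact this
        simp only [hF]
        split_ifs <;> exact le_refl _
      · have hall := char_pow_units_sum_nonneg ρ g (Fintype.card G) (hgN g) (by rw [hρ]; exact h0)
        rw [hρ] at hall
        have hFk : ∀ k : (ZMod (Fintype.card G))ˣ, F (g ^ (k : ZMod (Fintype.card G)).val) =
            ‖χ (g ^ (k : ZMod (Fintype.card G)).val)‖ ^ 2 - 1 := by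
          intro k
          have hk0 := hall.1 k
          have hk1 : ‖χ (g ^ (k : ZMod (Fintype.card G)).val)‖ ≠ (d : ℝ) := by
            intro hcon
            have := norm_char_pow_eq_of_norm_char_eq ρ (g ^ (k : ZMod (Fintype.card G)).val)
              (by rw [hρ, hfin]; exact hcon)
              ((k⁻¹ : (ZMod (Fintype.card G))ˣ) : ZMod (Fintype.card G)).val
            rw [pow_units_inv, hρ, hfin] at this
            exact h1 this
          simp only [hF, if_neg hk0, if_neg hk1]
        rw [Finset.sum_congr rfl (fun k _ => hFk k)]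
        exact hall.2
  -- the total remainder is nonnegative
  have hR : 0 ≤ ∑ g : G, F g := by
    have hsw : ∑ k : (ZMod (Fintype.card G))ˣ, ∑ g : G, F g =
        ∑ g : G, ∑ k : (ZMod (Fintype.card G))ˣ, F (g ^ (k : ZMod (Fintype.card G)).val) := by
      rw [Finset.sum_comm (f := fun (g : G) (k : (ZMod (Fintype.card G))ˣ) =>
        F (g ^ (k : ZMod (Fintype.card G)).val))]
      apply Finset.sum_congr rfl
      intro k _
      have hcop : (Nat.card G).Coprime (k : ZMod (Fintype.card G)).val := by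
        rw [Nat.card_eq_fintype_card]
        exact (ZMod.val_coe_unit_coprime k).symm
      exact (Equiv.sum_comp (powCoprime hcop) F).symm
    have hnn : 0 ≤ ∑ k : (ZMod (Fintype.card G))ˣ, ∑ g : G, F g := by
      rw [hsw]
      exact Finset.sum_nonneg (fun g _ => hkey g)
    rw [Finset.sum_const, nsmul_eq_mul] at hnn
    have hpos : (0 : ℝ) < ((Finset.univ : Finset (ZMod (Fintype.card G))ˣ).card : ℝ) := by
      have : 0 < (Finset.univ : Finset (ZMod (Fintype.card G))ˣ).card :=
        Finset.card_pos.mpr ⟨1, Finset.mem_univ 1⟩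
      exact_mod_cast this
    exact nonneg_of_mul_nonneg_right hnn hpos
  -- the pointwise identity
  have hdR : (1 : ℝ) ≤ (d : ℝ) := by exact_mod_cast hdpos
  have hpt : ∀ g : G, ‖χ g‖ ^ 2 - 1 = ((d : ℝ) ^ 2 - 1) * (if ‖χ g‖ = (d : ℝ) then 1 else 0)
      - (if χ g = 0 then 1 else 0) + F g := by
    intro g
    simp only [hF]
    by_cases h0 : χ g = 0
    · have hne : ¬ ‖χ g‖ = (d : ℝ) := by
        rw [h0, norm_zero]; intro h; rw [← h] at hdR; linarith
      rw [if_neg hne, if_pos h0, if_pos h0, h0, norm_zero]; ring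
    · by_cases h1 : ‖χ g‖ = (d : ℝ)
      · rw [if_pos h1, if_neg h0, if_neg h0, if_pos h1, h1]; ring
      · rw [if_neg h1, if_neg h0, if_neg h0, if_neg h1]; ring
  have hsum : (0 : ℝ) = ((d : ℝ) ^ 2 - 1) *
      ((Finset.univ.filter (fun g : G => ‖χ g‖ = (d : ℝ))).card : ℝ)
      - ((Finset.univ.filter (fun g : G => χ g = 0)).card : ℝ) + ∑ g : G, F g := by
    have h1 : ∑ g : G, (‖χ g‖ ^ 2 - 1) = 0 := by
      rw [Finset.sum_sub_distrib, horth, Finset.sum_const, Finset.card_univ, nsmul_eq_mul, mul_one, sub_self]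
    rw [← h1, Finset.sum_congr rfl (fun g _ => hpt g), Finset.sum_add_distrib, Finset.sum_sub_distrib,
      ← Finset.mul_sum, Finset.sum_boole, Finset.sum_boole]
  have hcast : (((d ^ 2 - 1 : ℕ)) : ℝ) = (d : ℝ) ^ 2 - 1 := by
    have : 1 ≤ d ^ 2 := Nat.one_le_pow _ _ hdpos
    rw [Nat.cast_sub this, Nat.cast_pow, Nat.cast_one]
  constructor
  · have : (((d ^ 2 - 1) * (Finset.univ.filter (fun g : G => ‖χ g‖ = (d : ℝ))).card : ℕ) : ℝ) ≤
        ((Finset.univ.filter (fun g : G => χ g = 0)).card : ℝ) := by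
      rw [Nat.cast_mul, hcast]
      linarith
    exact_mod_cast this
  · intro hall
    have hF0 : ∀ g : G, F g = 0 := by
      intro g
      simp only [hF]
      by_cases h0 : χ g = 0
      · rw [if_pos h0]
      · by_cases h1 : ‖χ g‖ = (d : ℝ)
        · rw [if_neg h0, if_pos h1]
        · rw [if_neg h0, if_neg h1]
          rcases hall g with h | h | h
          · exact absurd (norm_eq_zero.mp h) h0
          · rw [h]; ring
          · exact absurd h h1
    have hR0 : ∑ g : G, F g = 0 := Finset.sum_eq_zero (fun g _ => hF0 g)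
    have : (((d ^ 2 - 1) * (Finset.univ.filter (fun g : G => ‖χ g‖ = (d : ℝ))).card : ℕ) : ℝ) =
        ((Finset.univ.filter (fun g : G => χ g = 0)).card : ℝ) := by
      rw [Nat.cast_mul, hcast]
      linarith
    exact_mod_cast this

end Cfsg.Agent.S4574
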