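-- Statement S4575 (2-block B with a major subsection (z, b): k(B) ≤ l(b) + 3 ⇒ k(B) ≤ 2^d).
-- helper6 (planner/assembler) on helper23's subsection/contribution library, helper1's S4540 plan
-- (integer Galois traces `rtrace` of the scaled diagonal contributions, leaf (Z)) and helper23's
-- Brauer (5H) / (LI) / (GB).  Route: M = 2^d (μ_{χψ}) is 2^d times a Hermitian idempotent of rank l(b) for
-- every Galois conjugate; T(χ) = Galois average of 2^d μ_{χχ} is an integer, odd on height zero, divisible
-- by 2^(h+1) on height h ≥ 1; the complementary traces T' = 2^d - T sum to 2^d (k - l) ≤ 3 · 2^d; either some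
-- height zero character has T' ≤ 1 (then k - 1 ≤ T T' ≤ 2^d - 1 by Jensen and the lower bounds 4^h), or all
-- T' ≥ 3 (then 3k ≤ 3 · 2^d).
import Cfsg.Statements.S4575
import Cfsg.Agent.Lib.Helper6.MajSubK3Main
import Cfsg.Agent.Lib.Helper6.TwoMajZ

set_option autoImplicit false
open Cfsg

namespace Cfsg.Agent.S4575

/-- Let B be a 2-block of the finite group G (relative to a maximal ideal M of the algebraic integers containing 2) of defect d with defect group D. Let z be an element of D commuting with every element of D, and let b be a block of the centralizer of z with defect group D that induces B (a major subsection (z, b)). If the number of irreducible characters in B exceeds the 2-regular rank of b by at most three, then B contains at most 2 ^ d irreducible characters. -/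
theorem result {G : Type*} [Group G] [Finite G] (M : Ideal Cfsg.AlgInt) (hM : Cfsg.IsPModular 2 M) (B : Set (Cfsg.IrrCharacter G)) (hB : Cfsg.IsPBlock M B) (D : Subgroup G) (hD : Cfsg.IsDefectGroup 2 M B D) (z : G) (hzD : z ∈ D) (hzc : ∀ d ∈ D, d * z = z * d) (b : Set (Cfsg.IrrCharacter ↥(Subgroup.centralizer ({z} : Set G)))) (hb : Cfsg.IsInducedBlock M (Subgroup.centralizer ({z} : Set G)) b B) (hbD : Cfsg.IsDefectGroup 2 M b (D.subgroupOf (Subgroup.centralizer ({z} : Set G)))) (h : Nat.card B ≤ Cfsg.blockRank 2 b + 3) : Nat.card B ≤ 2 ^ Cfsg.blockDefect 2 B :=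
  Cfsg.Agent.Lib.Helper6.MajSubK3Main.result_S4575_of M hM B hB D hD z hzD hzc b hb hbD
    (fun A eps hA heps t heps2 h hloc =>
      Cfsg.Agent.Lib.Helper6.TwoMajZ.two_pow_succ_dvd_rsum hM A eps hA heps t heps2 h hloc) h

end Cfsg.Agent.S4575
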