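import Cfsg.Statements.S4586
import Mathlib
import Cfsg.Agent.Lib.Helper4.IndexPComm

set_option autoImplicit false
open Cfsg

namespace Cfsg.Agent.S4586


/-- Let p be a prime, P a finite p-group and N a normal subgroup of P of index p. For x ∈ P write c(x) for the number of elements n of N whose commutator x n x⁻¹ n⁻¹ lies in the derived subgroup N' (so c(x)/#N' is the order of the centralizer of x acting on N/N'). Then [P : P'] = p² if and only if c(x) = p·#N' for every x ∈ P outside N, and also if and only if c(x) = p·#N' for some x ∈ P outside N. -/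
theorem result {P : Type*} [Group P] [Finite P] (p : ℕ) [Fact p.Prime] (hP : IsPGroup p P) (N : Subgroup P) [N.Normal] (hN : N.index = p) :
    ((commutator P).index = p ^ 2 ↔ ∀ x : P, x ∉ N →
        Nat.card {n : N // x * n * x⁻¹ * (n : P)⁻¹ ∈ (commutator N).map N.subtype} = p * Nat.card (commutator N)) ∧
    ((commutator P).index = p ^ 2 ↔ ∃ x : P, x ∉ N ∧
        Nat.card {n : N // x * n * x⁻¹ * (n : P)⁻¹ ∈ (commutator N).map N.subtype} = p * Nat.card (commutator N)) := by
  have hp : p.Prime := Fact.out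
  have hex : ∃ x : P, x ∉ N := by
    by_contra h
    push Not at h
    have : N = ⊤ := eq_top_iff.mpr (fun g _ => h g)
    rw [this, Subgroup.index_top] at hN
    exact hp.one_lt.ne' hN.symm
  refine ⟨⟨fun h x hx => (Cfsg.Agent.Lib.Helper4.index_commutator_eq_sq_iff_count N hN x hx).mp h,
    fun h => ?_⟩, ⟨fun h => ?_, fun h => ?_⟩⟩
  · obtain ⟨x, hx⟩ := hex
    exact (Cfsg.Agent.Lib.Helper4.index_commutator_eq_sq_iff_count N hN x hx).mpr (h x hx)
  · obtain ⟨x, hx⟩ := hex
    exact ⟨x, hx, (Cfsg.Agent.Lib.Helper4.index_commutator_eq_sq_iff_count N hN x hx).mp h⟩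
  · obtain ⟨x, hx, hc⟩ := h
    exact (Cfsg.Agent.Lib.Helper4.index_commutator_eq_sq_iff_count N hN x hx).mpr hc

end Cfsg.Agent.S4586
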