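import Cfsg.Statements.S4591
import Mathlib
import Cfsg.Agent.Lib.Helper23.PPrimeKerD
import Cfsg.Agent.Lib.Helper23.PPrimeKerE
import Cfsg.Agent.Lib.Helper23.PPrimeKerF

set_option autoImplicit false
open Cfsg

namespace Cfsg.Agent.S4591

open Cfsg.Agent.Lib.Helper23.PPrimeKer


/-- Let G be a finite group, p a prime and P a Sylow p-subgroup, and let N be the largest normal subgroup of G in which P has trivial centralizer (N is normal with C_N(P) = 1 and contains every normal subgroup with that property). Then the intersection of the kernels of the irreducible characters of G of degree prime to p is the normal core in G of the subgroup N·P' (P' the derived subgroup of P). In particular, when G has no nontrivial normal subgroup of order prime to p, that intersection is the normal core of P'. -/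
theorem result {G : Type*} [Group G] [Finite G] (p : ℕ) [Fact p.Prime] (P : Sylow p G) (N : Subgroup G) [N.Normal]
    (hN : N ⊓ Subgroup.centralizer ((P : Subgroup G) : Set G) = ⊥)
    (hmax : ∀ L : Subgroup G, L.Normal → L ⊓ Subgroup.centralizer ((P : Subgroup G) : Set G) = ⊥ → L ≤ N) :
    {g : G | ∀ χ : Cfsg.IrrCharacter G, ¬ p ∣ Cfsg.charDegree (χ : G → ℂ) → (χ : G → ℂ) g = (χ : G → ℂ) 1} =
      ((N ⊔ ⁅(P : Subgroup G), (P : Subgroup G)⁆).normalCore : Set G) := by
  classical
  ext g
  rw [Set.mem_setOf_eq, SetLike.mem_coe, ← mem_pPrimeKer p g]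
  constructor
  · intro hg
    -- `K ≤ N P'`
    have hKle : pPrimeKer G p ≤ N ⊔ ⁅(P : Subgroup G), (P : Subgroup G)⁆ := by
      intro k hk
      have hcompl := hasNormalPComplement_pPrimeKer p P
      obtain ⟨l, hl, y, hy, rfl⟩ := exists_mul_of_hasNormalPComplement p P (pPrimeKer G p) hcompl hk
      haveI hLn := pPrimeCore_map_normal p (pPrimeKer G p)
      have hLp := not_dvd_card_pPrimeCore_map p (pPrimeKer G p)
      have hLK : ∀ x ∈ (Cfsg.pPrimeCore p ↥(pPrimeKer G p)).map (pPrimeKer G p).subtype,
          ∀ χ : Cfsg.IrrCharacter G, ¬ p ∣ Cfsg.charDegree (χ : G → ℂ) →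
            (χ : G → ℂ) x = (χ : G → ℂ) 1 := by
        rintro x ⟨x', _, rfl⟩
        exact (mem_pPrimeKer p _).mp x'.2
      have hbot := inf_centralizer_eq_bot_of_forall_apply_eq p P _ hLp hLK
      have hLN := hmax _ hLn hbot
      apply Subgroup.mul_mem
      · exact (le_sup_left : N ≤ _) (hLN hl)
      · apply (le_sup_right : ⁅(P : Subgroup G), (P : Subgroup G)⁆ ≤ _)
        apply pPrimeKer_inf_sylow_le p P
        exact Subgroup.mem_inf.mpr ⟨(Subgroup.mem_inf.mp hy).2, (Subgroup.mem_inf.mp hy).1⟩
    exact (Subgroup.normal_le_normalCore.mpr hKle) hg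
  · intro hg
    rw [mem_pPrimeKer]
    intro χ hχ
    exact apply_eq_of_mem_normalCore p P N hN χ hχ hg

end Cfsg.Agent.S4591
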