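import Cfsg.Statements.S4602
import Cfsg.Agent.Lib.Helper24.PSolvable

set_option autoImplicit false
open Cfsg

namespace Cfsg.Agent.S4602

open Cfsg.Agent.Lib.Helper24 Cfsg

/-- Let G be a finite p-solvable group and q a prime different from p. Some Sylow p-subgroup of G normalizes some Sylow q-subgroup of G if and only if q does not divide the order of G/O_{p'}(G), the quotient by the largest normal subgroup of order prime to p. -/
theorem result {G : Type*} [Group G] [Finite G] (p q : ℕ) [Fact p.Prime] [Fact q.Prime] (hpq : p ≠ q) (hsolv : Cfsg.IsPSolvable p G) :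
    (∃ (P : Sylow p G) (Q : Sylow q G), (P : Subgroup G) ≤ Subgroup.normalizer ((Q : Subgroup G) : Set G)) ↔ ¬ q ∣ (Cfsg.pPrimeCore p G).index := by
  have hp : p.Prime := Fact.out
  have hq : q.Prime := Fact.out
  haveI hKn : (Cfsg.pPrimeCore p G).Normal := pPrimeCore_normal' p
  set K := Cfsg.pPrimeCore p G with hKdef
  have hπ : Function.Surjective (QuotientGroup.mk' K) := QuotientGroup.mk'_surjective K
  constructor
  · rintro ⟨P, Q, hPQ⟩
    have hsolv2 : Cfsg.IsPSolvable p (G ⧸ K) := isPSolvable_of_surjective p _ hπ hsolv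
    have hO2 : Cfsg.pPrimeCore p (G ⧸ K) = ⊥ := pPrimeCore_quotient_eq_bot' (G := G) p
    have hPQ2 : ((P.mapSurjective hπ : Sylow p (G ⧸ K)) : Subgroup (G ⧸ K)) ≤
        Subgroup.normalizer (((Q.mapSurjective hπ : Sylow q (G ⧸ K)) : Subgroup (G ⧸ K)) : Set _) := by
      rw [Sylow.coe_mapSurjective, Sylow.coe_mapSurjective]
      exact (Subgroup.map_mono hPQ).trans (Subgroup.le_normalizer_map _)
    have hQ2 := sylow_eq_bot_of_le_normalizer p q hpq _ (G ⧸ K) rfl hsolv2 hO2
      (P.mapSurjective hπ) (Q.mapSurjective hπ) hPQ2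
    rw [Sylow.coe_mapSurjective, Subgroup.map_eq_bot_iff, QuotientGroup.ker_mk'] at hQ2
    intro hdvd
    exact Q.not_dvd_index (dvd_trans hdvd (Subgroup.index_dvd_of_le hQ2))
  · intro hndvd
    obtain ⟨Q⟩ : Nonempty (Sylow q G) := inferInstance
    -- Q ≤ K
    have hQK : (Q : Subgroup G) ≤ K := by
      intro y hy
      obtain ⟨k, hk⟩ := (IsPGroup.iff_orderOf.mp Q.isPGroup') ⟨y, hy⟩
      have hk' : orderOf y = q ^ k := by
        rw [← hk]; exact (Subgroup.orderOf_mk y hy).symm
      have h1 : orderOf (QuotientGroup.mk' K y) ∣ q ^ k := by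
        rw [← hk']; exact orderOf_map_dvd _ y
      obtain ⟨j, _, hj⟩ := (Nat.dvd_prime_pow hq).mp h1
      have h2 : orderOf (QuotientGroup.mk' K y) ∣ K.index := by
        rw [Subgroup.index_eq_card]; exact orderOf_dvd_natCard _
      have hj0 : j = 0 := by
        by_contra hne
        apply hndvd
        rw [hj] at h2
        exact dvd_trans (dvd_pow_self q hne) h2
      rw [hj0, pow_zero, orderOf_eq_one_iff] at hj
      exact (QuotientGroup.eq_one_iff y).mp hj
    -- Frattini
    set A := Subgroup.normalizer ((Q : Subgroup G) : Set G) with hAdef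
    have hfr : A ⊔ K = ⊤ := Sylow.normalizer_sup_eq_top' Q hQK
    have hAK : A ≤ Subgroup.normalizer (K : Set G) := by
      rw [Subgroup.normalizer_eq_top]; exact le_top
    have hidx : A.index = A.relIndex K := by
      rw [← Subgroup.relIndex_top_right, ← hfr]
      exact Cfsg.Agent.Lib.Helper4.relIndex_sup_left_of_le_normalizer A K hAK
    have hKcop : (Nat.card K).Coprime p := Cfsg.Agent.Lib.Helper12.pPrimeCore_coprime p
    have hAidx : ¬ p ∣ A.index := by
      intro hdvd
      rw [hidx] at hdvd
      have h5 : p ∣ Nat.card K := dvd_trans hdvd (Subgroup.relIndex_dvd_card A K)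
      have h6 := Nat.Coprime.eq_one_of_dvd hKcop.symm h5
      exact hp.one_lt.ne' h6
    -- a Sylow p-subgroup of A is Sylow in G
    obtain ⟨P₀⟩ : Nonempty (Sylow p A) := inferInstance
    have hpg : IsPGroup p ((P₀ : Subgroup A).map A.subtype) := P₀.isPGroup'.map A.subtype
    have hidx2 : ¬ p ∣ ((P₀ : Subgroup A).map A.subtype).index := by
      rw [Subgroup.index_map_subtype]
      exact Nat.Prime.not_dvd_mul hp P₀.not_dvd_index hAidx
    refine ⟨hpg.toSylow hidx2, Q, ?_⟩
    show (P₀ : Subgroup A).map A.subtype ≤ A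
    exact Subgroup.map_subtype_le _

end Cfsg.Agent.S4602
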