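import Cfsg.Statements.S4604
import Mathlib
import Cfsg.Agent.S0875
import Cfsg.Agent.Lib.Helper24.IrrFacts
import Cfsg.Agent.Lib.Helper24.IntLemmas
import Cfsg.Agent.Lib.Helper6.CharExtra
import Cfsg.Agent.Lib.Helper6.CharNorm
import Cfsg.Agent.Lib.Lead.CharMore
import Cfsg.Agent.Lib.Lead.CharDecomp
import Cfsg.Agent.Lib.Helper2.PowerProj

set_option autoImplicit false
open Cfsg

namespace Cfsg.Agent.S4604

open Cfsg.Agent.CharLib Cfsg.Agent.Lib.Helper24 Cfsg.Agent.Lib.Helper6 Cfsg.Agent.Lib.Helper2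

theorem p_nonunit (p : ℕ) [hp : Fact p.Prime] : ((p : ℕ) : AlgInt) ∈ nonunits AlgInt := by
  intro hu
  obtain ⟨u, hu⟩ := hu.exists_right_inv
  have h1 : ((1 : ℕ) : ℂ) = (p : ℂ) * (u : ℂ) := by
    have := congrArg (fun z : AlgInt => (z : ℂ)) hu
    simpa using this.symm
  have := nat_dvd_of_eq_mul_isIntegral hp.out.pos u.2 h1
  exact hp.out.one_lt.ne' (Nat.dvd_one.mp this)

/-- `χ(x)^(p^a) ≡ χ(x^(p^a))` modulo `p`. -/
theorem frob_char {G : Type*} [Group G] [Finite G] (p : ℕ) [hp : Fact p.Prime] (a : ℕ)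
    {χ : G → ℂ} (hχ : IsCharacter G χ) (x : G) :
    ∃ γ : AlgInt, χ x ^ (p ^ a) - χ (x ^ (p ^ a)) = (p : ℂ) * (γ : ℂ) := by
  classical
  let A : Subgroup G := Subgroup.zpowers x
  have hψ : IsCharacter A (fun h : A => χ h) := IsCharacter.restrict hχ A
  let _ := Fintype.ofFinite A
  let _ := fintypeIrr A
  obtain ⟨m, hm, -⟩ := IsCharacter.exists_decomp_sum hψ
  have hcomm : ∀ a b : A, a * b = b * a := by
    rintro ⟨a, ha⟩ ⟨b, hb⟩
    obtain ⟨i, rfl⟩ := Subgroup.mem_zpowers_iff.mp ha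
    obtain ⟨j, rfl⟩ := Subgroup.mem_zpowers_iff.mp hb
    apply Subtype.ext
    exact zpow_mul_comm x i j
  have hlin : ∀ l : IrrCharacter A, (l : A → ℂ) 1 = 1 :=
    comm_iff_forall_irr_apply_one.mp hcomm
  let xA : A := ⟨x, Subgroup.mem_zpowers x⟩
  have hpow : ∀ (l : IrrCharacter A) (k : ℕ), (l : A → ℂ) (xA ^ k) = (l : A → ℂ) xA ^ k := by
    intro l k
    exact map_pow (linCharHom (IsIrrCharacter.isCharacter l.2) (hlin l)) xA k
  let r : IrrCharacter A → AlgInt := fun l => ⟨(l : A → ℂ) xA, irr_isIntegral l xA⟩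
  set q := p ^ a with hq
  let S : AlgInt := ∑ l : IrrCharacter A, ((m l : ℕ) : AlgInt) * r l
  let T : AlgInt := ∑ l : IrrCharacter A, ((m l : ℕ) : AlgInt) * r l ^ q
  have hS : (S : ℂ) = χ x := by
    have h1 := congrFun hm xA
    simp only [Finset.sum_apply, nsmul_eq_mul] at h1
    change χ x = _ at h1
    rw [h1]
    simp [S, r]
  have hT : (T : ℂ) = χ (x ^ q) := by
    have h1 := congrFun hm (xA ^ q)
    simp only [Finset.sum_apply, nsmul_eq_mul] at h1
    change χ (x ^ q) = _ at h1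
    rw [h1]
    simp [T, r, hpow]
  let I : Ideal AlgInt := Ideal.span {((p : ℕ) : AlgInt)}
  have hchar : CharP (AlgInt ⧸ I) p := CharP.quotient AlgInt p (p_nonunit p)
  let φ : AlgInt →+* AlgInt ⧸ I := Ideal.Quotient.mk I
  have key : φ (S ^ q) = φ T := by
    rw [map_pow, hq, ← iterateFrobenius_def (R := AlgInt ⧸ I) p a]
    simp only [S, T, map_sum, map_mul, map_natCast, map_pow, iterateFrobenius_def]
    rfl
  have hmem : S ^ q - T ∈ I := Ideal.Quotient.eq.mp key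
  obtain ⟨γ, hγ⟩ := Ideal.mem_span_singleton'.mp hmem
  refine ⟨γ, ?_⟩
  have := congrArg (fun z : AlgInt => (z : ℂ)) hγ
  simp only [MulMemClass.coe_mul, AddSubgroupClass.coe_sub, SubmonoidClass.coe_pow] at this
  rw [hS, hT] at this
  rw [← this]
  simp [mul_comm]

/-- the `p^a`-th power kills the `p`-part. -/
theorem pow_eq_of_parts {G : Type*} [Group G] [Finite G] (p : ℕ) [hp : Fact p.Prime] (x x' : G)
    (hx : (∃ k : ℕ, orderOf (x * x'⁻¹) = p ^ k) ∧ Commute (x * x'⁻¹) x' ∧ ¬ p ∣ orderOf x') :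
    x ^ (p ^ (Nat.card G).factorization p) = x' ^ (p ^ (Nat.card G).factorization p) := by
  obtain ⟨⟨k, hk⟩, hcomm, -⟩ := hx
  have hne : Nat.card G ≠ 0 := Nat.card_pos.ne'
  have h1 : p ^ k ∣ Nat.card G := hk ▸ orderOf_dvd_natCard _
  have h2 : k ≤ (Nat.card G).factorization p :=
    (Nat.Prime.pow_dvd_iff_le_factorization hp.out hne).mp h1
  have h3 : (x * x'⁻¹) ^ (p ^ (Nat.card G).factorization p) = 1 := by
    apply orderOf_dvd_iff_pow_eq_one.mp
    rw [hk]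
    exact pow_dvd_pow p h2
  have h4 : x = (x * x'⁻¹) * x' := by group
  conv_lhs => rw [h4]
  rw [hcomm.mul_pow, h3, one_mul]

theorem forward {G : Type*} [Group G] [Finite G] (p : ℕ) [hp : Fact p.Prime] (x y x' y' : G)
    (hx : (∃ k : ℕ, orderOf (x * x'⁻¹) = p ^ k) ∧ Commute (x * x'⁻¹) x' ∧ ¬ p ∣ orderOf x')
    (hy : (∃ k : ℕ, orderOf (y * y'⁻¹) = p ^ k) ∧ Commute (y * y'⁻¹) y' ∧ ¬ p ∣ orderOf y')
    (hconj : IsConj x' y') (χ : Cfsg.IrrCharacter G) : ∃ γ : Cfsg.AlgInt,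
      (χ : G → ℂ) x ^ (p ^ (Nat.card G).factorization p) -
        (χ : G → ℂ) y ^ (p ^ (Nat.card G).factorization p) = (p : ℂ) * (γ : ℂ) := by
  set q := p ^ (Nat.card G).factorization p with hq
  have hχ : IsCharacter G (χ : G → ℂ) := IsIrrCharacter.isCharacter χ.2
  obtain ⟨γ1, h1⟩ := frob_char p ((Nat.card G).factorization p) hχ x
  obtain ⟨γ2, h2⟩ := frob_char p ((Nat.card G).factorization p) hχ y
  have h3 : (χ : G → ℂ) (x ^ q) = (χ : G → ℂ) (y ^ q) := by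
    rw [hq, pow_eq_of_parts p x x' hx, pow_eq_of_parts p y y' hy]
    obtain ⟨c, hc⟩ := isConj_iff.mp hconj
    rw [← hc, conj_pow]
    exact (IsCharacter.isClassFunction hχ _ _).symm
  refine ⟨γ1 - γ2, ?_⟩
  rw [← hq] at h1 h2
  push_cast
  rw [mul_sub, ← h1, ← h2, h3]
  ring

/-- uniqueness of the `p'`-part via the projecting power. -/
theorem part_eq_pow {G : Type*} [Group G] [Finite G] {m n e : ℕ} (hcard : Nat.card G = m * n)
    (hm : m ∣ e) (he : e ≡ 1 [MOD n]) (y u v : G) (hy : y = u * v) (hcomm : Commute u v)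
    (hu : Nat.Coprime (orderOf u) n) (hv : Nat.Coprime (orderOf v) m) : y ^ e = v := by
  have hu' : orderOf u ∣ m :=
    hu.dvd_of_dvd_mul_right (hcard ▸ orderOf_dvd_natCard u)
  have hv' : orderOf v ∣ n :=
    hv.dvd_of_dvd_mul_left (hcard ▸ orderOf_dvd_natCard v)
  rw [hy, hcomm.mul_pow, pow_eq_one_of_orderOf_dvd' hm hu', one_mul,
    pow_eq_self_of_orderOf_dvd he hv']

theorem backward {G : Type*} [Group G] [Finite G] (p : ℕ) [hp : Fact p.Prime] (x y x' y' : G)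
    (hx : (∃ k : ℕ, orderOf (x * x'⁻¹) = p ^ k) ∧ Commute (x * x'⁻¹) x' ∧ ¬ p ∣ orderOf x')
    (hy : (∃ k : ℕ, orderOf (y * y'⁻¹) = p ^ k) ∧ Commute (y * y'⁻¹) y' ∧ ¬ p ∣ orderOf y')
    (H : ∀ χ : Cfsg.IrrCharacter G, ∃ γ : Cfsg.AlgInt,
      (χ : G → ℂ) x ^ (p ^ (Nat.card G).factorization p) -
        (χ : G → ℂ) y ^ (p ^ (Nat.card G).factorization p) = (p : ℂ) * (γ : ℂ)) :
    IsConj x' y' := by
  classical
  by_contra hne
  let _ := Fintype.ofFinite G
  let _ := fintypeIrr G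
  have hcard0 : Nat.card G ≠ 0 := Nat.card_pos.ne'
  set a := (Nat.card G).factorization p with ha
  set m := p ^ a with hm
  set n := Nat.card G / p ^ a with hn
  have hmn : Nat.card G = m * n := (Nat.ordProj_mul_ordCompl_eq_self (Nat.card G) p).symm
  have hpn : Nat.Coprime p n := Nat.coprime_ordCompl hp.out hcard0
  have hcop : Nat.Coprime m n := hpn.pow_left a
  have hxm : Nat.Coprime (orderOf x') m :=
    (((Nat.Prime.coprime_iff_not_dvd hp.out).mpr hx.2.2).symm).pow_right a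
  have hym : Nat.Coprime (orderOf y') m :=
    (((Nat.Prime.coprime_iff_not_dvd hp.out).mpr hy.2.2).symm).pow_right a
  let ϑ : G → ℂ := fun z => if (∃ v : G, IsConj v x' ∧ (∃ u : G, z = u * v ∧ Commute u v ∧
      Nat.Coprime (orderOf u) n ∧ Nat.Coprime (orderOf v) m)) then (n : ℂ) else 0
  obtain ⟨c, hc, hϑ⟩ := Cfsg.Agent.S0875.result m n hmn hcop x' hxm ϑ
    (fun z h => if_pos h) (fun z h => if_neg h)
  rw [finsum_eq_sum_of_fintype] at hϑ
  -- values of ϑ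
  have hϑx : ϑ x = n := by
    apply if_pos
    obtain ⟨k, hk⟩ := hx.1
    refine ⟨x', IsConj.refl _, x * x'⁻¹, by group, hx.2.1, ?_, hxm⟩
    rw [hk]
    exact hpn.pow_left k
  have hϑy : ϑ y = 0 := by
    apply if_neg
    rintro ⟨v, hv, u, hyuv, hcomm, hu, hv'⟩
    obtain ⟨e, he1, he2⟩ := Nat.chineseRemainder hcop 0 1
    have hme : m ∣ e := (Nat.modEq_zero_iff_dvd).mp he1
    have h1 : y ^ e = v := part_eq_pow hmn hme he2 y u v hyuv hcomm hu hv'
    obtain ⟨k, hk⟩ := hy.1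
    have h2 : y ^ e = y' := by
      apply part_eq_pow hmn hme he2 y (y * y'⁻¹) y' (by group) hy.2.1 _ hym
      rw [hk]
      exact hpn.pow_left k
    apply hne
    rw [← h2, h1]
    exact hv.symm
  -- pass to the ring of algebraic integers
  let cR : IrrCharacter G → AlgInt := fun χ => ⟨c χ, hc χ⟩
  let vx : IrrCharacter G → AlgInt := fun χ => ⟨(χ : G → ℂ) x, irr_isIntegral χ x⟩
  let vy : IrrCharacter G → AlgInt := fun χ => ⟨(χ : G → ℂ) y, irr_isIntegral χ y⟩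
  have hnR : ((n : ℕ) : AlgInt) = ∑ χ : IrrCharacter G, cR χ * (vx χ - vy χ) := by
    apply Subtype.ext
    have h1 := congrFun hϑ x
    have h2 := congrFun hϑ y
    rw [hϑx] at h1
    rw [hϑy] at h2
    simp only [Finset.sum_apply, Pi.smul_apply, smul_eq_mul] at h1 h2
    push_cast
    simp only [cR, vx, vy, mul_sub, Finset.sum_sub_distrib]
    rw [← h1, ← h2, sub_zero]
  let I : Ideal AlgInt := Ideal.span {((p : ℕ) : AlgInt)}
  have hchar : CharP (AlgInt ⧸ I) p := CharP.quotient AlgInt p (p_nonunit p)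
  let φ : AlgInt →+* AlgInt ⧸ I := Ideal.Quotient.mk I
  have hd : ∀ χ : IrrCharacter G, iterateFrobenius (AlgInt ⧸ I) p a (φ (vx χ - vy χ)) = 0 := by
    intro χ
    rw [map_sub, map_sub, iterateFrobenius_def, iterateFrobenius_def, ← map_pow, ← map_pow,
      ← map_sub]
    apply Ideal.Quotient.eq_zero_iff_mem.mpr
    apply Ideal.mem_span_singleton'.mpr
    obtain ⟨γ, hγ⟩ := H χ
    refine ⟨γ, ?_⟩
    apply Subtype.ext
    push_cast
    rw [mul_comm, ← hγ]
  have hn0 : φ (((n : ℕ) : AlgInt) ^ p ^ a) = 0 := by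
    rw [map_pow, ← iterateFrobenius_def (R := AlgInt ⧸ I) p a, hnR]
    simp only [map_sum, map_mul]
    apply Finset.sum_eq_zero
    intro χ _
    rw [hd χ, mul_zero]
  have hmem : ((n : ℕ) : AlgInt) ^ p ^ a ∈ I := Ideal.Quotient.eq_zero_iff_mem.mp hn0
  obtain ⟨γ, hγ⟩ := Ideal.mem_span_singleton'.mp hmem
  have h5 : ((n ^ p ^ a : ℕ) : ℂ) = (p : ℂ) * (γ : ℂ) := by
    have := congrArg (fun z : AlgInt => (z : ℂ)) hγ
    simp only [MulMemClass.coe_mul, SubmonoidClass.coe_pow] at this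
    have e1 : (((p : ℕ) : AlgInt) : ℂ) = (p : ℂ) := by simp
    have e2 : (((n : ℕ) : AlgInt) : ℂ) = (n : ℂ) := by simp
    rw [e1, e2] at this
    push_cast
    rw [← this, mul_comm]
  have h6 : p ∣ n ^ p ^ a := nat_dvd_of_eq_mul_isIntegral hp.out.pos γ.2 h5
  have h7 : p ∣ n := hp.out.dvd_of_dvd_pow h6
  have h8 := Nat.eq_one_of_dvd_coprimes hpn (dvd_refl p) h7
  exact hp.out.one_lt.ne' h8

theorem result' {G : Type*} [Group G] [Finite G] (p : ℕ) [Fact p.Prime] (x y x' y' : G)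
    (hx : (∃ k : ℕ, orderOf (x * x'⁻¹) = p ^ k) ∧ Commute (x * x'⁻¹) x' ∧ ¬ p ∣ orderOf x')
    (hy : (∃ k : ℕ, orderOf (y * y'⁻¹) = p ^ k) ∧ Commute (y * y'⁻¹) y' ∧ ¬ p ∣ orderOf y') :
    IsConj x' y' ↔ ∀ χ : Cfsg.IrrCharacter G, ∃ γ : Cfsg.AlgInt,
      (χ : G → ℂ) x ^ (p ^ (Nat.card G).factorization p) - (χ : G → ℂ) y ^ (p ^ (Nat.card G).factorization p) = (p : ℂ) * (γ : ℂ) :=
  ⟨fun h χ => forward p x y x' y' hx hy h χ, backward p x y x' y' hx hy⟩

/-- Let G be a finite group, p a prime and p^a the p-part of the order of G. Let x, y ∈ G and let x′, y′ be their p-regular parts: x′ has order prime to p, commutes with x·x′⁻¹, and x·x′⁻¹ has p-power order (likewise for y). Then x′ and y′ are conjugate in G if and only if for every irreducible character χ of G the algebraic integer χ(x)^(p^a) − χ(y)^(p^a) is p times an algebraic integer. -/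
theorem result {G : Type*} [Group G] [Finite G] (p : ℕ) [Fact p.Prime] (x y x' y' : G)
    (hx : (∃ k : ℕ, orderOf (x * x'⁻¹) = p ^ k) ∧ Commute (x * x'⁻¹) x' ∧ ¬ p ∣ orderOf x')
    (hy : (∃ k : ℕ, orderOf (y * y'⁻¹) = p ^ k) ∧ Commute (y * y'⁻¹) y' ∧ ¬ p ∣ orderOf y') :
    IsConj x' y' ↔ ∀ χ : Cfsg.IrrCharacter G, ∃ γ : Cfsg.AlgInt,
      (χ : G → ℂ) x ^ (p ^ (Nat.card G).factorization p) - (χ : G → ℂ) y ^ (p ^ (Nat.card G).factorization p) = (p : ℂ) * (γ : ℂ) := by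
  exact result' p x y x' y' hx hy

end Cfsg.Agent.S4604
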