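import Cfsg.Statements.S4620
import Cfsg.Agent.Lib.Helper24.TISylow

set_option autoImplicit false
open scoped Pointwise
open Cfsg

namespace Cfsg.Agent.S4620

open Cfsg.Agent.Lib.Helper24 Cfsg
open scoped Pointwise

/-- Let H be a finite group with no nontrivial normal p-subgroup and no nontrivial normal subgroup of order prime to p, whose Sylow p-subgroup P is nontrivial and a trivial-intersection set (P meets its conjugates by elements outside N_H(P) trivially). Then H has a unique minimal normal subgroup N; N is non-abelian simple with trivial centralizer in H (so H embeds in Aut(N)), and a Sylow p-subgroup of N is again a nontrivial trivial-intersection set in N. -/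
theorem result {H : Type*} [Group H] [Finite H] (p : ℕ) [Fact p.Prime] (hOp : Cfsg.pCore p H = ⊥) (hOp' : Cfsg.pPrimeCore p H = ⊥) (P : Sylow p H) (hP1 : (P : Subgroup H) ≠ ⊥)
    (hTI : ∀ g : H, g ∉ Subgroup.normalizer ((P : Subgroup H) : Set H) → (P : Subgroup H) ⊓ (MulAut.conj g • (P : Subgroup H)) = ⊥) :
    ∃ N : Subgroup H, N.Normal ∧ N ≠ ⊥ ∧ (∀ K : Subgroup H, K.Normal → K ≠ ⊥ → N ≤ K) ∧
      IsSimpleGroup N ∧ ¬ IsMulCommutative N ∧ Subgroup.centralizer (N : Set H) = ⊥ ∧
      ∀ Q : Sylow p N, (Q : Subgroup N) ≠ ⊥ ∧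
        ∀ n : N, n ∉ Subgroup.normalizer ((Q : Subgroup N) : Set N) → (Q : Subgroup N) ⊓ (MulAut.conj n • (Q : Subgroup N)) = ⊥ := by
  classical
  have hp : p.Prime := Fact.out
  -- the key lemma specialised
  have hkey : ∀ X Y : Subgroup H, X.IsSubnormal → Y.IsSubnormal → X ≠ ⊥ → Y ≠ ⊥ →
      (∀ x ∈ X, ∀ y ∈ Y, x * y = y * x) → False :=
    fun X Y hX hY hX1 hY1 hXY => false_of_subnormal_commute hOp hOp' P hTI X Y hX hY hX1 hY1 hXY
  -- a minimal normal subgroup
  let 𝒮 : Set (Subgroup H) := {K | K.Normal ∧ K ≠ ⊥}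
  have htop : (⊤ : Subgroup H) ∈ 𝒮 := by
    refine ⟨inferInstance, ?_⟩
    intro h
    apply hP1
    rw [eq_bot_iff, ← h]
    exact le_top
  haveI : Nonempty 𝒮 := ⟨⟨⊤, htop⟩⟩
  obtain ⟨⟨M, hMn, hM1⟩, hmin⟩ := Finite.exists_min (fun K : 𝒮 => Nat.card (K : Subgroup H))
  have hminM : ∀ K : Subgroup H, K.Normal → K ≠ ⊥ → K ≤ M → K = M := by
    intro K hKn hK1 hKM
    exact Subgroup.eq_of_le_of_card_ge hKM (hmin ⟨K, hKn, hK1⟩)
  have hMsub : M.IsSubnormal := hMn.isSubnormal
  have hpM : p ∣ Nat.card M := by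
    by_contra hnd
    have hc : (Nat.card M).Coprime p := ((Nat.Prime.coprime_iff_not_dvd hp).mpr hnd).symm
    have := Cfsg.Agent.Lib.Helper12.le_pPrimeCore p M hMn hc
    rw [hOp', le_bot_iff] at this
    exact hM1 this
  -- uniqueness
  have huniq : ∀ K : Subgroup H, K.Normal → K ≠ ⊥ → M ≤ K := by
    intro K hKn hK1
    by_cases hKM : K ⊓ M = ⊥
    · exfalso
      apply hkey K M hKn.isSubnormal hMsub hK1 hM1
      intro x hx y hy
      exact Subgroup.commute_of_normal_of_disjoint K M hKn hMn (disjoint_iff.mpr hKM) x y hx hy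
    · have hn : (K ⊓ M).Normal := Subgroup.normal_inf_normal K M
      have := hminM (K ⊓ M) hn hKM inf_le_right
      rw [← this]
      exact inf_le_left
  -- simplicity
  have hMnontriv : Nontrivial M := by
    rw [Subgroup.nontrivial_iff_ne_bot]
    exact hM1
  have hsimple : IsSimpleGroup M := by
    refine ⟨?_⟩
    intro K' hK'n
    by_contra hcon
    rw [not_or] at hcon
    obtain ⟨hK'1, hK'2⟩ := hcon
    -- subgroups of M normalised by M
    let 𝒯 : Set (Subgroup H) := {I | I ≠ ⊥ ∧ I ≤ M ∧ ∀ m ∈ M, ∀ i ∈ I, m * i * m⁻¹ ∈ I}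
    have hKmem : K'.map M.subtype ∈ 𝒯 := by
      refine ⟨?_, ?_, ?_⟩
      · intro h
        apply hK'1
        rw [eq_bot_iff]
        intro k hk
        have : (k : H) ∈ K'.map M.subtype := ⟨k, hk, rfl⟩
        rw [h, Subgroup.mem_bot] at this
        rw [Subgroup.mem_bot]
        exact Subtype.ext this
      · rintro _ ⟨k, _, rfl⟩
        exact k.2
      · rintro m hm _ ⟨k, hk, rfl⟩
        exact ⟨(⟨m, hm⟩ : M) * k * (⟨m, hm⟩ : M)⁻¹, hK'n.conj_mem k hk ⟨m, hm⟩, rfl⟩
    have hKcard : Nat.card (K'.map M.subtype) < Nat.card M := by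
      rw [Subgroup.card_map_of_injective M.subtype_injective]
      by_contra hge
      rw [not_lt] at hge
      exact hK'2 (Subgroup.eq_top_of_le_card K' hge)
    haveI : Nonempty 𝒯 := ⟨⟨_, hKmem⟩⟩
    obtain ⟨⟨I, hI1, hIM, hIn⟩, hminI⟩ := Finite.exists_min (fun I : 𝒯 => Nat.card (I : Subgroup H))
    have hIcard : Nat.card I < Nat.card M := lt_of_le_of_lt (hminI ⟨_, hKmem⟩) hKcard
    have hIsub : I.IsSubnormal := isSubnormal_of_le_of_normalized I M hMn hIM hIn
    -- conjugates of I
    have hconj : ∀ h : H, MulAut.conj h • I ∈ 𝒯 := by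
      intro h
      refine ⟨?_, ?_, ?_⟩
      · intro hb
        apply hI1
        rw [eq_bot_iff]
        intro i hi
        have : h * i * h⁻¹ ∈ MulAut.conj h • I := by
          rw [mem_conj_smul_iff'']
          have : h⁻¹ * (h * i * h⁻¹) * h = i := by group
          rw [this]; exact hi
        rw [hb, Subgroup.mem_bot] at this
        rw [Subgroup.mem_bot]
        have h2 : i = h⁻¹ * (h * i * h⁻¹) * h := by group
        rw [h2, this]; group
      · intro x hx
        rw [mem_conj_smul_iff''] at hx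
        have h1 := hMn.conj_mem _ (hIM hx) h
        have h2 : h * (h⁻¹ * x * h) * h⁻¹ = x := by group
        rw [h2] at h1
        exact h1
      · intro m hm x hx
        rw [mem_conj_smul_iff''] at hx ⊢
        have hm' : h⁻¹ * m * h ∈ M := by
          have := hMn.conj_mem m hm h⁻¹
          rwa [inv_inv] at this
        have h1 := hIn _ hm' _ hx
        have h2 : h⁻¹ * m * h * (h⁻¹ * x * h) * (h⁻¹ * m * h)⁻¹ = h⁻¹ * (m * x * m⁻¹) * h := by group
        rw [h2] at h1
        exact h1
    by_cases hall : ∀ h : H, I ⊓ MulAut.conj h • I ≠ ⊥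
    · -- I is normal in H
      have hle : ∀ h : H, I ≤ MulAut.conj h • I := by
        intro h
        have hJ : I ⊓ MulAut.conj h • I ∈ 𝒯 := by
          refine ⟨hall h, (inf_le_left : I ⊓ MulAut.conj h • I ≤ I).trans hIM, ?_⟩
          intro m hm x hx
          have hx' := Subgroup.mem_inf.mp hx
          exact Subgroup.mem_inf.mpr ⟨hIn m hm x hx'.1, (hconj h).2.2 m hm x hx'.2⟩
        have := Subgroup.eq_of_le_of_card_ge (inf_le_left : I ⊓ MulAut.conj h • I ≤ I) (hminI ⟨_, hJ⟩)
        have h3 : I ≤ I ⊓ MulAut.conj h • I := le_of_eq this.symm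
        exact h3.trans inf_le_right
      have hInormal : I.Normal := by
        refine ⟨?_⟩
        intro n hn g
        have := hle g⁻¹ hn
        rw [mem_conj_smul_iff'', inv_inv] at this
        exact this
      have := hminM I hInormal hI1 hIM
      rw [this] at hIcard
      exact lt_irrefl _ hIcard
    · push Not at hall
      obtain ⟨h, hh⟩ := hall
      have hc := hconj h
      apply hkey I (MulAut.conj h • I) hIsub
        (isSubnormal_of_le_of_normalized _ M hMn hc.2.1 hc.2.2) hI1 hc.1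
      exact commute_of_normalized_of_inf_eq_bot I (MulAut.conj h • I) M hIM hc.2.1 hIn hc.2.2 hh
  -- nonabelian
  have hnonab : ¬ IsMulCommutative M := by
    intro hcomm
    apply hkey M M hMsub hMsub hM1 hM1
    intro x hx y hy
    have := hcomm.is_comm.comm (⟨x, hx⟩ : M) ⟨y, hy⟩
    exact congrArg Subtype.val this
  -- trivial centralizer
  have hcent : Subgroup.centralizer (M : Set H) = ⊥ := by
    by_contra hne
    haveI := hMn
    have hCn : (Subgroup.centralizer (M : Set H)).Normal := Subgroup.normal_centralizer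
    apply hkey (Subgroup.centralizer (M : Set H)) M hCn.isSubnormal hMsub hne hM1
    intro x hx y hy
    exact ((Subgroup.mem_centralizer_iff.mp hx) y hy).symm
  refine ⟨M, hMn, hM1, huniq, hsimple, hnonab, hcent, ?_⟩
  intro Q
  have hpM' : p ∣ Nat.card M := hpM
  refine ⟨Sylow.ne_bot_of_dvd_card Q hpM', ?_⟩
  intro n hn
  by_contra hne
  obtain ⟨⟨x, hx⟩, hx1⟩ := (Subgroup.ne_bot_iff_exists_ne_one.mp hne)
  have hx' := Subgroup.mem_inf.mp hx
  have hxQ : x ∈ (Q : Subgroup M) := hx'.1
  have hxn : n⁻¹ * x * n ∈ (Q : Subgroup M) := by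
    have := hx'.2
    rwa [mem_conj_smul_iff''] at this
  have hxH1 : (x : H) ≠ 1 := by
    intro h
    apply hx1
    apply Subtype.ext
    apply Subtype.ext
    exact h
  have hQHp : IsPGroup p ((Q : Subgroup M).map M.subtype) := Q.isPGroup'.map M.subtype
  obtain ⟨P', hP'⟩ := hQHp.exists_le_sylow
  have hxP : (x : H) ∈ (P' : Subgroup H) := hP' ⟨x, hxQ, rfl⟩
  have hxnP : (n : H)⁻¹ * x * n ∈ (P' : Subgroup H) := hP' ⟨n⁻¹ * x * n, hxn, by simp⟩
  have hxn' : (x : H) ∈ (((n : H) • P' : Sylow p H) : Subgroup H) := by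
    rw [mem_smul_sylow_iff]; exact hxnP
  have hPeq := sylow_eq_of_mem_of_ti P hTI ((n : H) • P') P' x hxH1 hxn' hxP
  have hnN : (n : H) ∈ Subgroup.normalizer ((P' : Subgroup H) : Set H) :=
    Sylow.smul_eq_iff_mem_normalizer.mp hPeq
  have hQ' : (P' : Subgroup H).subgroupOf M = Q := by
    apply Q.is_maximal'
    · exact P'.isPGroup'.comap_subtype
    · intro y hy
      rw [Subgroup.mem_subgroupOf]
      exact hP' ⟨y, hy, rfl⟩
  apply hn
  rw [Subgroup.mem_normalizer_iff]
  intro y
  rw [← hQ', Subgroup.mem_subgroupOf, Subgroup.mem_subgroupOf]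
  have := (Subgroup.mem_normalizer_iff.mp hnN) (y : H)
  simpa using this

end Cfsg.Agent.S4620
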