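import Cfsg.Statements.S4623
import Mathlib
import Cfsg.Agent.Lib.Helper20.SymGenG

set_option autoImplicit false
open Cfsg

namespace Cfsg.Agent.S4623

open Cfsg.Agent.Lib.Helper20.SymGen Equiv Equiv.Perm

theorem pow_mem_comm_of_gen {G : Type*} [Group G] {α : Type*} [Fintype α] [DecidableEq α]
    (p : ℕ) (f : G →* Perm α) (hf : Function.Injective f) (I : Set (Perm α))
    (hI : Subgroup.closure I = f.range) (hpI : ∀ a ∈ I, a ^ p = 1) (x : G) :
    x ^ p ∈ commutator G := by
  apply pow_mem_commutator_of_closure p (f ⁻¹' I) (closure_preimage_eq_top f hf I hI)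
  intro a ha
  apply hf
  rw [map_pow, map_one]
  exact hpI _ ha

theorem sign_eq_one_of_odd_pgroup {α : Type*} [Fintype α] [DecidableEq α] (p : ℕ)
    [hp : Fact p.Prime] (hp2 : p ≠ 2) (R : Subgroup (Perm α)) (hR : IsPGroup p R) :
    R ≤ alternatingGroup α := by
  intro r hr
  rw [mem_alternatingGroup]
  obtain ⟨k, hk⟩ := hR ⟨r, hr⟩
  have hk' : r ^ p ^ k = 1 := by
    have := congrArg Subtype.val hk
    simpa using this
  have h1 : sign r ^ p ^ k = 1 := by rw [← map_pow, hk', map_one]
  rcases Int.units_eq_one_or (sign r) with h | h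
  · exact h
  · exfalso
    rw [h] at h1
    have hodd : Odd (p ^ k) := (hp.out.odd_of_ne_two hp2).pow
    rw [hodd.neg_one_pow] at h1
    exact absurd h1 (by decide)

theorem alt_part (p : ℕ) [Fact p.Prime] (n : ℕ) (A : Subgroup (Perm (Fin n)))
    (hA : A = alternatingGroup (Fin n)) (Q : Sylow p A) :
    ∀ x : (Q : Subgroup A), x ^ p ∈ commutator (Q : Subgroup A) := by
  obtain ⟨Q', hQ'⟩ : ∃ Q' : Subgroup (Perm (Fin n)), Q' = (Q : Subgroup A).map A.subtype := ⟨_, rfl⟩
  let f : (Q : Subgroup A) →* Perm (Fin n) := A.subtype.comp (Q : Subgroup A).subtype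
  have hf : Function.Injective f :=
    (Subgroup.subtype_injective _).comp (Subgroup.subtype_injective _)
  have hrange : f.range = Q' := by
    rw [hQ', MonoidHom.range_comp, Subgroup.range_subtype]
  have hQ'p : IsPGroup p Q' := by
    rw [hQ']
    exact Q.isPGroup'.map A.subtype
  have hQ'A : Q' ≤ A := by
    rw [hQ']
    exact Subgroup.map_subtype_le _
  -- Lemma X: any p-subgroup R ≤ A containing Q' equals Q'
  have hX : ∀ R : Subgroup (Perm (Fin n)), IsPGroup p R → R ≤ A → Q' ≤ R → R = Q' := by
    intro R hR hRA hQR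
    have h1 : IsPGroup p (R.comap A.subtype) :=
      hR.comap_of_injective A.subtype (Subgroup.subtype_injective _)
    have h2 : (Q : Subgroup A) ≤ R.comap A.subtype := by
      intro q hq
      rw [Subgroup.mem_comap]
      apply hQR
      rw [hQ']
      exact Subgroup.mem_map_of_mem _ hq
    have h3 : R.comap A.subtype = (Q : Subgroup A) := Q.is_maximal' h1 h2
    rw [hQ', ← h3, Subgroup.map_comap_eq_self]
    rw [Subgroup.range_subtype]
    exact hRA
  intro x
  by_cases hp2 : p = 2
  · subst hp2
    obtain ⟨S, hS⟩ := hQ'p.exists_le_sylow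
    obtain ⟨I, hI, hpI, hcomm⟩ := gen_of_isMaxP 2 n (Fin n) (Fintype.card_fin n)
      (S : Subgroup (Perm (Fin n))) (IsMaxP.of_sylow S)
    obtain ⟨J, hJ, hJ2⟩ := closure_even (S : Subgroup (Perm (Fin n))) I hI hpI hcomm
    have hSA : (S : Subgroup (Perm (Fin n))) ⊓ A = Q' := by
      apply hX
      · exact S.isPGroup'.to_le inf_le_left
      · exact inf_le_right
      · exact le_inf hS hQ'A
    refine pow_mem_comm_of_gen 2 f hf J ?_ hJ2 x
    rw [hrange, hJ, ← hA, hSA]
  · have hmax : IsMaxP p Q' := by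
      refine ⟨hQ'p, ?_⟩
      intro R hR hQR
      exact hX R hR (hA ▸ sign_eq_one_of_odd_pgroup p hp2 R hR) hQR
    obtain ⟨I, hI, hpI, _⟩ := gen_of_isMaxP p n (Fin n) (Fintype.card_fin n) Q' hmax
    refine pow_mem_comm_of_gen p f hf I ?_ hpI x
    rw [hrange, hI]

/-- For every prime p and every n, a Sylow p-subgroup P of the symmetric group on n letters has P/P' elementary abelian (the p-th power of every element of P lies in the derived subgroup of P), and the same holds for a Sylow p-subgroup of the alternating group on n letters. -/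
theorem result (p : ℕ) [Fact p.Prime] (n : ℕ) (P : Sylow p (Equiv.Perm (Fin n))) (Q : Sylow p (alternatingGroup (Fin n))) :
    (∀ x : (P : Subgroup (Equiv.Perm (Fin n))), x ^ p ∈ commutator (P : Subgroup (Equiv.Perm (Fin n)))) ∧
    (∀ x : (Q : Subgroup (alternatingGroup (Fin n))), x ^ p ∈ commutator (Q : Subgroup (alternatingGroup (Fin n)))) := by
  constructor
  · obtain ⟨I, hI, hpI, _⟩ := gen_of_isMaxP p n (Fin n) (Fintype.card_fin n) (P : Subgroup (Perm (Fin n)))
      (IsMaxP.of_sylow P)
    intro x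
    refine pow_mem_comm_of_gen p (P : Subgroup (Perm (Fin n))).subtype
      (Subgroup.subtype_injective _) I ?_ hpI x
    rw [Subgroup.range_subtype]
    exact hI
  · exact alt_part p n (alternatingGroup (Fin n)) rfl Q

end Cfsg.Agent.S4623
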