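import Cfsg.Statements.S4626
import Cfsg.Agent.Lib.Helper24.Deflation
import Cfsg.Agent.Lib.Helper24.LocalRing

set_option autoImplicit false
open Cfsg

namespace Cfsg.Agent.S4626

theorem mem_of_not_dvd_index_centralizer {G : Type*} [Group G] [Finite G] (p : ℕ) [Fact p.Prime]
    (P : Sylow p G) (N : Subgroup G) [N.Normal]
    (hC : Subgroup.centralizer ((P : Subgroup G) : Set G) ≤ N) (g : G)
    (hg : ¬ p ∣ (Subgroup.centralizer ({g} : Set G)).index) : g ∈ N := by
  set C := Subgroup.centralizer ({g} : Set G) with hCdef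
  have hfix := IsPGroup.nonempty_fixed_point_of_prime_not_dvd_card (p := p) (G := (P : Subgroup G)) P.isPGroup'
    (G ⧸ C) (by rwa [← Subgroup.index_eq_card])
  obtain ⟨q, hq⟩ := hfix
  obtain ⟨y, rfl⟩ := QuotientGroup.mk_surjective q
  have h1 : ∀ x ∈ (P : Subgroup G), y⁻¹ * x * y ∈ C := by
    intro x hx
    have := hq ⟨x, hx⟩
    have h2 : ((x * y : G) : G ⧸ C) = (y : G ⧸ C) := this
    rw [QuotientGroup.eq] at h2
    have h3 := C.inv_mem h2
    simpa [mul_assoc] using h3
  have h2 : y * g * y⁻¹ ∈ Subgroup.centralizer ((P : Subgroup G) : Set G) := by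
    rw [Subgroup.mem_centralizer_iff]
    intro x hx
    have h3 := h1 x hx
    rw [hCdef, Subgroup.mem_centralizer_iff] at h3
    have h4 := h3 g (Set.mem_singleton g)
    calc x * (y * g * y⁻¹) = y * (y⁻¹ * x * y * g) * y⁻¹ := by group
      _ = y * (g * (y⁻¹ * x * y)) * y⁻¹ := by rw [h4]
      _ = y * g * y⁻¹ * x := by group
  have h3 := hC h2
  have h4 := (inferInstance : N.Normal).conj_mem _ h3 y⁻¹
  simpa [mul_assoc] using h4

/-- Let G be a finite group, p a prime, M a maximal ideal of the algebraic integers containing p, P a Sylow p-subgroup of G and N a normal subgroup of index prime to p containing the centralizer C_G(P). Then every irreducible character of G whose kernel contains N lies in the principal p-block of G. -/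
theorem result {G : Type*} [Group G] [Finite G] (p : ℕ) [Fact p.Prime] (M : Ideal Cfsg.AlgInt) (hM : Cfsg.IsPModular p M) (P : Sylow p G) (N : Subgroup G) [N.Normal] (hidx : ¬ p ∣ N.index)
    (hC : Subgroup.centralizer ((P : Subgroup G) : Set G) ≤ N) (χ : Cfsg.IrrCharacter G) (hker : ∀ n ∈ N, (χ : G → ℂ) n = (χ : G → ℂ) 1) :
    χ ∈ Cfsg.principalBlock M G := by
  obtain ⟨χf, n, ρ, hirr, hχ⟩ := χ
  have hirr' : ρ.IsIrreducible := hirr
  show Cfsg.SameBlock M (fun _ : G => (1 : ℂ)) χf
  have hM1 := Cfsg.Agent.Lib.Helper24.one_not_mem_of_isPModular hM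
  have hfr : Module.finrank ℂ (Fin n → ℂ) = n := Module.finrank_fin_fun ℂ
  have hone : χf 1 = (n : ℂ) := by
    rw [← hχ, Representation.char_one, hfr]
  have hker' : ∀ m ∈ N, ρ.character m = (Module.finrank ℂ (Fin n → ℂ) : ℂ) := by
    intro m hm
    have := hker m hm
    simp only at this
    rw [hfr, hχ, this, hone]
  have hdvd : n ∣ N.index := by
    have := Cfsg.Agent.Lib.Helper24.finrank_dvd_index_of_le_ker N ρ hker'
    rwa [hfr] at this
  have hpn : ¬ p ∣ n := fun h => hidx (h.trans hdvd)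
  have hnM : ((n : ℕ) : Cfsg.AlgInt) ∉ M := Cfsg.Agent.Lib.Helper24.natCast_not_mem_of_not_dvd hM hpn
  have hn0 : (n : ℂ) ≠ 0 := by
    have := Cfsg.Agent.Lib.Helper24.coe_ne_zero_of_not_mem hnM
    simpa using this
  intro g
  unfold Cfsg.centralChar
  by_cases hk : p ∣ (Subgroup.centralizer ({g} : Set G)).index
  · -- the class size is divisible by p
    have hint : IsIntegral ℤ (χf g) := by
      rw [← hχ]
      exact Cfsg.Agent.CharLib.isIntegral_char ρ g
    let c : Cfsg.AlgInt := ⟨χf g, hint⟩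
    have hkM := Cfsg.Agent.Lib.Helper24.natCast_mem_of_dvd hM hk
    refine ⟨(((Subgroup.centralizer ({g} : Set G)).index : ℕ) : Cfsg.AlgInt) * ((n : Cfsg.AlgInt) - c), (n : Cfsg.AlgInt),
      M.mul_mem_right _ hkM, hnM, ?_⟩
    rw [hone]
    have hc : (c : ℂ) = χf g := rfl
    push_cast
    rw [hc]
    field_simp
  · have hgN := mem_of_not_dvd_index_centralizer p P N hC g hk
    have := hker g hgN
    simp only at this
    rw [this, hone]
    have h0 : ((Subgroup.centralizer ({g} : Set G)).index : ℂ) * 1 / 1 - ((Subgroup.centralizer ({g} : Set G)).index : ℂ) * (n : ℂ) / (n : ℂ) = 0 := by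
      field_simp
      ring
    rw [h0]
    exact Cfsg.Agent.Lib.Helper24.memLocalIdeal_zero hM1

end Cfsg.Agent.S4626
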