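import Cfsg.Statements.S4633
import Cfsg.Agent.Lib.Lead.CyclicAut
import Cfsg.Agent.Lib.Helper6.StabIndex
import Cfsg.Agent.Lib.Helper24.ConjBlock
import Cfsg.Agent.Lib.Helper6.ExtFirstMain

set_option autoImplicit false
open Cfsg

namespace Cfsg.Agent.S4633

/-- Let B be a block of the finite group G relative to a maximal ideal M of the algebraic integers containing the prime p, with a nontrivial cyclic defect group P. Let c be a block of C_G(P) inducing B and T the stabilizer of c in N_G(P) (the elements of N_G(P) conjugating c to itself); T contains C_G(P). Then T/C_G(P) is cyclic of order dividing p − 1, and it acts freely on the non-identity elements of P: an element of T fixing some non-identity element of P under conjugation lies in C_G(P). -/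
theorem result {G : Type*} [Group G] [Finite G] (p : ℕ) [Fact p.Prime] (M : Ideal Cfsg.AlgInt) (hM : Cfsg.IsPModular p M) (B : Set (Cfsg.IrrCharacter G)) (hB : Cfsg.IsPBlock M B) (P : Subgroup G) (hPD : Cfsg.IsDefectGroup p M B P) (hP1 : P ≠ ⊥) (hcyc : IsCyclic P) (c : Set (Cfsg.IrrCharacter (Subgroup.centralizer (P : Set G)))) (hc : Cfsg.IsInducedBlock M (Subgroup.centralizer (P : Set G)) c B) (T : Subgroup G) (hT : ∀ g : G, g ∈ T ↔ (g ∈ Subgroup.normalizer (P : Set G) ∧ Cfsg.StabilizesBlock (Subgroup.centralizer (P : Set G)) c g)) [hn : ((Subgroup.centralizer (P : Set G)).subgroupOf T).Normal] : IsCyclic (T ⧸ (Subgroup.centralizer (P : Set G)).subgroupOf T) ∧ (Subgroup.centralizer (P : Set G)).relIndex T ∣ p - 1 ∧ ∀ g ∈ T, ∀ x ∈ P, x ≠ 1 → g * x * g⁻¹ = x → g ∈ Subgroup.centralizer (P : Set G) := by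
  classical
  have hp : p.Prime := Fact.out
  have hPp : IsPGroup p P := Cfsg.Agent.Lib.Helper6.ExtFirstMain.isPGroup_of_isDefectGroup hPD
  -- `P ≤ C_G(P)`
  have hPC : P ≤ Subgroup.centralizer (P : Set G) := by
    intro a ha
    rw [Subgroup.mem_centralizer_iff]
    intro b hb
    have hcomm := (isMulCommutative_iff.mp (IsCyclic.commutative (α := P))) ⟨b, hb⟩ ⟨a, ha⟩
    exact congrArg Subtype.val hcomm
  have hCN : Subgroup.centralizer (P : Set G) ≤ Subgroup.normalizer (P : Set G) :=
    Subgroup.centralizer_le_normalizer _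
  have hNN : Subgroup.normalizer (P : Set G) ≤
      Subgroup.normalizer ((Subgroup.centralizer (P : Set G) : Subgroup G) : Set G) := by
    have h := Cfsg.Agent.Lib.Helper6.ExtFirstMain.normalizer_le_normalizer_sup_centralizer P
    rwa [sup_eq_right.mpr hPC] at h
  have hcP : Cfsg.IsDefectGroup p M c (P.subgroupOf (Subgroup.centralizer (P : Set G))) :=
    Cfsg.Agent.Lib.Helper6.ExtFirstMain.isDefectGroup_of_induced hM B P hPD _ hPC hCN c hc
  -- the stabilizer in the other form
  have hT' : ∀ g : G, g ∈ T ↔ (g ∈ Subgroup.normalizer (P : Set G) ∧ ∀ θ ∈ c,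
      ∀ θ' : Cfsg.IrrCharacter (Subgroup.centralizer (P : Set G)),
        (∀ h h' : Subgroup.centralizer (P : Set G), (h' : G) = g * h * g⁻¹ →
          (θ' : Subgroup.centralizer (P : Set G) → ℂ) h' =
            (θ : Subgroup.centralizer (P : Set G) → ℂ) h) → θ' ∈ c) := by
    intro g
    rw [hT]
    constructor
    · rintro ⟨hgN, hgC, hstab⟩
      refine ⟨hgN, ?_⟩
      intro θ hθ θ' hθ'
      obtain ⟨χ', hχ', hconj⟩ := hstab θ hθ
      have e1 := Cfsg.Agent.Lib.Helper24.eq_conjIrr_of_isConjCharOf _ g hgC θ χ' hconj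
      have e2 := Cfsg.Agent.Lib.Helper24.eq_conjIrr_of_isConjCharOf _ g hgC θ θ' hθ'
      rw [e2, ← e1]
      exact hχ'
    · rintro ⟨hgN, hall⟩
      refine ⟨hgN, hNN hgN, ?_⟩
      intro χ hχ
      refine ⟨Cfsg.Agent.Lib.Helper24.conjIrr _ g (hNN hgN) χ, ?_,
        Cfsg.Agent.Lib.Helper24.isConjCharOf_conjIrr _ g (hNN hgN) χ⟩
      exact hall χ hχ _ (Cfsg.Agent.Lib.Helper24.isConjCharOf_conjIrr _ g (hNN hgN) χ)
  have hnd : ¬ p ∣ (Subgroup.centralizer (P : Set G)).relIndex T :=
    Cfsg.Agent.Lib.Helper6.StabIndex.not_dvd_of_isDefectGroup hM hPp hPC le_rfl hCN hNN hc.1 hcP B hc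
      hT' hPD
  -- group theory
  have hTN : T ≤ Subgroup.normalizer (P : Set G) := fun g hg => ((hT g).mp hg).1
  let φ : T →* MulAut P := (Subgroup.normalizerMonoidHom P).comp (Subgroup.inclusion hTN)
  have hker : φ.ker = (Subgroup.centralizer (P : Set G)).subgroupOf T := by
    ext g
    rw [MonoidHom.mem_ker, Subgroup.mem_subgroupOf]
    have : φ g = 1 ↔ Subgroup.inclusion hTN g ∈ (Subgroup.normalizerMonoidHom P).ker := by
      rw [MonoidHom.mem_ker]; rfl
    rw [this, Subgroup.normalizerMonoidHom_ker, Subgroup.mem_subgroupOf]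
    rfl
  have hfinP : Finite P := inferInstance
  obtain ⟨n, hn⟩ := hPp.exists_card_eq
  have e1 : T ⧸ (Subgroup.centralizer (P : Set G)).subgroupOf T ≃* φ.range :=
    (QuotientGroup.quotientMulEquivOfEq hker.symm).trans (QuotientGroup.quotientKerEquivRange φ)
  have hcardR : Nat.card φ.range = (Subgroup.centralizer (P : Set G)).relIndex T := by
    rw [← Nat.card_congr e1.toEquiv]
    rfl
  have hcop : (Nat.card φ.range).Coprime p := by
    rw [hcardR, Nat.coprime_comm]
    exact (Nat.Prime.coprime_iff_not_dvd hp).mpr hnd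
  obtain ⟨hcycR, hdvd, hfree⟩ := Cfsg.Agent.CharLib.cyclic_aut_facts hp hn φ.range hcop
  refine ⟨?_, ?_, ?_⟩
  · exact isCyclic_of_surjective e1.symm e1.symm.surjective
  · rw [← hcardR]; exact hdvd
  · intro g hgT x hxP hx1 hgx
    have h1 : φ ⟨g, hgT⟩ = 1 := by
      apply hfree (φ ⟨g, hgT⟩) ⟨_, rfl⟩ ⟨x, hxP⟩
      · intro h; exact hx1 (congrArg Subtype.val h)
      · apply Subtype.ext
        exact hgx
    have h2 : (⟨g, hgT⟩ : T) ∈ φ.ker := h1
    rw [hker, Subgroup.mem_subgroupOf] at h2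
    exact h2

end Cfsg.Agent.S4633
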