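import Cfsg.Statements.S4636
import Mathlib

set_option autoImplicit false
open scoped Pointwise
open Cfsg

namespace Cfsg.Agent.S4636

theorem cyc_unique {G : Type*} [Group G] [Finite G] (C H K : Subgroup G) (hC : IsCyclic C)
    (hH : H ≤ C) (hK : K ≤ C) (h : Nat.card H = Nat.card K) : H = K := by
  classical
  have : Fintype C := Fintype.ofFinite C
  set n := Nat.card H with hn
  have hn0 : 0 < n := Nat.card_pos
  have key : ∀ L : Subgroup G, L ≤ C → Nat.card L = n →
      ((L.subgroupOf C : Set C) = {a : C | a ^ n = 1}) := by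
    intro L hL hLn
    have hcard : Nat.card (L.subgroupOf C) = n := by
      rw [Nat.card_congr (Subgroup.subgroupOfEquivOfLe hL).toEquiv, hLn]
    have hsub : (L.subgroupOf C : Set C) ⊆ {a : C | a ^ n = 1} := by
      intro a ha
      have : (⟨a, ha⟩ : L.subgroupOf C) ^ Nat.card (L.subgroupOf C) = 1 := pow_card_eq_one'
      rw [hcard] at this
      have := congrArg Subtype.val this
      simpa using this
    have hle : (Finset.univ.filter (fun a : C => a ^ n = 1)).card ≤ n :=
      IsCyclic.card_pow_eq_one_le hn0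
    apply Set.eq_of_subset_of_ncard_le hsub
    · rw [Set.ncard_eq_toFinset_card' , Set.ncard_eq_toFinset_card']
      simp only [Set.toFinset_ofPred]
      refine hle.trans ?_
      rw [← hcard]
      rw [← Set.ncard_eq_toFinset_card']
      rfl
  have h1 := key H hH rfl
  have h2 := key K hK h.symm
  have h3 : H.subgroupOf C = K.subgroupOf C := SetLike.coe_injective (h1.trans h2.symm)
  have := congrArg (Subgroup.map C.subtype) h3
  simpa [Subgroup.map_subgroupOf_eq_of_le, hH, hK] using this

theorem ord_p_le {G : Type*} [Group G] [Finite G] (p : ℕ) [Fact p.Prime] (C D Z : Subgroup G)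
    (hCp : IsPGroup p C) (hC : IsCyclic C) (hD : D ≤ C) (hD1 : D ≠ ⊥) (hZ : Z ≤ C)
    (hZc : Nat.card Z = p) : Z ≤ D := by
  have hDp : IsPGroup p D := hCp.to_le hD
  obtain ⟨k, hk⟩ := IsPGroup.iff_card.mp hDp
  have hk0 : k ≠ 0 := by
    rintro rfl
    rw [pow_zero] at hk
    exact hD1 ((Subgroup.card_eq_one).mp hk)
  have hdvd : p ∣ Nat.card D := by
    rw [hk]; exact dvd_pow_self p hk0
  obtain ⟨d, hd⟩ := exists_prime_orderOf_dvd_card' p hdvd
  have h1 : Nat.card (Subgroup.zpowers (d : G)) = p := by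
    rw [Nat.card_zpowers, Subgroup.orderOf_coe, hd]
  have h2 : Subgroup.zpowers (d : G) ≤ D := by
    rw [Subgroup.zpowers_le]; exact d.2
  have h3 := cyc_unique C (Subgroup.zpowers (d : G)) Z hC (h2.trans hD) hZ (h1.trans hZc.symm)
  rw [← h3]; exact h2

/-- Let P be a nontrivial cyclic p-subgroup of the finite group G and Z its subgroup of order p. For every x outside N_G(Z), P meets its conjugate xPx⁻¹ trivially; consequently N_G(Q) ≤ N_G(Z) for every nontrivial subgroup Q of P. -/
theorem result {G : Type*} [Group G] [Finite G] (p : ℕ) [Fact p.Prime] (P : Subgroup G) (hP : IsPGroup p P) (hP1 : P ≠ ⊥) (hcyc : IsCyclic P) (Z : Subgroup G) (hZ : Z ≤ P) (hZcard : Nat.card Z = p) : (∀ x : G, x ∉ Subgroup.normalizer (Z : Set G) → P ⊓ MulAut.conj x • P = ⊥) ∧ ∀ Q : Subgroup G, Q ≤ P → Q ≠ ⊥ → Subgroup.normalizer (Q : Set G) ≤ Subgroup.normalizer (Z : Set G) := by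
  have hsm : ∀ (x : G) (H : Subgroup G), Nat.card (MulAut.conj x • H : Subgroup G) = Nat.card H := by
    intro x H
    exact (Nat.card_congr (Subgroup.equivSMul (MulAut.conj x) H).toEquiv).symm
  have hnorm : ∀ x : G, MulAut.conj x • Z = Z → x ∈ Subgroup.normalizer (Z : Set G) := by
    intro x hx
    rw [Subgroup.mem_normalizer_iff_map_conj_eq]
    exact hx
  constructor
  · intro x hx
    by_contra hne
    apply hx
    apply hnorm
    set D := P ⊓ MulAut.conj x • P with hD
    have hxP : IsCyclic (MulAut.conj x • P : Subgroup G) :=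
      isCyclic_of_surjective _ (Subgroup.equivSMul (MulAut.conj x) P).surjective
    have hxPp : IsPGroup p (MulAut.conj x • P : Subgroup G) :=
      hP.of_equiv (Subgroup.equivSMul (MulAut.conj x) P)
    have h1 : Z ≤ D := ord_p_le p P D Z hP hcyc inf_le_left hne hZ hZcard
    have h2 : MulAut.conj x • Z ≤ D :=
      ord_p_le p (MulAut.conj x • P) D (MulAut.conj x • Z) hxPp hxP inf_le_right hne
        (Subgroup.pointwise_smul_le_pointwise_smul_iff.mpr hZ) ((hsm x Z).trans hZcard)
    exact cyc_unique P _ _ hcyc (h2.trans inf_le_left) hZ (hsm x Z)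
  · intro Q hQ hQ1 g hg
    apply hnorm
    have hgQ : MulAut.conj g • Q = Q := Subgroup.mem_normalizer_iff_map_conj_eq.mp hg
    have h1 : Z ≤ Q := ord_p_le p P Q Z hP hcyc hQ hQ1 hZ hZcard
    have h2 : MulAut.conj g • Z ≤ Q := by
      rw [← hgQ]; exact Subgroup.pointwise_smul_le_pointwise_smul_iff.mpr h1
    exact cyc_unique P _ _ hcyc (h2.trans hQ) hZ (hsm g Z)

end Cfsg.Agent.S4636
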