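import Cfsg.Statements.S4640
import Cfsg.Agent.Lib.Helper24.PIF12
import Cfsg.Agent.Lib.Helper5.PIUC
import Cfsg.Agent.Lib.Helper16.PINE
import Cfsg.Agent.Lib.Helper17.PIIRof
import Cfsg.Agent.Lib.Helper17.PICTof
import Cfsg.Agent.Lib.Helper9.PIK
import Cfsg.Agent.Lib.Helper9.PIL

set_option autoImplicit false
open Cfsg

namespace Cfsg.Agent.S4640

/-- Let N be a normal subgroup of the finite group G of index a power of the prime p, M a maximal ideal of the algebraic integers containing p, b a block of N stabilized by every element of G, and B a block of G covering b (some member of B has a member of b as a constituent of its restriction to N). Suppose that B has a commutative defect group P. Then G = NP and P ∩ N is a defect group of b; every member of B restricts to a member of b; every member of b is the restriction of exactly [G : N] members of B; B contains exactly [G : N] times as many irreducible characters as b; and B and b have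 the same p-regular rank. -/
theorem result {G : Type*} [Group G] [Fintype G] (p : ℕ) [Fact p.Prime] (M : Ideal Cfsg.AlgInt) (hM : Cfsg.IsPModular p M) (N : Subgroup G) [N.Normal] [Fintype N] (hNi : ∃ k : ℕ, N.index = p ^ k) (b : Set (Cfsg.IrrCharacter N)) (hb : Cfsg.IsPBlock M b) (hstab : ∀ g : G, Cfsg.StabilizesBlock N b g) (B : Set (Cfsg.IrrCharacter G)) (hB : Cfsg.IsPBlock M B) (hcov : ∃ χ ∈ B, ∃ θ ∈ b, Cfsg.classInner (fun n : N => (χ : G → ℂ) n) (θ : N → ℂ) ≠ 0) (P : Subgroup G) (hPD : Cfsg.IsDefectGroup p M B P) (hPab : ∀ x ∈ P, ∀ y ∈ P, x * y = y * x) : N ⊔ P = ⊤ ∧ Cfsg.IsDefectGroup p M b ((P ⊓ N).subgroupOf N) ∧ (∀ χ ∈ B, ∃ θ ∈ b, ∀ n : N, (χ : G → ℂ) n = (θ : N → ℂ) n) ∧ (∀ θ ∈ b, Nat.card {χ : Cfsg.IrrCharacter G // χ ∈ B ∧ ∀ n : N, (χ : G → ℂ) n = (θ : N → ℂ) n} = N.index) ∧ Nat.card B = N.index * Nat.card b ∧ Cfsg.blockRank p B = Cfsg.blockRank p b := by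
  classical
  obtain ⟨h1, h2⟩ := Cfsg.Agent.Lib.Helper24.PIF12.sup_eq_top_and_isDefectGroup N hM hNi b hb hstab
    B hB hcov P hPD
  have h3 : ∀ χ ∈ B, ∃ θ ∈ b, ∀ n : N, (χ : G → ℂ) n = (θ : N → ℂ) n := by
    intro χ hχ
    apply Cfsg.Agent.Lib.Helper17.PIIRof.exists_res_eq_of N b P hPab h1 χ
    · intro lam hlam hl1 hlamN heq
      exact Cfsg.Agent.Lib.Helper16.PINE.linear_eq_one_of_mul_eq N hM hNi B hB P hPD hPab h1 lam
        hlam hl1 hlamN χ hχ heq
    · intro θ' hθ'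
      exact Cfsg.Agent.Lib.Helper5.PIUC.mem_of_under_block N hM b hb hstab B hB hcov χ hχ θ' hθ'
  have h4 : ∀ θ ∈ b, Nat.card {χ : Cfsg.IrrCharacter G // χ ∈ B ∧
      ∀ n : N, (χ : G → ℂ) n = (θ : N → ℂ) n} = N.index := by
    intro θ hθ
    apply Cfsg.Agent.Lib.Helper17.PICTof.card_res_eq_of N b B θ h3
    intro χ' hχ'
    exact Cfsg.Agent.Lib.Helper5.PIUC.mem_block_of_over N hM hNi b hb hstab B hB hcov χ' θ hθ hχ'
  refine ⟨h1, h2, h3, h4, Cfsg.Agent.Lib.Helper9.PIK.card_eq_index_mul_card N b B h3 h4,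
    Cfsg.Agent.Lib.Helper9.PIL.blockRank_eq_of_res N hNi b B h3 ?_⟩
  intro θ hθ
  have h5 := h4 θ hθ
  have hpos : 0 < N.index := by
    obtain ⟨k, hk⟩ := hNi
    rw [hk]
    exact pow_pos (Fact.out : p.Prime).pos k
  rw [← h5] at hpos
  obtain ⟨⟨χ, hχB, hχ⟩⟩ := (Nat.card_pos_iff.mp hpos).1
  exact ⟨χ, hχB, hχ⟩

end Cfsg.Agent.S4640
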