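import Cfsg.Statements.S4645
import Cfsg.Agent.S4633
import Cfsg.Agent.S4650
import Cfsg.Agent.S4682
import Cfsg.Agent.Lib.Helper24.KleinSC
import Cfsg.Agent.Lib.Helper14.CycLD
import Cfsg.Agent.Lib.Helper9.CycCH
import Cfsg.Agent.Lib.Helper9.CycGT
import Cfsg.Agent.Lib.Helper29.CycR1

set_option autoImplicit false
open Cfsg
open Cfsg.Agent.CharLib Cfsg.Agent.Lib.Helper24 Cfsg.Agent.Lib.Helper6

namespace Cfsg.Agent.S4645

/-- Let B be a block of the finite group G relative to a maximal ideal M of the algebraic integers containing the prime p, with a nontrivial cyclic defect group P; let c be a block of C_G(P) inducing B and T the stabilizer of c in N_G(P). Let Q be a nontrivial subgroup of P (so C_G(P) ≤ C_G(Q)), f the block of C_G(Q) induced by c inside C_G(Q), and T' the stabilizer of f in N_G(Q). Then T' = T·C_G(Q), the index of C_G(Q) in T' equals the index of C_G(P) in T, f has p-regular rank 1, and f is a nilpotent block of C_G(Q). -/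
theorem result {G : Type*} [Group G] [Finite G] (p : ℕ) [Fact p.Prime] (M : Ideal Cfsg.AlgInt) (hM : Cfsg.IsPModular p M) (B : Set (Cfsg.IrrCharacter G)) (hB : Cfsg.IsPBlock M B) (P : Subgroup G) (hPD : Cfsg.IsDefectGroup p M B P) (hP1 : P ≠ ⊥) (hcyc : IsCyclic P) (c : Set (Cfsg.IrrCharacter (Subgroup.centralizer (P : Set G)))) (hc : Cfsg.IsInducedBlock M (Subgroup.centralizer (P : Set G)) c B) (T : Subgroup G) (hT : ∀ g : G, g ∈ T ↔ (g ∈ Subgroup.normalizer (P : Set G) ∧ Cfsg.StabilizesBlock (Subgroup.centralizer (P : Set G)) c g)) (Q : Subgroup G) (hQP : Q ≤ P) (hQ1 : Q ≠ ⊥) (f : Set (Cfsg.IrrCharacter (Subgroup.centralizer (Q : Set G)))) (hf : Cfsg.IsInducedBlockIn M (Subgroup.centralizer (Q : Set G)) (Subgroup.centralizer (P : Set G)) c f) (T' : Subgroup G) (hT' : ∀ g : G, g ∈ T' ↔ (g ∈ Subgroup.normalizer (Q : Set G) ∧ Cfsg.StabilizesBlock (Subgroup.centralizer (Q : Set G)) f g)) : T' = T ⊔ Subgroup.centralizer (Q : Set G) ∧ (Subgroup.centralizer (Q : Set G)).relIndex T' =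 (Subgroup.centralizer (P : Set G)).relIndex T ∧ Cfsg.blockRank p f = 1 ∧ Cfsg.IsNilpotentBlock p M f := by
  classical
  let _ : Fintype G := Fintype.ofFinite G
  have hPab : ∀ x ∈ P, ∀ y ∈ P, x * y = y * x := by
    intro x hx y hy
    have h := (isMulCommutative_iff.mp (IsCyclic.isMulCommutative (α := P))) ⟨x, hx⟩ ⟨y, hy⟩
    exact congrArg Subtype.val h
  have hPC : P ≤ Subgroup.centralizer (P : Set G) := by
    intro a ha
    rw [Subgroup.mem_centralizer_iff]
    intro b hb
    exact hPab b hb a ha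
  have hCN : Subgroup.centralizer (P : Set G) ≤ Subgroup.normalizer (P : Set G) :=
    Subgroup.centralizer_le_normalizer _
  have hNN : Subgroup.normalizer (P : Set G) ≤
      Subgroup.normalizer ((Subgroup.centralizer (P : Set G) : Subgroup G) : Set G) := by
    have h := Cfsg.Agent.Lib.Helper6.ExtFirstMain.normalizer_le_normalizer_sup_centralizer P
    rwa [sup_eq_right.mpr hPC] at h
  have hTNP : T ≤ Subgroup.normalizer (P : Set G) := fun g hg => ((hT g).mp hg).1
  have hn : ((Subgroup.centralizer (P : Set G)).subgroupOf T).Normal :=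
    Subgroup.normal_subgroupOf_of_le_normalizer (hTNP.trans hNN)
  -- the free action
  have hfree3 := (Cfsg.Agent.S4633.result p M hM B hB P hPD hP1 hcyc c hc T hT).2.2
  -- nilpotency
  have hnil : IsNilpotentBlock p M f :=
    (Cfsg.Agent.S4650.result p M hM B hB P hPD hPab hP1 c hc T hT).mp hfree3 Q hQP hQ1 f hf
  -- local data
  obtain ⟨hmaxB, hle, c', hind', hmax', hnorm, hstab⟩ :=
    Cfsg.Agent.Lib.Helper14.CycLD.local_data hM B hB P hPD hPab c hc Q hQP f hf
  -- S4682
  obtain ⟨hprod, hidx⟩ := Cfsg.Agent.S4682.result p M hM B P c hmaxB hPab Q f hQP hf.2.1 hle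
    T' hT' T hT
  have hNPQ := Cfsg.Agent.Lib.Helper9.CycCH.normalizer_le_normalizer_of_cyclic P Q hcyc hQP
  have hTN : T ≤ Subgroup.normalizer (Q : Set G) := hTNP.trans hNPQ
  have hCQT' : Subgroup.centralizer (Q : Set G) ≤ T' := centralizer_le_stab Q T' f hT'
  have hCPT : Subgroup.centralizer (P : Set G) ≤ T := centralizer_le_stab P T c hT
  have hfree : T ⊓ Subgroup.centralizer (Q : Set G) = Subgroup.centralizer (P : Set G) := by
    apply le_antisymm
    · rintro g ⟨hgT, hgQ⟩
      obtain ⟨x, hx1⟩ := (Subgroup.ne_bot_iff_exists_ne_one.mp hQ1)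
      have hx1' : (x : G) ≠ 1 := fun h0 => hx1 (Subtype.ext h0)
      refine hfree3 g hgT x (hQP x.2) hx1' ?_
      have := Subgroup.mem_centralizer_iff.mp hgQ x x.2
      rw [← this]; group
    · exact le_inf hCPT (Subgroup.centralizer_le hQP)
  obtain ⟨h1, h2⟩ := Cfsg.Agent.Lib.Helper9.CycGT.stab_eq_sup P Q T T' hTN hCQT' hfree hprod hidx
  refine ⟨h1, h2, ?_, hnil⟩
  -- the rank
  have hPH : P ≤ Subgroup.centralizer (Q : Set G) :=
    Cfsg.Agent.S4650.le_centralizer_of_abelian P Q hPab hQP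
  have hD' : IsDefectGroup p M f (P.subgroupOf (Subgroup.centralizer (Q : Set G))) :=
    Cfsg.Agent.S4659.result' p M hM f _ c' hmax'
  have hcyc' : IsCyclic (P.subgroupOf (Subgroup.centralizer (Q : Set G))) :=
    isCyclic_of_surjective (Subgroup.subgroupOfEquivOfLe hPH).symm
      (Subgroup.subgroupOfEquivOfLe hPH).symm.surjective
  have hab' : ∀ x ∈ P.subgroupOf (Subgroup.centralizer (Q : Set G)),
      ∀ y ∈ P.subgroupOf (Subgroup.centralizer (Q : Set G)), x * y = y * x := by
    intro x hx y hy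
    apply Subtype.ext
    exact hPab _ (Subgroup.mem_subgroupOf.mp hx) _ (Subgroup.mem_subgroupOf.mp hy)
  have hTH : ∀ g : Subgroup.centralizer (Q : Set G),
      g ∈ T.subgroupOf (Subgroup.centralizer (Q : Set G)) ↔
        (g ∈ Subgroup.normalizer ((P.subgroupOf (Subgroup.centralizer (Q : Set G)) :
          Subgroup (Subgroup.centralizer (Q : Set G))) : Set (Subgroup.centralizer (Q : Set G))) ∧
        StabilizesBlock (Subgroup.centralizer ((P.subgroupOf (Subgroup.centralizer (Q : Set G)) :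
          Subgroup (Subgroup.centralizer (Q : Set G))) : Set (Subgroup.centralizer (Q : Set G))))
            c' g) := by
    intro g
    rw [Subgroup.mem_subgroupOf, hT]
    constructor
    · rintro ⟨hgN, hgS⟩
      have hgN' := (hnorm g).mpr hgN
      exact ⟨hgN', (hstab g hgN').mpr hgS⟩
    · rintro ⟨hgN, hgS⟩
      exact ⟨(hnorm g).mp hgN, (hstab g hgN).mp hgS⟩
  have hcent : ∀ t ∈ T.subgroupOf (Subgroup.centralizer (Q : Set G)),
      ∀ u ∈ P.subgroupOf (Subgroup.centralizer (Q : Set G)), t * u * t⁻¹ = u := by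
    intro t ht u hu
    have htC : (t : G) ∈ Subgroup.centralizer (P : Set G) := by
      rw [← hfree]
      exact ⟨Subgroup.mem_subgroupOf.mp ht, t.2⟩
    have h := Subgroup.mem_centralizer_iff.mp htC (u : G) (Subgroup.mem_subgroupOf.mp hu)
    apply Subtype.ext
    push_cast
    rw [← h]; group
  exact (Cfsg.Agent.Lib.Helper29.CycR1.blockRank_eq_one_of_cyclic_inertial_one hM f hf.2.1 _ hD' hcyc' c' hind'
    (T.subgroupOf (Subgroup.centralizer (Q : Set G))) hTH hcent
    (fun R hRD hR => Cfsg.Agent.Lib.Helper24.KleinSC.card_block_eq_sum_orbits hM f hf.2.1 _ hD' hab' c' hind' _ hTH R hRD hR)).1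

end Cfsg.Agent.S4645
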