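import Cfsg.Statements.S4664
import Cfsg.Agent.S0907
import Cfsg.Agent.Lib.Lead.CharBasic
import Cfsg.Agent.Lib.Lead.CharOrtho
import Cfsg.Agent.Lib.Lead.CharDecomp
import Cfsg.Agent.Lib.Helper24.IrrFacts

set_option autoImplicit false
open Cfsg

namespace Cfsg.Agent.S4664

open Cfsg.Agent.CharLib Cfsg.Agent.Lib
open scoped ComplexConjugate

universe u

variable {G : Type u} [Group G]

/-- A complex `n`-th root of unity lies in `ℚ(exp(2πi/m))` when `n ∣ m`. -/
theorem root_mem_adjoin {n m : ℕ} (hn : 0 < n) (hnm : n ∣ m) (hm : 0 < m) {μ : ℂ} (hμ : μ ^ n = 1) :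
    μ ∈ IntermediateField.adjoin ℚ ({Complex.exp (2 * Real.pi * Complex.I / (m : ℂ))} : Set ℂ) := by
  have hn' : NeZero n := ⟨hn.ne'⟩
  have hμ' : μ ≠ 0 := by
    rintro rfl
    rw [zero_pow hn.ne'] at hμ
    exact zero_ne_one hμ
  have hmem : Units.mk0 μ hμ' ∈ rootsOfUnity n ℂ := by
    rw [mem_rootsOfUnity]
    apply Units.ext
    simpa using hμ
  rw [Complex.mem_rootsOfUnity] at hmem
  obtain ⟨i, _, hi⟩ := hmem
  obtain ⟨k, rfl⟩ := hnm
  have hk : 0 < k := by
    rcases Nat.eq_zero_or_pos k with h | h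
    · rw [h, mul_zero] at hm; exact absurd hm (lt_irrefl _)
    · exact h
  have hμeq : μ = Complex.exp (2 * Real.pi * Complex.I / ((n * k : ℕ) : ℂ)) ^ (i * k) := by
    have : μ = Complex.exp (2 * Real.pi * Complex.I * (i / n)) := by
      rw [hi]; rfl
    rw [this, ← Complex.exp_nat_mul]
    congr 1
    have hnC : (n : ℂ) ≠ 0 := by exact_mod_cast hn.ne'
    have hkC : (k : ℂ) ≠ 0 := by exact_mod_cast hk.ne'
    push_cast
    field_simp
  rw [hμeq]
  apply pow_mem
  exact IntermediateField.subset_adjoin ℚ _ (Set.mem_singleton _)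

/-- Character values at an element of order dividing `m` lie in `ℚ(exp(2πi/m))`. -/
theorem char_mem_adjoin [Finite G] {χ : G → ℂ} (hχ : IsCharacter G χ) (g : G) {m : ℕ} (hm : 0 < m)
    (hgm : orderOf g ∣ m) :
    χ g ∈ IntermediateField.adjoin ℚ ({Complex.exp (2 * Real.pi * Complex.I / (m : ℂ))} : Set ℂ) := by
  obtain ⟨n, ρ, rfl⟩ := hχ
  obtain ⟨ι, hι, b, μ, h1, h2, -, -⟩ := exists_eigenbasis ρ g
  have htr : ρ.character g = ∑ i, μ i := trace_eq_sum_of_eigenbasis b (ρ g) μ h2
  rw [htr]
  apply sum_mem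
  intro i _
  exact root_mem_adjoin (orderOf_pos g) hgm hm (h1 i)


theorem finsum_mem_eq [Fintype (IrrCharacter G)] {A : Type*} [AddCommMonoid A]
    (B : Set (IrrCharacter G)) [DecidablePred (· ∈ B)] (f : IrrCharacter G → A) :
    ∑ᶠ χ ∈ B, f χ = ∑ χ ∈ Finset.univ.filter (· ∈ B), f χ := by
  rw [finsum_mem_eq_finite_toFinset_sum f (Set.toFinite B)]
  congr 1
  ext χ
  simp

theorem result' [Fintype G] (p : ℕ) [Fact p.Prime] (M : Ideal Cfsg.AlgInt)
    (hM : Cfsg.IsPModular p M) (B : Set (Cfsg.IrrCharacter G)) (hB : Cfsg.IsPBlock M B) (g : G) :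
    Cfsg.blockCoeff B g ∈ IntermediateField.adjoin ℚ ({Complex.exp (2 * Real.pi * Complex.I /
      ((Nat.card G / p ^ (Nat.card G).factorization p : ℕ) : ℂ))} : Set ℂ) := by
  classical
  letI := fintypeIrr G
  have hp : p.Prime := Fact.out
  set a := (Nat.card G).factorization p with ha
  set m := Nat.card G / p ^ a with hm
  have hcard0 : Nat.card G ≠ 0 := Nat.card_pos.ne'
  have hpa : p ^ a ∣ Nat.card G := Nat.ordProj_dvd _ _
  have hmul : p ^ a * m = Nat.card G := Nat.mul_div_cancel' hpa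
  have hm0 : 0 < m := by
    rcases Nat.eq_zero_or_pos m with h | h
    · rw [h, mul_zero] at hmul; exact absurd hmul.symm hcard0
    · exact h
  unfold blockCoeff
  by_cases hg : p ∣ orderOf g
  · have h := Cfsg.Agent.S0907.result p M hM B hB 1 g (by rw [orderOf_one]; exact hp.not_dvd_one) hg
    rw [h, mul_zero]
    exact zero_mem _
  · have hgm : orderOf g ∣ m := by
      have h1 : orderOf g ∣ p ^ a * m := by rw [hmul]; exact orderOf_dvd_natCard g
      have hcop : Nat.Coprime (orderOf g) (p ^ a) :=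
        Nat.Coprime.pow_right _ ((Nat.Prime.coprime_iff_not_dvd hp).2 hg).symm
      exact hcop.dvd_of_dvd_mul_left h1
    rw [finsum_mem_eq]
    apply mul_mem
    · apply inv_mem
      exact natCast_mem _ _
    · apply sum_mem
      intro χ _
      apply mul_mem
      · rw [Helper24.irr_apply_one χ]
        exact natCast_mem _ _
      · rw [← IsCharacter.apply_inv (IsIrrCharacter.isCharacter χ.2)]
        apply char_mem_adjoin (IsIrrCharacter.isCharacter χ.2) g⁻¹ hm0
        rw [orderOf_inv]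
        exact hgm

/-- Fix a prime p and a maximal ideal M of the algebraic integers containing p, and let B be a p-block of the finite group G. Let m be the p'-part of the order of G and η = exp(2πi/m). Then every coefficient of the idempotent of B lies in the cyclotomic field ℚ(η). -/
theorem result {G : Type*} [Group G] [Fintype G] (p : ℕ) [Fact p.Prime] (M : Ideal Cfsg.AlgInt) (hM : Cfsg.IsPModular p M) (B : Set (Cfsg.IrrCharacter G)) (hB : Cfsg.IsPBlock M B) (g : G) : Cfsg.blockCoeff B g ∈ IntermediateField.adjoin ℚ ({Complex.exp (2 * Real.pi * Complex.I / ((Nat.card G / p ^ (Nat.card G).factorization p : ℕ) : ℂ))} : Set ℂ) := by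
  exact result' p M hM B hB g

end Cfsg.Agent.S4664
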