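import Cfsg.Statements.S4665
import Cfsg.Agent.Lib.Lead.CharBurnside

set_option autoImplicit false
open Cfsg

namespace Cfsg.Agent.S4665

open Cfsg.Agent.CharLib Cfsg
open scoped ComplexConjugate

/-- Fix a prime p, a maximal ideal M of the algebraic integers containing p, and a p-block B of the finite group G, and let p^a be the p-part of the order of G. Let χ be an integer combination of the irreducible characters in B. If the function that agrees with χ on p-regular elements and vanishes on p-singular elements is again an integer combination of the irreducible characters in B, then p^a divides χ(1). -/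
theorem result {G : Type*} [Group G] [Fintype G] (p : ℕ) [Fact p.Prime] (M : Ideal Cfsg.AlgInt) (hM : Cfsg.IsPModular p M) (B : Set (Cfsg.IrrCharacter G)) (hB : Cfsg.IsPBlock M B) (χ : G → ℂ) (hχ : (∃ n : Cfsg.IrrCharacter G → ℤ, ∀ g : G, χ g = ∑ᶠ ψ ∈ B, (n ψ : ℂ) * (ψ : G → ℂ) g)) (h0 : (∃ n : Cfsg.IrrCharacter G → ℤ, ∀ g : G, Cfsg.pRegularPart p χ g = ∑ᶠ ψ ∈ B, (n ψ : ℂ) * (ψ : G → ℂ) g)) : ∃ k : ℤ, χ 1 = (p ^ (Nat.card G).factorization p : ℂ) * k := by
  classical
  have hp : p.Prime := Fact.out
  let _ := fintypeIrr G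
  obtain ⟨n, hn⟩ := h0
  obtain ⟨P⟩ : Nonempty (Sylow p G) := inferInstance
  have hPcard : Nat.card (P : Subgroup G) = p ^ (Nat.card G).factorization p := Sylow.card_eq_multiplicity P
  -- sum over P of the p-regular part is χ 1
  have hS1 : ∑ x : (P : Subgroup G), Cfsg.pRegularPart p χ (x : G) = χ 1 := by
    rw [Finset.sum_eq_single (1 : (P : Subgroup G))]
    · have hreg : Cfsg.IsPRegular p (((1 : (P : Subgroup G)) : G)) := by
        unfold Cfsg.IsPRegular
        rw [OneMemClass.coe_one, orderOf_one, Nat.dvd_one]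
        exact hp.one_lt.ne'
      unfold Cfsg.pRegularPart
      rw [if_pos hreg, OneMemClass.coe_one]
    · intro x _ hx1
      obtain ⟨k, hk⟩ := (IsPGroup.iff_orderOf.mp P.isPGroup') x
      have hk' : orderOf (x : G) = p ^ k := by rw [Subgroup.orderOf_coe]; exact hk
      have hk0 : k ≠ 0 := by
        intro h0
        rw [h0, pow_zero, orderOf_eq_one_iff] at hk
        exact hx1 hk
      have hreg : ¬ Cfsg.IsPRegular p (x : G) := by
        unfold Cfsg.IsPRegular
        rw [not_not, hk']
        exact dvd_pow_self p hk0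
      unfold Cfsg.pRegularPart
      rw [if_neg hreg]
    · intro h; exact absurd (Finset.mem_univ _) h
  -- each irreducible character sums over P to |P| times a natural number
  have hm : ∀ ψ : Cfsg.IrrCharacter G, ∃ m : ℕ, ∑ x : (P : Subgroup G), (ψ : G → ℂ) (x : G) =
      (Nat.card (P : Subgroup G) : ℂ) * m := by
    intro ψ
    have h1 : IsCharacter (P : Subgroup G) (fun h : (P : Subgroup G) => (ψ : G → ℂ) h) :=
      IsCharacter.restrict (IsIrrCharacter.isCharacter ψ.2) (P : Subgroup G)
    have h2 : IsCharacter (P : Subgroup G) (1 : ↥(P : Subgroup G) → ℂ) :=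
      IsIrrCharacter.isCharacter isIrrCharacter_one
    obtain ⟨m, hm⟩ := IsCharacter.classInner_nat h1 h2
    refine ⟨m, ?_⟩
    have hc : (Nat.card (P : Subgroup G) : ℂ) ≠ 0 := by
      have : 0 < Nat.card (P : Subgroup G) := Nat.card_pos
      exact_mod_cast this.ne'
    simp only [classInner, Pi.one_apply, map_one, mul_one] at hm
    rw [← hm, mul_inv_cancel_left₀ hc]
  choose m hm using hm
  refine ⟨∑ ψ : Cfsg.IrrCharacter G, if ψ ∈ B then n ψ * (m ψ : ℤ) else 0, ?_⟩
  rw [← hS1]
  have hterm : ∀ x : (P : Subgroup G), Cfsg.pRegularPart p χ (x : G) =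
      ∑ ψ : Cfsg.IrrCharacter G, if ψ ∈ B then (n ψ : ℂ) * (ψ : G → ℂ) (x : G) else 0 := by
    intro x
    rw [hn (x : G), finsum_mem_def, finsum_eq_sum_of_fintype]
    apply Finset.sum_congr rfl
    intro ψ _
    rw [Set.indicator_apply]
  rw [Finset.sum_congr rfl (fun x _ => hterm x), Finset.sum_comm]
  have hPc : ((p ^ (Nat.card G).factorization p : ℕ) : ℂ) = (Nat.card (P : Subgroup G) : ℂ) := by
    rw [hPcard]
  rw [← Nat.cast_pow, hPc]
  push_cast
  rw [Finset.mul_sum]
  apply Finset.sum_congr rfl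
  intro ψ _
  by_cases hψ : ψ ∈ B
  · simp only [if_pos hψ]
    rw [← Finset.mul_sum, hm ψ]
    push_cast
    ring
  · simp only [if_neg hψ, Finset.sum_const_zero, Int.cast_zero, mul_zero]

end Cfsg.Agent.S4665
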