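import Cfsg.Statements.S4666
import Cfsg.Agent.S0952
import Cfsg.Agent.S0961
import Cfsg.Agent.Lib.Lead.CharOrtho
import Cfsg.Agent.Lib.Lead.CharDecomp
import Cfsg.Agent.Lib.Lead.CharEquiv
import Cfsg.Agent.Lib.Lead.CharMain
import Cfsg.Agent.Lib.Helper6.FirstMain
import Cfsg.Agent.Lib.Helper24.IrrFacts
import Cfsg.Agent.Lib.Helper24.LocalRing
import Cfsg.Agent.Lib.Helper24.CentralChar
import Cfsg.Agent.Lib.Helper24.IntLemmas
import Cfsg.Agent.Lib.Helper6.IndFun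

set_option autoImplicit false
open Cfsg

namespace Cfsg.Agent.S4666

open Cfsg.Agent.CharLib Cfsg.Agent.Lib
open scoped ComplexConjugate

universe u

variable {G : Type u} [Group G]

theorem pRegularPart_of_regular (p : ℕ) (χ : G → ℂ) {g : G} (hg : IsPRegular p g) :
    pRegularPart p χ g = χ g := by
  unfold pRegularPart
  simp only [hg, if_true]

theorem pRegularPart_of_singular (p : ℕ) (χ : G → ℂ) {g : G} (hg : ¬ IsPRegular p g) :
    pRegularPart p χ g = 0 := by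
  unfold pRegularPart
  simp only [hg, if_false]

theorem finsum_mem_eq [Fintype (IrrCharacter G)] {A : Type*} [AddCommMonoid A]
    (B : Set (IrrCharacter G)) [DecidablePred (· ∈ B)] (f : IrrCharacter G → A) :
    ∑ᶠ χ ∈ B, f χ = ∑ χ ∈ Finset.univ.filter (· ∈ B), f χ := by
  rw [finsum_mem_eq_finite_toFinset_sum f (Set.toFinite B)]
  congr 1
  ext χ
  simp

theorem isPRegular_conj (p : ℕ) (g h : G) : IsPRegular p (h * g * h⁻¹) ↔ IsPRegular p g := by
  unfold IsPRegular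
  have h1 : orderOf (h * g * h⁻¹) = orderOf g := by
    have := MulEquiv.orderOf_eq (MulAut.conj h) g
    rwa [MulAut.conj_apply] at this
  rw [h1]

theorem isPRegular_inv (p : ℕ) (g : G) : IsPRegular p g⁻¹ ↔ IsPRegular p g := by
  unfold IsPRegular
  rw [orderOf_inv]

theorem pRegularPart_isClassFunction (p : ℕ) {χ : G → ℂ} (hχ : IsClassFunction G χ) :
    IsClassFunction G (pRegularPart p χ) := by
  intro g h
  by_cases hg : IsPRegular p g
  · rw [pRegularPart_of_regular p _ hg, pRegularPart_of_regular p _ ((isPRegular_conj p g h).2 hg),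
      hχ g h]
  · rw [pRegularPart_of_singular p _ hg,
      pRegularPart_of_singular p _ (fun h' => hg ((isPRegular_conj p g h).1 h'))]

/-- if `k₁ q` and `k₂ q` are integers, so is `gcd(k₁,k₂) q` -/
theorem gcd_mul_int {k₁ k₂ : ℕ} {q : ℂ} (h1 : ∃ z : ℤ, (k₁ : ℂ) * q = z) (h2 : ∃ z : ℤ, (k₂ : ℂ) * q = z) :
    ∃ z : ℤ, ((Nat.gcd k₁ k₂ : ℕ) : ℂ) * q = z := by
  obtain ⟨z₁, hz₁⟩ := h1
  obtain ⟨z₂, hz₂⟩ := h2
  refine ⟨z₁ * Nat.gcdA k₁ k₂ + z₂ * Nat.gcdB k₁ k₂, ?_⟩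
  have h := Nat.gcd_eq_gcd_ab k₁ k₂
  have h' : ((Nat.gcd k₁ k₂ : ℕ) : ℂ) = (k₁ : ℂ) * (Nat.gcdA k₁ k₂ : ℂ) + (k₂ : ℂ) * (Nat.gcdB k₁ k₂ : ℂ) := by
    exact_mod_cast h
  rw [h']
  push_cast
  rw [← hz₁, ← hz₂]
  ring


theorem key [Fintype G] (p : ℕ) [Fact p.Prime] (ψ' ψ : IrrCharacter G) (d : ℕ)
    (hd : (Nat.card G).factorization p - (charDegree (ψ : G → ℂ)).factorization p ≤ d) :
    ∃ z : ℤ, ((p ^ d : ℕ) : ℂ) * classInner (pRegularPart p (ψ' : G → ℂ)) (ψ : G → ℂ) = z := by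
  classical
  have hp : p.Prime := Fact.out
  set a := (Nat.card G).factorization p with ha
  set q := classInner (pRegularPart p (ψ' : G → ℂ)) (ψ : G → ℂ) with hq
  set f := charDegree (ψ : G → ℂ) with hf
  have hfpos : 0 < f := Helper24.irr_charDegree_pos ψ
  have hfdvd : f ∣ Nat.card G := Helper24.irr_charDegree_dvd_card ψ
  have hN0 : (Nat.card G : ℂ) ≠ 0 := by exact_mod_cast (Nat.card_pos (α := G)).ne'
  -- (a)
  have hA : ∃ z : ℤ, ((p ^ a : ℕ) : ℂ) * q = z := by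
    obtain ⟨α, β, hα, hβ, heq⟩ := Cfsg.Agent.S0961.result p ψ'
    obtain ⟨n₁, hn₁⟩ := IsCharacter.classInner_nat hα (IsIrrCharacter.isCharacter ψ.2)
    obtain ⟨n₂, hn₂⟩ := IsCharacter.classInner_nat hβ (IsIrrCharacter.isCharacter ψ.2)
    have h1 : (fun x : G => if p ∣ orderOf x then 0 else ((p ^ a : ℕ) : ℂ) * (ψ' : G → ℂ) x) =
        ((p ^ a : ℕ) : ℂ) • pRegularPart p (ψ' : G → ℂ) := by
      funext x
      rw [Pi.smul_apply, smul_eq_mul]
      by_cases hx : p ∣ orderOf x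
      · rw [if_pos hx, pRegularPart_of_singular p _ (by unfold IsPRegular; exact not_not.2 hx), mul_zero]
      · rw [if_neg hx, pRegularPart_of_regular p _ hx]
    refine ⟨(n₁ : ℤ) - n₂, ?_⟩
    rw [hq, ← classInner_smul_left, ← h1, heq, classInner_sub_left, hn₁, hn₂]
    push_cast
    ring
  -- (b)
  set e := Nat.card G / f with he
  have hef : e * f = Nat.card G := Nat.div_mul_cancel hfdvd
  have hB : IsIntegral ℤ ((e : ℂ) * q) := by
    obtain ⟨n, ρ, hirr, hρ⟩ := ψ.2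
    haveI : ρ.IsIrreducible := hirr
    let a' : G → ℂ := fun g => pRegularPart p (ψ' : G → ℂ) g⁻¹
    have hψ'cf : IsClassFunction G (ψ' : G → ℂ) :=
      IsCharacter.isClassFunction (IsIrrCharacter.isCharacter ψ'.2)
    have ha'cf : ∀ g h : G, a' (h * g * h⁻¹) = a' g := by
      intro g h
      change pRegularPart p (ψ' : G → ℂ) (h * g * h⁻¹)⁻¹ = pRegularPart p (ψ' : G → ℂ) g⁻¹
      have : (h * g * h⁻¹)⁻¹ = h * g⁻¹ * h⁻¹ := by group
      rw [this]
      exact pRegularPart_isClassFunction p hψ'cf g⁻¹ h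
    have ha'int : ∀ g, IsIntegral ℤ (a' g) := by
      intro g
      change IsIntegral ℤ (pRegularPart p (ψ' : G → ℂ) g⁻¹)
      by_cases hg : IsPRegular p g⁻¹
      · rw [pRegularPart_of_regular p _ hg]
        exact Helper24.irr_isIntegral ψ' _
      · rw [pRegularPart_of_singular p _ hg]
        exact isIntegral_zero
    have hom := Helper24.isIntegral_omega ρ a' ha'cf ha'int
    have heq : Helper24.omega ρ a' = (e : ℂ) * q := by
      unfold Helper24.omega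
      rw [hρ, Module.finrank_fin_fun]
      have hn : (n : ℂ) = (f : ℂ) := by
        have h1 := Helper24.irr_apply_one ψ
        rw [← hρ, Representation.char_one, Module.finrank_fin_fun] at h1
        rw [hf, ← hρ]
        exact h1
      rw [hn, hq]
      unfold classInner
      have hsum : ∑ g : G, a' g * (ψ : G → ℂ) g =
          ∑ g : G, pRegularPart p (ψ' : G → ℂ) g * conj ((ψ : G → ℂ) g) := by
        rw [← Equiv.sum_comp (Equiv.inv G)]
        apply Finset.sum_congr rfl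
        intro g _
        change pRegularPart p (ψ' : G → ℂ) (g⁻¹)⁻¹ * (ψ : G → ℂ) g⁻¹ = _
        rw [inv_inv, IsCharacter.apply_inv (IsIrrCharacter.isCharacter ψ.2)]
      rw [hsum]
      have hfC : (f : ℂ) ≠ 0 := by exact_mod_cast hfpos.ne'
      have hNC : (Nat.card G : ℂ) = (e : ℂ) * (f : ℂ) := by exact_mod_cast hef.symm
      rw [hNC]
      have heC : (e : ℂ) ≠ 0 := by
        intro h0
        rw [h0, zero_mul] at hNC
        exact hN0 hNC
      field_simp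
    rw [← heq]
    exact hom
  -- (c)
  have hC : ∃ z : ℤ, (e : ℂ) * q = z := by
    obtain ⟨z₁, hz₁⟩ := hA
    have hpa0 : ((p ^ a : ℕ) : ℤ) ≠ 0 := by exact_mod_cast (pow_pos hp.pos a).ne'
    have h1 : (((e : ℤ) * z₁ : ℤ) : ℂ) = (((p ^ a : ℕ) : ℤ) : ℂ) * ((e : ℂ) * q) := by
      push_cast
      rw [← hz₁]
      push_cast
      ring
    obtain ⟨z₂, hz₂⟩ := Helper24.int_dvd_of_eq_mul_isIntegral hpa0 hB h1
    refine ⟨z₂, ?_⟩
    have hpaC : (((p ^ a : ℕ) : ℤ) : ℂ) ≠ 0 := by exact_mod_cast hpa0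
    apply mul_left_cancel₀ hpaC
    rw [← h1, hz₂]
    push_cast
    ring
  -- (d)
  obtain ⟨z, hz⟩ := gcd_mul_int hA hC
  obtain ⟨j, hja, hj⟩ := (Nat.dvd_prime_pow hp).1 (Nat.gcd_dvd_left (p ^ a) e)
  have hje : p ^ j ∣ e := hj ▸ Nat.gcd_dvd_right (p ^ a) e
  have he0 : e ≠ 0 := by
    intro h0
    rw [h0, zero_mul] at hef
    exact Nat.card_pos.ne' hef.symm
  have hjd : j ≤ d := by
    have h1 : j ≤ e.factorization p := (Nat.Prime.pow_dvd_iff_le_factorization hp he0).1 hje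
    have h2 : e.factorization p = a - f.factorization p := by
      rw [he, Nat.factorization_div hfdvd]
      rfl
    omega
  refine ⟨(p : ℤ) ^ (d - j) * z, ?_⟩
  rw [hj] at hz
  have : ((p ^ d : ℕ) : ℂ) = ((p : ℂ) ^ (d - j)) * ((p ^ j : ℕ) : ℂ) := by
    push_cast
    rw [← pow_add]
    congr 1
    omega
  rw [this, mul_assoc, hz]
  push_cast
  ring


theorem result' [Fintype G] (p : ℕ) [Fact p.Prime] (M : Ideal Cfsg.AlgInt)
    (hM : Cfsg.IsPModular p M) (B : Set (Cfsg.IrrCharacter G)) (hB : Cfsg.IsPBlock M B) (χ : G → ℂ)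
    (hχ : (∃ n : Cfsg.IrrCharacter G → ℤ, ∀ g : G, χ g = ∑ᶠ ψ ∈ B, (n ψ : ℂ) * (ψ : G → ℂ) g)) :
    (∃ n : Cfsg.IrrCharacter G → ℤ, ∀ g : G, (p ^ Cfsg.blockDefect p B : ℂ) *
      Cfsg.pRegularPart p χ g = ∑ᶠ ψ ∈ B, (n ψ : ℂ) * (ψ : G → ℂ) g) := by
  classical
  letI := fintypeIrr G
  haveI hprime : M.IsPrime := Helper24.isPrime_of_isPModular hM
  obtain ⟨n, hn⟩ := hχ
  obtain ⟨χ₀, hBeq⟩ := hB
  set d := Cfsg.blockDefect p B with hd
  set Bf : Finset (IrrCharacter G) := Finset.univ.filter (· ∈ B) with hBf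
  have hmemBf : ∀ ψ, ψ ∈ Bf ↔ ψ ∈ B := by
    intro ψ; rw [hBf]; simp
  -- the defect bound
  have hdψ : ∀ ψ ∈ B, (Nat.card G).factorization p - (charDegree (ψ : G → ℂ)).factorization p ≤ d := by
    intro ψ hψ
    rw [hd]
    unfold blockDefect
    apply Nat.sub_le_sub_left
    exact Nat.sInf_le ⟨ψ, hψ, rfl⟩
  -- integer coefficients
  have hz : ∀ ψ' ψ : IrrCharacter G, ψ ∈ B → ∃ z : ℤ,
      ((p ^ d : ℕ) : ℂ) * classInner (pRegularPart p (ψ' : G → ℂ)) (ψ : G → ℂ) = z :=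
    fun ψ' ψ hψ => key p ψ' ψ d (hdψ ψ hψ)
  let zf : IrrCharacter G → IrrCharacter G → ℤ := fun ψ' ψ =>
    if h : ψ ∈ B then Classical.choose (hz ψ' ψ h) else 0
  have hzf : ∀ ψ' ψ : IrrCharacter G, ψ ∈ B →
      ((p ^ d : ℕ) : ℂ) * classInner (pRegularPart p (ψ' : G → ℂ)) (ψ : G → ℂ) = zf ψ' ψ := by
    intro ψ' ψ hψ
    change _ = ((if h : ψ ∈ B then Classical.choose (hz ψ' ψ h) else 0 : ℤ) : ℂ)
    rw [dif_pos hψ]
    exact Classical.choose_spec (hz ψ' ψ hψ)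
  -- vanishing outside the block
  have hout : ∀ ψ' ∈ B, ∀ ψ : IrrCharacter G, ψ ∉ B →
      classInner (pRegularPart p (ψ' : G → ℂ)) (ψ : G → ℂ) = 0 := by
    intro ψ' hψ' ψ hψ
    have hnot : ¬ SameBlock M (ψ' : G → ℂ) (ψ : G → ℂ) := by
      intro hs
      apply hψ
      rw [hBeq] at hψ' ⊢
      exact Helper6.sameBlock_trans hψ' hs
    have h := Cfsg.Agent.S0952.result p M hM ψ' ψ hnot
    rw [Helper6.finsum_mem_eq_sum_ite] at h
    unfold classInner
    rw [show ∑ g : G, pRegularPart p (ψ' : G → ℂ) g * conj ((ψ : G → ℂ) g) =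
      ∑ x : G, if x ∈ {x : G | ¬ p ∣ orderOf x} then (ψ' : G → ℂ) x * conj ((ψ : G → ℂ) x) else 0 from ?_,
      h, mul_zero]
    apply Finset.sum_congr rfl
    intro x _
    by_cases hx : ¬ p ∣ orderOf x
    · have hx' : x ∈ {x : G | ¬ p ∣ orderOf x} := hx
      rw [if_pos hx', pRegularPart_of_regular p _ hx]
    · have hx' : x ∉ {x : G | ¬ p ∣ orderOf x} := hx
      rw [if_neg hx', pRegularPart_of_singular p _ hx, zero_mul]
  -- expansion of the p-regular part of a block member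
  have hexp : ∀ ψ' ∈ B, ∀ g : G, ((p ^ d : ℕ) : ℂ) * pRegularPart p (ψ' : G → ℂ) g =
      ∑ ψ ∈ Bf, (zf ψ' ψ : ℂ) * (ψ : G → ℂ) g := by
    intro ψ' hψ' g
    have hcf := pRegularPart_isClassFunction p
      (IsCharacter.isClassFunction (IsIrrCharacter.isCharacter ψ'.2))
    have h1 := congrFun (classFunction_eq_sum hcf) g
    rw [Finset.sum_apply] at h1
    rw [h1, Finset.mul_sum, hBf, Finset.sum_filter]
    apply Finset.sum_congr rfl
    intro ψ _
    rw [Pi.smul_apply, smul_eq_mul]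
    by_cases hψ : ψ ∈ B
    · rw [if_pos hψ, ← mul_assoc, hzf ψ' ψ hψ]
    · rw [if_neg hψ, hout ψ' hψ' ψ hψ, zero_mul, mul_zero]
  refine ⟨fun ψ => ∑ ψ' ∈ Bf, n ψ' * zf ψ' ψ, ?_⟩
  intro g
  rw [finsum_mem_eq]
  -- p-regular part of χ
  have hχreg : pRegularPart p χ g = ∑ ψ' ∈ Bf, (n ψ' : ℂ) * pRegularPart p (ψ' : G → ℂ) g := by
    by_cases hg : IsPRegular p g
    · rw [pRegularPart_of_regular p _ hg, hn g, finsum_mem_eq]
      apply Finset.sum_congr rfl
      intro ψ' _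
      rw [pRegularPart_of_regular p _ hg]
    · rw [pRegularPart_of_singular p _ hg]
      symm
      apply Finset.sum_eq_zero
      intro ψ' _
      rw [pRegularPart_of_singular p _ hg, mul_zero]
  have hpd : (p ^ Cfsg.blockDefect p B : ℂ) = ((p ^ d : ℕ) : ℂ) := by
    push_cast; rfl
  rw [hpd, hχreg, Finset.mul_sum]
  have h2 : ∀ ψ' ∈ Bf, ((p ^ d : ℕ) : ℂ) * ((n ψ' : ℂ) * pRegularPart p (ψ' : G → ℂ) g) =
      ∑ ψ ∈ Bf, (n ψ' : ℂ) * ((zf ψ' ψ : ℂ) * (ψ : G → ℂ) g) := by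
    intro ψ' hψ'
    rw [mul_left_comm, hexp ψ' ((hmemBf ψ').1 hψ') g, Finset.mul_sum]
  rw [Finset.sum_congr rfl h2, Finset.sum_comm]
  apply Finset.sum_congr rfl
  intro ψ _
  push_cast
  rw [Finset.sum_mul]
  apply Finset.sum_congr rfl
  intro ψ' _
  ring

/-- Fix a prime p and a maximal ideal M of the algebraic integers containing p, and a p-block B of the finite group G of defect d. For every integer combination χ of the irreducible characters in B, p^d times the function that agrees with χ on p-regular elements and vanishes elsewhere is again an integer combination of the irreducible characters in B. -/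
theorem result {G : Type*} [Group G] [Fintype G] (p : ℕ) [Fact p.Prime] (M : Ideal Cfsg.AlgInt) (hM : Cfsg.IsPModular p M) (B : Set (Cfsg.IrrCharacter G)) (hB : Cfsg.IsPBlock M B) (χ : G → ℂ) (hχ : (∃ n : Cfsg.IrrCharacter G → ℤ, ∀ g : G, χ g = ∑ᶠ ψ ∈ B, (n ψ : ℂ) * (ψ : G → ℂ) g)) : (∃ n : Cfsg.IrrCharacter G → ℤ, ∀ g : G, (p ^ Cfsg.blockDefect p B : ℂ) * Cfsg.pRegularPart p χ g = ∑ᶠ ψ ∈ B, (n ψ : ℂ) * (ψ : G → ℂ) g) := by
  exact result' p M hM B hB χ hχ

end Cfsg.Agent.S4666
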