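import Cfsg.Statements.S4668
import Mathlib
import Cfsg.Agent.Lib.Helper6.Osima2
import Cfsg.Agent.S4653
import Cfsg.Agent.S0028

set_option autoImplicit false
open Cfsg

namespace Cfsg.Agent.S4668

open Cfsg.Agent.CharLib Cfsg.Agent.Lib.Helper24 Cfsg.Agent.Lib.Helper6

section chain
variable {G : Type*} [Group G]

/-- the elements of the top group normalizing the chain from `j` on -/
def chainNorm {m : ℕ} (Q : Fin (m + 1) → Subgroup G) (j : ℕ) : Subgroup G :=
  Q (Fin.last m) ⊓ ⨅ (i : Fin (m + 1)), ⨅ (_ : j ≤ i.val), Subgroup.normalizer (Q i : Set G)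

theorem mem_chainNorm {m : ℕ} (Q : Fin (m + 1) → Subgroup G) (j : ℕ) (y : G) :
    y ∈ chainNorm Q j ↔ y ∈ Q (Fin.last m) ∧
      ∀ i : Fin (m + 1), j ≤ i.val → y ∈ Subgroup.normalizer (Q i : Set G) := by
  unfold chainNorm
  simp only [Subgroup.mem_inf, Subgroup.mem_iInf]

theorem conj_mem_chainNorm {m : ℕ} (Q : Fin (m + 1) → Subgroup G) (j : ℕ) (x : G)
    (hxN : ∀ i, x ∈ Subgroup.normalizer (Q i : Set G)) (y : G) :
    y ∈ chainNorm Q j ↔ x * y * x⁻¹ ∈ chainNorm Q j := by
  rw [mem_chainNorm, mem_chainNorm]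
  constructor
  · rintro ⟨h1, h2⟩
    refine ⟨(Subgroup.mem_normalizer_iff.mp (hxN _) y).mp h1, fun i hi => ?_⟩
    exact mul_mem (mul_mem (hxN i) (h2 i hi)) (inv_mem (hxN i))
  · rintro ⟨h1, h2⟩
    refine ⟨(Subgroup.mem_normalizer_iff.mp (hxN _) y).mpr h1, fun i hi => ?_⟩
    have := mul_mem (mul_mem (inv_mem (hxN i)) (h2 i hi)) (hxN i)
    simpa [mul_assoc] using this

theorem centralizes_top_of_chain [Finite G] (p : ℕ) [hp : Fact p.Prime] (m : ℕ)
    (Q : Fin (m + 1) → Subgroup G) (hQ : Monotone Q) (hQp : ∀ i, IsPGroup p (Q i)) (x : G)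
    (hxreg : ¬ p ∣ orderOf x) (hxN : ∀ i, x ∈ Subgroup.normalizer (Q i : Set G))
    (hcent : ∀ y ∈ Q (Fin.last m), (∀ i, y ∈ Subgroup.normalizer (Q i : Set G)) →
      x * y = y * x) :
    x ∈ Subgroup.centralizer (Q (Fin.last m) : Set G) := by
  have key : ∀ j : ℕ, j ≤ m → ∀ y ∈ chainNorm Q j, x * y = y * x := by
    intro j
    induction j with
    | zero =>
      intro _ y hy
      rw [mem_chainNorm] at hy
      exact hcent y hy.1 (fun i => hy.2 i (Nat.zero_le _))
    | succ j ih =>
      intro hj y hy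
      have ihj := ih (by omega)
      have hjlt : j < m + 1 := by omega
      set Qj : Subgroup G := Q ⟨j, hjlt⟩ with hQj
      have hQj_le : Qj ≤ chainNorm Q j := by
        intro q hq
        rw [mem_chainNorm]
        refine ⟨hQ (Fin.le_last _) hq, fun i hi => ?_⟩
        have : (⟨j, hjlt⟩ : Fin (m + 1)) ≤ i := hi
        exact Subgroup.le_normalizer (hQ this hq)
      have hmono : chainNorm Q j ≤ chainNorm Q (j + 1) := by
        intro q hq
        rw [mem_chainNorm] at hq ⊢
        exact ⟨hq.1, fun i hi => hq.2 i (by omega)⟩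
      have hcop : (Nat.card (Subgroup.zpowers x)).Coprime p := by
        rw [Nat.card_zpowers]
        exact ((Nat.Prime.coprime_iff_not_dvd hp.out).mpr hxreg).symm
      have hres := Cfsg.Agent.S0028.result p Qj (Subgroup.zpowers x) (chainNorm Q (j + 1))
        (hQp _) hcop (IsPGroup.to_le (hQp (Fin.last m)) inf_le_left) ?_ ?_ ?_ ?_
      · have h1 := hres (Subgroup.mem_zpowers x)
        rw [Subgroup.mem_centralizer_iff] at h1
        exact (h1 y hy).symm
      · -- Qj centralizes ⟨x⟩
        intro q hq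
        rw [Subgroup.mem_centralizer_iff]
        intro z hz
        obtain ⟨k, rfl⟩ := Subgroup.mem_zpowers_iff.mp hz
        have hc : Commute x q := ihj q (hQj_le hq)
        exact (hc.zpow_left k).eq
      · exact (hQj_le.trans hmono).trans Subgroup.le_normalizer
      · rw [Subgroup.zpowers_le]
        rw [Subgroup.mem_normalizer_iff]
        intro h
        exact conj_mem_chainNorm Q (j + 1) x hxN h
      · intro q hq
        rw [Subgroup.mem_inf] at hq
        have hqn : q ∈ Subgroup.normalizer (Qj : Set G) :=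
          Subgroup.centralizer_le_normalizer _ hq.2
        have hqj : q ∈ chainNorm Q j := by
          rw [mem_chainNorm] at hq ⊢
          refine ⟨hq.1.1, fun i hi => ?_⟩
          by_cases hij : j = i.val
          · have : i = ⟨j, hjlt⟩ := Fin.ext hij.symm
            rw [this]
            exact hqn
          · exact hq.1.2 i (by omega)
        have hc : Commute x q := ihj q hqj
        rw [Subgroup.mem_centralizer_iff]
        intro z hz
        obtain ⟨k, rfl⟩ := Subgroup.mem_zpowers_iff.mp hz
        exact (hc.zpow_left k).eq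
  rw [Subgroup.mem_centralizer_iff]
  intro y hy
  have hym : y ∈ chainNorm Q m := by
    rw [mem_chainNorm]
    refine ⟨hy, fun i hi => ?_⟩
    have : i = Fin.last m := by
      apply Fin.ext
      have := i.2
      simp only [Fin.val_last]
      omega
    rw [this]
    exact Subgroup.le_normalizer hy
  exact (key m le_rfl y hym).symm

end chain


theorem result' {G : Type*} [Group G] [Fintype G] (p : ℕ) [Fact p.Prime] (M : Ideal Cfsg.AlgInt) (hM : Cfsg.IsPModular p M) (m : ℕ) (Q : Fin (m + 1) → Subgroup G) (hQ : StrictMono Q) (hQp : ∀ i, IsPGroup p (Q i)) (N : Subgroup G) (hN : ∀ g : G, g ∈ N ↔ ∀ i, g ∈ Subgroup.normalizer (Q i : Set G)) (E : Set (Cfsg.IrrCharacter N)) (hE : Cfsg.IsPBlock M E) (n : N) (hn : (n : G) ∉ Subgroup.centralizer (Q (Fin.last m) : Set G)) : Cfsg.blockCoeff E n = 0 := by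
  classical
  let _ : Fintype N := Fintype.ofFinite N
  by_cases hsing : p ∣ orderOf n
  · obtain ⟨χ₀, rfl⟩ := hE
    exact blockCoeff_eq_zero_of_dvd_orderOf hM χ₀ n hsing
  · have hNle : N ≤ Subgroup.normalizer (Q (Fin.last m) : Set G) := fun g hg => (hN g).mp hg _
    haveI hRn : ((Q (Fin.last m)).subgroupOf N).Normal :=
      Subgroup.normal_subgroupOf_of_le_normalizer hNle
    have hRp : IsPGroup p ((Q (Fin.last m)).subgroupOf N) := (hQp _).comap_subtype
    apply Cfsg.Agent.S4653.result' p M hM ((Q (Fin.last m)).subgroupOf N) hRp E hE n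
    intro hcen
    apply hn
    apply centralizes_top_of_chain p m Q hQ.monotone hQp (n : G)
    · rwa [Subgroup.orderOf_coe]
    · exact (hN _).mp n.2
    · intro y hy hyN
      have hyN' : y ∈ N := (hN y).mpr hyN
      have h1 := Subgroup.mem_centralizer_iff.mp hcen ⟨y, hyN'⟩
        (Subgroup.mem_subgroupOf.mpr hy)
      have h2 := congrArg Subtype.val h1
      simpa using h2.symm

/-- Fix a prime p and a maximal ideal M of the algebraic integers containing p. Let Q₀ < Q₁ < ⋯ < Q_m be a strictly increasing chain of p-subgroups of the finite group G and N the intersection of their normalizers. Then every block idempotent of N is supported on C_G(Q_m): for every p-block E of N, the idempotent coefficient of E vanishes at every element of N outside C_G(Q_m). -/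
theorem result {G : Type*} [Group G] [Fintype G] (p : ℕ) [Fact p.Prime] (M : Ideal Cfsg.AlgInt) (hM : Cfsg.IsPModular p M) (m : ℕ) (Q : Fin (m + 1) → Subgroup G) (hQ : StrictMono Q) (hQp : ∀ i, IsPGroup p (Q i)) (N : Subgroup G) (hN : ∀ g : G, g ∈ N ↔ ∀ i, g ∈ Subgroup.normalizer (Q i : Set G)) (E : Set (Cfsg.IrrCharacter N)) (hE : Cfsg.IsPBlock M E) (n : N) (hn : (n : G) ∉ Subgroup.centralizer (Q (Fin.last m) : Set G)) : Cfsg.blockCoeff E n = 0 := by
  exact result' p M hM m Q hQ hQp N hN E hE n hn

end Cfsg.Agent.S4668
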