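import Cfsg.Statements.S4670


import Mathlib
import Cfsg.Agent.Lib.Helper6.BrauerCorrH

set_option autoImplicit false
open Cfsg

namespace Cfsg.Agent.S4670

open Cfsg.Agent.Lib.Helper6 Cfsg.Agent.Lib.Helper24

/-- Fix a prime p and a maximal ideal M of the algebraic integers containing p. Let P be a p-subgroup of the finite group G and H a subgroup containing N_G(P). For every p-block B of G with defect group P there is exactly one p-block c of H with defect group P whose idempotent agrees with that of B, modulo the local ideal at M, at every element of C_G(P) (their Brauer-map images at P coincide); and every p-block c of H with defect group P arises in this way from exactly one such B. This is the Brauer correspondence over H. -/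
theorem result {G : Type*} [Group G] [Fintype G] (p : ℕ) [Fact p.Prime] (M : Ideal Cfsg.AlgInt) (hM : Cfsg.IsPModular p M) (P H : Subgroup G) (hP : IsPGroup p P) (hH : Subgroup.normalizer (P : Set G) ≤ H) : (∀ B : Set (Cfsg.IrrCharacter G), Cfsg.IsPBlock M B → Cfsg.IsDefectGroup p M B P → ∃! c : Set (Cfsg.IrrCharacter H), Cfsg.IsPBlock M c ∧ Cfsg.IsDefectGroup p M c (P.subgroupOf H) ∧ ∀ x : G, x ∈ Subgroup.centralizer (P : Set G) → Cfsg.MemLocalIdeal M (Cfsg.blockCoeff B x - Cfsg.subgroupBlockCoeff H c x)) ∧ (∀ c : Set (Cfsg.IrrCharacter H), Cfsg.IsPBlock M c → Cfsg.IsDefectGroup p M c (P.subgroupOf H) → ∃! B : Set (Cfsg.IrrCharacter G), Cfsg.IsPBlock M B ∧ Cfsg.IsDefectGroup p M B P ∧ ∀ x : G, x ∈ Subgroup.centralizer (P : Set G) → Cfsg.MemLocalIdeal M (Cfsg.blockCoeff B x - Cfsg.subgroupBlockCoeff H c x)) := by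
  have hprime : M.IsPrime := isPrime_of_isPModular hM
  have hPH : P ≤ H := Subgroup.le_normalizer.trans hH
  refine ⟨?_, ?_⟩
  · intro B hB hBD
    obtain ⟨c, hc, hcD, hcond⟩ := BrauerCorrH.exists_block_H hM P H hP hH B hB hBD
    refine ⟨c, ⟨hc, hcD, hcond⟩, ?_⟩
    rintro c₂ ⟨hc₂, hc₂D, hcond₂⟩
    -- a defect class of `c` lies in the centralizer of `P`
    obtain ⟨x₀, hx₀, hS⟩ := hcD
    have hS' : IsSylowIn p (Subgroup.centralizer ({x₀} : Set H)) (P.subgroupOf H) := hS
    have hx₀P : x₀ ∈ Subgroup.centralizer ((P.subgroupOf H : Subgroup H) : Set H) := by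
      rw [Subgroup.mem_centralizer_iff]
      intro d hd
      exact Subgroup.mem_centralizer_singleton_iff.mp (hS'.le hd)
    symm
    apply BrauerCorrH.block_eq_of_brauer_eq hM (P.subgroupOf H) hP.comap_subtype c c₂ hc hc₂ x₀
      hx₀P hx₀.2.1
    intro y hy
    have hyG : (y : G) ∈ Subgroup.centralizer (P : Set G) :=
      (mem_centralizer_subgroupOf_iff hPH y).mp hy
    have h1 := hcond (y : G) hyG
    have h2 := hcond₂ (y : G) hyG
    rw [subgroupBlockCoeff_coe] at h1 h2
    have h3 := memLocalIdeal_sub h2 h1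
    have h4 : blockCoeff B (y : G) - blockCoeff c₂ y - (blockCoeff B (y : G) - blockCoeff c y) =
        blockCoeff c y - blockCoeff c₂ y := by ring
    rwa [h4] at h3
  · intro c hc hcD
    obtain ⟨B, hB, hBD, hcond⟩ := BrauerCorrH.exists_block_G hM P H hP hH c hc hcD
    refine ⟨B, ⟨hB, hBD, hcond⟩, ?_⟩
    rintro B₂ ⟨hB₂, hB₂D, hcond₂⟩
    obtain ⟨x₀, hx₀, hS⟩ := hBD
    have hS' : IsSylowIn p (Subgroup.centralizer ({x₀} : Set G)) P := hS
    have hx₀P : x₀ ∈ Subgroup.centralizer (P : Set G) := by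
      rw [Subgroup.mem_centralizer_iff]
      intro d hd
      exact Subgroup.mem_centralizer_singleton_iff.mp (hS'.le hd)
    symm
    apply BrauerCorrH.block_eq_of_brauer_eq hM P hP B B₂ hB hB₂ x₀ hx₀P hx₀.2.1
    intro y hy
    have h1 := hcond y hy
    have h2 := hcond₂ y hy
    have h3 := memLocalIdeal_sub h1 h2
    have h4 : blockCoeff B y - subgroupBlockCoeff H c y -
        (blockCoeff B₂ y - subgroupBlockCoeff H c y) = blockCoeff B y - blockCoeff B₂ y := by ring
    rwa [h4] at h3

end Cfsg.Agent.S4670
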