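import Cfsg.Statements.S4676
import Cfsg.Agent.Lib.Helper23.HeightZeroN
import Cfsg.Agent.Lib.Helper6.DefectOrder

set_option autoImplicit false
open Cfsg

namespace Cfsg.Agent.S4676



/-- Fix a prime p and a maximal ideal M of the algebraic integers containing p. Let B be a p-block of the finite group G with defect group P. For χ in B, let the height of χ be the exponent of p in the degree of χ minus the least such exponent over the members of B. Then the sum over χ in B of p raised to twice the height of χ is at most the integer part of (order of P)²/4, plus 1; in particular B has at most that many irreducible characters. -/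
theorem result {G : Type*} [Group G] [Fintype G] (p : ℕ) [Fact p.Prime] (M : Ideal Cfsg.AlgInt) (hM : Cfsg.IsPModular p M) (B : Set (Cfsg.IrrCharacter G)) (hB : Cfsg.IsPBlock M B) (P : Subgroup G) (hP : Cfsg.IsDefectGroup p M B P) : ∑ᶠ χ ∈ B, p ^ (2 * Cfsg.blockHeight p B (χ : G → ℂ)) ≤ Nat.card P ^ 2 / 4 + 1 := by
  classical
  let _ := Cfsg.Agent.CharLib.fintypeIrr G
  have h := Cfsg.Agent.Lib.Helper23.brauer_feit_heights (p := p) hM hB
  have hcard := Cfsg.Agent.Lib.Helper6.card_defectGroup_eq hM B hB P hP
  have hset : B = ↑(Finset.univ.filter (fun χ : Cfsg.IrrCharacter G => χ ∈ B)) := by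
    ext χ
    simp
  have hsum : ∑ᶠ χ ∈ B, p ^ (2 * Cfsg.blockHeight p B (χ : G → ℂ)) =
      ∑ χ ∈ Finset.univ.filter (fun χ : Cfsg.IrrCharacter G => χ ∈ B),
        p ^ (2 * Cfsg.blockHeight p B (χ : G → ℂ)) := by
    conv_lhs => rw [hset]
    rw [finsum_mem_coe_finset]
    refine Finset.sum_congr ?_ (fun _ _ => ?_)
    · ext χ; simp
    · congr 3
      exact hset.symm
  rw [hsum, hcard]
  have hd : Cfsg.blockDefect p B = (Nat.card G).factorization p -
      Cfsg.Agent.Lib.Helper23.minVal p B := rfl
  have hh : ∀ χ : Cfsg.IrrCharacter G, Cfsg.blockHeight p B (χ : G → ℂ) =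
      (Cfsg.charDegree (χ : G → ℂ)).factorization p - Cfsg.Agent.Lib.Helper23.minVal p B :=
    fun _ => rfl
  simp only [hh]
  rw [hd]
  obtain ⟨h1, h2⟩ := h
  have h3 : (p ^ ((Nat.card G).factorization p - Cfsg.Agent.Lib.Helper23.minVal p B)) ^ 2 =
      p ^ (2 * ((Nat.card G).factorization p - Cfsg.Agent.Lib.Helper23.minVal p B)) := by
    rw [← pow_mul, mul_comm]
  rw [h3]
  omega

end Cfsg.Agent.S4676
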