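import Cfsg.Statements.S4680
import Mathlib
import Cfsg.Agent.Lib.Helper24.BlockFusion
import Cfsg.Agent.Lib.Helper24.PPowerIndex
import Cfsg.Agent.S4661

set_option autoImplicit false
open Cfsg

namespace Cfsg.Agent.S4680

open Cfsg.Agent.CharLib Cfsg.Agent.Lib.Helper24 Cfsg.Agent.Lib.Helper6
open scoped ComplexConjugate
universe u

theorem result' {G : Type u} [Group G] [Fintype G] (p : ℕ) [Fact p.Prime] (M : Ideal Cfsg.AlgInt) (hM : Cfsg.IsPModular p M) (B : Set (Cfsg.IrrCharacter G)) (P : Subgroup G) (e : Set (Cfsg.IrrCharacter (Subgroup.centralizer (P : Set G)))) (hmax : Cfsg.IsMaximalBrauerPair p M B P e) (F : Cfsg.FusionSystem P) (hF : Cfsg.IsBlockFusionSystemOn p M B P e F) (Q : Subgroup G) (f : Set (Cfsg.IrrCharacter (Subgroup.centralizer (Q : Set G)))) (hQP : Q ≤ P) (hf : Cfsg.IsPBlock M f) (hle : Cfsg.SubpairLE p M Q f P e) : F.IsCentric Q ↔ Cfsg.IsDefectGroup p M f ((Q ⊓ Subgroup.centralizer (Q : Set G)).subgroupOf (Subgroup.centralizer (Q : Set G))) := by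
  classical
  haveI hprime : M.IsPrime := isPrime_of_isPModular hM
  have hPe : IsBrauerPair p M P e := hmax.1.1
  constructor
  · intro hcen
    obtain ⟨-, x, hlex, hdefx⟩ :=
      Cfsg.Agent.S4661.result p M hM B P Q e f hmax hQP hf hle
    have hconj : F.IsConj Q (Q.map (MulAut.conj x).toMonoidHom) :=
      (blockFusion_isConj_iff hM B P e F hF Q f hle _).mpr ⟨x, rfl, hlex⟩
    have h1 : P ⊓ Subgroup.centralizer ((Q.map (MulAut.conj x).toMonoidHom : Subgroup G) : Set G) ≤
        Q.map (MulAut.conj x).toMonoidHom := hcen.2 _ hconj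
    have hQxP : Q.map (MulAut.conj x).toMonoidHom ≤ P :=
      Cfsg.Agent.S4681.le_of_subpairLE p M _ _ P e hlex
    have h2 : P ⊓ Subgroup.centralizer
        ((Q.map (MulAut.conj x).toMonoidHom : Subgroup G) : Set G) =
        Q.map (MulAut.conj x).toMonoidHom ⊓ Subgroup.centralizer
          ((Q.map (MulAut.conj x).toMonoidHom : Subgroup G) : Set G) :=
      le_antisymm (le_inf h1 inf_le_right) (inf_le_inf_right _ hQxP)
    rw [h2] at hdefx
    have h3 := isDefectGroup_of_conjBlock (M := M) (p := p) Q x hdefx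
    rwa [comap_cjC_inf] at h3
  · intro hdef
    refine ⟨hQP, ?_⟩
    intro Q' hQ'
    obtain ⟨g, rfl, hleg⟩ := (blockFusion_isConj_iff hM B P e F hF Q f hle Q').mp hQ'
    have hQgP : Q.map (MulAut.conj g).toMonoidHom ≤ P :=
      Cfsg.Agent.S4681.le_of_subpairLE p M _ _ P e hleg
    obtain ⟨D₂, gD₂, hmaxD₂, hCPD₂⟩ := Cfsg.Agent.S4661.exists_maximal_pair_ge p M hM P
      (Q.map (MulAut.conj g).toMonoidHom) e (conjBlock Q g f) hPe hQgP hleg
    let _ : Fintype (Subgroup.centralizer
      ((Q.map (MulAut.conj g).toMonoidHom : Subgroup G) : Set G)) := Fintype.ofFinite _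
    have hD₂def : IsDefectGroup p M (conjBlock Q g f) D₂ :=
      Cfsg.Agent.S4659.result p M hM _ D₂ gD₂ hmaxD₂
    have hDg := isDefectGroup_conjBlock (M := M) (p := p) Q g hdef
    rw [comap_cjC_symm_inf] at hDg
    have hfg : IsPBlock M (conjBlock Q g f) := isPBlock_conjBlock Q g hf
    have h2 : Nat.card D₂ ≤ Nat.card _ := card_le_of_isDefectGroup hM hfg hD₂def hDg
    have hZle : ((Q.map (MulAut.conj g).toMonoidHom) ⊓ Subgroup.centralizer
        ((Q.map (MulAut.conj g).toMonoidHom : Subgroup G) : Set G)).subgroupOf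
        (Subgroup.centralizer ((Q.map (MulAut.conj g).toMonoidHom : Subgroup G) : Set G)) ≤
        (P ⊓ Subgroup.centralizer
        ((Q.map (MulAut.conj g).toMonoidHom : Subgroup G) : Set G)).subgroupOf
        (Subgroup.centralizer ((Q.map (MulAut.conj g).toMonoidHom : Subgroup G) : Set G)) := by
      intro c hc
      rw [Subgroup.mem_subgroupOf, Subgroup.mem_inf] at hc ⊢
      exact ⟨hQgP hc.1, hc.2⟩
    have heq := Subgroup.eq_of_le_of_card_ge (hZle.trans hCPD₂) h2
    intro y hy
    have hy' : (⟨y, hy.2⟩ : Subgroup.centralizer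
        ((Q.map (MulAut.conj g).toMonoidHom : Subgroup G) : Set G)) ∈ D₂ := by
      apply hCPD₂
      rw [Subgroup.mem_subgroupOf]
      exact hy
    rw [← heq, Subgroup.mem_subgroupOf] at hy'
    exact hy'.1

/-- Fix a prime p and a maximal ideal M of the algebraic integers containing p, a p-block B of the finite group G with maximal Brauer pair (P, e), its fusion system F on P, and a Brauer pair (Q, f) ≤ (P, e). Then Q is centric in F if and only if Z(Q) is a defect group of f as a block of C_G(Q). -/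
theorem result {G : Type*} [Group G] [Fintype G] (p : ℕ) [Fact p.Prime] (M : Ideal Cfsg.AlgInt) (hM : Cfsg.IsPModular p M) (B : Set (Cfsg.IrrCharacter G)) (P : Subgroup G) (e : Set (Cfsg.IrrCharacter (Subgroup.centralizer (P : Set G)))) (hmax : Cfsg.IsMaximalBrauerPair p M B P e) (F : Cfsg.FusionSystem P) (hF : Cfsg.IsBlockFusionSystemOn p M B P e F) (Q : Subgroup G) (f : Set (Cfsg.IrrCharacter (Subgroup.centralizer (Q : Set G)))) (hQP : Q ≤ P) (hf : Cfsg.IsPBlock M f) (hle : Cfsg.SubpairLE p M Q f P e) : F.IsCentric Q ↔ Cfsg.IsDefectGroup p M f ((Q ⊓ Subgroup.centralizer (Q : Set G)).subgroupOf (Subgroup.centralizer (Q : Set G))) := by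
  exact result' p M hM B P e hmax F hF Q f hQP hf hle

end Cfsg.Agent.S4680
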