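import Cfsg.Statements.S4686
import Mathlib
import Cfsg.Agent.Lib.Helper24.NilFrobenius

set_option autoImplicit false
open Cfsg

namespace Cfsg.Agent.S4686

open Cfsg.Agent.CharLib Cfsg.Agent.Lib.Helper24 Cfsg.Agent.Lib.Helper6
open scoped ComplexConjugate
universe u

theorem pow_conj_eq {G : Type u} [Group G] (Q : Subgroup G) (a b : G)
    (ha : ∀ q ∈ Q, a * q * a⁻¹ ∈ Q) (h : ∀ q ∈ Q, a * q * a⁻¹ = b * q * b⁻¹) :
    ∀ n : ℕ, ∀ q ∈ Q, a ^ n * q * (a ^ n)⁻¹ = b ^ n * q * (b ^ n)⁻¹ := by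
  intro n
  induction n with
  | zero => intro q _; simp
  | succ n ih =>
    intro q hq
    have h1 := ih (a * q * a⁻¹) (ha q hq)
    calc a ^ (n + 1) * q * (a ^ (n + 1))⁻¹ = a ^ n * (a * q * a⁻¹) * (a ^ n)⁻¹ := by
          rw [pow_succ]; group
      _ = b ^ n * (a * q * a⁻¹) * (b ^ n)⁻¹ := h1
      _ = b ^ n * (b * q * b⁻¹) * (b ^ n)⁻¹ := by rw [h q hq]
      _ = b ^ (n + 1) * q * (b ^ (n + 1))⁻¹ := by rw [pow_succ]; group

theorem result' {G : Type u} [Group G] [Fintype G] (p : ℕ) [Fact p.Prime] (M : Ideal Cfsg.AlgInt) (hM : Cfsg.IsPModular p M) (B : Set (Cfsg.IrrCharacter G)) (P : Subgroup G) (e : Set (Cfsg.IrrCharacter (Subgroup.centralizer (P : Set G)))) (hmax : Cfsg.IsMaximalBrauerPair p M B P e) (F : Cfsg.FusionSystem P) (hF : Cfsg.IsBlockFusionSystemOn p M B P e F) : Cfsg.IsNilpotentBlock p M B ↔ ∀ Q : Subgroup G, F.Hom Q = (Cfsg.innerFusionSystem P).Hom Q := by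
  classical
  haveI hprime : M.IsPrime := isPrime_of_isPModular hM
  have hPe : IsBrauerPair p M P e := hmax.1.1
  have hB : IsPBlock M B := hmax.1.2.1
  have hP : IsPGroup p P := hPe.1
  constructor
  · intro hnil Q
    ext φ
    constructor
    · intro hφ
      obtain ⟨hQP, g, hφg, hQg, f, hle, hleg⟩ := (hF.2 Q φ).mp hφ
      obtain ⟨u, hu, c, hc, hguc⟩ := nil_frobenius' hM B hnil P e hmax Q f hle g hleg
      refine ⟨hQP, u, hu, ?_⟩
      intro x
      rw [hφg x, hguc]
      have hcomm := Subgroup.mem_centralizer_iff.mp hc (x : G) x.2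
      calc u * c * (x : G) * (u * c)⁻¹ = u * (c * (x : G)) * c⁻¹ * u⁻¹ := by group
        _ = u * ((x : G) * c) * c⁻¹ * u⁻¹ := by rw [hcomm]
        _ = u * (x : G) * u⁻¹ := by group
    · rintro ⟨hQP, g, hg, hφg⟩
      have h1 := F.conj_mem hQP hg
      have e1 : φ = conjHom Q g := by
        ext x
        rw [hφg x]
        rfl
      rw [e1]
      exact h1
  · intro hall
    refine ⟨hB, ?_⟩
    intro Q f hQf x hxN hxst hxreg
    obtain ⟨z, hz⟩ := Cfsg.Agent.S4660.result p M hM B P Q e f hmax hQf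
    have hf : IsPBlock M f := hQf.1.2
    have hf₁ : IsPBlock M (conjBlock Q z f) := isPBlock_conjBlock Q z hf
    have hx₁N : z * x * z⁻¹ ∈ Subgroup.normalizer
        ((Q.map (MulAut.conj z).toMonoidHom : Subgroup G) : Set G) :=
      conj_mem_normalizer_map_conj Q z x hxN
    have hx₁st := stabilizesBlock_conjBlock Q z x f hxst
    have hfix := cjPair_eq_self_of_stab (M := M) (z * x * z⁻¹) _ (conjBlock Q z f) hf₁ hx₁N hx₁st
    have hQ₁P : Q.map (MulAut.conj z).toMonoidHom ≤ P :=
      Cfsg.Agent.S4681.le_of_subpairLE p M _ _ P e hz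
    have hφ : conjHom (Q.map (MulAut.conj z).toMonoidHom) (z * x * z⁻¹) ∈
        F.Hom (Q.map (MulAut.conj z).toMonoidHom) := by
      rw [hF.2]
      have hle2 : Relation.ReflTransGen (NormalSubpairRel p M)
          (cjPair (z * x * z⁻¹) (⟨Q.map (MulAut.conj z).toMonoidHom, conjBlock Q z f⟩ :
            BrauerPairIdx G)) ⟨P, e⟩ := by
        rw [hfix]; exact hz
      refine ⟨hQ₁P, z * x * z⁻¹, fun u => rfl, ?_, conjBlock Q z f, hz, hle2⟩
      exact Cfsg.Agent.S4681.le_of_reflTransGen p M _ _ hle2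
    rw [hall] at hφ
    obtain ⟨-, u, hu, hφu⟩ := hφ
    have hbase : ∀ q ∈ Q.map (MulAut.conj z).toMonoidHom,
        (z * x * z⁻¹) * q * (z * x * z⁻¹)⁻¹ = u * q * u⁻¹ := by
      intro q hq
      exact hφu ⟨q, hq⟩
    have hnorm : ∀ q ∈ Q.map (MulAut.conj z).toMonoidHom,
        (z * x * z⁻¹) * q * (z * x * z⁻¹)⁻¹ ∈ Q.map (MulAut.conj z).toMonoidHom := by
      intro q hq
      exact (Subgroup.mem_normalizer_iff.mp hx₁N q).mp hq
    have hpow := pow_conj_eq _ _ _ hnorm hbase (Nat.card P)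
    have hu1 : u ^ Nat.card P = 1 := by
      have h1 : (⟨u, hu⟩ : P) ^ Nat.card P = 1 := pow_card_eq_one'
      have h2 : ((⟨u, hu⟩ : P) : G) ^ Nat.card P = 1 := by
        rw [← Subgroup.coe_pow, h1]; rfl
      exact h2
    have hcent : (z * x * z⁻¹) ^ Nat.card P ∈ Subgroup.centralizer
        ((Q.map (MulAut.conj z).toMonoidHom : Subgroup G) : Set G) := by
      rw [Subgroup.mem_centralizer_iff]
      intro q hq
      have h1 := hpow q hq
      rw [hu1] at h1
      simp only [one_mul, inv_one, mul_one] at h1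
      calc q * (z * x * z⁻¹) ^ Nat.card P
          = ((z * x * z⁻¹) ^ Nat.card P * q * ((z * x * z⁻¹) ^ Nat.card P)⁻¹) *
            (z * x * z⁻¹) ^ Nat.card P := by rw [h1]
        _ = (z * x * z⁻¹) ^ Nat.card P * q := by group
    have hord : orderOf (z * x * z⁻¹) = orderOf x := by
      have := (MulAut.conj z).orderOf_eq x
      rwa [MulAut.conj_apply] at this
    have hcop : Nat.Coprime (Nat.card P) (orderOf (z * x * z⁻¹)) := by
      obtain ⟨k, hk⟩ := hP.exists_card_eq
      rw [hk, hord]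
      apply Nat.Coprime.pow_left
      exact (Nat.Prime.coprime_iff_not_dvd Fact.out).mpr hxreg
    obtain ⟨m, hm⟩ := exists_pow_eq_self_of_coprime hcop
    have hx₁C : z * x * z⁻¹ ∈ Subgroup.centralizer
        ((Q.map (MulAut.conj z).toMonoidHom : Subgroup G) : Set G) := by
      rw [← hm]
      exact Subgroup.pow_mem _ hcent m
    have := (mem_centralizer_map_conj_iff Q z _).mp hx₁C
    have e2 : z⁻¹ * (z * x * z⁻¹) * z = x := by group
    rwa [e2] at this

/-- Fix a prime p and a maximal ideal M of the algebraic integers containing p, a p-block B of the finite group G with maximal Brauer pair (P, e) and fusion system F on P. Then B is nilpotent (for every Brauer pair (Q, f) of B the stabilizer of f in N_G(Q) is C_G(Q) extended by a p-group) if and only if F is the inner fusion system of P: its maps from each subgroup of P are exactly the conjugations by elements of P. -/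
theorem result {G : Type*} [Group G] [Fintype G] (p : ℕ) [Fact p.Prime] (M : Ideal Cfsg.AlgInt) (hM : Cfsg.IsPModular p M) (B : Set (Cfsg.IrrCharacter G)) (P : Subgroup G) (e : Set (Cfsg.IrrCharacter (Subgroup.centralizer (P : Set G)))) (hmax : Cfsg.IsMaximalBrauerPair p M B P e) (F : Cfsg.FusionSystem P) (hF : Cfsg.IsBlockFusionSystemOn p M B P e F) : Cfsg.IsNilpotentBlock p M B ↔ ∀ Q : Subgroup G, F.Hom Q = (Cfsg.innerFusionSystem P).Hom Q := by
  exact result' p M hM B P e hmax F hF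

end Cfsg.Agent.S4686
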