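import Cfsg.Statements.S4692
import Mathlib
import Cfsg.Agent.Lib.Helper24.NormalCent
import Cfsg.Agent.Lib.Helper24.NilFrobenius
import Cfsg.Agent.Lib.Helper23.Covering2
import Cfsg.Agent.S4658

set_option autoImplicit false
open Cfsg

namespace Cfsg.Agent.S4692

open Cfsg.Agent.CharLib Cfsg.Agent.Lib.Helper24 Cfsg.Agent.Lib.Helper6
open scoped ComplexConjugate
universe u

section core
variable {G : Type u} [Group G] [Fintype G] {M : Ideal AlgInt} {p : ℕ} [hpp : Fact p.Prime]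
  (N : Subgroup G) [hN : N.Normal]

theorem index_subgroupOf_ppow (hidx : ∃ k : ℕ, N.index = p ^ k) (C : Subgroup G) :
    ∃ k : ℕ, (N.subgroupOf C).index = p ^ k := by
  obtain ⟨k, hk⟩ := hidx
  have h1 : (N.subgroupOf C).index ∣ N.index := Subgroup.relIndex_dvd_index_of_normal N C
  rw [hk] at h1
  obtain ⟨j, -, hj⟩ := (Nat.dvd_prime_pow hpp.out).mp h1
  exact ⟨j, hj⟩

theorem blockCoeff_supp (c : Set (IrrCharacter N)) (B : Set (IrrCharacter G))
    (hBc : ∀ g : G, blockCoeff B g = subgroupBlockCoeff N c g) (g : G) (hg : g ∉ N) :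
    blockCoeff B g = 0 := by
  rw [hBc, subgroupBlockCoeff_eq_extendByZero, extendByZero_not_mem _ _ hg]

theorem blockCoeff_coe (c : Set (IrrCharacter N)) (B : Set (IrrCharacter G))
    (hBc : ∀ g : G, blockCoeff B g = subgroupBlockCoeff N c g) (n : N) :
    blockCoeff c n = blockCoeff B n := by
  rw [hBc, subgroupBlockCoeff_coe]

/-- block-constancy of the Brauer functional of a block idempotent -/
theorem brauer_const {X : Type u} [Group X] [Fintype X] (hM : IsPModular p M)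
    (A : Set (IrrCharacter X)) (hA : IsPBlock M A) (R : Subgroup X)
    (ξ ξ₁ : IrrCharacter (Subgroup.centralizer (R : Set X)))
    (hsame : SameBlock M (ξ : Subgroup.centralizer (R : Set X) → ℂ)
      (ξ₁ : Subgroup.centralizer (R : Set X) → ℂ))
    (h : MemLocalIdeal M (brauerOmega R (blockCoeff A)
      (ξ : Subgroup.centralizer (R : Set X) → ℂ) - 1)) :
    MemLocalIdeal M (brauerOmega R (blockCoeff A)
      (ξ₁ : Subgroup.centralizer (R : Set X) → ℂ) - 1) := by
  classical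
  have hp : M.IsPrime := isPrime_of_isPModular hM
  obtain ⟨χ₀, rfl⟩ := hA
  rw [brauerOmega_eq] at h ⊢
  have h1 := memLocalIdeal_omegaFun_sub (M := M) ξ ξ₁ hsame
    (a := resFun (Subgroup.centralizer (R : Set X)) (blockCoeff (blockOf M (χ₀ : X → ℂ))))
    (resFun_isClassFunction _ (blockCoeff_isClassFunction _))
    (fun x => memLocalRing_blockCoeff_blockOf χ₀ _)
  have h2 := memLocalIdeal_sub h h1
  have e : ∀ a b : ℂ, a - 1 - (a - b) = b - 1 := fun a b => by ring
  rwa [e] at h2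

theorem orderOf_coe_eq (n : N) : orderOf (n : G) = orderOf n := by
  exact Subgroup.orderOf_coe n

/-- `B` nilpotent implies `c` nilpotent. -/
theorem converse_core (hM : IsPModular p M) (hidx : ∃ k : ℕ, N.index = p ^ k)
    (c : Set (IrrCharacter N)) (B : Set (IrrCharacter G)) (hB : IsPBlock M B)
    (hBc : ∀ g : G, blockCoeff B g = subgroupBlockCoeff N c g)
    (hnil : IsNilpotentBlock p M B)
    (Q' : Subgroup N) (φ' : Set (IrrCharacter (Subgroup.centralizer (Q' : Set N))))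
    (hφ' : IsBrauerPairOf p M c Q' φ') (x' : N)
    (hx' : x' ∈ Subgroup.normalizer (Q' : Set N))
    (hst' : StabilizesBlock (Subgroup.centralizer (Q' : Set N)) φ' x')
    (hreg : IsPRegular p x') : x' ∈ Subgroup.centralizer (Q' : Set N) := by
  classical
  have hp : M.IsPrime := isPrime_of_isPModular hM
  set Q : Subgroup G := Q'.map N.subtype with hQdef
  have hQ : Q = Q'.map N.subtype := rfl
  have hxQ : (x' : G) ∈ Subgroup.normalizer (Q : Set G) :=
    (mem_normalizer_map_subtype_iff N Q Q' hQ x').mpr hx'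
  have hxC : (x' : G) ∈ Subgroup.normalizer
      ((Subgroup.centralizer (Q : Set G) : Subgroup G) : Set G) :=
    mem_normalizer_centralizer_of_normalizes Q _ hxQ
  -- a member of φ'
  obtain ⟨θ', hθ'⟩ : ∃ θ' : IrrCharacter (Subgroup.centralizer (Q' : Set N)), θ' ∈ φ' := by
    obtain ⟨θ₁, h⟩ := hφ'.1.2
    exact ⟨θ₁, by rw [h]; exact mem_blockOf_self θ₁⟩
  set ι := centEquivN N Q Q' hQ with hι
  set θ : IrrCharacter (N.subgroupOf (Subgroup.centralizer (Q : Set G))) :=
    irrCompIso ι.symm θ' with hθdef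
  have hιθ : irrCompIso ι θ = θ' := BlockIso.irrCompIso_irrCompIso_symm ι θ'
  obtain ⟨ξ, hξ⟩ := Cfsg.Agent.Lib.Helper23.exists_irr_over_constituent
    (N.subgroupOf (Subgroup.centralizer (Q : Set G))) θ
  -- the pair (Q, f)
  have hξω : MemLocalIdeal M (brauerOmega Q (blockCoeff B)
      (ξ : Subgroup.centralizer (Q : Set G) → ℂ) - 1) := by
    rw [brauerOmega_eq_of_over N Q Q' hQ (blockCoeff B) (blockCoeff_isClassFunction B)
      (blockCoeff_supp N c B hBc) (blockCoeff c) (blockCoeff_coe N c B hBc) ξ θ hξ, hιθ]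
    exact hφ'.2.2 θ' hθ'
  have hpair : IsBrauerPairOf p M B Q (blockOf M (ξ : Subgroup.centralizer (Q : Set G) → ℂ)) := by
    refine ⟨⟨hφ'.1.1.map _, ⟨ξ, rfl⟩⟩, hB, ?_⟩
    intro ξ₁ hξ₁
    exact brauer_const hM B hB Q ξ ξ₁ hξ₁ hξω
  -- x stabilizes f
  have hstab : StabilizesBlock (Subgroup.centralizer (Q : Set G))
      (blockOf M (ξ : Subgroup.centralizer (Q : Set G) → ℂ)) (x' : G) := by
    refine ⟨hxC, ?_⟩
    intro χ hχ
    refine ⟨conjIrr _ (x' : G) hxC χ, ?_, isConjCharOf_conjIrr _ (x' : G) hxC χ⟩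
    -- ξ ~ ξ^x
    have hcon2 := classInner_conj_actN N Q (x' : G) hxQ
      (ξ : Subgroup.centralizer (Q : Set G) → ℂ)
      (conjIrr _ (x' : G) hxC ξ : Subgroup.centralizer (Q : Set G) → ℂ)
      (isConjCharOf_conjIrr _ (x' : G) hxC ξ) θ
    set θ₂ : IrrCharacter (N.subgroupOf (Subgroup.centralizer (Q : Set G))) :=
      irrCompIso (actN N Q (x' : G) hxQ).symm θ with hθ₂def
    have hθ₂mem : irrCompIso ι θ₂ ∈ φ' :=
      actN_mem_of_stabilizesBlock N Q Q' hQ x' hxQ φ' hst' θ (by rw [hιθ]; exact hθ')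
    have hs1 : SameBlock M (irrCompIso ι θ : Subgroup.centralizer (Q' : Set N) → ℂ)
        (irrCompIso ι θ₂ : Subgroup.centralizer (Q' : Set N) → ℂ) := by
      obtain ⟨θ₁, h⟩ := hφ'.1.2
      have a1 : irrCompIso ι θ ∈ blockOf M (θ₁ : _ → ℂ) := by rw [← h, hιθ]; exact hθ'
      have a2 : irrCompIso ι θ₂ ∈ blockOf M (θ₁ : _ → ℂ) := by rw [← h]; exact hθ₂mem
      exact sameBlock_trans (sameBlock_symm a1) a2
    have hs2 : SameBlock M (θ : N.subgroupOf (Subgroup.centralizer (Q : Set G)) → ℂ)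
        (θ₂ : N.subgroupOf (Subgroup.centralizer (Q : Set G)) → ℂ) := by
      have := sameBlock_compIso M ι.symm hs1
      have e1 : (irrCompIso ι θ : Subgroup.centralizer (Q' : Set N) → ℂ) ∘ ι.symm =
          (θ : _ → ℂ) := by
        funext h; simp [irrCompIso_apply]
      have e2 : (irrCompIso ι θ₂ : Subgroup.centralizer (Q' : Set N) → ℂ) ∘ ι.symm =
          (θ₂ : _ → ℂ) := by
        funext h; simp [irrCompIso_apply]
      rwa [e1, e2] at this
    have hs3 : SameBlock M (ξ : Subgroup.centralizer (Q : Set G) → ℂ)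
        (conjIrr _ (x' : G) hxC ξ : Subgroup.centralizer (Q : Set G) → ℂ) := by
      apply sameBlock_of_over_ppower (N.subgroupOf (Subgroup.centralizer (Q : Set G))) hM
        (index_subgroupOf_ppow N hidx _) ξ (conjIrr _ (x' : G) hxC ξ) θ
        θ₂ hξ ?_ hs2
      rw [← resFun_eq, hcon2]
      exact hξ
    have hs4 : SameBlock M (conjIrr _ (x' : G) hxC ξ : Subgroup.centralizer (Q : Set G) → ℂ)
        (conjIrr _ (x' : G) hxC χ : Subgroup.centralizer (Q : Set G) → ℂ) :=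
      sameBlock_comp M _ hχ
    exact sameBlock_trans hs3 hs4
  have hreg' : IsPRegular p (x' : G) := by
    unfold IsPRegular at hreg ⊢
    rwa [Subgroup.orderOf_coe]
  have := hnil.2 Q _ hpair (x' : G) hxQ hstab hreg'
  exact (mem_centralizer_map_subtype_iff N Q Q' hQ x').mp this

/-- `g ∈ N_G(Q)` stabilizes the set `φ₀` of characters of `C_G(Q) ∩ N`. -/
def StabN (Q : Subgroup G)
    (φ₀ : Set (IrrCharacter (N.subgroupOf (Subgroup.centralizer (Q : Set G))))) (g : G) : Prop :=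
  ∃ hg : g ∈ Subgroup.normalizer (Q : Set G),
    ∀ θ₃ ∈ φ₀, irrCompIso (actN N Q g hg).symm θ₃ ∈ φ₀

omit [Fintype G] in
theorem stabN_mul (Q : Subgroup G)
    (φ₀ : Set (IrrCharacter (N.subgroupOf (Subgroup.centralizer (Q : Set G))))) (g₁ g₂ : G)
    (h₁ : StabN N Q φ₀ g₁) (h₂ : StabN N Q φ₀ g₂) : StabN N Q φ₀ (g₁ * g₂) := by
  obtain ⟨hg₁, H₁⟩ := h₁
  obtain ⟨hg₂, H₂⟩ := h₂
  refine ⟨Subgroup.mul_mem _ hg₁ hg₂, ?_⟩
  intro θ₃ hθ₃
  have e : irrCompIso (actN N Q (g₁ * g₂) (Subgroup.mul_mem _ hg₁ hg₂)).symm θ₃ =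
      irrCompIso (actN N Q g₁ hg₁).symm (irrCompIso (actN N Q g₂ hg₂).symm θ₃) := by
    apply Subtype.ext
    funext h
    rw [irrCompIso_apply, irrCompIso_apply, irrCompIso_apply]
    apply congrArg
    apply Subtype.ext; apply Subtype.ext
    rw [actN_symm_coe, actN_symm_coe, actN_symm_coe]
    group
  rw [e]
  exact H₁ _ (H₂ θ₃ hθ₃)

omit [Fintype G] in
theorem stabN_one (Q : Subgroup G)
    (φ₀ : Set (IrrCharacter (N.subgroupOf (Subgroup.centralizer (Q : Set G))))) :
    StabN N Q φ₀ 1 := by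
  refine ⟨Subgroup.one_mem _, ?_⟩
  intro θ₃ hθ₃
  have e : irrCompIso (actN N Q 1 (Subgroup.one_mem _)).symm θ₃ = θ₃ := by
    apply Subtype.ext
    funext h
    rw [irrCompIso_apply]
    apply congrArg
    apply Subtype.ext; apply Subtype.ext
    rw [actN_symm_coe]
    group
  rw [e]
  exact hθ₃

omit [Fintype G] in
theorem stabN_pow (Q : Subgroup G)
    (φ₀ : Set (IrrCharacter (N.subgroupOf (Subgroup.centralizer (Q : Set G))))) (g : G)
    (h : StabN N Q φ₀ g) (j : ℕ) : StabN N Q φ₀ (g ^ j) := by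
  induction j with
  | zero => rw [pow_zero]; exact stabN_one N Q φ₀
  | succ j ih => rw [pow_succ]; exact stabN_mul N Q φ₀ _ _ ih h

/-- `c` nilpotent implies the nilpotency condition for `B`-pairs `(Q, f)` with `Q ≤ N`. -/
theorem forward_core (hM : IsPModular p M) (hidx : ∃ k : ℕ, N.index = p ^ k)
    (c : Set (IrrCharacter N)) (hc : IsPBlock M c) (B : Set (IrrCharacter G))
    (hBc : ∀ g : G, blockCoeff B g = subgroupBlockCoeff N c g)
    (hnil : IsNilpotentBlock p M c)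
    (Q : Subgroup G) (Q' : Subgroup N) (hQ : Q = Q'.map N.subtype)
    (f : Set (IrrCharacter (Subgroup.centralizer (Q : Set G))))
    (hf : IsBrauerPairOf p M B Q f) (x : G)
    (hx : x ∈ Subgroup.normalizer (Q : Set G))
    (hst : StabilizesBlock (Subgroup.centralizer (Q : Set G)) f x)
    (hreg : IsPRegular p x) : x ∈ Subgroup.centralizer (Q : Set G) := by
  classical
  have hp : M.IsPrime := isPrime_of_isPModular hM
  obtain ⟨ξ, hξ⟩ : ∃ ξ : IrrCharacter (Subgroup.centralizer (Q : Set G)), ξ ∈ f := by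
    obtain ⟨ξ₁, h⟩ := hf.1.2
    exact ⟨ξ₁, by rw [h]; exact mem_blockOf_self ξ₁⟩
  obtain ⟨θ, hcon⟩ := Cfsg.Agent.Lib.Helper23.exists_constituent_res
    (N.subgroupOf (Subgroup.centralizer (Q : Set G))) ξ
  set φ₀ : Set (IrrCharacter (N.subgroupOf (Subgroup.centralizer (Q : Set G)))) :=
    blockOf M (θ : N.subgroupOf (Subgroup.centralizer (Q : Set G)) → ℂ) with hφ₀
  set ι := centEquivN N Q Q' hQ with hι
  have hQ'p : IsPGroup p Q' := by
    have h1 : IsPGroup p (Q'.map N.subtype) := hQ ▸ hf.1.1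
    have h2 := h1.comap_of_injective N.subtype (Subgroup.subtype_injective _)
    rwa [Subgroup.comap_map_eq_self_of_injective (Subgroup.subtype_injective _)] at h2
  -- the c-pair
  have hpair' : IsBrauerPairOf p M c Q' (BlockIso.pullBlock ι φ₀) := by
    refine ⟨⟨hQ'p, BlockIso.isPBlock_pullBlock ι ⟨θ, rfl⟩⟩, hc, ?_⟩
    intro χ hχ
    rw [hφ₀, BlockIso.pullBlock_blockOf] at hχ
    apply brauer_const hM c hc Q' (irrCompIso ι θ) χ hχ
    rw [← brauerOmega_eq_of_over N Q Q' hQ (blockCoeff B) (blockCoeff_isClassFunction B)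
      (blockCoeff_supp N c B hBc) (blockCoeff c) (blockCoeff_coe N c B hBc) ξ θ hcon]
    exact hf.2.2 ξ hξ
  -- the conjugate
  obtain ⟨χ', hχ', hconj⟩ := hst.2 ξ hξ
  set θ₂ : IrrCharacter (N.subgroupOf (Subgroup.centralizer (Q : Set G))) :=
    irrCompIso (actN N Q x hx).symm θ with hθ₂def
  have hcon₂ : classInner (fun n : N.subgroupOf (Subgroup.centralizer (Q : Set G)) =>
      (χ' : Subgroup.centralizer (Q : Set G) → ℂ) n)
      (θ₂ : N.subgroupOf (Subgroup.centralizer (Q : Set G)) → ℂ) ≠ 0 := by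
    rw [← resFun_eq, classInner_conj_actN N Q x hx _ _ hconj θ]
    exact hcon
  have hsame : SameBlock M (ξ : Subgroup.centralizer (Q : Set G) → ℂ)
      (χ' : Subgroup.centralizer (Q : Set G) → ℂ) := by
    obtain ⟨ξ₁, h⟩ := hf.1.2
    have a1 : ξ ∈ blockOf M (ξ₁ : _ → ℂ) := by rw [← h]; exact hξ
    have a2 : χ' ∈ blockOf M (ξ₁ : _ → ℂ) := by rw [← h]; exact hχ'
    exact sameBlock_trans (sameBlock_symm a1) a2
  have hθ₂ := Cfsg.Agent.Lib.Helper23.mem_conjUnion_of_sameBlock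
    (N.subgroupOf (Subgroup.centralizer (Q : Set G))) hM (b := φ₀) ⟨θ, rfl⟩ ξ χ' hsame θ
    (mem_blockOf_self θ) hcon θ₂ hcon₂
  obtain ⟨y, θ₁, hθ₁, hy⟩ := hθ₂
  have hyN : (y : G) ∈ Subgroup.normalizer (Q : Set G) := by
    rw [Subgroup.mem_normalizer_iff]
    intro q
    have h1 : ∀ q ∈ Q, (y : G) * q * (y : G)⁻¹ = q := by
      intro q hq
      have := Subgroup.mem_centralizer_iff.mp y.2 q hq
      rw [← this]; group
    constructor
    · intro hq; rw [h1 q hq]; exact hq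
    · intro hq
      have h2 := h1 _ hq
      have h3 : q = (y : G) * q * (y : G)⁻¹ := by
        have : (y : G)⁻¹ * ((y : G) * ((y : G) * q * (y : G)⁻¹) * (y : G)⁻¹) * (y : G) =
            (y : G)⁻¹ * ((y : G) * q * (y : G)⁻¹) * (y : G) := by rw [h2]
        have e1 : (y : G)⁻¹ * ((y : G) * ((y : G) * q * (y : G)⁻¹) * (y : G)⁻¹) * (y : G) =
            (y : G) * q * (y : G)⁻¹ := by group
        have e2 : (y : G)⁻¹ * ((y : G) * q * (y : G)⁻¹) * (y : G) = q := by group
        rw [e1, e2] at this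
        exact this.symm
      rw [h3]; exact hq
  set z : G := (y : G) * x with hzdef
  have hz : z ∈ Subgroup.normalizer (Q : Set G) := Subgroup.mul_mem _ hyN hx
  -- z maps θ to θ₁
  have hzθ : irrCompIso (actN N Q z hz).symm θ = θ₁ := by
    apply Subtype.ext
    funext h'
    let h₀ : N.subgroupOf (Subgroup.centralizer (Q : Set G)) :=
      ⟨y⁻¹ * (h' : Subgroup.centralizer (Q : Set G)) * y, by
        have := (inferInstance :
          (N.subgroupOf (Subgroup.centralizer (Q : Set G))).Normal).conj_mem _ h'.2 y⁻¹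
        simpa using this⟩
    have h1 := congrFun hy h₀
    rw [conjFun_apply, hθ₂def, irrCompIso_apply] at h1
    have e1 : (⟨y * (h₀ : Subgroup.centralizer (Q : Set G)) * y⁻¹,
        (inferInstance :
          (N.subgroupOf (Subgroup.centralizer (Q : Set G))).Normal).conj_mem _ h₀.2 y⟩ :
        N.subgroupOf (Subgroup.centralizer (Q : Set G))) = h' := by
      apply Subtype.ext
      change y * (y⁻¹ * (h' : Subgroup.centralizer (Q : Set G)) * y) * y⁻¹ = _
      group
    rw [e1] at h1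
    rw [← h1, irrCompIso_apply]
    apply congrArg
    apply Subtype.ext; apply Subtype.ext
    rw [actN_symm_coe, actN_symm_coe, hzdef]
    change _ = x⁻¹ * ((y : G)⁻¹ * ((h' : Subgroup.centralizer (Q : Set G)) : G) * (y : G)) * x
    group
  have hstabz : StabN N Q φ₀ z := by
    refine ⟨hz, ?_⟩
    intro θ₃ hθ₃
    have h1 : SameBlock M (θ : N.subgroupOf (Subgroup.centralizer (Q : Set G)) → ℂ)
        (θ₁ : N.subgroupOf (Subgroup.centralizer (Q : Set G)) → ℂ) := hθ₁
    have h2 := sameBlock_compIso M (actN N Q z hz).symm hθ₃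
    have h3 : (θ : N.subgroupOf (Subgroup.centralizer (Q : Set G)) → ℂ) ∘
        (actN N Q z hz).symm = (θ₁ : N.subgroupOf (Subgroup.centralizer (Q : Set G)) → ℂ) := by
      rw [← hzθ]; rfl
    rw [h3] at h2
    exact sameBlock_trans h1 h2
  -- the p'-part of z
  obtain ⟨a, m, hm, ho⟩ := Nat.exists_eq_pow_mul_and_not_dvd (orderOf_pos z).ne' p
    hpp.out.ne_one
  set w : G := z ^ (p ^ a) with hwdef
  have hwm : w ^ m = 1 := by
    rw [hwdef, ← pow_mul, ← ho, pow_orderOf_eq_one]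
  have hwreg : ¬ p ∣ orderOf w := by
    intro hdvd
    exact hm (dvd_trans hdvd (orderOf_dvd_of_pow_eq_one hwm))
  have hwN : w ∈ N := Cfsg.Agent.Lib.Helper6.mem_of_pRegular_of_index N hidx hwreg
  obtain ⟨hw, Hw⟩ := stabN_pow N Q φ₀ z hstabz (p ^ a)
  have hst' := stabilizesBlock_centEquivN N Q Q' hQ ⟨w, hwN⟩ hw φ₀ Hw
  have hwc := hnil.2 Q' _ hpair' ⟨w, hwN⟩
    ((mem_normalizer_map_subtype_iff N Q Q' hQ ⟨w, hwN⟩).mp hw) hst' (by
      unfold IsPRegular
      rw [← Subgroup.orderOf_coe]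
      exact hwreg)
  have hwC : w ∈ Subgroup.centralizer (Q : Set G) :=
    (mem_centralizer_map_subtype_iff N Q Q' hQ ⟨w, hwN⟩).mpr hwc
  -- z and x act in the same way on Q
  have hxq : ∀ q ∈ Q, x * q * x⁻¹ ∈ Q := fun q hq =>
    (Subgroup.mem_normalizer_iff.mp hx q).mp hq
  have key : ∀ j : ℕ, ∀ q ∈ Q, z ^ j * q * (z ^ j)⁻¹ = x ^ j * q * (x ^ j)⁻¹ := by
    intro j
    induction j with
    | zero => intro q _; simp
    | succ j ih =>
      intro q hq
      have h1 : z * q * z⁻¹ = x * q * x⁻¹ := by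
        have := Subgroup.mem_centralizer_iff.mp y.2 _ (hxq q hq)
        rw [hzdef]
        calc (y : G) * x * q * ((y : G) * x)⁻¹ = ((y : G) * (x * q * x⁻¹)) * (y : G)⁻¹ := by group
          _ = ((x * q * x⁻¹) * (y : G)) * (y : G)⁻¹ := by rw [this]
          _ = x * q * x⁻¹ := by group
      calc z ^ (j + 1) * q * (z ^ (j + 1))⁻¹ = z ^ j * (z * q * z⁻¹) * (z ^ j)⁻¹ := by
            rw [pow_succ]; group
        _ = z ^ j * (x * q * x⁻¹) * (z ^ j)⁻¹ := by rw [h1]
        _ = x ^ j * (x * q * x⁻¹) * (x ^ j)⁻¹ := ih _ (hxq q hq)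
        _ = x ^ (j + 1) * q * (x ^ (j + 1))⁻¹ := by rw [pow_succ]; group
  have hxpa : x ^ (p ^ a) ∈ Subgroup.centralizer (Q : Set G) := by
    rw [Subgroup.mem_centralizer_iff]
    intro q hq
    have h1 := key (p ^ a) q hq
    have h2 : w * q * w⁻¹ = q := by
      have := Subgroup.mem_centralizer_iff.mp hwC q hq
      rw [← this]; group
    rw [← hwdef, h2] at h1
    calc q * x ^ (p ^ a) = (x ^ (p ^ a) * q * (x ^ (p ^ a))⁻¹) * x ^ (p ^ a) := by rw [← h1]
      _ = x ^ (p ^ a) * q := by group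
  have hcop : Nat.Coprime (p ^ a) (orderOf x) :=
    Nat.Coprime.pow_left a ((Nat.Prime.coprime_iff_not_dvd hpp.out).mpr hreg)
  obtain ⟨m', hm'⟩ := exists_pow_eq_self_of_coprime hcop
  rw [← hm']
  exact Subgroup.pow_mem _ hxpa m'

/-- `c` nilpotent implies the nilpotency condition for all `B`-pairs. -/
theorem forward_general (hM : IsPModular p M) (hidx : ∃ k : ℕ, N.index = p ^ k)
    (c : Set (IrrCharacter N)) (hc : IsPBlock M c) (B : Set (IrrCharacter G))
    (hB : IsPBlock M B)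
    (hBc : ∀ g : G, blockCoeff B g = subgroupBlockCoeff N c g)
    (hnil : IsNilpotentBlock p M c)
    (Q : Subgroup G)
    (f : Set (IrrCharacter (Subgroup.centralizer (Q : Set G))))
    (hf : IsBrauerPairOf p M B Q f) (x : G)
    (hx : x ∈ Subgroup.normalizer (Q : Set G))
    (hst : StabilizesBlock (Subgroup.centralizer (Q : Set G)) f x)
    (hreg : IsPRegular p x) : x ∈ Subgroup.centralizer (Q : Set G) := by
  classical
  have hp : M.IsPrime := isPrime_of_isPModular hM
  have hxN : x ∈ N := Cfsg.Agent.Lib.Helper6.mem_of_pRegular_of_index N hidx hreg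
  obtain ⟨f₀, hf₀, hle⟩ := exists_subpairLE hM Q f hf.1 (Q ⊓ N) inf_le_left
  have hQ₀p : IsPGroup p ((Q ⊓ N : Subgroup G)) := hf.1.1.to_le inf_le_left
  have hpair₀ : IsBrauerPairOf p M B (Q ⊓ N) f₀ :=
    (Cfsg.Agent.S4658.result' p M hM Q (Q ⊓ N) f f₀ hle B hB).mp hf
  have hxQ₀ : x ∈ Subgroup.normalizer ((Q ⊓ N : Subgroup G) : Set G) := by
    rw [Subgroup.mem_normalizer_iff]
    intro k
    rw [Subgroup.mem_inf, Subgroup.mem_inf, ← Subgroup.mem_normalizer_iff.mp hx k]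
    have : k ∈ N ↔ x * k * x⁻¹ ∈ N := by
      constructor
      · intro hk; exact hN.conj_mem k hk x
      · intro hk
        have := hN.conj_mem _ hk x⁻¹
        simpa [mul_assoc] using this
    rw [this]
  -- x stabilizes f₀
  have hfix := cjPair_eq_self_of_stab (M := M) x Q f hf.1.2 hx hst
  have hchain := reflTransGen_cjPair (M := M) p x ⟨Q ⊓ N, f₀⟩ ⟨Q, f⟩ hle
  rw [hfix] at hchain
  have hQ₀x : (cjPair x (⟨Q ⊓ N, f₀⟩ : BrauerPairIdx G)).1 = Q ⊓ N := by
    change (Q ⊓ N).map (MulAut.conj x).toMonoidHom = Q ⊓ N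
    ext k
    rw [mem_map_conj_iff]
    have h1 := Subgroup.mem_normalizer_iff.mp (Subgroup.inv_mem _ hxQ₀) k
    rw [inv_inv] at h1
    exact h1.symm
  obtain ⟨f₂, hf₂⟩ := exists_snd_of_fst_eq _ (Q ⊓ N) hQ₀x
  rw [hf₂] at hchain
  have e1 : f₂ = f₀ := subpairLE_unique hM _ Q f (Q ⊓ N) f₂ f₀ rfl hchain hle
  rw [e1] at hf₂
  have hstab₀ := mem_stab_of_cjPair_eq x (Q ⊓ N) f₀ hf₂
  have hQ₀ : (Q ⊓ N : Subgroup G) = ((Q ⊓ N).subgroupOf N).map N.subtype := by
    rw [Subgroup.subgroupOf_map_subtype, inf_assoc, inf_idem]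
  have hxC₀ := forward_core N hM hidx c hc B hBc hnil (Q ⊓ N) ((Q ⊓ N).subgroupOf N) hQ₀ f₀
    hpair₀ x hxQ₀ hstab₀.2 hreg
  -- coprime action
  rw [Subgroup.mem_centralizer_iff]
  intro q hq
  set zq : G := q⁻¹ * (x * q * x⁻¹) with hzq
  have hxq : x * q * x⁻¹ ∈ Q := (Subgroup.mem_normalizer_iff.mp hx q).mp hq
  have hzQ : zq ∈ Q := Subgroup.mul_mem _ (Subgroup.inv_mem _ hq) hxq
  have hzN : zq ∈ N := by
    have h1 : q⁻¹ * x * q ∈ N := by
      have := hN.conj_mem x hxN q⁻¹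
      simpa using this
    have h2 : zq = (q⁻¹ * x * q) * x⁻¹ := by rw [hzq]; group
    rw [h2]
    exact Subgroup.mul_mem _ h1 (Subgroup.inv_mem _ hxN)
  have hzc : zq * x = x * zq :=
    Subgroup.mem_centralizer_iff.mp hxC₀ zq (Subgroup.mem_inf.mpr ⟨hzQ, hzN⟩)
  have hzcj : ∀ j : ℕ, x * zq ^ j * x⁻¹ = zq ^ j := by
    intro j
    have h1 : Commute x zq := hzc.symm
    have h2 : Commute x (zq ^ j) := h1.pow_right j
    rw [h2.eq]; group
  have claim : ∀ j : ℕ, x ^ j * q * (x ^ j)⁻¹ = q * zq ^ j := by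
    intro j
    induction j with
    | zero => simp
    | succ j ih =>
      calc x ^ (j + 1) * q * (x ^ (j + 1))⁻¹ = x * (x ^ j * q * (x ^ j)⁻¹) * x⁻¹ := by
            rw [pow_succ']; group
        _ = x * (q * zq ^ j) * x⁻¹ := by rw [ih]
        _ = (x * q * x⁻¹) * (x * zq ^ j * x⁻¹) := by group
        _ = (q * zq) * zq ^ j := by rw [hzcj j, hzq]; group
        _ = q * zq ^ (j + 1) := by rw [pow_succ']; group
  have h1 := claim (orderOf x)
  rw [pow_orderOf_eq_one] at h1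
  have h2 : zq ^ orderOf x = 1 := by
    have : q * zq ^ orderOf x = q * 1 := by rw [← h1]; group
    exact mul_left_cancel this
  obtain ⟨k, hk⟩ := hf.1.1 ⟨zq, hzQ⟩
  have h3 : zq ^ (p ^ k) = 1 := by
    have := congrArg Subtype.val hk
    simpa using this
  have h4 : orderOf zq ∣ Nat.gcd (p ^ k) (orderOf x) :=
    Nat.dvd_gcd (orderOf_dvd_of_pow_eq_one h3) (orderOf_dvd_of_pow_eq_one h2)
  have hcop : Nat.Coprime (p ^ k) (orderOf x) :=
    Nat.Coprime.pow_left k ((Nat.Prime.coprime_iff_not_dvd hpp.out).mpr hreg)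
  rw [hcop] at h4
  have h5 : zq = 1 := orderOf_eq_one_iff.mp (Nat.dvd_one.mp h4)
  have h6 : x * q * x⁻¹ = q := by
    have : q * zq = q * 1 := by rw [h5]
    rw [hzq] at this
    have e : q * (q⁻¹ * (x * q * x⁻¹)) = x * q * x⁻¹ := by group
    rw [e, mul_one] at this
    exact this
  calc q * x = (x * q * x⁻¹) * x := by rw [h6]
    _ = x * q := by group

end core


theorem result' {G : Type u} [Group G] [Fintype G] (p : ℕ) [Fact p.Prime] (M : Ideal Cfsg.AlgInt) (hM : Cfsg.IsPModular p M) (N : Subgroup G) [N.Normal] (hN : ∃ k : ℕ, N.index = p ^ k) (c : Set (Cfsg.IrrCharacter N)) (hc : Cfsg.IsPBlock M c) (hst : ∀ x : G, Cfsg.StabilizesBlock N c x) (B : Set (Cfsg.IrrCharacter G)) (hB : Cfsg.IsPBlock M B) (hBc : ∀ g : G, Cfsg.blockCoeff B g = Cfsg.subgroupBlockCoeff N c g) : Cfsg.IsNilpotentBlock p M c ↔ Cfsg.IsNilpotentBlock p M B := by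
  constructor
  · intro hnil
    exact ⟨hB, fun Q e hQe x hx hstx hreg =>
      forward_general N hM hN c hc B hB hBc hnil Q e hQe x hx hstx hreg⟩
  · intro hnil
    exact ⟨hc, fun Q' φ' hφ' x' hx' hst' hreg =>
      converse_core N hM hN c B hB hBc hnil Q' φ' hφ' x' hx' hst' hreg⟩

/-- Fix a prime p and a maximal ideal M of the algebraic integers containing p. Let N be a normal subgroup of p-power index in the finite group G and c a p-block of N stable under conjugation by G, and let B be the p-block of G whose idempotent is that of c (it exists and is unique). Then c is nilpotent as a block of N if and only if B is nilpotent as a block of G. -/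
theorem result {G : Type*} [Group G] [Fintype G] (p : ℕ) [Fact p.Prime] (M : Ideal Cfsg.AlgInt) (hM : Cfsg.IsPModular p M) (N : Subgroup G) [N.Normal] (hN : ∃ k : ℕ, N.index = p ^ k) (c : Set (Cfsg.IrrCharacter N)) (hc : Cfsg.IsPBlock M c) (hst : ∀ x : G, Cfsg.StabilizesBlock N c x) (B : Set (Cfsg.IrrCharacter G)) (hB : Cfsg.IsPBlock M B) (hBc : ∀ g : G, Cfsg.blockCoeff B g = Cfsg.subgroupBlockCoeff N c g) : Cfsg.IsNilpotentBlock p M c ↔ Cfsg.IsNilpotentBlock p M B := by
  exact result' p M hM N hN c hc hst B hB hBc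

end Cfsg.Agent.S4692
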