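import Cfsg.Statements.S4693
import Mathlib
import Cfsg.Agent.Lib.Helper24.SubStab
import Cfsg.Agent.Lib.Helper24.BlockFusion
import Cfsg.Agent.S4657
import Cfsg.Agent.S4658

set_option autoImplicit false
open Cfsg

namespace Cfsg.Agent.S4693

open Cfsg.Agent.CharLib Cfsg.Agent.Lib.Helper24 Cfsg.Agent.Lib.Helper6
open scoped ComplexConjugate
universe u

theorem result' {G : Type u} [Group G] [Fintype G] (p : ℕ) [Fact p.Prime] (M : Ideal Cfsg.AlgInt) (hM : Cfsg.IsPModular p M) (B : Set (Cfsg.IrrCharacter G)) (P : Subgroup G) (e : Set (Cfsg.IrrCharacter (Subgroup.centralizer (P : Set G)))) (hmax : Cfsg.IsMaximalBrauerPair p M B P e) (F : Cfsg.FusionSystem P) (hF : Cfsg.IsBlockFusionSystemOn p M B P e F) (Q : Subgroup G) (f : Set (Cfsg.IrrCharacter (Subgroup.centralizer (Q : Set G)))) (hQP : Q ≤ P) (hf : Cfsg.IsPBlock M f) (hle : Cfsg.SubpairLE p M Q f P e) (hcen : F.IsCentric Q) (hG : ∀ x : G, x ∈ Subgroup.normalizer (Q : Set G) ∧ Cfsg.StabilizesBlock (Subgroup.centralizer (Q : Set G)) f x) : (∀ g : G,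 Cfsg.MemLocalIdeal M (Cfsg.blockCoeff B g - Cfsg.subgroupBlockCoeff (Subgroup.centralizer (Q : Set G)) f g)) ∧ ∃ F' : Set (Cfsg.IrrCharacter ↥(Q ⊔ Subgroup.centralizer (Q : Set G))), Cfsg.IsPBlock M F' ∧ (∀ t : ↥(Q ⊔ Subgroup.centralizer (Q : Set G)), Cfsg.blockCoeff F' t = Cfsg.subgroupBlockCoeff (Subgroup.centralizer (Q : Set G)) f (t : G)) ∧ Cfsg.IsNilpotentBlock p M F' := by
  classical
  haveI hprime : M.IsPrime := isPrime_of_isPModular hM
  have hPe : IsBrauerPair p M P e := hmax.1.1
  have hB : IsPBlock M B := hmax.1.2.1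
  have hP : IsPGroup p P := hPe.1
  have hQ : IsPGroup p Q := hP.to_le hQP
  have hQfB : IsBrauerPairOf p M B Q f :=
    (Cfsg.Agent.S4658.result p M hM P Q e f hPe ⟨hQ, hf⟩ hle B hB).mp hmax.1
  let _ : Fintype (Subgroup.centralizer (Q : Set G)) := Fintype.ofFinite _
  constructor
  · have hT : ∀ y : G, y ∈ (⊤ : Subgroup G) ↔ y ∈ Subgroup.normalizer (Q : Set G) ∧
        StabilizesBlock (Subgroup.centralizer (Q : Set G)) f y :=
      fun y => ⟨fun _ => hG y, fun _ => Subgroup.mem_top y⟩
    obtain ⟨F₀, hF₀, hF₀f⟩ := exists_block_stab hM Q ⊤ hQ f hf hT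
    set B' := BlockIso.pullBlock (Subgroup.topEquiv (G := G)).symm F₀ with hB'def
    have hB' : IsPBlock M B' := BlockIso.isPBlock_pullBlock _ hF₀
    have hB'f : ∀ g : G, blockCoeff B' g =
        subgroupBlockCoeff (Subgroup.centralizer (Q : Set G)) f g := by
      intro g
      rw [hB'def, BlockIso.blockCoeff_pullBlock]
      exact hF₀f _
    have hQfB' : IsBrauerPairOf p M B' Q f := by
      refine ⟨⟨hQ, hf⟩, hB', fun ξ hξ => ?_⟩
      rw [brauerOmega_eq]
      have e1 : resFun (Subgroup.centralizer (Q : Set G)) (blockCoeff B') = blockCoeff f := by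
        have : blockCoeff B' = subgroupBlockCoeff (Subgroup.centralizer (Q : Set G)) f :=
          funext hB'f
        rw [this, resFun_subgroupBlockCoeff]
      rw [e1, omegaFun_blockCoeff, if_pos hξ, sub_self]
      exact memLocalIdeal_zero (one_not_mem_of_isPModular hM)
    have hBB' : B = B' :=
      (Cfsg.Agent.S4657.result p M hM Q f ⟨hQ, hf⟩).unique hQfB hQfB'
    intro g
    rw [hBB', hB'f, sub_self]
    exact memLocalIdeal_zero (one_not_mem_of_isPModular hM)
  · -- the block of `L = Q C_G(Q)`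
    set L : Subgroup G := Q ⊔ Subgroup.centralizer (Q : Set G) with hLdef
    have hCL : Subgroup.centralizer (Q : Set G) ≤ L := le_sup_right
    have hQL : Q ≤ L := le_sup_left
    have hLst : ∀ y : G, y ∈ L → y ∈ Subgroup.normalizer (Q : Set G) ∧
        StabilizesBlock (Subgroup.centralizer (Q : Set G)) f y := fun y _ => hG y
    obtain ⟨F', hF', hF'f⟩ := exists_block_H hM Q L hQ f hf hCL hQL hLst
    refine ⟨F', hF', hF'f, hF', ?_⟩
    intro R' g' hpair x hxN hxst hxreg
    let _ : Fintype L := Fintype.ofFinite _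
    -- elements of `L` are products
    have hLmul : ∀ y : G, y ∈ L → ∃ q ∈ Q, ∃ c ∈ Subgroup.centralizer (Q : Set G), q * c = y := by
      intro y hy
      have hy' : y ∈ ((Q ⊔ Subgroup.centralizer (Q : Set G) : Subgroup G) : Set G) := hy
      rw [Subgroup.coe_mul_of_right_le_normalizer_left Q _
        (Subgroup.centralizer_le_normalizer (Q : Set G))] at hy'
      exact hy'
    -- `P ∩ L ≤ Q`
    have hPL : P ⊓ L ≤ Q := by
      intro y hy
      obtain ⟨q, hq, c, hc, hqc⟩ := hLmul y hy.2
      have hcP : c ∈ P := by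
        have : c = q⁻¹ * y := by rw [← hqc]; group
        rw [this]
        exact P.mul_mem (P.inv_mem (hQP hq)) hy.1
      have hconj : F.IsConj Q Q := by
        refine ⟨conjHom Q 1, F.conj_mem hQP P.one_mem, ?_⟩
        ext y
        constructor
        · rintro ⟨u, rfl⟩
          change (1 : G) * (u : G) * (1 : G)⁻¹ ∈ Q
          simp
        · intro hy
          refine ⟨⟨y, hy⟩, ?_⟩
          change (1 : G) * y * (1 : G)⁻¹ = y
          simp
      have hcQ : c ∈ Q := hcen.2 Q hconj ⟨hcP, hc⟩
      rw [← hqc]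
      exact Q.mul_mem hq hcQ
    -- `x` centralizes `Q`
    have hxC : (x : G) ∈ Subgroup.centralizer (Q : Set G) := by
      obtain ⟨q, hq, c, hc, hqc⟩ := hLmul (x : G) x.2
      -- powers
      have hpow : ∀ n : ℕ, ∃ c' ∈ Subgroup.centralizer (Q : Set G), (x : G) ^ n = q ^ n * c' := by
        intro n
        induction n with
        | zero => exact ⟨1, Subgroup.one_mem _, by simp⟩
        | succ n ih =>
          obtain ⟨c', hc', hn⟩ := ih
          have hqC : q⁻¹ * c' * q ∈ Subgroup.centralizer (Q : Set G) := by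
            have hqN : q ∈ Subgroup.normalizer
                ((Subgroup.centralizer (Q : Set G) : Subgroup G) : Set G) :=
              mem_normalizer_centralizer_of_mem_normalizer (Subgroup.le_normalizer hq)
            have h1 := Subgroup.mem_normalizer_iff.mp (Subgroup.inv_mem _ hqN) c'
            rw [inv_inv] at h1
            exact h1.mp hc'
          refine ⟨q⁻¹ * c' * q * c, Subgroup.mul_mem _ hqC hc, ?_⟩
          rw [pow_succ, hn, ← hqc, pow_succ]
          group
      obtain ⟨c', hc', hn⟩ := hpow (Nat.card Q)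
      have hq1 : q ^ Nat.card Q = 1 := by
        have h1 : (⟨q, hq⟩ : Q) ^ Nat.card Q = 1 := pow_card_eq_one'
        have h2 : ((⟨q, hq⟩ : Q) : G) ^ Nat.card Q = 1 := by
          rw [← Subgroup.coe_pow, h1]; rfl
        exact h2
      rw [hq1, one_mul] at hn
      have hcop : Nat.Coprime (Nat.card Q) (orderOf (x : G)) := by
        obtain ⟨k, hk⟩ := hQ.exists_card_eq
        rw [hk, Subgroup.orderOf_coe]
        apply Nat.Coprime.pow_left
        exact (Nat.Prime.coprime_iff_not_dvd Fact.out).mpr hxreg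
      obtain ⟨m, hm⟩ := exists_pow_eq_self_of_coprime hcop
      rw [← hm, hn]
      exact Subgroup.pow_mem _ hc' m
    -- `R' ≤ Q`
    have hR'Q : ∀ r : L, r ∈ R' → (r : G) ∈ Q := by
      obtain ⟨D, d, hmaxD, hleD⟩ := exists_maximal_ge (M := M) p F' _ R' g' hpair rfl
      have hR'D : R' ≤ D := Cfsg.Agent.S4681.le_of_subpairLE p M _ _ D d hleD
      have hDdef : IsDefectGroup p M F' D := Cfsg.Agent.S4659.result p M hM F' D d hmaxD
      haveI hQnormal : (Q.subgroupOf L).Normal := by
        constructor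
        intro n hn g
        rw [Subgroup.mem_subgroupOf] at hn ⊢
        exact (Subgroup.mem_normalizer_iff.mp (hG (g : G)).1 _).mp hn
      have hQD : Q.subgroupOf L ≤ D :=
        le_of_isDefectGroup_of_normal hM (Q.subgroupOf L) hQ.comap_subtype hF' hDdef
      have hQR₁ : Q ≤ D.map L.subtype := by
        intro q hq
        exact ⟨⟨q, hQL hq⟩, hQD (Subgroup.mem_subgroupOf.mpr hq), rfl⟩
      have hC₁ : Subgroup.centralizer ((D.map L.subtype : Subgroup G) : Set G) ≤ L :=
        (Subgroup.centralizer_le hQR₁).trans hCL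
      set d' := BlockIso.pullBlock (centEquivT L _ D rfl hC₁).symm d with hd'def
      have hd' : BlockIso.pullBlock (centEquivT L _ D rfl hC₁) d' = d := by
        rw [hd'def]
        exact BlockIso.pullBlock_symm_pullBlock (centEquivT L _ D rfl hC₁).symm d
      have hnorm : IsNormalSubpair p M Q f (D.map L.subtype) d' := by
        rw [isNormalSubpair_iff_isBrauerPairOf_H (M := M) Q L _ D hQ f hf hLst F' hF' hF'f rfl hQR₁
          hC₁ d', hd']
        exact hmaxD.1
      have hR₁B : IsBrauerPairOf p M B (D.map L.subtype) d' :=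
        (Cfsg.Agent.S4658.result p M hM _ Q d' f hnorm.2.1 ⟨hQ, hf⟩
          (Relation.ReflTransGen.single hnorm) B hB).mpr hQfB
      obtain ⟨z, hz⟩ := Cfsg.Agent.S4660.result p M hM B P _ e d' hmax hR₁B
      have hzP : (D.map L.subtype).map (MulAut.conj z).toMonoidHom ≤ P :=
        Cfsg.Agent.S4681.le_of_subpairLE p M _ _ P e hz
      have hzL : (D.map L.subtype).map (MulAut.conj z).toMonoidHom ≤ L := by
        rintro _ ⟨y, ⟨y', _, rfl⟩, rfl⟩
        obtain ⟨q, hq, c, hc, hqc⟩ := hLmul (y' : G) y'.2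
        change z * ((y' : L) : G) * z⁻¹ ∈ L
        rw [← hqc]
        have hzN := (hG z).1
        have hzC : z ∈ Subgroup.normalizer
            ((Subgroup.centralizer (Q : Set G) : Subgroup G) : Set G) :=
          mem_normalizer_centralizer_of_mem_normalizer hzN
        have e3 : z * (q * c) * z⁻¹ = (z * q * z⁻¹) * (z * c * z⁻¹) := by group
        rw [e3]
        exact Subgroup.mul_mem_sup ((Subgroup.mem_normalizer_iff.mp hzN q).mp hq)
          ((Subgroup.mem_normalizer_iff.mp hzC c).mp hc)
      have hzQ : (D.map L.subtype).map (MulAut.conj z).toMonoidHom ≤ Q :=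
        (le_inf hzP hzL).trans hPL
      have hcard1 : Nat.card ((D.map L.subtype).map (MulAut.conj z).toMonoidHom : Subgroup G) =
          Nat.card (D.map L.subtype : Subgroup G) := by
        have hinj : Function.Injective (MulAut.conj z).toMonoidHom := (MulAut.conj z).injective
        exact Subgroup.card_map_of_injective hinj
      have hcard2 : Nat.card (D.map L.subtype : Subgroup G) ≤ Nat.card Q := by
        rw [← hcard1]
        exact Subgroup.card_le_of_le hzQ
      have hDQ : D.map L.subtype = Q := (Subgroup.eq_of_le_of_card_ge hQR₁ hcard2).symm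
      intro r hr
      rw [← hDQ]
      exact ⟨r, hR'D hr, rfl⟩
    rw [Subgroup.mem_centralizer_iff]
    intro r hr
    apply Subtype.ext
    exact Subgroup.mem_centralizer_iff.mp hxC (r : G) (hR'Q r hr)

/-- Fix a prime p and a maximal ideal M of the algebraic integers containing p, a p-block B of the finite group G with maximal Brauer pair (P, e) and fusion system F on P, and a Brauer pair (Q, f) ≤ (P, e) with Q centric in F. Suppose every element of G normalizes Q and stabilizes f. Then the idempotent of B agrees with that of f modulo M at every element of G, and f is the idempotent of a nilpotent block of Q·C_G(Q): some p-block of Q·C_G(Q) has the idempotent coefficients of f and is nilpotent. -/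
theorem result {G : Type*} [Group G] [Fintype G] (p : ℕ) [Fact p.Prime] (M : Ideal Cfsg.AlgInt) (hM : Cfsg.IsPModular p M) (B : Set (Cfsg.IrrCharacter G)) (P : Subgroup G) (e : Set (Cfsg.IrrCharacter (Subgroup.centralizer (P : Set G)))) (hmax : Cfsg.IsMaximalBrauerPair p M B P e) (F : Cfsg.FusionSystem P) (hF : Cfsg.IsBlockFusionSystemOn p M B P e F) (Q : Subgroup G) (f : Set (Cfsg.IrrCharacter (Subgroup.centralizer (Q : Set G)))) (hQP : Q ≤ P) (hf : Cfsg.IsPBlock M f) (hle : Cfsg.SubpairLE p M Q f P e) (hcen : F.IsCentric Q) (hG : ∀ x : G, x ∈ Subgroup.normalizer (Q : Set G) ∧ Cfsg.StabilizesBlock (Subgroup.centralizer (Q : Set G)) f x) : (∀ g : G, Cfsg.MemLocalIdeal M (Cfsg.blockCoeff B g - Cfsg.subgroupBlockCoeff (Subgroup.centralizer (Q : Set G)) f g)) ∧ ∃ F' : Set (Cfsg.IrrCharacter ↥(Q ⊔ Subgroup.centralizer (Q : Set G))), Cfsg.IsPBlock M F' ∧ (∀ t : ↥(Q ⊔ Subgroup.centralizer (Q : Set G)), Cfsg.blockCoeff F' t = Cfsg.subgroupBlockCoeff (Subgroup.centralizer (Q : Set G)) f (t : G)) ∧ Cfsg.IsNilpotentBlock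 p M F' := by
  exact result' p M hM B P e hmax F hF Q f hQP hf hle hcen hG

end Cfsg.Agent.S4693
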