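import Cfsg.Statements.S4828
import Mathlib
import Cfsg.Agent.Lib.Helper24.SubStab
import Cfsg.Agent.Lib.Helper24.BlockFusion
import Cfsg.Agent.Lib.Helper24.CentTransport
import Cfsg.Agent.Lib.Helper24.IrrFacts
import Cfsg.Agent.Lib.Lead.CentralProdBlock3
import Cfsg.Agent.S0914
import Cfsg.Agent.S4657
import Cfsg.Agent.S4677
import Cfsg.Agent.S4680
import Cfsg.Agent.S4687

set_option autoImplicit false
open Cfsg

namespace Cfsg.Agent.S4828

open Cfsg.Agent.CharLib Cfsg.Agent.Lib.Helper24 Cfsg.Agent.Lib.Helper6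
open scoped ComplexConjugate
universe u

section lemA
variable {C : Type u} [Group C] [Fintype C] {M : Ideal AlgInt} {p : ℕ} [hpp : Fact p.Prime]

open Cfsg.Agent.Lib.Helper25 Cfsg.Agent.Lib.Helper23 in
/-- A block containing a character trivial on the central `p`-subgroup `Z` which has defect zero
modulo `Z` has defect group `Z`. -/
theorem isDefectGroup_of_canonical (hM : IsPModular p M) (Z : Subgroup C)
    (hZc : Z ≤ Subgroup.center C) (hZp : IsPGroup p Z) (e : Set (IrrCharacter C))
    (he : IsPBlock M e) (θ : IrrCharacter C) (hθ : θ ∈ e)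
    (hker : ∀ z ∈ Z, (θ : C → ℂ) z = (θ : C → ℂ) 1)
    (hdeg : (charDegree (θ : C → ℂ)).factorization p + (Nat.card Z).factorization p =
      (Nat.card C).factorization p) :
    IsDefectGroup p M e Z := by
  classical
  haveI hprime : M.IsPrime := isPrime_of_isPModular hM
  haveI hZn : Z.Normal := by
    constructor
    intro n hn g
    have := Subgroup.mem_center_iff.mp (hZc hn) g
    have h2 : g * n * g⁻¹ = n := by rw [this]; group
    rw [h2]
    exact hn
  have hcent : Subgroup.centralizer (Z : Set C) = ⊤ := by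
    rw [eq_top_iff]
    intro g _
    rw [Subgroup.mem_centralizer_iff]
    intro z hz
    exact (Subgroup.mem_center_iff.mp (hZc hz) g).symm
  have hC : ∃ k : ℕ, (Subgroup.centralizer (Z : Set C)).index = p ^ k :=
    ⟨0, by rw [hcent, Subgroup.index_top, pow_zero]⟩
  have heq : e = blockOf M (θ : C → ℂ) := isPBlock_eq_of_mem he ⟨θ, rfl⟩ hθ (mem_blockOf_self θ)
  obtain ⟨hblock, hdef⟩ := quotient_block_eq hM Z hZp hC θ
  set ebar := {γ : IrrCharacter (C ⧸ Z) | inflateIrr Z γ ∈ blockOf M (θ : C → ℂ)} with hebar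
  obtain ⟨θbar, hθbar⟩ := exists_inflateIrr_eq Z θ hker
  have hmem : θbar ∈ ebar := by
    change inflateIrr Z θbar ∈ blockOf M (θ : C → ℂ)
    rw [hθbar]
    exact mem_blockOf_self θ
  have hdegbar : charDegree (θbar : C ⧸ Z → ℂ) = charDegree (θ : C → ℂ) := by
    rw [← hθbar]
    unfold charDegree
    rw [inflateIrr_apply, QuotientGroup.mk_one]
  have hcardq : Nat.card C = Nat.card Z * Nat.card (C ⧸ Z) := by
    have := Subgroup.card_mul_index Z
    rw [← this]
    rfl
  have hfq : (Nat.card C).factorization p =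
      (Nat.card Z).factorization p + (Nat.card (C ⧸ Z)).factorization p := by
    rw [hcardq, Nat.factorization_mul Nat.card_pos.ne' Nat.card_pos.ne']
    rfl
  have hdvd : charDegree (θbar : C ⧸ Z → ℂ) ∣ Nat.card (C ⧸ Z) := irr_charDegree_dvd_card θbar
  have hnd : ¬ p ∣ Nat.card (C ⧸ Z) / charDegree (θbar : C ⧸ Z → ℂ) := by
    intro hdiv
    have hpos : Nat.card (C ⧸ Z) / charDegree (θbar : C ⧸ Z → ℂ) ≠ 0 := by
      apply Nat.ne_of_gt
      exact Nat.div_pos (Nat.le_of_dvd Nat.card_pos hdvd) (irr_charDegree_pos θbar)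
    have h1 : 1 ≤ (Nat.card (C ⧸ Z) / charDegree (θbar : C ⧸ Z → ℂ)).factorization p :=
      (hpp.out.dvd_iff_one_le_factorization hpos).mp hdiv
    rw [Nat.factorization_div hdvd] at h1
    have h2 : ((Nat.card (C ⧸ Z)).factorization - (charDegree (θbar : C ⧸ Z → ℂ)).factorization) p
        = (Nat.card (C ⧸ Z)).factorization p - (charDegree (θbar : C ⧸ Z → ℂ)).factorization p :=
      rfl
    rw [h2, hdegbar] at h1
    omega
  have hsingle : blockOf M (θbar : C ⧸ Z → ℂ) = {θbar} :=
    (Cfsg.Agent.S0914.result p M hM θbar).mp hnd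
  have hebs : ebar = {θbar} := by
    rw [← hsingle]
    exact isPBlock_eq_of_mem hblock ⟨θbar, rfl⟩ hmem (mem_blockOf_self θbar)
  have hd0 : blockDefect p ebar = 0 := by
    unfold blockDefect
    rw [hebs, Set.image_singleton, csInf_singleton, hdegbar]
    omega
  obtain ⟨X, hX⟩ := exists_isDefectGroup hM ebar hblock
  have hXcard := card_defectGroup_eq hM ebar hblock X hX
  rw [hd0, pow_zero] at hXcard
  obtain ⟨D, hD, hXD⟩ := (hdef X).mp hX
  have hZD : Z ≤ D := le_of_isDefectGroup_of_normal hM Z hZp ⟨θ, rfl⟩ hD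
  have hDZ : D ≤ Z := by
    intro d hd
    have h1 : (QuotientGroup.mk' Z d) ∈ X := by
      rw [hXD]; exact ⟨d, hd, rfl⟩
    have h2 : X = ⊥ := Subgroup.card_eq_one.mp hXcard
    rw [h2, Subgroup.mem_bot] at h1
    exact (QuotientGroup.eq_one_iff d).mp h1
  have : D = Z := le_antisymm hDZ hZD
  rw [heq, ← this]
  exact hD

end lemA

section main
variable {G : Type u} [Group G] [Fintype G] {M : Ideal AlgInt} {p : ℕ} [hpp : Fact p.Prime]

theorem exists_normal_step_of_ne (hM : IsPModular p M) (a b : BrauerPairIdx G)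
    (h : Relation.ReflTransGen (NormalSubpairRel p M) a b) (hne : a.1 ≠ b.1) :
    ∃ c : BrauerPairIdx G, NormalSubpairRel p M a c ∧ a.1 < c.1 := by
  revert hne
  induction h using Relation.ReflTransGen.head_induction_on with
  | refl => intro hne; exact absurd rfl hne
  | head hac hcb ih =>
    rename_i a c
    intro hne
    by_cases hfst : a.1 = c.1
    · have hacE : a = c :=
        eq_of_reflTransGen_of_fst_eq hM a c (Relation.ReflTransGen.single hac) hfst
      subst hacE
      exact ih hne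
    · exact ⟨c, hac, lt_of_le_of_ne hac.2.2.1 hfst⟩

theorem center_aux (Q : Subgroup G) :
    (Q ⊓ Subgroup.centralizer (Q : Set G)).subgroupOf (Subgroup.centralizer (Q : Set G)) ≤
      Subgroup.center (Subgroup.centralizer (Q : Set G)) := by
  intro z hz
  rw [Subgroup.mem_subgroupOf] at hz
  rw [Subgroup.mem_center_iff]
  intro g
  apply Subtype.ext
  exact (Subgroup.mem_centralizer_iff.mp g.2 (z : G) hz.1).symm

theorem card_aux (Q : Subgroup G) :
    Nat.card ((Q ⊓ Subgroup.centralizer (Q : Set G)).subgroupOf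
      (Subgroup.centralizer (Q : Set G))) =
    Nat.card (Q ⊓ Subgroup.centralizer (Q : Set G) : Subgroup G) := by
  rw [card_subgroupOf_eq_card_inf, inf_assoc, inf_idem]

theorem converse (hM : IsPModular p M) (Q : Subgroup G)
    (e : Set (IrrCharacter (Subgroup.centralizer (Q : Set G)))) (he : IsBrauerPair p M Q e)
    (θ : IrrCharacter (Subgroup.centralizer (Q : Set G))) (hθ : θ ∈ e)
    (h1 : ∀ z : Subgroup.centralizer (Q : Set G), (z : G) ∈ Q →
      (θ : Subgroup.centralizer (Q : Set G) → ℂ) z = (θ : Subgroup.centralizer (Q : Set G) → ℂ) 1)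
    (h2 : (charDegree (θ : Subgroup.centralizer (Q : Set G) → ℂ)).factorization p +
      (Nat.card ↥(Q ⊓ Subgroup.centralizer (Q : Set G))).factorization p =
      (Nat.card (Subgroup.centralizer (Q : Set G))).factorization p)
    (h3 : ∀ g : G, g ∈ Subgroup.normalizer (Q : Set G) →
      StabilizesBlock (Subgroup.centralizer (Q : Set G)) e g → (∃ k : ℕ, orderOf g = p ^ k) →
      g ∈ Q ⊔ Subgroup.centralizer (Q : Set G)) :
    ∃ B : Set (IrrCharacter G), IsMaximalBrauerPair p M B Q e := by
  classical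
  haveI hprime : M.IsPrime := isPrime_of_isPModular hM
  have hQ : IsPGroup p Q := he.1
  have hep : IsPBlock M e := he.2
  let _ : Fintype (Subgroup.centralizer (Q : Set G)) := Fintype.ofFinite _
  set Z' : Subgroup (Subgroup.centralizer (Q : Set G)) :=
    (Q ⊓ Subgroup.centralizer (Q : Set G)).subgroupOf (Subgroup.centralizer (Q : Set G)) with hZ'
  have hZc : Z' ≤ Subgroup.center (Subgroup.centralizer (Q : Set G)) := center_aux Q
  have hZp : IsPGroup p Z' := (hQ.to_le inf_le_left).comap_subtype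
  have hZdef : IsDefectGroup p M e Z' := by
    apply isDefectGroup_of_canonical hM Z' hZc hZp e hep θ hθ
    · intro z hz
      exact h1 z (Subgroup.mem_subgroupOf.mp hz).1
    · rw [hZ', card_aux]
      exact h2
  haveI hZn : Z'.Normal := by
    constructor
    intro n hn g
    have := Subgroup.mem_center_iff.mp (hZc hn) g
    have h2 : g * n * g⁻¹ = n := by rw [this]; group
    rw [h2]
    exact hn
  obtain ⟨B, hB, -⟩ := Cfsg.Agent.S4657.result p M hM Q e he
  refine ⟨B, hB, ?_⟩
  intro R g hRg hle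
  by_contra hne
  obtain ⟨⟨R₁, g₁⟩, hn, hlt⟩ := exists_normal_step_of_ne hM ⟨Q, e⟩ ⟨R, g⟩ hle (Ne.symm hne)
  have hn' : IsNormalSubpair p M Q e R₁ g₁ := hn
  have hlt' : Q < R₁ := hlt
  obtain ⟨-, ⟨hR₁p, hg₁⟩, hQR₁, hR₁N, hst, -⟩ := hn'
  have hR₁QC : R₁ ≤ Q ⊔ Subgroup.centralizer (Q : Set G) := by
    intro r hr
    apply h3 r (hR₁N hr) (hst r hr)
    obtain ⟨k, hk⟩ := hR₁p ⟨r, hr⟩
    have hk' : r ^ p ^ k = 1 := by
      have := congrArg Subtype.val hk
      simpa using this
    obtain ⟨j, -, hj⟩ := (Nat.dvd_prime_pow hpp.out).mp (orderOf_dvd_of_pow_eq_one hk')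
    exact ⟨j, hj⟩
  set D₁' : Subgroup (Subgroup.centralizer (Q : Set G)) :=
    R₁.subgroupOf (Subgroup.centralizer (Q : Set G)) with hD₁'
  have hmapD : D₁'.map (Subgroup.centralizer (Q : Set G)).subtype =
      R₁ ⊓ Subgroup.centralizer (Q : Set G) := Subgroup.subgroupOf_map_subtype _ _
  have hR : R₁ = Q ⊔ D₁'.map (Subgroup.centralizer (Q : Set G)).subtype := by
    rw [hmapD]
    apply le_antisymm
    · intro r hr
      have hr' : r ∈ ((Q ⊔ Subgroup.centralizer (Q : Set G) : Subgroup G) : Set G) := hR₁QC hr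
      rw [Subgroup.coe_mul_of_right_le_normalizer_left Q _
        (Subgroup.centralizer_le_normalizer (Q : Set G))] at hr'
      obtain ⟨q, hq, c, hc, hqc⟩ := hr'
      have hcR : c ∈ R₁ := by
        have : c = q⁻¹ * r := by rw [← hqc]; group
        rw [this]
        exact R₁.mul_mem (R₁.inv_mem (hQR₁ hq)) hr
      rw [← hqc]
      exact Subgroup.mul_mem_sup hq ⟨hcR, hc⟩
    · exact sup_le hQR₁ inf_le_left
  have hpair := (isNormalSubpair_iff_isBrauerPairOf (M := M) Q R₁ D₁' hQ hR e g₁).mp hn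
  obtain ⟨Dm, dm, hmaxD, hleD⟩ := exists_maximal_ge (M := M) p e _ D₁' _ hpair rfl
  have hD₁Dm : D₁' ≤ Dm := Cfsg.Agent.S4681.le_of_subpairLE p M _ _ Dm dm hleD
  have hDmdef : IsDefectGroup p M e Dm := Cfsg.Agent.S4659.result p M hM e Dm dm hmaxD
  have hcard : Nat.card Dm ≤ Nat.card Z' := card_le_of_isDefectGroup hM hep hDmdef hZdef
  have hZDm : Z' ≤ Dm := le_of_isDefectGroup_of_normal hM Z' hZp hep hDmdef
  have hDmZ : Dm = Z' := (Subgroup.eq_of_le_of_card_ge hZDm hcard).symm
  have hle2 : R₁ ≤ Q := by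
    rw [hR, hmapD]
    apply sup_le le_rfl
    intro y hy
    have hy' : (⟨y, hy.2⟩ : Subgroup.centralizer (Q : Set G)) ∈ D₁' :=
      Subgroup.mem_subgroupOf.mpr hy.1
    have hy'' := hD₁Dm hy'
    rw [hDmZ] at hy''
    exact (Subgroup.mem_subgroupOf.mp hy'').1
  exact absurd (le_antisymm hle2 hlt'.le) (ne_of_gt hlt')

end main

section forward
variable {G : Type u} [Group G] [Fintype G] {M : Ideal AlgInt} {p : ℕ} [hpp : Fact p.Prime]

theorem forward (hM : IsPModular p M) (Q : Subgroup G)
    (e : Set (IrrCharacter (Subgroup.centralizer (Q : Set G)))) (he : IsBrauerPair p M Q e)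
    (B : Set (IrrCharacter G)) (hmax : IsMaximalBrauerPair p M B Q e) :
    ∃ θ ∈ e, (∀ z : Subgroup.centralizer (Q : Set G), (z : G) ∈ Q →
      (θ : Subgroup.centralizer (Q : Set G) → ℂ) z = (θ : Subgroup.centralizer (Q : Set G) → ℂ) 1) ∧
      (charDegree (θ : Subgroup.centralizer (Q : Set G) → ℂ)).factorization p +
        (Nat.card ↥(Q ⊓ Subgroup.centralizer (Q : Set G))).factorization p =
        (Nat.card (Subgroup.centralizer (Q : Set G))).factorization p ∧
      (∀ g : G, g ∈ Subgroup.normalizer (Q : Set G) →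
        StabilizesBlock (Subgroup.centralizer (Q : Set G)) e g → (∃ k : ℕ, orderOf g = p ^ k) →
        g ∈ Q ⊔ Subgroup.centralizer (Q : Set G)) := by
  classical
  haveI hprime : M.IsPrime := isPrime_of_isPModular hM
  have hQ : IsPGroup p Q := he.1
  have hep : IsPBlock M e := he.2
  let _ : Fintype (Subgroup.centralizer (Q : Set G)) := Fintype.ofFinite _
  set Z' : Subgroup (Subgroup.centralizer (Q : Set G)) :=
    (Q ⊓ Subgroup.centralizer (Q : Set G)).subgroupOf (Subgroup.centralizer (Q : Set G)) with hZ'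
  have hZc : Z' ≤ Subgroup.center (Subgroup.centralizer (Q : Set G)) := center_aux Q
  have hZp : IsPGroup p Z' := (hQ.to_le inf_le_left).comap_subtype
  -- `Z(Q)` is a defect group of `e`
  have hcentric : (Cfsg.Agent.S4677.blockFS hM Q e he).IsCentric Q := by
    refine ⟨le_rfl, ?_⟩
    rintro Q' ⟨φ, hφ, rfl⟩
    have hle := ((Cfsg.Agent.S4677.blockFS hM Q e he).le_of_mem hφ).2
    have hinj := (Cfsg.Agent.S4677.blockFS hM Q e he).injective_of_mem hφ
    have hsub : φ.range ≤ Q := by
      rintro _ ⟨u, rfl⟩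
      exact hle u
    have hcard : Nat.card Q ≤ Nat.card φ.range := by
      have := Nat.card_congr (MonoidHom.ofInjective hinj).toEquiv
      rw [this]
    have heq : φ.range = Q := Subgroup.eq_of_le_of_card_ge hsub hcard
    rw [heq]
    exact inf_le_left
  have hZdef : IsDefectGroup p M e Z' :=
    (Cfsg.Agent.S4680.result p M hM B Q e hmax _
      (Cfsg.Agent.S4677.isBlockFusionSystemOn_blockFS hM B Q e hmax) Q e le_rfl hep
      Relation.ReflTransGen.refl).mp hcentric
  have hG : Z' ⊔ Subgroup.centralizer (Z' : Set (Subgroup.centralizer (Q : Set G))) = ⊤ := by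
    rw [eq_top_iff]
    intro g _
    apply Subgroup.mem_sup_right
    rw [Subgroup.mem_centralizer_iff]
    intro z hz
    exact (Subgroup.mem_center_iff.mp (hZc hz) g).symm
  obtain ⟨-, θ, hθ, hker, -, hdeg⟩ := cp_canonical hM Z' hZp hG e hep hZdef
  refine ⟨θ, hθ, ?_, ?_, ?_⟩
  · intro z hz
    exact hker z (Subgroup.mem_subgroupOf.mpr ⟨hz, z.2⟩)
  · rw [hdeg, ← card_aux Q, ← hZ']
    have h1 := Subgroup.card_mul_index Z'
    have hidx : Z'.index ≠ 0 := Subgroup.index_ne_zero_of_finite
    rw [← h1, Nat.factorization_mul Nat.card_pos.ne' hidx]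
    simp only [Finsupp.coe_add, Pi.add_apply]
    omega
  · intro g hgN hgst ⟨k, hk⟩
    obtain ⟨T, hT⟩ := Cfsg.Agent.S4679.exists_stab M Q e hep
    have hgT : g ∈ T := (hT g).mpr ⟨hgN, hgst⟩
    obtain ⟨F₁, hF₁, hF₁f, hdef₁⟩ := Cfsg.Agent.S4687.isDefectGroup_stab p M hM B Q e hmax T hT
    have hidx := not_dvd_index_sup_centralizer hM Q T e hep hT F₁ hF₁ hF₁f _ hdef₁
    haveI hQn : (Q.subgroupOf T).Normal := by
      constructor
      intro n hn t
      rw [Subgroup.mem_subgroupOf] at hn ⊢
      have htN := ((hT (t : G)).mp t.2).1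
      exact (Subgroup.mem_normalizer_iff.mp htN _).mp hn
    haveI hCn : ((Subgroup.centralizer (Q : Set G)).subgroupOf T).Normal := by
      constructor
      intro n hn t
      rw [Subgroup.mem_subgroupOf] at hn ⊢
      have htN := ((hT (t : G)).mp t.2).2.1
      exact (Subgroup.mem_normalizer_iff.mp htN _).mp hn
    set H' : Subgroup T := Q.subgroupOf T ⊔ (Subgroup.centralizer (Q : Set G)).subgroupOf T
      with hH'
    have hmem : (⟨g, hgT⟩ : T) ∈ H' := by
      rw [← QuotientGroup.eq_one_iff]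
      have hp1 : ((⟨g, hgT⟩ : T) : T ⧸ H') ^ p ^ k = 1 := by
        rw [← QuotientGroup.mk_pow]
        have : (⟨g, hgT⟩ : T) ^ p ^ k = 1 := by
          apply Subtype.ext
          rw [Subgroup.coe_pow, Subgroup.coe_one, ← hk]
          exact pow_orderOf_eq_one g
        rw [this, QuotientGroup.mk_one]
      have hp2 : ((⟨g, hgT⟩ : T) : T ⧸ H') ^ H'.index = 1 := by
        rw [Subgroup.index_eq_card]
        exact pow_card_eq_one'
      have hd1 := orderOf_dvd_of_pow_eq_one hp1
      have hd2 := orderOf_dvd_of_pow_eq_one hp2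
      obtain ⟨j, -, hj⟩ := (Nat.dvd_prime_pow hpp.out).mp hd1
      have hj0 : j = 0 := by
        by_contra hne
        apply hidx
        exact (dvd_pow_self p hne).trans (hj ▸ hd2)
      rw [hj0, pow_zero] at hj
      exact orderOf_eq_one_iff.mp hj
    have hmap : H'.map T.subtype ≤ Q ⊔ Subgroup.centralizer (Q : Set G) := by
      rw [hH', Subgroup.map_sup, Subgroup.subgroupOf_map_subtype, Subgroup.subgroupOf_map_subtype]
      exact sup_le_sup inf_le_left inf_le_left
    exact hmap ⟨⟨g, hgT⟩, hmem, rfl⟩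

end forward

theorem result' {G : Type u} [Group G] [Finite G] (p : ℕ) [Fact p.Prime] (M : Ideal Cfsg.AlgInt) (hM : Cfsg.IsPModular p M) (Q : Subgroup G) (e : Set (Cfsg.IrrCharacter (Subgroup.centralizer (Q : Set G)))) (he : Cfsg.IsBrauerPair p M Q e) :
    (∃ B : Set (Cfsg.IrrCharacter G), Cfsg.IsMaximalBrauerPair p M B Q e) ↔
      ∃ θ ∈ e, (∀ z : Subgroup.centralizer (Q : Set G), (z : G) ∈ Q → (θ : Subgroup.centralizer (Q : Set G) → ℂ) z = (θ : Subgroup.centralizer (Q : Set G) → ℂ) 1) ∧
        (Cfsg.charDegree (θ : Subgroup.centralizer (Q : Set G) → ℂ)).factorization p + (Nat.card ↥(Q ⊓ Subgroup.centralizer (Q : Set G))).factorization p = (Nat.card (Subgroup.centralizer (Q : Set G))).factorization p ∧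
        (∀ g : G, g ∈ Subgroup.normalizer (Q : Set G) → Cfsg.StabilizesBlock (Subgroup.centralizer (Q : Set G)) e g → (∃ k : ℕ, orderOf g = p ^ k) → g ∈ Q ⊔ Subgroup.centralizer (Q : Set G)) := by
  classical
  let _ : Fintype G := Fintype.ofFinite G
  constructor
  · rintro ⟨B, hmax⟩
    exact forward hM Q e he B hmax
  · rintro ⟨θ, hθ, h1, h2, h3⟩
    exact converse hM Q e he θ hθ h1 h2 h3

/-- Let p be a prime, M a maximal ideal of the algebraic integers containing p, and (Q, e) a Brauer pair of the finite group G (Q a p-subgroup, e a block of C_G(Q)). Then (Q, e) is a maximal Brauer pair of some block of G if and only if e contains an irreducible character θ such that θ takes the value θ(1) at every element of Z(Q) = Q ∩ C_G(Q), the p-part of θ(1) times the p-part of the order of Z(Q) equals the p-part of the order of C_G(Q) (θ has defect zero as a character of C_G(Q)/Z(Q)), and every element of N_G(Q) of p-power order that stabilizes e lies in Q·C_G(Q) (the stabilizer of e in N_G(Q)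 has index prime to p over Q·C_G(Q)). -/
theorem result {G : Type*} [Group G] [Finite G] (p : ℕ) [Fact p.Prime] (M : Ideal Cfsg.AlgInt) (hM : Cfsg.IsPModular p M) (Q : Subgroup G) (e : Set (Cfsg.IrrCharacter (Subgroup.centralizer (Q : Set G)))) (he : Cfsg.IsBrauerPair p M Q e) :
    (∃ B : Set (Cfsg.IrrCharacter G), Cfsg.IsMaximalBrauerPair p M B Q e) ↔
      ∃ θ ∈ e, (∀ z : Subgroup.centralizer (Q : Set G), (z : G) ∈ Q → (θ : Subgroup.centralizer (Q : Set G) → ℂ) z = (θ : Subgroup.centralizer (Q : Set G) → ℂ) 1) ∧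
        (Cfsg.charDegree (θ : Subgroup.centralizer (Q : Set G) → ℂ)).factorization p + (Nat.card ↥(Q ⊓ Subgroup.centralizer (Q : Set G))).factorization p = (Nat.card (Subgroup.centralizer (Q : Set G))).factorization p ∧
        (∀ g : G, g ∈ Subgroup.normalizer (Q : Set G) → Cfsg.StabilizesBlock (Subgroup.centralizer (Q : Set G)) e g → (∃ k : ℕ, orderOf g = p ^ k) → g ∈ Q ⊔ Subgroup.centralizer (Q : Set G)) := by
  exact result' p M hM Q e he

end Cfsg.Agent.S4828
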