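import Cfsg.Statements.S4694


import Mathlib
import Cfsg.Agent.Lib.Helper6.WeightPair
import Cfsg.Agent.S4828
import Cfsg.Agent.Lib.Helper24.NormalCent

set_option autoImplicit false
open Cfsg

namespace Cfsg.Agent.S4694

open Cfsg.Agent.CharLib Cfsg.Agent.Lib.Helper24 Cfsg.Agent.Lib.Helper23 Cfsg.Agent.Lib.Helper6
  Cfsg.Agent.Lib.Helper6.WeightPair

/-- Fix a prime p and a maximal ideal M of the algebraic integers containing p, a p-block B of the finite group G and a Brauer pair (Q, e) of B. Let T be the stabilizer of e in N_G(Q) and suppose that (Q, e) carries a weight: the block of T whose idempotent is that of e contains an irreducible character χ that is constant on the cosets of Q and whose degree has p-part equal to the p-part of the index of Q in T. Then Z(Q) is a defect group of e as a block of C_G(Q), and Q is the largest normal p-subgroup of T: every p-subgroup of T normalized by T lies in Q. -/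
theorem result {G : Type*} [Group G] [Fintype G] (p : ℕ) [Fact p.Prime] (M : Ideal Cfsg.AlgInt) (hM : Cfsg.IsPModular p M) (B : Set (Cfsg.IrrCharacter G)) (Q : Subgroup G) (e : Set (Cfsg.IrrCharacter (Subgroup.centralizer (Q : Set G)))) (hQe : Cfsg.IsBrauerPairOf p M B Q e) (T : Subgroup G) (hT : ∀ y : G, y ∈ T ↔ y ∈ Subgroup.normalizer (Q : Set G) ∧ Cfsg.StabilizesBlock (Subgroup.centralizer (Q : Set G)) e y) (F' : Set (Cfsg.IrrCharacter T)) (hF' : Cfsg.IsPBlock M F') (hF'e : ∀ t : T, Cfsg.blockCoeff F' t = Cfsg.subgroupBlockCoeff (Subgroup.centralizer (Q : Set G)) e (t : G)) (χ : Cfsg.IrrCharacter T) (hχ : χ ∈ F') (hχQ : ∀ q : G, q ∈ Q → ∀ t : T, ∀ t' : T, (t' : G) = q * (t : G) → (χ : T → ℂ) t' = (χ : T → ℂ) t) (hdeg : (Cfsg.charDegree (χ : T → ℂ)).factorization p + (Nat.card Q).factorization p = (Nat.card T).factorization p) : Cfsg.IsDefectGroup p M e ((Q ⊓ Subgroup.centralizer (Q : Set G)).subgroupOf (Subgroup.centralizer (Q : Set G))) ∧ ∀ R : Subgroup G, R ≤ T → IsPGroup p R → (∀ t ∈ T, t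 ∈ Subgroup.normalizer (R : Set G)) → R ≤ Q := by
  classical
  obtain ⟨⟨hQp, hep⟩, -, -⟩ := hQe
  let _ : Fintype T := Fintype.ofFinite T
  let _ : Fintype (Subgroup.centralizer (Q : Set G)) := Fintype.ofFinite _
  have hTN : T ≤ Subgroup.normalizer (Q : Set G) := fun y hy => ((hT y).mp hy).1
  -- `C_G(Q) ≤ T`
  have hCT : Subgroup.centralizer (Q : Set G) ≤ T := by
    intro c hc
    rw [hT]
    refine ⟨Subgroup.centralizer_le_normalizer (Q : Set G) hc, Subgroup.le_normalizer hc, ?_⟩
    intro ξ hξ
    refine ⟨ξ, hξ, ?_⟩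
    intro k k' hk
    have h1 : k' = ⟨c, hc⟩ * k * (⟨c, hc⟩ : Subgroup.centralizer (Q : Set G))⁻¹ := by
      apply Subtype.ext
      rw [hk]
      rfl
    rw [h1]
    exact irr_conj ξ k ⟨c, hc⟩
  -- `Q ≤ T`
  have hQT : Q ≤ T := by
    intro q hq
    rw [hT]
    refine ⟨Subgroup.le_normalizer hq,
      mem_normalizer_centralizer_of_normalizes Q q (Subgroup.le_normalizer hq), ?_⟩
    intro ξ hξ
    refine ⟨ξ, hξ, ?_⟩
    intro k k' hk
    have h1 : k' = k := by
      apply Subtype.ext
      rw [hk]
      have := Subgroup.mem_centralizer_iff.mp k.2 q hq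
      rw [this, mul_inv_cancel_right]
    rw [h1]
  set Q' : Subgroup T := Q.subgroupOf T with hQ'
  haveI hQ'n : Q'.Normal := Subgroup.normal_subgroupOf_of_le_normalizer hTN
  have hker : ∀ q ∈ Q', (χ : T → ℂ) q = (χ : T → ℂ) 1 := by
    intro q hq
    exact hχQ (q : G) (Subgroup.mem_subgroupOf.mp hq) 1 q (by simp)
  have hcardQ' : Nat.card Q' = Nat.card Q :=
    Nat.card_congr (Subgroup.subgroupOfEquivOfLe hQT).toEquiv
  have hdeg' : (Cfsg.charDegree (χ : T → ℂ)).factorization p + (Nat.card Q').factorization p =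
      (Nat.card T).factorization p := by
    rw [hcardQ']
    exact hdeg
  constructor
  · -- `Z(Q)` is a defect group of `e`
    set ι : Subgroup.centralizer (Q : Set G) →* T := Subgroup.inclusion hCT with hι
    have hιn : ι.range.Normal := by
      rw [hι, Subgroup.inclusion_range]
      apply Subgroup.normal_subgroupOf_of_le_normalizer
      intro t ht
      exact mem_normalizer_centralizer_of_normalizes Q t (hTN ht)
    obtain ⟨θ, hθcon, hθker, hθdeg⟩ := exists_canonical_constituent p Q' ι hιn χ hker hdeg'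
    have hθe : θ ∈ e := mem_of_blockCoeff_eq T _ hCT F' e hF'e χ hχ θ hθcon
    have hZeq : (Q ⊓ Subgroup.centralizer (Q : Set G)).subgroupOf
        (Subgroup.centralizer (Q : Set G)) = Q'.comap ι := by
      ext z
      rw [Subgroup.mem_subgroupOf, Subgroup.mem_comap, hQ', Subgroup.mem_subgroupOf]
      constructor
      · intro h
        exact h.1
      · intro h
        exact ⟨h, z.2⟩
    apply Cfsg.Agent.S4828.isDefectGroup_of_canonical hM _ (Cfsg.Agent.S4828.center_aux Q)
      ((hQp.to_le inf_le_left).comap_subtype) e hep θ hθe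
    · intro z hz
      apply hθker z
      rw [hZeq] at hz
      exact hz
    · rw [hZeq]
      exact hθdeg
  · -- `Q = O_p(T)`
    intro R hRT hRp hRn
    obtain ⟨β, hβ⟩ := exists_deflation Q' χ hker
    let _ : Fintype (T ⧸ Q') := Fintype.ofFinite _
    have hR'n : (R.subgroupOf T).Normal :=
      Subgroup.normal_subgroupOf_of_le_normalizer (fun t ht => hRn t ht)
    set Rb : Subgroup (T ⧸ Q') := (R.subgroupOf T).map (QuotientGroup.mk' Q') with hRb
    haveI hRbn : Rb.Normal :=
      Subgroup.Normal.map hR'n (QuotientGroup.mk' Q') (QuotientGroup.mk'_surjective Q')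
    have hRbp : IsPGroup p Rb := (IsPGroup.comap_subtype hRp).map (QuotientGroup.mk' Q')
    have hcβ : Cfsg.charDegree (β : T ⧸ Q' → ℂ) = Cfsg.charDegree (χ : T → ℂ) := by
      unfold Cfsg.charDegree
      have : (β : T ⧸ Q' → ℂ) 1 = (χ : T → ℂ) 1 := by
        rw [← hβ 1]
        rfl
      rw [this]
    have hcardX : Nat.card T = Nat.card (T ⧸ Q') * Nat.card Q' :=
      Subgroup.card_eq_card_quotient_mul_card_subgroup Q'
    have hY0 : Nat.card (T ⧸ Q') ≠ 0 := Nat.card_pos.ne'
    have hQ0 : Nat.card Q' ≠ 0 := Nat.card_pos.ne'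
    have e2 : (Nat.card T).factorization p =
        (Nat.card (T ⧸ Q')).factorization p + (Nat.card Q').factorization p := by
      rw [hcardX, Nat.factorization_mul hY0 hQ0]
      rfl
    have hdz : p ^ (Nat.card (T ⧸ Q')).factorization p ∣ Cfsg.charDegree (β : T ⧸ Q' → ℂ) := by
      rw [hcβ]
      have : (Nat.card (T ⧸ Q')).factorization p =
          (Cfsg.charDegree (χ : T → ℂ)).factorization p := by omega
      rw [this]
      exact Nat.ordProj_dvd _ _
    have hbot := normal_pgroup_eq_bot_of_defect_zero p β hdz Rb hRbp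
    intro r hr
    have h1 : ((⟨r, hRT hr⟩ : T) : T ⧸ Q') ∈ Rb := by
      rw [hRb]
      exact Subgroup.mem_map_of_mem _ (Subgroup.mem_subgroupOf.mpr hr)
    rw [hbot, Subgroup.mem_bot, QuotientGroup.eq_one_iff] at h1
    exact Subgroup.mem_subgroupOf.mp h1

end Cfsg.Agent.S4694
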