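import Cfsg.Statements.S4711
import Mathlib
import Cfsg.Agent.Lib.Helper6.PLenBlkC
import Cfsg.Agent.Lib.Helper6.PLenBlkD
import Cfsg.Agent.Lib.Helper6.PLenBlkE
import Cfsg.Agent.Lib.Helper25.Inflate
import Cfsg.Agent.Lib.Helper25.Gagola
import Cfsg.Agent.Lib.Helper24.PerfectLemmas

set_option autoImplicit false
open Cfsg

namespace Cfsg.Agent.S4711

open Cfsg.Agent.CharLib Cfsg.Agent.Lib.Helper24 Cfsg.Agent.Lib.Helper6 Cfsg.Agent.Lib.Helper25
open Cfsg.Agent.Lib.Helper6.PLenBlk

universe u

/-- The members of the principal block with a normal subgroup `H` in the kernel have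
degree-square sum at most the index of `H`. -/
theorem sum_le_index {G : Type u} [Group G] [Fintype G] (H : Subgroup G) [H.Normal]
    (S : Set (IrrCharacter G))
    (hS : ∀ χ ∈ S, ∀ h ∈ H, (χ : G → ℂ) h = (χ : G → ℂ) 1) :
    ∑ᶠ χ ∈ S, charDegree (χ : G → ℂ) ^ 2 ≤ H.index := by
  classical
  let _ : Fintype (IrrCharacter G) := fintypeIrr G
  let _ : Fintype (G ⧸ H) := Fintype.ofFinite _
  let _ : Fintype (IrrCharacter (G ⧸ H)) := fintypeIrr _
  rw [finsum_mem_eq_sum_ite, ← Finset.sum_filter]
  have himg : Finset.univ.filter (fun ψ : IrrCharacter G =>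
      ∀ n ∈ H, (ψ : G → ℂ) n = (ψ : G → ℂ) 1) = Finset.univ.image (inflateIrr H) := by
    ext ψ
    rw [Finset.mem_filter, Finset.mem_image]
    constructor
    · rintro ⟨-, h⟩
      obtain ⟨θ, hθ⟩ := exists_inflateIrr_eq H ψ h
      exact ⟨θ, Finset.mem_univ _, hθ⟩
    · rintro ⟨θ, -, rfl⟩
      exact ⟨Finset.mem_univ _, fun n hn => inflateIrr_mem_ker H θ n hn⟩
  have hsub : Finset.univ.filter (fun χ : IrrCharacter G => χ ∈ S) ⊆
      Finset.univ.filter (fun ψ : IrrCharacter G => ∀ n ∈ H, (ψ : G → ℂ) n = (ψ : G → ℂ) 1) := by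
    intro χ hχ
    rw [Finset.mem_filter] at hχ ⊢
    exact ⟨Finset.mem_univ _, hS χ hχ.2⟩
  calc ∑ χ ∈ Finset.univ.filter (fun χ : IrrCharacter G => χ ∈ S), charDegree (χ : G → ℂ) ^ 2
      ≤ ∑ χ ∈ Finset.univ.filter (fun ψ : IrrCharacter G =>
          ∀ n ∈ H, (ψ : G → ℂ) n = (ψ : G → ℂ) 1), charDegree (χ : G → ℂ) ^ 2 :=
        Finset.sum_le_sum_of_subset hsub
    _ = ∑ θ : IrrCharacter (G ⧸ H), charDegree ((inflateIrr H θ : IrrCharacter G) : G → ℂ) ^ 2 := by
        rw [himg, Finset.sum_image (fun x _ y _ h => inflateIrr_injective H h)]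
    _ = ∑ θ : IrrCharacter (G ⧸ H), charDegree (θ : G ⧸ H → ℂ) ^ 2 := by
        apply Finset.sum_congr rfl
        intro θ _
        have : charDegree ((inflateIrr H θ : IrrCharacter G) : G → ℂ) =
            charDegree (θ : G ⧸ H → ℂ) := by
          unfold charDegree
          rw [inflateIrr_apply, QuotientGroup.mk_one]
        rw [this]
    _ = Fintype.card (G ⧸ H) := sum_charDegree_sq
    _ = H.index := by
        rw [Subgroup.index_eq_card, Nat.card_eq_fintype_card]

/-- Let p be a prime, M a maximal ideal of the algebraic integers containing p, G a finite group, P a Sylow p-subgroup and N = N_G(P). Then G has p-length 1 (G = O_{p',p,p'}(G)) if and only if every irreducible character in the principal p-block of G restricts to an irreducible character of N. -/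
theorem result {G : Type*} [Group G] [Finite G] (p : ℕ) [Fact p.Prime] (M : Ideal Cfsg.AlgInt) (hM : Cfsg.IsPModular p M) (P : Sylow p G) : Cfsg.PLengthLE p 1 G ↔ ∀ χ ∈ Cfsg.principalBlock M G, Cfsg.IsIrrCharacter ↥(Subgroup.normalizer ((P : Subgroup G) : Set G)) (fun n : ↥(Subgroup.normalizer ((P : Subgroup G) : Set G)) => (χ : G → ℂ) n) := by
  classical
  let _ : Fintype G := Fintype.ofFinite G
  constructor
  · intro h χ hχ
    exact isIrrCharacter_res_normalizer hM P h χ hχ
  · intro hirr
    set C := Subgroup.centralizer ((P : Subgroup G) : Set G) with hC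
    set H : Subgroup G := Subgroup.normalClosure ((((P : Subgroup G) ⊔ C : Subgroup G)) : Set G)
      with hH
    haveI hHn : H.Normal := Subgroup.normalClosure_normal
    have hPCH : (P : Subgroup G) ⊔ C ≤ H := Subgroup.le_normalClosure
    have hPH : (P : Subgroup G) ≤ H := le_trans le_sup_left hPCH
    have hCH : C ≤ H := le_trans le_sup_right hPCH
    let _ : Fintype H := Fintype.ofFinite H
    -- step 1
    have h1 := lambda_eq_card_mul hM P hirr
    -- step 2
    have h2 : ∑ᶠ χ ∈ {χ : IrrCharacter G | χ ∈ principalBlock M G ∧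
        ∀ x ∈ (P : Subgroup G), (χ : G → ℂ) x = (χ : G → ℂ) 1},
        charDegree (χ : G → ℂ) ^ 2 ≤ H.index := by
      apply sum_le_index H
      rintro χ ⟨hχB, hχP⟩
      have hle : (P : Subgroup G) ⊔ C ≤ irrKer χ := by
        apply sup_le
        · intro x hx
          exact (mem_irrKer χ x).mpr (hχP x hx)
        · intro y hy
          exact (mem_irrKer χ y).mpr (centralizer_le_ker hM P χ hχB hχP y hy)
      have hle2 : H ≤ irrKer χ := Subgroup.normalClosure_le_normal hle
      intro h hh
      exact (mem_irrKer χ h).mp (hle2 hh)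
    -- step 3
    have h3 := lambda_eq_index_mul hM H P hPH hCH
    -- step 4
    have hidxpos : 0 < H.index := Nat.pos_of_ne_zero Subgroup.index_ne_zero_of_finite
    have h4 : ∑ᶠ θ ∈ principalBlock M H, charDegree (θ : H → ℂ) ^ 2 ≤
        Nat.card (P : Subgroup G) := by
      apply Nat.le_of_mul_le_mul_left _ hidxpos
      rw [← h3, h1, mul_comm H.index]
      exact Nat.mul_le_mul_left _ h2
    -- step 5
    have hcardP : Nat.card ((P.subtype hPH : Sylow p H) : Subgroup H) = Nat.card (P : Subgroup G) := by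
      rw [Sylow.coe_subtype]
      exact Nat.card_congr (Subgroup.subgroupOfEquivOfLe hPH).toEquiv
    have h5 : HasNormalPComplement p H :=
      hasNormalPComplement_of_lambda_le hM (P.subtype hPH) (by rw [hcardP]; exact h4)
    -- step 6
    have hidx : ¬ p ∣ H.index := fun h => P.not_dvd_index (h.trans (Subgroup.index_dvd_of_le hPH))
    exact pLengthLE_one_of_normal p H hidx h5

end Cfsg.Agent.S4711
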