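import Cfsg.Statements.S4719
import Cfsg.Agent.Lib.Helper13.DCMain
import Cfsg.Agent.Lib.Helper13.DCB1
import Cfsg.Agent.Lib.Helper13.DCG11w
import Cfsg.Agent.S4718

set_option autoImplicit false
universe u
open Cfsg

namespace Cfsg.Agent.S4719

/-- For every natural number a there is a bound N with the following property. Let G be a finite group with Sylow 2-subgroups of order 2^a and r ≥ 0 such that G has no non-principal 2-block (relative to a maximal ideal of the algebraic integers containing 2) of defect ≥ r, and suppose a Sylow 2-subgroup of G contains an elementary abelian subgroup of order 2^(r+1). Then the order of G is at most N. -/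
theorem result (a : ℕ) : ∃ N : ℕ, ∀ (G : Type u) [Group G] [Finite G] (M : Ideal Cfsg.AlgInt) (r : ℕ) (P : Sylow 2 G), Cfsg.IsPModular 2 M → Nat.card P = 2 ^ a → (∀ B : Set (Cfsg.IrrCharacter G), Cfsg.IsPBlock M B → B ≠ Cfsg.principalBlock M G → Cfsg.blockDefect 2 B < r) → (∃ E : Subgroup G, E ≤ (P : Subgroup G) ∧ IsMulCommutative E ∧ (∀ x ∈ E, x * x = 1) ∧ Nat.card E = 2 ^ (r + 1)) → Nat.card G ≤ N := by
  haveI : Fact (Nat.Prime 2) := ⟨Nat.prime_two⟩
  exact Cfsg.Agent.Lib.Helper13.DCMain.main_of.{u}
    (fun a' => Cfsg.Agent.S4718.result.{u} 2 a')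
    (fun M hM r hG F hFc hcard =>
      Cfsg.Agent.Lib.Helper13.DCB1.all_blocks_principal_centralizer 2 M hM r hG F hFc hcard)
    (fun m hm a c => Cfsg.Agent.Lib.Helper13.DCG11w.exists_bound.{u} m hm a c)
    a

end Cfsg.Agent.S4719
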