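import Cfsg.Statements.S4720
import Mathlib
import Cfsg.Agent.Lib.Lead.SecondMain6
import Cfsg.Agent.Lib.Lead.SecondMain4
import Cfsg.Agent.Lib.Helper24.IrrFacts
import Cfsg.Agent.Lib.Helper6.IndFun

set_option autoImplicit false
open Cfsg

namespace Cfsg.Agent.S4720

open Cfsg.Agent.CharLib Cfsg.Agent.Lib.Helper24 Cfsg.Agent.Lib.Helper6
open scoped ComplexConjugate
universe u

/-- A `p`-element is its own `p`-part. -/
theorem isPPart_self {G : Type u} [Group G] (p : ℕ) [hp : Fact p.Prime] (y : G)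
    (hy : ∃ k : ℕ, orderOf y = p ^ k) : IsPPart p y y := by
  refine ⟨1, mul_one y, Commute.one_right y, hy, ?_⟩
  rw [orderOf_one]
  exact hp.out.one_lt.ne' ∘ Nat.dvd_one.mp

/-- The block orthogonality sum for the principal block and two `p`-elements. -/
theorem colsum_eq_zero {G : Type u} [Group G] [Finite G] {p : ℕ} [Fact p.Prime] {M : Ideal AlgInt}
    (hM : IsPModular p M) (y' y : G) (hy' : ∃ k : ℕ, orderOf y' = p ^ k)
    (hy : ∃ k : ℕ, orderOf y = p ^ k) (hnc : ¬ IsConj y' y) :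
    ∑ᶠ χ ∈ principalBlock M G, (χ : G → ℂ) y' * (χ : G → ℂ) y⁻¹ = 0 :=
  block_orthogonality hM y' y y' y (isPPart_self p y' hy') (isPPart_self p y hy) hnc
    (principalBlock M G) (isPBlock_principalBlock M G)

/-- The diagonal column sum is the sum of the squares of the degrees of the principal block of the
centralizer. -/
theorem colsum_diag {G : Type u} [Group G] [Finite G] {p : ℕ} [Fact p.Prime] {M : Ideal AlgInt}
    (hM : IsPModular p M) (y : G) (hy : ∃ k : ℕ, orderOf y = p ^ k) :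
    ∑ᶠ χ ∈ principalBlock M G, (χ : G → ℂ) y * (χ : G → ℂ) y⁻¹ =
      (((∑ᶠ ψ ∈ principalBlock M ↥(Subgroup.centralizer ({y} : Set G)),
        (charDegree (ψ : ↥(Subgroup.centralizer ({y} : Set G)) → ℂ) : ℚ) ^ 2) : ℚ) : ℂ) := by
  classical
  let _ : Fintype G := Fintype.ofFinite G
  let _ : Fintype (IrrCharacter G) := Fintype.ofFinite _
  let _ : Fintype (IrrCharacter ↥(Subgroup.centralizer ({y} : Set G))) := Fintype.ofFinite _
  have hp := Fact.out (p := p.Prime)
  have h1 := sum_principal_section_aux hM y hy (Subgroup.centralizer ({y} : Set G)) rfl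
    (1 : ↥(Subgroup.centralizer ({y} : Set G))) (by
      rw [orderOf_one]
      exact hp.one_lt.ne' ∘ Nat.dvd_one.mp)
  rw [Subgroup.coe_one, mul_one] at h1
  have h2 : ∑ᶠ χ ∈ principalBlock M G, (χ : G → ℂ) y * (χ : G → ℂ) y⁻¹ =
      ∑ᶠ χ ∈ principalBlock M G, (χ : G → ℂ) y * conj ((χ : G → ℂ) y) := by
    apply finsum_mem_congr rfl
    intro χ _
    rw [irr_apply_inv]
  rw [h2, h1]
  rw [Cfsg.Agent.Lib.Helper6.finsum_mem_eq_sum_ite, Cfsg.Agent.Lib.Helper6.finsum_mem_eq_sum_ite]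
  push_cast
  apply Finset.sum_congr rfl
  intro ψ _
  split_ifs
  · rw [irr_apply_one, Complex.conj_natCast]
    push_cast
    ring
  · simp

/-- The fibres of conjugation `N → y^N` all have `|C_N(y)|` elements. -/
theorem card_fibre {G : Type u} [Group G] [DecidableEq G] (N : Subgroup G) [Fintype N] (y n : G)
    (hn : n ∈ N) :
    (Finset.univ.filter (fun x : N => (x : G) * y * (x : G)⁻¹ = n * y * n⁻¹)).card =
      Nat.card ↥(N ⊓ Subgroup.centralizer ({y} : Set G)) := by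
  classical
  rw [← Fintype.card_subtype, ← Nat.card_eq_fintype_card]
  apply Nat.card_congr
  refine ⟨fun x => ⟨n⁻¹ * (x.1 : G), ⟨N.mul_mem (N.inv_mem hn) x.1.2, ?_⟩⟩,
    fun c => ⟨⟨n * (c : G), N.mul_mem hn c.2.1⟩, ?_⟩, ?_, ?_⟩
  · change n⁻¹ * (x.1 : G) ∈ Subgroup.centralizer ({y} : Set G)
    rw [Subgroup.mem_centralizer_singleton_iff]
    have h := x.2
    calc n⁻¹ * (x.1 : G) * y = n⁻¹ * ((x.1 : G) * y * (x.1 : G)⁻¹) * (x.1 : G) := by group
      _ = n⁻¹ * (n * y * n⁻¹) * (x.1 : G) := by rw [h]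
      _ = y * (n⁻¹ * (x.1 : G)) := by group
  · have h : (c : G) ∈ Subgroup.centralizer ({y} : Set G) := c.2.2
    rw [Subgroup.mem_centralizer_singleton_iff] at h
    change n * (c : G) * y * (n * (c : G))⁻¹ = n * y * n⁻¹
    calc n * (c : G) * y * (n * (c : G))⁻¹ = n * ((c : G) * y) * (c : G)⁻¹ * n⁻¹ := by group
      _ = n * (y * (c : G)) * (c : G)⁻¹ * n⁻¹ := by rw [h]
      _ = n * y * n⁻¹ := by group
  · intro x
    apply Subtype.ext
    apply Subtype.ext
    change n * (n⁻¹ * (x.1 : G)) = (x.1 : G)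
    group
  · intro c
    apply Subtype.ext
    change n⁻¹ * (n * (c : G)) = (c : G)
    group

theorem result' {G : Type u} [Group G] [Finite G] (p : ℕ) [Fact p.Prime] (M : Ideal Cfsg.AlgInt) (hM : Cfsg.IsPModular p M) (P : Subgroup G) (hP : IsPGroup p P) (N : Subgroup G) (hNN : N ≤ Subgroup.normalizer (P : Set G)) (U : Set G) (hfus : ∀ u ∈ U, ∀ g : G, g * u * g⁻¹ ∈ (P : Set G) → ∃ n ∈ N, n * u * n⁻¹ = g * u * g⁻¹) (w : ℚ) (hw : ∀ y ∈ U, ((∑ᶠ ψ ∈ Cfsg.principalBlock M ↥(Subgroup.centralizer ({y} : Set G)), Cfsg.charDegree (ψ : ↥(Subgroup.centralizer ({y} : Set G)) → ℂ) ^ 2) : ℚ) = w * Nat.card ↥(N ⊓ Subgroup.centralizer ({y} : Set G))) (θ η : ↥P → ℂ) (hθU : ∀ y : ↥P, (y : G) ∉ U → θ y = 0) : ∑ᶠ χ ∈ Cfsg.principalBlock M G, ((Nat.card ↥P : ℂ)⁻¹ * ∑ᶠ y : ↥P, (χ : G → ℂ) (y : G) * θ y⁻¹) * (starRingEnd ℂ) ((Nat.card ↥P : ℂ)⁻¹ * ∑ᶠ y : ↥P, (χ : G → ℂ) (y : G) * η y⁻¹) = ((w : ℂ) / ((Nat.card ↥P : ℂ) ^ 2)) * ∑ᶠ y : ↥P, θ y * (starRingEnd ℂ) (∑ᶠ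 x : ↥N, Cfsg.extendByZero P η ((x : G) * (y : G) * (x : G)⁻¹)) := by
  classical
  let _ : Fintype G := Fintype.ofFinite G
  let _ : Fintype (IrrCharacter G) := Fintype.ofFinite _
  let _ : Fintype P := Fintype.ofFinite P
  let _ : Fintype N := Fintype.ofFinite N
  set B0 := principalBlock M G with hB0
  set S : Finset (IrrCharacter G) := Finset.univ.filter (fun χ => χ ∈ B0) with hS
  set c : ℂ := (Nat.card ↥P : ℂ)⁻¹ with hc
  have hcc : conj c = c := by
    rw [hc, map_inv₀, Complex.conj_natCast]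
  have hpel : ∀ y : P, ∃ k : ℕ, orderOf (y : G) = p ^ k := by
    intro y
    obtain ⟨k, hk⟩ := (IsPGroup.iff_orderOf.mp hP) y
    exact ⟨k, by rw [Subgroup.orderOf_coe]; exact hk⟩
  have hfs : ∀ f : IrrCharacter G → ℂ, ∑ᶠ χ ∈ B0, f χ = ∑ χ ∈ S, f χ := by
    intro f
    rw [Cfsg.Agent.Lib.Helper6.finsum_mem_eq_sum_ite, hS, Finset.sum_filter]
  set T : P → P → ℂ := fun y' y => ∑ χ ∈ S, (χ : G → ℂ) (y' : G) * (χ : G → ℂ) (y : G)⁻¹ with hT
  -- the two coefficient sums
  have hA : ∀ χ : IrrCharacter G, ∑ᶠ y : ↥P, (χ : G → ℂ) (y : G) * θ y⁻¹ =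
      ∑ y : P, (χ : G → ℂ) (y : G)⁻¹ * θ y := by
    intro χ
    rw [finsum_eq_sum_of_fintype]
    rw [← Equiv.sum_comp (Equiv.inv P) (fun y : P => (χ : G → ℂ) (y : G)⁻¹ * θ y)]
    apply Finset.sum_congr rfl
    intro y _
    simp only [Equiv.inv_apply, Subgroup.coe_inv, inv_inv]
  have hBc : ∀ χ : IrrCharacter G, conj (∑ᶠ y : ↥P, (χ : G → ℂ) (y : G) * η y⁻¹) =
      ∑ y : P, (χ : G → ℂ) (y : G) * conj (η y) := by
    intro χ
    rw [finsum_eq_sum_of_fintype, map_sum]
    rw [← Equiv.sum_comp (Equiv.inv P) (fun y : P => (χ : G → ℂ) (y : G) * conj (η y))]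
    apply Finset.sum_congr rfl
    intro y _
    simp only [Equiv.inv_apply, Subgroup.coe_inv, map_mul]
    rw [irr_apply_inv]
  -- step 1
  have hL : ∑ᶠ χ ∈ B0, (c * ∑ᶠ y : ↥P, (χ : G → ℂ) (y : G) * θ y⁻¹) *
      conj (c * ∑ᶠ y : ↥P, (χ : G → ℂ) (y : G) * η y⁻¹) =
      c ^ 2 * ∑ y : P, ∑ y' : P, θ y * conj (η y') * T y' y := by
    rw [hfs]
    have h1 : ∀ χ ∈ S, (c * ∑ᶠ y : ↥P, (χ : G → ℂ) (y : G) * θ y⁻¹) *
        conj (c * ∑ᶠ y : ↥P, (χ : G → ℂ) (y : G) * η y⁻¹) =
        c ^ 2 * ∑ y : P, ∑ y' : P, θ y * conj (η y') *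
          ((χ : G → ℂ) (y' : G) * (χ : G → ℂ) (y : G)⁻¹) := by
      intro χ _
      rw [map_mul, hcc, hA, hBc]
      rw [show c * (∑ y : P, (χ : G → ℂ) (y : G)⁻¹ * θ y) *
          (c * ∑ y : P, (χ : G → ℂ) (y : G) * conj (η y)) =
          c ^ 2 * ((∑ y : P, (χ : G → ℂ) (y : G)⁻¹ * θ y) *
            (∑ y : P, (χ : G → ℂ) (y : G) * conj (η y))) by ring]
      rw [Finset.sum_mul_sum]
      congr 1
      apply Finset.sum_congr rfl
      intro y _
      apply Finset.sum_congr rfl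
      intro y' _
      ring
    rw [Finset.sum_congr rfl h1, ← Finset.mul_sum]
    congr 1
    rw [Finset.sum_comm]
    apply Finset.sum_congr rfl
    intro y _
    rw [Finset.sum_comm]
    apply Finset.sum_congr rfl
    intro y' _
    rw [hT]
    simp only
    rw [Finset.mul_sum]
  -- step 2
  have hstep : ∀ y : P, ∑ y' : P, θ y * conj (η y') * T y' y =
      (w : ℂ) * (θ y * conj (∑ᶠ x : ↥N, extendByZero P η ((x : G) * (y : G) * (x : G)⁻¹))) := by
    intro y
    by_cases hyU : (y : G) ∈ U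
    · -- normalizer
      have hmemP : ∀ x : N, (x : G) * (y : G) * (x : G)⁻¹ ∈ P := by
        intro x
        have := hNN x.2
        rw [Subgroup.mem_normalizer_iff] at this
        exact (this (y : G)).mp y.2
      have hTval : ∀ y' : P, T y' y = (w : ℂ) *
          ((Finset.univ.filter (fun x : N => (x : G) * (y : G) * (x : G)⁻¹ = (y' : G))).card : ℂ) := by
        intro y'
        have hTf : T y' y = ∑ᶠ χ ∈ B0, (χ : G → ℂ) (y' : G) * (χ : G → ℂ) (y : G)⁻¹ := by
          rw [hfs]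
        by_cases hex : ∃ n ∈ N, n * (y : G) * n⁻¹ = (y' : G)
        · obtain ⟨n, hn, hny⟩ := hex
          rw [← hny, card_fibre N (y : G) n hn]
          have hcl : ∀ χ : IrrCharacter G, (χ : G → ℂ) (n * (y : G) * n⁻¹) = (χ : G → ℂ) (y : G) :=
            fun χ => (IsCharacter.isClassFunction (IsIrrCharacter.isCharacter χ.2)) _ _
          have hTf' : T y' y = ∑ᶠ χ ∈ B0, (χ : G → ℂ) (y : G) * (χ : G → ℂ) (y : G)⁻¹ := by
            rw [hTf]
            apply finsum_mem_congr rfl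
            intro χ _
            rw [← hny, hcl]
          rw [hTf', hB0, colsum_diag hM (y : G) (hpel y)]
          have := hw (y : G) hyU
          rw [show (∑ᶠ ψ ∈ principalBlock M ↥(Subgroup.centralizer ({(y : G)} : Set G)),
            (charDegree (ψ : ↥(Subgroup.centralizer ({(y : G)} : Set G)) → ℂ) : ℚ) ^ 2) =
            w * Nat.card ↥(N ⊓ Subgroup.centralizer ({(y : G)} : Set G)) from this]
          push_cast
          rfl
        · have hempty : Finset.univ.filter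
              (fun x : N => (x : G) * (y : G) * (x : G)⁻¹ = (y' : G)) = ∅ := by
            rw [Finset.filter_eq_empty_iff]
            intro x _ hx
            exact hex ⟨x, x.2, hx⟩
          rw [hempty, Finset.card_empty, Nat.cast_zero, mul_zero, hTf, hB0]
          apply colsum_eq_zero hM (y' : G) (y : G) (hpel y') (hpel y)
          intro hconj
          obtain ⟨g, hg⟩ := isConj_iff.mp hconj.symm
          have hgP : g * (y : G) * g⁻¹ ∈ (P : Set G) := by
            rw [hg]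
            exact y'.2
          obtain ⟨n, hn, hny⟩ := hfus (y : G) hyU g hgP
          exact hex ⟨n, hn, by rw [hny, hg]⟩
      -- the right-hand side
      have hR : conj (∑ᶠ x : ↥N, extendByZero P η ((x : G) * (y : G) * (x : G)⁻¹)) =
          ∑ y' : P, conj (η y') *
            ((Finset.univ.filter (fun x : N => (x : G) * (y : G) * (x : G)⁻¹ = (y' : G))).card : ℂ) := by
        rw [finsum_eq_sum_of_fintype, map_sum]
        have h1 : ∀ x : N, conj (extendByZero P η ((x : G) * (y : G) * (x : G)⁻¹)) =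
            ∑ y' : P, if (x : G) * (y : G) * (x : G)⁻¹ = (y' : G) then conj (η y') else 0 := by
          intro x
          rw [extendByZero_mem P η (hmemP x)]
          rw [Finset.sum_eq_single (⟨(x : G) * (y : G) * (x : G)⁻¹, hmemP x⟩ : P)]
          · rw [if_pos rfl]
          · intro b _ hb
            rw [if_neg]
            intro h
            apply hb
            apply Subtype.ext
            exact h.symm
          · intro h
            exact absurd (Finset.mem_univ _) h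
        rw [Finset.sum_congr rfl (fun x _ => h1 x), Finset.sum_comm]
        apply Finset.sum_congr rfl
        intro y' _
        rw [← Finset.sum_filter, Finset.sum_const, nsmul_eq_mul, mul_comm]
      rw [hR, Finset.mul_sum, Finset.mul_sum]
      apply Finset.sum_congr rfl
      intro y' _
      rw [hTval y']
      ring
    · rw [hθU y hyU]
      simp
  rw [hL, Finset.sum_congr rfl (fun y _ => hstep y), ← Finset.mul_sum, finsum_eq_sum_of_fintype, hc]
  rw [div_eq_mul_inv, inv_pow]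
  ring

/-- Let p be a prime, M a maximal ideal of the algebraic integers containing p, P a p-subgroup of the finite group G, N a subgroup with P ≤ N ≤ N_G(P), and U a nonempty subset of P normalized by N such that an element of U and an element of P that are conjugate in G are already conjugate in N, and such that λ(C_G(y)) = w·#C_N(y) for every y ∈ U with one rational number w, where λ(X) denotes the sum of the squares of the degrees of the irreducible characters in the principal p-block of X. For a complex function θ on P and χ in the principal block of G put a_χ(θ) = #P⁻¹ Σ_{y ∈ P} χ(y) θ(y⁻¹). Then for generalized characters θ, η of P with θ vanishing outside U, Σ_χ a_χ(θ)·conj(a_χ(η)) = (w/#P²)·Σ_{y ∈ P} θ(y)·conj(Σ_{x ∈ N} η(x y x⁻¹)) (η extended by zero off P; the conjugates lie in P), the first sum over the principal p-block of G. -/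
theorem result {G : Type*} [Group G] [Finite G] (p : ℕ) [Fact p.Prime] (M : Ideal Cfsg.AlgInt) (hM : Cfsg.IsPModular p M) (P : Subgroup G) (hP : IsPGroup p P) (N : Subgroup G) (hPN : P ≤ N) (hNN : N ≤ Subgroup.normalizer (P : Set G)) (U : Set G) (hUne : U.Nonempty) (hUP : U ⊆ (P : Set G)) (hUN : ∀ n ∈ N, ∀ u ∈ U, n * u * n⁻¹ ∈ U) (hfus : ∀ u ∈ U, ∀ g : G, g * u * g⁻¹ ∈ (P : Set G) → ∃ n ∈ N, n * u * n⁻¹ = g * u * g⁻¹) (w : ℚ) (hw : ∀ y ∈ U, ((∑ᶠ ψ ∈ Cfsg.principalBlock M ↥(Subgroup.centralizer ({y} : Set G)), Cfsg.charDegree (ψ : ↥(Subgroup.centralizer ({y} : Set G)) → ℂ) ^ 2) : ℚ) = w * Nat.card ↥(N ⊓ Subgroup.centralizer ({y} : Set G))) (θ η : ↥P → ℂ) (hθ : Cfsg.IsGeneralizedCharacter ↥P θ) (hη : Cfsg.IsGeneralizedCharacter ↥P η) (hθU : ∀ y : ↥P, (y : G) ∉ U → θ y = 0) : ∑ᶠ χ ∈ Cfsg.principalBlock M G, ((Nat.card ↥P : ℂ)⁻¹ * ∑ᶠ y : ↥P, (χ : G → ℂ) (y : G) * θ y⁻¹) * (starRingEnd ℂ) ((Nat.card ↥P : ℂ)⁻¹ * ∑ᶠ y : ↥P, (χ : G → ℂ) (y : G) *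 η y⁻¹) = ((w : ℂ) / ((Nat.card ↥P : ℂ) ^ 2)) * ∑ᶠ y : ↥P, θ y * (starRingEnd ℂ) (∑ᶠ x : ↥N, Cfsg.extendByZero P η ((x : G) * (y : G) * (x : G)⁻¹)) := by
  exact result' p M hM P hP N hNN U hfus w hw θ η hθU

end Cfsg.Agent.S4720
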