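import Cfsg.Statements.S4723
import Cfsg.Agent.Lib.Helper23.HeightZeroI

set_option autoImplicit false
open Cfsg

namespace Cfsg.Agent.S4723



/-- Let p be a prime, M a maximal ideal of the algebraic integers containing p, H a normal subgroup of the finite group G and b a p-block of H. Let T be the stabilizer of b in G. Then b contains a character θ of height zero whose own stabilizer in G (the elements g with θ(g h g⁻¹) = θ(h) for all h ∈ H) has index prime to p in T, i.e. contains a Sylow p-subgroup of T. -/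
theorem result {G : Type*} [Group G] [Finite G] (p : ℕ) [Fact p.Prime] (M : Ideal Cfsg.AlgInt) (hM : Cfsg.IsPModular p M) (H : Subgroup G) [H.Normal] (b : Set (Cfsg.IrrCharacter ↥H)) (hb : Cfsg.IsPBlock M b) (T : Subgroup G) (hT : (∀ g : G, g ∈ T ↔ ∀ θ ∈ b, ∀ θ' : Cfsg.IrrCharacter ↥H, (∀ h h' : ↥H, (h' : G) = g * h * g⁻¹ → (θ' : ↥H → ℂ) h' = (θ : ↥H → ℂ) h) → θ' ∈ b)) : ∃ θ ∈ b, Cfsg.blockHeight p b (θ : ↥H → ℂ) = 0 ∧ ∃ S : Subgroup G, S ≤ T ∧ (∀ g : G, g ∈ S ↔ (g ∈ T ∧ ∀ h h' : ↥H, (h' : G) = g * h * g⁻¹ → (θ : ↥H → ℂ) h' = (θ : ↥H → ℂ) h)) ∧ ¬ p ∣ S.relIndex T := by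
  classical
  have : Fintype G := Fintype.ofFinite G
  letI := Cfsg.Agent.Lib.Helper23.irrConjAction H
  have hstab : ∀ g ∈ T, ∀ θ ∈ b, (g • θ : Cfsg.IrrCharacter H) ∈ b := by
    intro g hg θ hθ
    apply (hT g).mp hg θ hθ
    intro h h' hh'
    show Cfsg.Agent.Lib.Helper6.conjFun H g⁻¹ (θ : H → ℂ) h' = _
    rw [Cfsg.Agent.Lib.Helper6.conjFun_apply]
    refine congrArg _ (Subtype.ext ?_)
    show g⁻¹ * (h' : G) * g⁻¹⁻¹ = (h : G)
    rw [hh']
    group
  obtain ⟨θ, hθ, hmin, hidx⟩ :=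
    Cfsg.Agent.Lib.Helper23.exists_height_zero_pprime_orbit H hM hb T hstab
  refine ⟨θ, hθ, (Cfsg.Agent.Lib.Helper23.blockHeight_eq_zero_iff hθ).mpr hmin,
    (MulAction.stabilizer T θ).map T.subtype, Subgroup.map_subtype_le _, ?_, ?_⟩
  · intro g
    constructor
    · rintro ⟨t, ht, rfl⟩
      refine ⟨t.2, ?_⟩
      intro h h' hh'
      have h1 : (t • θ : Cfsg.IrrCharacter H) = θ := ht
      have h2 : Cfsg.Agent.Lib.Helper6.conjFun H (t : G)⁻¹ (θ : H → ℂ) = (θ : H → ℂ) :=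
        congrArg Subtype.val h1
      have h3 := congrFun h2 h'
      rw [Cfsg.Agent.Lib.Helper6.conjFun_apply] at h3
      rw [← h3]
      refine congrArg _ (Subtype.ext ?_)
      show ((t : G))⁻¹ * (h' : G) * ((t : G))⁻¹⁻¹ = (h : G)
      rw [hh', Subgroup.coe_subtype]
      group
    · rintro ⟨hg, hcond⟩
      refine ⟨⟨g, hg⟩, ?_, rfl⟩
      show ((⟨g, hg⟩ : T) • θ : Cfsg.IrrCharacter H) = θ
      apply Subtype.ext
      show Cfsg.Agent.Lib.Helper6.conjFun H g⁻¹ (θ : H → ℂ) = (θ : H → ℂ)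
      funext h'
      rw [Cfsg.Agent.Lib.Helper6.conjFun_apply]
      symm
      apply hcond
      show (h' : G) = g * (g⁻¹ * (h' : G) * g⁻¹⁻¹) * g⁻¹
      group
  · unfold Subgroup.relIndex Subgroup.subgroupOf
    rw [Subgroup.comap_map_eq_self_of_injective (Subgroup.subtype_injective T)]
    exact hidx

end Cfsg.Agent.S4723
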