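import Cfsg.Statements.S4726
import Cfsg.Agent.Lib.Helper23.PairIndC

set_option autoImplicit false
open Cfsg

namespace Cfsg.Agent.S4726



/-- Let p be a prime, M a maximal ideal of the algebraic integers containing p, H a subgroup of the finite group G and b a p-block of H with defect group D₀ such that C_G(D₀) ≤ H. Then b induces a block of G, and for every block B of G induced by b there is a defect group D of B with Z(D) ≤ Z(D₀) ≤ D₀ ≤ D (as subgroups of G). In particular, if the defect groups of B are abelian then D₀ is a defect group of B. -/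
theorem result {G : Type*} [Group G] [Finite G] (p : ℕ) [Fact p.Prime] (M : Ideal Cfsg.AlgInt) (hM : Cfsg.IsPModular p M) (H : Subgroup G) (b : Set (Cfsg.IrrCharacter ↥H)) (hb : Cfsg.IsPBlock M b) (D₀ : Subgroup ↥H) (hD₀ : Cfsg.IsDefectGroup p M b D₀) (hC : Subgroup.centralizer ((D₀.map H.subtype : Subgroup G) : Set G) ≤ H) : Cfsg.InducedBlockDefined M H b ∧ ∀ B : Set (Cfsg.IrrCharacter G), Cfsg.IsInducedBlock M H b B → (∃ D : Subgroup G, Cfsg.IsDefectGroup p M B D ∧ (Subgroup.center ↥D).map D.subtype ≤ ((Subgroup.center ↥D₀).map D₀.subtype).map H.subtype ∧ ((Subgroup.center ↥D₀).map D₀.subtype).map H.subtype ≤ D₀.map H.subtype ∧ D₀.map H.subtype ≤ D) ∧ (∀ D : Subgroup G, Cfsg.IsDefectGroup p M B D → IsMulCommutative ↥D → Cfsg.IsDefectGroup p M B (D₀.map H.subtype)) := by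
  classical
  let _ : Fintype G := Fintype.ofFinite G
  have hprime : M.IsPrime := Cfsg.Agent.Lib.Helper24.isPrime_of_isPModular hM
  obtain ⟨B₀, hind₀, E, hE, hPE, hcent⟩ :=
    Cfsg.Agent.Lib.Helper23.PairInd.exists_induced_of_centralizer_le hM H b hb D₀ hD₀ hC
  refine ⟨⟨B₀, hind₀⟩, ?_⟩
  intro B hind
  have hBB : B = B₀ := Cfsg.Agent.Lib.Helper6.isInducedBlock_unique hind hind₀
  subst hBB
  -- the centre of `E` lies in the image of the centre of `D₀`
  have hZ : (Subgroup.center ↥E).map E.subtype ≤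
      ((Subgroup.center ↥D₀).map D₀.subtype).map H.subtype := by
    rintro _ ⟨c, hc, rfl⟩
    apply hcent
    refine ⟨c.2, ?_⟩
    change (c : G) ∈ Subgroup.centralizer ((D₀.map H.subtype : Subgroup G) : Set G)
    rw [Subgroup.mem_centralizer_iff]
    intro y hy
    have h1 := Subgroup.mem_center_iff.mp hc ⟨y, hPE hy⟩
    exact congrArg Subtype.val h1
  have hmid : ((Subgroup.center ↥D₀).map D₀.subtype).map H.subtype ≤ D₀.map H.subtype := by
    apply Subgroup.map_mono
    rintro _ ⟨c, -, rfl⟩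
    exact c.2
  refine ⟨⟨E, hE, hZ, hmid, hPE⟩, ?_⟩
  intro D' hD' hcomm
  obtain ⟨x, hx⟩ := Cfsg.Agent.Lib.Helper23.PairInd.exists_conj_eq_of_isDefectGroup hM B hind.2.1
    E D' hE hD'
  -- `E` is commutative
  have hEcomm : ∀ a ∈ E, ∀ c ∈ E, a * c = c * a := by
    intro a ha c hc
    rw [← hx] at ha hc
    obtain ⟨a', ha', rfl⟩ := ha
    obtain ⟨c', hc', rfl⟩ := hc
    have h1 : (⟨a', ha'⟩ : ↥D') * ⟨c', hc'⟩ = ⟨c', hc'⟩ * ⟨a', ha'⟩ :=
      (IsMulCommutative.is_comm (M := ↥D')).comm _ _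
    have h2 : a' * c' = c' * a' := congrArg Subtype.val h1
    simp only [MulEquiv.coe_toMonoidHom, MulAut.conj_apply]
    calc x * a' * x⁻¹ * (x * c' * x⁻¹) = x * (a' * c') * x⁻¹ := by group
      _ = x * (c' * a') * x⁻¹ := by rw [h2]
      _ = x * c' * x⁻¹ * (x * a' * x⁻¹) := by group
  have hEP : E ≤ D₀.map H.subtype := by
    intro z hz
    apply hmid
    apply hZ
    refine ⟨⟨z, hz⟩, ?_, rfl⟩
    rw [SetLike.mem_coe, Subgroup.mem_center_iff]
    intro y
    apply Subtype.ext
    exact hEcomm y y.2 z hz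
  have heq : D₀.map H.subtype = E := le_antisymm hPE hEP
  rw [heq]
  exact hE

end Cfsg.Agent.S4726
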