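import Cfsg.Statements.S4734
import Mathlib
import Cfsg.Agent.Lib.Helper24.BrauerKernel

set_option autoImplicit false
open Cfsg

namespace Cfsg.Agent.S4734

open Cfsg.Agent.CharLib Cfsg.Agent.Lib.Helper24 Cfsg.Agent.Lib.Helper6
open scoped ComplexConjugate
universe u

theorem result' {G : Type u} [Group G] [Finite G] (p : ℕ) [Fact p.Prime] (M : Ideal Cfsg.AlgInt) (hM : Cfsg.IsPModular p M) (π : Set ℕ) (hpπ : p ∈ π) (B : Set (Cfsg.IrrCharacter G)) (hB : Cfsg.IsPBlock M B) (D : Subgroup G) (hBD : Cfsg.IsDefectGroup p M B D) (B₁ : Set (Cfsg.IrrCharacter ↥(Subgroup.normalizer (D : Set G)))) (hB₁ : Cfsg.IsInducedBlock M (Subgroup.normalizer (D : Set G)) B₁ B) (hB₁D : Cfsg.IsDefectGroup p M B₁ (D.subgroupOf (Subgroup.normalizer (D : Set G)))) (hker : ∀ n : ↥(Subgroup.normalizer (D : Set G)), n ∈ Cfsg.piCore {q | q ∉ π} ↥(Subgroup.normalizer (D : Set G)) → n ∈ Cfsg.blockKer B₁) (G₀ : Subgroup G) (B₀ : Set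 (Cfsg.IrrCharacter ↥G₀)) (hB₀ : Cfsg.IsInducedBlock M G₀ B₀ B) (D₀ : Subgroup ↥G₀) (hD₀ : Cfsg.IsDefectGroup p M B₀ D₀) (hC : Subgroup.centralizer ((D₀.map G₀.subtype : Subgroup G) : Set G) ≤ G₀) : ∀ x : ↥G₀, x ∈ Cfsg.piCore {q | q ∉ π} ↥G₀ → x ∈ Cfsg.blockKer B₀ := by
  classical
  have hprime : M.IsPrime := isPrime_of_isPModular hM
  have hp := Fact.out (p := p.Prime)
  obtain ⟨b'X, hb'D, hb'I⟩ := ExtFirstMain.exists_block_PC hM B₀ hB₀.1 D₀ hD₀
  have hmem := mem_sup_centralizer_nested_iff G₀ D₀ hC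
  have hLG₀ : D₀.map G₀.subtype ⊔
      Subgroup.centralizer ((D₀.map G₀.subtype : Subgroup G) : Set G) ≤ G₀ :=
    sup_le (Subgroup.map_subtype_le D₀) hC
  have hκ : ∀ k' : ↥(D₀ ⊔ Subgroup.centralizer (D₀ : Set G₀)),
      ((nestedEquiv G₀ _ _ hmem hLG₀ k' : _) : G) = ((k' : G₀) : G) := fun _ => rfl
  have hpb : BlockIso.pullBlock (nestedEquiv G₀ _ _ hmem hLG₀)
      (BlockIso.pullBlock (nestedEquiv G₀ _ _ hmem hLG₀).symm b'X) = b'X := by
    have := BlockIso.pullBlock_symm_pullBlock (nestedEquiv G₀ _ _ hmem hLG₀).symm b'X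
    rwa [MulEquiv.symm_symm] at this
  have h1 : IsInducedBlock M (D₀ ⊔ Subgroup.centralizer (D₀ : Set G₀))
      (BlockIso.pullBlock (nestedEquiv G₀ _ _ hmem hLG₀)
        (BlockIso.pullBlock (nestedEquiv G₀ _ _ hmem hLG₀).symm b'X)) B₀ := by
    rw [hpb]
    exact hb'I
  have hbB := isInducedBlock_trans G₀ _ _ (nestedEquiv G₀ _ _ hmem hLG₀) hκ _ B₀ B h1 hB₀
  have hQp : IsPGroup p (D₀.map G₀.subtype) := (ExtFirstMain.isPGroup_of_isDefectGroup hD₀).map _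
  have hdesc := kerLE_piCoreOf_of_induced hM π hpπ B hB D hBD B₁ hB₁ hB₁D hker _
    (D₀.map G₀.subtype) rfl hQp _ hbB
  have hYp : ¬ p ∣ Nat.card (piCore {q | q ∉ π} ↥G₀) := fun h =>
    Cfsg.Agent.Lib.Helper12.piCore_mem _ p hp h hpπ
  have hK := ker_iff_of_induced hM (D₀ ⊔ Subgroup.centralizer (D₀ : Set G₀)) b'X B₀ hb'I
    (piCore {q | q ∉ π} ↥G₀) hYp
  intro x hx χ hχ
  apply hK.mpr _ x hx χ hχ
  intro y hy ξ hξ
  have hξ' := BlockIso.irrCompIso_mem_pullBlock (nestedEquiv G₀ _ _ hmem hLG₀).symm hξ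
  have hW : piCoreOf {q | q ∉ π} G₀ ⊓ (D₀.map G₀.subtype ⊔
      Subgroup.centralizer ((D₀.map G₀.subtype : Subgroup G) : Set G)) ≤
      piCoreOf {q | q ∉ π} (D₀.map G₀.subtype ⊔
        Subgroup.centralizer ((D₀.map G₀.subtype : Subgroup G) : Set G)) := by
    apply Cfsg.Agent.Lib.Helper17.le_piCoreOf inf_le_right
    · apply le_normalizer_of_conj_mem
      intro l hl w hw
      exact ⟨conj_mem_of_le_normalizer (Cfsg.Agent.Lib.Helper17.le_normalizer_piCoreOf G₀)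
        (hLG₀ hl) hw.1, Subgroup.mul_mem _ (Subgroup.mul_mem _ hl hw.2) (Subgroup.inv_mem _ hl)⟩
    · intro q hq hdvd
      exact primes_card_piCoreOf _ _ q hq (hdvd.trans (Subgroup.card_dvd_of_le inf_le_left))
  have h2 := hdesc (((nestedEquiv G₀ _ _ hmem hLG₀ y : _) : G)) (nestedEquiv G₀ _ _ hmem hLG₀ y).2
    (hW ⟨mem_piCoreOf_of_mem_piCore _ G₀ hy, (nestedEquiv G₀ _ _ hmem hLG₀ y).2⟩) _ hξ'
  rw [irrCompIso_apply, irrCompIso_apply, map_one] at h2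
  rw [← h2]
  congr 1

/-- Let p be a prime, π a set of primes containing p, M a maximal ideal of the algebraic integers containing p, B a p-block of the finite group G with defect group D, and B₁ the block of N_G(D) with defect group D inducing B. Write O_π'(X) for the largest normal subgroup of X whose order has no prime divisor in π, and suppose every element of O_π'(N_G(D)) lies in the kernel of every member of B₁. Let G₀ be a subgroup and B₀ a block of G₀ with defect group D₀ such that C_G(D₀) ≤ G₀ and B₀ induces B. Then every element of O_π'(G₀) lies in the kernel of every member of B₀. -/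
theorem result {G : Type*} [Group G] [Finite G] (p : ℕ) [Fact p.Prime] (M : Ideal Cfsg.AlgInt) (hM : Cfsg.IsPModular p M) (π : Set ℕ) (hpπ : p ∈ π) (B : Set (Cfsg.IrrCharacter G)) (hB : Cfsg.IsPBlock M B) (D : Subgroup G) (hBD : Cfsg.IsDefectGroup p M B D) (B₁ : Set (Cfsg.IrrCharacter ↥(Subgroup.normalizer (D : Set G)))) (hB₁ : Cfsg.IsInducedBlock M (Subgroup.normalizer (D : Set G)) B₁ B) (hB₁D : Cfsg.IsDefectGroup p M B₁ (D.subgroupOf (Subgroup.normalizer (D : Set G)))) (hker : ∀ n : ↥(Subgroup.normalizer (D : Set G)), n ∈ Cfsg.piCore {q | q ∉ π} ↥(Subgroup.normalizer (D : Set G)) → n ∈ Cfsg.blockKer B₁) (G₀ : Subgroup G) (B₀ : Set (Cfsg.IrrCharacter ↥G₀)) (hB₀ : Cfsg.IsInducedBlock M G₀ B₀ B) (D₀ : Subgroup ↥G₀) (hD₀ : Cfsg.IsDefectGroup p M B₀ D₀) (hC : Subgroup.centralizer ((D₀.map G₀.subtype : Subgroup G) : Set G) ≤ G₀) : ∀ x : ↥G₀, x ∈ Cfsg.piCore {q | q ∉ π} ↥G₀ → x ∈ Cfsg.blockKer B₀ := by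
  exact result' p M hM π hpπ B hB D hBD B₁ hB₁ hB₁D hker G₀ B₀ hB₀ D₀ hD₀ hC

end Cfsg.Agent.S4734
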