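import Cfsg.Statements.S4727
import Mathlib
import Cfsg.Agent.S4734
import Cfsg.Agent.Lib.Lead.SecondMain5

set_option autoImplicit false
open Cfsg

namespace Cfsg.Agent.S4727

open Cfsg.Agent.CharLib Cfsg.Agent.Lib.Helper24 Cfsg.Agent.Lib.Helper6
open scoped ComplexConjugate
universe u

theorem result' {G : Type u} [Group G] [Finite G] (p : ℕ) [Fact p.Prime] (M : Ideal Cfsg.AlgInt) (hM : Cfsg.IsPModular p M) (π : Set ℕ) (hpπ : p ∈ π) (B : Set (Cfsg.IrrCharacter G)) (hB : Cfsg.IsPBlock M B) (D : Subgroup G) (hBD : Cfsg.IsDefectGroup p M B D) (B₁ : Set (Cfsg.IrrCharacter ↥(Subgroup.normalizer (D : Set G)))) (hB₁ : Cfsg.IsInducedBlock M (Subgroup.normalizer (D : Set G)) B₁ B) (hB₁D : Cfsg.IsDefectGroup p M B₁ (D.subgroupOf (Subgroup.normalizer (D : Set G)))) (hker : ∀ n : ↥(Subgroup.normalizer (D : Set G)), n ∈ Cfsg.piCore {q | q ∉ π} ↥(Subgroup.normalizer (D : Set G)) → n ∈ Cfsg.blockKer B₁) (y : G) (hy : ∃ k : ℕ, orderOf y = p ^ k) (hC : ∀ x : ↥(Subgroup.centralizer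 ({y} : Set G)), (∀ q : ℕ, q.Prime → q ∣ orderOf x → q ∉ π) → x ∈ Cfsg.piCore {q | q ∉ π} ↥(Subgroup.centralizer ({y} : Set G))) : ∀ χ ∈ B, ∀ x : G, x ∈ Subgroup.centralizer ({y} : Set G) → (∀ q : ℕ, q.Prime → q ∣ orderOf x → q ∉ π) → (χ : G → ℂ) (y * x) = (χ : G → ℂ) y := by
  classical
  have hprime : M.IsPrime := isPrime_of_isPModular hM
  have hp := Fact.out (p := p.Prime)
  let _ : Fintype G := Fintype.ofFinite G
  let _ : Fintype ↥(Subgroup.centralizer ({y} : Set G)) := Fintype.ofFinite _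
  let _ : Fintype (IrrCharacter ↥(Subgroup.centralizer ({y} : Set G))) := Fintype.ofFinite _
  intro χ hχ x hx hxπ
  have hcl : IsClassFunction G (χ : G → ℂ) :=
    IsCharacter.isClassFunction (IsIrrCharacter.isCharacter χ.2)
  have hcomm : ∀ k : ↥(Subgroup.centralizer ({y} : Set G)), (k : G) * y = y * (k : G) :=
    fun k => Subgroup.mem_centralizer_singleton_iff.mp k.2
  -- the twisted restriction
  set ϑ : ↥(Subgroup.centralizer ({y} : Set G)) → ℂ := fun c => (χ : G → ℂ) (y * (c : G)) with hϑ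
  have hϑcl : IsClassFunction ↥(Subgroup.centralizer ({y} : Set G)) ϑ := by
    intro c k
    simp only [hϑ]
    push_cast
    have e : y * ((k : G) * (c : G) * (k : G)⁻¹) = (k : G) * (y * (c : G)) * (k : G)⁻¹ := by
      calc y * ((k : G) * (c : G) * (k : G)⁻¹) = (y * (k : G)) * (c : G) * (k : G)⁻¹ := by group
        _ = ((k : G) * y) * (c : G) * (k : G)⁻¹ := by rw [hcomm k]
        _ = (k : G) * (y * (c : G)) * (k : G)⁻¹ := by group
    rw [e]
    exact hcl _ _
  -- the element `x` in the centralizer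
  set x' : ↥(Subgroup.centralizer ({y} : Set G)) := ⟨x, hx⟩ with hx'
  have hx'π : ∀ q : ℕ, q.Prime → q ∣ orderOf x' → q ∉ π := by
    intro q hq hdvd
    rw [hx', Subgroup.orderOf_mk] at hdvd
    exact hxπ q hq hdvd
  have hx'K := hC x' hx'π
  have hx'reg : ¬ p ∣ orderOf x' := fun h => hx'π p hp h hpπ
  have h1reg : ¬ p ∣ orderOf (1 : ↥(Subgroup.centralizer ({y} : Set G))) := by
    rw [orderOf_one]
    exact hp.one_lt.ne' ∘ Nat.dvd_one.mp
  -- `y` lies in every defect group of every block of the centralizer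
  have hyC : y ∈ Subgroup.centralizer ({y} : Set G) :=
    Subgroup.mem_centralizer_singleton_iff.mpr rfl
  set Z : Subgroup ↥(Subgroup.centralizer ({y} : Set G)) :=
    Subgroup.zpowers (⟨y, hyC⟩ : ↥(Subgroup.centralizer ({y} : Set G))) with hZ
  have hZn : Z.Normal := by
    constructor
    intro n hn g
    rw [hZ, Subgroup.mem_zpowers_iff] at hn ⊢
    obtain ⟨i, rfl⟩ := hn
    refine ⟨i, ?_⟩
    have hc : Commute g (⟨y, hyC⟩ : ↥(Subgroup.centralizer ({y} : Set G))) := by
      apply Subtype.ext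
      exact hcomm g
    have := (hc.zpow_right i).eq
    rw [this]
    group
  have hZp : IsPGroup p Z := by
    obtain ⟨k, hk⟩ := hy
    apply IsPGroup.of_card (n := k)
    rw [hZ, Nat.card_zpowers, Subgroup.orderOf_mk, hk]
  -- blocks inducing `B` have `x'` in their kernel
  have hkerb : ∀ b' : Set (IrrCharacter ↥(Subgroup.centralizer ({y} : Set G))),
      IsInducedBlock M (Subgroup.centralizer ({y} : Set G)) b' B → x' ∈ blockKer b' := by
    intro b' hb'
    obtain ⟨D₀, hD₀⟩ := Cfsg.Agent.Lib.Helper23.exists_isDefectGroup (p := p) hM b' hb'.1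
    have hZD : Z ≤ D₀ := le_of_isDefectGroup_of_normal hM Z hZp hb'.1 hD₀
    have hyD : y ∈ D₀.map (Subgroup.centralizer ({y} : Set G)).subtype :=
      ⟨⟨y, hyC⟩, hZD (Subgroup.mem_zpowers _), rfl⟩
    have hCC : Subgroup.centralizer ((D₀.map (Subgroup.centralizer ({y} : Set G)).subtype :
        Subgroup G) : Set G) ≤ Subgroup.centralizer ({y} : Set G) := by
      intro g hg
      rw [Subgroup.mem_centralizer_singleton_iff]
      exact ((Subgroup.mem_centralizer_iff.mp hg) y hyD).symm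
    exact Cfsg.Agent.S4734.result' p M hM π hpπ B hB D hBD B₁ hB₁ hB₁D hker _ b' hb' D₀ hD₀ hCC
      x' hx'K
  -- compare block parts
  have hterm : ∀ b' ∈ Finset.univ.image (fun ψ : IrrCharacter ↥(Subgroup.centralizer ({y} : Set G)) =>
      blockOf M (ψ : ↥(Subgroup.centralizer ({y} : Set G)) → ℂ)),
      blockPart b' ϑ x' = blockPart b' ϑ 1 := by
    intro b' hb'
    obtain ⟨ψ₀, -, rfl⟩ := Finset.mem_image.mp hb'
    by_cases hind : IsInducedBlock M (Subgroup.centralizer ({y} : Set G))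
        (blockOf M (ψ₀ : ↥(Subgroup.centralizer ({y} : Set G)) → ℂ)) B
    · rw [blockPart_apply, blockPart_apply]
      apply finsum_mem_congr rfl
      intro ψ hψ
      rw [hkerb _ hind ψ hψ]
    · rw [blockPart_eq_zero_of_not_induced hM y hy B hB χ hχ _ ⟨ψ₀, rfl⟩ hind x' hx'reg,
        blockPart_eq_zero_of_not_induced hM y hy B hB χ hχ _ ⟨ψ₀, rfl⟩ hind 1 h1reg]
  have e1 := apply_eq_sum_blockPart (M := M) hϑcl x'
  have e2 := apply_eq_sum_blockPart (M := M) hϑcl 1
  rw [Finset.sum_congr rfl hterm, ← e2] at e1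
  simp only [hϑ, hx', Subgroup.coe_one, mul_one] at e1
  exact e1

/-- Let p be a prime, π a set of primes containing p, M a maximal ideal of the algebraic integers containing p, and B a p-block of the finite group G with defect group D; let B₁ be the block of N_G(D) with defect group D that induces B (the Brauer correspondent of B). Suppose every element of O_π'(N_G(D)), the largest normal subgroup of N_G(D) whose order has no prime divisor in π, lies in the kernel of every member of B₁. If y is a p-element whose centralizer C has a normal Hall π'-subgroup (every element of C whose order has no prime divisor in π lies in O_π'(C)), then χ(y x) = χ(y) for every χ ∈ B and every x ∈ C whose order has no prime divisor in π. -/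
theorem result {G : Type*} [Group G] [Finite G] (p : ℕ) [Fact p.Prime] (M : Ideal Cfsg.AlgInt) (hM : Cfsg.IsPModular p M) (π : Set ℕ) (hpπ : p ∈ π) (B : Set (Cfsg.IrrCharacter G)) (hB : Cfsg.IsPBlock M B) (D : Subgroup G) (hBD : Cfsg.IsDefectGroup p M B D) (B₁ : Set (Cfsg.IrrCharacter ↥(Subgroup.normalizer (D : Set G)))) (hB₁ : Cfsg.IsInducedBlock M (Subgroup.normalizer (D : Set G)) B₁ B) (hB₁D : Cfsg.IsDefectGroup p M B₁ (D.subgroupOf (Subgroup.normalizer (D : Set G)))) (hker : ∀ n : ↥(Subgroup.normalizer (D : Set G)), n ∈ Cfsg.piCore {q | q ∉ π} ↥(Subgroup.normalizer (D : Set G)) → n ∈ Cfsg.blockKer B₁) (y : G) (hy : ∃ k : ℕ, orderOf y = p ^ k) (hC : ∀ x : ↥(Subgroup.centralizer ({y} : Set G)), (∀ q : ℕ, q.Prime → q ∣ orderOf x → q ∉ π) → x ∈ Cfsg.piCore {q | q ∉ π} ↥(Subgroup.centralizer ({y} : Set G))) : ∀ χ ∈ B, ∀ x : G, x ∈ Subgroup.centralizer ({y} : Set G) → (∀ q : ℕ, q.Prime → q ∣ orderOf x → q ∉ π) → (χ : G → ℂ) (y * x) = (χ : G → ℂ) y := by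
  exact result' p M hM π hpπ B hB D hBD B₁ hB₁ hB₁D hker y hy hC

end Cfsg.Agent.S4727
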