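import Cfsg.Statements.S4729
import Cfsg.Agent.Lib.Lead.SmallFaithA

set_option autoImplicit false
open Cfsg

namespace Cfsg.Agent.S4729

open Cfsg.Agent.Lib.Helper24 Cfsg.Agent.CharLib Cfsg.Agent.Lib.Lead.SmallFaith in
/-- Let p be a prime, M a maximal ideal of the algebraic integers containing p, G a finite perfect group and P a Sylow p-subgroup. If the principal p-block of G contains a faithful irreducible character of degree less than 2p, then the centralizer of P is a p-group. -/
theorem result {G : Type*} [Group G] [Finite G] (p : ℕ) [Fact p.Prime] (M : Ideal Cfsg.AlgInt) (hM : Cfsg.IsPModular p M) (hperf : commutator G = ⊤) (P : Sylow p G) (χ : Cfsg.IrrCharacter G) (hχ : χ ∈ Cfsg.principalBlock M G) (hfaith : ∀ g : G, (χ : G → ℂ) g = (χ : G → ℂ) 1 → g = 1) (hdeg : Cfsg.charDegree (χ : G → ℂ) < 2 * p) : IsPGroup p ↥(Subgroup.centralizer ((P : Subgroup G) : Set G)) := by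
  classical
  have hpp : p.Prime := Fact.out
  have hMp : M.IsPrime := isPrime_of_isPModular hM
  obtain ⟨n, ρ, hirr, hρ⟩ := χ.2
  have hn : (χ : G → ℂ) 1 = n := by
    rw [← hρ, Representation.char_one]
    simp
  have hnpos : 0 < n := by
    have := finrank_pos_of_isIrreducible ρ
    simpa using this
  have hdeg' : n < 2 * p := by
    have : charDegree (χ : G → ℂ) = n := by
      unfold charDegree
      rw [hn]
      simp
    rwa [this] at hdeg
  rw [IsPGroup.iff_card]
  by_contra hnot
  have hex : ∃ r : ℕ, r.Prime ∧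
      r ∣ Nat.card ↥(Subgroup.centralizer ((P : Subgroup G) : Set G)) ∧ r ≠ p := by
    by_contra hno
    push Not at hno
    apply hnot
    exact ⟨_, Nat.eq_prime_pow_of_unique_prime_dvd Nat.card_pos.ne'
      (fun hd hdvd => hno _ hd hdvd)⟩
  obtain ⟨r, hr, hrdvd, hrp⟩ := hex
  haveI : Fact r.Prime := ⟨hr⟩
  obtain ⟨y, hy⟩ := exists_prime_orderOf_dvd_card' r hrdvd
  have hyG : orderOf (y : G) = r := by
    rw [Subgroup.orderOf_coe]
    exact hy
  obtain ⟨ι, hι, b, μ, h1, h2, -, -⟩ := exists_eigenbasis ρ (y : G)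
  rw [hyG] at h1
  have hcardι : Fintype.card ι = n := by
    have := Module.finrank_eq_card_basis b
    rw [← this]
    simp
  have hchar : ∀ k : ℕ, (χ : G → ℂ) ((y : G) ^ k) = ∑ i, μ i ^ k := by
    intro k
    rw [← hρ]
    unfold Representation.character
    rw [map_pow]
    exact trace_eq_sum_of_eigenbasis b ((ρ (y : G)) ^ k) (fun i => μ i ^ k)
      (fun i => pow_apply_of_eigen _ _ _ (h2 i) k)
  have hcong : ∀ k : ℕ, MemLocalIdeal M ((n : ℂ) - ∑ i, μ i ^ k) := by
    intro k
    rw [← hchar k]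
    exact memLocalIdeal_degree_sub_apply hM P χ hχ n hn hnpos.ne' _
      (Subgroup.pow_mem _ y.2 k)
  have hdiv : ∀ j, μ j ≠ 1 → p ∣ (Finset.univ.filter (fun i => μ i = μ j)).card := by
    intro j hj
    have h := dvd_mult_of_congr hM μ r hr.pos h1 n hcong j hj
    rcases (Nat.Prime.dvd_mul hpp).mp h with h | h
    · exact absurd ((Nat.prime_dvd_prime_iff_eq hpp hr).mp h).symm hrp
    · exact h
  rcases eigen_structure μ p (by rw [hcardι]; exact hdeg') hdiv with hall | ⟨ξ, hξ1, hcard, hξ⟩
  · -- all eigenvalues are one: `y = 1`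
    have h3 : (χ : G → ℂ) (y : G) = (χ : G → ℂ) 1 := by
      have := hchar 1
      rw [pow_one] at this
      rw [this, hn]
      simp [hall, hcardι]
    have h4 := hfaith _ h3
    rw [h4, orderOf_one] at hyG
    exact hr.one_lt.ne' hyG.symm
  · -- a single nontrivial eigenvalue of multiplicity `p`: determinant
    have hdet : LinearMap.det (ρ (y : G)) = ξ ^ p := by
      rw [Cfsg.Agent.Lib.Helper19.IP.det_eq_prod_of_eigenbasis b (ρ (y : G)) μ h2]
      exact prod_eq_pow_of_structure μ ξ p hcard hξ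
    rw [det_eq_one_of_perfect hperf ρ (y : G)] at hdet
    have hne : (Finset.univ.filter (fun i => μ i ≠ 1)).Nonempty := by
      rw [← Finset.card_pos, hcard]
      exact hpp.pos
    obtain ⟨j, hj⟩ := hne
    rw [Finset.mem_filter] at hj
    have hξr : ξ ^ r = 1 := by
      rw [← hξ j hj.2]
      exact h1 j
    have hd1 : orderOf ξ ∣ p := orderOf_dvd_of_pow_eq_one hdet.symm
    have hd2 : orderOf ξ ∣ r := orderOf_dvd_of_pow_eq_one hξr
    have hcop : Nat.Coprime p r := (Nat.coprime_primes hpp hr).mpr (Ne.symm hrp)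
    have hd3 : orderOf ξ ∣ 1 := by
      have := Nat.dvd_gcd hd1 hd2
      rwa [hcop.gcd_eq_one] at this
    exact hξ1 (orderOf_eq_one_iff.mp (Nat.dvd_one.mp hd3))

end Cfsg.Agent.S4729
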