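import Cfsg.Statements.S4736
import Mathlib
import Cfsg.Agent.Lib.Helper24.FongPrincipal
import Cfsg.Agent.Lib.Helper24.NormalDegrees
import Cfsg.Agent.Lib.Helper24.IrrFacts
import Cfsg.Agent.Lib.Lead.BlockBasic
import Cfsg.Agent.Lib.Helper6.FirstMain
import Cfsg.Agent.S4713

set_option autoImplicit false
open Cfsg

namespace Cfsg.Agent.S4736

open Cfsg.Agent.CharLib Cfsg.Agent.Lib.Helper24 Cfsg.Agent.Lib.Helper6

universe u

section
variable {G : Type u} [Group G] [Finite G]

theorem blockHeight_principal (p : ℕ) [hp : Fact p.Prime] (M : Ideal AlgInt) [hprime : M.IsPrime]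
    (χ : IrrCharacter G) :
    blockHeight p (principalBlock M G) (χ : G → ℂ) = 0 ↔ ¬ p ∣ charDegree (χ : G → ℂ) := by
  unfold blockHeight
  have h0 : sInf ((fun ψ : IrrCharacter G => (charDegree (ψ : G → ℂ)).factorization p) ''
      principalBlock M G) = 0 := by
    rw [Nat.sInf_eq_zero]
    left
    refine ⟨trivIrr G, mem_blockOf_self (trivIrr G), ?_⟩
    have h1 : charDegree ((trivIrr G : IrrCharacter G) : G → ℂ) = 1 := by
      apply charDegree_eq_of_apply_one
      simp
      rfl
    simp only [h1]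
    simp
  rw [h0, Nat.sub_zero, Nat.factorization_eq_zero_iff]
  have hpos : charDegree (χ : G → ℂ) ≠ 0 := (irr_charDegree_pos χ).ne'
  constructor
  · rintro (h | h | h)
    · exact absurd hp.out h
    · exact h
    · exact absurd h hpos
  · intro h
    exact Or.inr (Or.inl h)

end


theorem result' {G : Type*} [Group G] [Finite G] (p : ℕ) [Fact p.Prime] (M : Ideal Cfsg.AlgInt) (hM : Cfsg.IsPModular p M) (hsolv : Cfsg.IsPSolvable p G) (P : Sylow p G) : IsMulCommutative P ↔ ∀ χ ∈ Cfsg.principalBlock M G, Cfsg.blockHeight p (Cfsg.principalBlock M G) (χ : G → ℂ) = 0 := by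
  classical
  haveI hprime : M.IsPrime := isPrime_of_isPModular hM
  have hp : p.Prime := Fact.out
  haveI hK : (pPrimeCore p G).Normal := pPrimeCore_normal' p
  set K := pPrimeCore p G with hKdef
  have hπ : Function.Surjective (QuotientGroup.mk' K) := QuotientGroup.mk'_surjective K
  have hsolv' : IsPSolvable p (G ⧸ K) :=
    isPSolvable_of_surjective p (QuotientGroup.mk' K) hπ hsolv
  have hO : pPrimeCore p (G ⧸ K) = ⊥ := pPrimeCore_quotient_eq_bot' p
  set Pb : Sylow p (G ⧸ K) := P.mapSurjective hπ with hPb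
  have hmain := Cfsg.Agent.S4713.result p hsolv' Pb
  -- step 3: degrees
  have hdeg : (∀ χ ∈ principalBlock M G, blockHeight p (principalBlock M G) (χ : G → ℂ) = 0) ↔
      ∀ β : IrrCharacter (G ⧸ K), ¬ p ∣ charDegree (β : G ⧸ K → ℂ) := by
    constructor
    · intro h β
      obtain ⟨χ, hχ⟩ := exists_inflation K β
      have hχB : χ ∈ principalBlock M G := by
        rw [mem_principalBlock_iff_of_isPSolvable hM hsolv]
        intro k hk
        have hk1 : ((k : G) : G ⧸ K) = ((1 : G) : G ⧸ K) := by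
          rw [QuotientGroup.mk_one]
          exact (QuotientGroup.eq_one_iff k).mpr hk
        rw [hχ, hχ, hk1]
      have h1 := (blockHeight_principal p M χ).mp (h χ hχB)
      have h2 : charDegree (χ : G → ℂ) = charDegree (β : G ⧸ K → ℂ) := by
        unfold charDegree
        rw [hχ 1, QuotientGroup.mk_one]
      rwa [h2] at h1
    · intro h χ hχB
      rw [blockHeight_principal p M χ]
      have hker := (mem_principalBlock_iff_of_isPSolvable hM hsolv χ).mp hχB
      obtain ⟨β, hβ⟩ := exists_deflation K χ hker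
      have h2 : charDegree (χ : G → ℂ) = charDegree (β : G ⧸ K → ℂ) := by
        unfold charDegree
        rw [← hβ 1, QuotientGroup.mk_one]
      rw [h2]
      exact h β
  rw [hdeg, ← hmain]
  -- step 4: group theory
  have hcopK : (Nat.card K).Coprime p := Cfsg.Agent.Lib.Helper12.pPrimeCore_coprime p
  have hPK : (P : Subgroup G) ⊓ K = ⊥ := by
    apply (Subgroup.disjoint_of_coprime_natCard _).eq_bot
    obtain ⟨n, hn⟩ := P.isPGroup'.exists_card_eq
    rw [hn]
    exact (Nat.Coprime.pow_left n hcopK.symm)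
  have hPbmem : ∀ y : G ⧸ K, y ∈ Pb ↔ ∃ x ∈ (P : Subgroup G), (x : G ⧸ K) = y := by
    intro y
    change y ∈ (P : Subgroup G).map (QuotientGroup.mk' K) ↔ _
    rw [Subgroup.mem_map]
    rfl
  constructor
  · intro hab
    have hPbab : IsMulCommutative Pb := by
      refine ⟨⟨fun a b => ?_⟩⟩
      obtain ⟨x, hx, hxa⟩ := (hPbmem a.1).mp a.2
      obtain ⟨y, hy, hyb⟩ := (hPbmem b.1).mp b.2
      apply Subtype.ext
      change (a : G ⧸ K) * b = b * a
      rw [← hxa, ← hyb, ← QuotientGroup.mk_mul, ← QuotientGroup.mk_mul]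
      have := hab.is_comm.comm (⟨x, hx⟩ : ↥(P : Subgroup G)) ⟨y, hy⟩
      have h2 : x * y = y * x := congrArg Subtype.val this
      rw [h2]
    refine ⟨?_, hPbab⟩
    -- normality: Pb = O_p
    haveI hOpn : (pCore p (G ⧸ K)).Normal := pCore_normal' p
    have hOp : IsPGroup p (pCore p (G ⧸ K)) := Cfsg.Agent.Lib.Helper12.pCore_isPGroup' p
    have h1 : pCore p (G ⧸ K) ≤ Pb := normal_pgroup_le_sylow (pCore p (G ⧸ K)) hOp Pb
    have h2 : (Pb : Subgroup (G ⧸ K)) ≤ Subgroup.centralizer ((pCore p (G ⧸ K) : Subgroup (G ⧸ K)) : Set (G ⧸ K)) := by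
      intro a ha
      rw [Subgroup.mem_centralizer_iff]
      intro b hb
      have := hPbab.is_comm.comm (⟨b, h1 hb⟩ : ↥(Pb : Subgroup (G ⧸ K))) ⟨a, ha⟩
      exact congrArg Subtype.val this
    have h3 := Cfsg.Agent.Lib.Helper12.centralizer_pCore_le_pCore p hsolv' hO
    have h4 : (Pb : Subgroup (G ⧸ K)) = pCore p (G ⧸ K) := le_antisymm (h2.trans h3) h1
    rw [h4]
    exact hOpn
  · rintro ⟨_, hab⟩
    refine ⟨⟨fun a b => ?_⟩⟩
    apply Subtype.ext
    change (a : G) * b = b * a
    have ha' : ((a : G) : G ⧸ K) ∈ Pb := (hPbmem _).mpr ⟨a, a.2, rfl⟩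
    have hb' : ((b : G) : G ⧸ K) ∈ Pb := (hPbmem _).mpr ⟨b, b.2, rfl⟩
    have := hab.is_comm.comm (⟨_, ha'⟩ : ↥(Pb : Subgroup (G ⧸ K))) ⟨_, hb'⟩
    have h2 : ((a : G) : G ⧸ K) * ((b : G) : G ⧸ K) = ((b : G) : G ⧸ K) * ((a : G) : G ⧸ K) :=
      congrArg Subtype.val this
    rw [← QuotientGroup.mk_mul, ← QuotientGroup.mk_mul, QuotientGroup.eq] at h2
    have h3 : ((a : G) * b)⁻¹ * ((b : G) * a) ∈ (P : Subgroup G) ⊓ K :=
      ⟨(P : Subgroup G).mul_mem ((P : Subgroup G).inv_mem ((P : Subgroup G).mul_mem a.2 b.2))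
        ((P : Subgroup G).mul_mem b.2 a.2), h2⟩
    rw [hPK, Subgroup.mem_bot] at h3
    exact inv_mul_eq_one.mp h3

/-- Let p be a prime, M a maximal ideal of the algebraic integers containing p, and G a finite p-solvable group with Sylow p-subgroup P. Then P is abelian if and only if every irreducible character in the principal p-block of G has height zero. -/
theorem result {G : Type*} [Group G] [Finite G] (p : ℕ) [Fact p.Prime] (M : Ideal Cfsg.AlgInt) (hM : Cfsg.IsPModular p M) (hsolv : Cfsg.IsPSolvable p G) (P : Sylow p G) : IsMulCommutative P ↔ ∀ χ ∈ Cfsg.principalBlock M G, Cfsg.blockHeight p (Cfsg.principalBlock M G) (χ : G → ℂ) = 0 := by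
  exact result' p M hM hsolv P

end Cfsg.Agent.S4736
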