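import Cfsg.Statements.S4742
import Cfsg.Agent.Lib.Helper24.ClassCount

set_option autoImplicit false
open Cfsg

namespace Cfsg.Agent.S4742

open Cfsg.Agent.Lib.Helper24 Cfsg

/-- If no irreducible character has `p`-defect zero and no product `g h⁻¹` of conjugates of `z` is a nonidentity
`p`-element, then `p` divides `|C_G(z)|`. -/
theorem prime_dvd_card_centralizer_of_no_defect_zero {G : Type*} [Group G] [Finite G] (p : ℕ) [Fact p.Prime]
    (hpG : p ∣ Nat.card G)
    (h1 : ∀ χ : IrrCharacter G, (charDegree (χ : G → ℂ)).factorization p ≠ (Nat.card G).factorization p)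
    (z : G) (h2 : ∀ g h : G, IsConj z g → IsConj z h → g * h⁻¹ ≠ 1 → ∀ k : ℕ, orderOf (g * h⁻¹) ≠ p ^ k) :
    p ∣ Nat.card (Subgroup.centralizer ({z} : Set G)) := by
  have hp : p.Prime := Fact.out
  obtain ⟨P⟩ : Nonempty (Sylow p G) := inferInstance
  set c := (Nat.card G).factorization p with hc
  have hP : Nat.card (P : Subgroup G) = p ^ c := Sylow.card_eq_multiplicity P
  have hGpos : Nat.card G ≠ 0 := Nat.card_pos.ne'
  have hc1 : 1 ≤ c := by
    have h0 : p ^ 1 ∣ Nat.card G := by rw [pow_one]; exact hpG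
    exact (hp.pow_dvd_iff_le_factorization hGpos).mp h0
  have hdeg : ∀ χ : IrrCharacter G, ¬ p ^ c ∣ charDegree (χ : G → ℂ) := by
    intro χ hdvd
    apply h1 χ
    have hdpos := (irr_charDegree_pos χ).ne'
    have hle1 := (hp.pow_dvd_iff_le_factorization hdpos).mp hdvd
    have hle2 : (charDegree (χ : G → ℂ)).factorization p ≤ (Nat.card G).factorization p :=
      (Nat.factorization_le_iff_dvd hdpos hGpos).mpr (irr_charDegree_dvd_card χ) p
    omega
  have hno : ∀ a b : G, ∀ w ∈ (P : Subgroup G), w ≠ 1 → a * z * a⁻¹ * (b * z⁻¹ * b⁻¹) * w⁻¹ ≠ 1 := by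
    intro a b w hw hw1 heq
    have hweq : w = a * z * a⁻¹ * (b * z * b⁻¹)⁻¹ := by
      have := mul_inv_eq_one.mp heq
      rw [← this]
      group
    obtain ⟨k, hk⟩ := (IsPGroup.iff_orderOf.mp P.isPGroup') ⟨w, hw⟩
    have hk' : orderOf w = p ^ k := by
      rw [← hk]
      exact (Subgroup.orderOf_mk w hw).symm
    apply h2 (a * z * a⁻¹) (b * z * b⁻¹) (isConj_iff.mpr ⟨a, rfl⟩) (isConj_iff.mpr ⟨b, rfl⟩) _ k
    · rw [← hweq]; exact hk'
    · rw [← hweq]; exact hw1
  have := pow_dvd_card_centralizer p z (P : Subgroup G) c c hP hc1 le_rfl hno hdeg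
  simpa using this

/-- Let p ≠ q be primes dividing the order of the finite group G, and suppose the centralizer of every non-identity p-element of G has order prime to q. Then either G has an irreducible character of p-defect zero, or for every non-identity q-element z of G there are conjugates g, h of z such that g h⁻¹ is a non-identity p-element. -/
theorem result {G : Type*} [Group G] [Finite G] (p q : ℕ) [Fact p.Prime] [Fact q.Prime] (hppq : p ≠ q) (hpG : p ∣ Nat.card G) (hqG : q ∣ Nat.card G) (hC : ∀ g : G, g ≠ 1 → (∃ k : ℕ, orderOf g = p ^ k) → ¬ q ∣ Nat.card ↥(Subgroup.centralizer ({g} : Set G))) : (∃ χ : Cfsg.IrrCharacter G, (Cfsg.charDegree (χ : G → ℂ)).factorization p = (Nat.card G).factorization p) ∨ ∀ z : G, z ≠ 1 → (∃ k : ℕ, orderOf z = q ^ k) → ∃ g h : G, IsConj z g ∧ IsConj z h ∧ g * h⁻¹ ≠ 1 ∧ ∃ k : ℕ, orderOf (g * h⁻¹) = p ^ k := by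
  by_contra hcon
  rw [not_or] at hcon
  obtain ⟨h1, h2⟩ := hcon
  have h1' : ∀ χ : Cfsg.IrrCharacter G,
      (Cfsg.charDegree (χ : G → ℂ)).factorization p ≠ (Nat.card G).factorization p := by
    intro χ hχ
    exact h1 ⟨χ, hχ⟩
  have h2' : ∃ z : G, z ≠ 1 ∧ (∃ k : ℕ, orderOf z = q ^ k) ∧
      ∀ g h : G, IsConj z g → IsConj z h → g * h⁻¹ ≠ 1 → ∀ k : ℕ, orderOf (g * h⁻¹) ≠ p ^ k := by
    by_contra hne
    apply h2
    intro z hz1 hzq
    by_contra hne2
    apply hne
    refine ⟨z, hz1, hzq, ?_⟩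
    intro g h hg hh hgh k hk
    exact hne2 ⟨g, h, hg, hh, hgh, k, hk⟩
  obtain ⟨z, hz1, ⟨kz, hkz⟩, hz⟩ := h2'
  have hp : p.Prime := Fact.out
  have hq : q.Prime := Fact.out
  have hdvd := prime_dvd_card_centralizer_of_no_defect_zero p hpG h1' z hz
  -- an element of order p in the centralizer of z
  obtain ⟨u, hu⟩ := exists_prime_orderOf_dvd_card' (G := Subgroup.centralizer ({z} : Set G)) p hdvd
  have hu' : orderOf (u : G) = p := by rw [Subgroup.orderOf_coe]; exact hu
  have hu1 : (u : G) ≠ 1 := by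
    intro h
    rw [h, orderOf_one] at hu'
    exact hp.one_lt.ne hu'
  have hzmem : z ∈ Subgroup.centralizer ({(u : G)} : Set G) := by
    rw [Subgroup.mem_centralizer_iff]
    intro y hy
    rw [Set.mem_singleton_iff] at hy
    subst hy
    have := u.2
    rw [Subgroup.mem_centralizer_iff] at this
    exact (this z (Set.mem_singleton z)).symm
  apply hC (u : G) hu1 ⟨1, by rw [hu', pow_one]⟩
  have hkz1 : kz ≠ 0 := by
    intro h0
    rw [h0, pow_zero, orderOf_eq_one_iff] at hkz
    exact hz1 hkz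
  have h3 : q ∣ orderOf z := by
    rw [hkz]
    exact dvd_pow_self q hkz1
  have h4 : orderOf z ∣ Nat.card (Subgroup.centralizer ({(u : G)} : Set G)) := by
    have := orderOf_dvd_natCard (⟨z, hzmem⟩ : Subgroup.centralizer ({(u : G)} : Set G))
    rwa [Subgroup.orderOf_mk] at this
  exact h3.trans h4

end Cfsg.Agent.S4742
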