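import Cfsg.Statements.S4744
import Cfsg.Agent.Lib.Helper24.InvolutionSylow
import Cfsg.Agent.S4742

set_option autoImplicit false
open Cfsg

namespace Cfsg.Agent.S4744

open Cfsg.Agent.Lib.Helper24 Cfsg

/-- Under the hypotheses of the statement without a character of `p`-defect zero, some involution normalizes
some Sylow `p`-subgroup. -/
theorem exists_involution_normalizing_sylow {G : Type*} [Group G] [Finite G] (p : ℕ) [Fact p.Prime]
    (hpG : p ∣ Nat.card G) (h2G : 2 ∣ Nat.card G)
    (hC : ∀ g : G, g ≠ 1 → (∃ k : ℕ, orderOf g = p ^ k) → Odd (Nat.card ↥(Subgroup.centralizer ({g} : Set G))))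
    (h1 : ∀ χ : IrrCharacter G, (charDegree (χ : G → ℂ)).factorization p ≠ (Nat.card G).factorization p) :
    ∃ (g : G) (S : Subgroup G), orderOf g = 2 ∧ Nat.card S = p ^ (Nat.card G).factorization p ∧
      ∀ s ∈ S, g * s * g⁻¹ ∈ S := by
  have hp : p.Prime := Fact.out
  obtain ⟨z, hz⟩ := exists_prime_orderOf_dvd_card' 2 h2G
  have hex : ∃ g h : G, IsConj z g ∧ IsConj z h ∧ g * h⁻¹ ≠ 1 ∧ ∃ k : ℕ, orderOf (g * h⁻¹) = p ^ k := by
    by_contra hne
    have h2 : ∀ g h : G, IsConj z g → IsConj z h → g * h⁻¹ ≠ 1 → ∀ k : ℕ, orderOf (g * h⁻¹) ≠ p ^ k := by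
      intro g h hg hh hgh k hk
      exact hne ⟨g, h, hg, hh, hgh, k, hk⟩
    have hdvd := Cfsg.Agent.S4742.prime_dvd_card_centralizer_of_no_defect_zero p hpG h1 z h2
    obtain ⟨u, hu⟩ := exists_prime_orderOf_dvd_card' (G := Subgroup.centralizer ({z} : Set G)) p hdvd
    have hu' : orderOf (u : G) = p := by rw [Subgroup.orderOf_coe]; exact hu
    have hu1 : (u : G) ≠ 1 := by
      intro h
      rw [h, orderOf_one] at hu'
      exact hp.one_lt.ne hu'
    have hzmem : z ∈ Subgroup.centralizer ({(u : G)} : Set G) := by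
      rw [Subgroup.mem_centralizer_iff]
      intro y hy
      rw [Set.mem_singleton_iff] at hy
      subst hy
      have := u.2
      rw [Subgroup.mem_centralizer_iff] at this
      exact (this z (Set.mem_singleton z)).symm
    have hodd := hC (u : G) hu1 ⟨1, by rw [hu', pow_one]⟩
    have h4 : orderOf z ∣ Nat.card (Subgroup.centralizer ({(u : G)} : Set G)) := by
      have := orderOf_dvd_natCard (⟨z, hzmem⟩ : Subgroup.centralizer ({(u : G)} : Set G))
      rwa [Subgroup.orderOf_mk] at this
    rw [hz] at h4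
    rcases hodd with ⟨k, hk⟩
    omega
  obtain ⟨g, h, hg, hh, hw1, k, hk⟩ := hex
  have hgo : orderOf g = 2 := by
    obtain ⟨c, hc⟩ := isConj_iff.mp hg
    have hs : SemiconjBy c z g := by
      show c * z = g * c
      rw [← hc]
      group
    rw [← hs.orderOf_eq, hz]
  have hho : orderOf h = 2 := by
    obtain ⟨c, hc⟩ := isConj_iff.mp hh
    have hs : SemiconjBy c z h := by
      show c * z = h * c
      rw [← hc]
      group
    rw [← hs.orderOf_eq, hz]
  have hg2 : g * g = 1 := by
    have := pow_orderOf_eq_one g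
    rwa [hgo, pow_two] at this
  have hh2 : h * h = 1 := by
    have := pow_orderOf_eq_one h
    rwa [hho, pow_two] at this
  have hginv : g⁻¹ = g := inv_eq_of_mul_eq_one_left hg2
  have hhinv : h⁻¹ = h := inv_eq_of_mul_eq_one_left hh2
  rw [hhinv] at hw1 hk
  have hinvw : g * (g * h) * g⁻¹ = (g * h)⁻¹ := by
    rw [mul_inv_rev, hginv, hhinv, ← mul_assoc, hg2, one_mul]
  have hk1 : 1 ≤ k := by
    by_contra hk0
    have : k = 0 := by omega
    rw [this, pow_zero, orderOf_eq_one_iff] at hk
    exact hw1 hk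
  have hWcard : Nat.card (Subgroup.zpowers (g * h)) = p ^ k := by
    rw [Nat.card_zpowers, hk]
  have hWg : ∀ u ∈ Subgroup.zpowers (g * h), g * u * g⁻¹ ∈ Subgroup.zpowers (g * h) := by
    intro u hu
    obtain ⟨i, rfl⟩ := Subgroup.mem_zpowers_iff.mp hu
    have : g * (g * h) ^ i * g⁻¹ = ((g * h)⁻¹) ^ i := by
      rw [← hinvw]
      exact (conj_zpow).symm
    rw [this, inv_zpow]
    exact Subgroup.inv_mem _ (Subgroup.zpow_mem_zpowers _ i)
  obtain ⟨S, hScard, hSg⟩ := exists_invariant_full p hC g hgo _ k hWcard hk1 hWg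
  exact ⟨g, S, hgo, hScard, hSg⟩

/-- Let p be an odd prime and G a finite group of even order divisible by p in which the centralizer of every non-identity p-element has odd order. Then either G has an irreducible character of p-defect zero, or the normalizer of every Sylow p-subgroup P of G has even order and P is abelian. -/
theorem result {G : Type*} [Group G] [Finite G] (p : ℕ) [Fact p.Prime] (hp2 : p ≠ 2) (hpG : p ∣ Nat.card G) (h2G : 2 ∣ Nat.card G) (hC : ∀ g : G, g ≠ 1 → (∃ k : ℕ, orderOf g = p ^ k) → Odd (Nat.card ↥(Subgroup.centralizer ({g} : Set G)))) : (∃ χ : Cfsg.IrrCharacter G, (Cfsg.charDegree (χ : G → ℂ)).factorization p = (Nat.card G).factorization p) ∨ ∀ P : Sylow p G, Even (Nat.card ↥(Subgroup.normalizer ((P : Subgroup G) : Set G))) ∧ IsMulCommutative ↥(P : Subgroup G) := by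
  by_cases hdz : ∃ χ : Cfsg.IrrCharacter G,
      (Cfsg.charDegree (χ : G → ℂ)).factorization p = (Nat.card G).factorization p
  · left; exact hdz
  · right
    have h1' : ∀ χ : Cfsg.IrrCharacter G,
        (Cfsg.charDegree (χ : G → ℂ)).factorization p ≠ (Nat.card G).factorization p :=
      fun χ h => hdz ⟨χ, h⟩
    obtain ⟨g, S, hgo, hScard, hSg⟩ := exists_involution_normalizing_sylow p hpG h2G hC h1'
    intro P
    obtain ⟨y, hy⟩ := MulAction.exists_smul_eq G (Sylow.ofCard S hScard) P
    have hg2 : g * g = 1 := by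
      have := pow_orderOf_eq_one g
      rwa [hgo, pow_two] at this
    -- the conjugate involution
    have hgo' : orderOf (y * g * y⁻¹) = 2 := by
      have hs : SemiconjBy y g (y * g * y⁻¹) := by
        show y * g = y * g * y⁻¹ * y
        group
      rw [← hs.orderOf_eq, hgo]
    have hmemP : ∀ x : G, x ∈ (P : Subgroup G) ↔ y⁻¹ * x * y ∈ S := by
      intro x
      rw [← hy, Sylow.coe_subgroup_smul, Subgroup.mem_pointwise_smul_iff_inv_smul_mem]
      simp only [MulAut.smul_def, MulAut.conj_inv_apply, Sylow.coe_ofCard]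
    have hPg : ∀ x ∈ (P : Subgroup G), (y * g * y⁻¹) * x * (y * g * y⁻¹)⁻¹ ∈ (P : Subgroup G) := by
      intro x hx
      rw [hmemP] at hx ⊢
      have := hSg _ hx
      have heq : y⁻¹ * (y * g * y⁻¹ * x * (y * g * y⁻¹)⁻¹) * y = g * (y⁻¹ * x * y) * g⁻¹ := by group
      rw [heq]
      exact this
    have hPp : IsPGroup p (P : Subgroup G) := P.isPGroup'
    obtain ⟨-, hcomm⟩ := inverts_of_invariant p hC (y * g * y⁻¹) hgo' (P : Subgroup G) hPp hPg
    constructor
    · have hg'2 : (y * g * y⁻¹) * (y * g * y⁻¹) = 1 := by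
        calc (y * g * y⁻¹) * (y * g * y⁻¹) = y * (g * g) * y⁻¹ := by group
          _ = 1 := by rw [hg2]; group
      have hg'inv : (y * g * y⁻¹)⁻¹ = y * g * y⁻¹ := inv_eq_of_mul_eq_one_left hg'2
      have hmem : y * g * y⁻¹ ∈ Subgroup.normalizer ((P : Subgroup G) : Set G) := by
        rw [Subgroup.mem_normalizer_iff]
        intro x
        constructor
        · intro hx
          exact hPg x hx
        · intro hx
          have := hPg _ hx
          rw [hg'inv] at this
          have heq : y * g * y⁻¹ * (y * g * y⁻¹ * x * (y * g * y⁻¹)) * (y * g * y⁻¹) =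
              ((y * g * y⁻¹) * (y * g * y⁻¹)) * x * ((y * g * y⁻¹) * (y * g * y⁻¹)) := by group
          rw [heq, hg'2, one_mul, mul_one] at this
          exact this
      have h2 : orderOf (y * g * y⁻¹) ∣ Nat.card (Subgroup.normalizer ((P : Subgroup G) : Set G)) := by
        have := orderOf_dvd_natCard (⟨_, hmem⟩ : Subgroup.normalizer ((P : Subgroup G) : Set G))
        rwa [Subgroup.orderOf_mk] at this
      rw [hgo'] at h2
      exact even_iff_two_dvd.mpr h2
    · exact ⟨⟨fun a b => Subtype.ext (hcomm a b a.2 b.2)⟩⟩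

end Cfsg.Agent.S4744
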