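import Cfsg.Statements.S4738
import Cfsg.Agent.S4744
import Cfsg.Agent.Lib.Lead.BlockBasic
import Cfsg.Agent.Lib.Lead.InvolFusionA

set_option autoImplicit false
open Cfsg

namespace Cfsg.Agent.S4738

open Cfsg.Agent.Lib.Lead.InvolFusion Cfsg.Agent.Lib.Helper24 in
/-- Let p be an odd prime and G a finite group of even order containing no element of order 2p. Then either G has an irreducible character of p-defect zero (its degree has the same p-part as the order of G), or every Sylow p-subgroup of G is abelian and all involutions of G are conjugate. -/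
theorem result {G : Type*} [Group G] [Finite G] (p : ℕ) [Fact p.Prime] (hp2 : p ≠ 2) (hG : Even (Nat.card G)) (h2p : ∀ g : G, orderOf g ≠ 2 * p) : (∃ χ : Cfsg.IrrCharacter G, (Cfsg.charDegree (χ : G → ℂ)).factorization p = (Nat.card G).factorization p) ∨ ((∀ P : Sylow p G, IsMulCommutative ↥(P : Subgroup G)) ∧ ∀ s t : G, orderOf s = 2 → orderOf t = 2 → IsConj s t) := by
  have hpp : p.Prime := Fact.out
  by_cases hdef : ∃ χ : Cfsg.IrrCharacter G,
      (Cfsg.charDegree (χ : G → ℂ)).factorization p = (Nat.card G).factorization p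
  · left; exact hdef
  right
  have h1 : ∀ χ : Cfsg.IrrCharacter G,
      (Cfsg.charDegree (χ : G → ℂ)).factorization p ≠ (Nat.card G).factorization p :=
    fun χ hχ => hdef ⟨χ, hχ⟩
  -- `p` divides the order of `G`
  have hpG : p ∣ Nat.card G := by
    by_contra hnd
    apply h1 (Cfsg.Agent.CharLib.trivIrr G)
    have hd := irr_charDegree_dvd_card (Cfsg.Agent.CharLib.trivIrr G)
    rw [Nat.factorization_eq_zero_of_not_dvd hnd,
      Nat.factorization_eq_zero_of_not_dvd (fun h => hnd (dvd_trans h hd))]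
  have h2G : 2 ∣ Nat.card G := even_iff_two_dvd.mp hG
  have hpodd : Odd p := hpp.odd_of_ne_two hp2
  have h2 : Fact (Nat.Prime 2) := ⟨Nat.prime_two⟩
  -- an element commuting with an involution has order prime to `p`
  have hnocomm : ∀ s x : G, orderOf s = 2 → orderOf x = p → s * x = x * s → False := by
    intro s x hs hx hcomm
    have hcop : Nat.Coprime (orderOf s) (orderOf x) := by
      rw [hs, hx]
      exact (Nat.coprime_primes Nat.prime_two hpp).mpr (Ne.symm hp2)
    have := Commute.orderOf_mul_eq_mul_orderOf_of_coprime (show Commute s x from hcomm) hcop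
    rw [hs, hx] at this
    exact h2p _ this
  -- centralizers of nontrivial `p`-elements have odd order
  have hC : ∀ g : G, g ≠ 1 → (∃ k : ℕ, orderOf g = p ^ k) →
      Odd (Nat.card ↥(Subgroup.centralizer ({g} : Set G))) := by
    intro g hg1 ⟨k, hk⟩
    rw [← Nat.not_even_iff_odd]
    intro heven
    obtain ⟨t, ht⟩ := exists_prime_orderOf_dvd_card'
      (G := ↥(Subgroup.centralizer ({g} : Set G))) 2 (even_iff_two_dvd.mp heven)
    have htG : orderOf (t : G) = 2 := by rw [Subgroup.orderOf_coe]; exact ht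
    have hk0 : k ≠ 0 := by
      intro h0
      rw [h0, pow_zero, orderOf_eq_one_iff] at hk
      exact hg1 hk
    obtain ⟨k', rfl⟩ := Nat.exists_eq_succ_of_ne_zero hk0
    have hx : orderOf (g ^ p ^ k') = p := by
      rw [orderOf_pow, hk, Nat.gcd_eq_right (pow_dvd_pow p (Nat.le_succ k')), pow_succ,
        Nat.mul_div_cancel_left _ (pow_pos hpp.pos k')]
    have htg : (t : G) * g = g * (t : G) := by
      have := t.2
      rw [Subgroup.mem_centralizer_iff] at this
      exact (this g (Set.mem_singleton g)).symm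
    have hcomm : (t : G) * g ^ p ^ k' = g ^ p ^ k' * (t : G) :=
      (Commute.pow_right (show Commute (t : G) g from htg) _).eq
    exact hnocomm _ _ htG hx hcomm
  rcases Cfsg.Agent.S4744.result p hp2 hpG h2G hC with h | h
  · exact absurd h hdef
  refine ⟨fun P => (h P).2, ?_⟩
  -- a fixed Sylow `p`-subgroup and an element of order `p` in it
  let P : Sylow p G := default
  have hcommP := (h P).2
  obtain ⟨x0, hx0⟩ := exists_prime_orderOf_dvd_card' (G := ↥(P : Subgroup G)) p
    (P.dvd_card_of_dvd_card hpG)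
  have hx0G : orderOf (x0 : G) = p := by rw [Subgroup.orderOf_coe]; exact hx0
  have hx01 : (x0 : G) ≠ 1 := by
    intro h1'
    rw [h1', orderOf_one] at hx0G
    exact hpp.one_lt.ne hx0G
  -- every involution is conjugate to an involution of `N_G(P)`
  have key : ∀ s : G, orderOf s = 2 → ∃ s' : G, orderOf s' = 2 ∧
      s' ∈ Subgroup.normalizer ((P : Subgroup G) : Set G) ∧ IsConj s s' := by
    intro s hs
    have hnd : ¬ p ∣ Nat.card ↥(Subgroup.centralizer ({s} : Set G)) := by
      intro hdvd
      obtain ⟨u, hu⟩ := exists_prime_orderOf_dvd_card'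
        (G := ↥(Subgroup.centralizer ({s} : Set G))) p hdvd
      have huG : orderOf (u : G) = p := by rw [Subgroup.orderOf_coe]; exact hu
      have hsu : s * (u : G) = (u : G) * s := by
        have := u.2
        rw [Subgroup.mem_centralizer_iff] at this
        exact this s (Set.mem_singleton s)
      exact hnocomm s _ hs huG hsu
    have hex : ∃ g h : G, IsConj s g ∧ IsConj s h ∧ g * h⁻¹ ≠ 1 ∧
        ∃ k : ℕ, orderOf (g * h⁻¹) = p ^ k := by
      by_contra hne
      apply hnd
      apply Cfsg.Agent.S4742.prime_dvd_card_centralizer_of_no_defect_zero p hpG h1 s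
      intro g h' hg hh hgh k hk
      exact hne ⟨g, h', hg, hh, hgh, k, hk⟩
    obtain ⟨g, h', hg, hh, hgh1, k, hk⟩ := hex
    -- `g` and `h'` are involutions, `g` inverts `w0 = g * h'⁻¹`
    have hgo : orderOf g = 2 := by
      obtain ⟨a, ha⟩ := isConj_iff.mp hg
      rw [← ha, orderOf_conj_eq, hs]
    have hho : orderOf h' = 2 := by
      obtain ⟨a, ha⟩ := isConj_iff.mp hh
      rw [← ha, orderOf_conj_eq, hs]
    have hg2 := mul_self_of_orderOf_two hgo
    have hh2 := mul_self_of_orderOf_two hho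
    have hginv := inv_eq_self_of_mul_self hg2
    have hhinv := inv_eq_self_of_mul_self hh2
    set w0 : G := g * h'⁻¹ with hw0
    have hgw0 : g * w0 * g⁻¹ = w0⁻¹ := by
      rw [hw0, hhinv, hginv, mul_inv_rev, hginv, hhinv]
      calc g * (g * h') * g = (g * g) * h' * g := by group
        _ = h' * g := by rw [hg2, one_mul]
    -- conjugate `w0` into `P`
    have hw0p : IsPGroup p ↥(Subgroup.zpowers w0) := by
      apply IsPGroup.of_card (n := k)
      rw [Nat.card_zpowers, hk]
    obtain ⟨b, -, hb⟩ := Cfsg.Agent.Lib.Helper12.exists_conj_mem_sylow P ⊤ (Subgroup.zpowers w0)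
      le_top le_top hw0p
    have hw1P : b * w0 * b⁻¹ ∈ (P : Subgroup G) := hb w0 (Subgroup.mem_zpowers w0)
    have hw11 : b * w0 * b⁻¹ ≠ 1 := by
      intro h0
      apply hgh1
      have : w0 = b⁻¹ * (b * w0 * b⁻¹) * b := by group
      rw [this, h0]
      group
    have hg1o : orderOf (b * g * b⁻¹) = 2 := by rw [orderOf_conj_eq, hgo]
    have hg1w : (b * g * b⁻¹) * (b * w0 * b⁻¹) * (b * g * b⁻¹)⁻¹ = (b * w0 * b⁻¹)⁻¹ := by
      calc (b * g * b⁻¹) * (b * w0 * b⁻¹) * (b * g * b⁻¹)⁻¹ = b * (g * w0 * g⁻¹) * b⁻¹ := by group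
        _ = b * w0⁻¹ * b⁻¹ := by rw [hgw0]
        _ = (b * w0 * b⁻¹)⁻¹ := by group
    obtain ⟨s', hs'o, hs'N, hs'c⟩ := exists_isConj_mem_normalizer hC P hcommP (b * w0 * b⁻¹)
      hw1P hw11 (b * g * b⁻¹) hg1o hg1w
    refine ⟨s', hs'o, hs'N, ?_⟩
    have hc1 : IsConj g (b * g * b⁻¹) := isConj_iff.mpr ⟨b, rfl⟩
    exact (hg.trans hc1).trans hs'c
  intro s t hs ht
  obtain ⟨s', hs'o, hs'N, hs'c⟩ := key s hs
  obtain ⟨t', ht'o, ht'N, ht'c⟩ := key t ht
  have hst := isConj_of_mem_normalizer hC P hcommP (x0 : G) x0.2 hx01 s' t' hs'o ht'o hs'N ht'N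
  exact (hs'c.trans hst).trans ht'c.symm

end Cfsg.Agent.S4738
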