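import Cfsg.Statements.S4740
import Cfsg.Agent.Lib.Helper24.IrrFacts
import Cfsg.Agent.Lib.Helper24.IntLemmas

set_option autoImplicit false
open Cfsg

namespace Cfsg.Agent.S4740

open Cfsg.Agent.Lib.Helper24 Cfsg

/-- no product of two conjugates of the involution `x` is a nonidentity element of `P` -/
theorem prod_conj_ne {G : Type*} [Group G] (x : G) (hx : orderOf x = 2) (P : Subgroup G)
    (hinv : ∀ g : G, IsConj x g → ∀ z ∈ P, z ≠ 1 → g * z * g⁻¹ ≠ z⁻¹) (z : G) (hz : z ∈ P) (hz1 : z ≠ 1)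
    (a b : G) : a * x * a⁻¹ * (b * x * b⁻¹) * z⁻¹ ≠ 1 := by
  intro h
  have hx2 : x * x = 1 := by
    have := pow_orderOf_eq_one x
    rw [hx, pow_two] at this
    exact this
  have hzeq : z = a * x * a⁻¹ * (b * x * b⁻¹) := by
    have := mul_inv_eq_one.mp h
    exact this.symm
  have hu2 : (a * x * a⁻¹) * (a * x * a⁻¹) = 1 := by
    calc (a * x * a⁻¹) * (a * x * a⁻¹) = a * (x * x) * a⁻¹ := by group
      _ = 1 := by rw [hx2]; group
  have hv2 : (b * x * b⁻¹) * (b * x * b⁻¹) = 1 := by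
    calc (b * x * b⁻¹) * (b * x * b⁻¹) = b * (x * x) * b⁻¹ := by group
      _ = 1 := by rw [hx2]; group
  have huinv : (a * x * a⁻¹)⁻¹ = a * x * a⁻¹ := inv_eq_of_mul_eq_one_left hu2
  have hvinv : (b * x * b⁻¹)⁻¹ = b * x * b⁻¹ := inv_eq_of_mul_eq_one_left hv2
  apply hinv (a * x * a⁻¹) (isConj_iff.mpr ⟨a, rfl⟩) z hz hz1
  rw [hzeq]
  generalize a * x * a⁻¹ = u at *
  generalize b * x * b⁻¹ = v at *
  rw [mul_inv_rev, huinv, hvinv, ← mul_assoc, hu2, one_mul]

open Classical in
/-- counting pairs of conjugates of an involution with trivial product -/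
theorem sum_pairs_one {G : Type*} [Group G] [Fintype G] (x : G) (hx : orderOf x = 2) (r : ℂ) :
    ∑ a : G, ∑ b : G, (if a * x * a⁻¹ * (b * x * b⁻¹) * (1 : G)⁻¹ = 1 then r else 0) =
      (Fintype.card G : ℂ) * (Nat.card (Subgroup.centralizer ({x} : Set G)) : ℂ) * r := by
  have hx2 : x * x = 1 := by
    have := pow_orderOf_eq_one x
    rw [hx, pow_two] at this
    exact this
  have hxinv : x⁻¹ = x := inv_eq_of_mul_eq_one_left hx2
  have hinner : ∀ a : G, ∑ b : G, (if a * x * a⁻¹ * (b * x * b⁻¹) * (1 : G)⁻¹ = 1 then r else 0) =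
      (Nat.card (Subgroup.centralizer ({x} : Set G)) : ℂ) * r := by
    intro a
    have hcond : ∀ b : G, (a * x * a⁻¹ * ((Equiv.mulLeft a) b * x * ((Equiv.mulLeft a) b)⁻¹) * (1 : G)⁻¹ = 1) ↔
        b ∈ Subgroup.centralizer ({x} : Set G) := by
      intro b
      simp only [Equiv.coe_mulLeft, inv_one, mul_one, mul_inv_rev]
      rw [Subgroup.mem_centralizer_iff]
      simp only [Set.mem_singleton_iff, forall_eq]
      constructor
      · intro h
        have h1 : x * (b * x * b⁻¹) = 1 := by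
          have : a * x * a⁻¹ * (a * b * x * (b⁻¹ * a⁻¹)) = a * (x * (b * x * b⁻¹)) * a⁻¹ := by group
          rw [this] at h
          have h2 : x * (b * x * b⁻¹) = a⁻¹ * (a * (x * (b * x * b⁻¹)) * a⁻¹) * a := by group
          rw [h2, h]
          group
        have h3 : b * x * b⁻¹ = x := by
          have := eq_inv_of_mul_eq_one_right h1
          rw [this, hxinv]
        calc x * b = (b * x * b⁻¹) * b := by rw [h3]
          _ = b * x := by group
      · intro h
        have h3 : b * x * b⁻¹ = x := by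
          rw [← h]
          group
        calc a * x * a⁻¹ * (a * b * x * (b⁻¹ * a⁻¹)) = a * (x * (b * x * b⁻¹)) * a⁻¹ := by group
          _ = 1 := by rw [h3, hx2]; group
    have step : ∑ b : G, (if a * x * a⁻¹ * (b * x * b⁻¹) * (1 : G)⁻¹ = 1 then r else 0) =
        ∑ b : G, (if b ∈ Subgroup.centralizer ({x} : Set G) then r else 0) := by
      rw [← Equiv.sum_comp (Equiv.mulLeft a)]
      apply Finset.sum_congr rfl
      intro b _
      exact if_congr (hcond b) rfl rfl
    rw [step]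
    rw [Finset.sum_ite, Finset.sum_const, Finset.sum_const_zero, add_zero, nsmul_eq_mul]
    congr 2
    rw [Nat.card_eq_fintype_card, Fintype.card_subtype]
  rw [Finset.sum_congr rfl (fun a _ => hinner a), Finset.sum_const, Finset.card_univ, nsmul_eq_mul]
  ring

open Classical in
/-- the main identity: `|C_G(x)| = ∑ χ, χ(x)² (∑_{z ∈ P} χ z) / χ 1` -/
theorem main_identity {G : Type*} [Group G] [Fintype G] [Fintype (IrrCharacter G)] (x : G) (hx : orderOf x = 2)
    (P : Subgroup G) [Fintype P]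
    (hinv : ∀ g : G, IsConj x g → ∀ z ∈ P, z ≠ 1 → g * z * g⁻¹ ≠ z⁻¹) :
    (Nat.card (Subgroup.centralizer ({x} : Set G)) : ℂ) =
      ∑ χ : IrrCharacter G, (χ : G → ℂ) x ^ 2 * (∑ z : P, (χ : G → ℂ) (z : G)) / (χ : G → ℂ) 1 := by
  have hG : (Fintype.card G : ℂ) ≠ 0 := by
    have : 0 < Fintype.card G := Fintype.card_pos
    exact_mod_cast this.ne'
  -- T z, computed via characters
  have hT : ∀ z : G, ∑ a : G, ∑ b : G,
      (if a * x * a⁻¹ * (b * x * b⁻¹) * z⁻¹ = 1 then (Fintype.card G : ℂ) else 0) =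
      ∑ χ : IrrCharacter G, (Fintype.card G : ℂ) ^ 2 * (χ : G → ℂ) x ^ 2 * (χ : G → ℂ) z⁻¹ / (χ : G → ℂ) 1 := by
    intro z
    have h1 : ∀ a b : G, (if a * x * a⁻¹ * (b * x * b⁻¹) * z⁻¹ = 1 then (Fintype.card G : ℂ) else 0) =
        ∑ χ : IrrCharacter G, (χ : G → ℂ) 1 * (χ : G → ℂ) (a * x * a⁻¹ * (b * x * b⁻¹) * z⁻¹) := by
      intro a b
      rw [sum_irr_degree_mul]
    rw [Finset.sum_congr rfl (fun a _ => Finset.sum_congr rfl (fun b _ => h1 a b))]
    rw [Finset.sum_congr rfl (fun a _ => Finset.sum_comm)]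
    rw [Finset.sum_comm]
    apply Finset.sum_congr rfl
    intro χ _
    simp only [← Finset.mul_sum]
    have h2 := irr_class_mul3 χ x x z⁻¹
    have hne := irr_apply_one_ne_zero χ
    rw [eq_div_iff hne]
    linear_combination h2
  -- sum over P: only z = 1 contributes
  have hsumP : ∑ z : P, ∑ a : G, ∑ b : G,
      (if a * x * a⁻¹ * (b * x * b⁻¹) * (z : G)⁻¹ = 1 then (Fintype.card G : ℂ) else 0) =
      (Fintype.card G : ℂ) * (Nat.card (Subgroup.centralizer ({x} : Set G)) : ℂ) * (Fintype.card G : ℂ) := by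
    rw [Finset.sum_eq_single (1 : P)]
    · exact sum_pairs_one x hx _
    · intro z _ hz1
      apply Finset.sum_eq_zero
      intro a _
      apply Finset.sum_eq_zero
      intro b _
      have hz1' : (z : G) ≠ 1 := fun h => hz1 (Subtype.ext h)
      rw [if_neg (prod_conj_ne x hx P hinv z z.2 hz1' a b)]
    · intro h
      exact absurd (Finset.mem_univ _) h
  have hsumP' : ∑ z : P, ∑ χ : IrrCharacter G,
      (Fintype.card G : ℂ) ^ 2 * (χ : G → ℂ) x ^ 2 * (χ : G → ℂ) (z : G)⁻¹ / (χ : G → ℂ) 1 =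
      (Fintype.card G : ℂ) * (Nat.card (Subgroup.centralizer ({x} : Set G)) : ℂ) * (Fintype.card G : ℂ) := by
    rw [← hsumP]
    exact Finset.sum_congr rfl (fun z _ => (hT (z : G)).symm)
  clear hsumP
  rename' hsumP' => hsumP
  rw [Finset.sum_comm] at hsumP
  have hre : ∀ χ : IrrCharacter G, ∑ z : P, (Fintype.card G : ℂ) ^ 2 * (χ : G → ℂ) x ^ 2 * (χ : G → ℂ) (z : G)⁻¹ /
      (χ : G → ℂ) 1 = (Fintype.card G : ℂ) ^ 2 * ((χ : G → ℂ) x ^ 2 * (∑ z : P, (χ : G → ℂ) (z : G)) / (χ : G → ℂ) 1) := by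
    intro χ
    have h3 : ∑ z : P, (χ : G → ℂ) (z : G)⁻¹ = ∑ z : P, (χ : G → ℂ) (z : G) := by
      rw [← Equiv.sum_comp (Equiv.inv P)]
      apply Finset.sum_congr rfl
      intro z _
      simp
    rw [← h3, Finset.mul_sum, Finset.sum_div, Finset.mul_sum]
    apply Finset.sum_congr rfl
    intro z _
    ring
  rw [Finset.sum_congr rfl (fun χ _ => hre χ), ← Finset.mul_sum] at hsumP
  have h4 : (Fintype.card G : ℂ) ^ 2 * (Nat.card (Subgroup.centralizer ({x} : Set G)) : ℂ) =
      (Fintype.card G : ℂ) ^ 2 * ∑ χ : IrrCharacter G, (χ : G → ℂ) x ^ 2 * (∑ z : P, (χ : G → ℂ) (z : G)) / (χ : G → ℂ) 1 := by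
    rw [hsumP]
    ring
  exact mul_left_cancel₀ (pow_ne_zero 2 hG) h4

/-- Let p be an odd prime, G a finite group of even order, x an involution of G and P a subgroup of G of order p ^ c such that no conjugate of x inverts a non-identity element of P. If p ^ a is the p-part of the order of C_G(x), then some irreducible character of G has degree divisible by p ^ (c - a). -/
theorem result {G : Type*} [Group G] [Finite G] (p : ℕ) [Fact p.Prime] (hp2 : p ≠ 2) (hG : Even (Nat.card G)) (x : G) (hx : orderOf x = 2) (P : Subgroup G) (c : ℕ) (hP : Nat.card ↥P = p ^ c) (hinv : ∀ g : G, IsConj x g → ∀ z ∈ P, z ≠ 1 → g * z * g⁻¹ ≠ z⁻¹) (a : ℕ) (ha : (Nat.card ↥(Subgroup.centralizer ({x} : Set G))).factorization p = a) : ∃ χ : Cfsg.IrrCharacter G, p ^ (c - a) ∣ Cfsg.charDegree (χ : G → ℂ) := by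
  classical
  have := Fintype.ofFinite G
  have := Cfsg.Agent.CharLib.fintypeIrr G
  have := Fintype.ofFinite P
  by_cases hca : c ≤ a
  · have h0 : c - a = 0 := Nat.sub_eq_zero_of_le hca
    rw [h0, pow_zero]
    have hpos : 0 < Nat.card (Cfsg.IrrCharacter G) := by
      rw [Cfsg.Agent.CharLib.card_irrCharacter]
      exact Nat.card_pos
    obtain ⟨χ⟩ := (Nat.card_pos_iff.mp hpos).1
    exact ⟨χ, one_dvd _⟩
  · push_neg at hca
    by_contra hcon
    push_neg at hcon
    have hp : p.Prime := Fact.out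
    set n := Nat.card G with hn
    have hnpos : 0 < n := Nat.card_pos
    set m' := n / p ^ n.factorization p with hm'
    obtain ⟨e, he⟩ : ∃ e : ℕ, c = a + 1 + e := ⟨c - a - 1, by omega⟩
    -- each degree divides p^e * m'
    have hdiv : ∀ χ : Cfsg.IrrCharacter G, Cfsg.charDegree (χ : G → ℂ) ∣ p ^ e * m' := by
      intro χ
      have hd := irr_charDegree_dvd_card χ
      have hdpos := irr_charDegree_pos χ
      have hnd := hcon χ
      set d := Cfsg.charDegree (χ : G → ℂ) with hdd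
      have h1 : d = p ^ d.factorization p * (d / p ^ d.factorization p) := (Nat.ordProj_mul_ordCompl_eq_self d p).symm
      have hv : d.factorization p ≤ e := by
        by_contra hlt
        push_neg at hlt
        apply hnd
        have : c - a ≤ d.factorization p := by omega
        exact (pow_dvd_pow p this).trans (Nat.ordProj_dvd d p)
      have h2 : d / p ^ d.factorization p ∣ m' := Nat.ordCompl_dvd_ordCompl_of_dvd hd p
      rw [h1]
      exact Nat.mul_dvd_mul (pow_dvd_pow p hv) h2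
    choose t ht using hdiv
    choose mχ hmχ using fun χ : Cfsg.IrrCharacter G => irr_sum_subgroup χ P
    have hid := main_identity x hx P hinv
    -- rewrite each term
    have hterm : ∀ χ : Cfsg.IrrCharacter G,
        (m' : ℂ) * ((χ : G → ℂ) x ^ 2 * (∑ z : P, (χ : G → ℂ) (z : G)) / (χ : G → ℂ) 1) =
          ((p ^ (a + 1) : ℕ) : ℂ) * ((χ : G → ℂ) x ^ 2 * (mχ χ : ℂ) * (t χ : ℂ)) := by
      intro χ
      have hne := irr_apply_one_ne_zero χ
      rw [hmχ χ, hP, irr_apply_one χ] at *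
      have h3 : ((p ^ e * m' : ℕ) : ℂ) = ((Cfsg.charDegree (χ : G → ℂ) * t χ : ℕ) : ℂ) := by rw [ht χ]
      push_cast at h3
      rw [he]
      push_cast
      field_simp
      linear_combination ((χ : G → ℂ) x ^ 2 * (mχ χ : ℂ) * (p : ℂ) ^ (a + 1)) * h3
    have hβ : IsIntegral ℤ (∑ χ : Cfsg.IrrCharacter G, ((χ : G → ℂ) x ^ 2 * (mχ χ : ℂ) * (t χ : ℂ))) := by
      apply IsIntegral.sum
      intro χ _
      apply IsIntegral.mul
      · apply IsIntegral.mul
        · exact (irr_isIntegral χ x).pow 2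
        · exact isIntegral_algebraMap (R := ℤ) (A := ℂ) (x := ((mχ χ : ℕ) : ℤ)) |> fun h => by simpa using h
      · exact isIntegral_algebraMap (R := ℤ) (A := ℂ) (x := ((t χ : ℕ) : ℤ)) |> fun h => by simpa using h
    have hmain : ((m' * Nat.card (Subgroup.centralizer ({x} : Set G)) : ℕ) : ℂ) =
        ((p ^ (a + 1) : ℕ) : ℂ) * ∑ χ : Cfsg.IrrCharacter G, ((χ : G → ℂ) x ^ 2 * (mχ χ : ℂ) * (t χ : ℂ)) := by
      rw [Nat.cast_mul, hid, Finset.mul_sum, Finset.mul_sum]
      exact Finset.sum_congr rfl (fun χ _ => hterm χ)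
    have hdvd := nat_dvd_of_eq_mul_isIntegral (pow_pos hp.pos (a + 1)) hβ hmain
    have hcop : Nat.Coprime (p ^ (a + 1)) m' := (Nat.coprime_ordCompl hp hnpos.ne').pow_left (a + 1)
    have hdvd2 : p ^ (a + 1) ∣ Nat.card (Subgroup.centralizer ({x} : Set G)) := hcop.dvd_of_dvd_mul_left hdvd
    have hCpos : Nat.card (Subgroup.centralizer ({x} : Set G)) ≠ 0 := Nat.card_pos.ne'
    have := (hp.pow_dvd_iff_le_factorization hCpos).mp hdvd2
    omega

end Cfsg.Agent.S4740
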