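import Cfsg.Statements.S4741


import Mathlib
import Cfsg.Agent.Lib.Helper6.SepClassesC

set_option autoImplicit false
open Cfsg

namespace Cfsg.Agent.S4741

open Cfsg.Agent.CharLib Cfsg.Agent.Lib.Helper24 Cfsg.Agent.Lib.Helper6 Cfsg.Agent.Lib.Helper23
open Cfsg.Agent.Lib.Helper6.SepClasses

/-- Let p be a prime, M a maximal ideal of the algebraic integers containing p, and D a subgroup of the finite group G. Let x₁, …, x_r be pairwise non-conjugate elements of G such that D is a Sylow p-subgroup of the centralizer of each xᵢ, and such that for any conjugates g of some xᵢ and h of some xⱼ the element g h⁻¹ is never a non-identity p-element. Then there are r distinct p-blocks B₁, …, B_r of G, each having D as a defect group, such that for every choice of characters χᵢ ∈ Bᵢ of height zero the determinant of the r × r matrix (χᵢ(xⱼ)) does not lie in the local ideal at M. -/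
theorem result {G : Type*} [Group G] [Finite G] (p : ℕ) [Fact p.Prime] (M : Ideal Cfsg.AlgInt) (hM : Cfsg.IsPModular p M) (D : Subgroup G) {r : ℕ} (x : Fin r → G) (hx : ∀ i j : Fin r, IsConj (x i) (x j) → i = j) (hD : ∀ i : Fin r, ∃ S : Sylow p ↥(Subgroup.centralizer ({x i} : Set G)), (S : Subgroup ↥(Subgroup.centralizer ({x i} : Set G))).map (Subgroup.centralizer ({x i} : Set G)).subtype = D) (hsep : ∀ i j : Fin r, ∀ g h : G, IsConj (x i) g → IsConj (x j) h → ∀ k : ℕ, 0 < k → orderOf (g * h⁻¹) ≠ p ^ k) : ∃ B : Fin r → Set (Cfsg.IrrCharacter G), Function.Injective B ∧ (∀ i : Fin r, Cfsg.IsPBlock M (B i) ∧ Cfsg.IsDefectGroup p M (B i) D) ∧ ∀ χ : Fin r → Cfsg.IrrCharacter G, (∀ i : Fin r, χ i ∈ B i ∧ Cfsg.blockHeight p (B i) (χ i : G → ℂ) = 0) → ¬ Cfsg.MemLocalIdeal M (Matrix.det (Matrix.of fun i j : Fin r => (χ i : G → ℂ) (x j))) := by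
  classical
  haveI hprime : M.IsPrime := isPrime_of_isPModular hM
  obtain ⟨B, hBinj, hB, hdet⟩ := exists_blocks_of_sep hM D x hx hD hsep
  refine ⟨B, hBinj, hB, ?_⟩
  intro χ hχ
  apply det_irr_not_memLocalIdeal hM
    ((Nat.card G).factorization p - (Nat.card D).factorization p) χ x
  · intro i
    have h1 := (blockHeight_eq_zero_iff (p := p) (hχ i).1).mp (hχ i).2
    have h2 := card_defectGroup_eq hM (B i) (hB i).1 D (hB i).2
    have h3 : (Nat.card D).factorization p = blockDefect p (B i) := by
      rw [h2, Nat.factorization_pow]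
      simp [Nat.Prime.factorization_self (Fact.out : p.Prime)]
    have hmina : minVal p (B i) ≤ (Nat.card G).factorization p :=
      minVal_le_factorization_card ⟨χ i, (hχ i).1⟩
    have hdef : blockDefect p (B i) = (Nat.card G).factorization p - minVal p (B i) := rfl
    omega
  · intro j
    obtain ⟨Sj, hSj⟩ := hD j
    have := factorization_index_centralizer_add D (x j) Sj hSj
    omega
  · exact hdet χ (fun i => (hχ i).1)

end Cfsg.Agent.S4741
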