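-- helper6: S4743. Non-adjacent primes p, q (no commuting elements of orders p and q) in a p-solvable
-- (or q-solvable) group: a character of p-defect zero or of q-defect zero.
-- Proof: Cfsg/Agent/Lib/Helper6/NonAdjA..F (p-series, Clifford theory, Brauer's permutation lemma,
-- fixed-point-free action of a Sylow p-subgroup on a Sylow q-subgroup of the normal p'-part).
import Mathlib
import Cfsg.Statements.S4743
import Cfsg.Agent.Lib.Helper6.NonAdjF

set_option autoImplicit false
open Cfsg

namespace Cfsg.Agent.S4743

/-- Let p ≠ q be primes dividing the order of the finite group G, suppose the centralizer of every non-identity p-element has order prime to q, and suppose G is p-solvable or q-solvable. Then G has an irreducible character of p-defect zero or an irreducible character of q-defect zero. -/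
theorem result {G : Type*} [Group G] [Finite G] (p q : ℕ) [Fact p.Prime] [Fact q.Prime] (hppq : p ≠ q) (hpG : p ∣ Nat.card G) (hqG : q ∣ Nat.card G) (hC : ∀ g : G, g ≠ 1 → (∃ k : ℕ, orderOf g = p ^ k) → ¬ q ∣ Nat.card ↥(Subgroup.centralizer ({g} : Set G))) (hsolv : Cfsg.IsPSolvable p G ∨ Cfsg.IsPSolvable q G) : (∃ χ : Cfsg.IrrCharacter G, (Cfsg.charDegree (χ : G → ℂ)).factorization p = (Nat.card G).factorization p) ∨ (∃ χ : Cfsg.IrrCharacter G, (Cfsg.charDegree (χ : G → ℂ)).factorization q = (Nat.card G).factorization q) := by
  have hp : Fact p.Prime := inferInstance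
  have hq : Fact q.Prime := inferInstance
  have hno : Cfsg.Agent.Lib.Helper6.NonAdj.NoPQ p q G :=
    Cfsg.Agent.Lib.Helper6.NonAdj.noPQ_of_centralizer hC hp.out
  rcases hsolv with hs | hs
  · rcases Cfsg.Agent.Lib.Helper6.NonAdj.hasDefectZero_of_isPSolvable p q hppq hpG hno hs with h | h
    · exact Or.inl h
    · exact Or.inr h
  · rcases Cfsg.Agent.Lib.Helper6.NonAdj.hasDefectZero_of_isPSolvable q p hppq.symm hqG hno.symm hs
      with h | h
    · exact Or.inr h
    · exact Or.inl h

end Cfsg.Agent.S4743
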