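import Cfsg.Statements.S4746
import Cfsg.Agent.S4744
import Cfsg.Agent.Lib.Lead.RealOddCent

set_option autoImplicit false
open Cfsg

namespace Cfsg.Agent.S4746

/-- Let p be an odd prime and G a finite group of even order divisible by p in which the centralizer of every non-identity p-element has odd order. Then G has an irreducible character of p-defect zero or an irreducible character of even degree. -/
theorem result {G : Type*} [Group G] [Finite G] (p : ℕ) [Fact p.Prime] (hp2 : p ≠ 2) (hpG : p ∣ Nat.card G) (h2G : 2 ∣ Nat.card G) (hC : ∀ g : G, g ≠ 1 → (∃ k : ℕ, orderOf g = p ^ k) → Odd (Nat.card ↥(Subgroup.centralizer ({g} : Set G)))) : (∃ χ : Cfsg.IrrCharacter G, (Cfsg.charDegree (χ : G → ℂ)).factorization p = (Nat.card G).factorization p) ∨ ∃ χ : Cfsg.IrrCharacter G, Even (Cfsg.charDegree (χ : G → ℂ)) := by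
  have hpp : p.Prime := Fact.out
  rcases Cfsg.Agent.S4744.result p hp2 hpG h2G hC with h | h
  · left; exact h
  right
  -- a Sylow `p`-subgroup, abelian with normalizer of even order
  let P : Sylow p G := default
  obtain ⟨heven, hcomm⟩ := h P
  have : Fact (Nat.Prime 2) := ⟨Nat.prime_two⟩
  obtain ⟨u, hu⟩ := exists_prime_orderOf_dvd_card' (G := ↥(Subgroup.normalizer ((P : Subgroup G) : Set G))) 2
    (even_iff_two_dvd.mp heven)
  have huG : orderOf (u : G) = 2 := by
    rw [Subgroup.orderOf_coe]
    exact hu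
  have hu2 : (u : G) * (u : G) = 1 := by
    rw [← sq, ← huG]
    exact pow_orderOf_eq_one _
  obtain ⟨z, hz⟩ := exists_prime_orderOf_dvd_card' (G := ↥(P : Subgroup G)) p
    (P.dvd_card_of_dvd_card hpG)
  have hzG : orderOf (z : G) = p := by
    rw [Subgroup.orderOf_coe]
    exact hz
  have hz1 : (z : G) ≠ 1 := by
    intro h1
    rw [h1, orderOf_one] at hzG
    exact hpp.one_lt.ne hzG
  -- the conjugate of `z` by `u`
  have hwP : (u : G) * (z : G) * (u : G)⁻¹ ∈ (P : Subgroup G) :=
    (Subgroup.mem_normalizer_iff.mp u.2 (z : G)).mp z.2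
  set w : G := (u : G) * (z : G) * (u : G)⁻¹ with hw
  have hzw : (z : G) * w = w * (z : G) := by
    have := hcomm.is_comm.comm z ⟨w, hwP⟩
    exact congrArg Subtype.val this
  have hyP : (z : G) * w ∈ (P : Subgroup G) := Subgroup.mul_mem _ z.2 hwP
  -- `u` centralizes `z * w`
  have huy : (u : G) * ((z : G) * w) = ((z : G) * w) * (u : G) := by
    have huinv : (u : G)⁻¹ = (u : G) := inv_eq_of_mul_eq_one_right hu2
    have h1 : (u : G) * w = (z : G) * (u : G) := by
      rw [hw, huinv]
      calc (u : G) * ((u : G) * (z : G) * (u : G))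
          = ((u : G) * (u : G)) * (z : G) * (u : G) := by group
        _ = (z : G) * (u : G) := by rw [hu2, one_mul]
    have h2 : (u : G) * (z : G) = w * (u : G) := by
      rw [hw, huinv]
      calc (u : G) * (z : G) = (u : G) * (z : G) * ((u : G) * (u : G)) := by rw [hu2, mul_one]
        _ = (u : G) * (z : G) * (u : G) * (u : G) := by group
    calc (u : G) * ((z : G) * w) = ((u : G) * (z : G)) * w := by group
      _ = w * ((u : G) * w) := by rw [h2]; group
      _ = w * ((z : G) * (u : G)) := by rw [h1]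
      _ = (w * (z : G)) * (u : G) := by group
      _ = ((z : G) * w) * (u : G) := by rw [hzw]
  have hy1 : (z : G) * w = 1 := by
    by_contra hne
    have hpow : ∃ k : ℕ, orderOf ((z : G) * w) = p ^ k := by
      obtain ⟨k, hk⟩ := (IsPGroup.iff_orderOf.mp P.2) ⟨(z : G) * w, hyP⟩
      exact ⟨k, by rw [← hk, Subgroup.orderOf_mk]⟩
    have hoddC := hC _ hne hpow
    have humem : (u : G) ∈ Subgroup.centralizer ({(z : G) * w} : Set G) := by
      rw [Subgroup.mem_centralizer_iff]
      intro h hh
      rw [Set.mem_singleton_iff] at hh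
      subst hh
      exact huy.symm
    have hdvd : orderOf (⟨(u : G), humem⟩ : ↥(Subgroup.centralizer ({(z : G) * w} : Set G))) ∣
        Nat.card ↥(Subgroup.centralizer ({(z : G) * w} : Set G)) := orderOf_dvd_natCard _
    rw [Subgroup.orderOf_mk, huG] at hdvd
    exact (Nat.not_even_iff_odd.mpr hoddC) (even_iff_two_dvd.mpr hdvd)
  have hinv : (u : G) * (z : G) * (u : G)⁻¹ = (z : G)⁻¹ := by
    rw [← hw]
    exact (inv_eq_of_mul_eq_one_right hy1).symm
  have hoddz : Odd (Nat.card ↥(Subgroup.centralizer ({(z : G)} : Set G))) :=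
    hC _ hz1 ⟨1, by rw [hzG, pow_one]⟩
  exact Cfsg.Agent.Lib.Lead.RealOdd.exists_even_degree_of_real_odd_centralizer (z : G) hz1
    ⟨(u : G), hinv⟩ hoddz

end Cfsg.Agent.S4746
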