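import Cfsg.Statements.S4751
import Cfsg.Agent.Lib.Helper24.RootF

set_option autoImplicit false
open Cfsg

namespace Cfsg.Agent.S4751

/-- Let χ be a faithful, non-linear irreducible character of the finite group G (χ g = χ 1 only for g = 1, χ 1 ≠ 1) whose value at every element of order divisible by p is a root of unity, and suppose P = O_p(G) ≠ 1. Then either P is an elementary abelian Sylow p-subgroup of G, C_G(P) is the internal direct product of P and Z(G), G acts transitively by conjugation on the non-principal linear characters of P, and χ 1 = |P| − 1; or p = 2 and G is the internal direct product of a subgroup isomorphic to the symmetric group S₄ and the centre Z(G), which has odd order. -/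
theorem result {G : Type*} [Group G] [Finite G] (p : ℕ) [Fact p.Prime] (χ : Cfsg.IrrCharacter G) (hfaith : ∀ g : G, (χ : G → ℂ) g = (χ : G → ℂ) 1 → g = 1) (hnl : (χ : G → ℂ) 1 ≠ 1) (hroot : ∀ g : G, p ∣ orderOf g → ∃ n : ℕ, 0 < n ∧ ((χ : G → ℂ) g) ^ n = 1) (hP : Cfsg.pCore p G ≠ ⊥) : ((Nat.card ↥(Cfsg.pCore p G)).factorization p = (Nat.card G).factorization p ∧ Cfsg.IsElementaryAbelian p (Cfsg.pCore p G) ∧ Subgroup.centralizer ((Cfsg.pCore p G : Subgroup G) : Set G) = Cfsg.pCore p G ⊔ Subgroup.center G ∧ Cfsg.pCore p G ⊓ Subgroup.center G = ⊥ ∧ (∀ lam mu : ↥(Cfsg.pCore p G) → ℂ, Cfsg.IsCharacter ↥(Cfsg.pCore p G) lam → lam 1 = 1 → lam ≠ (fun _ => (1 : ℂ)) → Cfsg.IsCharacter ↥(Cfsg.pCore p G) mu → mu 1 = 1 → mu ≠ (fun _ => (1 : ℂ)) → ∃ g : G, ∀ (x : G) (hx : x ∈ Cfsg.pCore p G) (hgx : g * x * g⁻¹ ∈ Cfsg.pCore p G), mu ⟨x, hx⟩ = lam ⟨g * x * g⁻¹, hgx⟩) ∧ (χ : G → ℂ) 1 = (Nat.card ↥(Cfsg.pCore p G) : ℂ) - 1) ∨ (p = 2 ∧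 Odd (Nat.card ↥(Subgroup.center G)) ∧ ∃ H : Subgroup G, Nonempty (↥H ≃* Equiv.Perm (Fin 4)) ∧ H ⊓ Subgroup.center G = ⊥ ∧ H ⊔ Subgroup.center G = ⊤) := by
  classical
  haveI : Fintype G := Fintype.ofFinite G
  haveI : Fintype (Cfsg.pCore p G) := Fintype.ofFinite _
  obtain ⟨S⟩ : Nonempty (Sylow p G) := inferInstance
  obtain ⟨n, h, hS⟩ := Cfsg.Agent.Lib.Helper24.RootChar.reduction p χ.2 hfaith hnl hroot hP S
  rcases hS with hS | ⟨hp2, hS⟩
  · left
    refine ⟨?_, ⟨⟨⟨fun a b => h.ab a b⟩⟩, fun a ha => ?_⟩, h.centralizer_eq, h.inf_center,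
      h.trans, ?_⟩
    · rw [← hS, Sylow.card_eq_multiplicity, Nat.Prime.factorization_pow (Fact.out : p.Prime)]
      simp
    · exact congrArg Subtype.val (h.exp ⟨a, ha⟩)
    · rw [h.deg, ← h.card]
      push_cast
      ring
  · right
    subst hp2
    obtain ⟨s, t, c⟩ := h.exists_cfg rfl S (Cfsg.Agent.Lib.Helper16.pCore_le_sylow S) hS
    exact ⟨rfl, c.odd, Cfsg.Agent.Lib.Helper24.RootGrp.exists_S4_complement c⟩

end Cfsg.Agent.S4751
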