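import Cfsg.Statements.S4754
import Cfsg.Agent.Lib.Helper24.ClassMul

set_option autoImplicit false
open Cfsg

namespace Cfsg.Agent.S4754

open Cfsg.Agent.Lib.Helper24 in
/-- the key identity, for an irreducible character given with its representation -/
theorem key_of_products_conj {G : Type*} [Group G] [Finite G] (x y : G)
    (hxy : ∀ a b : G, IsConj (x * y) (a * x * a⁻¹ * (b * y * b⁻¹)))
    (χ : Cfsg.IrrCharacter G) (a b : G) :
    (χ : G → ℂ) 1 * (χ : G → ℂ) (a * x * a⁻¹ * (b * y * b⁻¹)) = (χ : G → ℂ) x * (χ : G → ℂ) y := by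
  classical
  have := Fintype.ofFinite G
  obtain ⟨χf, n, ρ, hirr, hχ⟩ := χ
  have hirr' : ρ.IsIrreducible := hirr
  show χf 1 * χf (a * x * a⁻¹ * (b * y * b⁻¹)) = χf x * χf y
  subst hχ
  have hpos := finrank_pos_of_isIrreducible ρ
  have hne : (Module.finrank ℂ (Fin n → ℂ) : ℂ) ≠ 0 := by exact_mod_cast hpos.ne'
  have hG : (Fintype.card G : ℂ) ≠ 0 := by
    have : 0 < Fintype.card G := Fintype.card_pos
    exact_mod_cast this.ne'
  have hconst : ∀ a b : G, ρ.character (a * x * a⁻¹ * (b * y * b⁻¹)) = ρ.character (x * y) :=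
    fun a b => char_eq_of_isConj ρ (hxy a b)
  have h1 := sum_sum_char_conj_mul ρ x y
  have h2 : ∑ a : G, ∑ b : G, ρ.character (a * x * a⁻¹ * (b * y * b⁻¹)) =
      (Fintype.card G : ℂ) ^ 2 * ρ.character (x * y) := by
    rw [Finset.sum_congr rfl (fun a _ => Finset.sum_congr rfl (fun b _ => hconst a b))]
    simp only [Finset.sum_const, Finset.card_univ, nsmul_eq_mul]
    ring
  rw [h2] at h1
  rw [hconst a b, Representation.char_one]
  have h3 : (Fintype.card G : ℂ) ^ 2 * ((Module.finrank ℂ (Fin n → ℂ) : ℂ) * ρ.character (x * y)) =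
      (Fintype.card G : ℂ) ^ 2 * (ρ.character x * ρ.character y) := by
    have h4 : (Fintype.card G : ℂ) ^ 2 * ρ.character (x * y) * (Module.finrank ℂ (Fin n → ℂ) : ℂ) =
        (Fintype.card G : ℂ) ^ 2 * ρ.character x * ρ.character y / (Module.finrank ℂ (Fin n → ℂ) : ℂ) *
          (Module.finrank ℂ (Fin n → ℂ) : ℂ) := by rw [h1]
    rw [div_mul_cancel₀ _ hne] at h4
    linear_combination h4
  exact mul_left_cancel₀ (pow_ne_zero 2 hG) h3

/-- For elements x, y of a finite group G, the conjugacy class of x y equals the set of all products of a conjugate of x with a conjugate of y if and only if χ(1) χ(a x a⁻¹ b y b⁻¹) = χ(x) χ(y) for all a, b ∈ G and every irreducible character χ. -/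
theorem result {G : Type*} [Group G] [Finite G] (x y : G) : (∀ z : G, IsConj (x * y) z ↔ ∃ a b : G, z = a * x * a⁻¹ * (b * y * b⁻¹)) ↔ ∀ (a b : G) (χ : Cfsg.IrrCharacter G), (χ : G → ℂ) 1 * (χ : G → ℂ) (a * x * a⁻¹ * (b * y * b⁻¹)) = (χ : G → ℂ) x * (χ : G → ℂ) y := by
  constructor
  · intro hz a b χ
    apply key_of_products_conj x y _ χ a b
    intro a b
    exact (hz _).mpr ⟨a, b, rfl⟩
  · intro h z
    constructor
    · intro hconj
      obtain ⟨c, hc⟩ := isConj_iff.mp hconj
      refine ⟨c, c, ?_⟩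
      rw [← hc]
      group
    · rintro ⟨a, b, rfl⟩
      apply Cfsg.Agent.Lib.Helper24.isConj_of_forall_irr_eq
      intro χ
      have h1 := h a b χ
      have h2 := h 1 1 χ
      simp only [one_mul, inv_one, mul_one] at h2
      obtain ⟨k, hk, hk1⟩ := Cfsg.Agent.CharLib.IsIrrCharacter.apply_one_pos χ.2
      have hne : (χ : G → ℂ) 1 ≠ 0 := by
        rw [hk1]
        exact_mod_cast hk.ne'
      apply mul_left_cancel₀ hne
      rw [h2, h1]

end Cfsg.Agent.S4754
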