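import Cfsg.Statements.S4755
import Cfsg.Agent.Lib.Helper24.ClassMul
import Cfsg.Agent.S4754

set_option autoImplicit false
open Cfsg

namespace Cfsg.Agent.S4755

open Cfsg.Agent.Lib.Helper24 in
/-- under the hypothesis, a nonlinear irreducible character kills `χ x * χ y` -/
theorem char_mul_eq_zero_of_nonlinear {G : Type*} [Group G] [Finite G] (x y : G)
    (h : ∀ (a b : G) (χ : Cfsg.IrrCharacter G), (χ : G → ℂ) (a * x * a⁻¹ * (b * y * b⁻¹)) =
      (χ : G → ℂ) (a * x * a⁻¹) * (χ : G → ℂ) (b * y * b⁻¹))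
    (χ : Cfsg.IrrCharacter G) (hχ : (χ : G → ℂ) 1 ≠ 1) : (χ : G → ℂ) x * (χ : G → ℂ) y = 0 := by
  classical
  have := Fintype.ofFinite G
  have hh := fun a b => h a b χ
  obtain ⟨χf, n, ρ, hirr, hχe⟩ := χ
  have hirr' : ρ.IsIrreducible := hirr
  change χf 1 ≠ 1 at hχ
  change ∀ a b : G, χf (a * x * a⁻¹ * (b * y * b⁻¹)) = χf (a * x * a⁻¹) * χf (b * y * b⁻¹) at hh
  show χf x * χf y = 0
  subst hχe
  have hpos := finrank_pos_of_isIrreducible ρ
  have hne : (Module.finrank ℂ (Fin n → ℂ) : ℂ) ≠ 0 := by exact_mod_cast hpos.ne'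
  have hG : (Fintype.card G : ℂ) ≠ 0 := by
    have : 0 < Fintype.card G := Fintype.card_pos
    exact_mod_cast this.ne'
  have hconst : ∀ a b : G, ρ.character (a * x * a⁻¹ * (b * y * b⁻¹)) = ρ.character x * ρ.character y := by
    intro a b
    rw [hh a b, Representation.char_conj, Representation.char_conj]
  have h1 := sum_sum_char_conj_mul ρ x y
  have h2 : ∑ a : G, ∑ b : G, ρ.character (a * x * a⁻¹ * (b * y * b⁻¹)) =
      (Fintype.card G : ℂ) ^ 2 * (ρ.character x * ρ.character y) := by
    rw [Finset.sum_congr rfl (fun a _ => Finset.sum_congr rfl (fun b _ => hconst a b))]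
    simp only [Finset.sum_const, Finset.card_univ, nsmul_eq_mul]
    ring
  rw [h2] at h1
  rw [Representation.char_one] at hχ
  have h4 : (Fintype.card G : ℂ) ^ 2 * (ρ.character x * ρ.character y) * (Module.finrank ℂ (Fin n → ℂ) : ℂ) =
      (Fintype.card G : ℂ) ^ 2 * ρ.character x * ρ.character y / (Module.finrank ℂ (Fin n → ℂ) : ℂ) *
        (Module.finrank ℂ (Fin n → ℂ) : ℂ) := by rw [h1]
  rw [div_mul_cancel₀ _ hne] at h4
  have h5 : (Fintype.card G : ℂ) ^ 2 * ((Module.finrank ℂ (Fin n → ℂ) : ℂ) - 1) *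
      (ρ.character x * ρ.character y) = 0 := by linear_combination h4
  have h6 : (Fintype.card G : ℂ) ^ 2 * ((Module.finrank ℂ (Fin n → ℂ) : ℂ) - 1) ≠ 0 :=
    mul_ne_zero (pow_ne_zero 2 hG) (sub_ne_zero.mpr hχ)
  exact (mul_eq_zero.mp h5).resolve_left h6

open Cfsg.Agent.Lib.Helper24 in
/-- a linear irreducible character is multiplicative and trivial on the commutator subgroup -/
theorem linear_char_mul_commutator {G : Type*} [Group G] (χ : Cfsg.IrrCharacter G)
    (hχ : (χ : G → ℂ) 1 = 1) (g w : G) (hw : w ∈ commutator G) : (χ : G → ℂ) (g * w) = (χ : G → ℂ) g := by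
  obtain ⟨χf, n, ρ, hirr, hχe⟩ := χ
  change χf 1 = 1 at hχ
  show χf (g * w) = χf g
  subst hχe
  rw [Representation.char_one, Module.finrank_fin_fun] at hχ
  have hn : Module.finrank ℂ (Fin n → ℂ) = 1 := by
    rw [Module.finrank_fin_fun]
    exact_mod_cast hχ
  let φ : G →* ℂ :=
    { toFun := ρ.character
      map_one' := by rw [Representation.char_one, hn]; simp
      map_mul' := char_mul_of_finrank_eq_one ρ hn }
  have hker := Abelianization.commutator_subset_ker (MonoidHom.toHomUnits φ) hw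
  rw [MonoidHom.mem_ker] at hker
  have h1 : φ w = 1 := by
    have := congrArg (fun u : ℂˣ => (u : ℂ)) hker
    simpa using this
  have h2 : ρ.character (g * w) = ρ.character g * ρ.character w := char_mul_of_finrank_eq_one ρ hn g w
  have h3 : ρ.character w = 1 := h1
  rw [h2, h3, mul_one]

/-- Let x, y be non-identity elements of the finite group G such that χ(x' y') = χ(x') χ(y') for all conjugates x' of x, y' of y and every irreducible character χ. Then the conjugacy class of x y is the set of all products of a conjugate of x with a conjugate of y; every irreducible character of degree greater than 1 vanishes at x y; and the conjugacy class of x y is the coset of the commutator subgroup containing x y. -/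
theorem result {G : Type*} [Group G] [Finite G] (x y : G) (hx : x ≠ 1) (hy : y ≠ 1) (h : ∀ (a b : G) (χ : Cfsg.IrrCharacter G), (χ : G → ℂ) (a * x * a⁻¹ * (b * y * b⁻¹)) = (χ : G → ℂ) (a * x * a⁻¹) * (χ : G → ℂ) (b * y * b⁻¹)) : (∀ z : G, IsConj (x * y) z ↔ ∃ a b : G, z = a * x * a⁻¹ * (b * y * b⁻¹)) ∧ (∀ χ : Cfsg.IrrCharacter G, (χ : G → ℂ) 1 ≠ 1 → (χ : G → ℂ) (x * y) = 0) ∧ (∀ z : G, IsConj (x * y) z ↔ (x * y)⁻¹ * z ∈ commutator G) := by
  classical
  have hkey := char_mul_eq_zero_of_nonlinear x y h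
  have hxyval : ∀ χ : Cfsg.IrrCharacter G, (χ : G → ℂ) (x * y) = (χ : G → ℂ) x * (χ : G → ℂ) y := by
    intro χ
    have := h 1 1 χ
    simpa using this
  have hclassfun : ∀ (χ : Cfsg.IrrCharacter G) (a g : G), (χ : G → ℂ) (a * g * a⁻¹) = (χ : G → ℂ) g := by
    intro χ a g
    exact Cfsg.Agent.CharLib.IsCharacter.isClassFunction (Cfsg.Agent.CharLib.IsIrrCharacter.isCharacter χ.2) g a
  refine ⟨?_, ?_, ?_⟩
  · rw [Cfsg.Agent.S4754.result]
    intro a b χ
    rw [h a b χ, hclassfun, hclassfun]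
    by_cases h1 : (χ : G → ℂ) 1 = 1
    · rw [h1, one_mul]
    · rw [hkey χ h1, mul_zero]
  · intro χ h1
    rw [hxyval χ, hkey χ h1]
  · intro z
    constructor
    · intro hconj
      obtain ⟨c, hc⟩ := isConj_iff.mp hconj
      rw [← hc]
      have : (x * y)⁻¹ * (c * (x * y) * c⁻¹) = (x * y)⁻¹ * c * ((x * y)⁻¹)⁻¹ * c⁻¹ := by
        group
      rw [this, ← commutatorElement_def]
      exact Subgroup.commutator_mem_commutator (Subgroup.mem_top _) (Subgroup.mem_top _)
    · intro hz
      have := Fintype.ofFinite G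
      have := Cfsg.Agent.CharLib.fintypeIrr G
      have hterm : ∀ χ : Cfsg.IrrCharacter G,
          (χ : G → ℂ) z * (starRingEnd ℂ) ((χ : G → ℂ) (x * y)) =
            (χ : G → ℂ) (x * y) * (starRingEnd ℂ) ((χ : G → ℂ) (x * y)) := by
        intro χ
        by_cases h1 : (χ : G → ℂ) 1 = 1
        · have h2 := linear_char_mul_commutator χ h1 (x * y) _ hz
          rw [mul_inv_cancel_left] at h2
          rw [h2]
        · have h2 : (χ : G → ℂ) (x * y) = 0 := by rw [hxyval χ, hkey χ h1]
          rw [h2]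
          simp
      have h1 := Cfsg.Agent.CharLib.sum_irr_mul_conj z (x * y)
      have h2 := Cfsg.Agent.CharLib.sum_irr_mul_conj (x * y) (x * y)
      rw [Finset.sum_congr rfl (fun χ _ => hterm χ), h2] at h1
      have hC : (Nat.card (Subgroup.centralizer ({x * y} : Set G)) : ℂ) ≠ 0 := by
        have : 0 < Nat.card (Subgroup.centralizer ({x * y} : Set G)) := Nat.card_pos
        exact_mod_cast this.ne'
      have h4 := mul_right_cancel₀ hC h1
      simp only [Cfsg.Agent.CharLib.classIndicator] at h4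
      by_contra hcon
      have hcon' : ¬ IsConj z (x * y) := fun hc => hcon hc.symm
      rw [if_neg hcon', if_pos (IsConj.refl (x * y))] at h4
      exact one_ne_zero h4

end Cfsg.Agent.S4755
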