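import Cfsg.Statements.S4756
import Cfsg.Agent.Lib.Helper24.MultD
import Cfsg.Agent.Lib.Helper10.AbelianRestrict

set_option autoImplicit false
open Cfsg

namespace Cfsg.Agent.S4756

open Cfsg.Agent.Lib.Helper24.Mult in
open scoped commutatorElement in
/-- For a finite group G the following are equivalent. (1) χ(x y) = χ(x) χ(y) for every irreducible character χ and all non-identity elements x, y of prime power orders for two different primes. (2) G is a p-group for some prime p, or G is abelian, or for some prime p: G = A P with P a normal Sylow p-subgroup and A a nontrivial cyclic subgroup of order prime to p such that, with C = C_P(A) and D = [A, P], one has P = C D, C abelian, D normal in G, C ∩ D = 1, and A acts fixed-point-freely on D (no non-identity element of A centralizes a non-identity element of D). -/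
theorem result {G : Type*} [Group G] [Finite G] : (∀ (x y : G) (χ : Cfsg.IrrCharacter G), x ≠ 1 → y ≠ 1 → (∃ p q a b : ℕ, p.Prime ∧ q.Prime ∧ p ≠ q ∧ orderOf x = p ^ a ∧ orderOf y = q ^ b) → (χ : G → ℂ) (x * y) = (χ : G → ℂ) x * (χ : G → ℂ) y) ↔ ((∃ p : ℕ, p.Prime ∧ IsPGroup p G) ∨ IsMulCommutative G ∨ ∃ (p : ℕ) (_ : Fact p.Prime) (P : Sylow p G) (A : Subgroup G), (P : Subgroup G).Normal ∧ IsCyclic ↥A ∧ A ≠ ⊥ ∧ (Nat.card ↥A).Coprime p ∧ A ⊔ (P : Subgroup G) = ⊤ ∧ IsMulCommutative ↥((P : Subgroup G) ⊓ Subgroup.centralizer (A : Set G)) ∧ (⁅A, (P : Subgroup G)⁆).Normal ∧ ((P : Subgroup G) ⊓ Subgroup.centralizer (A : Set G)) ⊔ ⁅A, (P : Subgroup G)⁆ = (P : Subgroup G) ∧ ((P : Subgroup G) ⊓ Subgroup.centralizer (A : Set G)) ⊓ ⁅A, (P : Subgroup G)⁆ = ⊥ ∧ ∀ a ∈ A, a ≠ 1 → ∀ d ∈ ⁅A, (P : Subgroup G)⁆, a * d = d * a → d = 1) := by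
  constructor
  · intro h
    have hM : MultHyp G := h
    by_cases hab : commutator G = ⊥
    · right; left
      refine ⟨⟨fun a b => ?_⟩⟩
      have h1 : (⁅a, b⁆ : G) ∈ commutator G := by
        rw [commutator_def]
        exact Subgroup.commutator_mem_commutator (Subgroup.mem_top a) (Subgroup.mem_top b)
      rw [hab, Subgroup.mem_bot, commutatorElement_eq_one_iff_mul_comm] at h1
      exact h1
    have hex : ∃ χ₀ : IrrCharacter G, (χ₀ : G → ℂ) 1 ≠ 1 := by
      by_contra hcon
      push Not at hcon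
      have h1 := card_centralizer_of_vanish (1 : G) (fun χ hχ => absurd (hcon χ) hχ)
      have h2 : Subgroup.centralizer ({1} : Set G) = ⊤ := by
        apply top_unique
        intro g _
        rw [Subgroup.mem_centralizer_iff]
        intro m hm
        rw [Set.mem_singleton_iff] at hm
        rw [hm, one_mul, mul_one]
      rw [h2, Subgroup.card_top] at h1
      have h3 := (commutator G).card_mul_index
      rw [← h1] at h3
      have h4 : Nat.card (commutator G) = 1 := by
        have h5 : Nat.card (commutator G) * Nat.card G = 1 * Nat.card G := by rw [h3, one_mul]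
        exact Nat.eq_of_mul_eq_mul_right Nat.card_pos h5
      exact hab (Subgroup.card_eq_one.mp h4)
    obtain ⟨χ₀, hχ₀⟩ := hex
    obtain ⟨r, hr, hvan⟩ := hM.exists_prime χ₀ hχ₀
    have hV : CentHyp G r := by
      intro y hy q b hq hqr hyo
      exact card_centralizer_of_vanish y (fun χ hχ => hvan χ hχ y hy q b hq hqr hyo)
    by_cases hpg : IsPGroup r G
    · left; exact ⟨r, hr, hpg⟩
    right; right
    have : Fact r.Prime := ⟨hr⟩
    obtain ⟨P, A, hs⟩ := hV.structure r hpg hab
    exact ⟨r, ⟨hr⟩, P, A, hs⟩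
  · rintro (⟨p, hp, hG⟩ | hG | ⟨p, hp, P, A, hPn, hAc, -, hcop, hsup, hCc, hDn, hCD, -, hfpf⟩)
    · intro x y χ hx hy ⟨t, q, a, b, ht, hq, hne, hxo, hyo⟩
      exfalso
      have : Fact p.Prime := ⟨hp⟩
      have key : ∀ z : G, z ≠ 1 → ∀ s c : ℕ, s.Prime → orderOf z = s ^ c → s = p := by
        intro z hz s c hs hzo
        obtain ⟨k, hk⟩ := (IsPGroup.iff_orderOf.mp hG) z
        have hc0 : c ≠ 0 := by
          rintro rfl
          rw [pow_zero, orderOf_eq_one_iff] at hzo
          exact hz hzo
        have h1 : s ∣ p ^ k := by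
          rw [← hk, hzo]; exact dvd_pow_self s hc0
        exact (Nat.prime_dvd_prime_iff_eq hs hp).mp (hs.dvd_of_dvd_pow h1)
      exact hne ((key x hx t a ht hxo).trans (key y hy q b hq hyo).symm)
    · intro x y χ _ _ _
      exact Cfsg.Agent.Lib.Helper10.irr_mul_of_comm (fun a b => hG.is_comm.comm a b) χ.2 x y
    · have := hp
      exact multHyp_of_structure p P A hPn hAc hcop hsup hCc hDn hCD hfpf

end Cfsg.Agent.S4756
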