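import Cfsg.Statements.S4757
import Cfsg.Agent.Lib.Helper24.IrrFacts
import Cfsg.Agent.Lib.Helper24.PerfectLemmas
import Cfsg.Agent.Lib.Helper23.LinTwist
import Cfsg.Agent.Lib.Helper12.Cores

set_option autoImplicit false
open Cfsg

namespace Cfsg.Agent.S4757

open Cfsg Cfsg.Agent.CharLib Cfsg.Agent.Lib.Helper6 Cfsg.Agent.Lib.Helper24 Cfsg.Agent.Lib.Helper23
open scoped ComplexConjugate commutatorElement

universe u

/-- group theory: an element with centralizer of order 2 in an imperfect group -/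
theorem group_part {G : Type u} [Group G] [Finite G] (u : G) (hu : u ≠ 1)
    (hC : Nat.card (Subgroup.centralizer ({u} : Set G)) = 2) (hG : commutator G ≠ ⊤) :
    orderOf u = 2 ∧ Subgroup.zpowers u ⊔ Cfsg.oddCore G = ⊤ ∧
      Subgroup.centralizer ({u} : Set G) = Subgroup.zpowers u := by
  classical
  have hle : Subgroup.zpowers u ≤ Subgroup.centralizer ({u} : Set G) :=
    Subgroup.zpowers_le.mpr (Subgroup.mem_centralizer_singleton_iff.mpr rfl)
  have hdvd : orderOf u ∣ 2 := by
    rw [← Nat.card_zpowers, ← hC]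
    exact Subgroup.card_dvd_of_le hle
  have hord : orderOf u = 2 := by
    rcases (Nat.dvd_prime Nat.prime_two).mp hdvd with h | h
    · exact absurd (orderOf_eq_one_iff.mp h) hu
    · exact h
  have hCeq : Subgroup.centralizer ({u} : Set G) = Subgroup.zpowers u := by
    symm
    apply Subgroup.eq_of_le_of_card_ge hle
    rw [hC, Nat.card_zpowers, hord]
  have hu2 : u * u = 1 := by
    have := pow_orderOf_eq_one u
    rwa [hord, pow_two] at this
  have huinv : u⁻¹ = u := inv_eq_of_mul_eq_one_right hu2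
  -- conjugates of `u` are involutions
  have hconj_sq : ∀ y : G, IsConj y u → y * y = 1 := by
    intro y hy
    obtain ⟨k, hk⟩ := isConj_iff.mp hy
    have : y = k⁻¹ * u * k := by rw [← hk]; group
    rw [this]
    calc k⁻¹ * u * k * (k⁻¹ * u * k) = k⁻¹ * (u * u) * k := by group
      _ = 1 := by rw [hu2]; group
  have hconj_mem : ∀ y : G, IsConj y u → y * u ∈ commutator G := by
    intro y hy
    obtain ⟨k, hk⟩ := isConj_iff.mp hy
    have h1 : y = k⁻¹ * u * k := by rw [← hk]; group
    have : y * u = ⁅k⁻¹, u⁆ := by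
      rw [commutatorElement_def, huinv, h1, inv_inv]
    rw [this, commutator_def]
    exact Subgroup.commutator_mem_commutator (Subgroup.mem_top _) (Subgroup.mem_top _)
  -- counting
  have hcount := card_conj_mul_card_centralizer u
  rw [hC] at hcount
  let f : {y : G // IsConj y u} → ↥(commutator G) := fun y => ⟨y.1 * u, hconj_mem y.1 y.2⟩
  have hf : Function.Injective f := by
    intro a b hab
    have := congrArg Subtype.val hab
    simp only [f] at this
    exact Subtype.ext (mul_right_cancel this)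
  have hcard_le : Nat.card {y : G // IsConj y u} ≤ Nat.card ↥(commutator G) :=
    Nat.card_le_card_of_injective f hf
  have hidx := Subgroup.card_mul_index (commutator G)
  have hidx2 : 2 ≤ (commutator G).index := by
    have h1 : (commutator G).index ≠ 1 := fun h => hG (Subgroup.index_eq_one.mp h)
    have h0 : (commutator G).index ≠ 0 := Subgroup.index_ne_zero_of_finite
    omega
  have hcardeq : Nat.card ↥(commutator G) = Nat.card {y : G // IsConj y u} := by
    nlinarith
  have hindex : (commutator G).index = 2 := by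
    have hpos : 0 < Nat.card ↥(commutator G) := Nat.card_pos
    rw [← hcount, hcardeq] at hidx
    have := Nat.eq_of_mul_eq_mul_left (hcardeq ▸ hpos) hidx
    exact this
  have hbij : Function.Bijective f := hf.bijective_of_nat_card_le hcardeq.le
  -- `u ∉ G'`
  have hunot : u ∉ commutator G := by
    intro hmem
    obtain ⟨⟨y, hy⟩, hyu⟩ := hbij.2 ⟨u, hmem⟩
    have h1 : y * u = u := congrArg Subtype.val hyu
    have h2 : y = 1 := by
      have := mul_right_cancel (h1.trans (one_mul u).symm)
      exact this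
    rw [h2] at hy
    exact hu (isConj_one_right.mp hy)
  -- every element of `G'` is inverted by `u`
  have hinv : ∀ z ∈ commutator G, u * z * u⁻¹ = z⁻¹ := by
    intro z hz
    obtain ⟨⟨y, hy⟩, hyu⟩ := hbij.2 ⟨z, hz⟩
    have h1 : y * u = z := congrArg Subtype.val hyu
    have hy2 := hconj_sq y hy
    have hyinv : y⁻¹ = y := inv_eq_of_mul_eq_one_right hy2
    rw [← h1, mul_inv_rev, huinv, hyinv]
    rw [mul_assoc, mul_assoc, hu2, mul_one]
  -- `G'` has odd order
  have hodd : (Nat.card ↥(commutator G)).Coprime 2 := by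
    rw [Nat.coprime_comm, Nat.Prime.coprime_iff_not_dvd Nat.prime_two]
    intro h2
    have : Fact (Nat.Prime 2) := ⟨Nat.prime_two⟩
    obtain ⟨t, ht⟩ := exists_prime_orderOf_dvd_card' (G := ↥(commutator G)) 2 h2
    have ht1 : (t : G) ≠ 1 := by
      intro h
      have : t = 1 := Subtype.ext h
      rw [this, orderOf_one] at ht
      omega
    have ht2 : (t : G) * (t : G) = 1 := by
      have h := pow_orderOf_eq_one t
      rw [ht, pow_two] at h
      exact_mod_cast congrArg Subtype.val h
    have htinv : (t : G)⁻¹ = (t : G) := inv_eq_of_mul_eq_one_right ht2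
    have h3 := hinv (t : G) t.2
    rw [htinv] at h3
    have h4 : (t : G) ∈ Subgroup.centralizer ({u} : Set G) := by
      rw [Subgroup.mem_centralizer_singleton_iff]
      calc (t : G) * u = (u * (t : G) * u⁻¹) * u := by rw [h3]
        _ = u * (t : G) := by group
    rw [hCeq, Subgroup.mem_zpowers_iff] at h4
    obtain ⟨k, hk⟩ := h4
    have hk' : u ^ (k % 2) = (t : G) := by
      have h5 := zpow_mod_orderOf u k
      rw [hord] at h5
      push_cast at h5
      rw [h5]
      exact hk
    clear hk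
    rename' hk' => hk
    rcases Int.emod_two_eq_zero_or_one k with h | h
    · rw [h, zpow_zero] at hk
      exact ht1 hk.symm
    · rw [h, zpow_one] at hk
      exact hunot (hk ▸ t.2)
  have hGle : commutator G ≤ Cfsg.oddCore G :=
    Cfsg.Agent.Lib.Helper12.le_pPrimeCore 2 (commutator G) inferInstance hodd
  refine ⟨hord, ?_, hCeq⟩
  rw [eq_top_iff]
  intro g _
  by_cases hg : g ∈ commutator G
  · exact (le_sup_right : Cfsg.oddCore G ≤ _) (hGle hg)
  · have h1 : u⁻¹ * g ∈ commutator G := by
      rw [Subgroup.mul_mem_iff_of_index_two hindex]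
      constructor
      · intro h
        exact absurd ((commutator G).inv_mem_iff.mp h) hunot
      · intro h
        exact absurd h hg
    have h2 : g = u * (u⁻¹ * g) := by group
    rw [h2]
    exact Subgroup.mul_mem _ ((le_sup_left : Subgroup.zpowers u ≤ _) (Subgroup.mem_zpowers u))
      ((le_sup_right : Cfsg.oddCore G ≤ _) (hGle h1))

theorem pos_contra {G : Type u} [Group G] [Finite G] (u : G) (hu : u ≠ 1)
    (h : ∀ χ : IrrCharacter G, (χ : G → ℂ) ≠ (fun _ => (1 : ℂ)) →
      0 ≤ ((χ : G → ℂ) 1 * (χ : G → ℂ) u).re) : False := by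
  classical
  let _ := Fintype.ofFinite G
  let _ := fintypeIrr G
  have h0 := sum_irr_degree_mul u
  rw [if_neg hu] at h0
  have h1 := congrArg Complex.re h0
  rw [Complex.re_sum, Complex.zero_re] at h1
  have hnn : ∀ χ ∈ (Finset.univ : Finset (IrrCharacter G)),
      0 ≤ ((χ : G → ℂ) 1 * (χ : G → ℂ) u).re := by
    intro χ _
    by_cases hχ : (χ : G → ℂ) = (fun _ => (1 : ℂ))
    · rw [hχ]; simp
    · exact h χ hχ
  have h2 := (Finset.sum_eq_zero_iff_of_nonneg hnn).mp h1 (trivIrr G) (Finset.mem_univ _)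
  have h3 : ((trivIrr G : IrrCharacter G) : G → ℂ) = fun _ => 1 := rfl
  rw [h3] at h2
  simp at h2

theorem char_part {G : Type u} [Group G] [Finite G] (u : G) (hu : u ≠ 1) (c : ℂ)
    (hyp : ∀ χ : IrrCharacter G, (χ : G → ℂ) ≠ (fun _ => (1 : ℂ)) →
      ((χ : G → ℂ) 1 - (χ : G → ℂ) u = c ∨ (χ : G → ℂ) u = 0))
    (hG : commutator G ≠ ⊤) :
    c = 2 ∧ Nat.card (Subgroup.centralizer ({u} : Set G)) = 2 := by
  classical
  let _ := Fintype.ofFinite G
  let _ := fintypeIrr G
  have hc0 : c ≠ 0 := by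
    intro hc
    apply pos_contra u hu
    intro χ hχ
    rcases hyp χ hχ with h | h
    · rw [hc, sub_eq_zero] at h
      rw [← h, irr_apply_one χ, ← Nat.cast_mul, Complex.natCast_re]
      positivity
    · rw [h, mul_zero]; simp
  obtain ⟨φ, hφ⟩ : ∃ φ : G →* ℂˣ, φ ≠ 1 := by
    have hcard := card_hom_units (G := G)
    have h1 : (commutator G).index ≠ 1 := fun h => hG (Subgroup.index_eq_one.mp h)
    have h0 : (commutator G).index ≠ 0 := Subgroup.index_ne_zero_of_finite
    have hlt : 1 < Nat.card (G →* ℂˣ) := by omega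
    have : Finite (G →* ℂˣ) := Nat.finite_of_card_ne_zero (by omega)
    have := Finite.one_lt_card_iff_nontrivial.mp hlt
    exact exists_ne 1
  have hval : ∀ ψ : G →* ℂˣ, ψ ≠ 1 → 1 - ((ψ u : ℂˣ) : ℂ) = c := by
    intro ψ hψ
    have hne : ((lin ψ : IrrCharacter G) : G → ℂ) ≠ fun _ => 1 := by
      intro h
      apply hψ
      ext g
      have := congrFun h g
      rw [lin_apply] at this
      simpa using this
    rcases hyp (lin ψ) hne with h | h
    · rw [lin_apply, lin_apply, map_one, Units.val_one] at h; exact h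
    · rw [lin_apply] at h; exact absurd h (Units.ne_zero _)
  have hφu := hval φ hφ
  have hφ2 : φ * φ = 1 := by
    by_contra h
    have h2 := hval (φ * φ) h
    rw [MonoidHom.mul_apply, Units.val_mul] at h2
    have ha : ((φ u : ℂˣ) : ℂ) ≠ 0 := Units.ne_zero _
    have h3 : ((φ u : ℂˣ) : ℂ) * ((φ u : ℂˣ) : ℂ) = 1 * ((φ u : ℂˣ) : ℂ) := by
      have := h2.trans hφu.symm
      linear_combination -this
    have h1 : ((φ u : ℂˣ) : ℂ) = 1 := mul_right_cancel₀ ha h3
    apply hc0
    rw [← hφu, h1, sub_self]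
  have hsq : ∀ g : G, ((φ g : ℂˣ) : ℂ) * ((φ g : ℂˣ) : ℂ) = 1 := by
    intro g
    have := congrArg (fun ψ : G →* ℂˣ => ((ψ g : ℂˣ) : ℂ)) hφ2
    simpa using this
  have hφu2 : ((φ u : ℂˣ) : ℂ) = -1 := by
    have h1 := hsq u
    have h2 : (((φ u : ℂˣ) : ℂ) - 1) * (((φ u : ℂˣ) : ℂ) + 1) = 0 := by linear_combination h1
    rcases mul_eq_zero.mp h2 with h | h
    · exfalso; apply hc0; rw [← hφu]; linear_combination -h
    · linear_combination h
  have hc2 : c = 2 := by rw [← hφu, hφu2]; norm_num
  refine ⟨hc2, ?_⟩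
  have hvan : ∀ χ : IrrCharacter G, χ ≠ trivIrr G → χ ≠ lin φ → (χ : G → ℂ) u = 0 := by
    intro χ h1 h2
    have hχ1 : (χ : G → ℂ) ≠ fun _ => 1 := fun h => h1 (Subtype.ext h)
    have htw : ((twist φ χ : IrrCharacter G) : G → ℂ) ≠ fun _ => 1 := by
      intro h
      apply h2
      apply Subtype.ext
      funext g
      have hg := congrFun h g
      rw [twist_apply] at hg
      rw [lin_apply]
      have ha : ((φ g : ℂˣ) : ℂ) ≠ 0 := Units.ne_zero _
      exact mul_left_cancel₀ ha (hg.trans (hsq g).symm)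
    by_contra hne
    have hA := (hyp χ hχ1).resolve_right hne
    rcases hyp (twist φ χ) htw with h | h
    · rw [twist_apply, twist_apply, map_one, Units.val_one, one_mul, hφu2, hc2] at h
      rw [hc2] at hA
      apply hne
      linear_combination (h - hA) / 2
    · rw [twist_apply, hφu2] at h
      apply hne
      linear_combination -h
  have horth := sum_irr_mul_conj u u
  have hci : classIndicator u u = 1 := by
    unfold classIndicator
    rw [if_pos (IsConj.refl u)]
  rw [hci, one_mul] at horth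
  have hne : trivIrr G ≠ lin φ := by
    intro h
    apply hφ
    ext g
    have := congrFun (congrArg Subtype.val h) g
    change (1 : ℂ) = ((φ g : ℂˣ) : ℂ) at this
    simpa using this.symm
  have hsum : ∑ χ : IrrCharacter G, (χ : G → ℂ) u * conj ((χ : G → ℂ) u) = 1 + 1 := by
    rw [Finset.sum_eq_add (trivIrr G) (lin φ) hne]
    · rw [lin_apply, hφu2]
      change (1 : ℂ) * conj (1 : ℂ) + _ = _
      simp
    · intro χ _ ⟨h1, h2⟩
      rw [hvan χ h1 h2, zero_mul]
    · intro h; exact absurd (Finset.mem_univ _) h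
    · intro h; exact absurd (Finset.mem_univ _) h
  rw [hsum] at horth
  have : (Nat.card (Subgroup.centralizer ({u} : Set G)) : ℂ) = 2 := by rw [← horth]; norm_num
  exact_mod_cast this

theorem not_perfect_of_two {G : Type u} [Group G] [Finite G] (u : G) (hu : u ≠ 1)
    (hyp : ∀ χ : IrrCharacter G, (χ : G → ℂ) ≠ (fun _ => (1 : ℂ)) →
      ((χ : G → ℂ) 1 - (χ : G → ℂ) u = 2 ∨ (χ : G → ℂ) u = 0)) :
    commutator G ≠ ⊤ := by
  intro hperf
  apply pos_contra u hu
  intro χ hχ
  rcases hyp χ hχ with h | h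
  · have hd : 2 ≤ charDegree (χ : G → ℂ) := by
      by_contra hlt
      have hpos := irr_charDegree_pos χ
      have h1 : charDegree (χ : G → ℂ) = 1 := by omega
      obtain ⟨φ, hφ⟩ := exists_lin_eq χ h1
      apply hχ
      rw [← hφ]
      funext g
      rw [lin_apply]
      have := hom_eq_one_of_perfect hperf φ (fun a b => mul_comm _ _) g
      rw [this, Units.val_one]
    have hu' : (χ : G → ℂ) u = (χ : G → ℂ) 1 - 2 := by linear_combination -h
    rw [hu', irr_apply_one χ]
    have h5 : ((charDegree (χ : G → ℂ) : ℂ) * ((charDegree (χ : G → ℂ) : ℂ) - 2)) =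
        (((charDegree (χ : G → ℂ) : ℝ) * ((charDegree (χ : G → ℂ) : ℝ) - 2) : ℝ) : ℂ) := by
      push_cast; ring
    rw [h5, Complex.ofReal_re]
    have h6 : (2 : ℝ) ≤ (charDegree (χ : G → ℂ) : ℝ) := by exact_mod_cast hd
    nlinarith
  · rw [h, mul_zero]; simp

theorem imperfect_of_structure {G : Type u} [Group G] [Finite G] (u : G) (h1 : orderOf u = 2)
    (h2 : Subgroup.zpowers u ⊔ Cfsg.oddCore G = ⊤) : commutator G ≠ ⊤ := by
  intro hperf
  have hchar := Cfsg.Agent.Lib.Helper12.pPrimeCore_characteristic (G := G) 2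
  have hK : (Cfsg.oddCore G).Normal := Subgroup.normal_of_characteristic _
  let π := QuotientGroup.mk' (Cfsg.oddCore G)
  have hz : ∀ x : G ⧸ Cfsg.oddCore G, x ∈ Subgroup.zpowers (π u) := by
    intro x
    obtain ⟨g, rfl⟩ := QuotientGroup.mk'_surjective _ x
    have hg : g ∈ ((Subgroup.zpowers u ⊔ Cfsg.oddCore G : Subgroup G) : Set G) := by
      rw [h2]; exact Set.mem_univ g
    rw [Subgroup.mul_normal] at hg
    obtain ⟨a, ha, k, hk, rfl⟩ := Set.mem_mul.mp hg
    obtain ⟨i, rfl⟩ := Subgroup.mem_zpowers_iff.mp ha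
    rw [map_mul, map_zpow]
    have : π k = 1 := (QuotientGroup.eq_one_iff k).mpr hk
    rw [this, mul_one]
    exact Subgroup.zpow_mem_zpowers _ i
  have hcomm : ∀ a b : G, π a * π b = π b * π a := by
    intro a b
    obtain ⟨i, hi⟩ := Subgroup.mem_zpowers_iff.mp (hz (π a))
    obtain ⟨j, hj⟩ := Subgroup.mem_zpowers_iff.mp (hz (π b))
    rw [← hi, ← hj]
    exact ((Commute.refl (π u)).zpow_zpow i j).eq
  have hall : ∀ g : G, g ∈ Cfsg.oddCore G := by
    intro g
    have := hom_eq_one_of_perfect hperf π hcomm g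
    exact (QuotientGroup.eq_one_iff g).mp this
  have htop : Cfsg.oddCore G = ⊤ := by
    rw [eq_top_iff]; intro g _; exact hall g
  have hcop := Cfsg.Agent.Lib.Helper12.pPrimeCore_coprime (X := G) 2
  rw [show Cfsg.pPrimeCore 2 G = Cfsg.oddCore G from rfl, htop, Subgroup.card_top] at hcop
  have hdvd : 2 ∣ Nat.card G := h1 ▸ orderOf_dvd_natCard u
  have := Nat.Coprime.eq_one_of_dvd hcop.symm hdvd
  omega

theorem result' {G : Type u} [Group G] [Finite G] (u : G) (hu : u ≠ 1) (c : ℂ) (hyp : ∀ χ : Cfsg.IrrCharacter G, (χ : G → ℂ) ≠ (fun _ => (1 : ℂ)) → ((χ : G → ℂ) 1 - (χ : G → ℂ) u = c ∨ (χ : G → ℂ) u = 0)) : ((orderOf u = 2 ∧ Subgroup.zpowers u ⊔ Cfsg.oddCore G = ⊤ ∧ Subgroup.centralizer ({u} : Set G) = Subgroup.zpowers u) ↔ commutator G ≠ ⊤) ∧ (commutator G ≠ ⊤ ↔ c = 2) := by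
  have hA := char_part u hu c hyp
  refine ⟨⟨fun ⟨h1, h2, _⟩ => imperfect_of_structure u h1 h2,
    fun h => group_part u hu (hA h).2 h⟩, ⟨fun h => (hA h).1, fun h => ?_⟩⟩
  subst h
  exact not_perfect_of_two u hu hyp

/-- Let u ≠ 1 be an element of the finite group G and c a complex number such that every non-principal irreducible character χ satisfies χ(1) − χ(u) = c or χ(u) = 0. Then the following are equivalent: (a) u has order 2, G is generated by u together with O(G), the largest normal subgroup of G of odd order, and the centralizer of u is {1, u}; (b) G is not perfect; (c) c = 2. -/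
theorem result {G : Type*} [Group G] [Finite G] (u : G) (hu : u ≠ 1) (c : ℂ) (hyp : ∀ χ : Cfsg.IrrCharacter G, (χ : G → ℂ) ≠ (fun _ => (1 : ℂ)) → ((χ : G → ℂ) 1 - (χ : G → ℂ) u = c ∨ (χ : G → ℂ) u = 0)) : ((orderOf u = 2 ∧ Subgroup.zpowers u ⊔ Cfsg.oddCore G = ⊤ ∧ Subgroup.centralizer ({u} : Set G) = Subgroup.zpowers u) ↔ commutator G ≠ ⊤) ∧ (commutator G ≠ ⊤ ↔ c = 2) := by
  exact result' u hu c hyp

end Cfsg.Agent.S4757
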