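import Cfsg.Statements.S4762
import Mathlib
import Cfsg.Agent.Lib.Helper24.IrrFacts
import Cfsg.Agent.Lib.Helper24.PerfectLemmas
import Cfsg.Agent.Lib.Helper6.LinChar
import Cfsg.Agent.Lib.Helper6.CentralHom
import Cfsg.Agent.Lib.Lead.CharProd
import Cfsg.Agent.Lib.Lead.CharOrtho
import Cfsg.Agent.Lib.Lead.CharDecomp
import Cfsg.Agent.Lib.Lead.CharMore
import Cfsg.Agent.Lib.Helper4.Carter1
import Cfsg.Agent.Lib.Helper1.PGroup
import Cfsg.Agent.Lib.Helper16.Frattini

set_option autoImplicit false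
open Cfsg

namespace Cfsg.Agent.S4762

open Cfsg.Agent.CharLib Cfsg.Agent.Lib.Helper24 Cfsg.Agent.Lib.Helper6
open scoped ComplexConjugate commutatorElement

universe u

variable {G : Type u} [Group G]

/-- `Σ |χ(g)|² = |G|` for irreducible `χ`. -/
theorem sum_norm_sq [Fintype G] (χ : IrrCharacter G) :
    ∑ g : G, ‖(χ : G → ℂ) g‖ ^ 2 = (Fintype.card G : ℝ) := by
  have h := classInner_irr' χ χ
  rw [if_pos rfl] at h
  unfold classInner at h
  have hne : (Nat.card G : ℂ) ≠ 0 := by
    exact_mod_cast Nat.card_pos.ne'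
  have h2 : ∑ g : G, (χ : G → ℂ) g * conj ((χ : G → ℂ) g) = (Nat.card G : ℂ) := by
    field_simp at h
    exact h
  have h3 : ∀ g : G, (χ : G → ℂ) g * conj ((χ : G → ℂ) g) = ((‖(χ : G → ℂ) g‖ ^ 2 : ℝ) : ℂ) := by
    intro g
    rw [Complex.mul_conj, Complex.normSq_eq_norm_sq]
  simp only [h3] at h2
  rw [← Complex.ofReal_sum] at h2
  rw [Nat.card_eq_fintype_card] at h2
  exact_mod_cast h2

/-- on the centre the absolute value is the degree. -/
theorem norm_center [Finite G] (χ : IrrCharacter G) (z : G) (hz : z ∈ Subgroup.center G) :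
    ‖(χ : G → ℂ) z‖ = (charDegree (χ : G → ℂ) : ℝ) := by
  obtain ⟨c, hc1, hc2⟩ := IsIrrCharacter.exists_central_hom χ.2
  have h := hc1 ⟨z, hz⟩ 1
  rw [mul_one] at h
  rw [h, norm_mul, hc2, one_mul, irr_apply_one χ]
  simp

/-- `|Z(G)| χ(1)² ≤ |G|`. -/
theorem center_bound [Fintype G] (χ : IrrCharacter G) :
    Nat.card (Subgroup.center G) * charDegree (χ : G → ℂ) ^ 2 ≤ Fintype.card G := by
  classical
  have h := sum_norm_sq χ
  have h1 : ∑ g : G, (if g ∈ Subgroup.center G then ((charDegree (χ : G → ℂ) : ℝ)) ^ 2 else 0) ≤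
      ∑ g : G, ‖(χ : G → ℂ) g‖ ^ 2 := by
    apply Finset.sum_le_sum
    intro g _
    split_ifs with hg
    · rw [norm_center χ g hg]
    · positivity
  rw [h, ← Finset.sum_filter, Finset.sum_const, nsmul_eq_mul] at h1
  have h2 : (Finset.univ.filter (fun g : G => g ∈ Subgroup.center G)).card =
      Nat.card (Subgroup.center G) := by
    rw [Nat.card_eq_fintype_card, Fintype.card_subtype]
  rw [h2] at h1
  exact_mod_cast h1

/-- the degree equation: `[G:G'] + Σ_{nonlinear} χ(1)² = |G|`. -/
theorem count_split [Fintype G] [Fintype (IrrCharacter G)] :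
    (commutator G).index + ∑ χ ∈ Finset.univ.filter
      (fun χ : IrrCharacter G => charDegree (χ : G → ℂ) ≠ 1), charDegree (χ : G → ℂ) ^ 2 =
      Fintype.card G := by
  classical
  have h := sum_charDegree_sq (G := G)
  rw [← Finset.sum_filter_add_sum_filter_not Finset.univ
    (fun χ : IrrCharacter G => charDegree (χ : G → ℂ) = 1)] at h
  have h1 : ∑ χ ∈ Finset.univ.filter (fun χ : IrrCharacter G => charDegree (χ : G → ℂ) = 1),
      charDegree (χ : G → ℂ) ^ 2 = (commutator G).index := by
    rw [← card_linear_irr (G := G)]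
    have h2 : ∀ χ ∈ Finset.univ.filter (fun χ : IrrCharacter G => charDegree (χ : G → ℂ) = 1),
        charDegree (χ : G → ℂ) ^ 2 = 1 := by
      intro χ hχ
      rw [(Finset.mem_filter.mp hχ).2, one_pow]
    rw [Finset.sum_congr rfl h2, Finset.sum_const, smul_eq_mul, mul_one]
    have h3 : Nat.card {χ : IrrCharacter G // (χ : G → ℂ) 1 = 1} =
        Nat.card {χ : IrrCharacter G // charDegree (χ : G → ℂ) = 1} := by
      apply Nat.card_congr
      apply Equiv.subtypeEquivRight
      intro χ
      rw [irr_apply_one χ]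
      exact_mod_cast Iff.rfl
    rw [h3, Nat.card_eq_fintype_card, Fintype.card_subtype]
  rw [h1] at h
  exact h

/-- in a `p`-group, `p` divides the degree iff the degree is not one. -/
theorem dvd_degree_iff [Finite G] {p : ℕ} [hp : Fact p.Prime] (hG : IsPGroup p G)
    (χ : IrrCharacter G) : p ∣ charDegree (χ : G → ℂ) ↔ charDegree (χ : G → ℂ) ≠ 1 := by
  constructor
  · intro h h1
    rw [h1] at h
    exact hp.out.one_lt.ne' (Nat.dvd_one.mp h)
  · intro h
    obtain ⟨n, hn⟩ := IsPGroup.iff_card.mp hG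
    have h1 := irr_charDegree_dvd_card χ
    rw [hn] at h1
    obtain ⟨j, -, hj⟩ := (Nat.dvd_prime_pow hp.out).mp h1
    rw [hj]
    apply dvd_pow_self
    rintro rfl
    exact h (by rw [hj, pow_zero])

/-- in an extraspecial 2-group every nonlinear irreducible character has `2 χ(1)² = |G|`. -/
theorem extraspecial_degree [Fintype G] (hE : IsExtraspecial 2 G) (χ : IrrCharacter G)
    (hχ : charDegree (χ : G → ℂ) ≠ 1) : 2 * charDegree (χ : G → ℂ) ^ 2 = Fintype.card G := by
  classical
  obtain ⟨⟨hpG, hΦZ, hG'Z⟩, hZ2⟩ := hE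
  -- a commutator not in the kernel
  have h1 : ¬ ∀ g k : G, (χ : G → ℂ) ⁅g, k⁆ = (χ : G → ℂ) 1 := by
    intro h
    have := IsIrrCharacter.apply_one_eq_one_of_commutator χ.2 h
    rw [irr_apply_one χ] at this
    exact hχ (by exact_mod_cast this)
  push Not at h1
  obtain ⟨g0, k0, hgk⟩ := h1
  set z0 : G := ⁅g0, k0⁆ with hz0
  have hz0Z : z0 ∈ Subgroup.center G := by
    rw [← hG'Z, commutator_def]
    exact Subgroup.commutator_mem_commutator (Subgroup.mem_top _) (Subgroup.mem_top _)
  have hz01 : z0 ≠ 1 := by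
    intro h
    rw [h] at hgk
    exact hgk rfl
  -- the centre is {1, z0}
  have hZ : ∀ z ∈ Subgroup.center G, z ≠ 1 → z = z0 := by
    intro z hz hz1
    obtain ⟨y, -, hy⟩ := (Nat.card_eq_two_iff' (1 : Subgroup.center G)).mp hZ2
    have e1 : (⟨z, hz⟩ : Subgroup.center G) = y := hy _ (by
      intro h; exact hz1 (congrArg Subtype.val h))
    have e2 : (⟨z0, hz0Z⟩ : Subgroup.center G) = y := hy _ (by
      intro h; exact hz01 (congrArg Subtype.val h))
    exact congrArg Subtype.val (e1.trans e2.symm)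
  obtain ⟨c, hc1, hc2⟩ := IsIrrCharacter.exists_central_hom χ.2
  have hcz0 : c ⟨z0, hz0Z⟩ = -1 := by
    have hsq : c ⟨z0, hz0Z⟩ ^ 2 = 1 := by
      rw [← map_pow, ← hZ2, pow_card_eq_one', map_one]
    have hne : c ⟨z0, hz0Z⟩ ≠ 1 := by
      intro h
      have := hc1 ⟨z0, hz0Z⟩ 1
      rw [h, one_mul, mul_one] at this
      exact hgk this
    rw [pow_two] at hsq
    rcases mul_self_eq_one_iff.mp hsq with h | h
    · exact absurd h hne
    · exact h
  -- vanishing off the centre
  have hvan : ∀ g : G, g ∉ Subgroup.center G → (χ : G → ℂ) g = 0 := by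
    intro g hg
    rw [Subgroup.mem_center_iff] at hg
    push Not at hg
    obtain ⟨h, hh⟩ := hg
    have hw : ⁅h, g⁆ ∈ Subgroup.center G := by
      rw [← hG'Z, commutator_def]
      exact Subgroup.commutator_mem_commutator (Subgroup.mem_top _) (Subgroup.mem_top _)
    have hw1 : ⁅h, g⁆ ≠ 1 := by
      intro h1
      rw [commutatorElement_eq_one_iff_mul_comm] at h1
      exact hh h1
    have hw2 := hZ _ hw hw1
    have e1 : h * g * h⁻¹ = z0 * g := by
      rw [← hw2, commutatorElement_def]; group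
    have e2 : (χ : G → ℂ) (h * g * h⁻¹) = (χ : G → ℂ) g :=
      IsCharacter.isClassFunction (IsIrrCharacter.isCharacter χ.2) g h
    have e3 := hc1 ⟨z0, hz0Z⟩ g
    rw [hcz0] at e3
    change (χ : G → ℂ) (z0 * g) = _ at e3
    rw [← e1, e2] at e3
    have : (2 : ℂ) * (χ : G → ℂ) g = 0 := by linear_combination e3
    rcases mul_eq_zero.mp this with h | h
    · norm_num at h
    · exact h
  have h := sum_norm_sq χ
  have h2 : ∑ g : G, ‖(χ : G → ℂ) g‖ ^ 2 =
      ∑ g : G, (if g ∈ Subgroup.center G then ((charDegree (χ : G → ℂ) : ℝ)) ^ 2 else 0) := by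
    apply Finset.sum_congr rfl
    intro g _
    split_ifs with hg
    · rw [norm_center χ g hg]
    · rw [hvan g hg]; simp
  rw [h2, ← Finset.sum_filter, Finset.sum_const, nsmul_eq_mul] at h
  have h3 : (Finset.univ.filter (fun g : G => g ∈ Subgroup.center G)).card =
      Nat.card (Subgroup.center G) := by
    rw [Nat.card_eq_fintype_card, Fintype.card_subtype]
  rw [h3, hZ2] at h
  exact_mod_cast h

theorem backward [Finite G] (hE : IsExtraspecial 2 G) :
    Nat.card {χ : Cfsg.IrrCharacter G // 2 ∣ Cfsg.charDegree (χ : G → ℂ)} = 1 := by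
  classical
  let _ := Fintype.ofFinite G
  let _ := fintypeIrr G
  have hpG : IsPGroup 2 G := hE.1.1
  have hcs := count_split (G := G)
  have hdeg : ∀ χ ∈ Finset.univ.filter
      (fun χ : IrrCharacter G => charDegree (χ : G → ℂ) ≠ 1),
      charDegree (χ : G → ℂ) ^ 2 = Fintype.card G / 2 := by
    intro χ hχ
    have := extraspecial_degree hE χ (Finset.mem_filter.mp hχ).2
    omega
  rw [Finset.sum_congr rfl hdeg, Finset.sum_const, smul_eq_mul] at hcs
  have hidx : (commutator G).index * 2 = Fintype.card G := by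
    have := (commutator G).card_mul_index
    have hc : Nat.card (commutator G) = 2 := by rw [hE.1.2.2]; exact hE.2
    rw [hc, Nat.card_eq_fintype_card] at this
    rw [mul_comm]; exact this
  have hpos : 0 < Fintype.card G := Fintype.card_pos
  have hk : (Finset.univ.filter
      (fun χ : IrrCharacter G => charDegree (χ : G → ℂ) ≠ 1)).card = 1 := by
    set k := (Finset.univ.filter
      (fun χ : IrrCharacter G => charDegree (χ : G → ℂ) ≠ 1)).card
    set N := Fintype.card G
    set L := (commutator G).index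
    have hN2 : N / 2 = L := by omega
    rw [hN2] at hcs
    have : L + k * L = L * 2 := by rw [hcs, hidx]
    have hL : 0 < L := by omega
    nlinarith
  have hfac : Fact (Nat.Prime 2) := ⟨Nat.prime_two⟩
  rw [Nat.card_eq_fintype_card, Fintype.card_subtype, ← hk]
  congr 1
  apply Finset.filter_congr
  intro χ _
  exact dvd_degree_iff hpG χ

/-- a normal subgroup of order two is central. -/
theorem le_center_of_card_two (N : Subgroup G) [hN : N.Normal] (h2 : Nat.card N = 2) :
    N ≤ Subgroup.center G := by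
  intro c hc
  rw [Subgroup.mem_center_iff]
  intro g
  by_cases hc1 : c = 1
  · rw [hc1, mul_one, one_mul]
  obtain ⟨y, -, hy⟩ := (Nat.card_eq_two_iff' (1 : N)).mp h2
  have e1 : (⟨c, hc⟩ : N) = y := hy _ (by
    intro h; exact hc1 (congrArg Subtype.val h))
  have hgc : g * c * g⁻¹ ∈ N := hN.conj_mem c hc g
  have e2 : (⟨g * c * g⁻¹, hgc⟩ : N) = y := hy _ (by
    intro h
    have h' : g * c * g⁻¹ = 1 := congrArg Subtype.val h
    apply hc1
    have : c = g⁻¹ * (g * c * g⁻¹) * g := by group
    rw [this, h']; group)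
  have h3 : g * c * g⁻¹ = c := congrArg Subtype.val (e2.trans e1.symm)
  calc g * c = (g * c * g⁻¹) * g := by group
    _ = c * g := by rw [h3]

theorem forward_pgroup [Finite G] (p : ℕ) [hp : Fact p.Prime] (hG : IsPGroup p G)
    (h1 : Nat.card {χ : Cfsg.IrrCharacter G // p ∣ Cfsg.charDegree (χ : G → ℂ)} = 1) :
    p = 2 ∧ Cfsg.IsExtraspecial 2 G := by
  classical
  let _ := Fintype.ofFinite G
  let _ := fintypeIrr G
  have hcs := count_split (G := G)
  have hfilt : Finset.univ.filter (fun χ : IrrCharacter G => charDegree (χ : G → ℂ) ≠ 1) =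
      Finset.univ.filter (fun χ : IrrCharacter G => p ∣ charDegree (χ : G → ℂ)) := by
    apply Finset.filter_congr
    intro χ _
    exact (dvd_degree_iff hG χ).symm
  rw [Nat.card_eq_fintype_card, Fintype.card_subtype] at h1
  obtain ⟨χ0, hχ0⟩ := Finset.card_eq_one.mp h1
  rw [hfilt, hχ0, Finset.sum_singleton] at hcs
  have hχ0p : p ∣ charDegree (χ0 : G → ℂ) := by
    have : χ0 ∈ Finset.univ.filter (fun χ : IrrCharacter G => p ∣ charDegree (χ : G → ℂ)) := by
      rw [hχ0]; exact Finset.mem_singleton_self _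
    exact (Finset.mem_filter.mp this).2
  obtain ⟨n, hn⟩ := IsPGroup.iff_card.mp hG
  rw [Nat.card_eq_fintype_card] at hn
  -- orders
  have hci := (commutator G).card_mul_index
  rw [Nat.card_eq_fintype_card (α := G), hn] at hci
  obtain ⟨i, -, hi⟩ := (Nat.dvd_prime_pow hp.out).mp (Dvd.intro _ hci)
  obtain ⟨l, -, hl⟩ := (Nat.dvd_prime_pow hp.out).mp (Dvd.intro_left _ hci)
  have hd := irr_charDegree_dvd_card χ0
  rw [Nat.card_eq_fintype_card, hn] at hd
  obtain ⟨j, -, hj⟩ := (Nat.dvd_prime_pow hp.out).mp hd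
  have hj0 : j ≠ 0 := by
    rintro rfl
    rw [hj, pow_zero] at hχ0p
    exact hp.out.one_lt.ne' (Nat.dvd_one.mp hχ0p)
  rw [hi, hl] at hci
  rw [hl, hj, hn, ← hci] at hcs
  -- p^l + (p^j)^2 = p^i * p^l
  have hppos : 0 < p := hp.out.pos
  have hi0 : i ≠ 0 := by
    rintro rfl
    rw [pow_zero, one_mul] at hcs
    have : 0 < (p ^ j) ^ 2 := by positivity
    omega
  have hkey : (p ^ j) ^ 2 = p ^ l * (p ^ i - 1) := by
    have h1le : 1 ≤ p ^ i := Nat.one_le_pow _ _ hppos
    rw [Nat.mul_sub, mul_one]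
    have : p ^ l * p ^ i = p ^ i * p ^ l := mul_comm _ _
    omega
  have hcop : Nat.Coprime (p ^ i - 1) ((p ^ j) ^ 2) := by
    apply Nat.Coprime.pow_right
    apply Nat.Coprime.pow_right
    apply Nat.Coprime.symm
    rw [Nat.Prime.coprime_iff_not_dvd hp.out]
    intro hdvd
    have h1le : 1 ≤ p ^ i := Nat.one_le_pow _ _ hppos
    have h2 : p ∣ p ^ i := dvd_pow_self p hi0
    have h3 : p ∣ p ^ i - (p ^ i - 1) := Nat.dvd_sub h2 hdvd
    have h4 : p ^ i - (p ^ i - 1) = 1 := by omega
    rw [h4] at h3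
    exact hp.out.one_lt.ne' (Nat.dvd_one.mp h3)
  have hone : p ^ i - 1 = 1 := hcop.eq_one_of_dvd (Dvd.intro_left _ hkey.symm)
  have hpi2 : p ^ i = 2 := by
    have h1le : 1 ≤ p ^ i := Nat.one_le_pow _ _ hppos
    omega
  have hp2 : p = 2 := by
    have h2 : p ∣ 2 := by rw [← hpi2]; exact dvd_pow_self p hi0
    exact (Nat.prime_dvd_prime_iff_eq hp.out Nat.prime_two).mp h2
  subst hp2
  refine ⟨rfl, ?_⟩
  have hG'2 : Nat.card (commutator G) = 2 := by rw [hi, hpi2]
  have hG'Z : commutator G ≤ Subgroup.center G := le_center_of_card_two _ hG'2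
  -- degree squared is |G|/2
  have hdeg : 2 * charDegree (χ0 : G → ℂ) ^ 2 = Fintype.card G := by
    rw [hj, hn, ← hci, hpi2, hkey, hone, mul_one]
  have hZle : Nat.card (Subgroup.center G) ≤ 2 := by
    have hb := center_bound χ0
    rw [← hdeg] at hb
    have hpos : 0 < charDegree (χ0 : G → ℂ) ^ 2 := by
      have := irr_charDegree_pos χ0
      positivity
    exact Nat.le_of_mul_le_mul_right hb hpos
  have hZeq : commutator G = Subgroup.center G := by
    apply Subgroup.eq_of_le_of_card_ge hG'Z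
    rw [hG'2]; exact hZle
  have hZ2 : Nat.card (Subgroup.center G) = 2 := by rw [← hZeq]; exact hG'2
  refine ⟨⟨hG, ?_, hZeq⟩, hZ2⟩
  rw [← hZeq]
  apply le_antisymm
  · -- frattini ≤ commutator
    have hsq : ∀ g : G, g ^ 2 ∈ commutator G := by
      intro g
      rw [hZeq, Subgroup.mem_center_iff]
      intro h
      -- c = g⁻¹ h⁻¹ g h central of square one
      have hc : ⁅g⁻¹, h⁻¹⁆ ∈ Subgroup.center G := by
        apply hG'Z
        rw [commutator_def]
        exact Subgroup.commutator_mem_commutator (Subgroup.mem_top _) (Subgroup.mem_top _)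
      have hc2 : ⁅g⁻¹, h⁻¹⁆ ^ 2 = 1 := by
        have hmem : ⁅g⁻¹, h⁻¹⁆ ∈ commutator G := by
          rw [commutator_def]
          exact Subgroup.commutator_mem_commutator (Subgroup.mem_top _) (Subgroup.mem_top _)
        have := pow_card_eq_one' (G := commutator G) (x := ⟨_, hmem⟩)
        rw [hG'2] at this
        exact congrArg Subtype.val this
      rw [Subgroup.mem_center_iff] at hc
      have e1 : h⁻¹ * g * h = g * ⁅g⁻¹, h⁻¹⁆ := by rw [commutatorElement_def]; group
      rw [pow_two] at hc2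
      generalize ⁅g⁻¹, h⁻¹⁆ = c at hc hc2 e1
      have e2 : h⁻¹ * (g * g) * h = g * g := by
        calc h⁻¹ * (g * g) * h = (h⁻¹ * g * h) * (h⁻¹ * g * h) := by group
          _ = g * c * (g * c) := by rw [e1]
          _ = g * (c * g) * c := by simp only [mul_assoc]
          _ = g * (g * c) * c := by rw [← hc g]
          _ = g * g * (c * c) := by simp only [mul_assoc]
          _ = g * g := by rw [hc2, mul_one]
      rw [pow_two]
      calc h * (g * g) = h * (h⁻¹ * (g * g) * h) := by rw [e2]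
        _ = g * g * h := by group
    have hfac : Fact (Nat.Prime 2) := ⟨Nat.prime_two⟩
    have := Cfsg.Agent.Lib.Helper16.frattini_le_ker (p := 2) (P := G) (E := Abelianization G)
      (fun e => by
        obtain ⟨g, rfl⟩ := QuotientGroup.mk_surjective (s := commutator G) e
        change Abelianization.of g ^ 2 = 1
        rw [← map_pow, ← MonoidHom.mem_ker, Abelianization.ker_of]
        exact hsq g)
      (Abelianization.of)
    rwa [Abelianization.ker_of] at this
  · exact Cfsg.Agent.Lib.Helper1.IsPGroup.commutator_le_frattini hG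

/-- a finite nilpotent group is the product of a `p`-group and a `p'`-group. -/
theorem exists_prod_decomp [Finite G] [hnil : Group.IsNilpotent G] (p : ℕ) [hp : Fact p.Prime] :
    ∃ (P Q : Subgroup G) (_ : P.Normal) (_ : Q.Normal) (_ : G ≃* (G ⧸ Q) × (G ⧸ P)),
      IsPGroup p (G ⧸ Q) ∧ ¬ p ∣ Nat.card (G ⧸ P) := by
  classical
  let P : Sylow p G := default
  have hall := (Group.isNilpotent_of_finite_tfae (G := G)).out 0 3 |>.mp hnil
  have hPn : (P : Subgroup G).Normal := hall p inferInstance P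
  have hsol : Group.IsSolvable G := inferInstance
  obtain ⟨Q, hQp, hQi⟩ := Cfsg.Agent.Lib.Helper4.exists_pcomplement (G := G) p hp.out
  have hQhall : (Nat.card Q).Coprime Q.index := by
    rw [hQi]
    exact ((Nat.Prime.coprime_iff_not_dvd hp.out).mpr hQp).symm.pow_right _
  have hQn : Q.Normal := Cfsg.Agent.Lib.Helper4.hall_normal_of_nilpotent hnil Q hQhall
  have hPcard : Nat.card (P : Subgroup G) = p ^ (Nat.card G).factorization p :=
    P.card_eq_multiplicity
  have hdis : Disjoint (P : Subgroup G) Q := by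
    apply Subgroup.disjoint_of_coprime_natCard
    rw [hPcard]
    exact ((Nat.Prime.coprime_iff_not_dvd hp.out).mpr hQp).pow_left _
  let f : G →* (G ⧸ Q) × (G ⧸ (P : Subgroup G)) :=
    (QuotientGroup.mk' Q).prod (QuotientGroup.mk' (P : Subgroup G))
  have hinj : Function.Injective f := by
    rw [injective_iff_map_eq_one]
    intro g hg
    have h1 : QuotientGroup.mk' Q g = 1 := congrArg Prod.fst hg
    have h2 : QuotientGroup.mk' (P : Subgroup G) g = 1 := congrArg Prod.snd hg
    have h1' : g ∈ Q := (QuotientGroup.eq_one_iff g).mp h1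
    have h2' : g ∈ (P : Subgroup G) := (QuotientGroup.eq_one_iff g).mp h2
    exact Subgroup.disjoint_def.mp hdis h2' h1'
  have hcard : Nat.card ((G ⧸ Q) × (G ⧸ (P : Subgroup G))) ≤ Nat.card G := by
    rw [Nat.card_prod, ← Subgroup.index_eq_card, ← Subgroup.index_eq_card, hQi, ← hPcard,
      Subgroup.card_mul_index]
  have hbij : Function.Bijective f := hinj.bijective_of_nat_card_le hcard
  refine ⟨P, Q, hPn, hQn, MulEquiv.ofBijective f hbij, ?_, ?_⟩
  · apply IsPGroup.of_card (n := (Nat.card G).factorization p)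
    rw [← Subgroup.index_eq_card, hQi]
  · rw [← Subgroup.index_eq_card]
    exact P.not_dvd_index

theorem isPGroup_of_count {A B : Type u} [Group A] [Group B] [Finite G] [Finite A] [Finite B]
    (p : ℕ) [hp : Fact p.Prime] (e : G ≃* A × B) (hA : IsPGroup p A) (hB : ¬ p ∣ Nat.card B)
    (h1 : Nat.card {χ : IrrCharacter G // p ∣ charDegree (χ : G → ℂ)} = 1) : IsPGroup p G := by
  classical
  obtain ⟨hsub, ⟨⟨χ0, hχ0⟩⟩⟩ := Nat.card_eq_one_iff_unique.mp h1
  have hθ0 : IsIrrCharacter (A × B) ((χ0 : G → ℂ) ∘ e.symm) :=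
    IsIrrCharacter.comp_mulEquiv χ0.2 e.symm
  obtain ⟨α0, β0, hα0, hβ0, hθ0eq⟩ := IsIrrCharacter.exists_prod hθ0
  let a0 : IrrCharacter A := ⟨α0, hα0⟩
  let b0 : IrrCharacter B := ⟨β0, hβ0⟩
  -- the degree of a product character
  have hdeg : ∀ (b : IrrCharacter B) (χ : IrrCharacter G),
      (χ : G → ℂ) = (fun x : A × B => α0 x.1 * (b : B → ℂ) x.2) ∘ e →
      charDegree (χ : G → ℂ) = charDegree (a0 : A → ℂ) * charDegree (b : B → ℂ) := by
    intro b χ hχ
    have h := irr_apply_one χ
    have h' : (χ : G → ℂ) 1 = α0 1 * (b : B → ℂ) 1 := by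
      rw [hχ]
      simp only [Function.comp_apply, map_one, Prod.fst_one, Prod.snd_one]
    have ha := irr_apply_one a0
    have hb := irr_apply_one b
    change α0 1 = _ at ha
    rw [h', ha, hb] at h
    exact_mod_cast h.symm
  have hχ0eq : (χ0 : G → ℂ) = (fun x : A × B => α0 x.1 * (b0 : B → ℂ) x.2) ∘ e := by
    funext g
    have := congrFun hθ0eq (e g)
    simpa using this
  have hd0 := hdeg b0 χ0 hχ0eq
  have hpa : p ∣ charDegree (a0 : A → ℂ) := by
    rw [hd0] at hχ0
    rcases (Nat.Prime.dvd_mul hp.out).mp hχ0 with h | h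
    · exact h
    · exact absurd (h.trans (irr_charDegree_dvd_card b0)) hB
  have ha1 : α0 1 ≠ 0 := irr_apply_one_ne_zero a0
  -- all irreducible characters of B coincide
  have hall : ∀ b : IrrCharacter B, b = b0 := by
    intro b
    have hirr : IsIrrCharacter G ((fun x : A × B => α0 x.1 * (b : B → ℂ) x.2) ∘ e) :=
      IsIrrCharacter.comp_mulEquiv (IsIrrCharacter.prod hα0 b.2) e
    let χ : IrrCharacter G := ⟨_, hirr⟩
    have hd := hdeg b χ rfl
    have hpχ : p ∣ charDegree (χ : G → ℂ) := by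
      rw [hd]; exact Dvd.dvd.mul_right hpa _
    have heq : (⟨χ, hpχ⟩ : {χ : IrrCharacter G // p ∣ charDegree (χ : G → ℂ)}) = ⟨χ0, hχ0⟩ :=
      Subsingleton.elim _ _
    have heq' : (χ : G → ℂ) = (χ0 : G → ℂ) := congrArg (fun z => ((z : IrrCharacter G) : G → ℂ))
      (congrArg Subtype.val heq)
    apply Subtype.ext
    funext y
    have h2 := congrFun heq' (e.symm (1, y))
    rw [hχ0eq] at h2
    simp only [χ, Function.comp_apply, MulEquiv.apply_symm_apply] at h2
    exact mul_left_cancel₀ ha1 h2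
  let _ := Fintype.ofFinite B
  let _ := fintypeIrr B
  have hsum := sum_charDegree_sq (G := B)
  have huniv : (Finset.univ : Finset (IrrCharacter B)) = {trivIrr B} := by
    ext b
    simp only [Finset.mem_univ, Finset.mem_singleton, true_iff]
    rw [hall b, hall (trivIrr B)]
  rw [huniv, Finset.sum_singleton, charDegree_trivIrr, one_pow] at hsum
  obtain ⟨k, hk⟩ := IsPGroup.iff_card.mp hA
  apply IsPGroup.of_card (n := k)
  rw [Nat.card_congr e.toEquiv, Nat.card_prod, hk, Nat.card_eq_fintype_card (α := B), ← hsum,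
    mul_one]

theorem result' {G : Type u} [Group G] [Finite G] [Group.IsNilpotent G] (p : ℕ) [Fact p.Prime] :
    Nat.card {χ : Cfsg.IrrCharacter G // p ∣ Cfsg.charDegree (χ : G → ℂ)} = 1 ↔
      (p = 2 ∧ Cfsg.IsExtraspecial 2 G) := by
  constructor
  · intro h1
    obtain ⟨P, Q, hPn, hQn, e, hA, hB⟩ := exists_prod_decomp (G := G) p
    have hG : IsPGroup p G := isPGroup_of_count p e hA hB h1
    exact forward_pgroup p hG h1
  · rintro ⟨rfl, hE⟩
    exact backward hE

/-- Let p be a prime and G a finite nilpotent group. Then G has exactly one irreducible complex character of degree divisible by p if and only if p = 2 and G is an extraspecial 2-group. -/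
theorem result {G : Type*} [Group G] [Finite G] [Group.IsNilpotent G] (p : ℕ) [Fact p.Prime] : Nat.card {χ : Cfsg.IrrCharacter G // p ∣ Cfsg.charDegree (χ : G → ℂ)} = 1 ↔ (p = 2 ∧ Cfsg.IsExtraspecial 2 G) := by
  exact result' p

end Cfsg.Agent.S4762
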