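import Cfsg.Statements.S4763
import Mathlib
import Cfsg.Agent.Lib.Helper2.CoprimeDegNorm
import Cfsg.Agent.Lib.Helper23.CoprimeExt
import Cfsg.Agent.Lib.Helper23.PPowerDegrees
import Cfsg.Agent.Lib.Helper23.Covering2
import Cfsg.Agent.Lib.Helper24.NormalDegrees
import Cfsg.Agent.Lib.Helper24.IrrFacts
import Cfsg.Agent.Lib.Helper6.LinChar
import Cfsg.Agent.Lib.Helper6.Gallagher2
import Cfsg.Agent.Lib.Lead.CharMain

set_option autoImplicit false
open Cfsg

namespace Cfsg.Agent.S4763

open Cfsg.Agent.CharLib Cfsg.Agent.Lib.Helper24 Cfsg.Agent.Lib.Helper6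
open scoped ComplexConjugate
universe u

section grp

variable {G : Type u} [Group G] [Finite G]

theorem card_carrier_mul (g : G) :
    Nat.card (ConjClasses.mk g).carrier * Nat.card (Subgroup.centralizer ({g} : Set G)) =
      Nat.card G := by
  classical
  have : Fintype G := Fintype.ofFinite G
  rw [Subgroup.nat_card_centralizer_nat_card_stabilizer, ← ConjAct.orbit_eq_carrier_conjClasses]
  have h := MulAction.card_orbit_mul_card_stabilizer_eq_card_group (ConjAct G) g
  simp only [← Nat.card_eq_fintype_card] at h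
  rw [h]
  exact Nat.card_congr ConjAct.ofConjAct.toEquiv

theorem card_carrier_eq_index (g : G) :
    Nat.card (ConjClasses.mk g).carrier = (Subgroup.centralizer ({g} : Set G)).index := by
  have h1 := card_carrier_mul g
  have h2 := (Subgroup.centralizer ({g} : Set G)).index_mul_card
  have h3 : 0 < Nat.card (Subgroup.centralizer ({g} : Set G)) := Nat.card_pos
  exact Nat.eq_of_mul_eq_mul_right h3 (h1.trans h2.symm)

variable (p : ℕ) [hp : Fact p.Prime] (N : Subgroup G) [hNn : N.Normal]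

/-- Basic structure: `|P| = p^k`, `N ∩ P = 1`, `G = N P`. -/
theorem setup (hN : (Nat.card N).Coprime p) (k : ℕ) (hidx : N.index = p ^ k) (P : Sylow p G) :
    Nat.card P = p ^ k ∧ N ⊓ (P : Subgroup G) = ⊥ ∧ ∀ g : G, ∃ n ∈ N, ∃ u ∈ (P : Subgroup G), g = n * u := by
  have hcardG : Nat.card G = Nat.card N * p ^ k := by rw [← hidx, mul_comm, N.index_mul_card]
  have hNpos : Nat.card N ≠ 0 := Nat.card_pos.ne'
  have hfact : (Nat.card G).factorization p = k := by
    rw [hcardG, Nat.factorization_mul hNpos (pow_ne_zero _ hp.out.ne_zero)]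
    rw [Finsupp.add_apply, Nat.factorization_eq_zero_of_not_dvd
      ((Nat.Prime.coprime_iff_not_dvd hp.out).mp hN.symm),
      zero_add, hp.out.factorization_pow, Finsupp.single_eq_same]
  have hP : Nat.card P = p ^ k := by rw [Sylow.card_eq_multiplicity, hfact]
  have hcop : (Nat.card N).Coprime (Nat.card (P : Subgroup G)) := by
    change (Nat.card N).Coprime (Nat.card P)
    rw [hP]; exact Nat.Coprime.pow_right k hN
  have hcompl : Subgroup.IsComplement' N (P : Subgroup G) := by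
    apply Subgroup.isComplement'_of_coprime _ hcop
    change Nat.card N * Nat.card P = Nat.card G
    rw [hP, hcardG]
  refine ⟨hP, hcompl.disjoint.eq_bot, ?_⟩
  intro g
  have hg : g ∈ N ⊔ (P : Subgroup G) := by rw [hcompl.sup_eq_top]; exact Subgroup.mem_top g
  rw [← SetLike.mem_coe, Subgroup.normal_mul, Set.mem_mul] at hg
  obtain ⟨n, hn, u, hu, rfl⟩ := hg
  exact ⟨n, hn, u, hu, rfl⟩


variable (P : Sylow p G)

theorem mem_smul_sylow_iff' (k u : G) :
    u ∈ ((k • P : Sylow p G) : Subgroup G) ↔ k⁻¹ * u * k ∈ (P : Subgroup G) := by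
  rw [Sylow.coe_subgroup_smul, Subgroup.mem_pointwise_smul_iff_inv_smul_mem]
  simp [MulAut.smul_def]

/-- Elements of `N` normalizing `P` centralize `P`. -/
theorem mem_centralizer_of_mem_normalizer (hNP : N ⊓ (P : Subgroup G) = ⊥) {n : G} (hn : n ∈ N)
    (hnorm : n ∈ Subgroup.normalizer ((P : Subgroup G) : Set G)) :
    n ∈ Subgroup.centralizer ((P : Subgroup G) : Set G) := by
  rw [Subgroup.mem_centralizer_iff]
  intro t ht
  have ht' : t ∈ (P : Subgroup G) := ht
  have h1 : n * t * n⁻¹ ∈ (P : Subgroup G) := (Subgroup.mem_normalizer_iff.mp hnorm t).mp ht'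
  have h2 : n * t * n⁻¹ * t⁻¹ ∈ (P : Subgroup G) := mul_mem h1 (inv_mem ht')
  have h3 : n * t * n⁻¹ * t⁻¹ ∈ N := by
    have : n * t * n⁻¹ * t⁻¹ = n * (t * n⁻¹ * t⁻¹) := by group
    rw [this]; exact mul_mem hn (hNn.conj_mem _ (inv_mem hn) t)
  have h4 : n * t * n⁻¹ * t⁻¹ ∈ N ⊓ (P : Subgroup G) := ⟨h3, h2⟩
  rw [hNP, Subgroup.mem_bot] at h4
  have h5 : n * t = n * t * n⁻¹ * t⁻¹ * (t * n) := by group
  rw [h5, h4, one_mul]

theorem isConj_iff_of_mem (hNP : N ⊓ (P : Subgroup G) = ⊥)
    (hdec : ∀ g : G, ∃ n ∈ N, ∃ u ∈ (P : Subgroup G), g = n * u)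
    (hPab : ∀ x ∈ (P : Subgroup G), ∀ y ∈ (P : Subgroup G), x * y = y * x)
    {c c' u u' : G} (hc : c ∈ N ⊓ Subgroup.centralizer ((P : Subgroup G) : Set G))
    (hc' : c' ∈ N ⊓ Subgroup.centralizer ((P : Subgroup G) : Set G))
    (hu : u ∈ (P : Subgroup G)) (hu' : u' ∈ (P : Subgroup G)) :
    IsConj (c * u) (c' * u') ↔
      u = u' ∧ ∃ d ∈ N ⊓ Subgroup.centralizer ((P : Subgroup G) : Set G), d * c * d⁻¹ = c' := by
  have hPc : ∀ t ∈ (P : Subgroup G), t ∈ Subgroup.centralizer ((P : Subgroup G) : Set G) := by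
    intro t ht
    rw [Subgroup.mem_centralizer_iff]
    intro s hs
    exact hPab s hs t ht
  constructor
  · intro h
    obtain ⟨x, hx⟩ := isConj_iff.mp h
    have hcu : c * u ∈ Subgroup.centralizer ((P : Subgroup G) : Set G) := mul_mem hc.2 (hPc u hu)
    have hcu' : c' * u' ∈ Subgroup.centralizer ((P : Subgroup G) : Set G) :=
      mul_mem hc'.2 (hPc u' hu')
    have hy : (x⁻¹)⁻¹ * (c * u) * x⁻¹ ∈ Subgroup.centralizer ((P : Subgroup G) : Set G) := by
      rw [inv_inv, hx]; exact hcu'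
    obtain ⟨n₀, hn₀, hn₀e⟩ := P.conj_eq_normalizer_conj_of_mem_centralizer (c * u) x⁻¹ hcu hy
    rw [inv_inv, hx] at hn₀e
    -- c' u' = n₀⁻¹ (c u) n₀
    obtain ⟨n, hn, v, hv, hnv⟩ := hdec n₀⁻¹
    have hvn : v ∈ Subgroup.normalizer ((P : Subgroup G) : Set G) := Subgroup.le_normalizer hv
    have hnn : n ∈ Subgroup.normalizer ((P : Subgroup G) : Set G) := by
      have : n = n₀⁻¹ * v⁻¹ := by rw [hnv]; group
      rw [this]
      exact mul_mem (inv_mem hn₀) (inv_mem hvn)
    have hnC : n ∈ Subgroup.centralizer ((P : Subgroup G) : Set G) :=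
      mem_centralizer_of_mem_normalizer p N P hNP hn hnn
    -- compute
    have hvc : v * c = c * v := by
      have := (Subgroup.mem_centralizer_iff.mp hc.2) v hv
      exact this
    have hvu : v * u = u * v := hPab v hv u hu
    have hnu : n * u = u * n := by
      have := (Subgroup.mem_centralizer_iff.mp hnC) u hu
      exact this.symm
    have hkey : c' * u' = (n * c * n⁻¹) * u := by
      rw [hn₀e]
      have h1 : n₀⁻¹ * (c * u) * n₀ = n₀⁻¹ * (c * u) * (n₀⁻¹)⁻¹ := by rw [inv_inv]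
      rw [h1, hnv]
      have h2 : n * v * (c * u) * (n * v)⁻¹ = n * (v * c) * (u * v⁻¹) * n⁻¹ := by group
      rw [h2, hvc]
      have h3 : u * v⁻¹ = v⁻¹ * u := by
        have : v⁻¹ * (v * u) * v⁻¹ = v⁻¹ * (u * v) * v⁻¹ := by rw [hvu]
        have e1 : v⁻¹ * (v * u) * v⁻¹ = u * v⁻¹ := by group
        have e2 : v⁻¹ * (u * v) * v⁻¹ = v⁻¹ * u := by group
        rw [← e1, this, e2]
      rw [h3]
      have h4 : n * (c * v) * (v⁻¹ * u) * n⁻¹ = n * c * (u * n⁻¹) := by group
      rw [h4]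
      have h5 : u * n⁻¹ = n⁻¹ * u := by
        have : n⁻¹ * (n * u) * n⁻¹ = n⁻¹ * (u * n) * n⁻¹ := by rw [hnu]
        have e1 : n⁻¹ * (n * u) * n⁻¹ = u * n⁻¹ := by group
        have e2 : n⁻¹ * (u * n) * n⁻¹ = n⁻¹ * u := by group
        rw [← e1, this, e2]
      rw [h5]
      group
    have hm : n * c * n⁻¹ ∈ N := hNn.conj_mem _ hc.1 n
    have h6 : c'⁻¹ * (n * c * n⁻¹) = u' * u⁻¹ := by
      have : c'⁻¹ * (n * c * n⁻¹) = c'⁻¹ * ((n * c * n⁻¹) * u) * u⁻¹ := by group
      rw [this, ← hkey]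
      group
    have h7a : u' * u⁻¹ ∈ N := by
      rw [← h6]; exact mul_mem (inv_mem hc'.1) hm
    have h7b : u' * u⁻¹ ∈ (P : Subgroup G) := mul_mem hu' (inv_mem hu)
    have h7 : u' * u⁻¹ ∈ N ⊓ (P : Subgroup G) := ⟨h7a, h7b⟩
    rw [hNP, Subgroup.mem_bot] at h7
    have huu : u = u' := by
      have : u' = u' * u⁻¹ * u := by group
      rw [this, h7, one_mul]
    refine ⟨huu, n, ⟨hn, hnC⟩, ?_⟩
    rw [← huu] at hkey
    exact (mul_right_cancel hkey).symm
  · rintro ⟨rfl, d, hd, rfl⟩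
    rw [isConj_iff]
    refine ⟨d, ?_⟩
    have hdu : d * u = u * d := by
      have := (Subgroup.mem_centralizer_iff.mp hd.2) u hu
      exact this.symm
    have h1 : d * (c * u) * d⁻¹ = d * c * (u * d⁻¹) := by group
    rw [h1]
    have h5 : u * d⁻¹ = d⁻¹ * u := by
      have : d⁻¹ * (d * u) * d⁻¹ = d⁻¹ * (u * d) * d⁻¹ := by rw [hdu]
      have e1 : d⁻¹ * (d * u) * d⁻¹ = u * d⁻¹ := by group
      have e2 : d⁻¹ * (u * d) * d⁻¹ = d⁻¹ * u := by group
      rw [← e1, this, e2]
    rw [h5]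
    group

/-- A class has size prime to `p` iff it meets `C_G(P)`. -/
theorem not_dvd_card_carrier_iff (g : G) :
    ¬ p ∣ Nat.card (ConjClasses.mk g).carrier ↔
      ∃ h ∈ Subgroup.centralizer ((P : Subgroup G) : Set G), IsConj g h := by
  rw [card_carrier_eq_index]
  constructor
  · intro hnd
    obtain ⟨Q⟩ : Nonempty (Sylow p (Subgroup.centralizer ({g} : Set G))) := inferInstance
    have hQ' : IsPGroup p ((Q : Subgroup (Subgroup.centralizer ({g} : Set G))).map
        (Subgroup.centralizer ({g} : Set G)).subtype) := Q.2.map _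
    have hidx : ¬ p ∣ ((Q : Subgroup (Subgroup.centralizer ({g} : Set G))).map
        (Subgroup.centralizer ({g} : Set G)).subtype).index := by
      rw [Subgroup.index_map_subtype]
      intro hd
      rcases (Nat.Prime.dvd_mul hp.out).mp hd with h | h
      · exact Q.not_dvd_index h
      · exact hnd h
    obtain ⟨x, hx⟩ := MulAction.exists_smul_eq G (hQ'.toSylow hidx) P
    refine ⟨x * g * x⁻¹, ?_, isConj_iff.mpr ⟨x, rfl⟩⟩
    rw [Subgroup.mem_centralizer_iff]
    intro t ht
    have ht' : t ∈ ((x • hQ'.toSylow hidx : Sylow p G) : Subgroup G) := by rw [hx]; exact ht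
    rw [mem_smul_sylow_iff'] at ht'
    have ht'' : x⁻¹ * t * x ∈ ((Q : Subgroup (Subgroup.centralizer ({g} : Set G))).map
        (Subgroup.centralizer ({g} : Set G)).subtype) := ht'
    obtain ⟨y, -, hy⟩ := ht''
    have hyc : (y : G) ∈ Subgroup.centralizer ({g} : Set G) := y.2
    rw [Subgroup.mem_centralizer_singleton_iff] at hyc
    have hy' : (y : G) = x⁻¹ * t * x := hy
    rw [hy'] at hyc
    -- hyc : x⁻¹ t x * g = g * x⁻¹ t x
    have e1 : t * (x * g * x⁻¹) = x * ((x⁻¹ * t * x) * g) * x⁻¹ := by group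
    have e2 : x * g * x⁻¹ * t = x * (g * (x⁻¹ * t * x)) * x⁻¹ := by group
    rw [e1, e2, hyc]
  · rintro ⟨h, hh, hconj⟩
    have hmk : (ConjClasses.mk g) = ConjClasses.mk h := ConjClasses.mk_eq_mk_iff_isConj.mpr hconj
    have h1 : (Subgroup.centralizer ({g} : Set G)).index = (Subgroup.centralizer ({h} : Set G)).index := by
      rw [← card_carrier_eq_index, ← card_carrier_eq_index, hmk]
    rw [h1]
    have hle : (P : Subgroup G) ≤ Subgroup.centralizer ({h} : Set G) := by
      intro t ht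
      rw [Subgroup.mem_centralizer_singleton_iff]
      exact ((Subgroup.mem_centralizer_iff.mp hh) t ht)
    intro hd
    exact P.not_dvd_index (dvd_trans hd (Subgroup.index_dvd_of_le hle))


theorem card_pprime_classes (hNP : N ⊓ (P : Subgroup G) = ⊥)
    (hdec : ∀ g : G, ∃ n ∈ N, ∃ u ∈ (P : Subgroup G), g = n * u)
    (hPab : ∀ x ∈ (P : Subgroup G), ∀ y ∈ (P : Subgroup G), x * y = y * x) :
    Nat.card {K : ConjClasses G // ¬ p ∣ Nat.card K.carrier} =
      Nat.card (ConjClasses ↥(N ⊓ Subgroup.centralizer ((P : Subgroup G) : Set G))) *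
        Nat.card P := by
  have hPc : ∀ t ∈ (P : Subgroup G), t ∈ Subgroup.centralizer ((P : Subgroup G) : Set G) := by
    intro t ht
    rw [Subgroup.mem_centralizer_iff]
    intro s hs
    exact hPab s hs t ht
  have hmem : ∀ (K : ConjClasses ↥(N ⊓ Subgroup.centralizer ((P : Subgroup G) : Set G)))
      (u : (P : Subgroup G)),
      ¬ p ∣ Nat.card (ConjClasses.mk (((Quotient.out K :
        ↥(N ⊓ Subgroup.centralizer ((P : Subgroup G) : Set G))) : G) * (u : G))).carrier := by
    intro K u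
    rw [not_dvd_card_carrier_iff p P]
    exact ⟨_, mul_mem (Quotient.out K).2.2 (hPc u u.2), IsConj.refl _⟩
  let Φ : ConjClasses ↥(N ⊓ Subgroup.centralizer ((P : Subgroup G) : Set G)) × (P : Subgroup G) →
      {K : ConjClasses G // ¬ p ∣ Nat.card K.carrier} :=
    fun x => ⟨ConjClasses.mk (((Quotient.out x.1 :
        ↥(N ⊓ Subgroup.centralizer ((P : Subgroup G) : Set G))) : G) * (x.2 : G)), hmem x.1 x.2⟩
  have hout : ∀ K : ConjClasses ↥(N ⊓ Subgroup.centralizer ((P : Subgroup G) : Set G)),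
      ConjClasses.mk (Quotient.out K) = K := fun K => Quotient.out_eq K
  have hbij : Function.Bijective Φ := by
    constructor
    · rintro ⟨K, u⟩ ⟨K', u'⟩ h
      have h1 : ConjClasses.mk (((Quotient.out K :
          ↥(N ⊓ Subgroup.centralizer ((P : Subgroup G) : Set G))) : G) * (u : G)) =
          ConjClasses.mk (((Quotient.out K' :
          ↥(N ⊓ Subgroup.centralizer ((P : Subgroup G) : Set G))) : G) * (u' : G)) :=
        congrArg Subtype.val h
      rw [ConjClasses.mk_eq_mk_iff_isConj,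
        isConj_iff_of_mem p N P hNP hdec hPab (Quotient.out K).2 (Quotient.out K').2 u.2 u'.2] at h1
      obtain ⟨huu, d, hd, hdc⟩ := h1
      have h2 : IsConj (Quotient.out K) (Quotient.out K') := by
        rw [isConj_iff]
        exact ⟨⟨d, hd⟩, Subtype.ext hdc⟩
      have h3 : K = K' := by
        rw [← hout K, ← hout K', ConjClasses.mk_eq_mk_iff_isConj]
        exact h2
      rw [h3, Subtype.ext huu]
    · rintro ⟨K, hK⟩
      obtain ⟨g, rfl⟩ := ConjClasses.mk_surjective K
      obtain ⟨h, hh, hconj⟩ := (not_dvd_card_carrier_iff p P g).mp hK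
      obtain ⟨n, hn, u, hu, rfl⟩ := hdec h
      have hnC : n ∈ Subgroup.centralizer ((P : Subgroup G) : Set G) := by
        have : n = n * u * u⁻¹ := by group
        rw [this]
        exact mul_mem hh (inv_mem (hPc u hu))
      refine ⟨(ConjClasses.mk (⟨n, hn, hnC⟩ :
        ↥(N ⊓ Subgroup.centralizer ((P : Subgroup G) : Set G))), ⟨u, hu⟩), ?_⟩
      apply Subtype.ext
      change ConjClasses.mk (((Quotient.out (ConjClasses.mk (⟨n, hn, hnC⟩ :
        ↥(N ⊓ Subgroup.centralizer ((P : Subgroup G) : Set G)))) :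
        ↥(N ⊓ Subgroup.centralizer ((P : Subgroup G) : Set G))) : G) * u) = ConjClasses.mk g
      rw [ConjClasses.mk_eq_mk_iff_isConj]
      refine IsConj.trans ?_ hconj.symm
      rw [isConj_iff_of_mem p N P hNP hdec hPab (Quotient.out (ConjClasses.mk (⟨n, hn, hnC⟩ :
        ↥(N ⊓ Subgroup.centralizer ((P : Subgroup G) : Set G))))).2 ⟨hn, hnC⟩ hu hu]
      refine ⟨rfl, ?_⟩
      have h4 := ConjClasses.mk_eq_mk_iff_isConj.mp (hout (ConjClasses.mk (⟨n, hn, hnC⟩ :
        ↥(N ⊓ Subgroup.centralizer ((P : Subgroup G) : Set G)))))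
      obtain ⟨d, hd⟩ := isConj_iff.mp h4
      exact ⟨d, d.2, congrArg Subtype.val hd⟩
  rw [← Nat.card_eq_of_bijective Φ hbij, Nat.card_prod]

end grp


section chr

variable {G : Type u} [Group G] [Finite G] (p : ℕ) [hp : Fact p.Prime] (N : Subgroup G)
  [hNn : N.Normal]

theorem charDegree_mul_irr (β χ : IrrCharacter G) :
    charDegree ((β : G → ℂ) * (χ : G → ℂ)) = charDegree (β : G → ℂ) * charDegree (χ : G → ℂ) := by
  have h1 : ((β : G → ℂ) * (χ : G → ℂ)) 1 =
      ((charDegree (β : G → ℂ) * charDegree (χ : G → ℂ) : ℕ) : ℂ) := by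
    rw [Pi.mul_apply, irr_apply_one β, irr_apply_one χ]
    push_cast
    rfl
  unfold charDegree at h1 ⊢
  rw [h1, Complex.natCast_re, Nat.floor_natCast]

/-- The key step: the unique character of degree divisible by `p` forces `G/N` abelian. -/
theorem quotient_comm (hN : (Nat.card N).Coprime p) (k : ℕ) (hk : N.index = p ^ k)
    (hNbot : N ≠ ⊥)
    (huniq : ∀ χ ψ : IrrCharacter G, p ∣ charDegree (χ : G → ℂ) → p ∣ charDegree (ψ : G → ℂ) → χ = ψ)
    (a b : G ⧸ N) : a * b = b * a := by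
  classical
  letI : Fintype G := Fintype.ofFinite G
  letI : Fintype N := Fintype.ofFinite N
  apply Cfsg.Agent.Lib.Helper23.commute_of_forall_irr_linear
  intro ψQ
  by_contra hne
  -- inflate
  obtain ⟨β, hβ⟩ := exists_inflation N ψQ
  have hβ1 : (β : G → ℂ) 1 = (ψQ : G ⧸ N → ℂ) 1 := by
    rw [hβ 1]; rfl
  have hβN : ∀ n : N, (β : G → ℂ) n = (β : G → ℂ) 1 := by
    intro n
    rw [hβ n, hβ 1]
    have : ((n : G) : G ⧸ N) = ((1 : G) : G ⧸ N) := by
      rw [QuotientGroup.mk_one]
      exact (QuotientGroup.eq_one_iff (n : G)).mpr n.2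
    rw [this]
  have hdegβ : charDegree (β : G → ℂ) = charDegree (ψQ : G ⧸ N → ℂ) := by
    unfold charDegree; rw [hβ1]
  have hpβ : p ∣ charDegree (β : G → ℂ) := by
    rw [hdegβ]
    have h1 : charDegree (ψQ : G ⧸ N → ℂ) ∣ p ^ k := by
      have := irr_charDegree_dvd_card ψQ
      rwa [← Subgroup.index_eq_card, hk] at this
    obtain ⟨j, -, hj⟩ := (Nat.dvd_prime_pow hp.out).mp h1
    rcases Nat.eq_zero_or_pos j with rfl | hj0
    · exfalso
      apply hne
      rw [irr_apply_one ψQ, hj]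
      simp
    · rw [hj]
      exact dvd_pow_self p hj0.ne'
  -- nontrivial θ of N
  obtain ⟨n₀, hn₀⟩ : ∃ n : N, n ≠ 1 := by
    by_contra hall
    push Not at hall
    apply hNbot
    rw [Subgroup.eq_bot_iff_forall]
    intro x hx
    exact congrArg Subtype.val (hall ⟨x, hx⟩)
  obtain ⟨θ, hθn₀⟩ : ∃ θ : IrrCharacter N, (θ : N → ℂ) n₀ ≠ (θ : N → ℂ) 1 := by
    by_contra hall
    push Not at hall
    exact hn₀ (eq_one_of_forall_irr_apply_eq n₀ hall)
  have hθne : (θ : N → ℂ) ≠ 1 := by
    intro h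
    apply hθn₀
    rw [h]; rfl
  have h1θ : classInner (1 : N → ℂ) (θ : N → ℂ) = 0 := by
    rw [classInner_irr (isIrrCharacter_one N) θ.2, if_neg (fun h => hθne h.symm)]
  obtain ⟨χ, hχθ⟩ := Cfsg.Agent.Lib.Helper23.exists_irr_over_constituent N θ
  have hconst : ∀ (ψ : IrrCharacter G), ψ = β →
      classInner (fun n : N => (ψ : G → ℂ) n) (θ : N → ℂ) = 0 := by
    intro ψ hψ
    have h2 : (fun n : N => (ψ : G → ℂ) n) = ((β : G → ℂ) 1) • (1 : N → ℂ) := by
      funext n
      rw [hψ, hβN n]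
      simp
    rw [h2, Cfsg.Agent.Lib.Helper10.classInner_smul_left, h1θ, mul_zero]
  by_cases hpχ : p ∣ charDegree (χ : G → ℂ)
  · exact hχθ (hconst χ (huniq χ β hpχ hpβ))
  · -- χ restricts to θ
    have hhom : ∀ φ : N →* ℂˣ, (orderOf φ).Coprime p := by
      intro φ
      apply Nat.Coprime.coprime_dvd_left _ hN
      apply orderOf_dvd_of_pow_eq_one
      ext x
      rw [MonoidHom.pow_apply, ← map_pow, pow_card_eq_one', map_one, MonoidHom.one_apply]
    have hres : IsIrrCharacter N (resFun N (χ : G → ℂ)) :=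
      Cfsg.Agent.Lib.Helper23.isIrrCharacter_resFun_of_not_dvd N hk hhom χ.2 hpχ
    have hresθ : resFun N (χ : G → ℂ) = (θ : N → ℂ) := by
      by_contra hne'
      apply hχθ
      have := classInner_irr hres θ.2
      rw [if_neg hne'] at this
      exact this
    have hβover : classInner (indFun N (1 : N → ℂ)) (β : G → ℂ) ≠ 0 := by
      rw [frobenius_reciprocity N _ (IsCharacter.isClassFunction (IsIrrCharacter.isCharacter β.2))]
      have h2 : (fun n : N => (β : G → ℂ) n) = ((β : G → ℂ) 1) • (1 : N → ℂ) := by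
        funext n
        rw [hβN n]
        simp
      rw [h2, Cfsg.Agent.Lib.Helper10.classInner_smul_right]
      have h3 := classInner_irr (isIrrCharacter_one N) (isIrrCharacter_one N)
      rw [if_pos rfl] at h3
      rw [h3, mul_one]
      intro h0
      exact irr_apply_one_ne_zero β ((map_eq_zero _).mp h0)
    have hgal := (gallagher_bijOn N χ.2 hres).mapsTo ⟨β.2, hβover⟩
    have hψirr : IsIrrCharacter G ((β : G → ℂ) * (χ : G → ℂ)) := hgal.1
    have hpψ : p ∣ charDegree ((β : G → ℂ) * (χ : G → ℂ)) := by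
      rw [charDegree_mul_irr]
      exact Dvd.dvd.mul_right hpβ _
    have heq : (⟨(β : G → ℂ) * (χ : G → ℂ), hψirr⟩ : IrrCharacter G) = β :=
      huniq ⟨_, hψirr⟩ β hpψ hpβ
    have heq' : (β : G → ℂ) * (χ : G → ℂ) = (β : G → ℂ) := congrArg Subtype.val heq
    apply hθn₀
    have h4 := congrFun heq' (n₀ : G)
    have h5 := congrFun heq' (1 : G)
    rw [Pi.mul_apply] at h4 h5
    have hβne : (β : G → ℂ) 1 ≠ 0 := irr_apply_one_ne_zero β
    have h6 : (χ : G → ℂ) (n₀ : G) = 1 := by
      rw [hβN n₀] at h4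
      have : (β : G → ℂ) 1 * (χ : G → ℂ) (n₀ : G) = (β : G → ℂ) 1 * 1 := by rw [h4, mul_one]
      exact mul_left_cancel₀ hβne this
    have h7 : (χ : G → ℂ) 1 = 1 := by
      have : (β : G → ℂ) 1 * (χ : G → ℂ) 1 = (β : G → ℂ) 1 * 1 := by rw [h5, mul_one]
      exact mul_left_cancel₀ hβne this
    have h8 : (θ : N → ℂ) n₀ = (χ : G → ℂ) (n₀ : G) := by rw [← hresθ]; rfl
    have h9 : (θ : N → ℂ) 1 = (χ : G → ℂ) 1 := by rw [← hresθ]; rfl
    rw [h8, h9, h6, h7]


theorem card_split {α : Type*} [Finite α] (q : α → Prop) :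
    Nat.card α = Nat.card {a : α // q a} + Nat.card {a : α // ¬ q a} := by
  classical
  rw [← Nat.card_sum]
  exact Nat.card_congr (Equiv.sumCompl q).symm

theorem result' (hnil : ¬ Group.IsNilpotent G) (hN : (Nat.card N).Coprime p)
    (hidx : ∃ k : ℕ, N.index = p ^ k)
    (hone : Nat.card {χ : IrrCharacter G // p ∣ charDegree (χ : G → ℂ)} = 1) :
    Nat.card {C : ConjClasses G // p ∣ Nat.card C.carrier} = 1 := by
  classical
  letI : Fintype G := Fintype.ofFinite G
  obtain ⟨k, hk⟩ := hidx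
  obtain ⟨P⟩ : Nonempty (Sylow p G) := inferInstance
  obtain ⟨hPcard, hNP, hdec⟩ := setup p N hN k hk P
  have hcardG : Nat.card G = Nat.card N * p ^ k := by rw [← hk, mul_comm, N.index_mul_card]
  -- uniqueness
  obtain ⟨hsub, hnonempty⟩ := Nat.card_eq_one_iff_unique.mp hone
  have huniq : ∀ χ ψ : IrrCharacter G, p ∣ charDegree (χ : G → ℂ) →
      p ∣ charDegree (ψ : G → ℂ) → χ = ψ := by
    intro χ ψ h1 h2
    exact congrArg Subtype.val (hsub.elim ⟨χ, h1⟩ ⟨ψ, h2⟩)
  obtain ⟨⟨χ₀, hχ₀⟩⟩ := hnonempty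
  have hk0 : k ≠ 0 := by
    rintro rfl
    have h1 : p ∣ Nat.card G := dvd_trans hχ₀ (irr_charDegree_dvd_card χ₀)
    rw [hcardG, pow_zero, mul_one] at h1
    exact (Nat.Prime.coprime_iff_not_dvd hp.out).mp hN.symm h1
  have hNbot : N ≠ ⊥ := by
    rintro rfl
    apply hnil
    have hG : IsPGroup p G := by
      rw [IsPGroup.iff_card]
      refine ⟨k, ?_⟩
      rw [hcardG, Subgroup.card_bot, one_mul]
    exact hG.isNilpotent
  have hQ := quotient_comm p N hN k hk hNbot huniq
  have hPab : ∀ x ∈ (P : Subgroup G), ∀ y ∈ (P : Subgroup G), x * y = y * x := by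
    intro x hx y hy
    have h1 := hQ (x : G ⧸ N) (y : G ⧸ N)
    rw [← QuotientGroup.mk_mul, ← QuotientGroup.mk_mul, QuotientGroup.eq] at h1
    have h2b : (x * y)⁻¹ * (y * x) ∈ (P : Subgroup G) :=
      mul_mem (inv_mem (mul_mem hx hy)) (mul_mem hy hx)
    have h2 : (x * y)⁻¹ * (y * x) ∈ N ⊓ (P : Subgroup G) := ⟨h1, h2b⟩
    rw [hNP, Subgroup.mem_bot] at h2
    have : y * x = (x * y) * ((x * y)⁻¹ * (y * x)) := by group
    rw [this, h2, mul_one]
  -- class side
  have hclass := card_pprime_classes p N P hNP hdec hPab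
  -- character side
  have hsup : N ⊔ (P : Subgroup G) = ⊤ := by
    rw [eq_top_iff]
    intro g _
    obtain ⟨n, hn, u, hu, rfl⟩ := hdec g
    exact mul_mem (Subgroup.mem_sup_left hn) (Subgroup.mem_sup_right hu)
  have hcop : (Nat.card N).Coprime (Nat.card (P : Subgroup G)) := by
    have : Nat.card (P : Subgroup G) = p ^ k := hPcard
    rw [this]; exact Nat.Coprime.pow_right k hN
  have hsolv : Group.IsSolvable (P : Subgroup G) := by
    haveI : Group.IsNilpotent (P : Subgroup G) := P.2.isNilpotent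
    infer_instance
  have hleft := Cfsg.Agent.Lib.Helper2.CoprimeDeg.card_left N (P : Subgroup G) hsup hcop hsolv
  have hcommP : commutator (P : Subgroup G) = ⊥ := by
    rw [commutator_def, Subgroup.commutator_eq_bot_iff_le_centralizer]
    intro x _
    rw [Subgroup.mem_centralizer_iff]
    intro y _
    exact Subtype.ext (hPab y y.2 x x.2)
  rw [card_hom_units, hcommP, Subgroup.index_bot, card_irrCharacter] at hleft
  have hpred : ∀ χ : IrrCharacter G, (charDegree (χ : G → ℂ)).Coprime (Nat.card (P : Subgroup G)) ↔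
      ¬ p ∣ charDegree (χ : G → ℂ) := by
    intro χ
    have : Nat.card (P : Subgroup G) = p ^ k := hPcard
    rw [this, Nat.coprime_pow_right_iff (Nat.pos_of_ne_zero hk0), Nat.coprime_comm,
      Nat.Prime.coprime_iff_not_dvd hp.out]
  rw [Nat.card_congr (Equiv.subtypeEquivRight hpred)] at hleft
  -- totals
  haveI : Finite (IrrCharacter G) := by
    apply Nat.finite_of_card_ne_zero
    rw [card_irrCharacter]
    exact Nat.card_pos.ne'
  have h1 := card_split (fun χ : IrrCharacter G => p ∣ charDegree (χ : G → ℂ))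
  have h2 := card_split (fun C : ConjClasses G => p ∣ Nat.card C.carrier)
  rw [card_irrCharacter, hone, hleft] at h1
  rw [hclass, h1] at h2
  have h3 : Nat.card (P : Subgroup G) = Nat.card P := rfl
  rw [h3] at h2
  omega

end chr

/-- Let p be a prime and G a finite group that is not nilpotent and has a normal p-complement (a normal subgroup of order prime to p and index a power of p). If G has exactly one irreducible complex character of degree divisible by p, then G has exactly one conjugacy class whose size is divisible by p. -/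
theorem result {G : Type*} [Group G] [Finite G] (p : ℕ) [Fact p.Prime] (hnil : ¬ Group.IsNilpotent G) (N : Subgroup G) [N.Normal] (hN : (Nat.card N).Coprime p) (hidx : ∃ k : ℕ, N.index = p ^ k) (hone : Nat.card {χ : Cfsg.IrrCharacter G // p ∣ Cfsg.charDegree (χ : G → ℂ)} = 1) : Nat.card {C : ConjClasses G // p ∣ Nat.card C.carrier} = 1 := by
  exact result' p N hnil hN hidx hone

end Cfsg.Agent.S4763
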