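import Cfsg.Statements.S4765
import Cfsg.Agent.Lib.Helper13.SLSteinberg
import Cfsg.Agent.Lib.Helper24.IrrFacts
import Cfsg.Agent.Lib.Lead.CharMore

set_option autoImplicit false
open Cfsg

namespace Cfsg.Agent.S4765

/-- Let F be a finite field of characteristic p with at least 4 elements. Then PSL(2,F) has exactly one irreducible complex character of degree divisible by p, and its degree is the order of F. -/
theorem result (p : ℕ) [Fact p.Prime] (F : Type*) [Field F] [Fintype F] [CharP F p] (hF : 4 ≤ Fintype.card F) : Nat.card {χ : Cfsg.IrrCharacter (Matrix.ProjectiveSpecialLinearGroup (Fin 2) F) // p ∣ Cfsg.charDegree (χ : Matrix.ProjectiveSpecialLinearGroup (Fin 2) F → ℂ)} = 1 ∧ ∀ χ : Cfsg.IrrCharacter (Matrix.ProjectiveSpecialLinearGroup (Fin 2) F), p ∣ Cfsg.charDegree (χ : Matrix.ProjectiveSpecialLinearGroup (Fin 2) F → ℂ) → Cfsg.charDegree (χ : Matrix.ProjectiveSpecialLinearGroup (Fin 2) F → ℂ) = Fintype.card F := by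
  classical
  have hinfl : ∀ χ : Cfsg.IrrCharacter (Matrix.ProjectiveSpecialLinearGroup (Fin 2) F),
      Cfsg.IsIrrCharacter (Matrix.SpecialLinearGroup (Fin 2) F)
        (fun s => (χ : Matrix.ProjectiveSpecialLinearGroup (Fin 2) F → ℂ)
          (QuotientGroup.mk' (Subgroup.center (Matrix.SpecialLinearGroup (Fin 2) F)) s)) := by
    intro χ
    obtain ⟨m, ρ', hirr', hρ'⟩ := χ.2
    refine ⟨m, MonoidHom.comp ρ' (QuotientGroup.mk' _),
      Cfsg.Agent.CharLib.isIrreducible_comp_of_surjective ρ' hirr' _ (QuotientGroup.mk'_surjective _), ?_⟩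
    funext x
    rw [← hρ']
    rfl
  have hdeg : ∀ χ : Cfsg.IrrCharacter (Matrix.ProjectiveSpecialLinearGroup (Fin 2) F),
      (fun s => (χ : Matrix.ProjectiveSpecialLinearGroup (Fin 2) F → ℂ)
          (QuotientGroup.mk' (Subgroup.center (Matrix.SpecialLinearGroup (Fin 2) F)) s)) 1 =
        (Cfsg.charDegree (χ : Matrix.ProjectiveSpecialLinearGroup (Fin 2) F → ℂ) : ℂ) := by
    intro χ
    have := Cfsg.Agent.Lib.Helper24.irr_apply_one χ
    rw [← this]
    change (χ : Matrix.ProjectiveSpecialLinearGroup (Fin 2) F → ℂ) (QuotientGroup.mk' _ 1) = _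
    rw [map_one]
  have key : ∀ χ : Cfsg.IrrCharacter (Matrix.ProjectiveSpecialLinearGroup (Fin 2) F),
      p ∣ Cfsg.charDegree (χ : Matrix.ProjectiveSpecialLinearGroup (Fin 2) F → ℂ) →
      (fun s => (χ : Matrix.ProjectiveSpecialLinearGroup (Fin 2) F → ℂ)
          (QuotientGroup.mk' (Subgroup.center (Matrix.SpecialLinearGroup (Fin 2) F)) s)) =
        Cfsg.Agent.Lib.Helper13.resSL (Cfsg.Agent.Lib.Helper13.stChar (1 : MulChar F ℂ)) :=
    fun χ hp => Cfsg.Agent.Lib.Helper13.eq_steinberg_of_dvd p (hinfl χ) (hdeg χ) hp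
  have part2 : ∀ χ : Cfsg.IrrCharacter (Matrix.ProjectiveSpecialLinearGroup (Fin 2) F),
      p ∣ Cfsg.charDegree (χ : Matrix.ProjectiveSpecialLinearGroup (Fin 2) F → ℂ) →
      Cfsg.charDegree (χ : Matrix.ProjectiveSpecialLinearGroup (Fin 2) F → ℂ) = Fintype.card F := by
    intro χ hp
    have h1 := hdeg χ
    rw [key χ hp, Cfsg.Agent.Lib.Helper13.resSL_stChar_one] at h1
    exact_mod_cast h1.symm
  refine ⟨?_, part2⟩
  rw [Nat.card_eq_one_iff_unique]
  constructor
  · constructor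
    rintro ⟨χ₁, h1⟩ ⟨χ₂, h2⟩
    apply Subtype.ext
    apply Subtype.ext
    funext x
    obtain ⟨s, rfl⟩ := QuotientGroup.mk'_surjective
      (Subgroup.center (Matrix.SpecialLinearGroup (Fin 2) F)) x
    have e1 := congrFun (key χ₁ h1) s
    have e2 := congrFun (key χ₂ h2) s
    exact e1.trans e2.symm
  · obtain ⟨χ₀, hχ₀, hval⟩ := Cfsg.Agent.Lib.Helper13.exists_deflate
      (Subgroup.center (Matrix.SpecialLinearGroup (Fin 2) F))
      (Cfsg.Agent.Lib.Helper13.isIrrCharacter_resSL_stChar (F := F))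
      (fun z hz => Cfsg.Agent.Lib.Helper13.resSL_stChar_center hz)
    refine ⟨⟨⟨χ₀, hχ₀⟩, ?_⟩⟩
    have h1 := Cfsg.Agent.Lib.Helper24.irr_apply_one
      (⟨χ₀, hχ₀⟩ : Cfsg.IrrCharacter (Matrix.ProjectiveSpecialLinearGroup (Fin 2) F))
    have h2 : χ₀ 1 = (Fintype.card F : ℂ) := by
      have := hval 1
      rw [Cfsg.Agent.Lib.Helper13.resSL_stChar_one] at this
      exact this
    change χ₀ 1 = _ at h1
    rw [h2] at h1
    have h3 : Cfsg.charDegree χ₀ = Fintype.card F := by exact_mod_cast h1.symm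
    change p ∣ Cfsg.charDegree χ₀
    rw [h3]
    obtain ⟨n, -, hcard⟩ := FiniteField.card F p
    rw [hcard]
    exact dvd_pow_self p n.pos.ne'

end Cfsg.Agent.S4765
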