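import Cfsg.Statements.S4768
import Mathlib
import Cfsg.Agent.Lib.Helper24.SylowDerived
import Cfsg.Agent.Lib.Helper12.Cores

set_option autoImplicit false
open Cfsg

namespace Cfsg.Agent.S4768

open Cfsg.Agent.CharLib Cfsg.Agent.Lib.Helper24 Cfsg.Agent.Lib.Helper6
open scoped ComplexConjugate
universe u

open scoped commutatorElement

section counting

variable {G : Type u} [Group G] [Finite G]

/-- inflation on characters of degree divisible by `p` -/
noncomputable def inflSing (p : ℕ) (N : Subgroup G) [N.Normal]
    (β : {β : IrrCharacter (G ⧸ N) // p ∣ charDegree (β : G ⧸ N → ℂ)}) :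
    {χ : IrrCharacter G // p ∣ charDegree (χ : G → ℂ)} :=
  ⟨Classical.choose (exists_inflation N β.1), by
    have h := Classical.choose_spec (exists_inflation N β.1)
    have hdeg : charDegree ((Classical.choose (exists_inflation N β.1) : IrrCharacter G) : G → ℂ) =
        charDegree (β.1 : G ⧸ N → ℂ) := by
      unfold charDegree
      rw [h 1, QuotientGroup.mk_one]
    rw [hdeg]
    exact β.2⟩

theorem inflSing_apply (p : ℕ) (N : Subgroup G) [N.Normal]
    (β : {β : IrrCharacter (G ⧸ N) // p ∣ charDegree (β : G ⧸ N → ℂ)}) (g : G) :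
    ((inflSing p N β).1 : G → ℂ) g = (β.1 : G ⧸ N → ℂ) (g : G ⧸ N) :=
  Classical.choose_spec (exists_inflation N β.1) g

theorem inflSing_injective (p : ℕ) (N : Subgroup G) [N.Normal] :
    Function.Injective (inflSing p N) := by
  intro β β' h
  apply Subtype.ext
  apply Subtype.ext
  funext x
  obtain ⟨g, rfl⟩ := QuotientGroup.mk_surjective x
  rw [← inflSing_apply p N β g, ← inflSing_apply p N β' g, h]

theorem card_sing_quotient_le (p : ℕ) (N : Subgroup G) [N.Normal] :
    Nat.card {β : IrrCharacter (G ⧸ N) // p ∣ charDegree (β : G ⧸ N → ℂ)} ≤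
      Nat.card {χ : IrrCharacter G // p ∣ charDegree (χ : G → ℂ)} :=
  Nat.card_le_card_of_injective _ (inflSing_injective p N)

theorem ker_of_card_sing_eq (p : ℕ) (N : Subgroup G) [N.Normal]
    (h : Nat.card {χ : IrrCharacter G // p ∣ charDegree (χ : G → ℂ)} ≤
      Nat.card {β : IrrCharacter (G ⧸ N) // p ∣ charDegree (β : G ⧸ N → ℂ)})
    (χ : IrrCharacter G) (hχ : p ∣ charDegree (χ : G → ℂ)) (x : G) (hx : x ∈ N) :
    (χ : G → ℂ) x = (χ : G → ℂ) 1 := by
  have hbij := (inflSing_injective p N).bijective_of_nat_card_le h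
  obtain ⟨β, hβ⟩ := hbij.2 ⟨χ, hχ⟩
  have h1 : (inflSing p N β).1 = χ := congrArg Subtype.val hβ
  rw [← h1, inflSing_apply, inflSing_apply, (QuotientGroup.eq_one_iff x).mpr hx,
    QuotientGroup.mk_one]

end counting

section derived

theorem derivedSeries_le_ker {P Q : Type*} [Group P] [Group Q] (f : P →* Q) (m : ℕ)
    (h : derivedSeries Q m = ⊥) : derivedSeries P m ≤ f.ker := by
  intro x hx
  have h1 : f x ∈ (derivedSeries P m).map f := ⟨x, hx, rfl⟩
  have h2 := map_derivedSeries_le_derivedSeries f m h1
  rw [h, Subgroup.mem_bot] at h2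
  exact h2

theorem derivedSeries_succ_eq_bot {P : Type*} [Group P] (A : Subgroup P)
    (hA : ∀ a ∈ A, ∀ b ∈ A, a * b = b * a) (m : ℕ) (h : derivedSeries P m ≤ A) :
    derivedSeries P (m + 1) = ⊥ := by
  rw [derivedSeries_succ, eq_bot_iff]
  calc ⁅derivedSeries P m, derivedSeries P m⁆ ≤ ⁅A, A⁆ := Subgroup.commutator_mono h h
    _ = ⊥ := by
      rw [Subgroup.commutator_eq_bot_iff_le_centralizer]
      intro a ha b hb
      exact hA b hb a ha

theorem derivedSeries_eq_bot_of_le {P : Type*} [Group P] {m m' : ℕ} (hmm : m ≤ m')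
    (h : derivedSeries P m = ⊥) : derivedSeries P m' = ⊥ := by
  rw [eq_bot_iff, ← h]
  exact derivedSeries_antitone P hmm

end derived

section main

/-- passing to a proper quotient -/
theorem quot_step (p : ℕ) [hpp : Fact p.Prime] {G : Type u} [Group G] [Finite G]
    (ih : ∀ (H : Type u) [Group H] [Finite H], Nat.card H < Nat.card G → IsPSolvable p H →
      ∀ Q : Sylow p H, derivedSeries ↥(Q : Subgroup H)
        (Nat.card {χ : IrrCharacter H // p ∣ charDegree (χ : H → ℂ)} + 1) = ⊥)
    (hsolv : IsPSolvable p G) (P : Sylow p G) (N : Subgroup G) [hNn : N.Normal] (hN : N ≠ ⊥)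
    (m : ℕ) (hm : Nat.card {β : IrrCharacter (G ⧸ N) // p ∣ charDegree (β : G ⧸ N → ℂ)} + 1 ≤ m)
    (x : ↥(P : Subgroup G)) (hx : x ∈ derivedSeries ↥(P : Subgroup G) m) : (x : G) ∈ N := by
  have hlt : Nat.card (G ⧸ N) < Nat.card G := by
    have h1 : 1 < Nat.card N := by rw [Subgroup.one_lt_card_iff_ne_bot]; exact hN
    have h2 := Subgroup.card_mul_index N
    rw [Subgroup.index_eq_card] at h2
    have h3 : 0 < Nat.card (G ⧸ N) := Nat.card_pos
    nlinarith
  have hsolvQ : IsPSolvable p (G ⧸ N) :=
    isPSolvable_of_surjective p (QuotientGroup.mk' N) (QuotientGroup.mk'_surjective N) hsolv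
  have hPmap : IsPGroup p ((P : Subgroup G).map (QuotientGroup.mk' N)) := P.isPGroup'.map _
  obtain ⟨Q, hQ⟩ := hPmap.exists_le_sylow
  have hQd := ih (G ⧸ N) hlt hsolvQ Q
  have hQm := derivedSeries_eq_bot_of_le hm hQd
  let f : ↥(P : Subgroup G) →* ↥(Q : Subgroup (G ⧸ N)) :=
    ((QuotientGroup.mk' N).comp (P : Subgroup G).subtype).codRestrict (Q : Subgroup (G ⧸ N))
      (fun y => hQ ⟨(y : G), y.2, rfl⟩)
  have h1 := derivedSeries_le_ker f m hQm hx
  rw [MonoidHom.mem_ker] at h1
  have h2 : (QuotientGroup.mk' N) (x : G) = 1 := congrArg Subtype.val h1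
  exact (QuotientGroup.eq_one_iff _).mp h2

theorem main (p : ℕ) [hpp : Fact p.Prime] :
    ∀ (n : ℕ) (G : Type u) [Group G] [Finite G], Nat.card G = n → IsPSolvable p G →
      ∀ P : Sylow p G, derivedSeries ↥(P : Subgroup G)
        (Nat.card {χ : IrrCharacter G // p ∣ charDegree (χ : G → ℂ)} + 1) = ⊥ := by
  intro n
  induction n using Nat.strong_induction_on with
  | _ n ih =>
    intro G _ _ hcard hsolv P
    classical
    have ih' : ∀ (H : Type u) [Group H] [Finite H], Nat.card H < Nat.card G → IsPSolvable p H →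
        ∀ Q : Sylow p H, derivedSeries ↥(Q : Subgroup H)
          (Nat.card {χ : IrrCharacter H // p ∣ charDegree (χ : H → ℂ)} + 1) = ⊥ := by
      intro H _ _ hlt hH Q
      exact ih (Nat.card H) (hcard ▸ hlt) H rfl hH Q
    set k := Nat.card {χ : IrrCharacter G // p ∣ charDegree (χ : G → ℂ)} with hk
    rcases Nat.eq_zero_or_pos k with hk0 | hkpos
    · -- all degrees prime to `p`
      have hall : ∀ χ : IrrCharacter G, ¬ p ∣ charDegree (χ : G → ℂ) := by
        intro χ hχ
        have hne : Nonempty {χ : IrrCharacter G // p ∣ charDegree (χ : G → ℂ)} := ⟨⟨χ, hχ⟩⟩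
        have : 0 < k := Nat.card_pos
        omega
      have hab := ((Cfsg.Agent.S4713.result p hsolv P).mpr hall).2
      rw [hk0, zero_add]
      apply derivedSeries_succ_eq_bot ⊤ _ 0 le_top
      intro a _ b _
      exact hab.is_comm.comm a b
    · by_cases hnt : Nontrivial G
      swap
      · rw [not_nontrivial_iff_subsingleton] at hnt
        rw [eq_bot_iff]
        intro x _
        rw [Subgroup.mem_bot]
        exact Subsingleton.elim _ _
      by_cases hK : pPrimeCore p G = ⊥
      · -- `O_{p'}(G) = 1`
        have hO : pCore p G ≠ ⊥ := pCore_ne_bot_of_isPSolvable p hsolv hK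
        haveI hOn : (pCore p G).Normal := pCore_normal' p
        have hOp : IsPGroup p (pCore p G) := Cfsg.Agent.Lib.Helper12.pCore_isPGroup' p
        haveI : Nontrivial (pCore p G) := (Subgroup.nontrivial_iff_ne_bot _).mpr hO
        haveI : Nontrivial (Subgroup.center (pCore p G)) := hOp.center_nontrivial
        set N : Subgroup G := (Subgroup.center (pCore p G)).map (pCore p G).subtype with hNdef
        haveI hNn : N.Normal := ConjAct.normal_of_characteristic_of_normal
        have hNne : N ≠ ⊥ := by
          intro h0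
          rw [hNdef, Subgroup.map_eq_bot_iff_of_injective _ (Subgroup.subtype_injective _)] at h0
          exact (Subgroup.nontrivial_iff_ne_bot _).mp inferInstance h0
        have hNab : ∀ a ∈ N, ∀ b ∈ N, a * b = b * a := by
          rintro _ ⟨a, ha, rfl⟩ _ ⟨b, hb, rfl⟩
          have := Subgroup.mem_center_iff.mp hb a
          exact congrArg Subtype.val this
        have hNp : IsPGroup p N := by
          apply hOp.to_le
          rintro _ ⟨a, -, rfl⟩
          exact a.2
        set A : Subgroup ↥(P : Subgroup G) := N.subgroupOf (P : Subgroup G) with hAdef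
        have hAab : ∀ a ∈ A, ∀ b ∈ A, a * b = b * a := by
          intro a ha b hb
          apply Subtype.ext
          exact hNab _ (Subgroup.mem_subgroupOf.mp ha) _ (Subgroup.mem_subgroupOf.mp hb)
        by_cases hlt : Nat.card {β : IrrCharacter (G ⧸ N) // p ∣ charDegree (β : G ⧸ N → ℂ)} < k
        · apply derivedSeries_succ_eq_bot A hAab k
          intro x hx
          rw [hAdef, Subgroup.mem_subgroupOf]
          exact quot_step p ih' hsolv P N hNne k hlt x hx
        · push Not at hlt
          have hker := ker_of_card_sing_eq p N hlt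
          have hD := commutator_sylow_mem_of_kernel hsolv N hNp hNab hNne hker P
          have h1 : derivedSeries ↥(P : Subgroup G) 1 ≤ A := by
            rw [derivedSeries_succ, derivedSeries_zero, Subgroup.commutator_le]
            intro a _ b _
            rw [hAdef, Subgroup.mem_subgroupOf]
            have := hD a a.2 b b.2
            rw [commutatorElement_def] at this ⊢
            simpa using this
          have h2 := derivedSeries_succ_eq_bot A hAab 1 h1
          exact derivedSeries_eq_bot_of_le (by omega) h2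
      · -- `O_{p'}(G) ≠ 1`
        set K := pPrimeCore p G with hKdef
        haveI hKn : K.Normal := pPrimeCore_normal' p
        have hKc : (Nat.card K).Coprime p := Cfsg.Agent.Lib.Helper12.pPrimeCore_coprime p
        rw [eq_bot_iff]
        intro x hx
        have hle := card_sing_quotient_le (G := G) p K
        have hxK := quot_step p ih' hsolv P K hK (k + 1) (by omega) x hx
        rw [Subgroup.mem_bot]
        apply Subtype.ext
        rw [Subgroup.coe_one]
        obtain ⟨j, hj⟩ := (IsPGroup.iff_orderOf.mp P.isPGroup') x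
        have h1 : orderOf (x : G) ∣ p ^ j := by rw [Subgroup.orderOf_coe, hj]
        have h2 : orderOf (x : G) ∣ Nat.card K := by
          have := orderOf_dvd_natCard (⟨(x : G), hxK⟩ : K)
          rwa [← Subgroup.orderOf_coe] at this
        have h3 : orderOf (x : G) ∣ 1 := by
          have := Nat.dvd_gcd h2 h1
          rwa [Nat.Coprime.pow_right j hKc] at this
        exact orderOf_eq_one_iff.mp (Nat.dvd_one.mp h3)

end main

theorem result' {G : Type u} [Group G] [Finite G] (p : ℕ) [Fact p.Prime] (hG : Cfsg.IsPSolvable p G)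
    (P : Sylow p G) : derivedSeries ↥(P : Subgroup G)
      (Nat.card {χ : Cfsg.IrrCharacter G // p ∣ Cfsg.charDegree (χ : G → ℂ)} + 1) = ⊥ :=
  main p (Nat.card G) G rfl hG P

/-- Let p be a prime, G a finite p-solvable group and P a Sylow p-subgroup of G. If n is the number of irreducible complex characters of G whose degree is divisible by p, then the (n+1)-st term of the derived series of P is trivial. (The p-solvable case has a direct inductive proof.) -/
theorem result {G : Type*} [Group G] [Finite G] (p : ℕ) [Fact p.Prime] (hG : Cfsg.IsPSolvable p G) (P : Sylow p G) : derivedSeries ↥(P : Subgroup G) (Nat.card {χ : Cfsg.IrrCharacter G // p ∣ Cfsg.charDegree (χ : G → ℂ)} + 1) = ⊥ := by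
  exact result' p hG P

end Cfsg.Agent.S4768
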