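import Cfsg.Statements.S4784
import Mathlib
import Cfsg.Agent.Lib.Helper23.PermFS

set_option autoImplicit false
open Cfsg

namespace Cfsg.Agent.S4784

open Cfsg.Agent.CharLib Cfsg.Agent.Lib.Helper6 Cfsg.Agent.Lib.Helper23
open scoped ComplexConjugate

/-- Let H be a subgroup of the finite group G and consider the permutation character of G on the cosets of H (the function induced from the principal character of H). Then exactly one irreducible constituent of it is real-valued with Frobenius–Schur indicator +1 (namely the principal character) if and only if the normal core of H has odd index in G. -/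
theorem result {G : Type*} [Group G] [Fintype G] (H : Subgroup G) : Nat.card {χ : Cfsg.IrrCharacter G // Cfsg.classInner (Cfsg.indFun H (fun _ : H => (1 : ℂ))) (χ : G → ℂ) ≠ 0 ∧ (∀ g : G, (starRingEnd ℂ) ((χ : G → ℂ) g) = (χ : G → ℂ) g) ∧ (Nat.card G : ℂ)⁻¹ * ∑ g : G, (χ : G → ℂ) (g * g) = 1} = 1 ↔ Odd H.normalCore.index := by
  classical
  letI : Fintype (IrrCharacter G) := fintypeIrr G
  letI : Fintype H := Fintype.ofFinite H
  set π : G → ℂ := indFun H (fun _ : H => (1 : ℂ)) with hπ
  have hπc : IsCharacter G π :=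
    IsCharacter.indFun H (IsIrrCharacter.isCharacter (isIrrCharacter_one H))
  have hG0 : (Nat.card G : ℂ) ≠ 0 := by exact_mod_cast Nat.card_pos.ne'
  have hH0 : (Nat.card H : ℂ) ≠ 0 := by exact_mod_cast Nat.card_pos.ne'
  -- the principal character
  let one' : IrrCharacter G := ⟨1, isIrrCharacter_one G⟩
  have hone : classInner π (one' : G → ℂ) ≠ 0 ∧
      (∀ g : G, (starRingEnd ℂ) ((one' : G → ℂ) g) = (one' : G → ℂ) g) ∧
      (Nat.card G : ℂ)⁻¹ * ∑ g : G, (one' : G → ℂ) (g * g) = 1 := by
    refine ⟨?_, ?_, ?_⟩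
    · rw [hπ]
      have h1 := classInner_indFun_one H
        (IsCharacter.isClassFunction (IsIrrCharacter.isCharacter (isIrrCharacter_one G)))
      have h2 : (fun _ : H => (1 : ℂ)) = (1 : H → ℂ) := rfl
      rw [h2]
      show classInner (indFun H (1 : H → ℂ)) (1 : G → ℂ) ≠ 0
      rw [h1]
      simp only [Pi.one_apply, Finset.sum_const, Finset.card_univ, nsmul_eq_mul, mul_one, map_natCast]
      rw [Nat.card_eq_fintype_card]
      have : (Fintype.card H : ℂ) ≠ 0 := by exact_mod_cast Fintype.card_ne_zero
      rw [inv_mul_cancel₀ this]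
      exact one_ne_zero
    · intro g
      show (starRingEnd ℂ) ((1 : G → ℂ) g) = (1 : G → ℂ) g
      rw [Pi.one_apply, map_one]
    · show (Nat.card G : ℂ)⁻¹ * ∑ g : G, (1 : G → ℂ) (g * g) = 1
      simp only [Pi.one_apply, Finset.sum_const, Finset.card_univ, nsmul_eq_mul, mul_one]
      rw [Nat.card_eq_fintype_card]
      have : (Fintype.card G : ℂ) ≠ 0 := by exact_mod_cast Fintype.card_ne_zero
      exact inv_mul_cancel₀ this
  constructor
  · -- exactly one ⇒ odd index
    intro hcard
    by_contra hodd
    rw [Nat.not_odd_iff_even] at hodd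
    haveI : Fact (Nat.Prime 2) := ⟨Nat.prime_two⟩
    have h2dvd : 2 ∣ Nat.card (G ⧸ H.normalCore) := by
      rw [← Subgroup.index_eq_card]; exact even_iff_two_dvd.mp hodd
    obtain ⟨q, hq⟩ := exists_prime_orderOf_dvd_card' 2 h2dvd
    obtain ⟨t, rfl⟩ := QuotientGroup.mk_surjective q
    have ht1 : t ∉ H.normalCore := by
      intro ht
      rw [(QuotientGroup.eq_one_iff t).mpr ht, orderOf_one] at hq
      exact absurd hq (by norm_num)
    have ht2 : t * t ∈ H.normalCore := by
      rw [← QuotientGroup.eq_one_iff, QuotientGroup.mk_mul, ← pow_two, ← hq, pow_orderOf_eq_one]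
    obtain ⟨x, hx⟩ : ∃ x : G, x * t * x⁻¹ ∉ H := by
      by_contra hcon
      push Not at hcon
      exact ht1 hcon
    set g := x * t * x⁻¹ with hg
    have hgg : g * g ∈ H := by
      have h1 : g * g = x * (t * t) * x⁻¹ := by rw [hg]; group
      rw [h1]
      exact H.normalCore_le (Subgroup.Normal.conj_mem inferInstance _ ht2 x)
    -- counting
    have hcount : (Nat.card H) < (Finset.univ.filter (fun y : G => y * y ∈ H)).card := by
      have hsub : insert g (Finset.univ.filter (fun y : G => y ∈ H)) ⊆
          Finset.univ.filter (fun y : G => y * y ∈ H) := by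
        intro y hy
        rw [Finset.mem_insert] at hy
        rw [Finset.mem_filter]
        refine ⟨Finset.mem_univ _, ?_⟩
        rcases hy with rfl | hy
        · exact hgg
        · exact H.mul_mem (Finset.mem_filter.mp hy).2 (Finset.mem_filter.mp hy).2
      have hle := Finset.card_le_card hsub
      rw [Finset.card_insert_of_notMem (by
        intro h; exact hx (Finset.mem_filter.mp h).2)] at hle
      have hHcard : (Finset.univ.filter (fun y : G => y ∈ H)).card = Nat.card H := by
        rw [Nat.card_eq_fintype_card, Fintype.card_subtype]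
      omega
    -- decomposition of π
    obtain ⟨m, hm, hcoef⟩ := IsCharacter.exists_decomp_sum hπc
    choose z hz1 hz2 hz3 using fun χ : IrrCharacter G => exists_fsIndicator χ
    have hνπ : (Nat.card G : ℂ)⁻¹ * ∑ y : G, π (y * y) =
        ((∑ χ : IrrCharacter G, (m χ : ℤ) * z χ : ℤ) : ℂ) := by
      have h1 : ∀ y : G, π (y * y) = ∑ χ : IrrCharacter G, (m χ : ℂ) * (χ : G → ℂ) (y * y) := by
        intro y
        conv_lhs => rw [hm]
        rw [Finset.sum_apply]
        apply Finset.sum_congr rfl
        intro χ _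
        rw [Pi.smul_apply, nsmul_eq_mul]
      simp only [h1]
      rw [Finset.sum_comm, Finset.mul_sum]
      push_cast
      apply Finset.sum_congr rfl
      intro χ _
      rw [← Finset.mul_sum, ← hz1 χ]
      ring
    have hsum := sum_indFun_one_sq H
    rw [← hπ] at hsum
    rw [hsum] at hνπ
    have hint : ((Finset.univ.filter (fun y : G => y * y ∈ H)).card : ℤ) =
        (Nat.card H : ℤ) * ∑ χ : IrrCharacter G, (m χ : ℤ) * z χ := by
      have h1 : (((Finset.univ.filter (fun y : G => y * y ∈ H)).card : ℤ) : ℂ) =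
          (((Nat.card H : ℤ) * ∑ χ : IrrCharacter G, (m χ : ℤ) * z χ : ℤ) : ℂ) := by
        push_cast
        push_cast at hνπ
        rw [← hνπ]
        field_simp
      exact_mod_cast h1
    have hgt : 1 < ∑ χ : IrrCharacter G, (m χ : ℤ) * z χ := by
      by_contra hle
      push Not at hle
      have hHpos : (0 : ℤ) < (Nat.card H : ℤ) := by exact_mod_cast Nat.card_pos
      have : ((Finset.univ.filter (fun y : G => y * y ∈ H)).card : ℤ) ≤ (Nat.card H : ℤ) := by
        rw [hint]
        nlinarith
      have h2 : ((Nat.card H : ℕ) : ℤ) < ((Finset.univ.filter (fun y : G => y * y ∈ H)).card : ℤ) := by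
        exact_mod_cast hcount
      omega
    -- the term of the principal character is 1
    have hm1 : (m one' : ℤ) * z one' ≤ 1 ∨ True := Or.inr trivial
    have hzone : z one' = 1 := by
      have h1 := hz1 one'
      rw [hone.2.2] at h1
      exact_mod_cast h1.symm
    have hmone : m one' = 1 := by
      have h1 := hcoef one'
      have h2 := classInner_indFun_one H
        (IsCharacter.isClassFunction (IsIrrCharacter.isCharacter (isIrrCharacter_one G)))
      have h3 : classInner π (one' : G → ℂ) = 1 := by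
        show classInner (indFun H (1 : H → ℂ)) (1 : G → ℂ) = 1
        rw [h2]
        simp only [Pi.one_apply, Finset.sum_const, Finset.card_univ, nsmul_eq_mul, mul_one,
          map_natCast]
        rw [Nat.card_eq_fintype_card]
        have : (Fintype.card H : ℂ) ≠ 0 := by exact_mod_cast Fintype.card_ne_zero
        exact inv_mul_cancel₀ this
      rw [h3] at h1
      exact_mod_cast h1.symm
    -- another orthogonal constituent
    obtain ⟨χ, hχne, hχpos⟩ : ∃ χ : IrrCharacter G, χ ≠ one' ∧ 0 < (m χ : ℤ) * z χ := by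
      by_contra hcon
      push Not at hcon
      have h1 : ∑ χ : IrrCharacter G, (m χ : ℤ) * z χ ≤ 1 := by
        rw [← Finset.add_sum_erase Finset.univ _ (Finset.mem_univ one'), hmone, hzone]
        have : ∑ χ ∈ Finset.univ.erase one', (m χ : ℤ) * z χ ≤ 0 := by
          apply Finset.sum_nonpos
          intro χ hχ
          exact hcon χ (Finset.ne_of_mem_erase hχ)
        simp only [Nat.cast_one, mul_one]
        omega
      omega
    have hmχ : m χ ≠ 0 := by
      rintro h0
      rw [h0] at hχpos
      simp at hχpos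
    have hzχ : z χ = 1 := by
      rcases hz2 χ with h | h | h
      · rw [h, mul_zero] at hχpos; exact absurd hχpos (lt_irrefl _)
      · exact h
      · rw [h] at hχpos
        have : (0 : ℤ) ≤ (m χ : ℤ) := Int.natCast_nonneg _
        nlinarith
    have hχmem : classInner π (χ : G → ℂ) ≠ 0 ∧
        (∀ g : G, (starRingEnd ℂ) ((χ : G → ℂ) g) = (χ : G → ℂ) g) ∧
        (Nat.card G : ℂ)⁻¹ * ∑ g : G, (χ : G → ℂ) (g * g) = 1 := by
      refine ⟨?_, ?_, ?_⟩
      · rw [hcoef χ]; exact_mod_cast hmχ
      · intro g
        rw [Complex.conj_eq_iff_im]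
        exact (hz3 χ).mp (by rw [hzχ]; exact one_ne_zero) g
      · rw [hz1 χ, hzχ]; simp
    -- two distinct elements in a type of cardinality one
    have hsub : Subsingleton {χ : Cfsg.IrrCharacter G // classInner π (χ : G → ℂ) ≠ 0 ∧
        (∀ g : G, (starRingEnd ℂ) ((χ : G → ℂ) g) = (χ : G → ℂ) g) ∧
        (Nat.card G : ℂ)⁻¹ * ∑ g : G, (χ : G → ℂ) (g * g) = 1} :=
      (Nat.card_eq_one_iff_unique.mp hcard).1
    have := hsub.elim ⟨χ, hχmem⟩ ⟨one', hone⟩
    exact hχne (congrArg Subtype.val this)
  · -- odd index ⇒ exactly one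
    intro hodd
    rw [Nat.card_eq_one_iff_unique]
    refine ⟨⟨?_⟩, ⟨⟨one', hone⟩⟩⟩
    rintro ⟨χ, hχ1, hχ2, hχ3⟩ ⟨χ', hχ1', hχ2', hχ3'⟩
    have key : ∀ ψ : IrrCharacter G, classInner π (ψ : G → ℂ) ≠ 0 →
        (Nat.card G : ℂ)⁻¹ * ∑ g : G, (ψ : G → ℂ) (g * g) = 1 → ψ = one' := by
      intro ψ h1 h3
      have hker : ∀ c ∈ H.normalCore, (ψ : G → ℂ) c = (ψ : G → ℂ) 1 := by
        intro c hc
        exact Cfsg.Agent.Lib.Helper2.constituent_apply_eq hπc ψ.2 h1 c
          (indFun_one_apply_of_mem_normalCore H hc)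
      apply Subtype.ext
      exact eq_one_of_fs_eq_one_of_odd_index H.normalCore hodd ψ hker h3
    apply Subtype.ext
    exact (key χ hχ1 hχ3).trans (key χ' hχ1' hχ3').symm

end Cfsg.Agent.S4784
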