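import Cfsg.Statements.S4796
import Cfsg.Agent.Lib.Helper24.PerfectLemmas
import Cfsg.Agent.Lib.Helper24.AbelianBound
import Cfsg.Agent.Lib.Helper24.FrobeniusPrime
import Cfsg.Agent.Lib.Helper6.LinChar

set_option autoImplicit false
open Cfsg

namespace Cfsg.Agent.S4796

open Cfsg.Agent.Lib.Helper24 Cfsg

/-- a group with a faithful linear character is cyclic -/
theorem isCyclic_of_faithful_linear {G : Type*} [Group G] [Finite G] (χ : IrrCharacter G)
    (hfaith : ∀ g : G, (χ : G → ℂ) g = (χ : G → ℂ) 1 → g = 1) (h1 : (χ : G → ℂ) 1 = 1) : IsCyclic G := by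
  have hχ := Cfsg.Agent.CharLib.IsIrrCharacter.isCharacter χ.2
  let f : G →* ℂ := Cfsg.Agent.Lib.Helper6.linCharHom hχ h1
  have hf : ∀ g : G, f g = (χ : G → ℂ) g := fun g => rfl
  apply isCyclic_of_injective_ringHom f
  intro a b hab
  have h2 : f (a * b⁻¹) = 1 := by
    rw [map_mul, hab, ← map_mul, mul_inv_cancel, map_one]
  rw [hf, ← h1] at h2
  have := hfaith _ h2
  exact mul_inv_eq_one.mp this

/-- If `|G| = p * d` with `0 < d < p` then the Sylow `p`-subgroup is normal of order `p`. -/
theorem exists_normal_sylow_of_card_eq {G : Type*} [Group G] [Finite G] (p : ℕ) [Fact p.Prime] (d : ℕ)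
    (hcard : Nat.card G = p * d) (hdpos : 0 < d) (hdp : d < p) :
    ∃ P : Sylow p G, Nat.card (P : Subgroup G) = p ∧ (P : Subgroup G).Normal ∧ (P : Subgroup G).index = d := by
  have hp : p.Prime := Fact.out
  have hpd : ¬ p ∣ d := fun h => absurd (Nat.le_of_dvd hdpos h) (by omega)
  obtain ⟨P⟩ : Nonempty (Sylow p G) := inferInstance
  have hPcard : Nat.card (P : Subgroup G) = p := by
    rw [Sylow.card_eq_multiplicity P, hcard, Nat.factorization_mul hp.ne_zero hdpos.ne']
    simp [hp.factorization_self, Nat.factorization_eq_zero_of_not_dvd hpd]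
  have hindex : (P : Subgroup G).index = d := by
    have := (P : Subgroup G).card_mul_index
    rw [hPcard, hcard] at this
    exact Nat.eq_of_mul_eq_mul_left hp.pos this
  have hnp1 : Nat.card (Sylow p G) = 1 := by
    have h1 : Nat.card (Sylow p G) ∣ d := hindex ▸ Sylow.card_dvd_index P
    have h2 : Nat.card (Sylow p G) ≡ 1 [MOD p] := card_sylow_modEq_one p G
    have h3 : Nat.card (Sylow p G) ≤ d := Nat.le_of_dvd hdpos h1
    have h4 : 0 < Nat.card (Sylow p G) := Nat.card_pos
    unfold Nat.ModEq at h2
    rw [Nat.mod_eq_of_lt (by omega), Nat.mod_eq_of_lt hp.one_lt] at h2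
    exact h2
  have hsub : Subsingleton (Sylow p G) := (Nat.card_eq_one_iff_unique.mp hnp1).1
  exact ⟨P, hPcard, Sylow.normal_of_subsingleton P, hindex⟩

/-- Let G be a finite group with a faithful irreducible complex character χ whose codegree #G / χ(1) is a prime p (for a faithful character the kernel is trivial, so the codegree is #G / χ(1)). Then either G is cyclic of order p, or G is a Frobenius group whose Frobenius kernel has order p: some proper non-trivial subgroup H satisfies H ∩ gHg⁻¹ = 1 for every element g outside H, and the set of elements lying in no conjugate of H, together with the identity, has exactly p elements. -/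
theorem result {G : Type*} [Group G] [Finite G] (χ : Cfsg.IrrCharacter G) (hfaith : ∀ g : G, (χ : G → ℂ) g = (χ : G → ℂ) 1 → g = 1) (p : ℕ) (hp : p.Prime) (hcod : Nat.card G = p * Cfsg.charDegree (χ : G → ℂ)) : (IsCyclic G ∧ Nat.card G = p) ∨ ∃ H : Subgroup G, Cfsg.IsFrobeniusComplement H ∧ Nat.card ↥(Cfsg.frobeniusKernel H) = p := by
  classical
  have hfact : Fact p.Prime := ⟨hp⟩
  have := Fintype.ofFinite G
  have := Cfsg.Agent.CharLib.fintypeIrr G
  set d := Cfsg.charDegree (χ : G → ℂ) with hd
  have hdpos : 0 < d := irr_charDegree_pos χ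
  by_cases hd1 : d = 1
  · left
    have h1 : (χ : G → ℂ) 1 = 1 := by rw [irr_apply_one χ, ← hd, hd1]; simp
    refine ⟨isCyclic_of_faithful_linear χ hfaith h1, ?_⟩
    rw [hcod, hd1, mul_one]
  · right
    have hχne : χ ≠ trivIrr G := by
      intro h
      apply hd1
      rw [hd, h]
      exact charDegree_trivIrr
    have hdp : d < p := by
      have hsum := sum_charDegree_sq (G := G)
      have hsub : ({χ, trivIrr G} : Finset (Cfsg.IrrCharacter G)) ⊆ Finset.univ := Finset.subset_univ _
      have hle := Finset.sum_le_sum_of_subset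
        (f := fun ψ : Cfsg.IrrCharacter G => Cfsg.charDegree (ψ : G → ℂ) ^ 2) hsub
      rw [Finset.sum_pair hχne, hsum, charDegree_trivIrr, ← Nat.card_eq_fintype_card, hcod] at hle
      nlinarith
    obtain ⟨P, hPcard, hPnormal, hPindex⟩ := exists_normal_sylow_of_card_eq p d hcod hdpos hdp
    have hpd : ¬ p ∣ d := fun h => absurd (Nat.le_of_dvd hdpos h) (by omega)
    -- the centralizer of P is P
    have hcent : ∀ c : G, (∀ z ∈ (P : Subgroup G), c * z = z * c) → c ∈ (P : Subgroup G) := by
      intro c hc
      by_contra hcP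
      let S : Set G := ((P : Subgroup G) : Set G) ∪ {c}
      have hScomm : ∀ x ∈ S, ∀ y ∈ S, x * y = y * x := by
        intro x hx y hy
        rcases hx with hx | hx <;> rcases hy with hy | hy
        · exact comm_of_prime_card p (P : Subgroup G) hPcard x y hx hy
        · rw [Set.mem_singleton_iff] at hy
          subst hy
          exact (hc x hx).symm
        · rw [Set.mem_singleton_iff] at hx
          subst hx
          exact hc y hy
        · rw [Set.mem_singleton_iff] at hx hy
          subst hx
          subst hy
          rfl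
      have hAcomm : ∀ a ∈ Subgroup.closure S, ∀ b ∈ Subgroup.closure S, a * b = b * a := by
        intro a ha b hb
        have hinst := Subgroup.isMulCommutative_closure hScomm
        have := hinst.is_comm.comm ⟨a, ha⟩ ⟨b, hb⟩
        exact congrArg Subtype.val this
      have hbound := card_mul_charDegree_le_of_comm (Subgroup.closure S) hAcomm χ
      rw [← hd, hcod] at hbound
      have hAle : Nat.card (Subgroup.closure S) ≤ p := Nat.le_of_mul_le_mul_right hbound hdpos
      have hPA : (P : Subgroup G) ≤ Subgroup.closure S := by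
        intro z hz
        exact Subgroup.subset_closure (Or.inl hz)
      have heq : (P : Subgroup G) = Subgroup.closure S :=
        Subgroup.eq_of_le_of_card_ge hPA (by rw [hPcard]; exact hAle)
      apply hcP
      rw [heq]
      exact Subgroup.subset_closure (Or.inr rfl)
    have := hPnormal
    exact frobenius_of_prime_normal p (P : Subgroup G) hPcard hcent (hPindex ▸ hpd) (hPindex ▸ hd1)

end Cfsg.Agent.S4796
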