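import Cfsg.Statements.S4797
import Cfsg.Agent.Lib.Helper24.PerfectLemmas
import Cfsg.Agent.Lib.Helper24.Deflation
import Cfsg.Agent.Lib.Helper6.LinChar

set_option autoImplicit false
open Cfsg

namespace Cfsg.Agent.S4797

open Cfsg.Agent.Lib.Helper24 Cfsg

/-- If `G` is not perfect there is a linear character with kernel of prime index. -/
theorem exists_prime_codegree_of_not_perfect {G : Type*} [Group G] [Finite G] (h : commutator G ≠ ⊤) :
    ∃ χ : IrrCharacter G, (Nat.card G / (Nat.card {g : G // (χ : G → ℂ) g = (χ : G → ℂ) 1} *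
      charDegree (χ : G → ℂ))).Prime := by
  have hcard : Nat.card (G →* ℂˣ) = (commutator G).index := Cfsg.Agent.Lib.Helper6.card_hom_units
  have hidx1 : (commutator G).index ≠ 1 := fun h1 => h (Subgroup.index_eq_one.mp h1)
  have hidx0 : (commutator G).index ≠ 0 := Subgroup.index_ne_zero_of_finite
  have hfin : Finite (G →* ℂˣ) := Nat.finite_of_card_ne_zero (hcard ▸ hidx0)
  obtain ⟨p, hp, hpdvd⟩ := Nat.exists_prime_and_dvd (hcard ▸ hidx1 : Nat.card (G →* ℂˣ) ≠ 1)
  have : Fact p.Prime := ⟨hp⟩
  obtain ⟨ψ, hψ⟩ := exists_prime_orderOf_dvd_card' p hpdvd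
  have hψ1 : ψ ≠ 1 := by
    intro h1
    rw [h1, orderOf_one] at hψ
    exact hp.one_lt.ne hψ
  have hψp : ψ ^ p = 1 := by rw [← hψ]; exact pow_orderOf_eq_one ψ
  -- the range has order p
  have hrange_le : ψ.range ≤ rootsOfUnity p ℂ := by
    rintro _ ⟨g, rfl⟩
    rw [mem_rootsOfUnity]
    have := DFunLike.congr_fun hψp g
    simpa using this
  have hrange_ne : ψ.range ≠ ⊥ := by
    intro hbot
    apply hψ1
    ext g
    have : ψ g ∈ ψ.range := ⟨g, rfl⟩
    rw [hbot, Subgroup.mem_bot] at this
    rw [this]
    rfl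
  have hrootcard : Nat.card (rootsOfUnity p ℂ) = p := by
    have : NeZero p := ⟨hp.ne_zero⟩
    exact Complex.card_rootsOfUnity p
  have hrange_card : Nat.card ψ.range = p := by
    have hdvd : Nat.card ψ.range ∣ p := hrootcard ▸ Subgroup.card_dvd_of_le hrange_le
    rcases (Nat.dvd_prime hp).mp hdvd with h1 | h1
    · exact absurd (Subgroup.card_eq_one.mp h1) hrange_ne
    · exact h1
  have hker_index : ψ.ker.index = p := by rw [Subgroup.index_ker, hrange_card]
  refine ⟨⟨fun g => ((ψ g : ℂˣ) : ℂ), Cfsg.Agent.Lib.Helper6.isIrrCharacter_of_hom ψ⟩, ?_⟩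
  have hone : (fun g => ((ψ g : ℂˣ) : ℂ)) 1 = 1 := by simp
  have hdeg : charDegree (fun g => ((ψ g : ℂˣ) : ℂ)) = 1 := by
    unfold charDegree
    rw [hone]
    simp
  have hkercard : Nat.card {g : G // (fun g => ((ψ g : ℂˣ) : ℂ)) g = (fun g => ((ψ g : ℂˣ) : ℂ)) 1} =
      Nat.card ψ.ker := by
    apply Nat.card_congr
    apply Equiv.subtypeEquivRight
    intro g
    rw [hone, MonoidHom.mem_ker]
    simp
  show (Nat.card G / (Nat.card {g : G // (fun g => ((ψ g : ℂˣ) : ℂ)) g = (fun g => ((ψ g : ℂˣ) : ℂ)) 1} *
      charDegree (fun g => ((ψ g : ℂˣ) : ℂ)))).Prime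
  rw [hkercard, hdeg, mul_one]
  have h3 := ψ.ker.card_mul_index
  rw [hker_index] at h3
  rw [← h3, Nat.mul_div_cancel_left _ Nat.card_pos]
  exact hp

/-- In a perfect group no irreducible character has prime codegree. -/
theorem not_prime_codegree_of_perfect {G : Type*} [Group G] [Finite G] (hperf : commutator G = ⊤)
    (χ : IrrCharacter G) :
    ¬ (Nat.card G / (Nat.card {g : G // (χ : G → ℂ) g = (χ : G → ℂ) 1} * charDegree (χ : G → ℂ))).Prime := by
  intro hprime
  have hdeg := irr_apply_one χ
  obtain ⟨χf, n, ρ, hirr, hχ⟩ := χ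
  have hirr' : ρ.IsIrreducible := hirr
  subst hχ
  change ρ.character 1 = (charDegree ρ.character : ℂ) at hdeg
  change (Nat.card G / (Nat.card {g : G // ρ.character g = ρ.character 1} * charDegree ρ.character)).Prime at hprime
  have hfr : Module.finrank ℂ (Fin n → ℂ) = charDegree ρ.character := by
    rw [Representation.char_one] at hdeg
    exact_mod_cast hdeg
  -- the kernel
  have hkermem : ∀ g : G, ρ.character g = ρ.character 1 ↔ g ∈ (ρ : G →* _).ker := by
    intro g
    rw [MonoidHom.mem_ker]
    constructor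
    · intro h
      rw [Representation.char_one] at h
      exact rep_eq_one_of_char_eq_finrank ρ g h
    · intro h
      have h1 : ρ g = ρ 1 := by rw [h, map_one]
      unfold Representation.character
      rw [h1]
  have hkercard : Nat.card {g : G // ρ.character g = ρ.character 1} = Nat.card (ρ : G →* _).ker :=
    Nat.card_congr (Equiv.subtypeEquivRight hkermem)
  rw [hkercard] at hprime
  set K : Subgroup G := (ρ : G →* _).ker with hK
  have hKmem : ∀ k ∈ K, ρ k = 1 := fun k hk => MonoidHom.mem_ker.mp hk
  let ρbar := deflate K ρ hKmem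
  have hirrbar : ρbar.IsIrreducible := deflate_isIrreducible K ρ hKmem
  let χbar : IrrCharacter (G ⧸ K) := ⟨ρbar.character, n, ρbar, hirrbar, rfl⟩
  have hdegbar : charDegree (χbar : G ⧸ K → ℂ) = charDegree ρ.character := by
    have h1 := irr_apply_one χbar
    change ρbar.character 1 = _ at h1
    rw [Representation.char_one, hfr] at h1
    exact_mod_cast h1.symm
  have hperfbar : commutator (G ⧸ K) = ⊤ :=
    commutator_eq_top_of_surjective hperf (QuotientGroup.mk' K) (QuotientGroup.mk'_surjective K)
  have hdvd : charDegree ρ.character ∣ Nat.card (G ⧸ K) := hdegbar ▸ irr_charDegree_dvd_card χbar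
  obtain ⟨c, hc⟩ := hdvd
  have hcardG : Nat.card G = Nat.card K * Nat.card (G ⧸ K) := by
    rw [mul_comm]
    exact Subgroup.card_eq_card_quotient_mul_card_subgroup K
  have hdpos : 0 < charDegree ρ.character := by
    have := finrank_pos_of_isIrreducible ρ
    omega
  have hquot : Nat.card G / (Nat.card K * charDegree ρ.character) = c := by
    rw [hcardG, hc, ← mul_assoc]
    exact Nat.mul_div_cancel_left c (Nat.mul_pos Nat.card_pos hdpos)
  rw [hquot] at hprime
  apply perfect_no_prime_mul_degree hperfbar χbar c hprime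
  rw [hdegbar, hc, mul_comm]

/-- The codegree of an irreducible complex character χ of a finite group G is [G : ker χ] / χ(1), where ker χ is the set of elements at which χ takes the value χ(1). A non-trivial finite group is perfect if and only if no irreducible complex character of it has prime codegree. -/
theorem result {G : Type*} [Group G] [Finite G] [Nontrivial G] : commutator G = ⊤ ↔ ∀ χ : Cfsg.IrrCharacter G, ¬ ((Nat.card G / (Nat.card {g : G // (χ : G → ℂ) g = (χ : G → ℂ) 1} * Cfsg.charDegree (χ : G → ℂ)))).Prime := by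
  constructor
  · intro hperf χ
    exact not_prime_codegree_of_perfect hperf χ
  · intro h
    by_contra hne
    obtain ⟨χ, hχ⟩ := exists_prime_codegree_of_not_perfect hne
    exact h χ hχ

end Cfsg.Agent.S4797
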