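-- S4801 (helper6): codegree set inclusion from a simple group forces |S| ∣ |G|.
-- Proof: for a prime p ∣ |S| the sum-of-squares formula gives a non-principal χ ∈ Irr(S) of p'-degree;
-- it is faithful (S simple), so cod χ = |S| / χ(1) has the full p-part of |S|; codegrees of G divide |G|.
import Mathlib
import Cfsg.Statements.S4801
import Cfsg.Agent.Lib.Helper24.IrrFacts
import Cfsg.Agent.Lib.Helper24.Deflation
import Cfsg.Agent.Lib.Helper24.PerfectLemmas

set_option autoImplicit false
open Cfsg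

namespace Cfsg.Agent.S4801

open Cfsg.Agent.Lib.Helper24 Cfsg.Agent.CharLib Cfsg Module

section
variable {G : Type*} [Group G] [Finite G]

/-- the kernel of an irreducible character as a normal subgroup, with the degree dividing its index -/
theorem exists_kernel (χ : Cfsg.IrrCharacter G) :
    ∃ L : Subgroup G, L.Normal ∧ (∀ g : G, g ∈ L ↔ (χ : G → ℂ) g = (χ : G → ℂ) 1) ∧
      Cfsg.charDegree (χ : G → ℂ) ∣ L.index := by
  have hdeg := irr_apply_one χ
  obtain ⟨χf, n, ρ, hirr, rfl⟩ := χ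
  have hone : ρ.character 1 = (finrank ℂ (Fin n → ℂ) : ℂ) := by simp
  have hmem : ∀ g : G, g ∈ MonoidHom.ker ρ ↔ ρ.character g = ρ.character 1 := by
    intro g
    rw [MonoidHom.mem_ker]
    constructor
    · intro h
      unfold Representation.character
      rw [h, map_one ρ]
    · intro h
      rw [hone] at h
      exact rep_eq_one_of_char_eq_finrank ρ g h
  refine ⟨MonoidHom.ker ρ, MonoidHom.normal_ker ρ, hmem, ?_⟩
  have := hirr
  have : (MonoidHom.ker ρ).Normal := MonoidHom.normal_ker ρ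
  have h1 := finrank_dvd_index_of_le_ker (MonoidHom.ker ρ) ρ (fun g hg => by rw [← hone]; exact (hmem g).mp hg)
  have h2 : Cfsg.charDegree ρ.character = finrank ℂ (Fin n → ℂ) := by
    have h3 : ((Cfsg.charDegree ρ.character : ℕ) : ℂ) = (finrank ℂ (Fin n → ℂ) : ℂ) := by
      rw [← hone]; exact hdeg.symm
    exact_mod_cast h3
  rw [h2]
  exact h1

/-- the codegree formula: `|G| = |ker χ| * χ(1) * cod χ` -/
theorem codegree_spec (χ : Cfsg.IrrCharacter G) :
    ∃ (L : Subgroup G) (c : ℕ), L.Normal ∧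
      (∀ g : G, g ∈ L ↔ (χ : G → ℂ) g = (χ : G → ℂ) 1) ∧ L.index = Cfsg.charDegree (χ : G → ℂ) * c ∧
      Nat.card {g : G // (χ : G → ℂ) g = (χ : G → ℂ) 1} = Nat.card L ∧
      Nat.card G / (Nat.card {g : G // (χ : G → ℂ) g = (χ : G → ℂ) 1} * Cfsg.charDegree (χ : G → ℂ)) = c ∧
      Nat.card G = (Nat.card {g : G // (χ : G → ℂ) g = (χ : G → ℂ) 1} * Cfsg.charDegree (χ : G → ℂ)) * c := by
  obtain ⟨L, hLn, hLmem, c, hc⟩ := exists_kernel χ
  have hcard : Nat.card {g : G // (χ : G → ℂ) g = (χ : G → ℂ) 1} = Nat.card L :=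
    Nat.card_congr (Equiv.subtypeEquivRight (fun g => (hLmem g).symm))
  have hG : Nat.card G = (Nat.card L * Cfsg.charDegree (χ : G → ℂ)) * c := by
    rw [← L.card_mul_index, hc, mul_assoc]
  have hpos : 0 < Nat.card L * Cfsg.charDegree (χ : G → ℂ) :=
    Nat.mul_pos Nat.card_pos (irr_charDegree_pos χ)
  refine ⟨L, c, hLn, hLmem, hc, hcard, ?_, ?_⟩
  · rw [hcard, hG, Nat.mul_div_cancel_left _ hpos]
  · rw [hcard, hG]

/-- a constant irreducible character is the principal character -/
theorem eq_one_of_const (χ : Cfsg.IrrCharacter G) (h : ∀ g : G, (χ : G → ℂ) g = (χ : G → ℂ) 1) :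
    (χ : G → ℂ) = 1 := by
  obtain ⟨L, hLn, hLmem, hdvd⟩ := exists_kernel χ
  have hL : L = ⊤ := by
    rw [eq_top_iff]
    intro g _
    exact (hLmem g).mpr (h g)
  rw [hL, Subgroup.index_top, Nat.dvd_one] at hdvd
  have h1 := irr_apply_one χ
  rw [hdvd] at h1
  funext g
  rw [h g, h1]
  simp

end

/-- The codegree of an irreducible complex character χ of a finite group G is [G : ker χ] / χ(1), where ker χ is the set of elements at which χ takes the value χ(1). Let S be a finite simple group and G a finite group such that every codegree of an irreducible character of S is a codegree of an irreducible character of G. Then the order of S divides the order of G. -/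
theorem result {S : Type*} [Group S] [Finite S] (hS : IsSimpleGroup S) {G : Type*} [Group G] [Finite G] (hsub : ∀ χ : Cfsg.IrrCharacter S, ∃ ψ : Cfsg.IrrCharacter G, (Nat.card S / (Nat.card {g : S // (χ : S → ℂ) g = (χ : S → ℂ) 1} * Cfsg.charDegree (χ : S → ℂ))) = (Nat.card G / (Nat.card {g : G // (ψ : G → ℂ) g = (ψ : G → ℂ) 1} * Cfsg.charDegree (ψ : G → ℂ)))) : Nat.card S ∣ Nat.card G := by
  classical
  haveI : Fintype S := Fintype.ofFinite S
  let _ := fintypeIrr S
  have hS0 : Nat.card S ≠ 0 := Nat.card_pos.ne'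
  have hG0 : Nat.card G ≠ 0 := Nat.card_pos.ne'
  rw [← Nat.factorization_le_iff_dvd hS0 hG0]
  intro p
  by_cases hp : p.Prime
  swap
  · rw [Nat.factorization_eq_zero_of_not_prime _ hp]; exact Nat.zero_le _
  by_cases hpS : p ∣ Nat.card S
  swap
  · rw [Nat.factorization_eq_zero_of_not_dvd hpS]; exact Nat.zero_le _
  -- a non-principal character of degree prime to p
  have hex : ∃ χ : Cfsg.IrrCharacter S, (∃ g : S, (χ : S → ℂ) g ≠ (χ : S → ℂ) 1) ∧
      ¬ p ∣ Cfsg.charDegree (χ : S → ℂ) := by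
    by_contra hcon
    push Not at hcon
    have hsum : ∑ χ : Cfsg.IrrCharacter S, Cfsg.charDegree (χ : S → ℂ) ^ 2 = Nat.card S := by
      rw [sum_charDegree_sq, Nat.card_eq_fintype_card]
    have htriv : Cfsg.charDegree ((trivIrr S : Cfsg.IrrCharacter S) : S → ℂ) = 1 := by
      have h1 := irr_apply_one (trivIrr S)
      have h2 : ((trivIrr S : Cfsg.IrrCharacter S) : S → ℂ) 1 = 1 := rfl
      rw [h2] at h1
      exact_mod_cast h1.symm
    rw [← Finset.add_sum_erase Finset.univ _ (Finset.mem_univ (trivIrr S)), htriv] at hsum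
    have hdiv : p ∣ ∑ χ ∈ Finset.univ.erase (trivIrr S), Cfsg.charDegree (χ : S → ℂ) ^ 2 := by
      apply Finset.dvd_sum
      intro χ hχ
      have hne : χ ≠ trivIrr S := Finset.ne_of_mem_erase hχ
      have hg : ∃ g : S, (χ : S → ℂ) g ≠ (χ : S → ℂ) 1 := by
        by_contra hall
        push Not at hall
        apply hne
        apply Subtype.ext
        exact eq_one_of_const χ hall
      exact dvd_pow (hcon χ hg) two_ne_zero
    have h1 : p ∣ 1 ^ 2 := by
      have h2 : p ∣ 1 ^ 2 + ∑ χ ∈ Finset.univ.erase (trivIrr S), Cfsg.charDegree (χ : S → ℂ) ^ 2 := by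
        rw [hsum]; exact hpS
      exact (Nat.dvd_add_left hdiv).mp h2
    rw [one_pow, Nat.dvd_one] at h1
    exact hp.one_lt.ne' h1
  obtain ⟨χ, ⟨g, hg⟩, hpd⟩ := hex
  obtain ⟨L, c, hLn, hLmem, hLidx, hLcard, hquot, hScard⟩ := codegree_spec χ
  have hLbot : L = ⊥ := by
    rcases hLn.eq_bot_or_eq_top with h | h
    · exact h
    · exfalso
      apply hg
      exact (hLmem g).mp (h ▸ Subgroup.mem_top g)
  obtain ⟨ψ, hψ⟩ := hsub χ
  obtain ⟨L', c', hLn', hLmem', hLidx', hLcard', hquot', hGcard⟩ := codegree_spec ψ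
  rw [hquot, hquot'] at hψ
  -- |S| = χ(1) * c
  have hS1 : Nat.card S = Cfsg.charDegree (χ : S → ℂ) * c := by
    rw [hScard, hLcard, hLbot, Subgroup.card_bot, one_mul]
  have hc0 : c ≠ 0 := by
    intro h; rw [h, mul_zero] at hS1; exact hS0 hS1
  have hd0 : Cfsg.charDegree (χ : S → ℂ) ≠ 0 := (irr_charDegree_pos χ).ne'
  have h1 : (Nat.card S).factorization p = c.factorization p := by
    rw [hS1, Nat.factorization_mul hd0 hc0, Finsupp.add_apply,
      Nat.factorization_eq_zero_of_not_dvd hpd, zero_add]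
  have h2 : c ∣ Nat.card G := by
    rw [hGcard, ← hψ]; exact dvd_mul_left _ _
  rw [h1]
  exact (Nat.factorization_le_iff_dvd hc0 hG0).mpr h2 p

end Cfsg.Agent.S4801
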