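import Cfsg.Statements.S4802
import Cfsg.Agent.Lib.Lead.CharMain
import Cfsg.Agent.Lib.Helper10.NormalSum

set_option autoImplicit false
open Cfsg

namespace Cfsg.Agent.S4802

open Cfsg Cfsg.Agent.CharLib Cfsg.Agent.Lib.Helper10 in
open scoped ComplexConjugate in

/-- Let N < M be normal subgroups of the finite group G and g ∈ M ∖ N. Then the conjugacy class of g is exactly M ∖ N if and only if every irreducible complex character of G whose kernel contains N takes the same value at all elements of M ∖ N, and every irreducible complex character of G whose kernel does not contain N vanishes at g. -/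
theorem result {G : Type*} [Group G] [Finite G] (N M : Subgroup G) [N.Normal] [M.Normal] (hNM : N < M) (g : G) (hgM : g ∈ M) (hgN : g ∉ N) : {h : G | IsConj g h} = (M : Set G) \ (N : Set G) ↔ ((∀ χ : Cfsg.IrrCharacter G, (∀ x ∈ N, (χ : G → ℂ) x = (χ : G → ℂ) 1) → ∀ x ∈ M, x ∉ N → ∀ y ∈ M, y ∉ N → (χ : G → ℂ) x = (χ : G → ℂ) y) ∧ (∀ χ : Cfsg.IrrCharacter G, (∃ x ∈ N, (χ : G → ℂ) x ≠ (χ : G → ℂ) 1) → (χ : G → ℂ) g = 0)) := by
  classical
  haveI : Fintype G := Fintype.ofFinite G
  haveI : Fintype N := Fintype.ofFinite N
  let _ := fintypeIrr G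
  constructor
  · intro hcl
    have hconj : ∀ x ∈ M, x ∉ N → IsConj g x := fun x hxM hxN => by
      have : x ∈ (M : Set G) \ (N : Set G) := ⟨hxM, hxN⟩
      rw [← hcl] at this; exact this
    constructor
    · intro χ _ x hxM hxN y hyM hyN
      have hcf := IsCharacter.isClassFunction (IsIrrCharacter.isCharacter χ.2)
      rw [← IsClassFunction.of_isConj hcf (hconj x hxM hxN),
        ← IsClassFunction.of_isConj hcf (hconj y hyM hyN)]
    · rintro χ ⟨x, hxN, hx⟩
      have hcf := IsCharacter.isClassFunction (IsIrrCharacter.isCharacter χ.2)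
      rcases sum_normal_eq_zero_or N χ.2 with h0 | h1
      · have ht := sum_normal_translate N χ.2 g
        rw [h0, zero_mul] at ht
        have hgn : ∀ n : N, (χ : G → ℂ) (g * (n : G)) = (χ : G → ℂ) g := by
          intro n
          refine (IsClassFunction.of_isConj hcf (hconj (g * n) (M.mul_mem hgM (hNM.le n.2)) ?_)).symm
          intro h
          exact hgN ((Subgroup.mul_mem_cancel_right N n.2).mp h)
        rw [Finset.sum_congr rfl (fun n _ => hgn n), Finset.sum_const, Finset.card_univ,
          nsmul_eq_mul] at ht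
        have h1 : (χ : G → ℂ) 1 ≠ 0 := by
          obtain ⟨k, hk0, hk⟩ := IsIrrCharacter.apply_one_pos χ.2
          rw [hk]
          exact_mod_cast hk0.ne'
        have hN0 : ((Fintype.card N : ℕ) : ℂ) ≠ 0 := by
          exact_mod_cast Fintype.card_ne_zero
        rcases mul_eq_zero.mp ht with h | h
        · rcases mul_eq_zero.mp h with h | h
          · exact absurd h hN0
          · exact h
        · exact absurd h h1
      · exact absurd (h1 x hxN) hx
  · rintro ⟨hA, hB⟩
    ext h
    simp only [Set.mem_ofPred_eq, Set.mem_sdiff, SetLike.mem_coe]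
    constructor
    · intro hc
      obtain ⟨c, rfl⟩ := isConj_iff.mp hc
      refine ⟨‹M.Normal›.conj_mem _ hgM c, fun hh => hgN ?_⟩
      have := ‹N.Normal›.conj_mem _ hh c⁻¹
      simpa [mul_assoc] using this
    · rintro ⟨hhM, hhN⟩
      by_contra hnc
      have horth := sum_irr_mul_conj g h
      have horth2 := sum_irr_mul_conj g g
      have hterm : ∀ χ : IrrCharacter G, (χ : G → ℂ) g * conj ((χ : G → ℂ) h) =
          (χ : G → ℂ) g * conj ((χ : G → ℂ) g) := by
        intro χ
        by_cases hker : ∀ x ∈ N, (χ : G → ℂ) x = (χ : G → ℂ) 1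
        · rw [hA χ hker h hhM hhN g hgM hgN]
        · push Not at hker
          rw [hB χ hker]
          simp
      rw [Finset.sum_congr rfl (fun χ _ => hterm χ), horth2] at horth
      simp only [classIndicator] at horth
      rw [if_pos (IsConj.refl g), if_neg hnc, one_mul, zero_mul] at horth
      have : (Nat.card (Subgroup.centralizer ({g} : Set G)) : ℂ) ≠ 0 := by
        exact_mod_cast Nat.card_pos.ne'
      exact this horth

end Cfsg.Agent.S4802
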