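import Cfsg.Statements.S4808
import Cfsg.Agent.Lib.Helper24.IrrFacts
import Cfsg.Agent.Lib.Helper24.Deflation
import Cfsg.Agent.Lib.Helper24.PerfectLemmas
import Cfsg.Agent.Lib.Helper10.NormalSum

set_option autoImplicit false
open Cfsg

namespace Cfsg.Agent.S4808

open Cfsg.Agent.Lib.Helper24 Cfsg.Agent.CharLib Cfsg Module

section
variable {G : Type*} [Group G] [Finite G]

/-- the kernel of an irreducible character as a normal subgroup, with the degree dividing its index -/
theorem exists_ker (χ : Cfsg.IrrCharacter G) :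
    ∃ L : Subgroup G, L.Normal ∧ (∀ g : G, g ∈ L ↔ (χ : G → ℂ) g = (χ : G → ℂ) 1) ∧
      Cfsg.charDegree (χ : G → ℂ) ∣ L.index := by
  have hdeg := irr_apply_one χ
  obtain ⟨χf, n, ρ, hirr, rfl⟩ := χ
  have hone : ρ.character 1 = (finrank ℂ (Fin n → ℂ) : ℂ) := by simp
  have hmem : ∀ g : G, g ∈ MonoidHom.ker ρ ↔ ρ.character g = ρ.character 1 := by
    intro g
    rw [MonoidHom.mem_ker]
    constructor
    · intro h
      unfold Representation.character
      rw [h, map_one ρ]
    · intro h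
      rw [hone] at h
      exact rep_eq_one_of_char_eq_finrank ρ g h
  refine ⟨MonoidHom.ker ρ, MonoidHom.normal_ker ρ, hmem, ?_⟩
  have := hirr
  have : (MonoidHom.ker ρ).Normal := MonoidHom.normal_ker ρ
  have h1 := finrank_dvd_index_of_le_ker (MonoidHom.ker ρ) ρ (fun g hg => by rw [← hone]; exact (hmem g).mp hg)
  have h2 : Cfsg.charDegree ρ.character = finrank ℂ (Fin n → ℂ) := by
    have h3 : ((Cfsg.charDegree ρ.character : ℕ) : ℂ) = (finrank ℂ (Fin n → ℂ) : ℂ) := by
      rw [← hone]; exact hdeg.symm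
    exact_mod_cast h3
  rw [h2]
  exact h1

/-- sum of squares of degrees of the irreducible characters with `K` in the kernel -/
theorem sum_sq_of_le_ker [Fintype (Cfsg.IrrCharacter G)] (K : Subgroup G) [K.Normal]
    [DecidablePred (fun χ : Cfsg.IrrCharacter G => ∀ k ∈ K, (χ : G → ℂ) k = (χ : G → ℂ) 1)] :
    ∑ χ : Cfsg.IrrCharacter G, (if (∀ k ∈ K, (χ : G → ℂ) k = (χ : G → ℂ) 1) then
      Cfsg.charDegree (χ : G → ℂ) ^ 2 else 0) = K.index := by
  classical
  haveI : Fintype G := Fintype.ofFinite G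
  haveI : Fintype ↥K := Fintype.ofFinite _
  have h1 : ∑ k : ↥K, ∑ χ : Cfsg.IrrCharacter G, (χ : G → ℂ) 1 * (χ : G → ℂ) (k : G) = (Fintype.card G : ℂ) := by
    rw [Finset.sum_eq_single (1 : ↥K)]
    · rw [Subgroup.coe_one, sum_irr_degree_mul, if_pos rfl]
    · intro k _ hk
      rw [sum_irr_degree_mul, if_neg]
      intro h
      exact hk (Subtype.ext h)
    · intro h
      exact absurd (Finset.mem_univ _) h
  rw [Finset.sum_comm] at h1
  have h2 : ∀ χ : Cfsg.IrrCharacter G, ∑ k : ↥K, (χ : G → ℂ) 1 * (χ : G → ℂ) (k : G) =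
      (Nat.card K : ℂ) * ((if (∀ k ∈ K, (χ : G → ℂ) k = (χ : G → ℂ) 1) then
        Cfsg.charDegree (χ : G → ℂ) ^ 2 else 0 : ℕ) : ℂ) := by
    intro χ
    rw [← Finset.mul_sum]
    by_cases hK : ∀ k ∈ K, (χ : G → ℂ) k = (χ : G → ℂ) 1
    · rw [if_pos hK]
      rw [Finset.sum_congr rfl (fun (k : ↥K) _ => hK (k : G) k.2), Finset.sum_const, Finset.card_univ,
        ← Nat.card_eq_fintype_card, irr_apply_one χ]
      push_cast
      simp only [nsmul_eq_mul]
      ring
    · rw [if_neg hK]
      rcases Cfsg.Agent.Lib.Helper10.sum_normal_eq_zero_or K χ.2 with h0 | h0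
      · rw [h0]; simp
      · exact absurd h0 hK
  rw [Finset.sum_congr rfl (fun χ _ => h2 χ), ← Finset.mul_sum] at h1
  have h3 : (Nat.card K : ℂ) * ((∑ χ : Cfsg.IrrCharacter G, (if (∀ k ∈ K, (χ : G → ℂ) k = (χ : G → ℂ) 1) then
      Cfsg.charDegree (χ : G → ℂ) ^ 2 else 0) : ℕ) : ℂ) = (Nat.card K : ℂ) * (K.index : ℂ) := by
    rw [Nat.cast_sum, h1, ← Nat.card_eq_fintype_card]
    have := K.card_mul_index
    exact_mod_cast this.symm
  have hKne : (Nat.card K : ℂ) ≠ 0 := by
    have : 0 < Nat.card K := Nat.card_pos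
    exact_mod_cast this.ne'
  have h4 := mul_left_cancel₀ hKne h3
  exact_mod_cast h4

end

/-- The codegree of an irreducible complex character χ of a finite group G is [G : ker χ] / χ(1), where ker χ is the set of elements at which χ takes the value χ(1). A prime divides the order of G if and only if it divides the codegree of some irreducible complex character of G. -/
theorem result {G : Type*} [Group G] [Finite G] (p : ℕ) (hp : p.Prime) : p ∣ Nat.card G ↔ ∃ χ : Cfsg.IrrCharacter G, p ∣ (Nat.card G / (Nat.card {g : G // (χ : G → ℂ) g = (χ : G → ℂ) 1} * Cfsg.charDegree (χ : G → ℂ))) := by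
  classical
  haveI : Fintype G := Fintype.ofFinite G
  let _ := fintypeIrr G
  have : Fact p.Prime := ⟨hp⟩
  -- the codegree formula
  have hcod : ∀ χ : Cfsg.IrrCharacter G, ∃ (L : Subgroup G) (c : ℕ), L.Normal ∧
      (∀ g : G, g ∈ L ↔ (χ : G → ℂ) g = (χ : G → ℂ) 1) ∧ L.index = Cfsg.charDegree (χ : G → ℂ) * c ∧
      Nat.card G / (Nat.card {g : G // (χ : G → ℂ) g = (χ : G → ℂ) 1} * Cfsg.charDegree (χ : G → ℂ)) = c ∧
      Nat.card G = (Nat.card {g : G // (χ : G → ℂ) g = (χ : G → ℂ) 1} * Cfsg.charDegree (χ : G → ℂ)) * c := by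
    intro χ
    obtain ⟨L, hLn, hLmem, c, hc⟩ := exists_ker χ
    have hcard : Nat.card {g : G // (χ : G → ℂ) g = (χ : G → ℂ) 1} = Nat.card L :=
      Nat.card_congr (Equiv.subtypeEquivRight (fun g => (hLmem g).symm))
    have hG : Nat.card G = (Nat.card L * Cfsg.charDegree (χ : G → ℂ)) * c := by
      rw [← L.card_mul_index, hc, mul_assoc]
    have hpos : 0 < Nat.card L * Cfsg.charDegree (χ : G → ℂ) :=
      Nat.mul_pos Nat.card_pos (irr_charDegree_pos χ)
    refine ⟨L, c, hLn, hLmem, hc, ?_, ?_⟩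
    · rw [hcard, hG, Nat.mul_div_cancel_left _ hpos]
    · rw [hcard, hG]
  constructor
  · intro hpG
    -- a minimal normal subgroup of index prime to p
    have hne : {K : Subgroup G | K.Normal ∧ ¬ p ∣ K.index}.Nonempty :=
      ⟨⊤, inferInstance, by rw [Subgroup.index_top]; exact hp.one_lt.ne' ∘ Nat.dvd_one.mp⟩
    obtain ⟨K, hKmin⟩ := Set.Finite.exists_minimal (Set.toFinite {K : Subgroup G | K.Normal ∧ ¬ p ∣ K.index}) hne
    obtain ⟨⟨hKn, hKp⟩, hKle⟩ := hKmin
    have := hKn
    have hpK : p ∣ Nat.card K := by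
      have h1 : p ∣ Nat.card K * K.index := by rw [K.card_mul_index]; exact hpG
      rcases (Nat.Prime.dvd_mul hp).mp h1 with h | h
      · exact h
      · exact absurd h hKp
    -- the sum of the squares of the degrees not containing K in the kernel
    have hsum1 := sum_sq_of_le_ker (G := G) K
    have hsum2 : ∑ χ : Cfsg.IrrCharacter G, Cfsg.charDegree (χ : G → ℂ) ^ 2 = Nat.card G := by
      rw [sum_charDegree_sq, Nat.card_eq_fintype_card]
    by_contra hcon
    push Not at hcon
    -- every χ with K not in the kernel has degree divisible by p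
    have hall : ∀ χ : Cfsg.IrrCharacter G, ¬ (∀ k ∈ K, (χ : G → ℂ) k = (χ : G → ℂ) 1) →
        p ∣ Cfsg.charDegree (χ : G → ℂ) := by
      intro χ hχK
      by_contra hpd
      obtain ⟨L, c, hLn, hLmem, hLidx, hquot, hG⟩ := hcod χ
      have := hLn
      apply hcon χ
      rw [hquot]
      -- p divides the index of L
      have hpL : p ∣ L.index := by
        by_contra hpL
        have hM : (K ⊓ L).Normal ∧ ¬ p ∣ (K ⊓ L).index := by
          refine ⟨inferInstance, ?_⟩
          have h1 : (K ⊓ L).relIndex K * K.index = (K ⊓ L).index :=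
            Subgroup.relIndex_mul_index inf_le_left
          rw [← h1, Subgroup.inf_relIndex_left] at *
          intro h2
          rcases (Nat.Prime.dvd_mul hp).mp h2 with h | h
          · exact hpL (dvd_trans h (Subgroup.relIndex_dvd_index_of_normal L K))
          · exact hKp h
        have h3 : K ≤ K ⊓ L := hKle hM inf_le_left
        apply hχK
        intro k hk
        exact (hLmem k).mp (h3 hk).2
      rw [hLidx] at hpL
      rcases (Nat.Prime.dvd_mul hp).mp hpL with h | h
      · exact absurd h hpd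
      · exact h
    -- hence p divides |G| - [G:K]
    have hdiff : p ∣ ∑ χ : Cfsg.IrrCharacter G, (if (∀ k ∈ K, (χ : G → ℂ) k = (χ : G → ℂ) 1) then 0 else
        Cfsg.charDegree (χ : G → ℂ) ^ 2) := by
      apply Finset.dvd_sum
      intro χ _
      by_cases h : ∀ k ∈ K, (χ : G → ℂ) k = (χ : G → ℂ) 1
      · rw [if_pos h]; exact dvd_zero _
      · rw [if_neg h]
        exact dvd_pow (hall χ h) two_ne_zero
    have hsplit : ∑ χ : Cfsg.IrrCharacter G, (if (∀ k ∈ K, (χ : G → ℂ) k = (χ : G → ℂ) 1) then 0 else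
        Cfsg.charDegree (χ : G → ℂ) ^ 2) + K.index = Nat.card G := by
      rw [← hsum1, ← hsum2, ← Finset.sum_add_distrib]
      apply Finset.sum_congr rfl
      intro χ _
      by_cases h : ∀ k ∈ K, (χ : G → ℂ) k = (χ : G → ℂ) 1
      · rw [if_pos h, if_pos h, zero_add]
      · rw [if_neg h, if_neg h, add_zero]
    have h5 : p ∣ K.index := by
      have := (Nat.dvd_add_right hdiff).mp (by rw [hsplit]; exact hpG)
      exact this
    exact hKp h5
  · rintro ⟨χ, hχ⟩
    obtain ⟨L, c, hLn, hLmem, hLidx, hquot, hG⟩ := hcod χ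
    rw [hquot] at hχ
    rw [hG]
    exact dvd_mul_of_dvd_right hχ _

end Cfsg.Agent.S4808
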