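-- S4811: the character degree graph of a finite solvable group has at most two connected components
-- (Manz-Staszewski-Willems), via Isaacs 12.3/12.4 (helper21 libs) in Lib/Helper6/DegGraphSolv.
import Mathlib
import Cfsg.Statements.S4811
import Cfsg.Agent.Lib.Helper6.DegGraphSolv

set_option autoImplicit false
open Cfsg

namespace Cfsg.Agent.S4811

/-- For every finite solvable group G the character degree graph of G (vertices: the primes dividing some irreducible complex character degree; edges: distinct primes whose product divides some degree) has at most two connected components. -/
theorem result {G : Type*} [Group G] [Finite G] [Group.IsSolvable G] : Nat.card ((Cfsg.degreeGraph G).induce (Cfsg.degreePrimes G)).ConnectedComponent ≤ 2 := by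
  exact Cfsg.Agent.Lib.Helper6.DegGraphSolv.degreeGraph_components_le_two

end Cfsg.Agent.S4811
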