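import Cfsg.Statements.S4812
import Cfsg.Agent.Lib.Helper13.DegreeSets

set_option autoImplicit false
open Cfsg

namespace Cfsg.Agent.S4812

/-- Let F be a finite field of characteristic 2 with q ≥ 4 elements and let S be isomorphic to PSL(2,F) or to SL(2,F). Then the vertices of the character degree graph of S are the primes dividing q(q²−1), and two distinct primes are adjacent exactly when both divide q + 1 or both divide q − 1; so the graph has the three connected components {2}, the primes dividing q + 1 and the primes dividing q − 1, each complete. -/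
theorem result (F : Type*) [Field F] [Fintype F] [CharP F 2] (q : ℕ) (hq : Fintype.card F = q) (h4 : 4 ≤ q) {S : Type*} [Group S] [Finite S] (hS : Nonempty (S ≃* Matrix.ProjectiveSpecialLinearGroup (Fin 2) F) ∨ Nonempty (S ≃* Matrix.SpecialLinearGroup (Fin 2) F)) : Cfsg.degreePrimes S = {r : ℕ | r.Prime ∧ r ∣ q * (q ^ 2 - 1)} ∧ ∀ r s : ℕ, (Cfsg.degreeGraph S).Adj r s ↔ (r ≠ s ∧ r.Prime ∧ s.Prime ∧ ((r ∣ q + 1 ∧ s ∣ q + 1) ∨ (r ∣ q - 1 ∧ s ∣ q - 1))) := by
  have hq4 : 4 ≤ Fintype.card F := by rw [hq]; exact h4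
  have hD : Cfsg.charDegrees S = {1, q - 1, q, q + 1} := by
    rcases hS with ⟨⟨e⟩⟩ | ⟨⟨e⟩⟩
    · rw [Cfsg.Agent.Lib.Helper13.charDegrees_congr (e.trans Cfsg.Agent.Lib.Helper13.pslEquivSL),
        Cfsg.Agent.Lib.Helper13.charDegrees_SL2_even hq4, hq]
    · rw [Cfsg.Agent.Lib.Helper13.charDegrees_congr e,
        Cfsg.Agent.Lib.Helper13.charDegrees_SL2_even hq4, hq]
  obtain ⟨n, -, hcard⟩ := FiniteField.card F 2
  rw [hq] at hcard
  obtain ⟨k, rfl⟩ : ∃ k, q = k + 1 := ⟨q - 1, by omega⟩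
  have hsq : (k + 1) ^ 2 - 1 = k * (k + 2) := by
    have : (k + 1) ^ 2 = k * (k + 2) + 1 := by ring
    omega
  have hk1 : k + 1 - 1 = k := by omega
  constructor
  · ext r
    unfold Cfsg.degreePrimes
    rw [hD, hsq, hk1]
    simp only [Set.mem_ofPred_eq, Set.mem_insert_iff, Set.mem_singleton_iff]
    constructor
    · rintro ⟨hr, d, (rfl | rfl | rfl | rfl), hrd⟩
      · exfalso
        have := Nat.le_of_dvd (by norm_num) hrd
        have := hr.two_le
        omega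
      · exact ⟨hr, Dvd.dvd.mul_left (Dvd.dvd.mul_right hrd _) _⟩
      · exact ⟨hr, Dvd.dvd.mul_right hrd _⟩
      · exact ⟨hr, Dvd.dvd.mul_left (Dvd.dvd.mul_left hrd _) _⟩
    · rintro ⟨hr, hrd⟩
      refine ⟨hr, ?_⟩
      rcases (Nat.Prime.dvd_mul hr).mp hrd with h | h
      · exact ⟨k + 1, Or.inr (Or.inr (Or.inl rfl)), h⟩
      · rcases (Nat.Prime.dvd_mul hr).mp h with h' | h'
        · exact ⟨k, Or.inr (Or.inl rfl), h'⟩
        · exact ⟨k + 1 + 1, Or.inr (Or.inr (Or.inr rfl)), h'⟩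
  · intro r s
    change (r ≠ s ∧ r.Prime ∧ s.Prime ∧ ∃ d ∈ Cfsg.charDegrees S, r * s ∣ d) ↔ _
    rw [hD, hk1]
    simp only [Set.mem_insert_iff, Set.mem_singleton_iff]
    constructor
    · rintro ⟨hne, hr, hs, d, (rfl | rfl | rfl | rfl), hrd⟩
      · exfalso
        have h1 : r ∣ 1 := Dvd.dvd.trans (Dvd.intro _ rfl) hrd
        have := Nat.le_of_dvd (by norm_num) h1
        have := hr.two_le
        omega
      · exact ⟨hne, hr, hs, Or.inr ⟨Dvd.dvd.trans (Dvd.intro _ rfl) hrd,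
          Dvd.dvd.trans (Dvd.intro_left _ rfl) hrd⟩⟩
      · exfalso
        rw [hcard] at hrd
        have h1 : r ∣ 2 ^ (n : ℕ) := Dvd.dvd.trans (Dvd.intro _ rfl) hrd
        have h2 : s ∣ 2 ^ (n : ℕ) := Dvd.dvd.trans (Dvd.intro_left _ rfl) hrd
        have h3 := (Nat.prime_dvd_prime_iff_eq hr Nat.prime_two).mp (hr.dvd_of_dvd_pow h1)
        have h4 := (Nat.prime_dvd_prime_iff_eq hs Nat.prime_two).mp (hs.dvd_of_dvd_pow h2)
        exact hne (h3.trans h4.symm)
      · exact ⟨hne, hr, hs, Or.inl ⟨Dvd.dvd.trans (Dvd.intro _ rfl) hrd,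
          Dvd.dvd.trans (Dvd.intro_left _ rfl) hrd⟩⟩
    · rintro ⟨hne, hr, hs, (⟨h1, h2⟩ | ⟨h1, h2⟩)⟩
      · have hcop : Nat.Coprime r s := (Nat.coprime_primes hr hs).mpr hne
        exact ⟨hne, hr, hs, k + 1 + 1, Or.inr (Or.inr (Or.inr rfl)),
          Nat.Coprime.mul_dvd_of_dvd_of_dvd hcop h1 h2⟩
      · have hcop : Nat.Coprime r s := (Nat.coprime_primes hr hs).mpr hne
        exact ⟨hne, hr, hs, k, Or.inr (Or.inl rfl),
          Nat.Coprime.mul_dvd_of_dvd_of_dvd hcop h1 h2⟩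

end Cfsg.Agent.S4812
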