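import Cfsg.Statements.S4814
import Cfsg.Agent.Lib.Helper10.GenOrtho
import Cfsg.Agent.Lib.Lead.CharCount

set_option autoImplicit false
open Cfsg

namespace Cfsg.Agent.S4814

open Cfsg.Agent.CharLib Cfsg.Agent.Lib.Helper10
open scoped ComplexConjugate


/-- Let G be a finite group such that the sum, over the irreducible complex characters χ of G, of 1/χ(1)² is less than 2. Then every element of G is a product of two commutators. -/
theorem result {G : Type*} [Group G] [Finite G]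
    (h : ∑ᶠ χ : Cfsg.IrrCharacter G, 1 / ‖(χ : G → ℂ) 1‖ ^ 2 < (2 : ℝ)) (g : G) :
    ∃ a b c d : G, (a * b * a⁻¹ * b⁻¹) * (c * d * c⁻¹ * d⁻¹) = g := by
  classical
  let _ := Fintype.ofFinite G
  let _ := fintypeIrr G
  rw [finsum_eq_sum_of_fintype] at h
  by_contra hno
  push_neg at hno
  have hN0 : (Nat.card G : ℂ) ≠ 0 := card_ne_zero_complex
  set P : G → ℂ := fun x => (Nat.card {p : G × G // p.1 * p.2 * p.1⁻¹ * p.2⁻¹ = x} : ℂ) with hPdef
  have hP : ∀ x, P x = (Nat.card G : ℂ) * ∑ χ : IrrCharacter G,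
      conj ((χ : G → ℂ) x) / (χ : G → ℂ) 1 := fun x => card_commutator_pairs x
  have hc1 : ∀ χ : IrrCharacter G, (χ : G → ℂ) 1 ≠ 0 := by
    intro χ
    obtain ⟨n, hn, hn1⟩ := IsIrrCharacter.apply_one_pos χ.2
    rw [hn1]
    exact_mod_cast hn.ne'
  have hc1conj : ∀ χ : IrrCharacter G, conj ((χ : G → ℂ) 1) = (χ : G → ℂ) 1 :=
    fun χ => IsCharacter.conj_apply_one (IsIrrCharacter.isCharacter χ.2)
  have hzero : ∀ x, P x * P (x⁻¹ * g) = 0 := by
    intro x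
    by_contra hne
    have h1 : P x ≠ 0 := left_ne_zero_of_mul hne
    have h2 : P (x⁻¹ * g) ≠ 0 := right_ne_zero_of_mul hne
    have e1 : Nonempty {p : G × G // p.1 * p.2 * p.1⁻¹ * p.2⁻¹ = x} := by
      by_contra hemp
      rw [not_nonempty_iff] at hemp
      apply h1
      simp only [hPdef, Nat.card_of_isEmpty, Nat.cast_zero]
    have e2 : Nonempty {p : G × G // p.1 * p.2 * p.1⁻¹ * p.2⁻¹ = x⁻¹ * g} := by
      by_contra hemp
      rw [not_nonempty_iff] at hemp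
      apply h2
      simp only [hPdef, Nat.card_of_isEmpty, Nat.cast_zero]
    obtain ⟨⟨⟨a, b⟩, hab⟩⟩ := e1
    obtain ⟨⟨⟨c, d⟩, hcd⟩⟩ := e2
    apply hno a b c d
    simp only at hab hcd
    rw [hab, hcd]
    group
  have hsum : ∑ x : G, P x * P (x⁻¹ * g) = 0 := Finset.sum_eq_zero (fun x _ => hzero x)
  -- the kernel
  have hK : ∀ χ ψ : IrrCharacter G, ∑ x : G, conj ((χ : G → ℂ) x) * conj ((ψ : G → ℂ) (x⁻¹ * g))
      = if χ = ψ then (Nat.card G : ℂ) * conj ((ψ : G → ℂ) g) / (ψ : G → ℂ) 1 else 0 := by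
    intro χ ψ
    have e : ∑ x : G, (χ : G → ℂ) x * (ψ : G → ℂ) (x⁻¹ * g)
        = ∑ b : G, (χ : G → ℂ) b⁻¹ * (ψ : G → ℂ) (b * g) := by
      apply Fintype.sum_equiv (Equiv.inv G)
      intro x
      simp
    have e2 := sum_irr_inv_mul_irr χ.2 ψ.2 g
    have e3 : ∑ x : G, conj ((χ : G → ℂ) x) * conj ((ψ : G → ℂ) (x⁻¹ * g))
        = conj (∑ x : G, (χ : G → ℂ) x * (ψ : G → ℂ) (x⁻¹ * g)) := by
      rw [map_sum]
      apply Finset.sum_congr rfl
      intro x _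
      rw [map_mul]
    rw [e3, e, e2]
    by_cases hχψ : χ = ψ
    · have : (χ : G → ℂ) = (ψ : G → ℂ) := congrArg Subtype.val hχψ
      rw [if_pos this, if_pos hχψ, map_div₀, map_mul, hc1conj, Complex.conj_natCast]
    · have : ¬ ((χ : G → ℂ) = (ψ : G → ℂ)) := fun h' => hχψ (Subtype.ext h')
      rw [if_neg this, if_neg hχψ, map_zero]
  have hexp : ∑ x : G, P x * P (x⁻¹ * g) = (Nat.card G : ℂ) ^ 3 * ∑ χ : IrrCharacter G,
      conj ((χ : G → ℂ) g) / ((χ : G → ℂ) 1) ^ 3 := by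
    have e1 : ∀ x : G, P x * P (x⁻¹ * g) = ∑ χ : IrrCharacter G, ∑ ψ : IrrCharacter G,
        (Nat.card G : ℂ) ^ 2 / ((χ : G → ℂ) 1 * (ψ : G → ℂ) 1) *
          (conj ((χ : G → ℂ) x) * conj ((ψ : G → ℂ) (x⁻¹ * g))) := by
      intro x
      rw [hP x, hP (x⁻¹ * g)]
      rw [mul_mul_mul_comm, Finset.sum_mul_sum, Finset.mul_sum]
      apply Finset.sum_congr rfl
      intro χ _
      rw [Finset.mul_sum]
      apply Finset.sum_congr rfl
      intro ψ _
      have := hc1 χ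
      have := hc1 ψ
      field_simp
    simp_rw [e1]
    rw [Finset.sum_comm]
    have e2 : ∀ χ : IrrCharacter G, ∑ x : G, ∑ ψ : IrrCharacter G,
        (Nat.card G : ℂ) ^ 2 / ((χ : G → ℂ) 1 * (ψ : G → ℂ) 1) *
          (conj ((χ : G → ℂ) x) * conj ((ψ : G → ℂ) (x⁻¹ * g)))
        = (Nat.card G : ℂ) ^ 3 * (conj ((χ : G → ℂ) g) / ((χ : G → ℂ) 1) ^ 3) := by
      intro χ
      rw [Finset.sum_comm]
      simp_rw [← Finset.mul_sum, hK χ]
      rw [Finset.sum_eq_single χ]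
      · rw [if_pos rfl]
        have := hc1 χ
        field_simp
      · intro ψ _ hψ
        rw [if_neg (Ne.symm hψ), mul_zero]
      · intro h'
        exact absurd (Finset.mem_univ _) h'
    simp_rw [e2]
    rw [← Finset.mul_sum]
  rw [hexp] at hsum
  have hS : ∑ χ : IrrCharacter G, conj ((χ : G → ℂ) g) / ((χ : G → ℂ) 1) ^ 3 = 0 :=
    (mul_eq_zero.mp hsum).resolve_left (pow_ne_zero 3 hN0)
  -- split off the principal character
  have h1irr : IsIrrCharacter G (1 : G → ℂ) := isIrrCharacter_one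
  set χ₀ : IrrCharacter G := ⟨1, h1irr⟩ with hχ₀
  have hsplit := Finset.add_sum_erase Finset.univ
    (fun χ : IrrCharacter G => conj ((χ : G → ℂ) g) / ((χ : G → ℂ) 1) ^ 3) (Finset.mem_univ χ₀)
  rw [hS] at hsplit
  have hχ₀val : conj ((χ₀ : G → ℂ) g) / ((χ₀ : G → ℂ) 1) ^ 3 = 1 := by
    simp [hχ₀]
  simp only [hχ₀val] at hsplit
  have hrest : ∑ χ ∈ Finset.univ.erase χ₀, conj ((χ : G → ℂ) g) / ((χ : G → ℂ) 1) ^ 3 = -1 := by
    linear_combination hsplit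
  have hnorm : (1 : ℝ) ≤ ∑ χ ∈ Finset.univ.erase χ₀, 1 / ‖(χ : G → ℂ) 1‖ ^ 2 := by
    have h1 : ‖∑ χ ∈ Finset.univ.erase χ₀, conj ((χ : G → ℂ) g) / ((χ : G → ℂ) 1) ^ 3‖ = 1 := by
      rw [hrest]; simp
    refine h1.symm.le.trans ((norm_sum_le _ _).trans (Finset.sum_le_sum ?_))
    intro χ _
    have hpos : 0 < ‖(χ : G → ℂ) 1‖ := norm_pos_iff.mpr (hc1 χ)
    rw [norm_div, norm_pow, RCLike.norm_conj]
    have hle := irr_norm_le χ.2 g
    rw [div_le_div_iff₀ (pow_pos hpos 3) (pow_pos hpos 2)]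
    nlinarith [pow_pos hpos 2, norm_nonneg ((χ : G → ℂ) g)]
  have hsplit2 := Finset.add_sum_erase Finset.univ
    (fun χ : IrrCharacter G => 1 / ‖(χ : G → ℂ) 1‖ ^ 2) (Finset.mem_univ χ₀)
  have hχ₀val2 : 1 / ‖(χ₀ : G → ℂ) 1‖ ^ 2 = 1 := by
    simp [hχ₀]
  simp only [hχ₀val2] at hsplit2
  linarith

end Cfsg.Agent.S4814
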