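import Cfsg.Statements.S4839
-- import your own Cfsg.Agent.* helpers here
import Cfsg.Agent.S4835
import Cfsg.Agent.S4837
import Cfsg.Agent.S4838
import Cfsg.Agent.Lib.Helper22.GagolaC

set_option autoImplicit false
open Cfsg

namespace Cfsg.Agent.S4839

open scoped Pointwise

/-- Let G be a finite group of order greater than 2 with an irreducible character χ nonzero on exactly two conjugacy classes, and let N be the normal p-subgroup of elements where χ is nonzero. Then N is the whole p-core O_p(G) if and only if G is a doubly transitive Frobenius group with kernel N: G has a Frobenius complement H whose Frobenius kernel is N and whose order is one less than that of N. -/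
theorem result {G : Type*} [Group G] [Finite G] (hG : 2 < Nat.card G) (χ : Cfsg.IrrCharacter G) (hχ : Nat.card {C : ConjClasses G // ∃ g ∈ C.carrier, (χ : G → ℂ) g ≠ 0} = 2) (p : ℕ) [Fact p.Prime] (N : Subgroup G) [N.Normal] (hN : ∀ g : G, g ∈ N ↔ (χ : G → ℂ) g ≠ 0) (hNp : IsPGroup p N) (hN1 : N ≠ ⊥) :
    N = Cfsg.pCore p G ↔ ∃ H : Subgroup G, Cfsg.IsFrobeniusComplement H ∧ Cfsg.frobeniusKernel H = (N : Set G) ∧ Nat.card H + 1 = Nat.card N := by
  classical
  -- facts from the landed Gagola statements
  obtain ⟨N', hN'n, hN'1, _, ⟨p', hp', hab', hexp'⟩, hsupp, htrans'⟩ :=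
    Cfsg.Agent.S4835.result hG χ hχ
  have hNN : N' = N := by
    ext g
    rw [hN g, ← hsupp g]
  subst hNN
  have hab : ∀ a ∈ N', ∀ b ∈ N', a * b = b * a := by
    intro a ha b hb
    have := @mul_comm' N' _ hab' ⟨a, ha⟩ ⟨b, hb⟩
    exact congrArg Subtype.val this
  have hcent := (Cfsg.Agent.S4837.result hG χ hχ p N' hN hNp hN1).1
  obtain ⟨P0⟩ : Nonempty (Sylow p G) := inferInstance
  have hcard := (Cfsg.Agent.S4838.result hG χ hχ p N' hN hNp hN1 P0).1
  have hcam : ∀ x : G, x ∉ N' → ∀ n ∈ N', ∃ y : G, y * x * y⁻¹ = x * n := by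
    intro x hx n hn
    exact Cfsg.Agent.Lib.Helper22.Gagola.camina_of_card N' x (hcard x hx) n hn
  -- p' = p
  have hpp : p' = p := by
    obtain ⟨⟨x, hxN⟩, hx1⟩ := (Subgroup.ne_bot_iff_exists_ne_one).1 hN1
    have hx1' : x ≠ 1 := fun h => hx1 (Subtype.ext h)
    have h1 : orderOf x ∣ p' := orderOf_dvd_of_pow_eq_one (hexp' x hxN)
    have h2 : orderOf x = p' := by
      rcases (Nat.dvd_prime hp').1 h1 with h | h
      · exact absurd (orderOf_eq_one_iff.1 h) hx1'
      · exact h
    obtain ⟨k, hk⟩ := (IsPGroup.iff_orderOf.1 hNp) ⟨x, hxN⟩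
    have h3 : orderOf x = p ^ k := by
      rw [← hk]; exact (Subgroup.orderOf_mk x hxN).symm
    rw [h2] at h3
    rcases Nat.eq_zero_or_pos k with hk0 | hk0
    · rw [hk0, pow_zero] at h3
      exact absurd h3 hp'.one_lt.ne'
    · have : p ∣ p' := by rw [h3]; exact dvd_pow_self p (Nat.pos_iff_ne_zero.1 hk0)
      exact ((Nat.prime_dvd_prime_iff_eq (Fact.out : p.Prime) hp').1 this).symm
  subst hpp
  constructor
  · -- N = O_p(G) implies doubly transitive Frobenius
    intro hcore
    have hcN := Cfsg.Agent.Lib.Helper22.Gagola.centralizer_eq N' hN1 hab hcent hcore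
    obtain ⟨H, hcover, hdisj, hsemi⟩ : ∃ H : Subgroup G,
        (∀ g : G, ∃ n ∈ N', ∃ h ∈ H, g = n * h) ∧ (∀ g, g ∈ N' → g ∈ H → g = 1) ∧
        (∀ h ∈ H, h ≠ 1 → ∀ n ∈ N', h * n * h⁻¹ = n → n = 1) := by
      by_cases hp2 : p' = 2
      · subst hp2
        have hexp2 : ∀ a ∈ N', a * a = 1 := by
          intro a ha
          rw [← pow_two]; exact hexp' a ha
        have hodd := Cfsg.Agent.Lib.Helper22.Gagola.not_two_dvd_index N' hNp hab hexp2 hcent hcam
          hcN hcore
        have hcop : (Nat.card N').Coprime N'.index := by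
          obtain ⟨k, hk⟩ := hNp.exists_card_eq
          rw [hk]
          apply Nat.Coprime.pow_left
          exact (Nat.Prime.coprime_iff_not_dvd Nat.prime_two).2 hodd
        obtain ⟨H, hH⟩ := Subgroup.exists_right_complement'_of_coprime hcop
        have hHcard : N'.index = Nat.card H := by
          have := hH.symm.index_eq_card
          exact this
        refine ⟨H, ?_, ?_, ?_⟩
        · intro g
          have hc := (Subgroup.isComplement_iff_existsUnique.1 (Subgroup.isComplement'_def.1 hH)) g
          obtain ⟨⟨⟨n, hn⟩, ⟨h, hh⟩⟩, hx, _⟩ := hc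
          exact ⟨n, hn, h, hh, hx.symm⟩
        · intro g hgN hgH
          have := hH.disjoint
          rw [Subgroup.disjoint_def] at this
          exact this hgN hgH
        · intro h hh hh1 n hn hfix
          by_contra hn1
          obtain ⟨P, hP⟩ := hcent n hn hn1
          have hhP : h ∈ Subgroup.centralizer ({n} : Set G) := by
            rw [Subgroup.mem_centralizer_singleton_iff]
            calc h * n = (h * n * h⁻¹) * h := by group
              _ = n * h := by rw [hfix]
          rw [hP] at hhP
          obtain ⟨k, hk⟩ := (IsPGroup.iff_orderOf.1 P.isPGroup') ⟨h, hhP⟩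
          have h1 : orderOf h = 2 ^ k := by
            rw [← hk]; exact (Subgroup.orderOf_mk h hhP).symm
          have h2 : orderOf h ∣ Nat.card H := by
            have := orderOf_dvd_natCard (⟨h, hh⟩ : H)
            rwa [Subgroup.orderOf_mk] at this
          rcases Nat.eq_zero_or_pos k with hk0 | hk0
          · rw [hk0, pow_zero] at h1
            exact hh1 (orderOf_eq_one_iff.1 h1)
          · apply hodd
            rw [hHcard]
            refine dvd_trans ?_ h2
            rw [h1]
            exact dvd_pow_self 2 (Nat.pos_iff_ne_zero.1 hk0)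
      · exact Cfsg.Agent.Lib.Helper22.Gagola.exists_compl_of_odd N' hp2 hNp hN1 hab htrans' hcent
          hcam hcN
    exact ⟨H, Cfsg.Agent.Lib.Helper22.Gagola.frobenius_of_compl N' H hN1 hab hcover hdisj hsemi
      htrans' hG⟩
  · -- converse
    rintro ⟨H, hF, hker, _⟩
    apply le_antisymm
    · unfold Cfsg.pCore
      exact le_sSup ⟨inferInstance, hNp⟩
    · intro x hxO
      by_contra hxN
      have hOp : IsPGroup p' (Cfsg.pCore p' G) :=
        Sylow.sSup_of_normal _ (fun _ h => h.2) (fun _ h => h.1)
      have hOn : (Cfsg.pCore p' G).Normal := Subgroup.sSup_normal _ (fun _ h => h.1)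
      have hxk : x ∉ Cfsg.frobeniusKernel H := by
        rw [hker]; exact hxN
      simp only [Cfsg.frobeniusKernel, Set.mem_setOf_eq, not_or, not_forall, not_not,
        Cfsg.Agent.Lib.Helper22.Gagola.mem_conj_smul_iff'] at hxk
      obtain ⟨hx1, g, hg⟩ := hxk
      set x' := g⁻¹ * x * g with hx'
      have hx'O : x' ∈ Cfsg.pCore p' G := by
        have := hOn.conj_mem x hxO g⁻¹
        simpa [hx'] using this
      have hx'1 : x' ≠ 1 := by
        intro h
        apply hx1
        calc x = g * x' * g⁻¹ := by rw [hx']; group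
          _ = 1 := by rw [h]; group
      -- fixed point of x' on N
      have hzp : IsPGroup p' (Subgroup.zpowers x') :=
        hOp.to_le (Subgroup.zpowers_le.2 hx'O)
      letI : MulAction (Subgroup.zpowers x') N' :=
        MulAction.compHom N' ((MulAut.conjNormal (H := N')).comp (Subgroup.zpowers x').subtype)
      have hpdvd : p' ∣ Nat.card N' := by
        obtain ⟨k, hk⟩ := hNp.exists_card_eq
        rcases Nat.eq_zero_or_pos k with hk0 | hk0
        · exfalso
          rw [hk0, pow_zero] at hk
          exact hN1 (Subgroup.card_eq_one.1 hk)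
        · rw [hk]; exact dvd_pow_self p' (Nat.pos_iff_ne_zero.1 hk0)
      have h1fix : (1 : N') ∈ MulAction.fixedPoints (Subgroup.zpowers x') N' := by
        rw [MulAction.mem_fixedPoints]
        intro m
        show (MulAut.conjNormal (H := N') (m : G)) 1 = 1
        exact map_one _
      obtain ⟨b, hbfix, hb1⟩ :=
        hzp.exists_fixed_point_of_prime_dvd_card_of_fixed_point N' hpdvd h1fix
      rw [MulAction.mem_fixedPoints] at hbfix
      have hbx : x' * (b : G) * x'⁻¹ = b := by
        have := hbfix ⟨x', Subgroup.mem_zpowers x'⟩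
        have h2 : (MulAut.conjNormal (H := N') x') b = b := this
        have h3 := congrArg Subtype.val h2
        rwa [MulAut.conjNormal_apply] at h3
      have hbne : (b : G) ≠ 1 := by
        intro h
        apply hb1
        exact (Subtype.ext h).symm
      -- b ∉ H
      have hbker : (b : G) ∈ Cfsg.frobeniusKernel H := by
        rw [hker]; exact b.2
      have hbH : (b : G) ∉ H := by
        simp only [Cfsg.frobeniusKernel, Set.mem_setOf_eq,
          Cfsg.Agent.Lib.Helper22.Gagola.mem_conj_smul_iff'] at hbker
        rcases hbker with h | h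
        · exact absurd h hbne
        · have := h 1
          simpa using this
      have hTI := hF.2.2 (b : G) hbH
      have hx'mem : x' ∈ H ⊓ (MulAut.conj (b : G) • H) := by
        rw [Subgroup.mem_inf, Cfsg.Agent.Lib.Helper22.Gagola.mem_conj_smul_iff']
        refine ⟨hg, ?_⟩
        have : (b : G)⁻¹ * x' * (b : G) = x' := by
          calc (b : G)⁻¹ * x' * (b : G) = (b : G)⁻¹ * (x' * (b : G) * x'⁻¹) * x' := by group
            _ = x' := by rw [hbx]; group
        rw [this]; exact hg
      rw [hTI, Subgroup.mem_bot] at hx'mem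
      exact hx'1 hx'mem

end Cfsg.Agent.S4839
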