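import Cfsg.Statements.S4840
import Cfsg.Agent.S4835
import Cfsg.Agent.S4837
import Cfsg.Agent.Lib.Helper1.GagMain

set_option autoImplicit false
open Cfsg

namespace Cfsg.Agent.S4840

/-- Let G be a finite solvable group of order greater than 2 with an irreducible character nonzero on exactly two conjugacy classes. Then there is exactly one prime p with O_p(G) ≠ 1, and the quotient G/O_p(G) has a normal p-complement and commutative Sylow p-subgroups. -/
theorem result {G : Type*} [Group G] [Finite G] [hs : Group.IsSolvable G] (hG : 2 < Nat.card G) (χ : Cfsg.IrrCharacter G) (hχ : Nat.card {C : ConjClasses G // ∃ g ∈ C.carrier, (χ : G → ℂ) g ≠ 0} = 2) :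
    ∃ p : ℕ, p.Prime ∧ (∀ q : ℕ, q.Prime → (Cfsg.pCore q G ≠ ⊥ ↔ q = p)) ∧
      Cfsg.HasNormalPComplement p (G ⧸ Cfsg.pCore p G) ∧ ∀ Q : Sylow p (G ⧸ Cfsg.pCore p G), IsMulCommutative (Q : Subgroup (G ⧸ Cfsg.pCore p G)) := by
  obtain ⟨N, hNn, hN1, hNmin, ⟨p, hp, hNel⟩, hNχ, hNtr⟩ := Cfsg.Agent.S4835.result hG χ hχ
  haveI : Fact p.Prime := ⟨hp⟩
  haveI := hNn
  have hNp : IsPGroup p N := by
    intro x
    refine ⟨1, ?_⟩
    apply Subtype.ext
    rw [pow_one]
    simpa using hNel.2 x x.2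
  have h37 := (Cfsg.Agent.S4837.result hG χ hχ p N (fun g => (hNχ g).symm) hNp hN1).1
  exact ⟨p, hp, Cfsg.Agent.Lib.Helper1.Gag.group_main p N hN1 hNel hNmin h37 hNtr⟩

end Cfsg.Agent.S4840
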