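import Cfsg.Statements.S4859
import Cfsg.Agent.Lib.Helper25.SqCount
-- import your own Cfsg.Agent.* helpers here

set_option autoImplicit false
open Cfsg

namespace Cfsg.Agent.S4859

open Cfsg.Agent.Lib.Helper25

/-- Let p be an odd prime, G a finite group and x an element of G whose order is a power of p (possibly 1) and whose centralizer has even order. Let y be a 2-element of the centralizer of x whose order is largest among the 2-elements of that centralizer. Then x * y is not a square in G, and some non-principal real-valued irreducible character of G does not vanish at x * y. -/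
theorem result {G : Type*} [Group G] [Finite G] (p : ℕ) [Fact p.Prime] (hp : p ≠ 2) (x : G) (hx : ∃ k : ℕ, orderOf x = p ^ k) (heven : Even (Nat.card (Subgroup.centralizer ({x} : Set G)))) (y : G) (hy : y ∈ Subgroup.centralizer ({x} : Set G)) (hy2 : ∃ k : ℕ, orderOf y = 2 ^ k) (hmax : ∀ z ∈ Subgroup.centralizer ({x} : Set G), (∃ k : ℕ, orderOf z = 2 ^ k) → orderOf z ≤ orderOf y) : (¬ ∃ u : G, u * u = x * y) ∧ ∃ χ : Cfsg.IrrCharacter G, ¬ ((χ : G → ℂ) = fun _ => (1 : ℂ)) ∧ (∀ g : G, ((χ : G → ℂ) g).im = 0) ∧ (χ : G → ℂ) (x * y) ≠ 0 := by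
  classical
  obtain ⟨k, hk⟩ := hx
  obtain ⟨j, hj⟩ := hy2
  have hp' : p.Prime := Fact.out
  have hxy : Commute x y := by
    have := Subgroup.mem_centralizer_iff.mp hy x rfl
    exact this
  -- an involution in the centralizer of `x`
  have hj1 : j ≠ 0 := by
    let _ := Fintype.ofFinite (Subgroup.centralizer ({x} : Set G))
    have h2 : 2 ∣ Fintype.card (Subgroup.centralizer ({x} : Set G)) := by
      rw [← Nat.card_eq_fintype_card]
      exact even_iff_two_dvd.mp heven
    haveI : Fact (Nat.Prime 2) := ⟨Nat.prime_two⟩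
    obtain ⟨t, ht⟩ := exists_prime_orderOf_dvd_card 2 h2
    have ht' : orderOf (t : G) = 2 := by rw [Subgroup.orderOf_coe]; exact ht
    have := hmax t t.2 ⟨1, by rw [ht', pow_one]⟩
    rw [ht', hj] at this
    intro h0
    rw [h0, pow_zero] at this
    omega
  have hcop : (orderOf x).Coprime (orderOf y) := by
    rw [hk, hj]
    apply Nat.Coprime.pow
    exact (Nat.coprime_primes hp' Nat.prime_two).mpr hp
  have hord : orderOf (x * y) = p ^ k * 2 ^ j := by
    rw [hxy.orderOf_mul_eq_mul_orderOf_of_coprime hcop, hk, hj]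
  have hnotsq : ¬ ∃ u : G, u * u = x * y := by
    rintro ⟨u, hu⟩
    have hu2 : orderOf (u ^ 2) = p ^ k * 2 ^ j := by rw [pow_two, hu, hord]
    rw [orderOf_pow] at hu2
    have hpk : 0 < p ^ k := pow_pos hp'.pos k
    have h2j : 2 ∣ 2 ^ j := dvd_pow_self 2 hj1
    have hn0 : 0 < orderOf u := orderOf_pos u
    -- `orderOf u` is even
    have heven' : 2 ∣ orderOf u := by
      by_contra hodd
      have hg : (orderOf u).gcd 2 = 1 :=
        Nat.Coprime.symm ((Nat.Prime.coprime_iff_not_dvd Nat.prime_two).mpr hodd)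
      rw [hg, Nat.div_one] at hu2
      apply hodd
      rw [hu2]
      exact Dvd.dvd.mul_left h2j _
    have hg : (orderOf u).gcd 2 = 2 := Nat.gcd_eq_right heven'
    rw [hg] at hu2
    have hn : orderOf u = p ^ k * 2 ^ (j + 1) := by
      obtain ⟨m, hm⟩ := heven'
      rw [hm, Nat.mul_div_cancel_left _ (by norm_num : 0 < 2)] at hu2
      rw [hm, hu2, pow_succ]
      ring
    -- the element `w = u ^ (p ^ k)` has order `2 ^ (j + 1)`
    have hw : orderOf (u ^ (p ^ k)) = 2 ^ (j + 1) := by
      rw [orderOf_pow_of_dvd hpk.ne' (by rw [hn]; exact Dvd.intro _ rfl), hn,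
        Nat.mul_div_cancel_left _ hpk]
    -- `u` commutes with `x`
    have hux : Commute u x := by
      have h1 : Commute u (x * y) := by
        rw [← hu]
        exact (Commute.refl u).mul_right (Commute.refl u)
      have h2 : (x * y) ^ (2 ^ j) = x ^ (2 ^ j) := by
        rw [hxy.mul_pow, ← hj, pow_orderOf_eq_one, mul_one]
      have h3 : Nat.Coprime (2 ^ j) (orderOf x) := by
        rw [hk]
        apply Nat.Coprime.pow
        exact (Nat.coprime_primes Nat.prime_two hp').mpr (Ne.symm hp)
      obtain ⟨m, hm⟩ := exists_pow_eq_self_of_coprime h3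
      rw [← hm, ← h2]
      exact (h1.pow_right _).pow_right _
    have hwmem : u ^ (p ^ k) ∈ Subgroup.centralizer ({x} : Set G) := by
      rw [Subgroup.mem_centralizer_iff]
      intro h hh
      rw [Set.mem_singleton_iff.mp hh]
      exact ((hux.pow_left _).eq).symm
    have := hmax _ hwmem ⟨j + 1, hw⟩
    rw [hw, hj] at this
    have : 2 ^ j < 2 ^ (j + 1) := Nat.pow_lt_pow_right (by norm_num) (by omega)
    omega
  exact ⟨hnotsq, exists_real_irr_ne_zero_of_not_sq (x * y) hnotsq⟩

end Cfsg.Agent.S4859
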