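import Cfsg.Statements.S4860
import Cfsg.Agent.Lib.Helper2.RealB0

set_option autoImplicit false
open Cfsg

namespace Cfsg.Agent.S4860

open Cfsg.Agent.CharLib Cfsg.Agent.Lib.Helper6 Cfsg.Agent.Lib.Helper24
  Cfsg.Agent.Lib.Helper2.RealB0

/-- Let G be a finite group, p an odd prime and M a maximal ideal of the algebraic integers containing p. If the principal p-block of G contains a non-principal real-valued irreducible character α, then it contains a non-principal real-valued irreducible character β different from α, and β may be chosen so that no field automorphism of ℂ carries α to β. -/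
theorem result {G : Type*} [Group G] [Finite G] (p : ℕ) [Fact p.Prime] (hp : p ≠ 2) (M : Ideal Cfsg.AlgInt) (hM : Cfsg.IsPModular p M) (α : Cfsg.IrrCharacter G) (hα : α ∈ Cfsg.principalBlock M G) (hα1 : ¬ ((α : G → ℂ) = fun _ => (1 : ℂ))) (hαr : (∀ g : G, ((α : G → ℂ) g).im = 0)) : ∃ β : Cfsg.IrrCharacter G, β ∈ Cfsg.principalBlock M G ∧ ¬ ((β : G → ℂ) = fun _ => (1 : ℂ)) ∧ (∀ g : G, ((β : G → ℂ) g).im = 0) ∧ β ≠ α ∧ ∀ σ : ℂ ≃+* ℂ, (β : G → ℂ) ≠ (σ : ℂ → ℂ) ∘ (α : G → ℂ) := by
  classical
  cases nonempty_fintype G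
  letI := fintypeIrr G
  by_contra hcon
  push_neg at hcon
  -- every weight is `wt α` or `0`
  have hwt : ∀ χ : IrrCharacter G, χ ≠ trivIrr G →
      wt p (χ : G → ℂ) = if (χ ∈ principalBlock M G ∧ ∀ g : G, ((χ : G → ℂ) g).im = 0) then
        wt p (α : G → ℂ) else 0 := by
    intro χ hχ1
    split_ifs with hc
    · obtain ⟨hχB, hχr⟩ := hc
      by_cases hχα : χ = α
      · rw [hχα]
      · have hne : ¬ ((χ : G → ℂ) = fun _ => (1 : ℂ)) := by
          intro h
          apply hχ1
          apply Subtype.ext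
          rw [h]
          rfl
        obtain ⟨σ, hσ⟩ := hcon χ hχB hne hχr hχα
        exact wt_galois p α χ σ hσ
    · rw [not_and_or] at hc
      rcases hc with hc | hc
      · exact wt_eq_zero_of_not_mem hM χ hc
      · push_neg at hc
        exact wt_eq_zero_of_not_real p χ hc
  have hsum := sum_wt (G := G) p hp
  have hαt : α ≠ trivIrr G := by
    intro h
    apply hα1
    rw [h]
    rfl
  rw [← Finset.add_sum_erase Finset.univ _ (Finset.mem_univ (trivIrr G))] at hsum
  have htriv : wt p ((trivIrr G : IrrCharacter G) : G → ℂ) = wt p (1 : G → ℂ) := rfl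
  rw [htriv, add_eq_left] at hsum
  rw [Finset.sum_congr rfl (fun χ hχ => hwt χ (Finset.ne_of_mem_erase hχ)), Finset.sum_ite,
    Finset.sum_const_zero, add_zero, Finset.sum_const, nsmul_eq_mul] at hsum
  rcases mul_eq_zero.mp hsum with h0 | h0
  · have hmem : α ∈ (Finset.univ.erase (trivIrr G)).filter
        (fun χ : IrrCharacter G => χ ∈ principalBlock M G ∧ ∀ g : G, ((χ : G → ℂ) g).im = 0) := by
      rw [Finset.mem_filter, Finset.mem_erase]
      exact ⟨⟨hαt, Finset.mem_univ _⟩, hα, hαr⟩
    have hpos : 0 < ((Finset.univ.erase (trivIrr G)).filter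
        (fun χ : IrrCharacter G => χ ∈ principalBlock M G ∧
          ∀ g : G, ((χ : G → ℂ) g).im = 0)).card := Finset.card_pos.mpr ⟨α, hmem⟩
    have : (((Finset.univ.erase (trivIrr G)).filter
        (fun χ : IrrCharacter G => χ ∈ principalBlock M G ∧
          ∀ g : G, ((χ : G → ℂ) g).im = 0)).card : ℂ) ≠ 0 := by
      exact_mod_cast hpos.ne'
    exact this h0
  · exact wt_ne_zero hM α hα hαr h0

end Cfsg.Agent.S4860
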