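import Cfsg.Statements.S4870
import Cfsg.Agent.Lib.Helper25.GallagherCount
import Cfsg.Agent.Lib.Helper24.IrrFacts
-- import your own Cfsg.Agent.* helpers here

set_option autoImplicit false
open Cfsg

namespace Cfsg.Agent.S4870

open Cfsg.Agent.Lib.Helper25 Cfsg.Agent.CharLib Cfsg.Agent.Lib.Helper6 Cfsg.Agent.Lib.Helper24
open scoped commutatorElement

/-- Let G be a finite group with a non-abelian minimal normal subgroup N, and let φ be an irreducible complex character of N with stabilizer I in G (the elements g with φ(g n g⁻¹) = φ(n) for all n ∈ N) such that φ extends to an irreducible character of I. Put d = φ(1)·[G : I]. Then the number of linear characters of G is at most [G : I] times the number of irreducible characters of G of degree d. -/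
theorem result {G : Type*} [Group G] [Finite G] (N : Subgroup G) (hN : N.Normal) (hN1 : N ≠ ⊥) (hmin : ∀ M : Subgroup G, M.Normal → M ≤ N → M = ⊥ ∨ M = N) (hna : ¬ IsMulCommutative ↥N) (φ : Cfsg.IrrCharacter ↥N) (I : Subgroup G) (hI : ∀ g : G, g ∈ I ↔ ∀ n n' : ↥N, (n' : G) = g * (n : G) * g⁻¹ → (φ : ↥N → ℂ) n' = (φ : ↥N → ℂ) n) (hNI : N ≤ I) (hext : ∃ ψ : Cfsg.IrrCharacter ↥I, ∀ n : ↥N, (ψ : ↥I → ℂ) (Subgroup.inclusion hNI n) = (φ : ↥N → ℂ) n) : Nat.card {χ : Cfsg.IrrCharacter G // Cfsg.charDegree (χ : G → ℂ) = 1} ≤ I.index * Nat.card {χ : Cfsg.IrrCharacter G // Cfsg.charDegree (χ : G → ℂ) = Cfsg.charDegree (φ : ↥N → ℂ) * I.index} := by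
  classical
  haveI := hN
  letI := Fintype.ofFinite G
  letI := fintypeIrr G
  obtain ⟨ψ, hψext⟩ := hext
  -- the inertia group in conjFun form
  have hI' : ∀ g : G, g ∈ I ↔ conjFun N g φ.1 = φ.1 := by
    intro g
    rw [hI g]
    constructor
    · intro h
      funext n
      rw [conjFun_apply]
      exact h n ⟨g * n * g⁻¹, hN.conj_mem n n.2 g⟩ rfl
    · intro h n n' hn'
      have h1 := congrFun h n
      rw [conjFun_apply] at h1
      rw [← h1]
      exact congrArg φ.1 (Subtype.ext hn')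
  have hres : resLE hNI ψ.1 = φ.1 := by
    funext n
    exact hψext n
  -- N ≤ G'
  have hNcomm : N ≤ commutator G := by
    have hnorm : (⁅N, N⁆ : Subgroup G).Normal := inferInstance
    have hle : ⁅N, N⁆ ≤ N := Subgroup.commutator_le_right N N
    rcases hmin _ hnorm hle with h | h
    · exfalso
      apply hna
      constructor; constructor
      intro a b
      have hab : ⁅(a : G), (b : G)⁆ ∈ (⁅N, N⁆ : Subgroup G) :=
        Subgroup.commutator_mem_commutator a.2 b.2
      rw [h, Subgroup.mem_bot] at hab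
      apply Subtype.ext
      exact commutatorElement_eq_one_iff_mul_comm.mp hab
    · calc N = ⁅N, N⁆ := h.symm
        _ ≤ ⁅(⊤ : Subgroup G), ⊤⁆ := Subgroup.commutator_mono le_top le_top
        _ = commutator G := rfl
  have hρN : ∀ ρ : G →* ℂˣ, ∀ n ∈ N, ρ n = 1 := by
    intro ρ n hn
    have h1 : commutator G ≤ ρ.ker := Abelianization.commutator_subset_ker ρ
    exact MonoidHom.mem_ker.mp (h1 (hNcomm hn))
  -- the induced character
  have hf : classInner (resLE hNI ψ.1) φ.1 ≠ 0 := by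
    rw [hres, classInner_irr φ.2 φ.2, if_pos rfl]; exact one_ne_zero
  obtain ⟨hX, -⟩ := isIrrCharacter_indFun_inertia hNI φ.2 hI' ψ.2 hf
  have hX1 : indFun I ψ.1 1 = ((Cfsg.charDegree (φ : ↥N → ℂ) * I.index : ℕ) : ℂ) := by
    rw [indFun_apply_one]
    have h1 : ψ.1 1 = φ.1 1 := by
      have := congrFun hres 1
      rw [resLE_apply] at this
      exact this
    rw [h1, irr_apply_one φ]
    have h2 : (Nat.card G : ℂ) = (Nat.card I : ℂ) * (I.index : ℂ) := by
      rw [← Nat.cast_mul, Subgroup.card_mul_index]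
    have h0 : (Nat.card I : ℂ) ≠ 0 := Nat.cast_ne_zero.mpr Nat.card_pos.ne'
    rw [h2]
    push_cast
    field_simp
  have hirr : ∀ ρ : G →* ℂˣ, IsIrrCharacter G (homFun ρ * indFun I ψ.1) := fun ρ =>
    isIrrCharacter_linear_mul (isCharacter_of_hom ρ) (homFun_one_apply ρ) hX
  have hdeg : ∀ ρ : G →* ℂˣ, Cfsg.charDegree (homFun ρ * indFun I ψ.1) =
      Cfsg.charDegree (φ : ↥N → ℂ) * I.index := by
    intro ρ
    have h1 := irr_apply_one ⟨homFun ρ * indFun I ψ.1, hirr ρ⟩
    have h2 : (homFun ρ * indFun I ψ.1) 1 = ((Cfsg.charDegree (φ : ↥N → ℂ) * I.index : ℕ) : ℂ) := by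
      rw [Pi.mul_apply, homFun_one_apply, one_mul, hX1]
    exact (Nat.cast_injective (R := ℂ) (h2.symm.trans h1)).symm
  let F : (G →* ℂˣ) → {χ : Cfsg.IrrCharacter G //
      Cfsg.charDegree (χ : G → ℂ) = Cfsg.charDegree (φ : ↥N → ℂ) * I.index} :=
    fun ρ => ⟨⟨homFun ρ * indFun I ψ.1, hirr ρ⟩, hdeg ρ⟩
  -- finiteness
  have hcardL : Nat.card (G →* ℂˣ) = (commutator G).index := card_hom_units
  haveI hfinL : Finite (G →* ℂˣ) := by
    apply Nat.finite_of_card_ne_zero
    rw [hcardL]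
    exact Subgroup.FiniteIndex.index_ne_zero
  letI : Fintype (G →* ℂˣ) := Fintype.ofFinite _
  -- linear characters ↔ homs
  have e1 : Nat.card {χ : Cfsg.IrrCharacter G // Cfsg.charDegree (χ : G → ℂ) = 1} =
      Nat.card (G →* ℂˣ) := by
    rw [← Nat.card_congr (linIrrEquivHom (G := G))]
    apply Nat.card_congr
    apply Equiv.subtypeEquivRight
    intro χ
    rw [irr_apply_one χ]
    constructor
    · intro h; rw [h]; simp
    · intro h; exact_mod_cast h
  rw [e1]
  -- fibres
  have hfib : ∀ a ∈ (Finset.univ : Finset (G →* ℂˣ)).image F,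
      ((Finset.univ : Finset (G →* ℂˣ)).filter (fun x => F x = a)).card ≤ I.index := by
    intro a ha
    obtain ⟨μ, -, rfl⟩ := Finset.mem_image.mp ha
    have hT := card_hom_trivial_on_le I
    haveI : Finite {ρ : G →* ℂˣ // ∀ i ∈ I, ρ i = 1} := Subtype.finite
    letI : Fintype {ρ : G →* ℂˣ // ∀ i ∈ I, ρ i = 1} := Fintype.ofFinite _
    refine le_trans ?_ hT
    rw [Nat.card_eq_fintype_card, ← Fintype.card_subtype]
    have htriv : ∀ ν : {x : G →* ℂˣ // F x = F μ}, ∀ i ∈ I, (μ⁻¹ * ν.1) i = 1 := by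
      intro ν
      have h1 : homFun ν.1 * indFun I ψ.1 = homFun μ * indFun I ψ.1 :=
        congrArg (fun x => (x.1.1 : G → ℂ)) ν.2
      apply hom_trivial_on_inertia N I hNI φ.2 hI' ψ.2 hres (μ⁻¹ * ν.1) (hρN _)
      rw [homFun_mul, mul_assoc, h1, ← mul_assoc, homFun_inv_mul, one_mul]
    apply Fintype.card_le_of_injective (fun ν => (⟨μ⁻¹ * ν.1, htriv ν⟩ :
      {ρ : G →* ℂˣ // ∀ i ∈ I, ρ i = 1}))
    intro ν ν' h
    apply Subtype.ext
    have h1 : μ⁻¹ * ν.1 = μ⁻¹ * ν'.1 := congrArg Subtype.val h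
    exact mul_left_cancel h1
  have hmain := Finset.card_le_mul_card_image (f := F) (Finset.univ : Finset (G →* ℂˣ)) I.index hfib
  rw [Finset.card_univ, ← Nat.card_eq_fintype_card] at hmain
  refine le_trans hmain (Nat.mul_le_mul_left _ ?_)
  rw [Nat.card_eq_fintype_card]
  exact Finset.card_le_univ _

end Cfsg.Agent.S4870
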