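import Cfsg.Statements.S4871
import Mathlib
import Cfsg.Agent.Lib.Helper24.StrongReal

set_option autoImplicit false
open Cfsg

namespace Cfsg.Agent.S4871

open Cfsg Cfsg.Agent.CharLib Cfsg.Agent.Lib.Helper6 Cfsg.Agent.Lib.Helper24
  Cfsg.Agent.Lib.Helper24.StrongReal

universe u

/-- a nontrivial linear character of a finite abelian group -/
theorem exists_hom_ne_one {A : Type u} [Group A] [Finite A] (hcomm : ∀ a b : A, a * b = b * a)
    {a : A} (ha : a ≠ 1) : ∃ φ : A →* ℂˣ, φ a ≠ 1 := by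
  letI : CommGroup A := { ‹Group A› with mul_comm := hcomm }
  have hne : NeZero ((Monoid.exponent A : ℕ) : ℂ) :=
    ⟨by exact_mod_cast Monoid.exponent_ne_zero_of_finite⟩
  exact CommGroup.exists_apply_ne_one_of_hasEnoughRootsOfUnity A ℂ ha

/-- a central involution of `P` inverts `N` -/
theorem exists_inverting_involution {G : Type u} [Group G] [Finite G] (N P : Subgroup G)
    (hN : N.Normal) (hab : ∀ a ∈ N, ∀ b ∈ N, a * b = b * a) (hP : IsPGroup 2 ↥P) (hP1 : P ≠ ⊥)
    (hdisj : N ⊓ P = ⊥) (hprod : N ⊔ P = ⊤)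
    (hmin : N ≠ ⊥ ∧ ∀ M : Subgroup G, M.Normal → M ≠ ⊥ → N ≤ M) :
    ∃ z : G, z ∈ P ∧ (∀ h ∈ P, z * h = h * z) ∧ z * z = 1 ∧ ∀ n ∈ N, z * n * z⁻¹ = n⁻¹ := by
  classical
  haveI : Nontrivial ↥P := (Subgroup.nontrivial_iff_ne_bot P).mpr hP1
  haveI := hP.center_nontrivial
  have h2 : 2 ∣ Nat.card (Subgroup.center ↥P) := by
    obtain ⟨k, hk⟩ := (hP.to_subgroup (Subgroup.center ↥P)).exists_card_eq
    have hk0 : k ≠ 0 := by
      intro h0
      rw [h0, pow_zero] at hk
      have := Finite.one_lt_card_iff_nontrivial.mpr (inferInstance : Nontrivial (Subgroup.center ↥P))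
      omega
    rw [hk]
    exact dvd_pow_self 2 hk0
  haveI : Fact (Nat.Prime 2) := ⟨Nat.prime_two⟩
  obtain ⟨z0, hz0⟩ := exists_prime_orderOf_dvd_card' 2 h2
  have hz0sq : z0 * z0 = 1 := by
    rw [← pow_two, ← hz0, pow_orderOf_eq_one]
  have hz0ne : z0 ≠ 1 := by
    intro h
    rw [h, orderOf_one] at hz0
    omega
  set z : G := ((z0 : ↥P) : G) with hz
  have hzP : z ∈ P := (z0 : ↥P).2
  have hzc : ∀ h ∈ P, z * h = h * z := by
    intro h hh
    have := (Subgroup.mem_center_iff.mp z0.2) ⟨h, hh⟩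
    have h1 := congrArg (fun x : ↥P => (x : G)) this
    exact h1.symm
  have hz2 : z * z = 1 := by
    have h1 := congrArg (fun x : Subgroup.center ↥P => ((x : ↥P) : G)) hz0sq
    exact h1
  have hzne : z ≠ 1 := by
    intro h
    apply hz0ne
    apply Subtype.ext
    apply Subtype.ext
    exact h
  have hzinv : z⁻¹ = z := inv_eq_of_mul_eq_one_left hz2
  -- the centralizer of `z` in `N`
  let C : Subgroup G :=
    { carrier := {c | c ∈ N ∧ z * c = c * z}
      one_mem' := ⟨N.one_mem, by rw [mul_one, one_mul]⟩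
      mul_mem' := by
        rintro a b ⟨ha, ha'⟩ ⟨hb, hb'⟩
        refine ⟨N.mul_mem ha hb, ?_⟩
        rw [← mul_assoc, ha', mul_assoc, hb', mul_assoc]
      inv_mem' := by
        rintro a ⟨ha, ha'⟩
        exact ⟨N.inv_mem ha, (show Commute z a from ha').inv_right⟩ }
  have hCN : C ≤ N := fun c hc => hc.1
  have hCnorm : C.Normal := by
    constructor
    intro c hc g
    obtain ⟨n, hn, h, hh, rfl⟩ := exists_mul_of_sup_eq_top N P hprod g
    have hcN : h * c * h⁻¹ ∈ N := hN.conj_mem c hc.1 h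
    have h1 : n * h * c * (n * h)⁻¹ = h * c * h⁻¹ := by
      have : n * h * c * (n * h)⁻¹ = n * (h * c * h⁻¹) * n⁻¹ := by group
      rw [this, hab n hn _ hcN, mul_assoc, mul_inv_cancel, mul_one]
    rw [h1]
    refine ⟨hcN, ?_⟩
    have h2 : z * h⁻¹ = h⁻¹ * z := by
      have := hzc h⁻¹ (P.inv_mem hh)
      exact this
    calc z * (h * c * h⁻¹) = (z * h) * c * h⁻¹ := by group
      _ = (h * z) * c * h⁻¹ := by rw [hzc h hh]
      _ = h * (z * c) * h⁻¹ := by group
      _ = h * (c * z) * h⁻¹ := by rw [hc.2]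
      _ = h * c * (z * h⁻¹) := by group
      _ = h * c * (h⁻¹ * z) := by rw [h2]
      _ = h * c * h⁻¹ * z := by group
  have hCbot : C = ⊥ := by
    by_contra hne
    have h1 : N ≤ C := hmin.2 C hCnorm hne
    -- then `z` is central in `G`
    have hzcent : ∀ g : G, g * z * g⁻¹ = z := by
      intro g
      obtain ⟨n, hn, h, hh, rfl⟩ := exists_mul_of_sup_eq_top N P hprod g
      have h2 : z * n = n * z := (h1 hn).2
      calc n * h * z * (n * h)⁻¹ = n * (h * z) * h⁻¹ * n⁻¹ := by group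
        _ = n * (z * h) * h⁻¹ * n⁻¹ := by rw [hzc h hh]
        _ = (n * z) * n⁻¹ := by group
        _ = (z * n) * n⁻¹ := by rw [h2]
        _ = z := by group
    have hZnorm : (Subgroup.zpowers z).Normal := by
      constructor
      intro x hx g
      obtain ⟨k, rfl⟩ := Subgroup.mem_zpowers_iff.mp hx
      have : g * z ^ k * g⁻¹ = (g * z * g⁻¹) ^ k := by
        rw [conj_zpow]
      rw [this, hzcent g]
      exact Subgroup.zpow_mem_zpowers z k
    have hZne : Subgroup.zpowers z ≠ ⊥ := by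
      intro h
      apply hzne
      have := Subgroup.mem_zpowers z
      rw [h, Subgroup.mem_bot] at this
      exact this
    have h3 : N ≤ Subgroup.zpowers z := hmin.2 _ hZnorm hZne
    have h4 : Subgroup.zpowers z ≤ P := by
      rw [Subgroup.zpowers_le]
      exact hzP
    apply hmin.1
    rw [eq_bot_iff, ← hdisj]
    exact le_inf le_rfl (le_trans h3 h4)
  refine ⟨z, hzP, hzc, hz2, ?_⟩
  intro n hn
  have hznN : z * n * z⁻¹ ∈ N := hN.conj_mem n hn z
  have hw : n * (z * n * z⁻¹) ∈ C := by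
    refine ⟨N.mul_mem hn hznN, ?_⟩
    rw [hzinv]
    have h5 : z * (n * (z * n * z)) = ((z * n * z) * n) * z := by group
    rw [hzinv] at hznN
    rw [h5, hab _ hznN n hn]
  rw [hCbot, Subgroup.mem_bot] at hw
  exact (eq_inv_of_mul_eq_one_right hw)

/-- the stabilizer of a nontrivial `lam` is proper -/
theorem T_ne_top {G : Type u} [Group G] [Finite G] (S : Setup G) (hlam : ∃ a : S.N, S.lam a ≠ 1)
    (hP1 : S.P ≠ ⊥) (hmin : S.N ≠ ⊥ ∧ ∀ M : Subgroup G, M.Normal → M ≠ ⊥ → S.N ≤ M) :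
    S.T ≠ ⊤ := by
  intro htop
  have hinv : ∀ (g : G) (n : S.N), S.lamc g n = S.lam n := by
    intro g n
    have : g ∈ S.T := by rw [htop]; exact Subgroup.mem_top g
    exact this n
  let K : Subgroup G :=
    { carrier := {k | ∃ hk : k ∈ S.N, S.lam ⟨k, hk⟩ = 1}
      one_mem' := ⟨S.N.one_mem, map_one S.lam⟩
      mul_mem' := by
        rintro a b ⟨ha, ha'⟩ ⟨hb, hb'⟩
        refine ⟨S.N.mul_mem ha hb, ?_⟩
        have : (⟨a * b, S.N.mul_mem ha hb⟩ : S.N) = ⟨a, ha⟩ * ⟨b, hb⟩ := rfl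
        rw [this, map_mul, ha', hb', one_mul]
      inv_mem' := by
        rintro a ⟨ha, ha'⟩
        refine ⟨S.N.inv_mem ha, ?_⟩
        have : (⟨a⁻¹, S.N.inv_mem ha⟩ : S.N) = (⟨a, ha⟩ : S.N)⁻¹ := rfl
        rw [this, map_inv, ha', inv_one] }
  have hKnorm : K.Normal := by
    constructor
    rintro k ⟨hk, hk'⟩ g
    refine ⟨S.conj_mem_N hk g, ?_⟩
    have := hinv g ⟨k, hk⟩
    unfold Setup.lamc at this
    rw [this, hk']
  obtain ⟨a, ha⟩ := hlam
  have hKbot : K = ⊥ := by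
    by_contra hne
    have h1 : S.N ≤ K := hmin.2 K hKnorm hne
    obtain ⟨_, h2⟩ := h1 a.2
    exact ha h2
  -- `N` is central
  have hcent : ∀ (g : G), ∀ n ∈ S.N, g * n * g⁻¹ = n := by
    intro g n hn
    have h1 : g * n * g⁻¹ * n⁻¹ ∈ K := by
      refine ⟨S.N.mul_mem (S.conj_mem_N hn g) (S.N.inv_mem hn), ?_⟩
      have h2 : (⟨g * n * g⁻¹ * n⁻¹, S.N.mul_mem (S.conj_mem_N hn g) (S.N.inv_mem hn)⟩ : S.N) =
          ⟨g * n * g⁻¹, S.conj_mem_N hn g⟩ * (⟨n, hn⟩ : S.N)⁻¹ := rfl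
      rw [h2, map_mul, map_inv]
      have := hinv g ⟨n, hn⟩
      unfold Setup.lamc at this
      rw [this, mul_inv_cancel]
    rw [hKbot, Subgroup.mem_bot] at h1
    exact mul_inv_eq_one.mp h1
  have hPnorm : S.P.Normal := by
    constructor
    intro p hp g
    obtain ⟨n, hn, h, hh, rfl⟩ := exists_mul_of_sup_eq_top S.N S.P S.hprod g
    have h1 : n * h * p * (n * h)⁻¹ = n * (h * p * h⁻¹) * n⁻¹ := by group
    have h2 : n * (h * p * h⁻¹) * n⁻¹ = h * p * h⁻¹ := by
      have h3 := hcent (h * p * h⁻¹)⁻¹ n hn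
      have h4 : n * (h * p * h⁻¹) = (h * p * h⁻¹) * n := by
        have : (h * p * h⁻¹) * ((h * p * h⁻¹)⁻¹ * n * (h * p * h⁻¹)⁻¹⁻¹) = (h * p * h⁻¹) * n := by
          rw [h3]
        rw [← this]
        group
      rw [h4, mul_assoc, mul_inv_cancel, mul_one]
    rw [h1, h2]
    exact S.P.mul_mem (S.P.mul_mem hh hp) (S.P.inv_mem hh)
  have h5 : S.N ≤ S.P := hmin.2 S.P hPnorm hP1
  apply hmin.1
  rw [eq_bot_iff, ← S.hdisj]
  exact le_inf le_rfl h5

/-- the index of the stabilizer is even -/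
theorem two_dvd_index_T {G : Type u} [Group G] [Finite G] (S : Setup G) (hP : IsPGroup 2 ↥S.P)
    (hT : S.T ≠ ⊤) : 2 ∣ S.T.index := by
  have h1 : S.T.index ∣ S.N.index := Subgroup.index_dvd_of_le S.N_le_T
  have hc : Subgroup.IsComplement' S.P S.N := by
    apply Subgroup.isComplement'_of_disjoint_and_mul_eq_univ
    · rw [disjoint_iff, inf_comm]; exact S.hdisj
    · rw [← Subgroup.mul_normal, sup_comm, S.hprod]; rfl
  have h2 : S.N.index = Nat.card S.P := hc.index_eq_card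
  obtain ⟨k, hk⟩ := hP.exists_card_eq
  rw [h2, hk] at h1
  obtain ⟨j, _, hj⟩ := (Nat.dvd_prime_pow Nat.prime_two).mp h1
  have hj0 : j ≠ 0 := by
    intro h0
    rw [h0, pow_zero] at hj
    exact hT (Subgroup.index_eq_one.mp hj)
  rw [hj]
  exact dvd_pow_self 2 hj0

/-- the condition defining the counted characters -/
def Cond {G : Type u} [Group G] (χ : IrrCharacter G) : Prop :=
  (charDegree (χ : G → ℂ) = 1 ∨ 2 ∣ charDegree (χ : G → ℂ)) ∧
    (Nat.card G : ℂ)⁻¹ * ∑ᶠ g : G, (χ : G → ℂ) (g * g) = 1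

theorem deg_of_apply_one {G : Type u} [Group G] {χ : G → ℂ} {d : ℕ} (h : χ 1 = d) :
    charDegree χ = d := by
  unfold charDegree
  rw [h]
  simp

theorem deg_spec {G : Type u} [Group G] [Finite G] (χ : IrrCharacter G) :
    (χ : G → ℂ) 1 = (charDegree (χ : G → ℂ) : ℂ) ∧ 0 < charDegree (χ : G → ℂ) := by
  obtain ⟨d, hd0, hd⟩ := IsIrrCharacter.apply_one_pos χ.2
  rw [deg_of_apply_one hd]
  exact ⟨hd, hd0⟩

/-- a linear character with Frobenius–Schur indicator `1` has square one -/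
theorem sq_eq_one_of_indicator {G : Type u} [Group G] [Fintype G] (φ : G →* ℂˣ)
    (h : (Nat.card G : ℂ)⁻¹ * ∑ g : G, ((φ (g * g) : ℂˣ) : ℂ) = 1) : ∀ g, φ g * φ g = 1 := by
  by_contra hne
  have h1 : (Units.coeHom ℂ).comp (φ * φ) ≠ 1 := by
    intro h2
    apply hne
    intro g
    have h3 := DFunLike.congr_fun h2 g
    exact Units.ext h3
  have h4 := sum_hom_units_eq_zero _ h1
  have h5 : ∑ g : G, ((φ (g * g) : ℂˣ) : ℂ) = ∑ g : G, ((Units.coeHom ℂ).comp (φ * φ)) g := by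
    apply Finset.sum_congr rfl
    intro g _
    rw [map_mul]
    rfl
  rw [h5, h4, mul_zero] at h
  exact zero_ne_one h

theorem main {G : Type u} [Group G] [Fintype G] (S : Setup G) (q : ℕ) (hqodd : Odd q)
    (hexp : ∀ n ∈ S.N, n ^ q = 1) (h2m : 2 ∣ S.T.index) :
    4 * Nat.card {χ : IrrCharacter G // Cond χ} ≤
      3 * ∑ᶠ χ : {χ : IrrCharacter G // Cond χ}, charDegree (χ.1 : G → ℂ) := by
  classical
  letI := fintypeIrr G
  letI : Fintype (G →* ℂˣ) := Fintype.ofFinite _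
  have hm2 : 2 ≤ S.T.index := by
    have h0 : S.T.index ≠ 0 := Subgroup.index_ne_zero_of_finite
    exact Nat.le_of_dvd (Nat.pos_of_ne_zero h0) h2m
  -- real linear characters are trivial on `N`
  have hRN : ∀ φ : G →* ℂˣ, (∀ g, φ g * φ g = 1) → ∀ n ∈ S.N, φ n = 1 := by
    intro φ hφ n hn
    obtain ⟨k, hk⟩ := hqodd
    have h1 : φ n ^ q = 1 := by rw [← map_pow, hexp n hn, map_one]
    rw [hk, pow_succ, pow_mul, pow_two, hφ n, one_pow, one_mul] at h1
    exact h1
  -- the family of induced characters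
  let R' := {φ : G →* ℂˣ // ∀ g, φ g * φ g = 1}
  let chiS : R' → {χ : IrrCharacter G // Cond χ} := fun φ =>
    ⟨⟨indFun S.T (S.psi φ.1), S.indFun_psi_irr φ.1 (hRN φ.1 φ.2)⟩, by
      have hd : charDegree (indFun S.T (S.psi φ.1)) = S.T.index :=
        deg_of_apply_one (S.indFun_psi_one φ.1)
      refine ⟨Or.inr ?_, ?_⟩
      · change 2 ∣ charDegree (indFun S.T (S.psi φ.1))
        rw [hd]; exact h2m
      · rw [finsum_eq_sum_of_fintype]
        exact S.indicator_indFun_psi φ.1 φ.2⟩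
  have hchiS_deg : ∀ φ : R', charDegree ((chiS φ).1 : G → ℂ) = S.T.index := fun φ =>
    deg_of_apply_one (S.indFun_psi_one φ.1)
  -- fibres of `chiS`
  have hfib : ∀ a ∈ (Finset.univ : Finset R').image chiS,
      ((Finset.univ : Finset R').filter (fun φ => chiS φ = a)).card ≤ S.T.index := by
    intro a _
    have h1 := card_le_index_of_agree S.T
      (((Finset.univ : Finset R').filter (fun φ => chiS φ = a)).map
        ⟨Subtype.val, Subtype.val_injective⟩) ?_
    · rwa [Finset.card_map] at h1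
    · intro φ hφ φ' hφ' t ht
      rw [Finset.mem_map] at hφ hφ'
      obtain ⟨x, hx, rfl⟩ := hφ
      obtain ⟨x', hx', rfl⟩ := hφ'
      rw [Finset.mem_filter] at hx hx'
      have h2 : chiS x = chiS x' := hx.2.trans hx'.2.symm
      have h3 : indFun S.T (S.psi x.1) = indFun S.T (S.psi x'.1) := by
        have := congrArg (fun y : {χ : IrrCharacter G // Cond χ} => ((y.1 : IrrCharacter G) : G → ℂ)) h2
        exact this
      exact S.indFun_psi_injective (hRN x.1 x.2) (hRN x'.1 x'.2) h3 t ht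
  have hRB : Fintype.card R' ≤ S.T.index * ((Finset.univ : Finset R').image chiS).card := by
    have := Finset.card_le_mul_card_image (Finset.univ : Finset R') S.T.index hfib
    rwa [Finset.card_univ] at this
  -- the linear counted characters inject into `R'`
  let A : Finset {χ : IrrCharacter G // Cond χ} :=
    Finset.univ.filter (fun χ => charDegree (χ.1 : G → ℂ) = 1)
  have hlin : ∀ χ : {χ : IrrCharacter G // Cond χ}, charDegree (χ.1 : G → ℂ) = 1 →
      (χ.1 : G → ℂ) 1 = 1 := by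
    intro χ h
    rw [(deg_spec χ.1).1, h, Nat.cast_one]
  let f : {χ : IrrCharacter G // Cond χ} → R' := fun χ =>
    if h : charDegree (χ.1 : G → ℂ) = 1 then
      ⟨linCharUnitsHom (IsIrrCharacter.isCharacter χ.1.2) (hlin χ h), by
        apply sq_eq_one_of_indicator
        have h1 := χ.2.2
        rw [finsum_eq_sum_of_fintype] at h1
        rw [← h1]
        congr 1⟩
    else ⟨1, fun g => by simp⟩
  have hAR : A.card ≤ Fintype.card R' := by
    rw [← Finset.card_univ]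
    apply Finset.card_le_card_of_injOn f (fun _ _ => Finset.mem_univ _)
    intro χ hχ χ' hχ' hff
    have hχ1 : charDegree (χ.1 : G → ℂ) = 1 := (Finset.mem_filter.mp hχ).2
    have hχ'1 : charDegree (χ'.1 : G → ℂ) = 1 := (Finset.mem_filter.mp hχ').2
    simp only [f, dif_pos hχ1, dif_pos hχ'1] at hff
    have h1 := congrArg Subtype.val hff
    apply Subtype.ext
    apply Subtype.ext
    funext g
    have h2 := DFunLike.congr_fun h1 g
    have h3 := congrArg (fun u : ℂˣ => (u : ℂ)) h2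
    simp only [linCharUnitsHom_apply] at h3
    exact h3
  -- the weights
  let w : {χ : IrrCharacter G // Cond χ} → ℤ := fun χ => 3 * (charDegree (χ.1 : G → ℂ) : ℤ) - 4
  have hwA : ∀ χ ∈ A, w χ = -1 := by
    intro χ hχ
    have hχ1 : charDegree (χ.1 : G → ℂ) = 1 := (Finset.mem_filter.mp hχ).2
    simp only [w, hχ1]
    norm_num
  have hwnA : ∀ χ : {χ : IrrCharacter G // Cond χ}, χ ∉ A → 2 ≤ w χ := by
    intro χ hχ
    have hχ1 : charDegree (χ.1 : G → ℂ) ≠ 1 := by
      intro h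
      exact hχ (Finset.mem_filter.mpr ⟨Finset.mem_univ _, h⟩)
    have h2 : 2 ∣ charDegree (χ.1 : G → ℂ) := by
      rcases χ.2.1 with h | h
      · exact absurd h hχ1
      · exact h
    have h3 : 2 ≤ charDegree (χ.1 : G → ℂ) := Nat.le_of_dvd (deg_spec χ.1).2 h2
    simp only [w]
    omega
  let B := (Finset.univ : Finset R').image chiS
  have hwB : ∀ χ ∈ B, w χ = 3 * (S.T.index : ℤ) - 4 := by
    intro χ hχ
    obtain ⟨φ, _, rfl⟩ := Finset.mem_image.mp hχ
    simp only [w, hchiS_deg φ]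
  have hBA : B ⊆ Finset.univ.filter (fun χ => χ ∉ A) := by
    intro χ hχ
    obtain ⟨φ, _, rfl⟩ := Finset.mem_image.mp hχ
    rw [Finset.mem_filter]
    refine ⟨Finset.mem_univ _, ?_⟩
    intro hA
    have h1 : charDegree ((chiS φ).1 : G → ℂ) = 1 := (Finset.mem_filter.mp hA).2
    rw [hchiS_deg φ] at h1
    omega
  have hsum : (0 : ℤ) ≤ ∑ χ : {χ : IrrCharacter G // Cond χ}, w χ := by
    rw [← Finset.sum_filter_add_sum_filter_not Finset.univ (fun χ => χ ∈ A) w]
    have h1 : ∑ χ ∈ Finset.univ.filter (fun χ => χ ∈ A), w χ = -(A.card : ℤ) := by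
      have : Finset.univ.filter (fun χ => χ ∈ A) = A := by
        ext χ; simp
      rw [this, Finset.sum_congr rfl hwA, Finset.sum_const]
      simp
    have h2 : ∑ χ ∈ B, w χ ≤ ∑ χ ∈ Finset.univ.filter (fun χ => χ ∉ A), w χ := by
      apply Finset.sum_le_sum_of_subset_of_nonneg hBA
      intro χ hχ _
      have := hwnA χ (Finset.mem_filter.mp hχ).2
      omega
    have h3 : ∑ χ ∈ B, w χ = (B.card : ℤ) * (3 * (S.T.index : ℤ) - 4) := by
      rw [Finset.sum_congr rfl hwB, Finset.sum_const]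
      simp
    have h4 : (A.card : ℤ) ≤ (S.T.index : ℤ) * (B.card : ℤ) := by
      exact_mod_cast le_trans hAR hRB
    have h5 : (2 : ℤ) ≤ (S.T.index : ℤ) := by exact_mod_cast hm2
    have h6 : (0 : ℤ) ≤ (B.card : ℤ) := Nat.cast_nonneg _
    rw [h1]
    nlinarith
  rw [Nat.card_eq_fintype_card, finsum_eq_sum_of_fintype]
  have hfin : (4 : ℤ) * (Fintype.card {χ : IrrCharacter G // Cond χ} : ℤ) ≤
      3 * ∑ χ : {χ : IrrCharacter G // Cond χ}, (charDegree (χ.1 : G → ℂ) : ℤ) := by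
    simp only [w, Finset.sum_sub_distrib, Finset.sum_const, Finset.card_univ, ← Finset.mul_sum]
      at hsum
    simp only [nsmul_eq_mul] at hsum
    linarith
  exact_mod_cast hfin

theorem result' {G : Type u} [Group G] [Finite G] (N P : Subgroup G) (hN : N.Normal) (q : ℕ)
    [Fact q.Prime] (hq : q ≠ 2) (hNel : Cfsg.IsElementaryAbelian q N) (hP : IsPGroup 2 ↥P)
    (hP1 : P ≠ ⊥) (hdisj : N ⊓ P = ⊥) (hprod : N ⊔ P = ⊤)
    (hmin : N ≠ ⊥ ∧ ∀ M : Subgroup G, M.Normal → M ≠ ⊥ → N ≤ M) :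
    4 * Nat.card {χ : IrrCharacter G // Cond χ} ≤
      3 * ∑ᶠ χ : {χ : IrrCharacter G // Cond χ}, charDegree (χ.1 : G → ℂ) := by
  classical
  letI : Fintype G := Fintype.ofFinite G
  have hab : ∀ a ∈ N, ∀ b ∈ N, a * b = b * a := by
    intro a ha b hb
    haveI := hNel.1
    have h1 := mul_comm' (⟨a, ha⟩ : N) ⟨b, hb⟩
    exact congrArg Subtype.val h1
  obtain ⟨z, hzP, hzc, hz2, hzinv⟩ :=
    exists_inverting_involution N P hN hab hP hP1 hdisj hprod hmin
  obtain ⟨a, haN, ha1⟩ : ∃ a ∈ N, a ≠ 1 := by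
    by_contra h
    push_neg at h
    apply hmin.1
    rw [eq_bot_iff]
    intro x hx
    rw [Subgroup.mem_bot]
    exact h x hx
  obtain ⟨lam, hlam⟩ := exists_hom_ne_one (A := N)
    (fun x y => Subtype.ext (hab x x.2 y y.2)) (a := ⟨a, haN⟩)
    (by intro h; apply ha1; exact congrArg Subtype.val h)
  let S : Setup G :=
    { N := N, P := P, hN := hN, hab := hab, hdisj := hdisj, hprod := hprod, lam := lam, z := z,
      hzP := hzP, hzc := hzc, hz2 := hz2, hzinv := hzinv }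
  have hT : S.T ≠ ⊤ := T_ne_top S ⟨⟨a, haN⟩, hlam⟩ hP1 hmin
  have h2 := two_dvd_index_T S hP hT
  have hqodd : Odd q := (Fact.out : q.Prime).odd_of_ne_two hq
  exact main S q hqodd hNel.2 h2

/-- Let G be a finite group that is the semidirect product of a normal elementary abelian subgroup N of odd order by a non-trivial 2-subgroup P, with N the unique minimal normal subgroup of G. Consider the strongly real irreducible complex characters of G (Frobenius–Schur indicator +1) whose degree is 1 or even. Then their average degree is at least 4/3: four times their number is at most three times the sum of their degrees. -/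
theorem result {G : Type*} [Group G] [Finite G] (N P : Subgroup G) (hN : N.Normal) (q : ℕ) [Fact q.Prime] (hq : q ≠ 2) (hNel : Cfsg.IsElementaryAbelian q N) (hP : IsPGroup 2 ↥P) (hP1 : P ≠ ⊥) (hdisj : N ⊓ P = ⊥) (hprod : N ⊔ P = ⊤) (hmin : N ≠ ⊥ ∧ ∀ M : Subgroup G, M.Normal → M ≠ ⊥ → N ≤ M) : 4 * Nat.card {χ : Cfsg.IrrCharacter G // (Cfsg.charDegree (χ : G → ℂ) = 1 ∨ 2 ∣ Cfsg.charDegree (χ : G → ℂ)) ∧ (Nat.card G : ℂ)⁻¹ * ∑ᶠ g : G, (χ : G → ℂ) (g * g) = 1} ≤ 3 * (∑ᶠ χ : {χ : Cfsg.IrrCharacter G // (Cfsg.charDegree (χ : G → ℂ) = 1 ∨ 2 ∣ Cfsg.charDegree (χ : G → ℂ)) ∧ (Nat.card G : ℂ)⁻¹ * ∑ᶠ g : G, (χ : G → ℂ) (g * g) = 1}, Cfsg.charDegree (χ.1 : G → ℂ)) := by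
  exact result' N P hN q hq hNel hP hP1 hdisj hprod hmin

end Cfsg.Agent.S4871
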