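import Cfsg.Statements.S4873
import Cfsg.Agent.Lib.Lead.OddIndexReal

set_option autoImplicit false
open Cfsg

namespace Cfsg.Agent.S4873

/-- Let N be a normal subgroup of odd index in the finite group G. Then every irreducible complex character of N with Frobenius–Schur indicator +1 lies under exactly one irreducible character of G with Frobenius–Schur indicator +1. -/
theorem result {G : Type*} [Group G] [Finite G] (N : Subgroup G) [N.Normal] (hodd : Odd N.index) (φ : Cfsg.IrrCharacter ↥N) (hφ : (Nat.card ↥N : ℂ)⁻¹ * ∑ᶠ g : ↥N, (φ : ↥N → ℂ) (g * g) = 1) : ∃! χ : Cfsg.IrrCharacter G, (Nat.card G : ℂ)⁻¹ * ∑ᶠ g : G, (χ : G → ℂ) (g * g) = 1 ∧ (∑ᶠ n : ↥N, (χ : G → ℂ) n * (starRingEnd ℂ) ((φ : ↥N → ℂ) n)) ≠ 0 := by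
  classical
  let _ := Fintype.ofFinite G
  let _ : Fintype N := Fintype.ofFinite N
  rw [finsum_eq_sum_of_fintype] at hφ
  have hcard : (Nat.card ↥N : ℂ)⁻¹ ≠ 0 := inv_ne_zero (Nat.cast_ne_zero.mpr Nat.card_pos.ne')
  have hiff : ∀ χ : Cfsg.IrrCharacter G,
      ((∑ᶠ n : ↥N, (χ : G → ℂ) n * (starRingEnd ℂ) ((φ : ↥N → ℂ) n)) ≠ 0) ↔
      Cfsg.classInner (Cfsg.Agent.Lib.Helper6.resFun N (χ : G → ℂ)) (φ : ↥N → ℂ) ≠ 0 := by
    intro χ
    rw [finsum_eq_sum_of_fintype]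
    unfold Cfsg.classInner
    simp only [Cfsg.Agent.Lib.Helper6.resFun_apply]
    constructor
    · intro h; exact mul_ne_zero hcard h
    · intro h h0; rw [h0, mul_zero] at h; exact h rfl
  obtain ⟨χ₀, ⟨h1, h2⟩, h3⟩ := Cfsg.Agent.CharLib.exists_unique_fs_one_over N hodd φ hφ
  refine ⟨χ₀, ⟨?_, ?_⟩, ?_⟩
  · rw [finsum_eq_sum_of_fintype]; exact h1
  · exact (hiff χ₀).mpr h2
  · rintro χ ⟨hχ1, hχ2⟩
    apply h3
    refine ⟨?_, (hiff χ).mp hχ2⟩
    rw [finsum_eq_sum_of_fintype] at hχ1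
    exact hχ1

end Cfsg.Agent.S4873
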