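import Cfsg.Statements.S4885
import Cfsg.Agent.Lib.Helper14.TPMain

set_option autoImplicit false
open Cfsg

namespace Cfsg.Agent.S4885

/-- Let p and q be primes dividing the order of the finite group G, and suppose G is p-solvable and q-solvable. Fix maximal ideals of the algebraic integers containing p and q, defining the principal p-block and the principal q-block. If the irreducible characters of degree prime to p in the principal p-block are exactly the irreducible characters of degree prime to q in the principal q-block, then p = q. -/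
theorem result {G : Type*} [Group G] [Finite G] (p q : ℕ) [Fact p.Prime] [Fact q.Prime] (hp : p ∣ Nat.card G) (hq : q ∣ Nat.card G) (hps : Cfsg.IsPSolvable p G) (hqs : Cfsg.IsPSolvable q G) (Mp Mq : Ideal Cfsg.AlgInt) (hMp : Cfsg.IsPModular p Mp) (hMq : Cfsg.IsPModular q Mq) (h : ∀ χ : Cfsg.IrrCharacter G, (χ ∈ Cfsg.principalBlock Mp G ∧ ¬ p ∣ Cfsg.charDegree (χ : G → ℂ)) ↔ (χ ∈ Cfsg.principalBlock Mq G ∧ ¬ q ∣ Cfsg.charDegree (χ : G → ℂ))) : p = q := by
  by_contra hpq
  haveI hYn := Cfsg.Agent.Lib.Helper24.pPrimeCore_normal' (G := G) p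
  have h1 := Cfsg.Agent.Lib.Helper14.TP.not_dvd_card_quotient_pPrimeCore p q hpq Mp hMp hps hqs
    (fun χ hχ hχp => ((h χ).mp ⟨hχ, hχp⟩).2)
  obtain ⟨χ, hχB, hχq, y, ⟨k, hk⟩, hy⟩ :=
    Cfsg.Agent.Lib.Helper14.TPLeaves.exists_qprime_principal_nontrivial q Mq hMq hqs hq
  have hχp := ((h χ).mpr ⟨hχB, hχq⟩).1
  have hker := (Cfsg.Agent.Lib.Helper24.mem_principalBlock_iff_of_isPSolvable hMp hps χ).mp hχp
  apply hy
  apply hker
  exact Cfsg.Agent.Lib.Helper14.TP.mem_of_not_dvd_card_quotient q _ h1 y k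
    (by rw [← hk]; exact pow_orderOf_eq_one y)

end Cfsg.Agent.S4885
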