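import Cfsg.Statements.S4886
import Cfsg.Agent.Lib.Helper14.TPMain

set_option autoImplicit false
open Cfsg

namespace Cfsg.Agent.S4886

/-- Let p ≠ q be primes and G a finite group that is p-solvable and q-solvable. Fix maximal ideals of the algebraic integers containing p and q, defining the principal p-block and the principal q-block. Then every irreducible character of degree prime to p in the principal p-block has degree prime to q and every irreducible character of degree prime to q in the principal q-block has degree prime to p, if and only if some Sylow p-subgroup of G commutes elementwise with some Sylow q-subgroup. -/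
theorem result {G : Type*} [Group G] [Finite G] (p q : ℕ) [Fact p.Prime] [Fact q.Prime] (hpq : p ≠ q) (Mp Mq : Ideal Cfsg.AlgInt) (hMp : Cfsg.IsPModular p Mp) (hMq : Cfsg.IsPModular q Mq) (hps : Cfsg.IsPSolvable p G) (hqs : Cfsg.IsPSolvable q G) : ((∀ χ : Cfsg.IrrCharacter G, χ ∈ Cfsg.principalBlock Mp G → ¬ p ∣ Cfsg.charDegree (χ : G → ℂ) → ¬ q ∣ Cfsg.charDegree (χ : G → ℂ)) ∧ (∀ χ : Cfsg.IrrCharacter G, χ ∈ Cfsg.principalBlock Mq G → ¬ q ∣ Cfsg.charDegree (χ : G → ℂ) → ¬ p ∣ Cfsg.charDegree (χ : G → ℂ))) ↔ ∃ (P : Sylow p G) (Q : Sylow q G), ∀ x ∈ (P : Subgroup G), ∀ y ∈ (Q : Subgroup G), x * y = y * x := by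
  haveI hYn := Cfsg.Agent.Lib.Helper24.pPrimeCore_normal' (G := G) p
  haveI hXn := Cfsg.Agent.Lib.Helper24.pPrimeCore_normal' (G := G) q
  constructor
  · rintro ⟨h1, h2⟩
    exact Cfsg.Agent.Lib.Helper14.TP.exists_commuting_sylows p q hpq
      (Cfsg.Agent.Lib.Helper14.TP.not_dvd_card_quotient_pPrimeCore p q hpq Mp hMp hps hqs h1)
      (Cfsg.Agent.Lib.Helper14.TP.not_dvd_card_quotient_pPrimeCore q p hpq.symm Mq hMq hqs hps h2)
  · rintro ⟨P, Q, hc⟩
    have h1 := Cfsg.Agent.Lib.Helper14.TPLeaves.not_dvd_card_quotient_of_commute p q hpq hps P Q hc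
    have h2 := Cfsg.Agent.Lib.Helper14.TPLeaves.not_dvd_card_quotient_of_commute q p hpq.symm hqs Q P
      (fun y hy x hx => (hc x hx y hy).symm)
    refine ⟨fun χ hχ _ hdvd => h1 (dvd_trans hdvd
        (Cfsg.Agent.Lib.Helper14.TP.charDegree_dvd_of_mem_principalBlock p Mp hMp hps χ hχ)),
      fun χ hχ _ hdvd => h2 (dvd_trans hdvd
        (Cfsg.Agent.Lib.Helper14.TP.charDegree_dvd_of_mem_principalBlock q Mq hMq hqs χ hχ))⟩

end Cfsg.Agent.S4886
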