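import Cfsg.Statements.S4892
import Mathlib
import Cfsg.Agent.Lib.Helper23.PRatCoreE
import Cfsg.Agent.Lib.Helper25.PRatT1
import Cfsg.Agent.Lib.Helper8.PRatT2
import Cfsg.Agent.Lib.Helper25.PRatT3
import Cfsg.Agent.Lib.Helper25.PRatFR
import Cfsg.Agent.Lib.Helper4.PRatTR
import Cfsg.Agent.Lib.Helper14.PRatGA
import Cfsg.Agent.Lib.Helper14.PRatGB
import Cfsg.Agent.Lib.Helper24.PrincipalPairs

set_option autoImplicit false
open Cfsg

namespace Cfsg.Agent.S4892

open Cfsg Cfsg.Agent.Lib.Helper6 Cfsg.Agent.Lib.Helper23.PRat Cfsg.Agent.Lib.Helper24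
  Cfsg.Agent.CharLib

/-- Let p be an odd prime, M a maximal ideal of the algebraic integers containing p, N a normal subgroup of the finite group G, and θ an irreducible character of N that is G-invariant, of degree prime to p, p-rational (values in the field generated over ℚ by a root of unity of order prime to p) and lies in the principal p-block of N. Let Q be a Sylow p-subgroup of N and suppose the index of N·C_G(Q) in G is a power of p. Then θ extends to a p-rational irreducible character of G lying in the principal p-block of G. -/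
theorem result {G : Type*} [Group G] [Finite G] (p : ℕ) [Fact p.Prime] (hp : p ≠ 2) (M : Ideal Cfsg.AlgInt) (hM : Cfsg.IsPModular p M) (N : Subgroup G) [N.Normal] (θ : Cfsg.IrrCharacter ↥N) (hinv : ∀ g : G, ∀ n n' : ↥N, (n' : G) = g * (n : G) * g⁻¹ → (θ : ↥N → ℂ) n' = (θ : ↥N → ℂ) n) (hdeg : ¬ p ∣ Cfsg.charDegree (θ : ↥N → ℂ)) (hrat : ∃ m : ℕ, ¬ p ∣ m ∧ ∀ n : ↥N, (θ : ↥N → ℂ) n ∈ IntermediateField.adjoin ℚ ({Complex.exp (2 * Real.pi * Complex.I / m)} : Set ℂ)) (hB : θ ∈ Cfsg.principalBlock M ↥N) (Q : Sylow p ↥N) (hidx : ∃ a : ℕ, (N ⊔ Subgroup.centralizer (((Q : Subgroup ↥N).map N.subtype : Subgroup G) : Set G)).index = p ^ a) : ∃ χ : Cfsg.IrrCharacter G, χ ∈ (Cfsg.principalBlock M G) ∧ (∃ n : ℕ, ¬ p ∣ n ∧ ∀ g : G, (χ : G → ℂ) g ∈ IntermediateField.adjoin ℚ ({Complex.exp (2 * Real.pi * Complex.I / n)} : Set ℂ)) ∧ ∀ n : ↥N, (χ : G → ℂ) n = (θ : ↥N → ℂ) n := by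
  classical
  have hpp : p.Prime := Fact.out
  obtain ⟨m, hpm, hm⟩ := hrat
  obtain ⟨a, ha⟩ := hidx
  have hm0 : 0 < m := by
    rcases Nat.eq_zero_or_pos m with h | h
    · exact absurd (h ▸ dvd_zero p) hpm
    · exact h
  -- the subgroup H = N C_G(Q)
  set H : Subgroup G :=
    N ⊔ Subgroup.centralizer (((Q : Subgroup ↥N).map N.subtype : Subgroup G) : Set G) with hH
  have hHn : H.Normal := Cfsg.Agent.Lib.Helper25.PRat.normal_sup_centralizer p N Q
  have hNH : N ≤ H := le_sup_left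
  obtain ⟨Q', hcov'⟩ := Cfsg.Agent.Lib.Helper4.PRat.exists_sylow_subgroupOf p N Q H hH
  -- transport of θ
  let e : N.subgroupOf H ≃* N := Subgroup.subgroupOfEquivOfLe hNH
  let θ' : IrrCharacter (N.subgroupOf H) := irrCompIso e θ
  have hθ'app : ∀ x : N.subgroupOf H, (θ' : N.subgroupOf H → ℂ) x = (θ : N → ℂ) (e x) :=
    fun _ => rfl
  have hecoe : ∀ x : N.subgroupOf H, ((e x : N) : G) = ((x : H) : G) := fun _ => rfl
  have hθ'B : θ' ∈ principalBlock M (N.subgroupOf H) := by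
    have h1 : SameBlock M (fun _ : N => (1 : ℂ)) (θ : N → ℂ) := hB
    exact sameBlock_compIso M e h1
  -- the level
  set n : ℕ := Nat.card G with hn
  have hn0 : n ≠ 0 := (Nat.card_pos (α := G)).ne'
  have hθc : IsCharacter N (θ : N → ℂ) := IsIrrCharacter.isCharacter θ.2
  have hratθ : PRat p n (θ : N → ℂ) := by
    intro k hk hk1 x
    apply Cfsg.Agent.Lib.Helper14.PRat.pow_invariant_of_mem_adjoin hθc m hm0 hm k
      (Nat.Coprime.coprime_dvd_right (Subgroup.card_subgroup_dvd_card N) hk)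
    intro d hd1 hd2
    have hpd : ¬ p ∣ d := fun h => hpm (h.trans hd2)
    have hdn : d ∣ n := hd1.trans (Subgroup.card_subgroup_dvd_card N)
    have hd3 : d ∣ n / p ^ n.factorization p := by
      have h1 : d ∣ p ^ n.factorization p * (n / p ^ n.factorization p) := by
        rw [Nat.ordProj_mul_ordCompl_eq_self]
        exact hdn
      have hcop : Nat.Coprime d (p ^ n.factorization p) := by
        apply Nat.Coprime.pow_right
        exact ((Nat.Prime.coprime_iff_not_dvd hpp).mpr hpd).symm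
      exact hcop.dvd_of_dvd_mul_left h1
    exact Nat.ModEq.of_dvd hd3 hk1
  have hratθ' : PRat p n (θ' : N.subgroupOf H → ℂ) := by
    intro k hk hk1 x
    rw [hθ'app, hθ'app, map_pow]
    exact hratθ k hk hk1 (e x)
  -- invariance in H
  have hinv' : ∀ x : H, conjFun (N.subgroupOf H) x (θ' : N.subgroupOf H → ℂ) =
      (θ' : N.subgroupOf H → ℂ) := by
    intro x
    funext y
    rw [conjFun_apply, hθ'app, hθ'app]
    exact hinv (x : G) (e y) _ rfl
  have hdeg' : ¬ p ∣ charDegree (θ' : N.subgroupOf H → ℂ) := by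
    have : charDegree (θ' : N.subgroupOf H → ℂ) = charDegree (θ : N → ℂ) := by
      unfold charDegree
      rw [hθ'app, map_one]
    rw [this]
    exact hdeg
  have hcardH : Nat.card H ∣ n := Subgroup.card_subgroup_dvd_card H
  obtain ⟨χ₁, hχ₁N, hχ₁B, hχ₁rat, hχ₁det, hχ₁inv⟩ :=
    core p hp M hM (N.subgroupOf H) Q' hcov' θ' hθ'B hinv' hdeg' n hcardH hn0 hratθ'
  -- G-invariance of χ₁
  have hinvG : ∀ g : G, conjFun H g (χ₁ : H → ℂ) = (χ₁ : H → ℂ) := by
    intro g
    funext y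
    rw [conjFun_apply]
    have h1 := hχ₁inv (MulAut.conjNormal g : H ≃* H) (by
      intro x
      rw [Subgroup.mem_subgroupOf, Subgroup.mem_subgroupOf, MulAut.conjNormal_apply]
      constructor
      · intro h
        have h2 := (inferInstance : N.Normal).conj_mem _ h g⁻¹
        simpa [mul_assoc] using h2
      · intro h
        exact (inferInstance : N.Normal).conj_mem _ h g) (by
      intro x h
      rw [hθ'app, hθ'app]
      apply hinv g (e x)
      rw [hecoe, hecoe]
      simp [MulAut.conjNormal_apply]) y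
    rw [← h1]
    congr 1
  have hdegχ₁ : ¬ p ∣ charDegree (χ₁ : H → ℂ) := by
    have : charDegree (χ₁ : H → ℂ) = charDegree (θ' : N.subgroupOf H → ℂ) := by
      unfold charDegree
      have := hχ₁N 1
      rw [Subgroup.coe_one] at this
      rw [this]
    rw [this]
    exact hdeg'
  obtain ⟨χ, ⟨hχH, hχdet⟩, -⟩ :=
    Cfsg.Agent.Lib.Helper25.PRat.existsUnique_extension_pprime_det p H ha χ₁ hinvG hdegχ₁ hχ₁det
  have hχrat := Cfsg.Agent.Lib.Helper8.PRat.prat_extension p H ha χ₁ hinvG hdegχ₁ hχ₁det n dvd_rfl hχ₁rat χ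
    hχH hχdet
  have hχB := Cfsg.Agent.Lib.Helper25.PRat.mem_principalBlock_of_pgroup_quotient p M hM H ha χ χ₁
    hχH hχ₁B
  have hχc : IsCharacter G (χ : G → ℂ) := IsIrrCharacter.isCharacter χ.2
  refine ⟨χ, hχB, ⟨n / p ^ n.factorization p, Nat.not_dvd_ordCompl hpp hn0, ?_⟩, ?_⟩
  · intro g
    exact Cfsg.Agent.Lib.Helper14.PRat.mem_adjoin_of_pow_invariant hχc _
      (Nat.ordCompl_pos p hn0) (Nat.ordCompl_dvd n p) (fun k hk hk1 g => hχrat k hk hk1 g) g
  · intro x
    have h1 := hχH ⟨(x : G), hNH x.2⟩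
    have h2 := hχ₁N ⟨⟨(x : G), hNH x.2⟩, x.2⟩
    rw [hθ'app] at h2
    have h3 : e ⟨⟨(x : G), hNH x.2⟩, x.2⟩ = x := Subtype.ext rfl
    rw [h3] at h2
    rw [← h2, ← h1]

end Cfsg.Agent.S4892
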