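import Cfsg.Statements.S4911
import Mathlib
import Cfsg.Agent.Lib.Helper2.GlaubReal

set_option autoImplicit false
open Cfsg

namespace Cfsg.Agent.S4911

open Cfsg.Agent.Lib.Helper2.Glaub Cfsg.Agent.CharLib in
theorem aux {G : Type*} [Group G] [Finite G] (p : ℕ) [Fact p.Prime] (P K : Subgroup G)
    (hP : IsPGroup p ↥P) (hK : ¬ p ∣ Nat.card ↥K) (hPK : P ≤ Subgroup.normalizer (K : Set G)) :
    Nat.card {θ : Cfsg.IrrCharacter ↥K // (∀ k : ↥K, ((θ : ↥K → ℂ) k).im = 0) ∧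
        InvUnder K P (θ : ↥K → ℂ)} =
      Nat.card {c : ConjClasses ↥K // (∀ k : ↥K, ConjClasses.mk k = c → IsConj k k⁻¹) ∧
        ClassInv K P c} ∧
    ((∀ θ : Cfsg.IrrCharacter ↥K, (∀ k : ↥K, ((θ : ↥K → ℂ) k).im = 0) →
        InvUnder K P (θ : ↥K → ℂ)) →
      ∀ k : ↥K, IsConj k k⁻¹ → ∃ k' : ↥K, IsConj k k' ∧
        ∀ x ∈ P, x * (k' : G) * x⁻¹ = (k' : G)) := by
  classical
  haveI := Fintype.ofFinite G
  have hcop : (Nat.card K).Coprime (Nat.card P) := by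
    obtain ⟨n, hn⟩ := hP.exists_card_eq
    rw [hn]
    exact Nat.Coprime.pow_right n ((Nat.Prime.coprime_iff_not_dvd Fact.out).mpr hK).symm
  haveI : Group.IsNilpotent P := hP.isNilpotent
  have hsolv : Group.IsSolvable P := IsNilpotent.to_isSolvable
  have key := card_real_inv_irr_eq_classes K P hPK hcop hsolv
  refine ⟨key, ?_⟩
  intro hall k hk
  have e3 : {θ : Cfsg.IrrCharacter ↥K // ∀ k : ↥K, ((θ : ↥K → ℂ) k).im = 0} ≃
      {θ : Cfsg.IrrCharacter ↥K // (∀ k : ↥K, ((θ : ↥K → ℂ) k).im = 0) ∧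
        InvUnder K P (θ : ↥K → ℂ)} :=
    Equiv.subtypeEquivRight (fun θ => ⟨fun h => ⟨h, hall θ h⟩, fun h => h.1⟩)
  have h5 : Nat.card {c : ConjClasses ↥K // ∀ g : ↥K, ConjClasses.mk g = c → IsConj g g⁻¹} =
      Nat.card {c : ConjClasses ↥K // (∀ k : ↥K, ConjClasses.mk k = c → IsConj k k⁻¹) ∧
        ClassInv K P c} := by
    rw [← card_real_irr_eq_card_real_classes, Nat.card_congr e3, key]
  let f : {c : ConjClasses ↥K // (∀ k : ↥K, ConjClasses.mk k = c → IsConj k k⁻¹) ∧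
        ClassInv K P c} → {c : ConjClasses ↥K // ∀ g : ↥K, ConjClasses.mk g = c → IsConj g g⁻¹} :=
    fun c => ⟨c.1, c.2.1⟩
  have hf : Function.Injective f := by
    rintro ⟨c, hc⟩ ⟨c', hc'⟩ h
    apply Subtype.ext
    exact congrArg (fun c : {c : ConjClasses ↥K // ∀ g : ↥K, ConjClasses.mk g = c → IsConj g g⁻¹} =>
      c.1) h
  have hbij := hf.bijective_of_nat_card_le h5.le
  have hreal : ∀ g : ↥K, ConjClasses.mk g = ConjClasses.mk k → IsConj g g⁻¹ := by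
    intro g hg
    have h1 : IsConj g k := ConjClasses.mk_eq_mk_iff_isConj.mp hg
    have h2 : IsConj k⁻¹ g⁻¹ := by
      obtain ⟨u, hu⟩ := isConj_iff.mp h1.symm
      exact isConj_iff.mpr ⟨u, by rw [← hu]; group⟩
    exact h1.trans (hk.trans h2)
  obtain ⟨⟨c, hc1, hc2⟩, hc⟩ := hbij.2 ⟨ConjClasses.mk k, hreal⟩
  have hck : c = ConjClasses.mk k := congrArg Subtype.val hc
  rw [hck] at hc2
  have hinv : ∀ s ∈ P, ∃ h ∈ K, s * (k : G) * s⁻¹ = h * k * h⁻¹ := by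
    intro s hs
    have hsk : s * (k : G) * s⁻¹ ∈ K := (Subgroup.mem_normalizer_iff.mp (hPK hs) k).mp k.2
    have h1 := hc2 s hs k ⟨_, hsk⟩ rfl rfl
    obtain ⟨u, hu⟩ := isConj_iff.mp (ConjClasses.mk_eq_mk_iff_isConj.mp h1)
    have hu' : (u : G) * (s * k * s⁻¹) * (u : G)⁻¹ = k := by
      have := congrArg (Subtype.val) hu
      simpa using this
    refine ⟨(u : G)⁻¹, K.inv_mem u.2, ?_⟩
    calc s * (k : G) * s⁻¹ = (u : G)⁻¹ * ((u : G) * (s * k * s⁻¹) * (u : G)⁻¹) * u := by group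
      _ = (u : G)⁻¹ * k * ((u : G)⁻¹)⁻¹ := by rw [hu', inv_inv]
  obtain ⟨h, hh, hcent⟩ := exists_conj_mem_centralizer hPK hcop (Or.inl hsolv) (k : G) hinv
  refine ⟨⟨h * k * h⁻¹, K.mul_mem (K.mul_mem hh k.2) (K.inv_mem hh)⟩,
    isConj_iff.mpr ⟨⟨h, hh⟩, rfl⟩, ?_⟩
  intro x hx
  have h1 := Subgroup.mem_centralizer_iff.mp hcent x hx
  show x * (h * k * h⁻¹) * x⁻¹ = h * k * h⁻¹
  rw [h1]
  group


/-- Let P and K be subgroups of a finite group with P a p-group normalizing K and K of order prime to p. Then the number of P-invariant real-valued irreducible complex characters of K equals the number of conjugacy classes of K that are real (closed under inversion) and P-invariant. Moreover, if every real-valued irreducible character of K is P-invariant, then every real element of K (one conjugate in K to its inverse) is conjugate in K to an element centralized by P. -/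
theorem result {G : Type*} [Group G] [Finite G] (p : ℕ) [Fact p.Prime] (P K : Subgroup G) (hP : IsPGroup p ↥P) (hK : ¬ p ∣ Nat.card ↥K) (hPK : P ≤ Subgroup.normalizer (K : Set G)) : Nat.card {θ : Cfsg.IrrCharacter ↥K // (∀ k : ↥K, ((θ : ↥K → ℂ) k).im = 0) ∧ (∀ x ∈ P, ∀ k k' : ↥K, (k' : G) = x * (k : G) * x⁻¹ → (θ : ↥K → ℂ) k' = (θ : ↥K → ℂ) k)} = Nat.card {c : ConjClasses ↥K // (∀ k : ↥K, ConjClasses.mk k = c → IsConj k k⁻¹) ∧ ∀ k : ↥K, ConjClasses.mk k = c → ∀ x ∈ P, ∀ k' : ↥K, (k' : G) = x * (k : G) * x⁻¹ → ConjClasses.mk k' = c} ∧ ((∀ θ : Cfsg.IrrCharacter ↥K, (∀ k : ↥K, ((θ : ↥K → ℂ) k).im = 0) → (∀ x ∈ P, ∀ k k' : ↥K, (k' : G) = x * (k : G) * x⁻¹ → (θ : ↥K → ℂ) k' = (θ : ↥K → ℂ) k)) → ∀ k : ↥K, IsConj k k⁻¹ → ∃ k' : ↥K, IsConj k k' ∧ ∀ x ∈ P, x * (k' : G) * x⁻¹ = (k' : G)) := by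
  obtain ⟨h1, h2⟩ := aux p P K hP hK hPK
  have hclsiff : ∀ c : ConjClasses ↥K, Cfsg.Agent.Lib.Helper2.Glaub.ClassInv K P c ↔
      (∀ k : ↥K, ConjClasses.mk k = c → ∀ x ∈ P, ∀ k' : ↥K, (k' : G) = x * (k : G) * x⁻¹ →
        ConjClasses.mk k' = c) := by
    intro c
    constructor
    · intro h k hk x hx k' hk'
      exact h x hx k k' hk' hk
    · intro h x hx k k' hk' hk
      exact h k hk x hx k' hk'
  refine ⟨?_, h2⟩
  exact h1.trans (Nat.card_congr (Equiv.subtypeEquivRight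
    (fun c => and_congr Iff.rfl (hclsiff c))))

end Cfsg.Agent.S4911
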