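import Cfsg.Statements.S4912
import Mathlib
import Cfsg.Agent.Lib.Helper24.IndicatorInduced
import Cfsg.Agent.Lib.Helper24.IrrFacts
import Cfsg.Agent.Lib.Helper6.Gallagher2
import Cfsg.Agent.Lib.Helper6.LinChar
import Cfsg.Agent.Lib.Helper6.AbelianQuot
import Cfsg.Agent.Lib.Helper6.CliffordCorr
import Cfsg.Agent.Lib.Helper10.SeqInd
import Cfsg.Agent.Lib.Lead.FrobSchur

set_option autoImplicit false
open Cfsg

namespace Cfsg.Agent.S4912

open Cfsg.Agent.CharLib Cfsg.Agent.Lib.Helper24 Cfsg.Agent.Lib.Helper6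
open scoped ComplexConjugate
universe u

section basics
variable {G : Type u} [Group G]

theorem charDegree_eq_of_apply_one' {χ : G → ℂ} {d : ℕ} (h : χ 1 = d) :
    charDegree χ = d := by
  unfold charDegree
  rw [h]
  simp

/-- Frobenius–Schur: nonzero indicator implies real-valued. -/
theorem real_of_indicator_ne_zero [Fintype G] (χ : IrrCharacter G)
    (h : (Nat.card G : ℂ)⁻¹ * ∑ g : G, (χ : G → ℂ) (g * g) ≠ 0) (g : G) :
    ((χ : G → ℂ) g).im = 0 := by
  obtain ⟨n, ρ, hirr, hρ⟩ := χ.2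
  haveI := hirr
  have h2 := (frobenius_schur ρ).2
  rw [hρ] at h2
  by_contra hne
  exact h (h2.mpr ⟨g, hne⟩)

/-- The number of homomorphisms to `ℂˣ` trivial on a subgroup `I` is at most the index of `I`. -/
theorem card_hom_trivial_le [Finite G] (I : Subgroup G) :
    Nat.card {h : G →* ℂˣ // ∀ x ∈ I, h x = 1} ≤ I.index := by
  classical
  set J : Subgroup G := Subgroup.normalClosure (I : Set G) with hJ
  haveI : J.Normal := Subgroup.normalClosure_normal
  have hIJ : I ≤ J := Subgroup.le_normalClosure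
  have hle : ∀ h : {h : G →* ℂˣ // ∀ x ∈ I, h x = 1}, J ≤ h.1.ker := by
    intro h
    apply Subgroup.normalClosure_le_normal
    intro x hx
    exact MonoidHom.mem_ker.mpr (h.2 x hx)
  let F : {h : G →* ℂˣ // ∀ x ∈ I, h x = 1} → (G ⧸ J →* ℂˣ) :=
    fun h => QuotientGroup.lift J h.1 (hle h)
  have hF : Function.Injective F := by
    intro a b hab
    apply Subtype.ext
    ext x
    have := congrArg (fun f : G ⧸ J →* ℂˣ => f (x : G ⧸ J)) hab
    simpa [F] using congrArg Units.val this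
  have h1 : Nat.card {h : G →* ℂˣ // ∀ x ∈ I, h x = 1} ≤ Nat.card (G ⧸ J →* ℂˣ) :=
    Nat.card_le_card_of_injective F hF
  have h2 : Nat.card (G ⧸ J →* ℂˣ) = (commutator (G ⧸ J)).index := card_hom_units
  have h3 : (commutator (G ⧸ J)).index ≤ Nat.card (G ⧸ J) :=
    Nat.le_of_dvd Nat.card_pos (Subgroup.index_dvd_card _)
  have h4 : Nat.card (G ⧸ J) = J.index := rfl
  have h5 : J.index ≤ I.index :=
    Nat.le_of_dvd (Nat.pos_of_ne_zero Subgroup.index_ne_zero_of_finite) (Subgroup.index_dvd_of_le hIJ)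
  omega

/-- A non-abelian minimal normal subgroup lies in the kernel of every homomorphism to `ℂˣ`. -/
theorem hom_trivial_of_minimal (N : Subgroup G) (hN : N.Normal)
    (hmin : ∀ M : Subgroup G, M.Normal → M ≤ N → M = ⊥ ∨ M = N) (hna : ¬ IsMulCommutative ↥N)
    (f : G →* ℂˣ) (n : G) (hn : n ∈ N) : f n = 1 := by
  haveI := hN
  have hle : ⁅N, N⁆ ≤ N := Subgroup.commutator_le_left N N
  rcases hmin ⁅N, N⁆ inferInstance hle with h | h
  · exfalso
    apply hna
    have hc : N ≤ Subgroup.centralizer (N : Set G) :=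
      (Subgroup.commutator_eq_bot_iff_le_centralizer).mp h
    refine ⟨⟨fun a b => ?_⟩⟩
    apply Subtype.ext
    have := hc b.2 a a.2
    simpa using this
  · have h1 : n ∈ ⁅N, N⁆ := by rw [h]; exact hn
    have h2 : ⁅N, N⁆ ≤ commutator G := by
      rw [commutator_def]
      exact Subgroup.commutator_mono le_top le_top
    have h3 : commutator G ≤ f.ker := Abelianization.commutator_subset_ker f
    exact MonoidHom.mem_ker.mp (h3 (h2 h1))

end basics

section main
variable {G : Type u} [Group G] [Fintype G]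
variable (N : Subgroup G) [hN : N.Normal] [Fintype N] (I : Subgroup G) [Fintype I] (hNI : N ≤ I)

/-- a linear character, trivial on `N` -/
structure LinTriv (lam : G → ℂ) : Prop where
  char : IsCharacter G lam
  one : lam 1 = 1
  triv : ∀ n ∈ N, lam n = 1

variable {N}

omit [Fintype G] [Fintype N] hN in
theorem LinTriv.mul_apply {lam : G → ℂ} (h : LinTriv N lam) (x y : G) : lam (x * y) = lam x * lam y := by
  show ((linCharUnitsHom h.char h.one (x * y) : ℂˣ) : ℂ) =
    ((linCharUnitsHom h.char h.one x : ℂˣ) : ℂ) * ((linCharUnitsHom h.char h.one y : ℂˣ) : ℂ)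
  rw [map_mul, Units.val_mul]

/-- the twisted extension -/
noncomputable def twist (lam : G → ℂ) (ψ : I → ℂ) : I → ℂ := resFun I lam * ψ

omit [Fintype G] [Fintype N] [Fintype I] hN in
theorem twist_apply (lam : G → ℂ) (ψ : I → ℂ) (x : I) : twist I lam ψ x = lam x * ψ x := rfl

omit [Fintype G] [Fintype N] hN in
theorem twist_irr {lam : G → ℂ} (h : LinTriv N lam) {ψ : I → ℂ} (hψ : IsIrrCharacter I ψ) :
    IsIrrCharacter I (twist I lam ψ) :=
  isIrrCharacter_linear_mul (IsCharacter.restrict h.char I) h.one hψ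

omit [Fintype G] [Fintype N] [Fintype I] hN in
theorem twist_resLE {lam : G → ℂ} (h : LinTriv N lam) (ψ : I → ℂ) :
    resLE hNI (twist I lam ψ) = resLE hNI ψ := by
  funext n
  rw [resLE_apply, resLE_apply, twist_apply]
  have : lam ((⟨(n : G), hNI n.2⟩ : I) : G) = 1 := h.triv n n.2
  rw [this, one_mul]

variable (φ : IrrCharacter N) (hT : ∀ g : G, g ∈ I ↔ Cfsg.Agent.Lib.Helper6.conjFun N g (φ : N → ℂ) = φ)
variable (ψ : IrrCharacter I) (hψN : resLE hNI (ψ : I → ℂ) = φ)

include hT hψN in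
theorem ind_twist_irr {lam : G → ℂ} (h : LinTriv N lam) :
    IsIrrCharacter G (indFun I (twist I lam ψ)) := by
  refine (isIrrCharacter_indFun_inertia hNI φ.2 hT (twist_irr I h ψ.2) ?_).1
  rw [twist_resLE I hNI h, hψN, Cfsg.Agent.Lib.Helper10.classInner_irr_self φ.2]
  exact one_ne_zero

include hψN in
omit hN [Fintype N] in
theorem ind_twist_one {lam : G → ℂ} (h : LinTriv N lam) :
    indFun I (twist I lam ψ) 1 = ((charDegree (φ : N → ℂ) * I.index : ℕ) : ℂ) := by
  rw [Cfsg.Agent.Lib.Helper10.indFun_apply_one_index, twist_apply]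
  have h1 : lam (((1 : I) : G)) = 1 := h.one
  have h2 : (ψ : I → ℂ) 1 = (φ : N → ℂ) 1 := by
    have := congrFun hψN 1
    rw [resLE_apply] at this
    exact this
  rw [h1, one_mul, h2, irr_apply_one φ]
  push_cast
  ring

include hT hψN in
theorem ind_twist_indicator {lam : G → ℂ} (h : LinTriv N lam) (hsq : ∀ g : G, lam g * lam g = 1)
    (hψν : (Nat.card I : ℂ)⁻¹ * ∑ x : I, (ψ : I → ℂ) (x * x) = 1) :
    (Nat.card G : ℂ)⁻¹ * ∑ g : G, indFun I (twist I lam ψ) (g * g) = 1 := by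
  obtain ⟨k, ρ, hirr, hρ⟩ := twist_irr I h ψ.2
  have hψreal : ∀ x : I, ((ψ : I → ℂ) x).im = 0 :=
    real_of_indicator_ne_zero ψ (by rw [hψν]; exact one_ne_zero)
  have hN0 : (Nat.card N : ℂ) ≠ 0 := Nat.cast_ne_zero.mpr Nat.card_pos.ne'
  have horth : ∀ g : G, g ∉ I →
      ∑ n : N, ρ.character (conjIncl N I hNI g n) * ρ.character (Subgroup.inclusion hNI n) = 0 := by
    intro g hg
    rw [hρ]
    have e1 : ∀ n : N, twist I lam ψ (conjIncl N I hNI g n) = Cfsg.Agent.Lib.Helper6.conjFun N g⁻¹ (φ : N → ℂ) n := by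
      intro n
      have hm : g⁻¹ * (n : G) * g ∈ N := by simpa using hN.conj_mem n n.2 g⁻¹
      rw [twist_apply, coe_conjIncl, h.triv _ hm, one_mul, conjFun_apply]
      have := congrFun hψN ⟨g⁻¹ * n * g, hm⟩
      rw [resLE_apply] at this
      have e : (⟨g⁻¹ * ↑n * g⁻¹⁻¹, hN.conj_mem n n.2 g⁻¹⟩ : N) = ⟨g⁻¹ * n * g, hm⟩ :=
        Subtype.ext (by simp)
      rw [e, ← this]
      rfl
    have e2 : ∀ n : N, twist I lam ψ (Subgroup.inclusion hNI n) = conj ((φ : N → ℂ) n) := by
      intro n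
      have hn : lam ((Subgroup.inclusion hNI n : I) : G) = 1 := h.triv n n.2
      rw [twist_apply, hn, one_mul]
      have := congrFun hψN n
      rw [resLE_apply] at this
      have hre : conj ((φ : N → ℂ) n) = (φ : N → ℂ) n := by
        rw [Complex.conj_eq_iff_im, ← this]
        exact hψreal _
      rw [hre, ← this]
      rfl
    simp_rw [e1, e2]
    have hne : Cfsg.Agent.Lib.Helper6.conjFun N g⁻¹ (φ : N → ℂ) ≠ φ := by
      intro heq
      apply hg
      have := (hT g⁻¹).mpr heq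
      simpa using this
    have hci := Cfsg.Agent.Lib.Helper10.classInner_irr (isIrrCharacter_conjFun N φ.2 g⁻¹) φ.2
    rw [if_neg hne] at hci
    unfold classInner at hci
    rcases mul_eq_zero.mp hci with h0 | h0
    · exact absurd (inv_eq_zero.mp h0) hN0
    · exact h0
  have key := indicator_indFun N I hNI ρ horth
  rw [hρ] at key
  rw [key]
  have hsum : ∑ x : I, twist I lam ψ (x * x) = ∑ x : I, (ψ : I → ℂ) (x * x) := by
    apply Finset.sum_congr rfl
    intro x _
    rw [twist_apply]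
    have : lam (((x * x : I) : G)) = 1 := by
      rw [Subgroup.coe_mul, h.mul_apply, hsq]
    rw [this, one_mul]
  rw [hsum, hψν]

include hT hψN in
theorem restrict_eq_of_ind_eq {lam lam' : G → ℂ} (h : LinTriv N lam) (h' : LinTriv N lam')
    (heq : indFun I (twist I lam ψ) = indFun I (twist I lam' ψ)) (x : G) (hx : x ∈ I) :
    lam x = lam' x := by
  classical
  have hf : ∀ {l : G → ℂ}, LinTriv N l → classInner (resLE hNI (twist I l ψ)) (φ : N → ℂ) ≠ 0 := by
    intro l hl
    rw [twist_resLE I hNI hl, hψN, Cfsg.Agent.Lib.Helper10.classInner_irr_self φ.2]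
    exact one_ne_zero
  have hθ : twist I lam ψ = twist I lam' ψ :=
    indFun_inertia_injective hNI φ.2 hT (twist_irr I h ψ.2) (twist_irr I h' ψ.2) (hf h) (hf h') heq
  let _ : Fintype (N.subgroupOf I) := Fintype.ofFinite _
  have hψirrN : IsIrrCharacter (N.subgroupOf I) (resFun (N.subgroupOf I) (ψ : I → ℂ)) := by
    rw [resFun_subgroupOf hNI, hψN]
    exact isIrrCharacter_comp_mulEquiv' _ φ.2
  have hinj := (gallagher_bijOn (N.subgroupOf I) ψ.2 hψirrN).injOn
  have hmem : ∀ {l : G → ℂ}, LinTriv N l → resFun I l ∈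
      {β : I → ℂ | IsIrrCharacter I β ∧
        classInner (indFun (N.subgroupOf I) (1 : (N.subgroupOf I) → ℂ)) β ≠ 0} := by
    intro l hl
    have hirr : IsIrrCharacter I (resFun I l) :=
      IsCharacter.isIrrCharacter_of_apply_one (IsCharacter.restrict hl.char I) hl.one
    refine ⟨hirr, ?_⟩
    rw [classInner_indFun_one (N.subgroupOf I)
      (IsCharacter.isClassFunction (IsIrrCharacter.isCharacter hirr))]
    have h1 : ∀ n : N.subgroupOf I, resFun I l (n : I) = 1 := by
      intro n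
      exact hl.triv _ (Subgroup.mem_subgroupOf.mp n.2)
    simp_rw [h1]
    rw [Finset.sum_const, Finset.card_univ, nsmul_eq_mul, mul_one, map_natCast,
      Nat.card_eq_fintype_card]
    have : (Fintype.card (N.subgroupOf I) : ℂ) ≠ 0 := Nat.cast_ne_zero.mpr Fintype.card_ne_zero
    rw [inv_mul_cancel₀ this]
    exact one_ne_zero
  have := hinj (hmem h) (hmem h') hθ
  exact congrFun this ⟨x, hx⟩

end main

theorem result' {G : Type u} [Group G] [Finite G] (N : Subgroup G) (hN : N.Normal) (hN1 : N ≠ ⊥)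
    (hmin : ∀ M : Subgroup G, M.Normal → M ≤ N → M = ⊥ ∨ M = N) (hna : ¬ IsMulCommutative ↥N)
    (φ : Cfsg.IrrCharacter ↥N) (I : Subgroup G)
    (hI : ∀ g : G, g ∈ I ↔ ∀ n n' : ↥N, (n' : G) = g * (n : G) * g⁻¹ →
      (φ : ↥N → ℂ) n' = (φ : ↥N → ℂ) n) (hNI : N ≤ I)
    (hext : ∃ ψ : Cfsg.IrrCharacter ↥I,
      (Nat.card ↥I : ℂ)⁻¹ * ∑ᶠ g : ↥I, (ψ : ↥I → ℂ) (g * g) = 1 ∧
        ∀ n : ↥N, (ψ : ↥I → ℂ) (Subgroup.inclusion hNI n) = (φ : ↥N → ℂ) n) :
    Nat.card {χ : Cfsg.IrrCharacter G // Cfsg.charDegree (χ : G → ℂ) = 1 ∧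
        (Nat.card G : ℂ)⁻¹ * ∑ᶠ g : G, (χ : G → ℂ) (g * g) = 1} ≤
      I.index * Nat.card {χ : Cfsg.IrrCharacter G //
        Cfsg.charDegree (χ : G → ℂ) = Cfsg.charDegree (φ : ↥N → ℂ) * I.index ∧
          (Nat.card G : ℂ)⁻¹ * ∑ᶠ g : G, (χ : G → ℂ) (g * g) = 1} := by
  classical
  let _ : Fintype G := Fintype.ofFinite G
  let _ : Fintype N := Fintype.ofFinite N
  let _ : Fintype I := Fintype.ofFinite I
  haveI := hN
  obtain ⟨ψ, hψν, hψN'⟩ := hext
  rw [finsum_eq_sum_of_fintype] at hψν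
  have hψN : resLE hNI (ψ : I → ℂ) = φ := funext fun n => hψN' n
  have hT : ∀ g : G, g ∈ I ↔ Cfsg.Agent.Lib.Helper6.conjFun N g (φ : N → ℂ) = φ := by
    intro g
    rw [hI g]
    constructor
    · intro h
      funext n
      rw [conjFun_apply]
      exact h n ⟨g * n * g⁻¹, hN.conj_mem n n.2 g⟩ rfl
    · intro h n n' hn'
      have := congrFun h n
      rw [conjFun_apply] at this
      have e : n' = ⟨g * n * g⁻¹, hN.conj_mem n n.2 g⟩ := Subtype.ext hn'
      rw [e, this]
  have htriv := hom_trivial_of_minimal N hN hmin hna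
  set S := {χ : Cfsg.IrrCharacter G // Cfsg.charDegree (χ : G → ℂ) = 1 ∧
        (Nat.card G : ℂ)⁻¹ * ∑ᶠ g : G, (χ : G → ℂ) (g * g) = 1} with hS
  set T := {χ : Cfsg.IrrCharacter G //
        Cfsg.charDegree (χ : G → ℂ) = Cfsg.charDegree (φ : ↥N → ℂ) * I.index ∧
          (Nat.card G : ℂ)⁻¹ * ∑ᶠ g : G, (χ : G → ℂ) (g * g) = 1} with hTdef
  have hone : ∀ a : S, (a.1 : G → ℂ) 1 = 1 := by
    intro a
    rw [irr_apply_one, a.2.1]
    simp
  have hlin : ∀ a : S, LinTriv N (a.1 : G → ℂ) := by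
    intro a
    refine ⟨IsIrrCharacter.isCharacter a.1.2, hone a, fun n hn => ?_⟩
    have := htriv (linCharUnitsHom (IsIrrCharacter.isCharacter a.1.2) (hone a)) n hn
    exact congrArg Units.val this
  have hsq : ∀ a : S, ∀ g : G, (a.1 : G → ℂ) g * (a.1 : G → ℂ) g = 1 := by
    intro a g
    have hν := a.2.2
    rw [finsum_eq_sum_of_fintype] at hν
    have hre := real_of_indicator_ne_zero a.1 (by rw [hν]; exact one_ne_zero) g
    have h1 := irr_apply_inv a.1 g
    rw [Complex.conj_eq_iff_im.mpr hre] at h1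
    have h2 := (hlin a).mul_apply g g⁻¹
    rw [mul_inv_cancel, hone a, h1] at h2
    exact h2.symm
  let F : S → T := fun a =>
    ⟨⟨indFun I (twist I (a.1 : G → ℂ) ψ), ind_twist_irr I hNI φ hT ψ hψN (hlin a)⟩,
      charDegree_eq_of_apply_one' (ind_twist_one I hNI φ ψ hψN (hlin a)), by
        rw [finsum_eq_sum_of_fintype]
        exact ind_twist_indicator I hNI φ hT ψ hψN (hlin a) (hsq a) hψν⟩
  have hfiber : ∀ b : T, Nat.card {a : S // F a = b} ≤ I.index := by
    intro b
    by_cases hne : Nonempty {a : S // F a = b}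
    · obtain ⟨a₀⟩ := hne
      let f : S → (G →* ℂˣ) := fun a => linCharUnitsHom (IsIrrCharacter.isCharacter a.1.2) (hone a)
      have hfa : ∀ (a : S) (x : G), ((f a x : ℂˣ) : ℂ) = (a.1 : G → ℂ) x := fun a x => rfl
      let Φ : {a : S // F a = b} → {h : G →* ℂˣ // ∀ x ∈ I, h x = 1} := fun a =>
        ⟨f a.1 * (f a₀.1)⁻¹, by
          intro x hx
          rw [MonoidHom.mul_apply, MonoidHom.inv_apply, mul_inv_eq_one]
          apply Units.ext
          rw [hfa, hfa]
          have heq : F a.1 = F a₀.1 := a.2.trans a₀.2.symm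
          have heq' : indFun I (twist I (a.1.1 : G → ℂ) ψ) = indFun I (twist I (a₀.1.1 : G → ℂ) ψ) :=
            congrArg (fun t : T => (t.1 : G → ℂ)) heq
          exact restrict_eq_of_ind_eq I hNI φ hT ψ hψN (hlin a.1) (hlin a₀.1) heq' x hx⟩
      have hΦ : Function.Injective Φ := by
        intro a a' haa
        have h1 : f a.1 * (f a₀.1)⁻¹ = f a'.1 * (f a₀.1)⁻¹ := congrArg Subtype.val haa
        have h2 : f a.1 = f a'.1 := mul_right_cancel h1
        apply Subtype.ext
        apply Subtype.ext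
        apply Subtype.ext
        funext x
        rw [← hfa, ← hfa, h2]
      exact (Nat.card_le_card_of_injective Φ hΦ).trans (card_hom_trivial_le I)
    · rw [not_nonempty_iff] at hne
      rw [Nat.card_of_isEmpty]
      exact Nat.zero_le _
  let _ : Fintype S := Fintype.ofFinite S
  let _ : Fintype T := Fintype.ofFinite T
  rw [Nat.card_eq_fintype_card, Nat.card_eq_fintype_card, ← Finset.card_univ, ← Finset.card_univ]
  apply Finset.card_le_mul_card_image_of_maps_to (f := F) (fun _ _ => Finset.mem_univ _)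
  intro b _
  have := hfiber b
  rw [Nat.card_eq_fintype_card, Fintype.card_subtype] at this
  exact this

/-- Let G be a finite group with a non-abelian minimal normal subgroup N, and let φ be an irreducible complex character of N with stabilizer I in G such that φ extends to an irreducible character of I with Frobenius–Schur indicator +1. Put d = φ(1)·[G : I]. Then the number of linear characters of G with Frobenius–Schur indicator +1 is at most [G : I] times the number of irreducible characters of G of degree d with Frobenius–Schur indicator +1. -/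
theorem result {G : Type*} [Group G] [Finite G] (N : Subgroup G) (hN : N.Normal) (hN1 : N ≠ ⊥) (hmin : ∀ M : Subgroup G, M.Normal → M ≤ N → M = ⊥ ∨ M = N) (hna : ¬ IsMulCommutative ↥N) (φ : Cfsg.IrrCharacter ↥N) (I : Subgroup G) (hI : ∀ g : G, g ∈ I ↔ ∀ n n' : ↥N, (n' : G) = g * (n : G) * g⁻¹ → (φ : ↥N → ℂ) n' = (φ : ↥N → ℂ) n) (hNI : N ≤ I) (hext : ∃ ψ : Cfsg.IrrCharacter ↥I, (Nat.card ↥I : ℂ)⁻¹ * ∑ᶠ g : ↥I, (ψ : ↥I → ℂ) (g * g) = 1 ∧ ∀ n : ↥N, (ψ : ↥I → ℂ) (Subgroup.inclusion hNI n) = (φ : ↥N → ℂ) n) : Nat.card {χ : Cfsg.IrrCharacter G // Cfsg.charDegree (χ : G → ℂ) = 1 ∧ (Nat.card G : ℂ)⁻¹ * ∑ᶠ g : G, (χ : G → ℂ) (g * g) = 1} ≤ I.index * Nat.card {χ : Cfsg.IrrCharacter G // Cfsg.charDegree (χ : G → ℂ) = Cfsg.charDegree (φ : ↥N → ℂ) * I.index ∧ (Nat.card G : ℂ)⁻¹ * ∑ᶠ g : G, (χ : G → ℂ) (g * g) = 1} := by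
  exact result' N hN hN1 hmin hna φ I hI hNI hext

end Cfsg.Agent.S4912
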