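-- helper6: S4931 (p'-degree characters of N_G(P) all extend to G  <=>  N_G(P) has a normal
-- complement).  (=>): L = P^G has L ∩ N = P (characters of N/P); K = intersection of kernels of
-- the extending characters has P' ≤ K, K ∩ P ≤ P'; Burnside fusion mod K + focal subgroup theorem
-- + Tate give P ∩ O^p(L) = 1 and O^p(L) is the complement.  (<=): inflation along the projection.
import Mathlib
import Cfsg.Statements.S4931
import Cfsg.Agent.Lib.Helper6.SylNormExtC

set_option autoImplicit false
open Cfsg

namespace Cfsg.Agent.S4931

/-- Let G be a finite group, p a prime and P a Sylow p-subgroup of G with normalizer N. Then every irreducible complex character of N of degree not divisible by p is the restriction of an irreducible character of G if and only if there is a normal subgroup K of G with KN = G and K ∩ N = 1. -/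
theorem result {G : Type*} [Group G] [Finite G] (p : ℕ) [Fact p.Prime] (P : Sylow p G) :
    (∀ θ : Cfsg.IrrCharacter ↥(Subgroup.normalizer ((P : Subgroup G) : Set G)), ¬ p ∣ Cfsg.charDegree (θ : ↥(Subgroup.normalizer ((P : Subgroup G) : Set G)) → ℂ) →
        ∃ χ : Cfsg.IrrCharacter G, ∀ x : ↥(Subgroup.normalizer ((P : Subgroup G) : Set G)), (χ : G → ℂ) x = (θ : ↥(Subgroup.normalizer ((P : Subgroup G) : Set G)) → ℂ) x) ↔
      ∃ K : Subgroup G, K.Normal ∧ K ⊔ Subgroup.normalizer ((P : Subgroup G) : Set G) = ⊤ ∧ K ⊓ Subgroup.normalizer ((P : Subgroup G) : Set G) = ⊥ := by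
  constructor
  · intro h
    exact Cfsg.Agent.Lib.Helper6.SylNormExt.exists_normal_complement p P h
  · rintro ⟨K, hKn, hsup, hinf⟩ θ _
    haveI := hKn
    exact Cfsg.Agent.Lib.Helper6.SylNormExt.exists_extension_of_complement _ K hsup hinf θ

end Cfsg.Agent.S4931
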