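import Cfsg.Statements.S4937
import Mathlib
import Cfsg.Agent.Lib.Helper23.RelCentD
import Cfsg.Agent.Lib.Helper6.AbelianQuot
import Cfsg.Agent.Lib.Helper6.LinChar
import Cfsg.Agent.Lib.Helper6.CyclicExtRep

set_option autoImplicit false
open Cfsg

namespace Cfsg.Agent.S4937

open Representation Module Cfsg.Agent.Lib.Helper24 Cfsg.Agent.Lib.Helper6 Cfsg.Agent.CharLib
  Cfsg.Agent.Lib.Helper23.RelCent

/-- Let G be a finite group, p a prime, M a maximal ideal of the algebraic integers containing p, N a normal subgroup of G and P a Sylow p-subgroup of N such that G = N·C_G(P). Let θ be an irreducible character in the principal p-block of N that is the restriction of some irreducible character of G. Then θ is the restriction of an irreducible character χ of G lying in the principal p-block of G such that, for every subgroup J of G containing N, the restriction of χ to J is an irreducible character of J lying in the principal p-block of J. -/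
theorem result {G : Type*} [Group G] [Finite G] (p : ℕ) [Fact p.Prime] (M : Ideal Cfsg.AlgInt) (hM : Cfsg.IsPModular p M) (N : Subgroup G) [N.Normal] (P : Sylow p ↥N)
    (hcov : N ⊔ Subgroup.centralizer (((P : Subgroup ↥N).map N.subtype : Subgroup G) : Set G) = ⊤)
    (θ : Cfsg.IrrCharacter ↥N) (hθ : θ ∈ Cfsg.principalBlock M ↥N)
    (hext : ∃ ψ : Cfsg.IrrCharacter G, ∀ x : ↥N, (ψ : G → ℂ) x = (θ : ↥N → ℂ) x) :
    ∃ χ : Cfsg.IrrCharacter G, χ ∈ Cfsg.principalBlock M G ∧ (∀ x : ↥N, (χ : G → ℂ) x = (θ : ↥N → ℂ) x) ∧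
      ∀ J : Subgroup G, N ≤ J → ∃ ξ : Cfsg.IrrCharacter ↥J, ξ ∈ Cfsg.principalBlock M ↥J ∧ ∀ y : ↥J, (ξ : ↥J → ℂ) y = (χ : G → ℂ) y := by
  classical
  let _ : Fintype G := Fintype.ofFinite G
  have hprime : M.IsPrime := isPrime_of_isPModular hM
  obtain ⟨ψ, hψ⟩ := hext
  obtain ⟨n, ρ, hρirr, hρχ⟩ := ψ.2
  have hρN : ∀ x : N, ρ.character x = (θ : N → ℂ) x := by
    intro x
    rw [hρχ]
    exact hψ x
  haveI hirrN : (resRep ρ N).IsIrreducible := isIrreducible_resRep ρ N θ hρN
  have h0 : AugOnN ρ N M := augOnN_of_principal ρ N hM θ hθ hρN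
  set C : Subgroup G :=
    Subgroup.centralizer (((P : Subgroup ↥N).map N.subtype : Subgroup G) : Set G) with hC
  have hCp : ∀ c ∈ C, ¬ p ∣ nCard N c := fun c hc => not_dvd_nCard p N P c hc
  have hcov' : ∀ g : G, ∃ c ∈ C, g * c⁻¹ ∈ N := by
    intro g
    have hg : g ∈ ((N ⊔ C : Subgroup G) : Set G) := by
      rw [hcov]; exact Subgroup.mem_top g
    rw [Subgroup.normal_mul] at hg
    obtain ⟨m, hm, c, hc, rfl⟩ := Set.mem_mul.mp hg
    exact ⟨c, hc, by rw [mul_inv_cancel_right]; exact hm⟩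
  -- the linear character
  obtain ⟨β, hβN, hβC⟩ := exists_linear_lift hM N C hcov' (rr ρ)
    (fun c hc => memLocalRing_rr ρ N hM (hCp c hc))
    (fun c hc d hd => rr_mul ρ N hM h0 (hCp c hc) (hCp d hd) (hCp _ (C.mul_mem hc hd))
      (hCp _ (C.inv_mem (C.mul_mem hc hd))))
    (fun m hmC hmN => rr_sub_one_of_mem ρ N hM h0 hmN (hCp m hmC))
  set lam : G → ℂ := fun g => ((β⁻¹ g : ℂˣ) : ℂ) with hlamdef
  have hlam : IsCharacter G lam := isCharacter_of_hom β⁻¹
  have hlam1 : lam 1 = 1 := by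
    simp only [hlamdef, map_one, Units.val_one]
  have hlamβ : ∀ g : G, lam g * ((β g : ℂˣ) : ℂ) = 1 := by
    intro g
    simp only [hlamdef, MonoidHom.inv_apply]
    rw [← Units.val_mul, inv_mul_cancel, Units.val_one]
  have hlamloc : ∀ g : G, MemLocalRing M (lam g) := by
    intro g
    apply memLocalRing_of_isIntegral
    apply isIntegral_of_pow_eq_one (e := Nat.card G) Nat.card_pos
    simp only [hlamdef]
    rw [← Units.val_pow_eq_pow_val, ← map_pow, pow_card_eq_one', map_one, Units.val_one]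
  have hχirr : IsIrrCharacter G (lam * (ψ : G → ℂ)) := isIrrCharacter_linear_mul hlam hlam1 ψ.2
  set χ : IrrCharacter G := ⟨lam * (ψ : G → ℂ), hχirr⟩ with hχdef
  have hχapp : ∀ g : G, (χ : G → ℂ) g = lam g * (ψ : G → ℂ) g := fun g => rfl
  have hlamN : ∀ x : N, lam x = 1 := by
    intro x
    simp only [hlamdef, MonoidHom.inv_apply]
    rw [hβN x x.2, inv_one, Units.val_one]
  have hχN : ∀ x : N, (χ : G → ℂ) x = (θ : N → ℂ) x := by
    intro x
    rw [hχapp, hlamN, one_mul]
    exact hψ x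
  -- a representation affording χ
  obtain ⟨n', ρ', hρ'irr, hρ'χ⟩ := χ.2
  have hρ'N : ∀ x : N, ρ'.character x = (θ : N → ℂ) x := by
    intro x
    rw [hρ'χ]
    exact hχN x
  haveI hirrN' : (resRep ρ' N).IsIrreducible := isIrreducible_resRep ρ' N θ hρ'N
  have h0' : AugOnN ρ' N M := augOnN_of_principal ρ' N hM θ hθ hρ'N
  have hdim : (finrank ℂ (Fin n' → ℂ) : ℂ) = (finrank ℂ (Fin n → ℂ) : ℂ) := by
    rw [← Representation.char_one ρ', ← Representation.char_one ρ, hρ'χ, hρχ, hχapp, hlam1, one_mul]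
  have hrr : ∀ c : G, rr ρ' c = lam c * rr ρ c := by
    intro c
    unfold rr
    rw [hdim, hρ'χ, hρχ, hχapp, mul_div_assoc]
  have hkey : ∀ c ∈ C, MemLocalIdeal M (rr ρ' c - 1) := by
    intro c hc
    have h1 : rr ρ' c - 1 = lam c * (-(((β c : ℂˣ) : ℂ) - rr ρ c)) := by
      rw [hrr, ← hlamβ c]
      ring
    rw [h1]
    exact memLocalIdeal_mul_left (hlamloc c) (memLocalIdeal_neg (hβC c hc))
  have hω : ∀ a : G → ℂ, NInv N a → IntVal a → MemLocalIdeal M (omega ρ' a - ∑ g : G, a g) :=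
    fun a ha hi => omega_sub_sum ρ' N hM h0' C hCp hcov' hkey ha hi
  refine ⟨χ, ?_, hχN, ?_⟩
  · intro g
    have := sameBlock_one_of_omega ρ' N hω g
    rw [hρ'χ] at this
    exact this
  · intro J hNJ
    have hirrJ : (resRep ρ' J).IsIrreducible := by
      apply isIrreducible_of_comp (Subgroup.inclusion hNJ) (resRep ρ' J)
      exact hirrN'
    have hξ : IsIrrCharacter J (fun z : J => (χ : G → ℂ) z) := by
      refine ⟨n', resRep ρ' J, hirrJ, ?_⟩
      funext z
      rw [resRep_character, hρ'χ]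
    refine ⟨⟨fun z : J => (χ : G → ℂ) z, hξ⟩, ?_, fun y => rfl⟩
    intro y
    have := sameBlock_one_of_omega_subgroup ρ' N hω J hNJ y
    simp only [hρ'χ] at this
    exact this

end Cfsg.Agent.S4937
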