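import Cfsg.Statements.S4956
import Mathlib

set_option autoImplicit false
open Cfsg

namespace Cfsg.Agent.S4956



section LC
variable {V : Type*} [CommGroup V]

/-- the endomorphism `v ↦ v / α v` of a commutative group -/
def delta (α : MulAut V) : V →* V where
  toFun v := v / α v
  map_one' := by simp
  map_mul' a b := by rw [map_mul, mul_div_mul_comm]

theorem delta_apply (α : MulAut V) (v : V) : delta α v = v / α v := rfl

theorem delta_comm (α β : MulAut V) (hcomm : ∀ v, α (β v) = β (α v)) (v : V) :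
    delta α (delta β v) = delta β (delta α v) := by
  simp only [delta_apply, map_div, hcomm]
  rw [div_div_div_comm]

theorem delta_eq_one_iff (α : MulAut V) (v : V) : delta α v = 1 ↔ α v = v := by
  rw [delta_apply, div_eq_one, eq_comm]

/-- a fixed point of the form `u / α u` is trivial, when `α` has order prime to `|V|` -/
theorem eq_one_of_delta_of_fixed [Finite V] (α : MulAut V) (n : ℕ) (hn : Nat.Coprime n (Nat.card V))
    (hαn : α ^ n = 1) {u v : V} (huv : v = u / α u) (hv : α v = v) : v = 1 := by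
  have hαu : α u = u * v⁻¹ := by rw [huv]; simp
  have hαvi : α v⁻¹ = v⁻¹ := by rw [map_inv, hv]
  have key : ∀ i : ℕ, (α ^ i) u = u * (v⁻¹) ^ i := by
    intro i
    induction i with
    | zero => simp
    | succ i ih =>
      rw [pow_succ', MulAut.mul_apply, ih, map_mul, map_pow, hαvi, hαu, pow_succ']
      rw [mul_assoc]
  have h1 := key n
  rw [hαn, MulAut.one_apply] at h1
  have h2 : (v⁻¹) ^ n = 1 := by
    have : u * 1 = u * (v⁻¹) ^ n := by rw [mul_one]; exact h1
    exact (mul_left_cancel this).symm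
  have h3 : v ^ n = 1 := by rwa [inv_pow, inv_eq_one] at h2
  have h4 : orderOf v ∣ n := orderOf_dvd_of_pow_eq_one h3
  have h5 : orderOf v ∣ Nat.card V := orderOf_dvd_natCard v
  have h6 : orderOf v = 1 := Nat.eq_one_of_dvd_coprimes hn h4 h5
  exact orderOf_eq_one_iff.mp h6

theorem lc_count [Finite V] (α β : MulAut V) (hcomm : ∀ v, α (β v) = β (α v)) (n : ℕ)
    (hn : Nat.Coprime n (Nat.card V)) (hαn : α ^ n = 1) :
    Nat.card {p : V × V // p.1 * α p.2 = p.2 * β p.1} =
      Nat.card V * Nat.card {v : V // α v = v ∧ β v = v} := by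
  classical
  have hDcomm := delta_comm α β hcomm
  -- kernel and image of `delta α`
  have h1 : ∀ t : V, t ∈ (delta α).range → delta α t = 1 → t = 1 := by
    rintro t ⟨u, rfl⟩ ht
    exact eq_one_of_delta_of_fixed α n hn hαn (delta_apply α u) ((delta_eq_one_iff α _).mp ht)
  have hsurjI : ∀ t : V, t ∈ (delta α).range → ∃ i ∈ (delta α).range, delta α i = t := by
    let r : (delta α).range → (delta α).range := fun i => ⟨delta α i, ⟨i, rfl⟩⟩
    have hr : Function.Injective r := by
      intro a b hab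
      have h2 : delta α (a : V) = delta α (b : V) := congrArg Subtype.val hab
      have h3 : delta α ((a : V) / (b : V)) = 1 := by rw [map_div, h2, div_self']
      have h4 := h1 _ ((delta α).range.div_mem a.2 b.2) h3
      exact Subtype.ext (div_eq_one.mp h4)
    have hs := Finite.surjective_of_injective hr
    intro t ht
    obtain ⟨i, hi⟩ := hs ⟨t, ht⟩
    exact ⟨i, i.2, congrArg Subtype.val hi⟩
  have hdecomp : ∀ u : V, ∃ c i : V, delta α c = 1 ∧ i ∈ (delta α).range ∧ u = c * i := by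
    intro u
    obtain ⟨i, hi, hiu⟩ := hsurjI (delta α u) ⟨u, rfl⟩
    refine ⟨u / i, i, ?_, hi, by simp⟩
    rw [map_div, hiu, div_self']
  have hcard : Nat.card (delta α).ker * Nat.card (delta α).range = Nat.card V := by
    rw [← Subgroup.index_ker, Subgroup.card_mul_index]
  have hrange_inv : ∀ i : V, i ∈ (delta α).range → delta β i ∈ (delta α).range := by
    rintro i ⟨j, rfl⟩
    exact ⟨delta β j, hDcomm j⟩
  -- Step A
  have hcond : ∀ p : V × V, p.1 * α p.2 = p.2 * β p.1 ↔ delta β p.1 = delta α p.2 := by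
    intro p
    rw [delta_apply, delta_apply, div_eq_div_iff_mul_eq_mul]
  have hw : ∀ u : {u : V // delta β u ∈ (delta α).range}, ∃ w : V, delta α w = delta β (u : V) := fun u => u.2
  choose w₀ hw₀ using hw
  have eA : {p : V × V // p.1 * α p.2 = p.2 * β p.1} ≃
      {u : V // delta β u ∈ (delta α).range} × (delta α).ker :=
    { toFun := fun p => (⟨p.1.1, ⟨p.1.2, ((hcond p.1).mp p.2).symm⟩⟩,
        ⟨p.1.2 / w₀ ⟨p.1.1, ⟨p.1.2, ((hcond p.1).mp p.2).symm⟩⟩, by
          have hp := (hcond p.1).mp p.2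
          rw [MonoidHom.mem_ker, map_div, hw₀]
          show delta α p.1.2 / delta β p.1.1 = 1
          rw [hp, div_self']⟩)
      invFun := fun q => ⟨((q.1 : V), w₀ q.1 * (q.2 : V)), by
        rw [hcond]
        show delta β (q.1 : V) = delta α (w₀ q.1 * (q.2 : V))
        rw [map_mul, hw₀, MonoidHom.mem_ker.mp q.2.2, mul_one]⟩
      left_inv := by
        rintro ⟨⟨u, w⟩, h⟩
        apply Subtype.ext
        simp
      right_inv := by
        rintro ⟨⟨u, hu⟩, ⟨c, hc⟩⟩
        simp }
  -- Step B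
  have eB : {v : V // α v = v ∧ β v = v} × (delta α).range ≃ {u : V // delta β u ∈ (delta α).range} := by
    refine Equiv.ofBijective (fun q => ⟨(q.1 : V) * (q.2 : V), ?_⟩) ⟨?_, ?_⟩
    · rw [map_mul, (delta_eq_one_iff β _).mpr q.1.2.2, one_mul]
      exact hrange_inv _ q.2.2
    · rintro ⟨⟨k, hk⟩, ⟨i, hi⟩⟩ ⟨⟨k', hk'⟩, ⟨i', hi'⟩⟩ h
      have h2 : k * i = k' * i' := congrArg Subtype.val h
      have h3 : i / i' = k' / k := by
        rw [div_eq_div_iff_mul_eq_mul, mul_comm, h2, mul_comm]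
      have h4 : delta α (i / i') = 1 := by
        rw [h3, map_div, (delta_eq_one_iff α _).mpr hk'.1, (delta_eq_one_iff α _).mpr hk.1, div_self']
      have h5 := h1 _ ((delta α).range.div_mem hi hi') h4
      have h6 : i = i' := div_eq_one.mp h5
      subst h6
      have h7 : k = k' := mul_right_cancel h2
      subst h7
      rfl
    · rintro ⟨u, hu⟩
      obtain ⟨c, i, hc, hi, rfl⟩ := hdecomp u
      have h2 : delta β c ∈ (delta α).range := by
        have h3 : delta β c = delta β (c * i) / delta β i := by rw [map_mul]; simp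
        rw [h3]
        exact (delta α).range.div_mem hu (hrange_inv i hi)
      have h4 : delta α (delta β c) = 1 := by rw [hDcomm, hc, map_one]
      have h5 := h1 _ h2 h4
      exact ⟨(⟨c, (delta_eq_one_iff α c).mp hc, (delta_eq_one_iff β c).mp h5⟩, ⟨i, hi⟩), rfl⟩
  rw [Nat.card_congr eA, Nat.card_prod, ← Nat.card_congr eB, Nat.card_prod, ← hcard]
  ring
end LC


theorem lc_count' {V : Type*} [Group V] [Finite V] (hab : ∀ a b : V, a * b = b * a) (α β : MulAut V)
    (hcomm : ∀ v, α (β v) = β (α v)) (n : ℕ)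
    (hn : Nat.Coprime n (Nat.card V)) (hαn : α ^ n = 1) :
    Nat.card {p : V × V // p.1 * α p.2 = p.2 * β p.1} =
      Nat.card V * Nat.card {v : V // α v = v ∧ β v = v} := by
  letI : CommGroup V := { ‹Group V› with mul_comm := hab }
  exact lc_count α β hcomm n hn hαn


section partII
variable {X : Type*} [Group X] [Finite X] (V : Subgroup X) [V.Normal]
  (G : Subgroup X)

theorem commute_of_commute_mul (hGV : Subgroup.IsComplement' V G) {g h : X} (hg : g ∈ G) (hh : h ∈ G) (u w : ↥V)
    (hc : Commute ((u : X) * g) ((w : X) * h)) : Commute g h := by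
  have h1 : ((u : X) * g) * ((w : X) * h) = ((w : X) * h) * ((u : X) * g) := hc
  have hV1 : (u : X) * (g * (w : X) * g⁻¹) ∈ V :=
    V.mul_mem u.2 (Subgroup.Normal.conj_mem inferInstance _ w.2 g)
  have hV2 : (w : X) * (h * (u : X) * h⁻¹) ∈ V :=
    V.mul_mem w.2 (Subgroup.Normal.conj_mem inferInstance _ u.2 h)
  have h2 : ((u : X) * (g * (w : X) * g⁻¹)) * (g * h) = ((w : X) * (h * (u : X) * h⁻¹)) * (h * g) := by
    calc ((u : X) * (g * (w : X) * g⁻¹)) * (g * h) = ((u : X) * g) * ((w : X) * h) := by group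
      _ = ((w : X) * h) * ((u : X) * g) := h1
      _ = ((w : X) * (h * (u : X) * h⁻¹)) * (h * g) := by group
  have h3 := hGV.1 (a₁ := (⟨⟨_, hV1⟩, ⟨_, G.mul_mem hg hh⟩⟩ : ↥(V : Set X) × ↥(G : Set X)))
    (a₂ := (⟨⟨_, hV2⟩, ⟨_, G.mul_mem hh hg⟩⟩ : ↥(V : Set X) × ↥(G : Set X))) h2
  have h4 := congrArg (fun t => (t.2 : X)) h3
  exact h4

theorem inner_count (hab : ∀ a ∈ V, ∀ b ∈ V, a * b = b * a) (hGV : Subgroup.IsComplement' V G)
    (hcop : (Nat.card V).Coprime (Nat.card G)) {g h : X} (hg : g ∈ G) (hh : h ∈ G) [Decidable (Commute g h)] :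
    Nat.card {p : ↥V × ↥V // Commute ((p.1 : X) * g) ((p.2 : X) * h)} =
      if Commute g h then Nat.card V * Nat.card {v : ↥V // Commute g (v : X) ∧ Commute h (v : X)} else 0 := by
  by_cases hgh : Commute g h
  · rw [if_pos hgh]
    have hgh' : g * h = h * g := hgh
    have habV : ∀ a b : ↥V, a * b = b * a := fun a b => Subtype.ext (hab a a.2 b b.2)
    have hcommαβ : ∀ v : ↥V, (MulAut.conjNormal g : MulAut ↥V) ((MulAut.conjNormal h : MulAut ↥V) v) =
        (MulAut.conjNormal h : MulAut ↥V) ((MulAut.conjNormal g : MulAut ↥V) v) := by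
      intro v
      rw [← MulAut.mul_apply, ← MulAut.mul_apply, ← map_mul, ← map_mul, hgh']
    have hpow : (MulAut.conjNormal g : MulAut ↥V) ^ (Nat.card G) = 1 := by
      rw [← map_pow]
      have : g ^ Nat.card G = 1 := by
        have h1 : (⟨g, hg⟩ : ↥G) ^ Nat.card G = 1 := pow_card_eq_one'
        exact congrArg Subtype.val h1
      rw [this, map_one]
    have hlc := lc_count' habV (MulAut.conjNormal g : MulAut ↥V) (MulAut.conjNormal h : MulAut ↥V) hcommαβ
      (Nat.card G) hcop.symm hpow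
    have e1 : {p : ↥V × ↥V // Commute ((p.1 : X) * g) ((p.2 : X) * h)} ≃
        {p : ↥V × ↥V // p.1 * (MulAut.conjNormal g : MulAut ↥V) p.2 = p.2 * (MulAut.conjNormal h : MulAut ↥V) p.1} := by
      apply Equiv.subtypeEquivRight
      rintro ⟨u, w⟩
      rw [Subtype.ext_iff, Subgroup.coe_mul, Subgroup.coe_mul, MulAut.conjNormal_apply, MulAut.conjNormal_apply]
      show ((u : X) * g) * ((w : X) * h) = ((w : X) * h) * ((u : X) * g) ↔
        (u : X) * (g * (w : X) * g⁻¹) = (w : X) * (h * (u : X) * h⁻¹)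
      constructor
      · intro h1
        have h2 : ((u : X) * (g * (w : X) * g⁻¹)) * (g * h) = ((w : X) * (h * (u : X) * h⁻¹)) * (g * h) := by
          calc ((u : X) * (g * (w : X) * g⁻¹)) * (g * h) = ((u : X) * g) * ((w : X) * h) := by group
            _ = ((w : X) * h) * ((u : X) * g) := h1
            _ = ((w : X) * (h * (u : X) * h⁻¹)) * (h * g) := by group
            _ = ((w : X) * (h * (u : X) * h⁻¹)) * (g * h) := by rw [hgh']
        exact mul_right_cancel h2
      · intro h1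
        calc ((u : X) * g) * ((w : X) * h) = ((u : X) * (g * (w : X) * g⁻¹)) * (g * h) := by group
          _ = ((w : X) * (h * (u : X) * h⁻¹)) * (h * g) := by rw [h1, hgh']
          _ = ((w : X) * h) * ((u : X) * g) := by group
    have e2 : {v : ↥V // (MulAut.conjNormal g : MulAut ↥V) v = v ∧ (MulAut.conjNormal h : MulAut ↥V) v = v} ≃
        {v : ↥V // Commute g (v : X) ∧ Commute h (v : X)} := by
      apply Equiv.subtypeEquivRight
      intro v
      rw [Subtype.ext_iff, Subtype.ext_iff, MulAut.conjNormal_apply, MulAut.conjNormal_apply]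
      constructor
      · rintro ⟨h1, h2⟩
        exact ⟨mul_inv_eq_iff_eq_mul.mp h1, mul_inv_eq_iff_eq_mul.mp h2⟩
      · rintro ⟨h1, h2⟩
        exact ⟨mul_inv_eq_iff_eq_mul.mpr h1, mul_inv_eq_iff_eq_mul.mpr h2⟩
    rw [Nat.card_congr e1, hlc, Nat.card_congr e2]
  · rw [if_neg hgh]
    have : IsEmpty {p : ↥V × ↥V // Commute ((p.1 : X) * g) ((p.2 : X) * h)} :=
      ⟨fun p => hgh (commute_of_commute_mul V G hGV hg hh p.1.1 p.1.2 p.2)⟩
    exact Nat.card_of_isEmpty

/-- commuting pairs of `X` sorted by their `G`-components -/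
theorem comm_pairs_eq_sum (hGV : Subgroup.IsComplement' V G) [Fintype ↥G] :
    Nat.card {p : X × X // Commute p.1 p.2} =
      ∑ g : ↥G, ∑ h : ↥G, Nat.card {p : ↥V × ↥V // Commute ((p.1 : X) * g) ((p.2 : X) * h)} := by
  classical
  let e : ↥V × ↥G ≃ X := Equiv.ofBijective (fun p => (p.1 : X) * (p.2 : X)) hGV
  have e1 : {p : X × X // Commute p.1 p.2} ≃
      {q : (↥V × ↥G) × (↥V × ↥G) // Commute ((q.1.1 : X) * (q.1.2 : X)) ((q.2.1 : X) * (q.2.2 : X))} :=
    ((e.prodCongr e).subtypeEquiv (fun _ => Iff.rfl)).symm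
  have e2 : {q : (↥V × ↥G) × (↥V × ↥G) // Commute ((q.1.1 : X) * (q.1.2 : X)) ((q.2.1 : X) * (q.2.2 : X))} ≃
      Σ gh : ↥G × ↥G, {p : ↥V × ↥V // Commute ((p.1 : X) * gh.1) ((p.2 : X) * gh.2)} :=
    { toFun := fun q => ⟨(q.1.1.2, q.1.2.2), ⟨(q.1.1.1, q.1.2.1), q.2⟩⟩
      invFun := fun s => ⟨((s.2.1.1, s.1.1), (s.2.1.2, s.1.2)), s.2.2⟩
      left_inv := by rintro ⟨⟨⟨u, g⟩, ⟨w, h⟩⟩, hq⟩; rfl
      right_inv := by rintro ⟨⟨g, h⟩, ⟨⟨u, w⟩, hp⟩⟩; rfl }
  rw [Nat.card_congr e1, Nat.card_congr e2, Nat.card_sigma, Fintype.sum_prod_type]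

end partII



section partIII
variable {X : Type*} [Group X] [Finite X] (V : Subgroup X) [V.Normal] (G : Subgroup X)

/-- number of commuting pairs of elements of `G` centralizing `v` -/
noncomputable def F (v : X) : ℕ :=
  Nat.card {p : ↥G × ↥G // Commute (p.1 : X) v ∧ Commute (p.2 : X) v ∧ Commute (p.1 : X) (p.2 : X)}

theorem triple_sum [Fintype ↥G] [Fintype ↥V] [DecidableRel (fun a b : X => Commute a b)] :
    ∑ g : ↥G, ∑ h : ↥G, (if Commute (g : X) (h : X) then
        Nat.card V * Nat.card {v : ↥V // Commute (g : X) (v : X) ∧ Commute (h : X) (v : X)} else 0) =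
      Nat.card V * ∑ v : ↥V, F G (v : X) := by
  classical
  have hF : ∀ v : ↥V, F G (v : X) = ∑ g : ↥G, ∑ h : ↥G,
      if (Commute (g : X) (v : X) ∧ Commute (h : X) (v : X) ∧ Commute (g : X) (h : X)) then 1 else 0 := by
    intro v
    unfold F
    rw [Nat.card_eq_fintype_card, Fintype.card_subtype, Finset.card_filter, Fintype.sum_prod_type]
  have hK : ∀ g h : ↥G, Nat.card {v : ↥V // Commute (g : X) (v : X) ∧ Commute (h : X) (v : X)} =
      ∑ v : ↥V, if (Commute (g : X) (v : X) ∧ Commute (h : X) (v : X)) then 1 else 0 := by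
    intro g h
    rw [Nat.card_eq_fintype_card, Fintype.card_subtype, Finset.card_filter]
  have hterm : ∀ g h : ↥G, (if Commute (g : X) (h : X) then
        Nat.card V * Nat.card {v : ↥V // Commute (g : X) (v : X) ∧ Commute (h : X) (v : X)} else 0) =
      ∑ v : ↥V, Nat.card V *
        (if (Commute (g : X) (v : X) ∧ Commute (h : X) (v : X) ∧ Commute (g : X) (h : X)) then 1 else 0) := by
    intro g h
    by_cases hc : Commute (g : X) (h : X)
    · rw [if_pos hc, hK, Finset.mul_sum]
      apply Finset.sum_congr rfl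
      intro v _
      congr 1
      by_cases h1 : Commute (g : X) (v : X) ∧ Commute (h : X) (v : X)
      · rw [if_pos h1, if_pos ⟨h1.1, h1.2, hc⟩]
      · rw [if_neg h1, if_neg (fun h' => h1 ⟨h'.1, h'.2.1⟩)]
    · rw [if_neg hc]
      symm
      apply Finset.sum_eq_zero
      intro v _
      rw [if_neg (fun h' => hc h'.2.2), mul_zero]
  calc ∑ g : ↥G, ∑ h : ↥G, (if Commute (g : X) (h : X) then
        Nat.card V * Nat.card {v : ↥V // Commute (g : X) (v : X) ∧ Commute (h : X) (v : X)} else 0)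
      = ∑ g : ↥G, ∑ h : ↥G, ∑ v : ↥V, Nat.card V *
        (if (Commute (g : X) (v : X) ∧ Commute (h : X) (v : X) ∧ Commute (g : X) (h : X)) then 1 else 0) := by
        apply Finset.sum_congr rfl; intro g _
        apply Finset.sum_congr rfl; intro h _
        exact hterm g h
    _ = ∑ g : ↥G, ∑ v : ↥V, ∑ h : ↥G, Nat.card V *
        (if (Commute (g : X) (v : X) ∧ Commute (h : X) (v : X) ∧ Commute (g : X) (h : X)) then 1 else 0) := by
        apply Finset.sum_congr rfl; intro g _
        exact Finset.sum_comm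
    _ = ∑ v : ↥V, ∑ g : ↥G, ∑ h : ↥G, Nat.card V *
        (if (Commute (g : X) (v : X) ∧ Commute (h : X) (v : X) ∧ Commute (g : X) (h : X)) then 1 else 0) :=
        Finset.sum_comm
    _ = Nat.card V * ∑ v : ↥V, F G (v : X) := by
        rw [Finset.mul_sum]
        apply Finset.sum_congr rfl; intro v _
        rw [hF, Finset.mul_sum]
        apply Finset.sum_congr rfl; intro g _
        rw [Finset.mul_sum]

theorem F_conj {g : X} (hg : g ∈ G) (v : X) : F G (g * v * g⁻¹) = F G v := by
  unfold F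
  symm
  let c : ↥G ≃ ↥G := (MulAut.conj (⟨g, hg⟩ : ↥G)).toEquiv
  have hc : ∀ a : ↥G, ((c a : ↥G) : X) = g * (a : X) * g⁻¹ := fun a => rfl
  apply Nat.card_congr
  refine (c.prodCongr c).subtypeEquiv ?_
  rintro ⟨a, b⟩
  simp only [Equiv.prodCongr_apply, Prod.map, hc, Commute.conj_iff]

theorem F_eq (s : X) : F G s = Nat.card (ConjClasses ↥(G ⊓ Subgroup.centralizer ({s} : Set X))) *
    Nat.card ↥(G ⊓ Subgroup.centralizer ({s} : Set X)) := by
  rw [← card_comm_eq_card_conjClasses_mul_card]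
  unfold F
  apply Nat.card_congr
  exact
    { toFun := fun p =>
        ⟨(⟨(p.1.1 : X), Subgroup.mem_inf.mpr ⟨p.1.1.2, Subgroup.mem_centralizer_singleton_iff.mpr p.2.1⟩⟩,
          ⟨(p.1.2 : X), Subgroup.mem_inf.mpr ⟨p.1.2.2, Subgroup.mem_centralizer_singleton_iff.mpr p.2.2.1⟩⟩),
          Subtype.ext p.2.2.2⟩
      invFun := fun p =>
        ⟨(⟨(p.1.1 : X), (Subgroup.mem_inf.mp p.1.1.2).1⟩, ⟨(p.1.2 : X), (Subgroup.mem_inf.mp p.1.2.2).1⟩),
          Subgroup.mem_centralizer_singleton_iff.mp (Subgroup.mem_inf.mp p.1.1.2).2,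
          Subgroup.mem_centralizer_singleton_iff.mp (Subgroup.mem_inf.mp p.1.2.2).2,
          congrArg Subtype.val p.2⟩
      left_inv := fun p => rfl
      right_inv := fun p => rfl }

/-- orbit-stabilizer, by hand -/
theorem orbit_count [Fintype ↥V] {s : X} (hs : s ∈ V)
    [DecidablePred (fun v : ↥V => ∃ g ∈ G, g * (v : X) * g⁻¹ = s)] :
    ∑ v : ↥V, (if ∃ g ∈ G, g * (v : X) * g⁻¹ = s then
      Nat.card ↥(G ⊓ Subgroup.centralizer ({s} : Set X)) else 0) = Nat.card G := by
  classical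
  let f : ↥G → ↥V := fun g => ⟨(g : X)⁻¹ * s * ((g : X)⁻¹)⁻¹, Subgroup.Normal.conj_mem inferInstance s hs _⟩
  have hf : ∀ (g : ↥G) (v : ↥V), f g = v ↔ (g : X) * (v : X) * (g : X)⁻¹ = s := by
    intro g v
    rw [Subtype.ext_iff]
    show (g : X)⁻¹ * s * ((g : X)⁻¹)⁻¹ = (v : X) ↔ _
    constructor
    · intro h; rw [← h]; group
    · intro h; rw [← h]; group
  rw [← Nat.card_congr (Equiv.sigmaFiberEquiv f), Nat.card_sigma]
  apply Finset.sum_congr rfl
  intro v _
  by_cases hv : ∃ g ∈ G, g * (v : X) * g⁻¹ = s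
  · rw [if_pos hv]
    obtain ⟨g₀, hg₀, hg₀s⟩ := hv
    apply Nat.card_congr
    exact
      { toFun := fun a => ⟨⟨(a : X) * g₀, G.mul_mem (Subgroup.mem_inf.mp a.2).1 hg₀⟩, by
          rw [hf]
          have ha : (a : X) * s = s * (a : X) :=
            Subgroup.mem_centralizer_singleton_iff.mp (Subgroup.mem_inf.mp a.2).2
          show ((a : X) * g₀) * (v : X) * ((a : X) * g₀)⁻¹ = s
          calc ((a : X) * g₀) * (v : X) * ((a : X) * g₀)⁻¹ = (a : X) * (g₀ * (v : X) * g₀⁻¹) * (a : X)⁻¹ := by group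
            _ = (a : X) * s * (a : X)⁻¹ := by rw [hg₀s]
            _ = s := by rw [ha]; group⟩
        invFun := fun b => ⟨(b.1 : X) * g₀⁻¹, Subgroup.mem_inf.mpr ⟨G.mul_mem b.1.2 (G.inv_mem hg₀), by
          rw [Subgroup.mem_centralizer_singleton_iff]
          have hb : (b.1 : X) * (v : X) * (b.1 : X)⁻¹ = s := (hf b.1 v).mp b.2
          have hv' : (v : X) = g₀⁻¹ * s * g₀ := by rw [← hg₀s]; group
          have hb' : (b.1 : X) * g₀⁻¹ * s * g₀ * (b.1 : X)⁻¹ = s := by
            rw [hv'] at hb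
            calc (b.1 : X) * g₀⁻¹ * s * g₀ * (b.1 : X)⁻¹ = (b.1 : X) * (g₀⁻¹ * s * g₀) * (b.1 : X)⁻¹ := by group
              _ = s := hb
          calc (b.1 : X) * g₀⁻¹ * s = ((b.1 : X) * g₀⁻¹ * s * g₀ * (b.1 : X)⁻¹) * ((b.1 : X) * g₀⁻¹) := by group
            _ = s * ((b.1 : X) * g₀⁻¹) := by rw [hb']⟩⟩
        left_inv := by
          intro a
          apply Subtype.ext
          show (a : X) * g₀ * g₀⁻¹ = (a : X)
          group
        right_inv := by
          intro b
          apply Subtype.ext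
          apply Subtype.ext
          show (b.1 : X) * g₀⁻¹ * g₀ = (b.1 : X)
          group }
  · rw [if_neg hv]
    have : IsEmpty {g : ↥G // f g = v} := ⟨fun a => hv ⟨(a.1 : X), a.1.2, (hf a.1 v).mp a.2⟩⟩
    exact (Nat.card_of_isEmpty).symm

end partIII

/-- Let X be a finite group, V an abelian normal subgroup of X (any two elements of V commute) and G a complement to V in X whose order is coprime to that of V. Let S be a set of representatives of the orbits of G on V under conjugation: S lies in V and every element of V is conjugate under G to exactly one member of S. Then the number of conjugacy classes of X equals the sum, over s in S, of the number of conjugacy classes of the centralizer of s in G. -/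
theorem result {X : Type*} [Group X] [Finite X] (V : Subgroup X) [V.Normal] (hab : ∀ a ∈ V, ∀ b ∈ V, a * b = b * a) (G : Subgroup X) (hGV : Subgroup.IsComplement' V G) (hcop : (Nat.card V).Coprime (Nat.card G)) (S : Finset X) (hSV : ∀ s ∈ S, s ∈ V) (hrep : ∀ v ∈ V, ∃! s, s ∈ S ∧ ∃ g ∈ G, g * v * g⁻¹ = s) : Nat.card (ConjClasses X) = ∑ s ∈ S, Nat.card (ConjClasses ↥(G ⊓ Subgroup.centralizer ({s} : Set X))) := by
  classical
  haveI : Fintype ↥V := Fintype.ofFinite _
  haveI : Fintype ↥G := Fintype.ofFinite _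
  have hX := card_comm_eq_card_conjClasses_mul_card X
  have h1 := comm_pairs_eq_sum V G hGV
  have h2 : ∀ g h : ↥G, Nat.card {p : ↥V × ↥V // Commute ((p.1 : X) * g) ((p.2 : X) * h)} =
      if Commute (g : X) (h : X) then
        Nat.card V * Nat.card {v : ↥V // Commute (g : X) (v : X) ∧ Commute (h : X) (v : X)} else 0 :=
    fun g h => inner_count V G hab hGV hcop g.2 h.2
  rw [Finset.sum_congr rfl (fun g _ => Finset.sum_congr rfl (fun h _ => h2 g h)), triple_sum V G] at h1
  have h3 : ∑ v : ↥V, F G (v : X) =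
      Nat.card G * ∑ s ∈ S, Nat.card (ConjClasses ↥(G ⊓ Subgroup.centralizer ({s} : Set X))) := by
    have hv : ∀ v : ↥V, F G (v : X) =
        ∑ s ∈ S, if (∃ g ∈ G, g * (v : X) * g⁻¹ = s) then F G s else 0 := by
      intro v
      obtain ⟨s₀, ⟨hs₀S, g, hg, hgs⟩, huniq⟩ := hrep v v.2
      rw [Finset.sum_eq_single_of_mem s₀ hs₀S]
      · rw [if_pos ⟨g, hg, hgs⟩, ← hgs, F_conj G hg]
      · intro s hs hne
        rw [if_neg]
        intro hex
        exact hne (huniq s ⟨hs, hex⟩)
    rw [Finset.sum_congr rfl (fun v _ => hv v), Finset.sum_comm, Finset.mul_sum]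
    apply Finset.sum_congr rfl
    intro s hs
    rw [← orbit_count V G (hSV s hs), Finset.sum_mul]
    apply Finset.sum_congr rfl
    intro v _
    by_cases hex : ∃ g ∈ G, g * (v : X) * g⁻¹ = s
    · rw [if_pos hex, if_pos hex, F_eq, mul_comm]
    · rw [if_neg hex, if_neg hex, zero_mul]
  rw [h3, hX, ← hGV.card_mul_card] at h1
  have hpos : 0 < Nat.card V * Nat.card G := Nat.mul_pos Nat.card_pos Nat.card_pos
  apply Nat.eq_of_mul_eq_mul_right hpos
  rw [h1]
  ring

end Cfsg.Agent.S4956
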