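import Cfsg.Statements.S4958
import Cfsg.Agent.Lib.Helper25.KnD
import Cfsg.Agent.Lib.Helper25.KnG
import Cfsg.Agent.Lib.Helper25.KnH
-- import your own Cfsg.Agent.* helpers here

set_option autoImplicit false
open Cfsg

namespace Cfsg.Agent.S4958

open Cfsg.Agent.Lib.Helper25.Kn Cfsg.Agent.Lib.Helper9
open scoped IsMulCommutative ComplexConjugate

/-- Let X be a finite group and V a normal subgroup of X in which every element has order dividing the prime p, whose index in X is prime to p and which is its own centralizer in X; so V is an elementary abelian normal Sylow p-subgroup, and any complement G to V in X is a group of order prime to p acting faithfully on the vector space V by conjugation (the coprime linear setting of the k(GV) problem). Let G be a complement to V in X and suppose that for some v in V the centralizer of v in G is abelian. Then the number of conjugacy classes of X is at most the order of V (the abelian-stabilizer criterion for the k(GV) problem). -/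
theorem result {X : Type*} [Group X] [Finite X] (p : ℕ) [Fact p.Prime] (V : Subgroup X) [V.Normal] (hVexp : ∀ v ∈ V, v ^ p = 1) (hidx : ¬ p ∣ V.index) (hself : Subgroup.centralizer (V : Set X) = V) (G : Subgroup X) (hGV : Subgroup.IsComplement' V G) (v : X) (hv : v ∈ V) (hab : ∀ a ∈ G ⊓ Subgroup.centralizer ({v} : Set X), ∀ b ∈ G ⊓ Subgroup.centralizer ({v} : Set X), a * b = b * a) : Nat.card (ConjClasses X) ≤ Nat.card V := by
  classical
  have hp : p.Prime := Fact.out
  have hVab : ∀ a ∈ V, ∀ b ∈ V, a * b = b * a := by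
    intro a ha b hb
    have : a ∈ Subgroup.centralizer (V : Set X) := by rw [hself]; exact ha
    exact ((Subgroup.mem_centralizer_iff.mp this) b hb).symm
  have hvp : v ^ p = 1 := hVexp v hv
  haveI : IsMulCommutative ↥(G ⊓ Subgroup.centralizer ({v} : Set X)) :=
    ⟨⟨fun a b => Subtype.ext (hab a a.2 b b.2)⟩⟩
  haveI : IsMulCommutative ↥V := ⟨⟨fun a b => Subtype.ext (hVab a a.2 b b.2)⟩⟩
  have hCV : G ⊓ Subgroup.centralizer ({v} : Set X) ≤ Subgroup.normalizer (V : Set X) := by
    rw [Subgroup.normalizer_eq_top]; exact le_top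
  letI := conjMulDistribMulAction (G ⊓ Subgroup.centralizer ({v} : Set X)) V hCV
  have hsmul : ∀ (c : ↥(G ⊓ Subgroup.centralizer ({v} : Set X))) (u : ↥V),
      ((c • u : ↥V) : X) = (c : X) * (u : X) * (c : X)⁻¹ := fun _ _ => rfl
  -- coprimality
  have hcop : (Nat.card ↥(G ⊓ Subgroup.centralizer ({v} : Set X))).Coprime (Nat.card ↥V) := by
    have hpg : IsPGroup p ↥V := by
      intro u
      refine ⟨1, ?_⟩
      rw [pow_one]
      exact Subtype.ext (hVexp u u.2)
    obtain ⟨k, hk⟩ := hpg.exists_card_eq
    rw [hk]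
    apply Nat.Coprime.pow_right
    have h1 : Nat.card ↥(G ⊓ Subgroup.centralizer ({v} : Set X)) ∣ Nat.card G :=
      Subgroup.card_dvd_of_le inf_le_left
    have h2 : ¬ p ∣ Nat.card G := by rw [← hGV.symm.index_eq_card]; exact hidx
    exact ((Nat.Prime.coprime_iff_not_dvd hp).mpr (fun h => h2 (h.trans h1))).symm
  obtain ⟨B, _, r, lam, hr, hn, hs, hB⟩ :=
    hasKData_top (C := ↥(G ⊓ Subgroup.centralizer ({v} : Set X))) (V := ↥V) p hp
      (fun u => Subtype.ext (hVexp u u.2)) hcop
  -- faithfulness
  have hfaith : ∀ c : ↥(G ⊓ Subgroup.centralizer ({v} : Set X)), (∀ w : ↥V, c • w = w) → c = 1 := by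
    intro c hc
    have h1 : (c : X) ∈ Subgroup.centralizer (V : Set X) := by
      rw [Subgroup.mem_centralizer_iff]
      intro u hu
      have h2 := congrArg Subtype.val (hc ⟨u, hu⟩)
      rw [hsmul] at h2
      have h3 : (c : X) * u = u * (c : X) := by
        calc (c : X) * u = ((c : X) * u * (c : X)⁻¹) * (c : X) := by group
          _ = u * (c : X) := by rw [h2]
      exact h3.symm
    rw [hself] at h1
    have h4 : (c : X) ∈ V ⊓ G := ⟨h1, c.2.1⟩
    rw [hGV.disjoint.eq_bot, Subgroup.mem_bot] at h4
    exact Subtype.ext h4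
  -- the fixed points
  have hfix : ∀ c : ↥(G ⊓ Subgroup.centralizer ({v} : Set X)),
      Nat.card ↥((⊤ : Subgroup ↥V) ⊓ fixSub ↥V c) =
        Nat.card ↥(V ⊓ Subgroup.centralizer ({(c : X)} : Set X)) := by
    intro c
    rw [top_inf_eq]
    refine Nat.card_congr ⟨fun u => ⟨(u : ↥V), ⟨(u : ↥V).2, ?_⟩⟩, fun u => ⟨⟨(u : X), u.2.1⟩, ?_⟩, ?_, ?_⟩
    · change ((u : ↥V) : X) ∈ Subgroup.centralizer ({(c : X)} : Set X)
      rw [Subgroup.mem_centralizer_singleton_iff]
      have h2 := congrArg Subtype.val (mem_fixSub.mp u.2)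
      rw [hsmul] at h2
      calc ((u : ↥V) : X) * (c : X) = ((c : X) * ((u : ↥V) : X) * (c : X)⁻¹) * (c : X) := by rw [h2]
        _ = (c : X) * ((u : ↥V) : X) := by group
    · rw [mem_fixSub]
      apply Subtype.ext
      rw [hsmul]
      have h2 : (u : X) * (c : X) = (c : X) * (u : X) := Subgroup.mem_centralizer_singleton_iff.mp u.2.2
      calc (c : X) * (u : X) * (c : X)⁻¹ = ((u : X) * (c : X)) * (c : X)⁻¹ := by rw [h2]
        _ = (u : X) := by group
    · intro u; rfl
    · intro u; rfl
  apply knorr_core p V hVab hidx v hvp (G ⊓ Subgroup.centralizer ({v} : Set X)) hab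
    (fun c hc => Subgroup.mem_centralizer_singleton_iff.mp hc.2) B r lam hr
    (fun c => Nat.card ↥(V ⊓ Subgroup.centralizer ({(c : X)} : Set X)))
  · intro t ht c
    have := hn t ht c
    rw [hfix c, Subgroup.card_top] at this
    exact this
  · intro φ
    exact card_fiber B lam hs hfaith φ
  · exact hB
  · intro t ht c c' hconj
    exact Subtype.ext (eq_of_isConj V G hGV hVab hp hidx hv hvp hab ht c.2 c'.2 hconj)
  · intro t ht c
    exact card_centralizer_mul V G hGV hVab hp hidx hv hvp hab ht c.2

end Cfsg.Agent.S4958
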