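import Cfsg.Statements.S4965
import Mathlib

set_option autoImplicit false
open Cfsg

namespace Cfsg.Agent.S4965

section lifts
variable {X : Type*} [Group X] (V : Subgroup X) [V.Normal]

open scoped Classical in
/-- a chosen commuting lift of a pair of elements of the quotient, when there is one -/
noncomputable def liftPair (qr : (X ⧸ V) × (X ⧸ V)) : X × X :=
  if h : ∃ p : X × X, Commute p.1 p.2 ∧ (p.1 : X ⧸ V) = qr.1 ∧ (p.2 : X ⧸ V) = qr.2 then h.choose else (1, 1)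

theorem liftPair_spec {x y : X} (h : Commute x y) :
    Commute (liftPair V ((x : X ⧸ V), (y : X ⧸ V))).1 (liftPair V ((x : X ⧸ V), (y : X ⧸ V))).2 ∧
      (((liftPair V ((x : X ⧸ V), (y : X ⧸ V))).1 : X) : X ⧸ V) = (x : X ⧸ V) ∧
      (((liftPair V ((x : X ⧸ V), (y : X ⧸ V))).2 : X) : X ⧸ V) = (y : X ⧸ V) := by
  classical
  have hex : ∃ p : X × X, Commute p.1 p.2 ∧ (p.1 : X ⧸ V) = ((x : X ⧸ V), (y : X ⧸ V)).1 ∧
      (p.2 : X ⧸ V) = ((x : X ⧸ V), (y : X ⧸ V)).2 := ⟨(x, y), h, rfl, rfl⟩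
  unfold liftPair
  rw [dif_pos hex]
  exact hex.choose_spec

theorem mul_inv_mem_of_mk_eq {x x₁ : X} (h : (x₁ : X ⧸ V) = (x : X ⧸ V)) : x * x₁⁻¹ ∈ V := by
  rw [← QuotientGroup.eq_one_iff, QuotientGroup.mk_mul, QuotientGroup.mk_inv, h, mul_inv_cancel]

end lifts

/-- Let X be a finite group with an abelian normal subgroup V (any two elements of V commute), and let φ be the action of X ⧸ V on V induced by conjugation (well defined because V is abelian; the hypothesis hφ says that the class of x acts as conjugation by x). Then X has at most as many conjugacy classes as the semidirect product of V by X ⧸ V formed with this action: the split extension has the largest class number among extensions with the given action. -/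
theorem result {X : Type*} [Group X] [Finite X] (V : Subgroup X) [V.Normal] (hab : ∀ a ∈ V, ∀ b ∈ V, a * b = b * a) (φ : X ⧸ V →* MulAut ↥V) (hφ : ∀ (x : X) (v : ↥V), ((φ (QuotientGroup.mk x) v : ↥V) : X) = x * v * x⁻¹) : Nat.card (ConjClasses X) ≤ Nat.card (ConjClasses (SemidirectProduct ↥V (X ⧸ V) φ)) := by
  classical
  haveI : Finite (SemidirectProduct ↥V (X ⧸ V) φ) := Finite.of_equiv _ SemidirectProduct.equivProd.symm
  have hX := card_comm_eq_card_conjClasses_mul_card X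
  have hS := card_comm_eq_card_conjClasses_mul_card (SemidirectProduct ↥V (X ⧸ V) φ)
  have hcard : Nat.card (SemidirectProduct ↥V (X ⧸ V) φ) = Nat.card X := by
    rw [Nat.card_congr SemidirectProduct.equivProd, Nat.card_prod,
      Subgroup.card_eq_card_quotient_mul_card_subgroup V, mul_comm]
  -- the key commutation computation
  have hkey : ∀ (x y : X) (hxy : Commute x y) (x₁ y₁ : X) (h₁ : Commute x₁ y₁)
      (hx : (x₁ : X ⧸ V) = (x : X ⧸ V)) (hy : (y₁ : X ⧸ V) = (y : X ⧸ V)),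
      Commute (⟨⟨x * x₁⁻¹, mul_inv_mem_of_mk_eq V hx⟩, (x : X ⧸ V)⟩ : SemidirectProduct ↥V (X ⧸ V) φ)
        ⟨⟨y * y₁⁻¹, mul_inv_mem_of_mk_eq V hy⟩, (y : X ⧸ V)⟩ := by
    intro x y hxy x₁ y₁ h₁ hx hy
    have hxy' : x * y = y * x := hxy
    have h₁' : x₁ * y₁ = y₁ * x₁ := h₁
    have h₁'' : y₁⁻¹ * x₁⁻¹ = x₁⁻¹ * y₁⁻¹ := by rw [← mul_inv_rev, ← mul_inv_rev, h₁']
    show (_ : SemidirectProduct ↥V (X ⧸ V) φ) * _ = _ * _
    apply SemidirectProduct.ext
    · rw [SemidirectProduct.mul_left, SemidirectProduct.mul_left]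
      apply Subtype.ext
      rw [Subgroup.coe_mul, Subgroup.coe_mul]
      show (x * x₁⁻¹) * ((φ (x : X ⧸ V) ⟨y * y₁⁻¹, _⟩ : ↥V) : X) =
        (y * y₁⁻¹) * ((φ (y : X ⧸ V) ⟨x * x₁⁻¹, _⟩ : ↥V) : X)
      rw [← hx, ← hy, hφ, hφ]
      show x * x₁⁻¹ * (x₁ * (y * y₁⁻¹) * x₁⁻¹) = y * y₁⁻¹ * (y₁ * (x * x₁⁻¹) * y₁⁻¹)
      calc x * x₁⁻¹ * (x₁ * (y * y₁⁻¹) * x₁⁻¹) = (x * y) * (y₁⁻¹ * x₁⁻¹) := by group
        _ = (y * x) * (x₁⁻¹ * y₁⁻¹) := by rw [hxy', h₁'']
        _ = y * y₁⁻¹ * (y₁ * (x * x₁⁻¹) * y₁⁻¹) := by group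
    · rw [SemidirectProduct.mul_right, SemidirectProduct.mul_right]
      show (x : X ⧸ V) * (y : X ⧸ V) = (y : X ⧸ V) * (x : X ⧸ V)
      rw [← QuotientGroup.mk_mul, ← QuotientGroup.mk_mul, hxy']
  let f : {p : X × X // Commute p.1 p.2} →
      {p : SemidirectProduct ↥V (X ⧸ V) φ × SemidirectProduct ↥V (X ⧸ V) φ // Commute p.1 p.2} := fun p =>
    ⟨(⟨⟨p.1.1 * (liftPair V ((p.1.1 : X ⧸ V), (p.1.2 : X ⧸ V))).1⁻¹,
          mul_inv_mem_of_mk_eq V (liftPair_spec V p.2).2.1⟩, (p.1.1 : X ⧸ V)⟩,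
      ⟨⟨p.1.2 * (liftPair V ((p.1.1 : X ⧸ V), (p.1.2 : X ⧸ V))).2⁻¹,
          mul_inv_mem_of_mk_eq V (liftPair_spec V p.2).2.2⟩, (p.1.2 : X ⧸ V)⟩),
      hkey p.1.1 p.1.2 p.2 _ _ (liftPair_spec V p.2).1 (liftPair_spec V p.2).2.1 (liftPair_spec V p.2).2.2⟩
  have hf : Function.Injective f := by
    rintro ⟨⟨x, y⟩, hxy⟩ ⟨⟨x', y'⟩, hxy'⟩ h
    have h1 := congrArg (fun t => t.1.1) h
    have h2 := congrArg (fun t => t.1.2) h
    simp only [f] at h1 h2
    have hq : (x : X ⧸ V) = (x' : X ⧸ V) := congrArg SemidirectProduct.right h1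
    have hr : (y : X ⧸ V) = (y' : X ⧸ V) := congrArg SemidirectProduct.right h2
    have hl1 := congrArg (fun t => ((SemidirectProduct.left t : ↥V) : X)) h1
    have hl2 := congrArg (fun t => ((SemidirectProduct.left t : ↥V) : X)) h2
    simp only at hl1 hl2
    rw [hq, hr] at hl1 hl2
    have hx : x = x' := mul_right_cancel hl1
    have hy : y = y' := mul_right_cancel hl2
    subst hx; subst hy
    rfl
  have hle := Nat.card_le_card_of_injective f hf
  rw [hX, hS, hcard] at hle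
  exact Nat.le_of_mul_le_mul_right hle Nat.card_pos

end Cfsg.Agent.S4965
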