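import Cfsg.Statements.S4967
import Cfsg.Agent.Lib.Helper25.AbelIrr
-- import your own Cfsg.Agent.* helpers here

set_option autoImplicit false
open Cfsg Cfsg.Agent.Lib.Helper25

namespace Cfsg.Agent.S4967

/-- Let F be a finite field with r elements and of characteristic p, H a finite abelian group of order prime to p, and V a faithful irreducible representation of H over F of dimension n (faithful: distinct elements act differently; irreducible: the only H-invariant subspaces are 0 and V). Call V self-dual when it carries a nondegenerate H-invariant bilinear form. If n = 1 and V is self-dual then H has order at most 2. If n ≥ 2 then V is self-dual if and only if n is even and the order of H divides r^(n/2) + 1. -/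
theorem result {F : Type*} [Field F] [Fintype F] (p : ℕ) [Fact p.Prime] [CharP F p] {H : Type*} [CommGroup H] [Finite H] (hcop : ¬ p ∣ Nat.card H) {V : Type*} [AddCommGroup V] [Module F V] [FiniteDimensional F V] (ρ : Representation F H V) (hfaith : Function.Injective ρ) (hirr : ∀ U : Submodule F V, (∀ h : H, ∀ u ∈ U, ρ h u ∈ U) → U = ⊥ ∨ U = ⊤) : (Module.finrank F V = 1 → (∃ B : LinearMap.BilinForm F V, B.Nondegenerate ∧ ∀ h : H, ∀ x y : V, B (ρ h x) (ρ h y) = B x y) → Nat.card H ≤ 2) ∧ (2 ≤ Module.finrank F V → ((∃ B : LinearMap.BilinForm F V, B.Nondegenerate ∧ ∀ h : H, ∀ x y : V, B (ρ h x) (ρ h y) = B x y) ↔ (Even (Module.finrank F V) ∧ Nat.card H ∣ Fintype.card F ^ (Module.finrank F V / 2) + 1))) := by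
  classical
  refine ⟨?_, ?_⟩
  · -- dimension one
    rintro h1 ⟨B, hB, hinv⟩
    obtain ⟨v₀, hv₀, hv⟩ := finrank_eq_one_iff'.1 h1
    choose c hc using fun h => hv (ρ h v₀)
    have hB0 : B v₀ v₀ ≠ 0 := by
      intro h0
      apply hv₀
      apply hB.1
      intro y
      obtain ⟨d, rfl⟩ := hv y
      rw [map_smul, h0, smul_zero]
    have hc2 : ∀ h, c h * c h = 1 := by
      intro h
      have := hinv h v₀ v₀
      rw [← hc h, map_smul, map_smul, LinearMap.smul_apply, smul_eq_mul, smul_eq_mul,
        ← mul_assoc] at this
      exact mul_right_cancel₀ hB0 (this.trans (one_mul _).symm)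
    have hcinj : Function.Injective c := by
      intro h h' hh
      apply hfaith
      apply LinearMap.ext
      intro w
      obtain ⟨d, rfl⟩ := hv w
      rw [map_smul, map_smul, ← hc h, ← hc h', hh]
    have : Fintype H := Fintype.ofFinite H
    rw [Nat.card_eq_fintype_card]
    calc Fintype.card H = (Finset.univ.image c).card :=
          (Finset.card_image_of_injective _ hcinj).symm
      _ ≤ ({1, -1} : Finset F).card := Finset.card_le_card (by
          intro x hx
          obtain ⟨h, -, rfl⟩ := Finset.mem_image.1 hx
          rcases mul_self_eq_one_iff.1 (hc2 h) with h1 | h1 <;> simp [h1])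
      _ ≤ 2 := Finset.card_le_two
  · intro hn
    have : Nontrivial V := Module.nontrivial_of_finrank_pos (R := F) (by omega)
    obtain ⟨I, hI, e, he⟩ := AbelIrr.exists_model ρ hirr
    haveI := hI
    letI : Field (MonoidAlgebra F H ⧸ I) := Ideal.Quotient.field I
    obtain ⟨ζ, hζ⟩ : ∃ ζ : H →* (MonoidAlgebra F H ⧸ I),
        ∀ h, ζ h = Ideal.Quotient.mk I (MonoidAlgebra.of F H h) :=
      ⟨(Ideal.Quotient.mk I).toMonoidHom.comp (MonoidAlgebra.of F H), fun h => rfl⟩
    have he' : ∀ h v, e (ρ h v) = ζ h * e v := fun h v => by rw [hζ, he]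
    have hes : ∀ h x, e.symm (ζ h * x) = ρ h (e.symm x) := by
      intro h x
      apply e.injective
      rw [he', e.apply_symm_apply, e.apply_symm_apply]
    have hinjζ : Function.Injective ζ := by
      intro h h' hh
      apply hfaith
      apply LinearMap.ext
      intro v
      apply e.injective
      rw [he', he', hh]
    have hspan : Submodule.span F (Set.range ζ) = ⊤ := by
      rw [eq_top_iff]
      rintro x -
      obtain ⟨a, rfl⟩ := Ideal.Quotient.mk_surjective x
      induction a using MonoidAlgebra.induction_on with
      | of g => rw [← hζ]; exact Submodule.subset_span ⟨g, rfl⟩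
      | add a b ha hb => rw [map_add]; exact Submodule.add_mem _ ha hb
      | smul r a ha =>
        have : Ideal.Quotient.mk I (r • a) = r • Ideal.Quotient.mk I a := rfl
        rw [this]
        exact Submodule.smul_mem _ r ha
    have hfin : Module.Finite F (MonoidAlgebra F H ⧸ I) := Module.Finite.equiv e
    have hfinE : Finite (MonoidAlgebra F H ⧸ I) := Module.finite_of_finite F
    have hrank : Module.finrank F (MonoidAlgebra F H ⧸ I) = Module.finrank F V :=
      e.finrank_eq.symm
    constructor
    · rintro ⟨B, hB, hinv⟩
      have := AbelIrr.forward ζ hinjζ hspan (by rw [hrank]; exact hn)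
        (LinearMap.BilinForm.congr e B) (hB.congr e) (fun h x y => by
          rw [LinearMap.BilinForm.congr_apply, LinearMap.BilinForm.congr_apply, hes, hes, hinv])
      rwa [hrank] at this
    · rintro ⟨⟨j, hj⟩, hdvd⟩
      have hdiv : Module.finrank F V / 2 = j := by omega
      rw [hdiv] at hdvd
      obtain ⟨B, hB, hinv⟩ := AbelIrr.backward (F := F) ζ j hdvd
      refine ⟨LinearMap.BilinForm.congr e.symm B, hB.congr e.symm, fun h x y => ?_⟩
      rw [LinearMap.BilinForm.congr_apply, LinearMap.BilinForm.congr_apply]
      simp only [LinearEquiv.symm_symm]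
      rw [he', he', hinv]

end Cfsg.Agent.S4967
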