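import Cfsg.Statements.S4969
import Cfsg.Agent.Lib.Lead.CharMain

set_option autoImplicit false
open Cfsg

namespace Cfsg.Agent.S4969

open Cfsg.Agent.CharLib
open scoped ComplexConjugate


/-- Let G be a finite group with k conjugacy classes, g ∈ G, and N > 0. Then the sum over the irreducible complex characters χ of G with χ(1) ≥ N of |χ(g)|/χ(1) is at most √(k · #C_G(g)) / N. -/
theorem result {G : Type*} [Group G] [Finite G] (g : G) (N : ℝ) (hN : 0 < N) :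
    ∑ᶠ χ : Cfsg.IrrCharacter G, (if N ≤ ‖(χ : G → ℂ) 1‖ then ‖(χ : G → ℂ) g‖ / ‖(χ : G → ℂ) 1‖ else 0) ≤
      Real.sqrt ((Nat.card (ConjClasses G) : ℝ) * (Nat.card ↥(Subgroup.centralizer ({g} : Set G)) : ℝ)) / N := by
  classical
  let _ := Fintype.ofFinite G
  let _ := fintypeIrr G
  rw [finsum_eq_sum_of_fintype]
  have h1 : ∀ χ : IrrCharacter G, (if N ≤ ‖(χ : G → ℂ) 1‖ then ‖(χ : G → ℂ) g‖ / ‖(χ : G → ℂ) 1‖
      else 0) ≤ ‖(χ : G → ℂ) g‖ / N := by
    intro χ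
    split_ifs with h
    · exact div_le_div_of_nonneg_left (norm_nonneg _) hN h
    · exact div_nonneg (norm_nonneg _) hN.le
  have h2 : ∑ χ : IrrCharacter G, ‖(χ : G → ℂ) g‖ ^ 2
      = (Nat.card ↥(Subgroup.centralizer ({g} : Set G)) : ℝ) := by
    have h := sum_irr_mul_conj g g
    have hci : classIndicator g g = 1 := by
      simp only [classIndicator]
      rw [if_pos (IsConj.refl g)]
    rw [hci, one_mul] at h
    have e : ∀ χ : IrrCharacter G, (χ : G → ℂ) g * conj ((χ : G → ℂ) g)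
        = ((‖(χ : G → ℂ) g‖ ^ 2 : ℝ) : ℂ) := by
      intro χ
      rw [Complex.mul_conj, Complex.normSq_eq_norm_sq]
    simp_rw [e] at h
    exact_mod_cast h
  have h3 : (∑ χ : IrrCharacter G, ‖(χ : G → ℂ) g‖) ^ 2 ≤ (Nat.card (ConjClasses G) : ℝ) *
      (Nat.card ↥(Subgroup.centralizer ({g} : Set G)) : ℝ) := by
    have h := sq_sum_le_card_mul_sum_sq (s := Finset.univ)
      (f := fun χ : IrrCharacter G => ‖(χ : G → ℂ) g‖)
    rw [h2, Finset.card_univ, ← Nat.card_eq_fintype_card, card_irrCharacter] at h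
    exact h
  have h4 : ∑ χ : IrrCharacter G, ‖(χ : G → ℂ) g‖ ≤ Real.sqrt ((Nat.card (ConjClasses G) : ℝ) *
      (Nat.card ↥(Subgroup.centralizer ({g} : Set G)) : ℝ)) :=
    Real.le_sqrt_of_sq_le h3
  calc ∑ χ : IrrCharacter G, (if N ≤ ‖(χ : G → ℂ) 1‖ then ‖(χ : G → ℂ) g‖ / ‖(χ : G → ℂ) 1‖ else 0)
      ≤ ∑ χ : IrrCharacter G, ‖(χ : G → ℂ) g‖ / N := Finset.sum_le_sum (fun χ _ => h1 χ)
    _ = (∑ χ : IrrCharacter G, ‖(χ : G → ℂ) g‖) / N := by rw [Finset.sum_div]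
    _ ≤ _ := div_le_div_of_nonneg_right h4 hN.le

end Cfsg.Agent.S4969
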