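import Cfsg.Statements.S4989
import Cfsg.Agent.Lib.Lead.CharMain
import Cfsg.Agent.Lib.Helper10.IrrOrtho
import Cfsg.Agent.Lib.Helper24.GaloisNorm

set_option autoImplicit false
open Cfsg

namespace Cfsg.Agent.S4989

open Cfsg Cfsg.Agent.CharLib in
open scoped ComplexConjugate in

/-- Let H be a subgroup of the finite group G and χ an irreducible complex character of G. Then the inner product of the restriction of χ to H with itself, (1/#H)·Σ_{h ∈ H} |χ(h)|², is at most 1 + #(Z ∖ H)/#H, where Z is the set of zeros of χ in G. -/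
theorem result {G : Type*} [Group G] [Finite G] (H : Subgroup G) (χ : Cfsg.IrrCharacter G) : (Nat.card ↥H : ℝ)⁻¹ * ∑ᶠ h : ↥H, ‖(χ : G → ℂ) h‖ ^ 2 ≤ 1 + (Set.ncard ({x : G | (χ : G → ℂ) x = 0} \ (H : Set G)) : ℝ) / (Nat.card ↥H : ℝ) := by
  classical
  haveI : Fintype G := Fintype.ofFinite G
  haveI : Fintype H := Fintype.ofFinite H
  obtain ⟨m, ρ, hirr, hρ⟩ := χ.2
  set f : G → ℂ := (χ : G → ℂ) with hf
  set n := Nat.card G with hn
  haveI : NeZero n := ⟨Nat.card_pos.ne'⟩
  -- first orthogonality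
  have h1 : ∑ x : G, ‖f x‖ ^ 2 = (n : ℝ) := by
    have h := Cfsg.Agent.Lib.Helper10.classInner_irr_self χ.2
    unfold classInner at h
    have hG : (Nat.card G : ℂ) ≠ 0 := by exact_mod_cast Nat.card_pos.ne'
    rw [inv_mul_eq_iff_eq_mul₀ hG, mul_one] at h
    have h2 : ∀ x : G, f x * conj (f x) = ((‖f x‖ ^ 2 : ℝ) : ℂ) := by
      intro x
      rw [Complex.mul_conj, Complex.normSq_eq_norm_sq]
    rw [Finset.sum_congr rfl (fun x _ => h2 x), ← Complex.ofReal_sum] at h
    exact_mod_cast h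
  -- power maps
  have hpow : ∀ (k : (ZMod n)ˣ) (x : G),
      (x ^ (k : ZMod n).val) ^ ((k⁻¹ : (ZMod n)ˣ) : ZMod n).val = x := by
    intro k x
    rw [← pow_mul, ← pow_mod_natCard, ← hn, ← ZMod.val_mul, ← Units.val_mul, mul_inv_cancel,
      Units.val_one, ZMod.val_one_eq_one_mod, hn, pow_mod_natCard, pow_one]
  set F : G → ℝ := fun x => if f x = 0 then 0 else ‖f x‖ ^ 2 - 1 with hF
  have hlem : ∀ x : G, f x ≠ 0 → (∀ k : (ZMod n)ˣ, f (x ^ (k : ZMod n).val) ≠ 0) ∧
      0 ≤ ∑ k : (ZMod n)ˣ, (‖f (x ^ (k : ZMod n).val)‖ ^ 2 - 1) := by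
    intro x hx
    have := Cfsg.Agent.Lib.Helper24.char_pow_units_sum_nonneg ρ x n (pow_card_eq_one') (by rw [hρ]; exact hx)
    rw [hρ] at this
    exact this
  have hkey : ∀ x : G, 0 ≤ ∑ k : (ZMod n)ˣ, F (x ^ (k : ZMod n).val) := by
    intro x
    by_cases hx : f x = 0
    · apply Finset.sum_nonneg
      intro k _
      have : f (x ^ (k : ZMod n).val) = 0 := by
        by_contra hne
        have := (hlem _ hne).1 k⁻¹
        rw [hpow] at this
        exact this hx
      simp only [hF, this, if_true, le_refl]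
    · obtain ⟨h2, h3⟩ := hlem x hx
      have : ∀ k : (ZMod n)ˣ, F (x ^ (k : ZMod n).val) = ‖f (x ^ (k : ZMod n).val)‖ ^ 2 - 1 := by
        intro k
        simp only [hF, h2 k, if_false]
      rw [Finset.sum_congr rfl (fun k _ => this k)]
      exact h3
  have hswap : ∀ k : (ZMod n)ˣ, ∑ x ∈ Finset.univ.filter (fun x : G => x ∉ H), F (x ^ (k : ZMod n).val) =
      ∑ x ∈ Finset.univ.filter (fun x : G => x ∉ H), F x := by
    intro k
    let e : G ≃ G := ⟨fun x => x ^ (k : ZMod n).val, fun x => x ^ ((k⁻¹ : (ZMod n)ˣ) : ZMod n).val,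
      fun x => hpow k x, fun x => by have := hpow k⁻¹ x; rwa [inv_inv] at this⟩
    apply Finset.sum_equiv e
    · intro x
      simp only [Finset.mem_filter, Finset.mem_univ, true_and]
      constructor
      · intro hx hx'
        apply hx
        have := H.pow_mem hx' ((k⁻¹ : (ZMod n)ˣ) : ZMod n).val
        have h5 : e x = x ^ (k : ZMod n).val := rfl
        rw [h5, hpow] at this
        exact this
      · intro hx hx'
        exact hx (H.pow_mem hx' _)
    · intro x _
      rfl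
  have hFsum : 0 ≤ ∑ x ∈ Finset.univ.filter (fun x : G => x ∉ H), F x := by
    have h2 : 0 ≤ ∑ x ∈ Finset.univ.filter (fun x : G => x ∉ H), ∑ k : (ZMod n)ˣ, F (x ^ (k : ZMod n).val) :=
      Finset.sum_nonneg (fun x _ => hkey x)
    rw [Finset.sum_comm, Finset.sum_congr rfl (fun k _ => hswap k), Finset.sum_const, nsmul_eq_mul] at h2
    have h3 : (0 : ℝ) < ((Finset.univ : Finset (ZMod n)ˣ).card : ℝ) := by
      exact_mod_cast Finset.card_pos.mpr ⟨1, Finset.mem_univ _⟩
    exact nonneg_of_mul_nonneg_right h2 h3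
  -- counting
  have hB : ((Finset.univ.filter (fun x : G => x ∉ H ∧ f x ≠ 0)).card : ℝ) ≤
      ∑ x ∈ Finset.univ.filter (fun x : G => x ∉ H), ‖f x‖ ^ 2 := by
    have h2 : ∀ x : G, ‖f x‖ ^ 2 = F x + (if f x ≠ 0 then 1 else 0) := by
      intro x
      by_cases hx : f x = 0
      · simp [hF, hx]
      · simp [hF, hx]
    rw [Finset.sum_congr rfl (fun x _ => h2 x), Finset.sum_add_distrib]
    have h3 : ∑ x ∈ Finset.univ.filter (fun x : G => x ∉ H), (if f x ≠ 0 then (1 : ℝ) else 0) =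
        ((Finset.univ.filter (fun x : G => x ∉ H ∧ f x ≠ 0)).card : ℝ) := by
      rw [← Finset.sum_filter, Finset.filter_filter, Finset.sum_const, nsmul_eq_mul, mul_one]
    rw [h3]
    linarith
  have hsplit : ∑ x ∈ Finset.univ.filter (fun x : G => x ∈ H), ‖f x‖ ^ 2 +
      ∑ x ∈ Finset.univ.filter (fun x : G => x ∉ H), ‖f x‖ ^ 2 = (n : ℝ) := by
    rw [Finset.sum_filter_add_sum_filter_not, h1]
  have hcount : (Finset.univ.filter (fun x : G => x ∈ H)).card +
      ((Finset.univ.filter (fun x : G => x ∉ H ∧ f x ≠ 0)).card +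
        (Finset.univ.filter (fun x : G => x ∉ H ∧ f x = 0)).card) = n := by
    have h2 := Finset.card_filter_add_card_filter_not (s := (Finset.univ : Finset G)) (fun x : G => x ∈ H)
    have h3 := Finset.card_filter_add_card_filter_not (s := Finset.univ.filter (fun x : G => x ∉ H))
      (fun x : G => f x ≠ 0)
    rw [Finset.filter_filter, Finset.filter_filter] at h3
    simp only [not_not] at h3
    rw [h3, h2, Finset.card_univ, hn, Nat.card_eq_fintype_card]
  have hHcard : (Finset.univ.filter (fun x : G => x ∈ H)).card = Nat.card H := by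
    rw [Nat.card_eq_fintype_card, Fintype.card_subtype]
  have hZ : Set.ncard ({x : G | f x = 0} \ (H : Set G)) =
      (Finset.univ.filter (fun x : G => x ∉ H ∧ f x = 0)).card := by
    rw [← Set.ncard_coe_finset]
    congr 1
    ext x
    simp [and_comm]
  have hsumH : ∑ᶠ h : ↥H, ‖f h‖ ^ 2 = ∑ x ∈ Finset.univ.filter (fun x : G => x ∈ H), ‖f x‖ ^ 2 := by
    rw [finsum_eq_sum_of_fintype]
    rw [← Finset.sum_subtype (Finset.univ.filter (fun x : G => x ∈ H)) (p := fun x => x ∈ H)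
      (fun x => by simp) (fun x => ‖f x‖ ^ 2)]
  rw [hsumH, hZ]
  have hHpos : (0 : ℝ) < (Nat.card H : ℝ) := by exact_mod_cast Nat.card_pos
  have hcountR : ((Finset.univ.filter (fun x : G => x ∈ H)).card : ℝ) +
      (((Finset.univ.filter (fun x : G => x ∉ H ∧ f x ≠ 0)).card : ℝ) +
        ((Finset.univ.filter (fun x : G => x ∉ H ∧ f x = 0)).card : ℝ)) = (n : ℝ) := by
    exact_mod_cast hcount
  rw [hHcard] at hcountR
  have hmain : ∑ x ∈ Finset.univ.filter (fun x : G => x ∈ H), ‖f x‖ ^ 2 ≤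
      (Nat.card H : ℝ) + ((Finset.univ.filter (fun x : G => x ∉ H ∧ f x = 0)).card : ℝ) := by
    linarith
  calc (Nat.card ↥H : ℝ)⁻¹ * ∑ x ∈ Finset.univ.filter (fun x : G => x ∈ H), ‖f x‖ ^ 2
      ≤ (Nat.card ↥H : ℝ)⁻¹ * ((Nat.card H : ℝ) +
          ((Finset.univ.filter (fun x : G => x ∉ H ∧ f x = 0)).card : ℝ)) :=
        mul_le_mul_of_nonneg_left hmain (inv_nonneg.mpr hHpos.le)
    _ = 1 + ((Finset.univ.filter (fun x : G => x ∉ H ∧ f x = 0)).card : ℝ) / (Nat.card ↥H : ℝ) := by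
        field_simp

end Cfsg.Agent.S4989
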