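import Cfsg.Statements.S4996
import Mathlib
import Cfsg.Agent.Lib.Helper23.BurnsideZero
import Cfsg.Agent.Lib.Helper6.Gallagher2
import Cfsg.Agent.Lib.Helper6.CharNorm
import Cfsg.Agent.Lib.Helper24.IrrFacts

set_option autoImplicit false
open Cfsg

namespace Cfsg.Agent.S4996

open Cfsg.Agent.CharLib Cfsg.Agent.Lib.Helper6 Cfsg.Agent.Lib.Helper23
open scoped ComplexConjugate

/-- Let N be a normal subgroup of the finite group G and χ an irreducible complex character of G. Then the restriction of χ to N is not irreducible if and only if χ vanishes on some whole coset Nx of N in G. -/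
theorem result {G : Type*} [Group G] [Finite G] (N : Subgroup G) [N.Normal] (χ : Cfsg.IrrCharacter G) : ¬ Cfsg.IsIrrCharacter ↥N (fun n : ↥N => (χ : G → ℂ) n) ↔ ∃ x : G, ∀ n : ↥N, (χ : G → ℂ) ((n : G) * x) = 0 := by
  classical
  letI : Fintype G := Fintype.ofFinite G
  letI : Fintype N := Fintype.ofFinite N
  have hχc : IsCharacter G χ.1 := IsIrrCharacter.isCharacter χ.2
  have hχcf : IsClassFunction G χ.1 := IsCharacter.isClassFunction hχc
  have hN0 : (Nat.card N : ℂ) ≠ 0 := by exact_mod_cast (Nat.card_pos (α := N)).ne'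
  have hG0 : (Nat.card G : ℂ) ≠ 0 := by exact_mod_cast (Nat.card_pos (α := G)).ne'
  set ψ : G → ℂ := avgMulConj N χ.1 χ.1 with hψ
  have hψval : ∀ g : G, ψ g =
      (((Nat.card N : ℝ)⁻¹ * ∑ n : N, ‖χ.1 ((n : G) * g)‖ ^ 2 : ℝ) : ℂ) := by
    intro g
    rw [hψ]
    unfold avgMulConj
    push_cast
    congr 1
    apply Finset.sum_congr rfl
    intro n _
    rw [Complex.mul_conj, Complex.normSq_eq_norm_sq]
    push_cast
    rfl
  constructor
  · intro hnirr
    -- ψ is a character
    have hψc : IsCharacter G ψ := by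
      apply isCharacter_of_classInner_nat (avgMulConj_isClassFunction N hχcf hχcf)
      intro γ
      rw [classInner_avgMulConj N χ.1 χ.1 γ.2]
      split_ifs
      · exact IsCharacter.classInner_nat hχc (IsCharacter.mul (IsIrrCharacter.isCharacter γ.2) hχc)
      · exact ⟨0, by simp⟩
    obtain ⟨n, ρ, hρ⟩ := hψc
    have hre : ∀ g : G, 0 ≤ (ρ.character g).re ∧ (ρ.character g).im = 0 := by
      intro g
      rw [hρ, hψval g]
      refine ⟨?_, Complex.ofReal_im _⟩
      rw [Complex.ofReal_re]
      apply mul_nonneg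
      · exact inv_nonneg.mpr (Nat.cast_nonneg _)
      · exact Finset.sum_nonneg (fun n _ => sq_nonneg _)
    have hnormχ : ∑ g : G, χ.1 g * conj (χ.1 g) = (Nat.card G : ℂ) := by
      have := classInner_irr χ.2 χ.2
      rw [if_pos rfl] at this
      simp only [classInner] at this
      field_simp at this
      linear_combination this
    have hsum : ∑ g : G, ρ.character g = (Nat.card G : ℂ) := by
      rw [hρ, hψ]
      unfold avgMulConj
      rw [← Finset.mul_sum, Finset.sum_comm]
      have h1 : ∀ m : N, ∑ g : G, χ.1 ((m : G) * g) * conj (χ.1 ((m : G) * g)) = (Nat.card G : ℂ) := by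
        intro m
        rw [← hnormχ]
        exact Equiv.sum_comp (Equiv.mulLeft (m : G)) (fun g => χ.1 g * conj (χ.1 g))
      rw [Finset.sum_congr rfl (fun m _ => h1 m), Finset.sum_const, Finset.card_univ, nsmul_eq_mul,
        ← Nat.card_eq_fintype_card]
      field_simp
    have hψ1 : ψ 1 = classInner (resFun N χ.1) (resFun N χ.1) := by
      rw [hψ]
      unfold avgMulConj classInner
      congr 1
      apply Finset.sum_congr rfl
      intro m _
      rw [mul_one]
      rfl
    have hdeg : 2 ≤ Module.finrank ℂ (Fin n → ℂ) := by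
      rw [Module.finrank_fin_fun]
      by_contra hlt
      have hψ1n : ψ 1 = (n : ℂ) := by
        rw [← hρ, Representation.char_one, Module.finrank_fin_fun]
      have hn : n = 0 ∨ n = 1 := by omega
      rcases hn with rfl | rfl
      · rw [hψ1, Nat.cast_zero] at hψ1n
        have h0 := classInner_self_eq_zero hψ1n
        have h1 := congrFun h0 1
        rw [resFun_apply, Pi.zero_apply] at h1
        exact Cfsg.Agent.Lib.Helper24.irr_apply_one_ne_zero χ h1
      · rw [hψ1, Nat.cast_one] at hψ1n
        exact hnirr (isIrrCharacter_of_classInner_self_eq_one (isCharacter_resFun N hχc) hψ1n)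
    obtain ⟨x, hx⟩ := exists_character_eq_zero_of_nonneg ρ hre
      (by intro inst; convert hsum) hdeg
    refine ⟨x, ?_⟩
    rw [hρ, hψval x] at hx
    have hx' : (Nat.card N : ℝ)⁻¹ * ∑ n : N, ‖χ.1 ((n : G) * x)‖ ^ 2 = 0 := by exact_mod_cast hx
    have hNr : (Nat.card N : ℝ)⁻¹ ≠ 0 := inv_ne_zero (by exact_mod_cast (Nat.card_pos (α := N)).ne')
    have hs : ∑ n : N, ‖χ.1 ((n : G) * x)‖ ^ 2 = 0 := by
      rcases mul_eq_zero.mp hx' with h | h
      · exact absurd h hNr
      · exact h
    intro m
    have := (Finset.sum_eq_zero_iff_of_nonneg (fun n _ => sq_nonneg _)).mp hs m (Finset.mem_univ _)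
    exact norm_eq_zero.mp ((pow_eq_zero_iff (two_ne_zero)).mp this)
  · rintro ⟨x, hx⟩ hirr
    have h1 := (gallagher_avg N χ.2 hirr χ.2).2.2 rfl
    have h2 : ψ x = 1 := by rw [hψ, h1]; rfl
    rw [hψval x] at h2
    have h3 : ∑ n : N, ‖χ.1 ((n : G) * x)‖ ^ 2 = 0 := by
      apply Finset.sum_eq_zero
      intro m _
      rw [hx m]
      simp
    rw [h3, mul_zero] at h2
    simp at h2

end Cfsg.Agent.S4996
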