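import Cfsg.Statements.S5011
-- import your own Cfsg.Agent.* helpers here

set_option autoImplicit false
open Cfsg

namespace Cfsg.Agent.S5011

/-- Let G be a finite non-abelian simple group and ρ an irreducible complex representation of G on a space of dimension greater than one (irreducible in the sense that the only subspaces invariant under every ρ(x) are 0 and the whole space). Then for every non-identity element g of G, the centralizer of g does not act irreducibly: there is a non-zero proper subspace invariant under ρ(c) for every c commuting with g. -/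
theorem result {G : Type*} [Group G] [Finite G] [IsSimpleGroup G]
    (hG : ¬ IsMulCommutative G) {V : Type*} [AddCommGroup V] [Module ℂ V] [FiniteDimensional ℂ V]
    (ρ : Representation ℂ G V)
    (hirr : ∀ W : Submodule ℂ V, (∀ x : G, ∀ v ∈ W, ρ x v ∈ W) → W = ⊥ ∨ W = ⊤)
    (hdim : 1 < Module.finrank ℂ V) (g : G) (hg : g ≠ 1) :
    ∃ W : Submodule ℂ V, W ≠ ⊥ ∧ W ≠ ⊤ ∧ ∀ c ∈ Subgroup.centralizer ({g} : Set G), ∀ v ∈ W, ρ c v ∈ W := by
  classical
  by_contra hcon
  push Not at hcon
  -- `hcon : ∀ W, W ≠ ⊥ → W ≠ ⊤ → ∃ c ∈ centralizer, ∃ v ∈ W, ρ c v ∉ W`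
  have hV : Nontrivial V := Module.nontrivial_of_finrank_pos (R := ℂ) (by omega)
  obtain ⟨μ, hμ⟩ := Module.End.exists_eigenvalue (K := ℂ) (ρ g)
  set E : Submodule ℂ V := Module.End.eigenspace (ρ g) μ with hE
  have hEbot : E ≠ ⊥ := hμ
  have hEinv : ∀ c ∈ Subgroup.centralizer ({g} : Set G), ∀ v ∈ E, ρ c v ∈ E := by
    intro c hc v hv
    rw [hE, Module.End.mem_eigenspace_iff] at hv ⊢
    have hcg : c * g = g * c := by
      rw [Subgroup.mem_centralizer_iff] at hc
      exact (hc g rfl).symm
    calc ρ g (ρ c v) = (ρ g * ρ c) v := rfl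
      _ = ρ (g * c) v := by rw [map_mul]
      _ = ρ (c * g) v := by rw [hcg]
      _ = (ρ c * ρ g) v := by rw [map_mul]
      _ = ρ c (ρ g v) := rfl
      _ = ρ c (μ • v) := by rw [hv]
      _ = μ • ρ c v := by rw [map_smul]
  have hEtop : E = ⊤ := by
    by_contra hne
    obtain ⟨c, hc, v, hv, hnot⟩ := hcon E hEbot hne
    exact hnot (hEinv c hc v hv)
  -- so `ρ g` is the scalar `μ`
  have hscal : ∀ v : V, ρ g v = μ • v := by
    intro v
    have : v ∈ E := by rw [hEtop]; exact Submodule.mem_top
    rwa [hE, Module.End.mem_eigenspace_iff] at this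
  -- commutators with `g` lie in the kernel of `ρ`
  have hker : ∀ x : G, g * x * g⁻¹ * x⁻¹ ∈ ρ.ker := by
    intro x
    rw [MonoidHom.mem_ker]
    have h1 : ρ (g * x) = ρ (x * g) := by
      apply LinearMap.ext
      intro v
      rw [map_mul, map_mul]
      change ρ g (ρ x v) = ρ x (ρ g v)
      rw [hscal, hscal, map_smul]
    have h2 : g * x * g⁻¹ * x⁻¹ = (g * x) * (x * g)⁻¹ := by group
    rw [h2, map_mul]
    have h3 : ρ (x * g) * ρ ((x * g)⁻¹) = 1 := by
      rw [← map_mul, mul_inv_cancel, map_one]
    rw [h1, h3]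
  have hkn : (ρ.ker).Normal := MonoidHom.normal_ker ρ
  rcases hkn.eq_bot_or_eq_top with hk | hk
  · -- `g` is central
    have hgc : g ∈ Subgroup.center G := by
      rw [Subgroup.mem_center_iff]
      intro x
      have := hker x
      rw [hk, Subgroup.mem_bot] at this
      have h4 : g * x * g⁻¹ * x⁻¹ * (x * g) = 1 * (x * g) := by rw [this]
      simpa [mul_assoc] using h4.symm
    have hcn : (Subgroup.center G).Normal := inferInstance
    rcases hcn.eq_bot_or_eq_top with hc | hc
    · rw [hc, Subgroup.mem_bot] at hgc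
      exact hg hgc
    · apply hG
      rw [isMulCommutative_iff]
      intro a b
      have : a ∈ Subgroup.center G := by rw [hc]; exact Subgroup.mem_top a
      rw [Subgroup.mem_center_iff] at this
      exact (this b).symm
  · -- `ρ` is trivial, so every subspace is invariant
    have htriv : ∀ x : G, ∀ v : V, ρ x v = v := by
      intro x v
      have : x ∈ ρ.ker := by rw [hk]; exact Subgroup.mem_top x
      rw [MonoidHom.mem_ker] at this
      rw [this]; rfl
    obtain ⟨v, hv⟩ := exists_ne (0 : V)
    have hW := hirr (Submodule.span ℂ {v}) (by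
      intro x w hw
      rw [htriv]; exact hw)
    rcases hW with hW | hW
    · apply hv
      have : v ∈ Submodule.span ℂ ({v} : Set V) := Submodule.mem_span_singleton_self v
      rw [hW] at this
      exact this
    · have h1 : Module.finrank ℂ (Submodule.span ℂ ({v} : Set V)) = 1 := finrank_span_singleton hv
      rw [hW, finrank_top] at h1
      omega

end Cfsg.Agent.S5011
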