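import Cfsg.Statements.S5015
import Cfsg.Agent.Lib.Helper25.RankOne
-- import your own Cfsg.Agent.* helpers here

set_option autoImplicit false
open Cfsg

namespace Cfsg.Agent.S5015

open Cfsg.Agent.Lib.Helper25

theorem exists_third {Ω : Type*} (hΩ : 3 ≤ ENat.card Ω) (α β : Ω) : ∃ δ : Ω, δ ≠ α ∧ δ ≠ β := by
  by_contra hcon
  push Not at hcon
  have h1 : (Set.univ : Set Ω) ⊆ {α, β} := by
    intro δ _
    by_cases h : δ = α
    · exact Or.inl h
    · exact Or.inr (hcon δ h)
  have h2 : (Set.univ : Set Ω).encard ≤ 2 := by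
    calc (Set.univ : Set Ω).encard ≤ ({α, β} : Set Ω).encard := Set.encard_le_encard h1
      _ ≤ ({β} : Set Ω).encard + 1 := Set.encard_insert_le _ _
      _ = 2 := by rw [Set.encard_singleton]; rfl
  rw [Set.encard_univ] at h2
  have : (3 : ℕ∞) ≤ 2 := hΩ.trans h2
  exact absurd this (by decide)

section
variable {Y Ω : Type*} [Group Y] [MulAction Y Ω] {α : Ω} {A : Subgroup Y}

/-- `conjBy A g` only depends on `g • α`. -/
theorem conjBy_eq_of_smul_eq (hAn : ∀ y ∈ MulAction.stabilizer Y α, Cfsg.conjBy A y = A)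
    {g g' : Y} (h : g • α = g' • α) : Cfsg.conjBy A g = Cfsg.conjBy A g' := by
  have h1 : g⁻¹ * g' ∈ MulAction.stabilizer Y α := by
    rw [MulAction.mem_stabilizer_iff, mul_smul, ← h, inv_smul_smul]
  have h2 : g' = g * (g⁻¹ * g') := by group
  rw [h2, conjBy_mul, hAn _ h1]

/-- A member of `A` fixing a point other than `α` is trivial. -/
theorem eq_one_of_fix (hreg : ∀ β γ : Ω, β ≠ α → γ ≠ α → ∃! a : Y, a ∈ A ∧ a • β = γ)
    {a : Y} (ha : a ∈ A) {δ : Ω} (hδ : δ ≠ α) (hfix : a • δ = δ) : a = 1 := by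
  obtain ⟨a₀, _, huniq⟩ := hreg δ δ hδ hδ
  rw [huniq a ⟨ha, hfix⟩, huniq 1 ⟨A.one_mem, one_smul _ _⟩]

/-- Members of `conjBy A g` fix `g • α`. -/
theorem conjBy_fix (hA : A ≤ MulAction.stabilizer Y α) {g x : Y} (hx : x ∈ Cfsg.conjBy A g) :
    x • (g • α) = g • α := by
  rw [mem_conjBy] at hx
  have := hA hx
  rw [MulAction.mem_stabilizer_iff, mul_smul, mul_smul] at this
  calc x • g • α = g • (g⁻¹ • x • g • α) := by rw [smul_inv_smul]
    _ = g • α := by rw [this]

/-- Regularity of the conjugate `conjBy A g` away from `g • α` (existence part). -/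
theorem conjBy_trans (hreg : ∀ β γ : Ω, β ≠ α → γ ≠ α → ∃! a : Y, a ∈ A ∧ a • β = γ)
    (g : Y) {β γ : Ω} (hβ : β ≠ g • α) (hγ : γ ≠ g • α) :
    ∃ b ∈ Cfsg.conjBy A g, b • β = γ := by
  have hβ' : g⁻¹ • β ≠ α := by
    intro h; apply hβ; rw [← h, smul_inv_smul]
  have hγ' : g⁻¹ • γ ≠ α := by
    intro h; apply hγ; rw [← h, smul_inv_smul]
  obtain ⟨a, ⟨ha, hab⟩, _⟩ := hreg _ _ hβ' hγ'
  refine ⟨g * a * g⁻¹, conj_mem_conjBy ha, ?_⟩
  rw [mul_smul, mul_smul, hab, smul_inv_smul]

/-- A member of `conjBy A g` fixing a point other than `g • α` is trivial. -/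
theorem conjBy_eq_one_of_fix (hreg : ∀ β γ : Ω, β ≠ α → γ ≠ α → ∃! a : Y, a ∈ A ∧ a • β = γ)
    {g b : Y} (hb : b ∈ Cfsg.conjBy A g) {δ : Ω} (hδ : δ ≠ g • α) (hfix : b • δ = δ) : b = 1 := by
  rw [mem_conjBy] at hb
  have hδ' : g⁻¹ • δ ≠ α := by
    intro h; apply hδ; rw [← h, smul_inv_smul]
  have h1 : (g⁻¹ * b * g) • (g⁻¹ • δ) = g⁻¹ • δ := by
    rw [mul_smul, mul_smul, smul_inv_smul, hfix]
  have h2 := eq_one_of_fix hreg hb hδ' h1
  have : g * (g⁻¹ * b * g) * g⁻¹ = g * 1 * g⁻¹ := by rw [h2]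
  simpa [mul_assoc] using this

end

/-- Let a group Y act doubly transitively on a set Ω with at least three points, and suppose that the stabilizer of a point α contains a nilpotent subgroup A, normalized by that stabilizer, which acts regularly on the points other than α. Then for any y in Y moving α, the subgroups A and y A y⁻¹ are the unipotent subgroups of a rank one group, and the normal closure of A in Y (the subgroup generated by all conjugates of A) is generated by A and y A y⁻¹ alone. -/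
theorem result {Y Ω : Type*} [Group Y] [MulAction Y Ω]
    (h2 : MulAction.IsMultiplyPretransitive Y Ω 2) (hΩ : 3 ≤ ENat.card Ω) (α : Ω) (A : Subgroup Y)
    (hA : A ≤ MulAction.stabilizer Y α) (hAn : ∀ y ∈ MulAction.stabilizer Y α, Cfsg.conjBy A y = A)
    (hnil : Group.IsNilpotent A) (hreg : ∀ β γ : Ω, β ≠ α → γ ≠ α → ∃! a : Y, a ∈ A ∧ a • β = γ)
    (y : Y) (hy : y ∉ MulAction.stabilizer Y α) :
    Cfsg.IsRankOnePair A (Cfsg.conjBy A y) ∧ Subgroup.normalClosure (A : Set Y) = A ⊔ Cfsg.conjBy A y := by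
  have hβα : y • α ≠ α := by
    intro h; exact hy (MulAction.mem_stabilizer_iff.2 h)
  set β := y • α with hβ
  set B := Cfsg.conjBy A y with hB
  obtain ⟨δ, hδα, hδβ⟩ := exists_third hΩ α β
  have hAfix : ∀ a ∈ A, a • α = α := fun a ha => MulAction.mem_stabilizer_iff.1 (hA ha)
  have hBfix : ∀ b ∈ B, b • β = β := fun b hb => conjBy_fix hA hb
  -- the pair is a rank one pair
  have hpair : Cfsg.IsRankOnePair A B := by
    refine ⟨?_, hnil, ?_, ?_, ?_⟩
    · -- A ≠ B
      intro hAB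
      obtain ⟨a, ⟨ha, haβ⟩, _⟩ := hreg β δ hβα hδα
      have : a • β = β := hBfix a (hAB ▸ ha)
      exact hδβ (haβ.symm.trans this)
    · -- B nilpotent
      have := hnil
      exact Group.nilpotent_of_surjective _
        ((MulAut.conj y).toMonoidHom.subgroupMap_surjective A)
    · -- cond_left
      intro a ha ha1
      have hainv : a⁻¹ ∈ A := A.inv_mem ha
      have hγα : a⁻¹ • β ≠ α := by
        intro h
        apply hβα
        have := congrArg (fun z => a • z) h
        simp only [smul_inv_smul] at this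
        rw [this, hAfix a ha]
      have hγβ : a⁻¹ • β ≠ β := by
        intro h
        have := eq_one_of_fix hreg hainv hβα h
        exact ha1 (inv_eq_one.1 this)
      obtain ⟨b', hb', hb'α⟩ := conjBy_trans hreg y (β := α) (γ := a⁻¹ • β) hβα.symm hγβ
      refine ⟨b'⁻¹, B.inv_mem hb', ?_, ?_⟩
      · intro h
        rw [inv_eq_one] at h
        rw [h, one_smul] at hb'α
        exact hγα hb'α.symm
      · rw [inv_inv]
        have h1 : b' • α = (a⁻¹ * y) • α := by rw [hb'α, mul_smul]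
        rw [conjBy_eq_of_smul_eq hAn h1, conjBy_mul]
    · -- cond_right
      intro b hb hb1
      have hbinv : b⁻¹ ∈ B := B.inv_mem hb
      have hγα : b⁻¹ • α ≠ α := by
        intro h
        have := conjBy_eq_one_of_fix hreg hbinv hβα.symm h
        exact hb1 (inv_eq_one.1 this)
      have hγβ : b⁻¹ • α ≠ β := by
        intro h
        apply hβα
        have h2 : b⁻¹ • α = b⁻¹ • β := by rw [h, hBfix _ hbinv]
        exact (smul_left_cancel _ h2).symm
      obtain ⟨a', ⟨ha', ha'β⟩, _⟩ := hreg β (b⁻¹ • α) hβα hγα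
      refine ⟨a'⁻¹, A.inv_mem ha', ?_, ?_⟩
      · intro h
        rw [inv_eq_one] at h
        rw [h, one_smul] at ha'β
        exact hγβ ha'β.symm
      · rw [inv_inv, hB, ← conjBy_mul]
        apply conjBy_eq_of_smul_eq hAn
        rw [mul_smul, ha'β]
  refine ⟨hpair, ?_⟩
  apply le_antisymm
  · -- normal closure ≤ A ⊔ B
    rw [Subgroup.normalClosure, Subgroup.closure_le]
    intro x hx
    rw [Group.mem_conjugatesOfSet_iff] at hx
    obtain ⟨a, ha, hax⟩ := hx
    rw [isConj_iff] at hax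
    obtain ⟨g, rfl⟩ := hax
    have hmem : g * a * g⁻¹ ∈ Cfsg.conjBy A g := conj_mem_conjBy ha
    -- find x ∈ A ⊔ B with x • α = g • α
    have htrans : ∃ x ∈ A ⊔ B, x • α = g • α := by
      -- first an element moving α to β
      obtain ⟨b, hb, hbδ⟩ := conjBy_trans hreg y (β := α) (γ := δ) hβα.symm hδβ
      obtain ⟨a₁, ⟨ha₁, ha₁δ⟩, _⟩ := hreg δ β hδα hβα
      by_cases hgα : g • α = α
      · exact ⟨1, (A ⊔ B).one_mem, by rw [one_smul, hgα]⟩
      · obtain ⟨a₂, ⟨ha₂, ha₂β⟩, _⟩ := hreg β (g • α) hβα hgα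
        refine ⟨a₂ * (a₁ * b), (A ⊔ B).mul_mem (Subgroup.mem_sup_left ha₂)
          ((A ⊔ B).mul_mem (Subgroup.mem_sup_left ha₁) (Subgroup.mem_sup_right hb)), ?_⟩
        rw [mul_smul, mul_smul, hbδ, ha₁δ, ha₂β]
    obtain ⟨x, hx, hxα⟩ := htrans
    rw [← conjBy_eq_of_smul_eq hAn hxα] at hmem
    exact conjBy_le_of_mem_of_le le_sup_left hx hmem
  · apply sup_le
    · exact Subgroup.le_normalClosure
    · intro x hx
      rw [hB, mem_conjBy] at hx
      have h1 : y⁻¹ * x * y ∈ Subgroup.normalClosure (A : Set Y) := Subgroup.le_normalClosure hx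
      have h2 := (Subgroup.normalClosure_normal (s := (A : Set Y))).conj_mem _ h1 y
      simpa [mul_assoc] using h2

end Cfsg.Agent.S5015
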