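import Cfsg.Statements.S5016
import Cfsg.Agent.Lib.Helper25.RankOne
-- import your own Cfsg.Agent.* helpers here

set_option autoImplicit false
open Cfsg

namespace Cfsg.Agent.S5016

open Cfsg.Agent.Lib.Helper25
open Matrix

/-- The lower unitriangular matrices as an explicit subgroup. -/
def lowerSub (k : Type*) [Field k] : Subgroup (Matrix.SpecialLinearGroup (Fin 2) k) where
  carrier := {g | (g : Matrix (Fin 2) (Fin 2) k) 0 1 = 0 ∧ (g : Matrix (Fin 2) (Fin 2) k) 0 0 = 1 ∧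
    (g : Matrix (Fin 2) (Fin 2) k) 1 1 = 1}
  one_mem' := by simp
  mul_mem' := by
    rintro a b ⟨ha1, ha2, ha3⟩ ⟨hb1, hb2, hb3⟩
    simp only [Set.mem_ofPred_eq, Matrix.SpecialLinearGroup.coe_mul, Matrix.mul_apply,
      Fin.sum_univ_two] at *
    refine ⟨?_, ?_, ?_⟩
    · rw [ha1, hb1]; ring
    · rw [ha1, ha2, hb2]; ring
    · rw [hb1, ha3, hb3]; ring
  inv_mem' := by
    rintro a ⟨ha1, ha2, ha3⟩
    simp only [Set.mem_ofPred_eq, Matrix.SpecialLinearGroup.coe_inv, Matrix.adjugate_fin_two,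
      Matrix.of_apply, Matrix.cons_val', Matrix.cons_val_zero, Matrix.cons_val_one,
      Matrix.cons_val_fin_one] at *
    refine ⟨?_, ?_, ?_⟩
    · rw [ha1]; simp
    · exact ha3
    · exact ha2

/-- The upper unitriangular matrices as an explicit subgroup. -/
def upperSub (k : Type*) [Field k] : Subgroup (Matrix.SpecialLinearGroup (Fin 2) k) where
  carrier := {g | (g : Matrix (Fin 2) (Fin 2) k) 1 0 = 0 ∧ (g : Matrix (Fin 2) (Fin 2) k) 0 0 = 1 ∧
    (g : Matrix (Fin 2) (Fin 2) k) 1 1 = 1}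
  one_mem' := by simp
  mul_mem' := by
    rintro a b ⟨ha1, ha2, ha3⟩ ⟨hb1, hb2, hb3⟩
    simp only [Set.mem_ofPred_eq, Matrix.SpecialLinearGroup.coe_mul, Matrix.mul_apply,
      Fin.sum_univ_two] at *
    refine ⟨?_, ?_, ?_⟩
    · rw [ha1, hb1]; ring
    · rw [hb1, ha2, hb2]; ring
    · rw [ha1, ha3, hb3]; ring
  inv_mem' := by
    rintro a ⟨ha1, ha2, ha3⟩
    simp only [Set.mem_ofPred_eq, Matrix.SpecialLinearGroup.coe_inv, Matrix.adjugate_fin_two,
      Matrix.of_apply, Matrix.cons_val', Matrix.cons_val_zero, Matrix.cons_val_one,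
      Matrix.cons_val_fin_one] at *
    refine ⟨?_, ?_, ?_⟩
    · rw [ha1]; simp
    · exact ha3
    · exact ha2

theorem lower_eq (k : Type*) [Field k] : Cfsg.lowerUnipotentSL2 k = lowerSub k := by
  unfold Cfsg.lowerUnipotentSL2
  exact Subgroup.closure_eq (lowerSub k)

theorem upper_eq (k : Type*) [Field k] : Cfsg.upperUnipotentSL2 k = upperSub k := by
  unfold Cfsg.upperUnipotentSL2
  exact Subgroup.closure_eq (upperSub k)

theorem mem_lower {k : Type*} [Field k] {g : Matrix.SpecialLinearGroup (Fin 2) k} :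
    g ∈ Cfsg.lowerUnipotentSL2 k ↔ (g : Matrix (Fin 2) (Fin 2) k) 0 1 = 0 ∧
      (g : Matrix (Fin 2) (Fin 2) k) 0 0 = 1 ∧ (g : Matrix (Fin 2) (Fin 2) k) 1 1 = 1 := by
  rw [lower_eq]; rfl

theorem mem_upper {k : Type*} [Field k] {g : Matrix.SpecialLinearGroup (Fin 2) k} :
    g ∈ Cfsg.upperUnipotentSL2 k ↔ (g : Matrix (Fin 2) (Fin 2) k) 1 0 = 0 ∧
      (g : Matrix (Fin 2) (Fin 2) k) 0 0 = 1 ∧ (g : Matrix (Fin 2) (Fin 2) k) 1 1 = 1 := by
  rw [upper_eq]; rfl

theorem key_alg {k : Type*} [Field k] (t p q r u : k) (ht : t ≠ 0) :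
  ((1 * p + t⁻¹ * r) * -t⁻¹ + (1 * q + t⁻¹ * u) * 1 = 0 ∧
      (1 * p + t⁻¹ * r) * 1 + (1 * q + t⁻¹ * u) * -0 = 1 ∧
        (0 * p + 1 * r) * -t⁻¹ + (0 * q + 1 * u) * 1 = 1) ↔
    ((t * p + 1 * r) * 1 + (t * q + 1 * u) * -t = 0 ∧
      (1 * p + 0 * r) * 1 + (1 * q + 0 * u) * -t = 1 ∧
        (t * p + 1 * r) * -0 + (t * q + 1 * u) * 1 = 1) := by
  constructor
  · rintro ⟨h1, h2, h3⟩
    field_simp at h1 h2 h3
    refine ⟨?_, ?_, ?_⟩ <;> grind
  · rintro ⟨h1, h2, h3⟩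
    refine ⟨?_, ?_, ?_⟩ <;> field_simp <;> grind

/-- Key computation: for `a` lower unitriangular with `(1,0)`-entry `t ≠ 0` and `b` upper unitriangular
with `(0,1)`-entry `t⁻¹`, one has `b⁻¹ A b = a⁻¹ B a`. -/
theorem key_conj {k : Type*} [Field k] {a b : Matrix.SpecialLinearGroup (Fin 2) k}
    (ha : a ∈ Cfsg.lowerUnipotentSL2 k) (hb : b ∈ Cfsg.upperUnipotentSL2 k) {t : k} (ht : t ≠ 0)
    (hat : (a : Matrix (Fin 2) (Fin 2) k) 1 0 = t) (hbt : (b : Matrix (Fin 2) (Fin 2) k) 0 1 = t⁻¹) :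
    Cfsg.conjBy (Cfsg.lowerUnipotentSL2 k) b⁻¹ = Cfsg.conjBy (Cfsg.upperUnipotentSL2 k) a⁻¹ := by
  rw [mem_lower] at ha
  rw [mem_upper] at hb
  obtain ⟨ha1, ha2, ha3⟩ := ha
  obtain ⟨hb1, hb2, hb3⟩ := hb
  ext g
  rw [mem_conjBy, mem_conjBy, inv_inv, inv_inv, mem_lower, mem_upper]
  simp only [Matrix.SpecialLinearGroup.coe_mul, Matrix.SpecialLinearGroup.coe_inv,
    Matrix.adjugate_fin_two, Matrix.mul_apply, Fin.sum_univ_two, Matrix.of_apply,
    Matrix.cons_val', Matrix.cons_val_zero, Matrix.cons_val_one, Matrix.cons_val_fin_one,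
    ha1, ha2, ha3, hb1, hb2, hb3, hat, hbt]
  exact key_alg t _ _ _ _ ht

theorem sl2_ext {k : Type*} [Field k] {g h : Matrix.SpecialLinearGroup (Fin 2) k}
    (h00 : (g : Matrix (Fin 2) (Fin 2) k) 0 0 = (h : Matrix (Fin 2) (Fin 2) k) 0 0)
    (h01 : (g : Matrix (Fin 2) (Fin 2) k) 0 1 = (h : Matrix (Fin 2) (Fin 2) k) 0 1)
    (h10 : (g : Matrix (Fin 2) (Fin 2) k) 1 0 = (h : Matrix (Fin 2) (Fin 2) k) 1 0)
    (h11 : (g : Matrix (Fin 2) (Fin 2) k) 1 1 = (h : Matrix (Fin 2) (Fin 2) k) 1 1) : g = h := by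
  apply Matrix.SpecialLinearGroup.ext
  intro i j
  fin_cases i <;> fin_cases j <;> assumption

/-- The upper unitriangular matrix with off-diagonal entry `s`. -/
theorem upperT_mem {k : Type*} [Field k] (s : k) :
    Matrix.SpecialLinearGroup.transvection (zero_ne_one : (0 : Fin 2) ≠ 1) s ∈ Cfsg.upperUnipotentSL2 k := by
  rw [mem_upper]
  simp [Matrix.SpecialLinearGroup.transvection_coe]

theorem lowerT_mem {k : Type*} [Field k] (s : k) :
    Matrix.SpecialLinearGroup.transvection (one_ne_zero : (1 : Fin 2) ≠ 0) s ∈ Cfsg.lowerUnipotentSL2 k := by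
  rw [mem_lower]
  simp [Matrix.SpecialLinearGroup.transvection_coe]

theorem upperT_entry {k : Type*} [Field k] (s : k) :
    ((Matrix.SpecialLinearGroup.transvection (zero_ne_one : (0 : Fin 2) ≠ 1) s :
      Matrix.SpecialLinearGroup (Fin 2) k) : Matrix (Fin 2) (Fin 2) k) 0 1 = s := by
  simp [Matrix.SpecialLinearGroup.transvection_coe]

theorem lowerT_entry {k : Type*} [Field k] (s : k) :
    ((Matrix.SpecialLinearGroup.transvection (one_ne_zero : (1 : Fin 2) ≠ 0) s :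
      Matrix.SpecialLinearGroup (Fin 2) k) : Matrix (Fin 2) (Fin 2) k) 1 0 = s := by
  simp [Matrix.SpecialLinearGroup.transvection_coe]

theorem lower_entry_ne_zero {k : Type*} [Field k] {a : Matrix.SpecialLinearGroup (Fin 2) k}
    (ha : a ∈ Cfsg.lowerUnipotentSL2 k) (ha1 : a ≠ 1) : (a : Matrix (Fin 2) (Fin 2) k) 1 0 ≠ 0 := by
  intro h
  apply ha1
  rw [mem_lower] at ha
  apply sl2_ext <;> simp [ha.1, ha.2.1, ha.2.2, h]

theorem upper_entry_ne_zero {k : Type*} [Field k] {b : Matrix.SpecialLinearGroup (Fin 2) k}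
    (hb : b ∈ Cfsg.upperUnipotentSL2 k) (hb1 : b ≠ 1) : (b : Matrix (Fin 2) (Fin 2) k) 0 1 ≠ 0 := by
  intro h
  apply hb1
  rw [mem_upper] at hb
  apply sl2_ext <;> simp [hb.1, hb.2.1, hb.2.2, h]

theorem lower_comm {k : Type*} [Field k] : IsMulCommutative ↥(Cfsg.lowerUnipotentSL2 k) := by
  rw [isMulCommutative_iff]
  rintro ⟨a, ha⟩ ⟨b, hb⟩
  apply Subtype.ext
  rw [mem_lower] at ha hb
  obtain ⟨ha1, ha2, ha3⟩ := ha
  obtain ⟨hb1, hb2, hb3⟩ := hb
  apply sl2_ext <;>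
  simp only [Subgroup.coe_mul, Matrix.SpecialLinearGroup.coe_mul, Matrix.mul_apply,
    Fin.sum_univ_two, ha1, ha2, ha3, hb1, hb2, hb3] <;> ring

theorem upper_comm {k : Type*} [Field k] : IsMulCommutative ↥(Cfsg.upperUnipotentSL2 k) := by
  rw [isMulCommutative_iff]
  rintro ⟨a, ha⟩ ⟨b, hb⟩
  apply Subtype.ext
  rw [mem_upper] at ha hb
  obtain ⟨ha1, ha2, ha3⟩ := ha
  obtain ⟨hb1, hb2, hb3⟩ := hb
  apply sl2_ext <;>
  simp only [Subgroup.coe_mul, Matrix.SpecialLinearGroup.coe_mul, Matrix.mul_apply,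
    Fin.sum_univ_two, ha1, ha2, ha3, hb1, hb2, hb3] <;> ring

theorem nilpotent_of_comm {H : Type*} [Group H] (h : IsMulCommutative H) : Group.IsNilpotent H := by
  refine ⟨⟨1, ?_⟩⟩
  rw [Subgroup.upperCentralSeries_one, eq_top_iff]
  intro x _
  rw [Subgroup.mem_center_iff]
  intro g
  exact (isMulCommutative_iff.1 h) g x

theorem sl2_pair (k : Type*) [Field k] :
    Cfsg.IsRankOnePair (Cfsg.lowerUnipotentSL2 k) (Cfsg.upperUnipotentSL2 k) := by
  refine ⟨?_, nilpotent_of_comm lower_comm, nilpotent_of_comm upper_comm, ?_, ?_⟩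
  · intro he
    have h1 := upperT_mem (k := k) 1
    rw [← he, mem_lower, upperT_entry] at h1
    exact one_ne_zero h1.1
  · intro a ha ha1
    have ht := lower_entry_ne_zero ha ha1
    refine ⟨_, upperT_mem ((a : Matrix (Fin 2) (Fin 2) k) 1 0)⁻¹, ?_, ?_⟩
    · intro h
      have := upperT_entry (k := k) ((a : Matrix (Fin 2) (Fin 2) k) 1 0)⁻¹
      rw [h] at this
      simp at this
      exact ht this.symm
    · exact key_conj ha (upperT_mem _) ht rfl (upperT_entry _)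
  · intro b hb hb1
    have hs := upper_entry_ne_zero hb hb1
    refine ⟨_, lowerT_mem ((b : Matrix (Fin 2) (Fin 2) k) 0 1)⁻¹, ?_, ?_⟩
    · intro h
      have := lowerT_entry (k := k) ((b : Matrix (Fin 2) (Fin 2) k) 0 1)⁻¹
      rw [h] at this
      simp at this
      exact hs this.symm
    · exact (key_conj (lowerT_mem _) hb (inv_ne_zero hs) (lowerT_entry _) (by rw [inv_inv])).symm

/-- For any field k, the special linear group SL₂(k) is a special rank one group with abelian unipotent subgroups, the unipotent subgroups being the group of lower unitriangular matrices and the group of upper unitriangular matrices. -/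
theorem result (k : Type*) [Field k] :
    Cfsg.IsRankOneGroup (Matrix.SpecialLinearGroup (Fin 2) k) (Cfsg.lowerUnipotentSL2 k) (Cfsg.upperUnipotentSL2 k) ∧
    Cfsg.IsSpecialRankOnePair (Cfsg.lowerUnipotentSL2 k) (Cfsg.upperUnipotentSL2 k) ∧
    Cfsg.HasAbelianUnipotents (Cfsg.lowerUnipotentSL2 k) (Cfsg.upperUnipotentSL2 k) := by
  have hpair := sl2_pair k
  refine ⟨⟨?_, hpair⟩, ⟨hpair, ?_⟩, ⟨lower_comm, upper_comm⟩⟩
  · -- generation
    rw [eq_top_iff]
    intro g _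
    refine Matrix.SL2.transvection_induction
      (fun g => g ∈ Cfsg.lowerUnipotentSL2 k ⊔ Cfsg.upperUnipotentSL2 k) ?_ ?_ g
    · intro i j hij c
      fin_cases i <;> fin_cases j
      · exact absurd rfl hij
      · exact Subgroup.mem_sup_right (upperT_mem c)
      · exact Subgroup.mem_sup_left (lowerT_mem c)
      · exact absurd rfl hij
    · intro x y hx hy
      exact Subgroup.mul_mem _ hx hy
  · intro a ha ha1 b hb hb1 hab
    have ht := lower_entry_ne_zero ha ha1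
    set t := (a : Matrix (Fin 2) (Fin 2) k) 1 0 with htdef
    have h0 := key_conj ha (upperT_mem t⁻¹) ht rfl (upperT_entry _)
    have h1 : Cfsg.conjBy (Cfsg.lowerUnipotentSL2 k) b⁻¹ =
        Cfsg.conjBy (Cfsg.lowerUnipotentSL2 k)
          (Matrix.SpecialLinearGroup.transvection (zero_ne_one : (0 : Fin 2) ≠ 1) t⁻¹)⁻¹ :=
      hab.trans h0.symm
    have h2 := rankOne_eq_of_conjBy_eq (Cfsg.RankOnePair_symm hpair)
      (Subgroup.inv_mem _ hb) (Subgroup.inv_mem _ (upperT_mem t⁻¹)) h1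
    have hb01 : (b : Matrix (Fin 2) (Fin 2) k) 0 1 = t⁻¹ := by
      rw [inv_injective h2, upperT_entry]
    rw [mem_lower] at ha
    rw [mem_upper] at hb
    obtain ⟨ha1', ha2, ha3⟩ := ha
    obtain ⟨hb1', hb2, hb3⟩ := hb
    apply sl2_ext <;>
    simp only [Matrix.SpecialLinearGroup.coe_mul, Matrix.SpecialLinearGroup.coe_inv,
      Matrix.adjugate_fin_two, Matrix.mul_apply, Fin.sum_univ_two, Matrix.of_apply,
      Matrix.cons_val', Matrix.cons_val_zero, Matrix.cons_val_one, Matrix.cons_val_fin_one,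
      ha1', ha2, ha3, hb1', hb2, hb3, hb01, ← htdef] <;> field_simp <;> ring

end Cfsg.Agent.S5016
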