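import Cfsg.Statements.S5017
import Cfsg.Agent.Lib.Helper25.RankOneNormal
-- import your own Cfsg.Agent.* helpers here

set_option autoImplicit false
open Cfsg

namespace Cfsg.Agent.S5017

open Cfsg.Agent.Lib.Helper25

/-- Let X be a rank one group with unipotent subgroups A and B and N a normal subgroup of X. Then either X = N A or N lies in the centre of X. Consequently a perfect rank one group is quasisimple. -/
theorem result {X : Type*} [Group X] {A B : Subgroup X} (h : Cfsg.IsRankOneGroup X A B) :
    (∀ N : Subgroup X, N.Normal → N ⊔ A = ⊤ ∨ N ≤ Subgroup.center X) ∧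
    (Group.IsPerfect X → Cfsg.IsQuasisimple X) := by
  obtain ⟨htop, hp⟩ := h
  refine ⟨fun N hN => rankOne_normal_dichotomy hp htop N hN, ?_⟩
  intro hperf
  refine ⟨hperf, ?_⟩
  have : Nontrivial (X ⧸ Subgroup.center X) := by
    rw [QuotientGroup.nontrivial_iff]
    exact rankOne_center_ne_top hp
  refine ⟨?_⟩
  intro K hK
  -- pull back to `X`
  set N : Subgroup X := K.comap (QuotientGroup.mk' (Subgroup.center X)) with hNdef
  have hNn : N.Normal := hK.comap _
  have hKN : K = N.map (QuotientGroup.mk' (Subgroup.center X)) := by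
    rw [hNdef, Subgroup.map_comap_eq_self_of_surjective (QuotientGroup.mk'_surjective _)]
  rcases rankOne_normal_dichotomy hp htop N hNn with hNA | hNZ
  · right
    -- `X ⧸ N` is a quotient of `A`, hence nilpotent; it is perfect, hence trivial
    have hsurj : Function.Surjective ((QuotientGroup.mk' N).comp A.subtype) := by
      intro y
      obtain ⟨x, rfl⟩ := QuotientGroup.mk'_surjective N y
      have hx : x ∈ N ⊔ A := by rw [hNA]; exact Subgroup.mem_top x
      rw [Subgroup.mem_sup_of_normal_left] at hx
      obtain ⟨n, hn, a, ha, rfl⟩ := hx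
      refine ⟨⟨a, ha⟩, ?_⟩
      simp only [MonoidHom.coe_comp, Function.comp_apply, Subgroup.coe_subtype, QuotientGroup.mk'_apply]
      rw [QuotientGroup.eq]
      have : a⁻¹ * (n * a) ∈ N := by
        have := hNn.conj_mem n hn a⁻¹
        simpa [mul_assoc] using this
      exact this
    have : Group.IsNilpotent A := hp.nilpotent_left
    have hnil : Group.IsNilpotent (X ⧸ N) := Group.nilpotent_of_surjective _ hsurj
    have hsub : Subsingleton (X ⧸ N) := by
      by_contra hns
      rw [not_subsingleton_iff_nontrivial] at hns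
      exact Group.IsPerfect.not_isNilpotent (X ⧸ N) hnil
    have hNtop : N = ⊤ := QuotientGroup.subsingleton_iff.1 hsub
    rw [hKN, hNtop, ← MonoidHom.range_eq_map, MonoidHom.range_eq_top]
    exact QuotientGroup.mk'_surjective _
  · left
    rw [hKN, eq_bot_iff]
    rintro _ ⟨n, hn, rfl⟩
    rw [Subgroup.mem_bot, QuotientGroup.mk'_apply, QuotientGroup.eq_one_iff]
    exact hNZ hn

end Cfsg.Agent.S5017
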