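import Cfsg.Statements.S5023
import Cfsg.Agent.Lib.Helper25.QuadAction
-- import your own Cfsg.Agent.* helpers here

set_option autoImplicit false
open Cfsg

namespace Cfsg.Agent.S5023

open Cfsg.Agent.Lib.Helper25

/-- Let X be a rank one group with unipotent subgroups A and B that acts faithfully on an abelian group V (written additively) with A acting quadratically: a' • (a • v − v) = a • v − v for all a, a' in A and v in V. Then A is either torsion-free or an elementary abelian p-group for some prime p. -/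
theorem result {X : Type*} [Group X] {A B : Subgroup X} (h : Cfsg.IsRankOneGroup X A B)
    {V : Type*} [AddCommGroup V] [DistribMulAction X V] (hf : ∀ x : X, (∀ v : V, x • v = v) → x = 1)
    (hq : ∀ a ∈ A, ∀ a' ∈ A, ∀ v : V, a' • (a • v - v) = a • v - v) :
    (∀ a ∈ A, a ≠ 1 → ¬ IsOfFinOrder a) ∨ ∃ p : ℕ, p.Prime ∧ Cfsg.IsElementaryAbelian p A := by
  obtain ⟨htop, hpair⟩ := h
  have hinj : Function.Injective (rho X V) := rho_injective hf
  have hA : QuadOn A V := quadOn_of_smul hq
  by_cases htf : ∀ a ∈ A, a ≠ 1 → ¬ IsOfFinOrder a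
  · exact Or.inl htf
  · right
    push Not at htf
    obtain ⟨a₀, ha₀, ha₀1, hfin⟩ := htf
    have hn : orderOf a₀ ≠ 1 := by rwa [Ne, orderOf_eq_one_iff]
    obtain ⟨p, hp, hdvd⟩ := Nat.exists_prime_and_dvd hn
    have hord : orderOf (a₀ ^ (orderOf a₀ / p)) = p :=
      orderOf_pow_orderOf_div (hfin.orderOf_pos.ne') hdvd
    refine ⟨p, hp, ?_, ?_⟩
    · rw [isMulCommutative_iff]
      rintro ⟨a, ha⟩ ⟨a', ha'⟩
      exact Subtype.ext (quad_comm hA hinj ha ha')
    · apply quad_pow_eq_one hpair htop hinj hA (A.pow_mem ha₀ (orderOf a₀ / p))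
      · intro h1
        rw [h1, orderOf_one (G := X)] at hord
        exact hp.one_lt.ne hord
      · have := pow_orderOf_eq_one (a₀ ^ (orderOf a₀ / p))
        rwa [hord] at this

end Cfsg.Agent.S5023
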