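import Cfsg.Statements.S5026
import Cfsg.Agent.Lib.Helper25.RootSetTI
-- import your own Cfsg.Agent.* helpers here

set_option autoImplicit false
open Cfsg

namespace Cfsg.Agent.S5026

open Cfsg.Agent.Lib.Helper25

theorem le_centralizer_zpowers_iff {G : Type*} [Group G] {E : Subgroup G} {g : G} :
    E ≤ Subgroup.centralizer ((Subgroup.zpowers g : Subgroup G) : Set G) ↔ ∀ e ∈ E, e * g = g * e := by
  constructor
  · intro h e he
    have := h he
    rw [Subgroup.mem_centralizer_iff] at this
    exact (this g (Subgroup.mem_zpowers g)).symm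
  · intro h e he
    rw [Subgroup.mem_centralizer_iff]
    rintro _ ⟨n, rfl⟩
    have hc : Commute e g := h e he
    exact (hc.zpow_right n).eq.symm

/-- Let S be a degenerate set of abstract root subgroups of G (a set of abstract transvection groups) and let a, b be commuting non-identity elements of members of S with a b ≠ 1. Then the members of S centralizing a b are exactly those centralizing both a and b. -/
theorem result {G : Type*} [Group G] {S : Set (Subgroup G)} (hS : Cfsg.IsRootSubgroupSet S) (hdeg : Cfsg.IsDegenerateRootSet S)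
    {a b : G} (ha : a ∈ Cfsg.rootElements S) (hb : b ∈ Cfsg.rootElements S) (hab : a * b = b * a) (hab1 : a * b ≠ 1) :
    Cfsg.centralizingMembers S (Subgroup.zpowers (a * b)) =
      Cfsg.centralizingMembers S (Subgroup.zpowers a) ∩ Cfsg.centralizingMembers S (Subgroup.zpowers b) := by
  obtain ⟨ha1, A, hA, haA⟩ := ha
  obtain ⟨hb1, B, hB, hbB⟩ := hb
  ext E
  simp only [Cfsg.centralizingMembers, Set.mem_ofPred_eq, Set.mem_inter_iff]
  rw [le_centralizer_zpowers_iff, le_centralizer_zpowers_iff, le_centralizer_zpowers_iff]
  constructor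
  · rintro ⟨hE, hEab⟩
    -- it suffices to show that E centralizes a or b
    have hfrom_a : (∀ e ∈ E, e * a = a * e) → ∀ e ∈ E, e * b = b * e := by
      intro h e he
      have h1 := hEab e he
      have h2 := h e he
      have : a * (e * b) = a * (b * e) := by
        calc a * (e * b) = (a * e) * b := by rw [mul_assoc]
          _ = (e * a) * b := by rw [h2]
          _ = e * (a * b) := by rw [mul_assoc]
          _ = a * b * e := h1
          _ = a * (b * e) := by rw [mul_assoc]
      exact mul_left_cancel this
    have hfrom_b : (∀ e ∈ E, e * b = b * e) → ∀ e ∈ E, e * a = a * e := by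
      intro h e he
      have h1 := hEab e he
      have h2 := h e he
      have : (e * a) * b = (a * e) * b := by
        calc (e * a) * b = e * (a * b) := by rw [mul_assoc]
          _ = a * b * e := h1
          _ = a * (b * e) := by rw [mul_assoc]
          _ = a * (e * b) := by rw [h2]
          _ = (a * e) * b := by rw [mul_assoc]
      exact mul_right_cancel this
    rcases hS.pair E hE A hA with h1 | h1 | h1
    · rw [commutator_eq_bot_iff_commute] at h1
      have h2 : ∀ e ∈ E, e * a = a * e := fun e he => h1 e he a haA
      exact ⟨⟨hE, h2⟩, ⟨hE, hfrom_a h2⟩⟩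
    · rcases hS.pair E hE B hB with h3 | h3 | h3
      · rw [commutator_eq_bot_iff_commute] at h3
        have h2 : ∀ e ∈ E, e * b = b * e := fun e he => h3 e he b hbB
        exact ⟨⟨hE, hfrom_b h2⟩, ⟨hE, h2⟩⟩
      · exfalso
        have hAE := RankOnePair_symm h1
        have hBE := RankOnePair_symm h3
        have habN : a * b ∈ Subgroup.normalizer (E : Set G) :=
          mem_normalizer_of_comm (fun y hy => (hEab y hy).symm)
        have hconj : conjBy E b = conjBy E a⁻¹ := by
          have := conjBy_eq_self_iff.2 habN
          rw [conjBy_mul] at this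
          exact conjBy_eq_iff.1 this
        obtain ⟨e₁, he₁, _, hAe₁⟩ := hAE.cond_left a haA ha1
        have hbinv1 : b⁻¹ ≠ 1 := by simpa using hb1
        obtain ⟨e₂, he₂, _, hBe₂⟩ := hBE.cond_left b⁻¹ (B.inv_mem hbB) hbinv1
        rw [inv_inv] at hBe₂
        have h4 : conjBy A e₁⁻¹ = conjBy B e₂⁻¹ := by rw [hAe₁, hBe₂, hconj]
        have hmemB : B ∈ unipotentSubgroups A E := by
          refine ⟨e₂ * e₁⁻¹, (A ⊔ E).mul_mem (Subgroup.mem_sup_right he₂)
            (Subgroup.mem_sup_right (E.inv_mem he₁)), ?_⟩
          rw [conjBy_mul, h4, conjBy_inv_conjBy]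
        by_cases hBA : B = A
        · apply hab1
          exact rankOne_eq_one_of_mem_normalizer hAE (A.mul_mem haA (hBA ▸ hbB)) habN
        · have hp := (rankOne_pair_of_mem hAE hmemB (self_mem_unipotentSubgroups A E) hBA).1
          have hbX : b ∈ A ⊔ E := rankOne_conj_le hmemB hbB
          have hC : conjBy A b ∈ unipotentSubgroups A E :=
            unipotentSubgroups_conjBy_mem (self_mem_unipotentSubgroups A E) hbX
          have haC : a ∈ conjBy A b := by
            have : b * a * b⁻¹ ∈ conjBy A b := conj_mem_conjBy haA
            rwa [← hab, mul_inv_cancel_right] at this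
          have hCA := rankOne_eq_of_normalizes hAE hC haA ha1 (Subgroup.le_normalizer haC)
          exact hb1 (rankOne_eq_one_of_mem_normalizer hp hbB (conjBy_eq_self_iff.1 hCA))
      · exact absurd h3 (hdeg E hE B hB)
    · exact absurd h1 (hdeg E hE A hA)
  · rintro ⟨⟨hE, hEa⟩, ⟨_, hEb⟩⟩
    refine ⟨hE, fun e he => ?_⟩
    rw [← mul_assoc, hEa e he, mul_assoc, hEb e he, mul_assoc]

end Cfsg.Agent.S5026
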