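import Cfsg.Statements.S5027
import Cfsg.Agent.Lib.Helper25.RootSetTI
-- import your own Cfsg.Agent.* helpers here

set_option autoImplicit false
open Cfsg

namespace Cfsg.Agent.S5027

open Cfsg.Agent.Lib.Helper25

theorem central_conj {G : Type*} [Group G] {c : G} (hc : c ∈ Subgroup.center G) (B : Subgroup G) :
    Cfsg.conjBy B c = B :=
  conjBy_eq_self_iff.2 (Subgroup.center_le_normalizer _ hc)

/-- An element of the second centre normalizes every member of `S` that has a rank one partner. -/
theorem secondCenter_normalizes {G : Type*} [Group G] {S : Set (Subgroup G)}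
    (hS : Cfsg.IsRootSubgroupSet S) {A B : Subgroup G} (hA : A ∈ S) (hB : B ∈ S)
    (hAB : Cfsg.IsRankOnePair A B) {z : G}
    (hz : ∀ y : G, z * y * z⁻¹ * y⁻¹ ∈ Subgroup.center G) : Cfsg.conjBy A z = A := by
  by_contra hne
  have hA' : Cfsg.conjBy A z ∈ S := hS.conj_mem A hA z
  obtain ⟨a, ha1⟩ := (Subgroup.ne_bot_iff_exists_ne_one).1 (rankOne_left_ne_bot hAB)
  have ha1' : (a : G) ≠ 1 := fun e => ha1 (Subtype.ext e)
  have ha : (a : G) ∈ A := a.2
  set c := z * (a : G) * z⁻¹ * (a : G)⁻¹ with hc
  have hcc : c ∈ Subgroup.center G := hz a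
  have hcomm : ∀ y : G, y * c = c * y := fun y => (Subgroup.mem_center_iff.1 hcc y)
  have ha' : z * (a : G) * z⁻¹ ∈ Cfsg.conjBy A z := conj_mem_conjBy ha
  have hca : z * (a : G) * z⁻¹ = c * a := by rw [hc]; group
  have ha'1 : z * (a : G) * z⁻¹ ≠ 1 := by
    intro h
    apply ha1'
    have : z⁻¹ * (z * (a : G) * z⁻¹) * z = z⁻¹ * 1 * z := by rw [h]
    simpa [mul_assoc] using this
  rcases hS.pair _ hA' B hB with h1 | h1 | h1
  · rw [commutator_eq_bot_iff_commute] at h1
    apply ha1'
    apply rankOne_eq_one_of_mem_normalizer hAB ha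
    apply mem_normalizer_of_comm
    intro b hb
    have h2 := h1 _ ha' b hb
    rw [hca] at h2
    -- c * a * b = b * (c * a) and c central
    have h3 : c * ((a : G) * b) = c * (b * a) := by
      rw [← mul_assoc, h2, ← mul_assoc, hcomm b, mul_assoc]
    exact mul_left_cancel h3
  · -- rank one pair (A', B): then A' is a conjugate of A under ⟨A, B⟩ normalizing A
    obtain ⟨b, hb, _, hAb⟩ := hAB.cond_left a ha ha1'
    obtain ⟨b', hb', _, hAb'⟩ := h1.cond_left _ ha' ha'1
    have h2 : Cfsg.conjBy B (z * (a : G) * z⁻¹)⁻¹ = Cfsg.conjBy B (a : G)⁻¹ := by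
      rw [hca, mul_inv_rev, conjBy_mul, central_conj ((Subgroup.center G).inv_mem hcc)]
    have h3 : Cfsg.conjBy A b⁻¹ = Cfsg.conjBy (Cfsg.conjBy A z) b'⁻¹ := by
      rw [hAb, hAb', h2]
    have hmem : Cfsg.conjBy A z ∈ Cfsg.unipotentSubgroups A B := by
      refine ⟨b' * b⁻¹, (A ⊔ B).mul_mem (Subgroup.mem_sup_right hb')
        (Subgroup.mem_sup_right (B.inv_mem hb)), ?_⟩
      rw [conjBy_mul, h3, conjBy_inv_conjBy]
    apply rankOne_conj_not_le_normalizer hAB hmem hne
    intro y hy
    rw [mem_conjBy] at hy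
    have hy2 : y = (z * (z⁻¹ * y * z) * z⁻¹ * (z⁻¹ * y * z)⁻¹) * (z⁻¹ * y * z) := by group
    rw [hy2]
    exact (Subgroup.normalizer (A : Set G)).mul_mem
      (Subgroup.center_le_normalizer _ (hz _)) (Subgroup.le_normalizer hy)
  · apply rankOne_no_normalizing_commutators hAB ha ha1'
    intro b hb
    have h2 := rootCommutatorCase_commutator_mem_normalizer h1 ha' hb
    have h3 : z * (a : G) * z⁻¹ * b * (z * (a : G) * z⁻¹)⁻¹ * b⁻¹ = (a : G) * b * (a : G)⁻¹ * b⁻¹ := by
      rw [hca, mul_inv_rev]
      have e1 : c * (a : G) * b * ((a : G)⁻¹ * c⁻¹) * b⁻¹ = c * ((a : G) * b * (a : G)⁻¹) * c⁻¹ * b⁻¹ := by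
        group
      rw [e1, ← hcomm ((a : G) * b * (a : G)⁻¹)]
      group
    rwa [h3] at h2

/-- Let S be a set of abstract root subgroups of G such that every member of S has a rank one partner in S (the graph of rank one pairs on S has no isolated vertex). Then the second centre of G equals its centre. -/
theorem result {G : Type*} [Group G] {S : Set (Subgroup G)} (hS : Cfsg.IsRootSubgroupSet S)
    (hF : ∀ A ∈ S, ¬ Cfsg.IsIsolatedIn (Cfsg.FAdj S) S A) : Subgroup.upperCentralSeries G 2 = Subgroup.center G := by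
  apply le_antisymm
  · intro z hz
    rw [Subgroup.mem_upperCentralSeries_succ_iff] at hz
    have hz' : ∀ y : G, z * y * z⁻¹ * y⁻¹ ∈ Subgroup.center G := by
      intro y
      have := hz y
      rwa [Subgroup.upperCentralSeries_one, commutatorElement_def] at this
    -- z commutes with every member of S
    have hcomm : ∀ A ∈ S, ∀ a ∈ A, a * z = z * a := by
      intro A hA a ha
      obtain ⟨B, hB, hAB⟩ := exists_partner_of_not_isolated hA (hF A hA)
      have hzA := secondCenter_normalizes hS hA hB hAB hz'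
      have h1 : z * a * z⁻¹ ∈ A := by
        have : z * a * z⁻¹ ∈ Cfsg.conjBy A z := conj_mem_conjBy ha
        rwa [hzA] at this
      have h2 : z * a * z⁻¹ * a⁻¹ ∈ A := A.mul_mem h1 (A.inv_mem ha)
      have h5 := rankOne_eq_one_of_mem_normalizer hAB h2 (Subgroup.center_le_normalizer _ (hz' a))
      have : z * a * z⁻¹ * a⁻¹ * (a * z) = 1 * (a * z) := by rw [h5]
      simpa [mul_assoc] using this.symm
    have hle : (⨆ A ∈ S, A) ≤ Subgroup.centralizer ({z} : Set G) := by
      apply iSup₂_le
      intro A hA a ha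
      rw [Subgroup.mem_centralizer_iff]
      intro m hm
      rw [Set.mem_singleton_iff] at hm
      subst hm
      exact (hcomm A hA a ha).symm
    rw [hS.generates] at hle
    rw [Subgroup.mem_center_iff]
    intro g
    have := hle (Subgroup.mem_top g)
    rw [Subgroup.mem_centralizer_iff] at this
    exact (this z rfl).symm
  · rw [← Subgroup.upperCentralSeries_one]
    exact Subgroup.upperCentralSeries_mono G (by norm_num)

end Cfsg.Agent.S5027
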