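import Cfsg.Statements.S5032
import Cfsg.Agent.Lib.Helper25.RootLines
-- import your own Cfsg.Agent.* helpers here

set_option autoImplicit false
open Cfsg

namespace Cfsg.Agent.S5032

open Cfsg.Agent.Lib.Helper25

/-- Let S be a set of abstract root subgroups of G with more than one member. Then the graph of rank one pairs on S is connected if and only if S is a single conjugacy class of G and some member of S has a rank one partner in S. -/
theorem result {G : Type*} [Group G] {S : Set (Subgroup G)} (hS : Cfsg.IsRootSubgroupSet S) (h2 : ∃ A ∈ S, ∃ B ∈ S, A ≠ B) :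
    Cfsg.IsConnectedFamily (Cfsg.FAdj S) S ↔
      (Cfsg.IsConjClassOfSubgroups S ∧ ∃ A ∈ S, ¬ Cfsg.IsIsolatedIn (Cfsg.FAdj S) S A) := by
  constructor
  · intro hconn
    obtain ⟨A, hA, B, hB, hAB⟩ := h2
    have hconj : ∀ X Y : Subgroup G, Relation.ReflTransGen (Cfsg.FAdj S) X Y →
        ∃ g : G, Y = Cfsg.conjBy X g := by
      intro X Y h
      induction h with
      | refl => exact ⟨1, (conjBy_one X).symm⟩
      | tail _ hbc ih =>
        obtain ⟨g, rfl⟩ := ih
        obtain ⟨x, _, hx⟩ := rankOne_right_mem_unipotentSubgroups hbc.2.2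
        exact ⟨x * g, by rw [hx, conjBy_mul]⟩
    refine ⟨⟨⟨A, hA⟩, fun X hX Y hY => hconj X Y (hconn X hX Y hY)⟩, A, hA, ?_⟩
    intro hiso
    rcases Relation.ReflTransGen.cases_head (hconn A hA B hB) with h | ⟨C, hC, _⟩
    · exact hAB h
    · exact (hiso.2 C).1 hC
  · rintro ⟨hcl, A₀, hA₀, hni⟩
    exact connected_of_class hS hcl hA₀ hni

end Cfsg.Agent.S5032
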