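import Cfsg.Statements.S5034
import Cfsg.Agent.Lib.Helper25.RootSpecial
-- import your own Cfsg.Agent.* helpers here

set_option autoImplicit false
open Cfsg

namespace Cfsg.Agent.S5034

open Cfsg.Agent.Lib.Helper25

/-- Let S be a non-degenerate class of abstract root subgroups of G, A ∈ S and B a rank one partner of A. Then some line partner C of A has ⁅B, C⁆ ∈ S, and the rank one pair A, B is special. -/
theorem result {G : Type*} [Group G] {S : Set (Subgroup G)} (hS : Cfsg.IsRootSubgroupClass S) (hnd : Cfsg.IsNondegenerateRootSet S)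
    {A B : Subgroup G} (hA : A ∈ S) (hB : B ∈ Cfsg.rankOnePartners S A) :
    (∃ C ∈ Cfsg.linePartners S A, C ∈ Cfsg.commutatorPartners S B) ∧ Cfsg.IsSpecialRankOnePair A B := by
  obtain ⟨A₁, hA₁, D₁, _, hAD₁⟩ := hnd.2.2
  obtain ⟨g, rfl⟩ := hS.2.2 A₁ hA₁ A hA
  have hAD := rootCommutatorCase_conj hS.1 hAD₁ g
  obtain ⟨C, hCL, hBC⟩ := exists_linePartner_commCase hS.1 hA hB.1 hB.2 hAD
  exact ⟨⟨C, hCL, hCL.1.1, hBC.1⟩, LineConfig.special ⟨hS.1, hA, hCL, hB.1, hB.2, hBC⟩⟩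

end Cfsg.Agent.S5034
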