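import Cfsg.Statements.S5035
import Cfsg.Agent.Lib.Helper25.RootSetMap
-- import your own Cfsg.Agent.* helpers here

set_option autoImplicit false
open Cfsg

namespace Cfsg.Agent.S5035

open Cfsg.Agent.Lib.Helper25

/-- Let S be a set of abstract root subgroups of G whose graph of rank one pairs is connected, and f a homomorphism from G onto a group H. Then either the images of the members of S form a set of abstract root subgroups of H whose graph of rank one pairs is again connected, or H equals the image of a member of S. -/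
theorem result {G H : Type*} [Group G] [Group H] {S : Set (Subgroup G)} (hS : Cfsg.IsRootSubgroupSet S)
    (hc : Cfsg.IsConnectedFamily (Cfsg.FAdj S) S) (f : G →* H) (hf : Function.Surjective f) :
    (Cfsg.IsRootSubgroupSet ((fun A : Subgroup G => A.map f) '' S) ∧
      Cfsg.IsConnectedFamily (Cfsg.FAdj ((fun A : Subgroup G => A.map f) '' S)) ((fun A : Subgroup G => A.map f) '' S)) ∨
    ∃ A ∈ S, A.map f = ⊤ := by
  by_cases hex : ∃ A ∈ S, A.map f = ⊥
  · right
    obtain ⟨A, hA, hAf⟩ := hex
    refine ⟨A, hA, ?_⟩
    have hall := map_eq_bot_of_connected hS hc f hA hAf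
    have h1 : (⨆ A ∈ S, A).map f = ⨆ A ∈ S, A.map f := by
      rw [Subgroup.map_iSup]
      congr 1
      ext A
      rw [Subgroup.map_iSup]
    have h2 : (⨆ A ∈ S, A.map f) = ⊥ := by
      apply le_antisymm _ bot_le
      refine iSup₂_le ?_
      intro B hB
      rw [hall B hB]
    rw [hS.generates, ← MonoidHom.range_eq_map, MonoidHom.range_eq_top.2 hf] at h1
    rw [hAf, h1, h2]
  · left
    have hne : ∀ A ∈ S, A.map f ≠ ⊥ := fun A hA h => hex ⟨A, hA, h⟩
    exact ⟨isRootSubgroupSet_map hS f hf hne, isConnectedFamily_map f hc⟩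

end Cfsg.Agent.S5035
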