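import Cfsg.Statements.S5060
import Cfsg.Agent.Lib.Helper13.DG6

set_option autoImplicit false
open Cfsg

namespace Cfsg.Agent.S5060

open Matrix Cfsg.Agent.Lib.Helper13 Cfsg.Agent.Lib.Helper13.DG

/-- Let k ⊆ K be fields with the characteristic of k not 2 and k not of order 3, and let α ∈ K be a non-zero element algebraic over k. Then the subgroup of SL₂(K) generated by the upper unitriangular matrices with entry c and the lower unitriangular matrices with entry cα, c ranging over k, is exactly the group of matrices of SL₂(K) with all entries in k(α). -/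
theorem result {k K : Type*} [Field k] [Field K] [Algebra k K] (hk2 : ringChar k ≠ 2) (hk3 : Nat.card k ≠ 3)
    (α : K) (hα : IsAlgebraic k α) (hα0 : α ≠ 0) :
    (Subgroup.closure ({g : Matrix.SpecialLinearGroup (Fin 2) K | ∃ c : k, (g : Matrix (Fin 2) (Fin 2) K) = !![1, algebraMap k K c; 0, 1]} ∪
        {g : Matrix.SpecialLinearGroup (Fin 2) K | ∃ c : k, (g : Matrix (Fin 2) (Fin 2) K) = !![1, 0; algebraMap k K c * α, 1]}) :
      Set (Matrix.SpecialLinearGroup (Fin 2) K)) =
    {g : Matrix.SpecialLinearGroup (Fin 2) K | ∀ i j : Fin 2, (g : Matrix (Fin 2) (Fin 2) K) i j ∈ IntermediateField.adjoin k ({α} : Set K)} := by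
  classical
  have hint : IsIntegral k α := hα.isIntegral
  set L := IntermediateField.adjoin k ({α} : Set K) with hL
  set αL : L := IntermediateField.AdjoinSimple.gen k α with hαL
  have hαLv : (αL : K) = α := IntermediateField.AdjoinSimple.coe_gen k α
  have hαL0 : αL ≠ 0 := by
    intro h
    apply hα0
    rw [← hαLv, h]
    rfl
  have hintL : IsIntegral k αL := (IntermediateField.AdjoinSimple.isIntegral_gen k α).mpr hint
  have hgen : Algebra.adjoin k ({αL} : Set L) = ⊤ := by
    have := (IntermediateField.adjoin.powerBasis hint).adjoin_gen_eq_top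
    rwa [IntermediateField.adjoin.powerBasis_gen] at this
  have htop := HH_eq_top (k := k) hk2 hk3 αL hαL0 hintL hgen
  set ι : SpecialLinearGroup (Fin 2) L →* SpecialLinearGroup (Fin 2) K :=
    Matrix.SpecialLinearGroup.map (algebraMap L K) with hι
  have hcoe : ∀ (x : SpecialLinearGroup (Fin 2) L) (i j : Fin 2),
      ((ι x : SpecialLinearGroup (Fin 2) K) : Matrix (Fin 2) (Fin 2) K) i j =
        ((x : Matrix (Fin 2) (Fin 2) L) i j : K) := by
    intro x i j
    rw [hι, Matrix.SpecialLinearGroup.map_apply_coe]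
    rfl
  -- the generating set is the image of `gens`
  have himg : ι '' (gens (k := k) αL) =
      ({g : Matrix.SpecialLinearGroup (Fin 2) K | ∃ c : k, (g : Matrix (Fin 2) (Fin 2) K) = !![1, algebraMap k K c; 0, 1]} ∪
        {g : Matrix.SpecialLinearGroup (Fin 2) K | ∃ c : k, (g : Matrix (Fin 2) (Fin 2) K) = !![1, 0; algebraMap k K c * α, 1]}) := by
    ext g
    constructor
    · rintro ⟨x, (⟨c, rfl⟩ | ⟨c, rfl⟩), rfl⟩
      · left
        refine ⟨c, ?_⟩
        ext i j
        rw [hcoe]
        fin_cases i <;> fin_cases j <;> simp [tSL_coe]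
      · right
        refine ⟨c, ?_⟩
        ext i j
        rw [hcoe]
        fin_cases i <;> fin_cases j <;> simp [lSL_coe]
        exact Or.inl rfl
    · rintro (⟨c, hc⟩ | ⟨c, hc⟩)
      · refine ⟨tSL (algebraMap k L c), Or.inl ⟨c, rfl⟩, ?_⟩
        apply Subtype.ext
        change ((ι (tSL (algebraMap k L c)) : SpecialLinearGroup (Fin 2) K) : Matrix (Fin 2) (Fin 2) K) =
          (g : Matrix (Fin 2) (Fin 2) K)
        rw [hc]
        ext i j
        rw [hcoe]
        fin_cases i <;> fin_cases j <;> simp [tSL_coe]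
      · refine ⟨lSL (algebraMap k L c * αL), Or.inr ⟨c, rfl⟩, ?_⟩
        apply Subtype.ext
        change ((ι (lSL (algebraMap k L c * αL)) : SpecialLinearGroup (Fin 2) K) : Matrix (Fin 2) (Fin 2) K) =
          (g : Matrix (Fin 2) (Fin 2) K)
        rw [hc]
        ext i j
        rw [hcoe]
        fin_cases i <;> fin_cases j <;> simp [lSL_coe]
        exact Or.inl rfl
  rw [← himg, ← MonoidHom.map_closure]
  change ((HH (k := k) αL).map ι : Set (SpecialLinearGroup (Fin 2) K)) = _
  rw [htop]
  ext g
  constructor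
  · rintro ⟨x, -, rfl⟩ i j
    rw [hcoe]
    exact (x.1 i j).2
  · intro hg
    have hdet : (Matrix.of fun i j => (⟨(g : Matrix (Fin 2) (Fin 2) K) i j, hg i j⟩ : L)).det = 1 := by
      apply (algebraMap L K).injective
      rw [RingHom.map_det, map_one]
      have : (algebraMap L K).mapMatrix (Matrix.of fun i j => (⟨(g : Matrix (Fin 2) (Fin 2) K) i j, hg i j⟩ : L)) =
          (g : Matrix (Fin 2) (Fin 2) K) := by
        ext i j
        rfl
      rw [this]
      exact g.2
    refine ⟨⟨Matrix.of fun i j => (⟨(g : Matrix (Fin 2) (Fin 2) K) i j, hg i j⟩ : L), hdet⟩,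
      Subgroup.mem_top _, ?_⟩
    apply Subtype.ext
    ext i j
    exact hcoe _ i j

end Cfsg.Agent.S5060
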