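import Cfsg.Statements.S5067
-- import your own Cfsg.Agent.* helpers here

set_option autoImplicit false
open Cfsg

namespace Cfsg.Agent.S5067

open scoped commutatorElement

/-- The normal closure of an abelian subgroup is abelian modulo the third term of the lower central series. -/
theorem commutator_normalClosure_le {P : Type*} [Group P] (E : Subgroup P)
    (hE : ∀ a ∈ E, ∀ b ∈ E, a * b = b * a) :
    ⁅Subgroup.normalClosure (E : Set P), Subgroup.normalClosure (E : Set P)⁆ ≤
      (⊤ : Subgroup P).lowerCentralSeries 2 := by
  set L : Subgroup P := (⊤ : Subgroup P).lowerCentralSeries 2 with hL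
  have : L.Normal := by rw [hL]; infer_instance
  set π := QuotientGroup.mk' L with hπ
  have hπs : Function.Surjective π := QuotientGroup.mk'_surjective L
  -- commutators are central mod L
  have hz : ∀ c ∈ (⊤ : Subgroup P).lowerCentralSeries 1, ∀ q : P ⧸ L, Commute (π c) q := by
    intro c hc q
    obtain ⟨y, rfl⟩ := hπs q
    have h1 : ⁅c, y⁆ ∈ L := by
      rw [hL, Subgroup.lowerCentralSeries_succ]
      exact Subgroup.commutator_mem_commutator hc (Subgroup.mem_top y)
    have h2 : π ⁅c, y⁆ = 1 := (QuotientGroup.eq_one_iff _).mpr h1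
    rw [map_commutatorElement, commutatorElement_eq_one_iff_commute] at h2
    exact h2
  -- generators commute mod L
  have hgen : ∀ u ∈ Group.conjugatesOfSet (E : Set P), ∀ v ∈ Group.conjugatesOfSet (E : Set P),
      Commute (π u) (π v) := by
    intro u hu v hv
    obtain ⟨e, he, hue⟩ := Group.mem_conjugatesOfSet_iff.mp hu
    obtain ⟨f, hf, hvf⟩ := Group.mem_conjugatesOfSet_iff.mp hv
    obtain ⟨g, hg⟩ := isConj_iff.mp hue
    obtain ⟨k, hk⟩ := isConj_iff.mp hvf
    have hu' : u = ⁅g, e⁆ * e := by
      rw [← hg, commutatorElement_def]; group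
    have hv' : v = ⁅k, f⁆ * f := by
      rw [← hk, commutatorElement_def]; group
    have hc1 : ⁅g, e⁆ ∈ (⊤ : Subgroup P).lowerCentralSeries 1 := by
      rw [Subgroup.lowerCentralSeries_succ]
      exact Subgroup.commutator_mem_commutator (Subgroup.mem_top g) (Subgroup.mem_top e)
    have hc2 : ⁅k, f⁆ ∈ (⊤ : Subgroup P).lowerCentralSeries 1 := by
      rw [Subgroup.lowerCentralSeries_succ]
      exact Subgroup.commutator_mem_commutator (Subgroup.mem_top k) (Subgroup.mem_top f)
    have hef : Commute (π e) (π f) := by
      show π e * π f = π f * π e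
      rw [← map_mul, ← map_mul, hE e he f hf]
    rw [hu', hv', map_mul, map_mul]
    refine Commute.mul_left ?_ ?_
    · exact hz _ hc1 _
    · refine Commute.mul_right ?_ hef
      exact (hz _ hc2 _).symm
  -- pass to closures
  have hcl : ∀ a ∈ Subgroup.normalClosure (E : Set P), ∀ b ∈ Subgroup.normalClosure (E : Set P),
      Commute (π a) (π b) := by
    have step1 : ∀ v ∈ Group.conjugatesOfSet (E : Set P), ∀ a ∈ Subgroup.normalClosure (E : Set P),
        Commute (π a) (π v) := by
      intro v hv a ha
      have hle : Subgroup.normalClosure (E : Set P) ≤ (Subgroup.centralizer {π v}).comap π := by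
        rw [Subgroup.normalClosure]
        rw [Subgroup.closure_le]
        intro u hu
        show π u ∈ Subgroup.centralizer {π v}
        rw [Subgroup.mem_centralizer_singleton_iff]
        exact ((hgen u hu v hv).eq)
      have := hle ha
      change π a ∈ Subgroup.centralizer {π v} at this
      rw [Subgroup.mem_centralizer_singleton_iff] at this
      exact this
    intro a ha b hb
    have hle : Subgroup.normalClosure (E : Set P) ≤ (Subgroup.centralizer {π a}).comap π := by
      rw [Subgroup.normalClosure]
      rw [Subgroup.closure_le]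
      intro v hv
      show π v ∈ Subgroup.centralizer {π a}
      rw [Subgroup.mem_centralizer_singleton_iff]
      exact ((step1 v hv a ha).eq).symm
    have := hle hb
    change π b ∈ Subgroup.centralizer {π a} at this
    rw [Subgroup.mem_centralizer_singleton_iff] at this
    exact Commute.symm this
  rw [Subgroup.commutator_le]
  intro a ha b hb
  have h1 : π ⁅a, b⁆ = 1 := by
    rw [map_commutatorElement, commutatorElement_eq_one_iff_commute]
    exact hcl a ha b hb
  exact (QuotientGroup.eq_one_iff _).mp h1

theorem lowerCentralSeries_normalClosure_le {P : Type*} [Group P] (E : Subgroup P)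
    (hE : ∀ a ∈ E, ∀ b ∈ E, a * b = b * a) (n : ℕ) :
    (Subgroup.normalClosure (E : Set P)).lowerCentralSeries (n + 1) ≤
      (⊤ : Subgroup P).lowerCentralSeries (n + 2) := by
  induction n with
  | zero =>
    rw [Subgroup.lowerCentralSeries_succ, Subgroup.lowerCentralSeries_zero]
    exact commutator_normalClosure_le E hE
  | succ n ih =>
    rw [Subgroup.lowerCentralSeries_succ, Subgroup.lowerCentralSeries_succ (⊤ : Subgroup P) (n + 2)]
    exact Subgroup.commutator_mono ih le_top

theorem class_normalClosure_lt {P : Type*} [Group P] [Group.IsNilpotent P]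
    (hna : ¬ IsMulCommutative P) (E : Subgroup P) (hE : IsMulCommutative ↥E) :
    Group.nilpotencyClass ↥(Subgroup.normalClosure (E : Set P)) < Group.nilpotencyClass P := by
  have hE' : ∀ a ∈ E, ∀ b ∈ E, a * b = b * a := by
    intro a ha b hb
    have := hE.is_comm.comm (⟨a, ha⟩ : E) ⟨b, hb⟩
    exact congrArg Subtype.val this
  -- class of P is at least 2
  have h2 : 2 ≤ Group.nilpotencyClass P := by
    by_contra hlt
    push Not at hlt
    have h1 : Group.nilpotencyClass P ≤ 1 := by omega
    rw [← Subgroup.lowerCentralSeries_eq_bot_iff_nilpotencyClass_le] at h1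
    apply hna
    refine ⟨⟨fun a b => ?_⟩⟩
    have hab : ⁅a, b⁆ ∈ (⊤ : Subgroup P).lowerCentralSeries 1 := by
      rw [Subgroup.lowerCentralSeries_succ]
      exact Subgroup.commutator_mem_commutator (Subgroup.mem_top a) (Subgroup.mem_top b)
    rw [h1, Subgroup.mem_bot, commutatorElement_eq_one_iff_commute] at hab
    exact hab.eq
  obtain ⟨k, hk⟩ : ∃ k, Group.nilpotencyClass P = k + 2 := ⟨Group.nilpotencyClass P - 2, by omega⟩
  have h3 : (⊤ : Subgroup P).lowerCentralSeries (k + 2) = ⊥ := by
    rw [← hk]; exact Subgroup.lowerCentralSeries_nilpotencyClass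
  have h4 : (Subgroup.normalClosure (E : Set P)).lowerCentralSeries (k + 1) = ⊥ := by
    rw [eq_bot_iff, ← h3]
    exact lowerCentralSeries_normalClosure_le E hE' k
  have h5 : Group.nilpotencyClass ↥(Subgroup.normalClosure (E : Set P)) ≤ k + 1 := by
    rw [← Subgroup.lowerCentralSeries_eq_bot_iff_nilpotencyClass_le]
    rw [← Subgroup.top_subtype_lowerCentralSeries] at h4
    exact (Subgroup.map_eq_bot_iff_of_injective _ (Subgroup.subtype_injective _)).mp h4
  omega

/-- Let P be a non-abelian nilpotent p-group (every element of p-power order; P possibly infinite) generated by two abelian subgroups E and F. Then the normal closure of E in P, and likewise that of F, has nilpotency class strictly smaller than that of P. -/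
theorem result {P : Type*} [Group P] {p : ℕ} [Fact p.Prime] (hP : IsPGroup p P) [Group.IsNilpotent P]
    (hna : ¬ IsMulCommutative P) {E F : Subgroup P} (hE : IsMulCommutative ↥E) (hF : IsMulCommutative ↥F) (hgen : E ⊔ F = ⊤) :
    Group.nilpotencyClass ↥(Subgroup.normalClosure (E : Set P)) < Group.nilpotencyClass P ∧
    Group.nilpotencyClass ↥(Subgroup.normalClosure (F : Set P)) < Group.nilpotencyClass P := by
  exact ⟨class_normalClosure_lt hna E hE, class_normalClosure_lt hna F hF⟩

end Cfsg.Agent.S5067
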