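import Cfsg.Statements.S5081
import Cfsg.Agent.Lib.Helper26.FSAlperin
import Cfsg.Agent.Lib.Helper26.FSEssential
import Cfsg.Agent.Lib.Helper16.StronglyEmbedded

set_option autoImplicit false
open Cfsg

namespace Cfsg.Agent.S5081

open Cfsg.FusionSystem Cfsg.Agent.Lib.Helper26

variable {Ω : Type*} [Group Ω] {S : Subgroup Ω}

/-- The automorphisms of `P` that extend to a map of the system on a strictly larger subgroup. -/
def genSet (F : FusionSystem S) (P : Subgroup Ω) : Set (MulAut P) :=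
  {α : MulAut P | ∃ (Q : Subgroup Ω) (hPQ : P < Q) (φ : Q →* Ω), φ ∈ F.Hom Q ∧
    ∀ x : P, φ (Subgroup.inclusion hPQ.le x) = α x}

theorem genSet_subset (F : FusionSystem S) {P : Subgroup Ω} (hP : P ≤ S) :
    genSet F P ⊆ F.autGroup P := by
  rintro α ⟨Q, hPQ, φ, hφ, hφα⟩
  show α ∈ F.autGroup P
  rw [mem_autGroup_iff F hP]
  have : P.subtype.comp α.toMonoidHom = φ.comp (Subgroup.inclusion hPQ.le) := by
    ext x
    exact (hφα x).symm
  rw [this]
  exact inclusion_comp_mem F hPQ.le hφ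

theorem mem_genSet_of_extender [Finite S] (F : FusionSystem S) {P : Subgroup Ω} (hRec : F.IsReceptive P)
    {α : MulAut P} (hα : α ∈ F.autGroup P) {g : Ω} (hg : g ∈ extender S P (equivHom (α : P ≃* P)))
    (hgP : g ∉ P) : α ∈ genSet F P := by
  have hPS : P ≤ S := hRec.1
  have hαF : equivHom (α : P ≃* P) ∈ F.Hom P := (mem_autGroup_iff F hPS α).mp hα
  obtain ⟨ψ, hψ, hψα⟩ := hRec.2 P (equivHom (α : P ≃* P)) hαF (equivHom_range _)
  have hPN : P ≤ extender S P (equivHom (α : P ≃* P)) := le_extender hPS _ (hom_apply_mem F hαF)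
  have hlt : P < extender S P (equivHom (α : P ≃* P)) := by
    refine lt_of_le_of_ne hPN ?_
    intro h
    rw [← h] at hg
    exact hgP hg
  refine ⟨_, hlt, ψ, hψ, fun x => ?_⟩
  exact hψα x x.2 (hPN x.2)

/-- A generator conjugates some automorphism induced by an element of `N_S(P)` outside `P` into `Aut_S(P)`. -/
theorem genSet_conj [Finite S] {p : ℕ} [Fact p.Prime] (hS : IsPGroup p S) (F : FusionSystem S)
    {P : Subgroup Ω} {α : MulAut P} (hα : α ∈ genSet F P) :
    ∃ (g : Ω) (_ : g ∈ S) (hgN : g ∈ Subgroup.normalizer (P : Set Ω)) (h : Ω) (_ : h ∈ S)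
      (hhN : h ∈ Subgroup.normalizer (P : Set Ω)), g ∉ P ∧
      α * P.normalizerMonoidHom ⟨g, hgN⟩ * α⁻¹ = P.normalizerMonoidHom ⟨h, hhN⟩ := by
  obtain ⟨Q, hPQ, φ, hφ, hφα⟩ := hα
  have hQS : Q ≤ S := hom_le F hφ
  have hfinQ : Finite Q := finite_of_le hQS
  have hQp : IsPGroup p Q := hS.to_le hQS
  obtain ⟨g, hgN, hgP⟩ := exists_mem_normalizerIn_not_mem (S := Q) hQp hPQ.le hPQ.ne
  have hgQ : g ∈ Q := hgN.1
  have hgN' : g ∈ Subgroup.normalizer (P : Set Ω) := hgN.2
  have key : ∀ x : P, ((α (P.normalizerMonoidHom ⟨g, hgN'⟩ (α⁻¹ x)) : P) : Ω) =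
      φ ⟨g, hgQ⟩ * (x : Ω) * (φ ⟨g, hgQ⟩)⁻¹ := by
    intro x
    rw [← hφα]
    have h1 : Subgroup.inclusion hPQ.le (P.normalizerMonoidHom ⟨g, hgN'⟩ (α⁻¹ x)) =
        ⟨g, hgQ⟩ * Subgroup.inclusion hPQ.le (α⁻¹ x) * ⟨g, hgQ⟩⁻¹ := Subtype.ext rfl
    rw [h1, map_mul, map_mul, map_inv, hφα]
    simp
  have hhS : φ ⟨g, hgQ⟩ ∈ S := hom_apply_mem F hφ _
  have hhN : φ ⟨g, hgQ⟩ ∈ Subgroup.normalizer (P : Set Ω) :=
    mem_normalizer_of_aut (α * P.normalizerMonoidHom ⟨g, hgN'⟩ * α⁻¹) _ key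
  refine ⟨g, hQS hgQ, hgN', φ ⟨g, hgQ⟩, hhS, hhN, hgP, ?_⟩
  ext x
  exact key x

section SPE

variable {X : Type*} [Group X] [Finite X] {p : ℕ} [Fact p.Prime]

/-- A conjugate of a strongly `p`-embedded subgroup is strongly `p`-embedded. -/
theorem spe_conj {Y : Subgroup X} (hY : IsStronglyPEmbedded p Y) (x : X) :
    IsStronglyPEmbedded p (Y.map (MulAut.conj x).toMonoidHom) := by
  obtain ⟨hdiv, hYtop, Py, hΓ⟩ := hY
  have hΓ' := (Cfsg.Agent.Lib.Helper16.kGeneratedCore_one_le_iff Py.isPGroup' Y).mp hΓ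
  refine ⟨hdiv, ?_, x • Py, ?_⟩
  · intro h
    apply hYtop
    rw [eq_top_iff]
    intro y _
    have h1 : x * y * x⁻¹ ∈ Y.map (MulAut.conj x).toMonoidHom := by rw [h]; trivial
    rw [Cfsg.Agent.Lib.Helper16.mem_map_conj_iff] at h1
    simpa [mul_assoc] using h1
  · rw [Cfsg.Agent.Lib.Helper16.kGeneratedCore_one_le_iff (x • Py).isPGroup']
    intro Q hQ hQ1
    have hQ0 : Q.map (MulAut.conj x⁻¹).toMonoidHom ≤ Py := by
      rintro _ ⟨q, hq, rfl⟩
      have h1 : q ∈ ((x • Py : Sylow p X) : Subgroup X) := hQ hq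
      rw [Sylow.coe_subgroup_smul] at h1
      obtain ⟨u, hu, rfl⟩ := h1
      show x⁻¹ * ((MulAut.conj x) • u) * x⁻¹⁻¹ ∈ (Py : Subgroup X)
      have : x⁻¹ * ((MulAut.conj x) • u) * x⁻¹⁻¹ = u := by
        show x⁻¹ * (x * u * x⁻¹) * x⁻¹⁻¹ = u
        simp [mul_assoc]
      rw [this]
      exact hu
    have h2 := hΓ' _ hQ0 (Cfsg.Agent.Lib.Helper16.map_conj_ne_bot hQ1 x⁻¹)
    have h3 : Q = (Q.map (MulAut.conj x⁻¹).toMonoidHom).map (MulAut.conj x).toMonoidHom := by
      rw [Cfsg.Agent.Lib.Helper16.map_conj_map_conj, mul_inv_cancel,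
        Cfsg.Agent.Lib.Helper16.map_conj_one]
    rw [h3, Cfsg.Agent.Lib.Helper16.normalizer_map_conj]
    exact Subgroup.map_mono h2

end SPE

/-- Normalizers of nontrivial subgroups of `Out_S(P)` lie in the image of any subgroup containing the
automorphisms that extend to strictly larger subgroups (adapted from `Helper26.autGroup_le_of_not_essential`). -/
theorem normalizer_le_map_of_genSet [Finite S] {p : ℕ} [Fact p.Prime] (F : FusionSystem S)
    {P : Subgroup Ω} (hPS : P ≤ S) (hRec : F.IsReceptive P)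
    (R : Sylow p ↥(F.autGroup P))
    (hR : (R : Subgroup ↥(F.autGroup P)) = (autInducedBy S P).subgroupOf (F.autGroup P))
    (H : Subgroup (MulAut P)) (hgen : genSet F P ⊆ H)
    (U : Subgroup (↥(F.autGroup P) ⧸ (Inn P).subgroupOf (F.autGroup P)))
    (hUT : U ≤ (R : Subgroup ↥(F.autGroup P)).map (QuotientGroup.mk' ((Inn P).subgroupOf (F.autGroup P))))
    (hU : U ≠ ⊥) :
    Subgroup.normalizer (U : Set (↥(F.autGroup P) ⧸ (Inn P).subgroupOf (F.autGroup P))) ≤
      (H.subgroupOf (F.autGroup P)).map (QuotientGroup.mk' ((Inn P).subgroupOf (F.autGroup P))) := by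
  set π := QuotientGroup.mk' ((Inn P).subgroupOf (F.autGroup P)) with hπdef
  have hπ : Function.Surjective π := QuotientGroup.mk'_surjective _
  have hRmem : ∀ β : ↥(F.autGroup P), β ∈ (R : Subgroup ↥(F.autGroup P)) →
      ∃ (g : Ω) (hgS : g ∈ S) (hgN : g ∈ Subgroup.normalizer (P : Set Ω)),
        (β : MulAut P) = P.normalizerMonoidHom ⟨g, hgN⟩ := by
    intro β hβ
    rw [hR, Subgroup.mem_subgroupOf] at hβ
    obtain ⟨g, hgS, hgN, h⟩ := (mem_autInducedBy_iff' S P _).mp hβ
    exact ⟨g, hgS, hgN, h⟩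
  intro xbar hxbar
  obtain ⟨α, rfl⟩ := hπ xbar
  obtain ⟨ubar, hubar1⟩ := (Subgroup.ne_bot_iff_exists_ne_one).mp hU
  have hubar' : (ubar : _ ⧸ _) ∈ U := ubar.2
  have hubar1' : (ubar : ↥(F.autGroup P) ⧸ (Inn P).subgroupOf (F.autGroup P)) ≠ 1 := by
    intro h; apply hubar1; exact Subtype.ext h
  have h1 := hUT hubar'
  obtain ⟨β, hβR, hβ⟩ := h1
  have h2 := hUT ((Subgroup.mem_normalizer_iff.mp hxbar _).mp hubar')
  obtain ⟨γ, hγR, hγ⟩ := h2
  obtain ⟨g, hgS, hgN, hβg⟩ := hRmem β hβR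
  obtain ⟨h, hhS, hhN, hγh⟩ := hRmem γ hγR
  have h3 : γ⁻¹ * (α * β * α⁻¹) ∈ (Inn P).subgroupOf (F.autGroup P) := by
    rw [← QuotientGroup.eq]
    show π γ = π (α * β * α⁻¹)
    rw [hγ, map_mul, map_mul, map_inv, hβ]
  obtain ⟨y, hy⟩ := h3
  have hgext : g ∈ extender S P (equivHom ((α : MulAut P) : P ≃* P)) := by
    rw [mem_extender_iff]
    refine ⟨hgS, hgN, h * y, S.mul_mem hhS (hPS y.2), fun x hx => ?_⟩
    have h4 : (α : MulAut P) * (β : MulAut P) * (α : MulAut P)⁻¹ = (γ : MulAut P) * MulAut.conj y := by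
      have : ((γ⁻¹ * (α * β * α⁻¹) : ↥(F.autGroup P)) : MulAut P) = MulAut.conj y := hy.symm
      have h5 : ((γ⁻¹ * (α * β * α⁻¹) : ↥(F.autGroup P)) : MulAut P) =
          (γ : MulAut P)⁻¹ * ((α : MulAut P) * (β : MulAut P) * (α : MulAut P)⁻¹) := rfl
      rw [h5] at this
      rw [← this]
      group
    have h6 := congrArg (fun θ : MulAut P => ((θ ((α : MulAut P) x) : P) : Ω)) h4
    simp only [MulAut.mul_apply, MulAut.inv_apply_self, MulAut.conj_apply] at h6
    rw [hβg, hγh] at h6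
    show (((α : MulAut P) ⟨g * x * g⁻¹, hx⟩ : P) : Ω) = h * y * (((α : MulAut P) x : P) : Ω) * (h * y)⁻¹
    have h7 : (P.normalizerMonoidHom ⟨g, hgN⟩) x = ⟨g * x * g⁻¹, hx⟩ := Subtype.ext rfl
    rw [h7] at h6
    rw [h6]
    show h * ((y : Ω) * (((α : MulAut P) x : P) : Ω) * (y : Ω)⁻¹) * h⁻¹ = _
    group
  have hgP : g ∉ P := by
    intro hgP
    apply hubar1'
    rw [← hβ]
    show π β = 1
    rw [hπdef, QuotientGroup.mk'_apply, QuotientGroup.eq_one_iff, Subgroup.mem_subgroupOf, hβg]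
    exact ⟨⟨g, hgP⟩, by ext x; rfl⟩
  have hαH : (α : MulAut P) ∈ H := hgen (mem_genSet_of_extender F hRec α.2 hgext hgP)
  exact ⟨α, hαH, rfl⟩

/-- Let F be a saturated fusion system over a finite p-group S, P a proper subgroup of S that is fully normalized, and H the subgroup of Aut_F(P) generated by the automorphisms that extend to maps of the system defined on strictly larger subgroups of S. Then either P is not essential and H is all of Aut_F(P), or P is essential and the image of H in Out_F(P) = Aut_F(P)/Inn(P) is strongly p-embedded there. -/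
theorem result {Ω : Type*} [Group Ω] {S : Subgroup Ω} [Finite S] (p : ℕ) [Fact p.Prime] (hS : IsPGroup p S) (F : Cfsg.FusionSystem S) (hF : F.IsSaturated p) (P : Subgroup Ω) (hPS : P < S) (hPn : F.IsFullyNormalized P) (H : Subgroup (MulAut P)) (hH : H = Subgroup.closure {α : MulAut P | ∃ (Q : Subgroup Ω) (hPQ : P < Q) (φ : Q →* Ω), φ ∈ F.Hom Q ∧ ∀ x : P, φ (Subgroup.inclusion hPQ.le x) = α x}) : (¬ F.IsEssential p P ∧ H = F.autGroup P) ∨ (F.IsEssential p P ∧ ∃ _ : ((Cfsg.Inn P).subgroupOf (F.autGroup P)).Normal, Cfsg.IsStronglyPEmbedded p ((H.subgroupOf (F.autGroup P)).map (QuotientGroup.mk' ((Cfsg.Inn P).subgroupOf (F.autGroup P))))) := by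
  have hPS' : P ≤ S := hPS.le
  have hne : P ≠ S := hPS.ne
  have hRec := saturated_fn_receptive hS F hF hPn
  have hfinP : Finite P := finite_of_le hPS'
  have hHgen : H = Subgroup.closure (genSet F P) := hH
  have hHA : H ≤ F.autGroup P := by
    rw [hHgen, Subgroup.closure_le]
    exact genSet_subset F hPS'
  have hgenH : genSet F P ⊆ H := by
    rw [hHgen]
    exact Subgroup.subset_closure
  by_cases hcen : F.IsCentric P
  · -- the centric case
    obtain ⟨-, R, hR⟩ := (saturated_fn hS F hF hPn).2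
    set π := QuotientGroup.mk' ((Inn P).subgroupOf (F.autGroup P)) with hπdef
    have hπ : Function.Surjective π := QuotientGroup.mk'_surjective _
    -- `Aut_S(P) ≤ H`
    have hAutS : autInducedBy S P ≤ H := by
      intro β hβ
      obtain ⟨g, hgS, hgN, rfl⟩ := (mem_autInducedBy_iff' S P _).mp hβ
      apply hgenH
      have hlt : P < normalizerIn S P := by
        refine lt_of_le_of_ne (le_normalizerIn hPS') ?_
        intro h
        obtain ⟨x, hxN, hxP⟩ := exists_mem_normalizerIn_not_mem hS hPS' hne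
        rw [← h] at hxN
        exact hxP hxN
      exact ⟨normalizerIn S P, hlt, conjHom _ g, F.conj_mem (normalizerIn_le S P) hgS, fun x => rfl⟩
    have hInnH : Inn P ≤ H := (inn_le_autInducedBy hPS').trans hAutS
    -- a nontrivial element of `Out_S(P)`
    obtain ⟨g₀, hg₀N, hg₀P⟩ := exists_mem_normalizerIn_not_mem hS hPS' hne
    have hg₀S : g₀ ∈ S := normalizerIn_le S P hg₀N
    have hg₀N' : g₀ ∈ Subgroup.normalizer (P : Set Ω) := hg₀N.2
    have hmemR : ∀ (g : Ω) (hgS : g ∈ S) (hgN : g ∈ Subgroup.normalizer (P : Set Ω)),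
        ∃ hβF : P.normalizerMonoidHom ⟨g, hgN⟩ ∈ F.autGroup P,
          (⟨_, hβF⟩ : ↥(F.autGroup P)) ∈ (R : Subgroup ↥(F.autGroup P)) := by
      intro g hgS hgN
      have hβF : P.normalizerMonoidHom ⟨g, hgN⟩ ∈ F.autGroup P :=
        autInducedBy_le_autGroup F hPS' (normalizerMonoidHom_mem_autInducedBy hgS hgN)
      refine ⟨hβF, ?_⟩
      rw [hR, Subgroup.mem_subgroupOf]
      exact normalizerMonoidHom_mem_autInducedBy hgS hgN
    have hne1 : ∀ (g : Ω) (hgS : g ∈ S) (hgN : g ∈ Subgroup.normalizer (P : Set Ω))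
        (hβF : P.normalizerMonoidHom ⟨g, hgN⟩ ∈ F.autGroup P), g ∉ P →
        π ⟨_, hβF⟩ ≠ 1 := by
      intro g hgS hgN hβF hgP h
      rw [hπdef, QuotientGroup.mk'_apply, QuotientGroup.eq_one_iff, Subgroup.mem_subgroupOf] at h
      exact hgP (mem_of_normalizerMonoidHom_mem_inn F hcen hgS hgN h)
    have hRp : IsPGroup p ((R : Subgroup ↥(F.autGroup P)).map π) := R.isPGroup'.map π
    by_cases hHeq : H = F.autGroup P
    · -- `H = Aut_F(P)`: `P` is not essential
      left
      refine ⟨?_, hHeq⟩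
      rintro ⟨-, -, hnorm', Y, hY⟩
      obtain ⟨Py, hPyY⟩ := Cfsg.Agent.Lib.Helper16.spe_exists_sylow_le hY
      obtain ⟨x, hx⟩ := MulAction.exists_smul_eq
        (↥(F.autGroup P) ⧸ (Inn P).subgroupOf (F.autGroup P)) Py (R.mapSurjective hπ)
      have hY' := spe_conj hY x
      set Y' := Y.map (MulAut.conj x).toMonoidHom with hY'def
      have hTY' : (R : Subgroup ↥(F.autGroup P)).map π ≤ Y' := by
        intro u hu
        have h1 : u ∈ ((R.mapSurjective hπ : Sylow p _) : Subgroup _) := hu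
        rw [← hx, Sylow.coe_subgroup_smul] at h1
        obtain ⟨v, hv, rfl⟩ := h1
        exact ⟨v, hPyY hv, rfl⟩
      -- every generator lies in `Y'`
      have hgenY : ∀ α (hα : α ∈ genSet F P), π ⟨α, genSet_subset F hPS' hα⟩ ∈ Y' := by
        intro α hα
        obtain ⟨g, hgS, hgN, h, hhS, hhN, hgP, hconj⟩ := genSet_conj hS F hα
        obtain ⟨hβF, hβR⟩ := hmemR g hgS hgN
        obtain ⟨hγF, hγR⟩ := hmemR h hhS hhN
        set a : ↥(F.autGroup P) := ⟨α, genSet_subset F hPS' hα⟩ with ha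
        set u := π ⟨_, hβF⟩ with hu
        have huT : u ∈ (R : Subgroup ↥(F.autGroup P)).map π := ⟨_, hβR, rfl⟩
        have hvT : π ⟨_, hγF⟩ ∈ (R : Subgroup ↥(F.autGroup P)).map π := ⟨_, hγR, rfl⟩
        have hu1 : u ≠ 1 := hne1 g hgS hgN hβF hgP
        have hconj' : π a * u * (π a)⁻¹ = π ⟨_, hγF⟩ := by
          rw [hu, ← map_inv, ← map_mul, ← map_mul]
          congr 1
          exact Subtype.ext hconj
        by_contra hnot
        have hnot' : (π a)⁻¹ ∉ Y' := fun h => hnot (by simpa using Y'.inv_mem h)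
        have hcard := Cfsg.Agent.Lib.Helper16.spe_inter_conj hY' hnot'
        apply hcard
        have humem : u ∈ Y' ⊓ Y'.map (MulAut.conj (π a)⁻¹).toMonoidHom := by
          refine ⟨hTY' huT, ?_⟩
          refine (Cfsg.Agent.Lib.Helper16.mem_map_conj_iff _ _ _).mpr ?_
          rw [inv_inv, hconj']
          exact hTY' hvT
        -- `u` is a nontrivial `p`-element
        obtain ⟨k, hk⟩ := hRp ⟨u, huT⟩
        have hk' : u ^ p ^ k = 1 := by
          have := congrArg Subtype.val hk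
          simpa using this
        have hord : orderOf u ∣ p ^ k := orderOf_dvd_of_pow_eq_one hk'
        obtain ⟨j, -, hj⟩ := (Nat.dvd_prime_pow (Fact.out : p.Prime)).mp hord
        have hj0 : j ≠ 0 := by
          rintro rfl
          rw [pow_zero, orderOf_eq_one_iff] at hj
          exact hu1 hj
        have hpu : p ∣ orderOf u := by rw [hj]; exact dvd_pow_self p hj0
        have hdvd : orderOf u ∣ Nat.card ↥(Y' ⊓ Y'.map (MulAut.conj (π a)⁻¹).toMonoidHom) := by
          have := orderOf_dvd_natCard (⟨u, humem⟩ : ↥(Y' ⊓ Y'.map (MulAut.conj (π a)⁻¹).toMonoidHom))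
          rwa [← Subgroup.orderOf_coe] at this
        exact hpu.trans hdvd
      -- hence everything lies in `Y'`
      have hK : H ≤ (Y'.comap π).map (F.autGroup P).subtype := by
        rw [hHgen, Subgroup.closure_le]
        intro α hα
        exact ⟨⟨α, genSet_subset F hPS' hα⟩, hgenY α hα, rfl⟩
      apply hY'.2.1
      rw [eq_top_iff]
      intro ybar _
      obtain ⟨a, rfl⟩ := hπ ybar
      have haH : (a : MulAut P) ∈ H := by rw [hHeq]; exact a.2
      obtain ⟨b, hb, hba⟩ := hK haH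
      have : b = a := Subtype.ext hba
      rw [← this]
      exact hb
    · -- `H ≠ Aut_F(P)`: `P` is essential and the image of `H` is strongly `p`-embedded
      right
      have hspe : IsStronglyPEmbedded p ((H.subgroupOf (F.autGroup P)).map π) := by
        refine ⟨?_, ?_, R.mapSurjective hπ, ?_⟩
        · -- `p` divides `|Out_F(P)|`
          obtain ⟨hβF, hβR⟩ := hmemR g₀ hg₀S hg₀N'
          have hu1 := hne1 g₀ hg₀S hg₀N' hβF hg₀P
          have huT : π ⟨_, hβF⟩ ∈ (R : Subgroup ↥(F.autGroup P)).map π := ⟨_, hβR, rfl⟩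
          have hTne : (R : Subgroup ↥(F.autGroup P)).map π ≠ ⊥ := by
            intro h
            rw [h, Subgroup.mem_bot] at huT
            exact hu1 huT
          have hTcard : p ∣ Nat.card ↥((R : Subgroup ↥(F.autGroup P)).map π) := by
            obtain ⟨n, hn⟩ := IsPGroup.iff_card.mp hRp
            have hn0 : n ≠ 0 := by
              rintro rfl
              rw [pow_zero] at hn
              exact hTne ((Subgroup.card_eq_one).mp hn)
            rw [hn]
            exact dvd_pow_self p hn0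
          exact hTcard.trans (Subgroup.card_subgroup_dvd_card _)
        · -- the image of `H` is proper
          intro htop
          apply hHeq
          apply le_antisymm hHA
          intro α hα
          have h1 : π ⟨α, hα⟩ ∈ (H.subgroupOf (F.autGroup P)).map π := by rw [htop]; trivial
          obtain ⟨η, hηH, hη⟩ := h1
          have h2 : η⁻¹ * ⟨α, hα⟩ ∈ (Inn P).subgroupOf (F.autGroup P) := by
            rw [← QuotientGroup.eq]
            exact hη
          have h3 : ((η⁻¹ * ⟨α, hα⟩ : ↥(F.autGroup P)) : MulAut P) ∈ H := hInnH h2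
          have h4 : (η : MulAut P) ∈ H := hηH
          have h5 := H.mul_mem h4 h3
          have h6 : (η : MulAut P) * ((η⁻¹ * ⟨α, hα⟩ : ↥(F.autGroup P)) : MulAut P) = α := by
            show (η : MulAut P) * ((η : MulAut P)⁻¹ * α) = α
            simp
          rw [h6] at h5
          exact h5
        · -- the generated core lies in the image of `H`
          unfold kGeneratedCore
          apply iSup_le
          rintro ⟨Q, hQT, hQr⟩
          apply normalizer_le_map_of_genSet F hPS' hRec R hR H hgenH Q hQT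
          intro hQ
          exact hQr (prankLE_zero_of_eq_bot hQ)
      exact ⟨⟨hcen, hPn, inferInstance, _, hspe⟩, inferInstance, hspe⟩
  · -- the non-centric case
    left
    refine ⟨fun hess => hcen hess.1, le_antisymm hHA ?_⟩
    intro α hα
    have hfc : F.IsFullyCentralized P := (saturated_fn hS F hF hPn).1
    have hC : ¬ centralizerIn S P ≤ P := fun h => hcen (centric_of_fullyCentralized F P hfc h)
    obtain ⟨c, hcC, hcP⟩ := SetLike.not_le_iff_exists.mp hC
    apply hgenH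
    refine mem_genSet_of_extender F hRec hα (g := c) ?_ hcP
    rw [mem_extender_iff]
    refine ⟨hcC.1, Subgroup.centralizer_le_normalizer _ hcC.2, 1, S.one_mem, fun x hx => ?_⟩
    have hx' : (⟨c * (x : Ω) * c⁻¹, hx⟩ : P) = x := by
      apply Subtype.ext
      show c * (x : Ω) * c⁻¹ = x
      have := (Subgroup.mem_centralizer_iff.mp hcC.2) x x.2
      rw [← this]
      simp
    rw [hx']
    simp

end Cfsg.Agent.S5081
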