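import Cfsg.Statements.S5160
import Cfsg.Agent.Lib.Helper26.FSGroup
import Cfsg.Agent.Lib.Helper27.FSPrimeToP
import Cfsg.Agent.Lib.Helper27.FSCentric
import Cfsg.Agent.Lib.Helper26.FSInvariantFrattini

set_option autoImplicit false
open Cfsg

namespace Cfsg.Agent.S5160

/-- Let G be a finite group with nontrivial Sylow p-subgroup S and F its fusion system on S. Suppose (a) no nontrivial proper subgroup of S is strongly closed in F, and (b) the automorphisms of S induced by G are generated by those induced, for R running over the fully normalized radical centric subgroups of F, by the subgroup of N_G(R) generated by its elements of p-power order. Then F is simple. -/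
theorem result {G : Type*} [Group G] [Finite G] (p : ℕ) [Fact p.Prime] (S : Sylow p G) (hS1 : (S : Subgroup G) ≠ ⊥) (ha : ∀ T : Subgroup G, (Cfsg.groupFusionSystem (S : Subgroup G)).StronglyClosed T → T = ⊥ ∨ T = (S : Subgroup G)) (hb : Cfsg.autInducedBy ⊤ (S : Subgroup G) = ⨆ (R : Subgroup G) (_ : (Cfsg.groupFusionSystem (S : Subgroup G)).IsFullyNormalized R ∧ (Cfsg.groupFusionSystem (S : Subgroup G)).IsRadical p R ∧ (Cfsg.groupFusionSystem (S : Subgroup G)).IsCentric R), Cfsg.autInducedBy (Subgroup.closure {g : G | g ∈ Subgroup.normalizer (R : Set G) ∧ ∃ k : ℕ, orderOf g = p ^ k}) (S : Subgroup G)) : (Cfsg.groupFusionSystem (S : Subgroup G)).IsSimple p := by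
  have hpp : p.Prime := Fact.out
  have hSp : IsPGroup p ↥(S : Subgroup G) := S.isPGroup'
  have hF := Cfsg.Agent.Lib.Helper26.groupFS_saturated S
  refine ⟨hF, hS1, ?_⟩
  intro T E hE
  obtain ⟨⟨hEsat, -, hEinv⟩, -⟩ := hE
  have hT : (Cfsg.groupFusionSystem (S : Subgroup G)).StronglyClosed T := hEinv.2.1
  rcases ha T hT with hT0 | hTS
  · exact Or.inl hT0
  · right
    subst hTS
    refine ⟨rfl, ?_⟩
    have hSI : Cfsg.Agent.Lib.Helper26.StrongInv E (Cfsg.groupFusionSystem (S : Subgroup G)) :=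
      (Cfsg.Agent.Lib.Helper26.isInvariantIn_iff_strongInv p hSp _ hF E hEinv.1 hT).mp hEinv
    have hAut : (Cfsg.groupFusionSystem (S : Subgroup G)).autGroup (S : Subgroup G) ≤ E.autGroup (S : Subgroup G) := by
      rw [Cfsg.Agent.Lib.Helper26.groupFS_autGroup_eq le_rfl, hb]
      apply iSup₂_le
      rintro R ⟨hRfn, hRrad, hRcen⟩
      have hRS : R ≤ (S : Subgroup G) := hRfn.1
      have key : ∀ g ∈ Subgroup.closure {g : G | g ∈ Subgroup.normalizer (R : Set G) ∧ ∃ k : ℕ, orderOf g = p ^ k},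
          ∃ hgN : g ∈ Subgroup.normalizer (R : Set G),
            R.normalizerMonoidHom ⟨g, hgN⟩ ∈ Cfsg.Agent.Lib.Helper27.pgenAut (Cfsg.groupFusionSystem (S : Subgroup G)) p R := by
        intro g hg
        induction hg using Subgroup.closure_induction with
        | mem x hx =>
          obtain ⟨hxN, k, hk⟩ := hx
          refine ⟨hxN, ?_⟩
          have hmem : R.normalizerMonoidHom ⟨x, hxN⟩ ∈ (Cfsg.groupFusionSystem (S : Subgroup G)).autGroup R := by
            rw [Cfsg.Agent.Lib.Helper26.groupFS_autGroup_eq hRS]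
            exact Cfsg.Agent.Lib.Helper26.normalizerMonoidHom_mem_autInducedBy (Subgroup.mem_top _) hxN
          have hpow : (R.normalizerMonoidHom ⟨x, hxN⟩) ^ (p ^ k) = 1 := by
            rw [← map_pow]
            have : (⟨x, hxN⟩ : ↥(Subgroup.normalizer (R : Set G))) ^ (p ^ k) = 1 := by
              apply Subtype.ext
              show x ^ (p ^ k) = 1
              rw [← hk, pow_orderOf_eq_one]
            rw [this, map_one]
          obtain ⟨j, -, hj⟩ := (Nat.dvd_prime_pow hpp).mp (orderOf_dvd_of_pow_eq_one hpow)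
          refine ⟨⟨_, hmem⟩, Subgroup.subset_closure ⟨j, ?_⟩, rfl⟩
          rw [Subgroup.orderOf_mk]
          exact hj
        | one =>
          refine ⟨Subgroup.one_mem _, ?_⟩
          have : (⟨1, Subgroup.one_mem _⟩ : ↥(Subgroup.normalizer (R : Set G))) = 1 := rfl
          rw [this, map_one]
          exact Subgroup.one_mem _
        | mul x y _ _ hx hy =>
          obtain ⟨hxN, hx'⟩ := hx
          obtain ⟨hyN, hy'⟩ := hy
          refine ⟨Subgroup.mul_mem _ hxN hyN, ?_⟩
          have : (⟨x * y, Subgroup.mul_mem _ hxN hyN⟩ : ↥(Subgroup.normalizer (R : Set G))) = ⟨x, hxN⟩ * ⟨y, hyN⟩ := rfl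
          rw [this, map_mul]
          exact Subgroup.mul_mem _ hx' hy'
        | inv x _ hx =>
          obtain ⟨hxN, hx'⟩ := hx
          refine ⟨Subgroup.inv_mem _ hxN, ?_⟩
          have : (⟨x⁻¹, Subgroup.inv_mem _ hxN⟩ : ↥(Subgroup.normalizer (R : Set G))) = ⟨x, hxN⟩⁻¹ := rfl
          rw [this, map_inv]
          exact Subgroup.inv_mem _ hx'
      unfold Cfsg.autInducedBy
      rw [Subgroup.closure_le]
      rintro α ⟨g, hgK, hα⟩
      obtain ⟨hgN, hgp⟩ := key g hgK
      have hgE : R.normalizerMonoidHom ⟨g, hgN⟩ ∈ E.autGroup R :=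
        Cfsg.Agent.Lib.Helper27.pgenAut_le_of_strongInv hSp _ hF E hSI hRS hgp
      have hαF : α ∈ (Cfsg.groupFusionSystem (S : Subgroup G)).autGroup (S : Subgroup G) := by
        rw [Cfsg.Agent.Lib.Helper26.groupFS_autGroup_eq le_rfl, Cfsg.Agent.Lib.Helper26.mem_autInducedBy_iff]
        exact ⟨g, Subgroup.mem_top _, hα⟩
      have hψ := (Cfsg.Agent.Lib.Helper26.mem_autGroup_iff _ le_rfl α).mp hαF
      have hres : ((S : Subgroup G).subtype.comp α.toMonoidHom).comp (Subgroup.inclusion hRS) ∈ E.Hom R := by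
        have h1 := (Cfsg.Agent.Lib.Helper26.mem_autGroup_iff E hRS _).mp hgE
        have h2 : ((S : Subgroup G).subtype.comp α.toMonoidHom).comp (Subgroup.inclusion hRS) =
            R.subtype.comp (R.normalizerMonoidHom ⟨g, hgN⟩).toMonoidHom := by
          ext x
          show ((α ⟨x, hRS x.2⟩ : (S : Subgroup G)) : G) = g * (x : G) * g⁻¹
          exact hα _
        rw [h2]
        exact h1
      have hmemE := Cfsg.Agent.Lib.Helper27.mem_of_restrict_centric_mem hSp _ E hF hEsat hEinv.1 hψ R hRS hRcen hres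
      exact (Cfsg.Agent.Lib.Helper26.mem_autGroup_iff E le_rfl α).mpr hmemE
    intro P
    apply Set.Subset.antisymm (hEinv.1 P)
    intro φ hφ
    have hPS := Cfsg.Agent.Lib.Helper26.hom_le _ hφ
    obtain ⟨α, hα, φ₀, hφ₀, hφα⟩ := hEinv.2.2.2 P hPS φ hφ
    have hαE := (Cfsg.Agent.Lib.Helper26.mem_autGroup_iff E le_rfl α).mp (hAut hα)
    have hcomp := E.comp_mem hφ₀ hαE (Cfsg.Agent.Lib.Helper26.hom_apply_mem E hφ₀)
    have heq : φ = ((S : Subgroup G).subtype.comp α.toMonoidHom).comp
        (φ₀.codRestrict (S : Subgroup G) (Cfsg.Agent.Lib.Helper26.hom_apply_mem E hφ₀)) := by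
      ext x
      exact hφα x _
    rw [heq]
    exact hcomp

end Cfsg.Agent.S5160
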