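import Cfsg.Statements.S5165
import Cfsg.Agent.Lib.Helper26.AnFusJ

set_option autoImplicit false
open Cfsg

namespace Cfsg.Agent.S5165

/-- For n ≥ 6, a prime p with p² ≤ n, and n congruent to 0 or 1 modulo p, the p-fusion system of the alternating group of degree n on a Sylow p-subgroup is simple. -/
theorem result (n p : ℕ) (hn : 6 ≤ n) [Fact p.Prime] (hnp : p ^ 2 ≤ n) (hb : n % p ≤ 1) (S : Sylow p (alternatingGroup (Fin n))) : (Cfsg.groupFusionSystem (S : Subgroup (alternatingGroup (Fin n)))).IsSimple p := by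
  classical
  have hp : p.Prime := Fact.out
  by_cases hp2 : p = 2
  · subst hp2
    have hn' : (n / 2) * 2 + n % 2 = n := Nat.div_add_mod' n 2
    have hcard : Fintype.card (Cfsg.Agent.Lib.Helper26.AnFus.Om (Fin (n / 2)) (Fin (n % 2)) 2) =
        Fintype.card (Fin n) := by
      rw [Cfsg.Agent.Lib.Helper26.AnFus.card_om, Fintype.card_fin, Fintype.card_fin,
        Fintype.card_fin, hn']
    exact Cfsg.Agent.Lib.Helper26.AnFus.isSimple_two (B := Fin (n / 2)) (F := Fin (n % 2))
      (by rw [Fintype.card_fin]; omega) (by rw [Fintype.card_fin]; omega)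
      (Equiv.altCongrHom (Fintype.equivOfCardEq hcard)) S
  · have h1 : (n / p) * p + n % p = n := Nat.div_add_mod' n p
    have h2 : (n / p / p) * p + n / p % p = n / p := Nat.div_add_mod' (n / p) p
    have hm : p ≤ n / p := by
      rw [Nat.le_div_iff_mul_le hp.pos, ← pow_two]
      exact hnp
    have hm₂ : 1 ≤ n / p / p := (Nat.le_div_iff_mul_le hp.pos).mpr (by rw [one_mul]; exact hm)
    have : Nonempty (Fin (n / p / p)) := ⟨⟨0, hm₂⟩⟩
    have : Subsingleton (Fin (n % p)) := Fin.subsingleton_iff_le_one.mpr hb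
    have hcard : Fintype.card (Cfsg.Agent.Lib.Helper26.AnFus.Om2 (Fin (n / p / p))
        (Fin (n / p % p)) (Fin (n % p)) p) = Fintype.card (Fin n) := by
      rw [Cfsg.Agent.Lib.Helper26.AnFus.card_om, Cfsg.Agent.Lib.Helper26.AnFus.card_om]
      simp only [Fintype.card_fin]
      rw [h2, h1]
    exact Cfsg.Agent.Lib.Helper26.AnFus.isSimple_odd (B₂ := Fin (n / p / p))
      (F₂ := Fin (n / p % p)) (F := Fin (n % p)) hp2
      (by rw [Fintype.card_fin]; exact Nat.mod_lt _ hp.pos)
      (Equiv.altCongrHom (Fintype.equivOfCardEq hcard)) S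

end Cfsg.Agent.S5165
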