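import Cfsg.Statements.S5168
-- import your own Cfsg.Agent.* helpers here
import Cfsg.Agent.Lib.Helper3.Fus.M22Data

set_option autoImplicit false
open Cfsg

namespace Cfsg.Agent.S5168

open Cfsg.Agent.Lib.Helper3.Fus Cfsg.Agent.Lib.Helper3.FusM22 Cfsg.Agent.Lib.Helper3.OutAut

/-- The 2-fusion system of the Mathieu group M₂₂ (as the explicit permutation group carved out of the automorphism group of the binary Golay code) on a Sylow 2-subgroup is simple: saturated, over a nontrivial 2-group, with no normal subsystem other than the trivial one and itself. -/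
theorem result (S : Sylow 2 Cfsg.Spor.M22) : (Cfsg.groupFusionSystem (S : Subgroup Cfsg.Spor.M22)).IsSimple 2 := by
  have hcard : Nat.card Cfsg.Spor.M22 = 2 ^ D.us.length * 3465 := by
    rw [Cfsg.Agent.Lib.Helper3.OutM22.card_M22]; decide
  have hodd : Odd 3465 := by decide
  exact isSimple_of_perm D.S_le D.card (by decide) (factorization_two_eq hcard hodd)
    (N.normalizer_le hcard hodd (by decide +kernel)) D.fus S

end Cfsg.Agent.S5168
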