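import Cfsg.Statements.S5169
-- import your own Cfsg.Agent.* helpers here
import Cfsg.Agent.Lib.Helper3.Fus.M23Norm

set_option autoImplicit false
open Cfsg

namespace Cfsg.Agent.S5169

open Cfsg.Agent.Lib.Helper3.Fus Cfsg.Agent.Lib.Helper3.FusM23 Cfsg.Agent.Lib.Helper3.OutAut

/-- The 2-fusion system of the Mathieu group M₂₃ (as the explicit permutation group carved out of the automorphism group of the binary Golay code) on a Sylow 2-subgroup is simple: saturated, over a nontrivial 2-group, with no normal subsystem other than the trivial one and itself. -/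
theorem result (S : Sylow 2 Cfsg.Spor.M23) : (Cfsg.groupFusionSystem (S : Subgroup Cfsg.Spor.M23)).IsSimple 2 := by
  have hcard : Nat.card Cfsg.Spor.M23 = 2 ^ D.us.length * 79695 := by
    rw [Cfsg.Agent.Lib.Helper3.OutM23.card_M23]; decide
  have hodd : Odd 79695 := by decide
  exact isSimple_of_perm D.S_le D.card (by decide) (factorization_two_eq hcard hodd)
    (normalizer_subgroupOf_le D.S_le norm23) D.fus S

end Cfsg.Agent.S5169
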