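import Cfsg.Statements.S5170
-- import your own Cfsg.Agent.* helpers here
import Cfsg.Agent.Lib.Helper3.Fus.M24Data
import Cfsg.Agent.S2882

set_option autoImplicit false
open Cfsg

namespace Cfsg.Agent.S5170

open Cfsg.Agent.Lib.Helper3.Fus Cfsg.Agent.Lib.Helper3.FusM24 Cfsg.Agent.Lib.Helper3.Golay

/-- The 2-fusion system of the Mathieu group M₂₄ (as the explicit permutation group of the 24 points preserving the binary Golay code) on a Sylow 2-subgroup is simple: saturated, over a nontrivial 2-group, with no normal subsystem other than the trivial one and itself. -/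
theorem result (S : Sylow 2 Cfsg.M24) : (Cfsg.groupFusionSystem (S : Subgroup Cfsg.M24)).IsSimple 2 := by
  have hcard : Nat.card Cfsg.M24 = 2 ^ D.us.length * 239085 := by
    rw [card_M24]; decide
  have hodd : Odd 239085 := by decide
  have hfac := factorization_two_eq hcard hodd
  have hcardS : Nat.card (D.S.subgroupOf Cfsg.M24) =
      2 ^ (Nat.card Cfsg.M24).factorization 2 := by
    rw [hfac, Nat.card_congr (Subgroup.subgroupOfEquivOfLe D.S_le).toEquiv, D.card]
  have hnorm : Subgroup.normalizer ((D.S.subgroupOf Cfsg.M24 : Subgroup Cfsg.M24) : Set Cfsg.M24) ≤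
      D.S.subgroupOf Cfsg.M24 := by
    have := Cfsg.Agent.S2882.result (Sylow.ofCard (D.S.subgroupOf Cfsg.M24) hcardS)
    rw [Sylow.coe_ofCard] at this
    exact this.le
  exact isSimple_of_perm D.S_le D.card (by decide) hfac hnorm D.fus S

end Cfsg.Agent.S5170
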