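import Cfsg.Statements.S5178
import Cfsg.Agent.Lib.Helper26.ExtraspecialCenter
import Cfsg.Agent.Lib.Helper20.PGroupBasics

set_option autoImplicit false
universe u
open Cfsg

namespace Cfsg.Agent.S5178

/-- Let p be an odd prime, S a finite p-group containing an extraspecial subgroup Q of index p, and F a saturated fusion system over S whose largest subgroup normal in F is trivial. Then the centre of S equals the centre of Q. -/
theorem result {Ω : Type u} [Group Ω] {S : Subgroup Ω} [Finite S] (p : ℕ) [Fact p.Prime] (hp : Odd p) (hS : IsPGroup p S)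
    (Q : Subgroup Ω) (hQS : Q ≤ S) (hQ : Cfsg.IsExtraspecial p ↥Q) (hQi : (Q.subgroupOf S).index = p)
    (F : Cfsg.FusionSystem S) (hF : F.IsSaturated p) (hO : F.core = ⊥) :
    S ⊓ Subgroup.centralizer (S : Set Ω) = Q ⊓ Subgroup.centralizer (Q : Set Ω) := by
  have hpp : p.Prime := Fact.out
  obtain ⟨⟨hQp, hfr, hcomm⟩, hcardZ⟩ := hQ
  have hZeq := Cfsg.Agent.Lib.Helper20.center_map_subtype_eq Q
  have hZcard : Nat.card ↥(Q ⊓ Subgroup.centralizer (Q : Set Ω)) = p := by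
    rw [← hZeq, Subgroup.card_map_of_injective Q.subtype_injective]
    exact hcardZ
  have hQn : (Q.subgroupOf S).Normal :=
    Cfsg.Agent.Lib.Helper20.normal_of_index_eq_prime_of_isPGroup hpp hS _ hQi
  have hconjQ : ∀ s ∈ S, ∀ q ∈ Q, s * q * s⁻¹ ∈ Q := by
    intro s hs q hq
    have := hQn.conj_mem ⟨q, hQS hq⟩ (Subgroup.mem_subgroupOf.mpr hq) ⟨s, hs⟩
    exact Subgroup.mem_subgroupOf.mp this
  have hcommQ : ∀ a ∈ Q, ∀ b ∈ Q, a * b * a⁻¹ * b⁻¹ ∈ Q ⊓ Subgroup.centralizer (Q : Set Ω) := by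
    intro a ha b hb
    obtain ⟨a', ha'⟩ : ∃ a' : ↥Q, a' = ⟨a, ha⟩ := ⟨_, rfl⟩
    obtain ⟨b', hb'⟩ : ∃ b' : ↥Q, b' = ⟨b, hb⟩ := ⟨_, rfl⟩
    have h1 : a' * b' * a'⁻¹ * b'⁻¹ ∈ commutator ↥Q := by
      rw [commutator_def, ← commutatorElement_def]
      exact Subgroup.commutator_mem_commutator (Subgroup.mem_top _) (Subgroup.mem_top _)
    rw [hcomm] at h1
    rw [← hZeq]
    refine ⟨_, h1, ?_⟩
    rw [ha', hb']
    rfl
  have hZS : Q ⊓ Subgroup.centralizer (Q : Set Ω) ≤ S := inf_le_left.trans hQS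
  have hZn : ((Q ⊓ Subgroup.centralizer (Q : Set Ω)).subgroupOf S).Normal := by
    constructor
    intro z hz s
    rw [Subgroup.mem_subgroupOf] at hz ⊢
    rw [Cfsg.Agent.Lib.Helper26.mem_inf_centralizer_iff] at hz ⊢
    refine ⟨hconjQ s s.2 z hz.1, fun q hq => ?_⟩
    have h1 := hz.2 ((s : Ω)⁻¹ * q * ((s : Ω)⁻¹)⁻¹) (hconjQ _ (S.inv_mem s.2) q hq)
    rw [inv_inv] at h1
    show q * ((s : Ω) * (z : Ω) * (s : Ω)⁻¹) = (s : Ω) * (z : Ω) * (s : Ω)⁻¹ * q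
    calc q * ((s : Ω) * (z : Ω) * (s : Ω)⁻¹) = (s : Ω) * (((s : Ω)⁻¹ * q * (s : Ω)) * (z : Ω)) * (s : Ω)⁻¹ := by group
      _ = (s : Ω) * ((z : Ω) * ((s : Ω)⁻¹ * q * (s : Ω))) * (s : Ω)⁻¹ := by rw [h1]
      _ = (s : Ω) * (z : Ω) * (s : Ω)⁻¹ * q := by group
  have hZle : Q ⊓ Subgroup.centralizer (Q : Set Ω) ≤ S ⊓ Subgroup.centralizer (S : Set Ω) := by
    have hcardN : Nat.card ((Q ⊓ Subgroup.centralizer (Q : Set Ω)).subgroupOf S) = p := by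
      rw [Nat.card_congr (Subgroup.subgroupOfEquivOfLe hZS).toEquiv]
      exact hZcard
    have hle := Cfsg.Agent.Lib.Helper20.le_center_of_normal_of_card_eq_prime hS _ hcardN
    intro z hz
    have h1 : (⟨z, hZS hz⟩ : S) ∈ Subgroup.center ↥S := hle (Subgroup.mem_subgroupOf.mpr hz)
    exact (Cfsg.Agent.Lib.Helper26.mem_center_iff_coe _).mp h1
  apply le_antisymm _ hZle
  by_contra hnot
  obtain ⟨c, hcA, hcZ⟩ := SetLike.not_le_iff_exists.mp hnot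
  have hcA' := Cfsg.Agent.Lib.Helper26.mem_inf_centralizer_iff.mp hcA
  have hcQ : c ∉ Q := by
    intro hcQ
    apply hcZ
    rw [Cfsg.Agent.Lib.Helper26.mem_inf_centralizer_iff]
    exact ⟨hcQ, fun q hq => hcA'.2 q (hQS hq)⟩
  -- every element of `S` is `q * c ^ i`
  have hidx : Nat.card S = p * Nat.card (Q.subgroupOf S) := by
    rw [← hQi, mul_comm]
    exact (Subgroup.card_mul_index _).symm
  have hdec : ∀ s ∈ S, ∃ i : ℕ, s * (c ^ i)⁻¹ ∈ Q := by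
    intro s hs
    rcases Cfsg.Agent.Lib.Helper26.mem_or_exists_pow_mem hidx (⟨c, hcA'.1⟩ : S) ⟨s, hs⟩ with h1 | ⟨i, hi⟩
    · exact absurd (Subgroup.mem_subgroupOf.mp h1) hcQ
    · exact ⟨i, Subgroup.mem_subgroupOf.mp hi⟩
  have hccomm : ∀ (i : ℕ) (s : Ω), s ∈ S → s * c ^ i = c ^ i * s := by
    intro i s hs
    have : Commute s c := hcA'.2 s hs
    exact (this.pow_right i).eq
  -- a generator of `Z(Q)`
  have hZne : ∃ z₀ ∈ Q ⊓ Subgroup.centralizer (Q : Set Ω), z₀ ≠ 1 := by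
    by_contra hno
    push Not at hno
    have hbot : Q ⊓ Subgroup.centralizer (Q : Set Ω) = ⊥ := by
      rw [eq_bot_iff]
      intro z hz
      rw [Subgroup.mem_bot]
      exact hno z hz
    rw [hbot, Subgroup.card_bot] at hZcard
    exact hpp.one_lt.ne hZcard
  obtain ⟨z₀, hz₀Z, hz₀1⟩ := hZne
  have hgen := Cfsg.Agent.Lib.Helper26.exists_pow_eq_of_prime_card hZcard hz₀Z hz₀1
  have hz₀p : z₀ ^ p = 1 := by
    have h1 : (⟨z₀, hz₀Z⟩ : ↥(Q ⊓ Subgroup.centralizer (Q : Set Ω))) ^ p = 1 := by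
      rw [← hZcard]
      exact pow_card_eq_one'
    exact congrArg Subtype.val h1
  have hCT : Cfsg.Agent.Lib.Helper26.ClassTwo S z₀ p := by
    refine ⟨hZS hz₀Z, fun q hq => ?_, ?_, hz₀p, hz₀1⟩
    · exact (Cfsg.Agent.Lib.Helper26.mem_inf_centralizer_iff.mp (hZle hz₀Z)).2 q hq
    · intro a ha b hb
      obtain ⟨i, hi⟩ := hdec a ha
      obtain ⟨j, hj⟩ := hdec b hb
      obtain ⟨a₁, ha₁⟩ : ∃ a₁, a₁ = a * (c ^ i)⁻¹ := ⟨_, rfl⟩
      obtain ⟨b₁, hb₁⟩ : ∃ b₁, b₁ = b * (c ^ j)⁻¹ := ⟨_, rfl⟩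
      have ha₁Q : a₁ ∈ Q := ha₁ ▸ hi
      have hb₁Q : b₁ ∈ Q := hb₁ ▸ hj
      have ea : a = a₁ * c ^ i := by rw [ha₁]; group
      have eb : b = b₁ * c ^ j := by rw [hb₁]; group
      have h1 : a * b * a⁻¹ * b⁻¹ = a₁ * b₁ * a₁⁻¹ * b₁⁻¹ := by
        have c1 : Commute (c ^ i) b₁ := (hccomm i b₁ (hQS hb₁Q)).symm
        have c2 : Commute (c ^ i) a₁ := (hccomm i a₁ (hQS ha₁Q)).symm
        have c3 : Commute (c ^ j) a₁ := (hccomm j a₁ (hQS ha₁Q)).symm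
        have c4 : Commute (c ^ j) b₁ := (hccomm j b₁ (hQS hb₁Q)).symm
        have c5 : Commute (c ^ i) (c ^ j) := (Commute.refl c).pow_pow i j
        rw [ea, eb]
        calc a₁ * c ^ i * (b₁ * c ^ j) * (a₁ * c ^ i)⁻¹ * (b₁ * c ^ j)⁻¹
            = a₁ * (c ^ i * b₁) * (c ^ j * (c ^ i)⁻¹) * a₁⁻¹ * (c ^ j)⁻¹ * b₁⁻¹ := by group
          _ = a₁ * (b₁ * c ^ i) * ((c ^ i)⁻¹ * c ^ j) * a₁⁻¹ * (c ^ j)⁻¹ * b₁⁻¹ := by
              rw [c1.eq, c5.symm.inv_right.eq]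
          _ = a₁ * b₁ * (c ^ j * a₁⁻¹) * (c ^ j)⁻¹ * b₁⁻¹ := by group
          _ = a₁ * b₁ * (a₁⁻¹ * c ^ j) * (c ^ j)⁻¹ * b₁⁻¹ := by rw [c3.inv_right.eq]
          _ = a₁ * b₁ * a₁⁻¹ * b₁⁻¹ := by group
      rw [h1]
      obtain ⟨k, -, hk⟩ := hgen _ (hcommQ a₁ ha₁Q b₁ hb₁Q)
      rw [hk]
      exact Subgroup.pow_mem _ (Subgroup.mem_zpowers z₀) k
  have hp2 : p ≠ 2 := by
    rintro rfl
    exact absurd hp (by decide)
  have hle := Cfsg.Agent.Lib.Helper26.center_le_of_classTwo hS F hF hp2 hCT hO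
  have hcz : c ∈ Subgroup.zpowers z₀ := hle hcA
  exact hcQ ((Subgroup.zpowers_le.mpr hz₀Z.1) hcz)

end Cfsg.Agent.S5178
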