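import Cfsg.Statements.S5179
import Cfsg.Agent.Lib.Helper26.ExtraspecialIndexP

set_option autoImplicit false
universe u
open Cfsg

namespace Cfsg.Agent.S5179

/-- Let p be an odd prime, S a finite p-group of order at least p⁶ containing an extraspecial subgroup Q of index p, and F a saturated fusion system over S whose largest subgroup normal in F is trivial. Then no proper subgroup of Q is essential in F: an essential subgroup of F contained in Q equals Q. -/
theorem result {Ω : Type u} [Group Ω] {S : Subgroup Ω} [Finite S] (p : ℕ) [Fact p.Prime] (hp : Odd p) (hS : IsPGroup p S)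
    (Q : Subgroup Ω) (hQS : Q ≤ S) (hQ : Cfsg.IsExtraspecial p ↥Q) (hQi : (Q.subgroupOf S).index = p)
    (h6 : p ^ 6 ≤ Nat.card S)
    (F : Cfsg.FusionSystem S) (hF : F.IsSaturated p) (hO : F.core = ⊥)
    (E : Subgroup Ω) (hEQ : E ≤ Q) (hE : F.IsEssential p E) : E = Q := by
  have hpp : p.Prime := Fact.out
  obtain ⟨⟨hQp, hfr, hcomm⟩, hcardZ⟩ := hQ
  have hCC : Cfsg.Agent.Lib.Helper26.CentralComm Q ((Subgroup.center ↥Q).map Q.subtype) := by
    refine ⟨?_, ?_, ?_, ?_⟩
    · rintro _ ⟨z, -, rfl⟩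
      exact z.2
    · rintro _ ⟨z, hz, rfl⟩ q hq
      have := Subgroup.mem_center_iff.mp hz ⟨q, hq⟩
      exact congrArg Subtype.val this
    · intro a ha b hb
      obtain ⟨a', ha'⟩ : ∃ a' : ↥Q, a' = ⟨a, ha⟩ := ⟨_, rfl⟩
      obtain ⟨b', hb'⟩ : ∃ b' : ↥Q, b' = ⟨b, hb⟩ := ⟨_, rfl⟩
      have h1 : a' * b' * a'⁻¹ * b'⁻¹ ∈ commutator ↥Q := by
        rw [commutator_def, ← commutatorElement_def]
        exact Subgroup.commutator_mem_commutator (Subgroup.mem_top _) (Subgroup.mem_top _)
      rw [hcomm] at h1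
      refine ⟨_, h1, ?_⟩
      rw [ha', hb']
      rfl
    · intro a ha hcen
      refine ⟨⟨a, ha⟩, ?_, rfl⟩
      rw [SetLike.mem_coe, Subgroup.mem_center_iff]
      intro g
      apply Subtype.ext
      exact hcen g g.2
  have hZcard : Nat.card ((Subgroup.center ↥Q).map Q.subtype) = p := by
    rw [Subgroup.card_map_of_injective Q.subtype_injective]
    exact hcardZ
  have hcard : p ^ 3 < Nat.card Q := by
    have h1 := Subgroup.card_mul_index (Q.subgroupOf S)
    rw [hQi] at h1
    have h2 : Nat.card (Q.subgroupOf S) = Nat.card Q :=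
      Nat.card_congr (Subgroup.subgroupOfEquivOfLe hQS).toEquiv
    rw [h2] at h1
    by_contra hle
    push Not at hle
    have h4 : Nat.card S ≤ p ^ 3 * p := by
      rw [← h1]
      exact Nat.mul_le_mul_right p hle
    have h3 : p ^ 3 * p < p ^ 6 := by
      calc p ^ 3 * p = p ^ 4 := by ring
        _ < p ^ 6 := Nat.pow_lt_pow_right hpp.one_lt (by norm_num)
    omega
  exact Cfsg.Agent.Lib.Helper26.essential_eq_of_le_centralComm hS F hQS hCC hZcard hcard hEQ hE

end Cfsg.Agent.S5179
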