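import Cfsg.Statements.S5186
import Cfsg.Agent.Lib.Helper26.OrderPCubeB

set_option autoImplicit false
universe u
open Cfsg

namespace Cfsg.Agent.S5186

/-- Let F be a saturated fusion system over a finite p-group S and H an essential subgroup of order p³. Then H is elementary abelian, or p is odd and H is extraspecial of exponent p, or p = 2 and H is the quaternion group of order 8. -/
theorem result {Ω : Type u} [Group Ω] {S : Subgroup Ω} [Finite S] (p : ℕ) [Fact p.Prime] (hS : IsPGroup p S)
    (F : Cfsg.FusionSystem S) (hF : F.IsSaturated p) (H : Subgroup Ω) (hH : F.IsEssential p H) (hcard : Nat.card H = p ^ 3) :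
    Cfsg.IsElementaryAbelian p H ∨ (Odd p ∧ Cfsg.IsExtraspecial p ↥H ∧ ∀ x ∈ H, x ^ p = 1) ∨
      (p = 2 ∧ Nonempty (↥H ≃* QuaternionGroup 2)) := by
  have hHS : H ≤ S := hH.1.1
  haveI : Finite H := Cfsg.Agent.Lib.Helper26.finite_of_le hHS
  have hd := Cfsg.Agent.Lib.Helper26.essData_of_essential hS F hH
  rcases hd.order_cube hcard with ⟨h1, h2⟩ | ⟨h1, h2, h3⟩ | h
  · left
    refine ⟨⟨⟨fun a b => h1 a b⟩⟩, fun a ha => ?_⟩
    have := congrArg Subtype.val (h2 ⟨a, ha⟩)
    simpa using this
  · right
    left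
    refine ⟨h1, h2, fun a ha => ?_⟩
    have := congrArg Subtype.val (h3 ⟨a, ha⟩)
    simpa using this
  · right
    right
    exact h

end Cfsg.Agent.S5186
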