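import Cfsg.Statements.S5187
import Cfsg.Agent.Lib.Helper26.AbRankTwoF
import Cfsg.Agent.Lib.Helper26.FSEssentialRankTwo

set_option autoImplicit false
universe u
open Cfsg

namespace Cfsg.Agent.S5187

/-- Let F be a saturated fusion system over a finite p-group S and H an abelian essential subgroup that can be generated by two elements (its Frattini quotient has order at most p²). Then H is elementary abelian of order p², or p ≤ 3 and H is homocyclic of rank two, that is isomorphic to C_{pᵏ} × C_{pᵏ} for some k. -/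
theorem result {Ω : Type u} [Group Ω] {S : Subgroup Ω} [Finite S] (p : ℕ) [Fact p.Prime] (hS : IsPGroup p S)
    (F : Cfsg.FusionSystem S) (hF : F.IsSaturated p) (H : Subgroup Ω) (hH : F.IsEssential p H) (hab : IsMulCommutative ↥H) (hrk : (frattini ↥H).index ≤ p ^ 2) :
    (Cfsg.IsElementaryAbelian p H ∧ Nat.card H = p ^ 2) ∨
      (p ≤ 3 ∧ ∃ k : ℕ, Nonempty (↥H ≃* Multiplicative (ZMod (p ^ k) × ZMod (p ^ k)))) := by
  have hHS : H ≤ S := hH.1.1
  haveI : Finite H := Cfsg.Agent.Lib.Helper26.finite_of_le hHS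
  have hcomm : ∀ a b : H, a * b = b * a := isMulCommutative_iff.mp hab
  obtain ⟨hdvd, hcore⟩ := Cfsg.Agent.Lib.Helper26.autGroup_of_essential_comm F hH hcomm
  have hHp : IsPGroup p H := hS.to_le hHS
  rcases Cfsg.Agent.Lib.Helper26.abelian_rank_two' hcomm hHp hdvd hcore hrk with ⟨h1, h2⟩ | h
  · left
    refine ⟨⟨hab, fun a ha => ?_⟩, h2⟩
    have := congrArg Subtype.val (h1 ⟨a, ha⟩)
    simpa using this
  · right
    exact h

end Cfsg.Agent.S5187
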