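import Cfsg.Statements.S5199
import Cfsg.Agent.Lib.Helper26.FSSubsystem

set_option autoImplicit false
open Cfsg

namespace Cfsg.Agent.S5199

open Cfsg.FusionSystem Cfsg.Agent.Lib.Helper26

section aux

variable {Ω : Type*} [Group Ω]

/-- Restriction of a fusion system to a strongly closed subgroup. -/
def restrictTo {U : Subgroup Ω} (F₀ : FusionSystem U) (T : Subgroup Ω) (hT : F₀.StronglyClosed T) :
    FusionSystem T where
  Hom P := {φ | φ ∈ F₀.Hom P ∧ P ≤ T}
  le_of_mem := by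
    rintro P φ ⟨hφ, hP⟩
    exact ⟨hP, fun x => hT.2 P hP φ hφ x⟩
  injective_of_mem := by
    rintro P φ ⟨hφ, -⟩
    exact F₀.injective_of_mem hφ
  conj_mem := by
    intro P g hP hg
    exact ⟨F₀.conj_mem (hP.trans hT.1) (hT.1 hg), hP⟩
  comp_mem := by
    rintro P Q φ ψ ⟨hφ, hP⟩ ⟨hψ, hQ⟩ h
    exact ⟨F₀.comp_mem hφ hψ h, hP⟩
  inv_mem := by
    rintro P φ ⟨hφ, hP⟩
    obtain ⟨ψ, hψ, hψφ⟩ := F₀.inv_mem hφ
    refine ⟨ψ, ⟨hψ, ?_⟩, hψφ⟩
    rintro _ ⟨x, rfl⟩
    exact hT.2 P hP φ hφ x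

end aux

/-- Let F be a saturated fusion system over a finite p-group S, E a normal subsystem of F over T, and F₀ a normal subsystem of F over a subgroup U containing both T and the hyperfocal subgroup of F, such that F₀ has p-power index in F. Then E is a subsystem of F₀. -/
theorem result {Ω : Type*} [Group Ω] {S : Subgroup Ω} [Finite S] (p : ℕ) [Fact p.Prime] (hS : IsPGroup p S) (F : Cfsg.FusionSystem S) (hF : F.IsSaturated p) {T U : Subgroup Ω} (E : Cfsg.FusionSystem T) (hE : E.IsNormalIn F p) (F₀ : Cfsg.FusionSystem U) (hF₀ : F₀.IsNormalIn F p) (hU : T ⊔ F.hyperfocalSubgroup p ≤ U) (hidx : F₀.HasPPowerIndexIn F p) : E.IsSubsystemOf F₀ := by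
  obtain ⟨⟨hEsat, -, hEsub, hTsc, -, -⟩, -⟩ := hE
  obtain ⟨hF₀sub, -, hres⟩ := hidx
  have hTU : T ≤ U := le_sup_left.trans hU
  have hTS : T ≤ S := hTsc.1
  have hfinT : Finite T := finite_of_le hTS
  have hTsc₀ : F₀.StronglyClosed T := ⟨hTU, fun R hR φ hφ x => hTsc.2 R hR φ (hF₀sub _ hφ) x⟩
  have key := alperin (hS.to_le hTS) E hEsat (restrictTo F₀ T hTsc₀) ?_
  · intro P φ hφ
    exact (key P hφ).1
  intro P hP α hα
  have hPfn : E.IsFullyNormalized P := by
    rcases hP with rfl | hP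
    · exact top_fullyNormalized E
    · exact hP.2.1
  have hPT : P ≤ T := hPfn.1
  obtain ⟨β, hβ, s, hsT, hsN, hαβ⟩ :=
    exists_mul_pResidual_autS (hS.to_le hTS) E hEsat hPfn ⟨α, hα⟩
  have hαβ' : α = (β : MulAut P) * P.normalizerMonoidHom ⟨s, hsN⟩ := hαβ
  rw [hαβ']
  apply mul_mem
  · have hle : E.autGroup P ≤ F.autGroup P := by
      intro γ hγ
      rw [mem_autGroup_iff E hPT] at hγ
      rw [mem_autGroup_iff F (hPT.trans hTS)]
      exact hEsub _ hγ
    have h1 := map_pResidual_le_of_injective p (Subgroup.inclusion hle)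
      (Subgroup.inclusion_injective hle) ⟨β, hβ, rfl⟩
    have h2 : (β : MulAut P) ∈ F₀.autGroup P :=
      hres P (hPT.trans hTU) ⟨Subgroup.inclusion hle β, h1, rfl⟩
    rw [mem_autGroup_iff (restrictTo F₀ T hTsc₀) hPT]
    exact ⟨(mem_autGroup_iff F₀ (hPT.trans hTU) _).mp h2, hPT⟩
  · exact autInducedBy_le_autGroup (restrictTo F₀ T hTsc₀) hPT
      (normalizerMonoidHom_mem_autInducedBy hsT hsN)

end Cfsg.Agent.S5199
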