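import Cfsg.Statements.S5206
import Cfsg.Agent.Lib.Helper27.QdGroup2
import Cfsg.Agent.Lib.Helper27.GroupModel
import Cfsg.Agent.Lib.Helper26.ModelH

set_option autoImplicit false
universe u
open Cfsg

namespace Cfsg.Agent.S5206

/-- Let p be an odd prime, G a finite group and P a Sylow p-subgroup of G. Then the fusion system of G on P is Qd(p)-free (Qd(p), the natural semidirect product of an elementary abelian group of order p² by SL₂(p), is not involved in any model of the normalizer system of a fully normalized centric subgroup) if and only if Qd(p) is not involved in G. -/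
theorem result {G : Type u} [Group G] [Finite G] {p : ℕ} [Fact p.Prime] (hp : p ≠ 2) (P : Sylow p G) : (Cfsg.groupFusionSystem (P : Subgroup G)).IsSectionFree p ↥(Cfsg.qd p) ↔ ¬ Cfsg.Involves ↥(Cfsg.qd p) G := by
  classical
  haveI hFin : ∀ B : Subgroup G, Finite ↥B := fun _ => inferInstance
  have hincl : ∀ Q : Subgroup G, ∃ ι₀ : ↥(Cfsg.FusionSystem.normalizerIn (P : Subgroup G) Q) →* ↥(Subgroup.normalizer (Q : Set G)),
      ∀ x, ((ι₀ x : ↥(Subgroup.normalizer (Q : Set G))) : G) = x := by
    intro Q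
    have hle : Cfsg.FusionSystem.normalizerIn (P : Subgroup G) Q ≤ Subgroup.normalizer (Q : Set G) := inf_le_right
    exact ⟨Subgroup.inclusion hle, fun x => rfl⟩
  constructor
  · intro hfree hinv
    have h0 : Cfsg.Involves ↥(Cfsg.qd p) ↥(Subgroup.normalizer (((⊥ : Subgroup G) : Subgroup G) : Set G)) := by
      have htop : Subgroup.normalizer (((⊥ : Subgroup G) : Subgroup G) : Set G) = ⊤ :=
        Subgroup.normalizer_eq_top_iff.mpr inferInstance
      rw [htop]
      exact Cfsg.Agent.Lib.Helper27.involves_of_injective (Subgroup.topEquiv (G := G)).symm.toMonoidHom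
        (Subgroup.topEquiv (G := G)).symm.injective hinv
    obtain ⟨Q', hQ'P, hQ'N, hQ'c, hQ'inv⟩ :=
      Cfsg.Agent.Lib.Helper27.QdGroup.exists_centric_involves hp P _ ⊥ IsPGroup.of_bot rfl h0
    have hfn : (Cfsg.groupFusionSystem (P : Subgroup G)).IsFullyNormalized Q' :=
      (Cfsg.Agent.Lib.Helper26.groupFS_fullyNormalized_iff P hQ'P).mpr hQ'N
    have hc : (Cfsg.groupFusionSystem (P : Subgroup G)).IsCentric Q' :=
      Cfsg.Agent.Lib.Helper27.QdGroup.groupFS_isCentric_of_centralizerIn_le P hQ'P hQ'N hQ'c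
    obtain ⟨ι₀, hι₀⟩ := hincl Q'
    have hmodel := Cfsg.Agent.Lib.Helper27.FM.groupFS_normalizer_model P hfn hc
      (Cfsg.Agent.Lib.Helper26.normalizerSystem (Cfsg.groupFusionSystem (P : Subgroup G)) Q' hQ'P)
      (Cfsg.Agent.Lib.Helper26.normalizerSystem_isNormalizerSystem _ Q' hQ'P) ι₀ hι₀
    haveI := Cfsg.Agent.Lib.Helper24.pPrimeCore_normal' (G := ↥(Subgroup.normalizer (Q' : Set G))) p
    exact hfree Q' hfn hc _ (Cfsg.Agent.Lib.Helper26.normalizerSystem_isNormalizerSystem _ Q' hQ'P) _ _ hmodel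
      (Cfsg.Agent.Lib.Helper27.QdGroup.involves_qd_quotient_of_coprime _
        (Cfsg.Agent.Lib.Helper12.pPrimeCore_coprime p) hQ'inv)
  · intro hG Q hfn hc N hN L _ ι hL hinvL
    obtain ⟨ι₀, hι₀⟩ := hincl Q
    have hmodel := Cfsg.Agent.Lib.Helper27.FM.groupFS_normalizer_model P hfn hc N hN ι₀ hι₀
    haveI := Cfsg.Agent.Lib.Helper24.pPrimeCore_normal' (G := ↥(Subgroup.normalizer (Q : Set G))) p
    have hTp : IsPGroup p ↥(Cfsg.FusionSystem.normalizerIn (P : Subgroup G) Q) := P.isPGroup'.to_le inf_le_left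
    obtain ⟨φ, -⟩ := Cfsg.Agent.Lib.Helper26.ModelThm.model_unique hTp ι _ hL hmodel
    have h1 := Cfsg.Agent.Lib.Helper27.involves_of_injective φ.toMonoidHom φ.injective hinvL
    have h2 := Cfsg.Agent.Lib.Helper27.SectionLift.involves_of_surjective
      (QuotientGroup.mk' (Cfsg.pPrimeCore p ↥(Subgroup.normalizer (Q : Set G))))
      (QuotientGroup.mk'_surjective _) h1
    exact hG (Cfsg.Agent.Lib.Helper27.involves_of_injective (Subgroup.normalizer (Q : Set G)).subtype
      (Subgroup.subtype_injective _) h2)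

end Cfsg.Agent.S5206
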