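import Cfsg.Statements.S5220
import Cfsg.Agent.Lib.Helper27.GN5

set_option autoImplicit false
open Cfsg Cfsg.FusionSystem Cfsg.Agent.Lib.Helper27.GN Cfsg.Agent.Lib.Helper27.KL Cfsg.Agent.Lib.Helper27.FM
  Cfsg.Agent.Lib.Helper26

namespace Cfsg.Agent.S5220

/-- Let F be a saturated fusion system over a nontrivial finite p-group S, let J(S) be the subgroup generated by the abelian subgroups of S of largest order, and let V be the subgroup generated by the p-th powers of the elements of Z(S). Then F is generated by the centralizer fusion system of V and the normalizer fusion system of J(S): every fusion system over S containing the maps of both contains every map of F. -/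
theorem result {Ω : Type*} [Group Ω] {S : Subgroup Ω} [Finite S] (p : ℕ) [Fact p.Prime] (hS : IsPGroup p S) (F : Cfsg.FusionSystem S) (hF : F.IsSaturated p) (hS1 : S ≠ ⊥) (C : Cfsg.FusionSystem (Cfsg.FusionSystem.centralizerIn S (Cfsg.powerClosure p 1 (S ⊓ Subgroup.centralizer (S : Set Ω))))) (hC : F.IsCentralizerSystem (Cfsg.powerClosure p 1 (S ⊓ Subgroup.centralizer (S : Set Ω))) C) (N : Cfsg.FusionSystem (Cfsg.FusionSystem.normalizerIn S (Cfsg.thompsonSubgroupAOf S))) (hN : F.IsNormalizerSystem (Cfsg.thompsonSubgroupAOf S) N) (E : Cfsg.FusionSystem S) (hCE : C.IsSubsystemOf E) (hNE : N.IsSubsystemOf E) : F.IsSubsystemOf E := by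
  classical
  have hW := posChar_JF.{u_1} p
  have hWZ : ∀ (Q : Type u_1) [Group Q] [Finite Q], IsPGroup p Q → Subgroup.center Q ≤ JF Q :=
    fun Q _ _ _ => center_le_JF Q
  have hq := quadProp_JF.{u_1} p
  -- the class of maps of `E`
  let 𝒞 : MapClass Ω :=
    { C := fun R θ => IsFM E R θ
      mono := fun h hle => h.mono hle
      congr := fun h he => h.congr he
      comp := fun h h' hRR' => h.comp h' hRR'
      inverse := by
        intro R R' θ θinv h hi hinv
        obtain ⟨θ₂, hθ₂, -, hl, hr⟩ := h.exists_inverse hi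
        refine hθ₂.congr (fun y hy => ?_)
        obtain ⟨x, hx, rfl⟩ := (hi y).mp hy
        rw [hl x hx, hinv x hx] }
  have hXeq : agemoCenter p S = Cfsg.powerClosure p 1 (S ⊓ Subgroup.centralizer (S : Set Ω)) := by
    unfold agemoCenter Cfsg.powerClosure
    congr 1
    ext y
    constructor
    · rintro ⟨z, hz, rfl⟩
      exact ⟨z, hz, by rw [pow_one]⟩
    · rintro ⟨z, hz, rfl⟩
      exact ⟨z, hz, by rw [pow_one]⟩
  have hXS : agemoCenter p S ≤ S := by
    intro q hq
    obtain ⟨z, hzS, -, rfl⟩ := exists_of_mem_agemoCenter hq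
    exact S.pow_mem hzS p
  have hXc : ∀ s ∈ S, ∀ q ∈ agemoCenter p S, q * s = s * q := by
    intro s hs q hq
    obtain ⟨z, hzS, hzc, rfl⟩ := exists_of_mem_agemoCenter hq
    have hc : Commute s z := hzc s hs
    exact (hc.pow_right p).eq.symm
  have hfix : FixIn 𝒞 F (agemoCenter p S) := by
    intro R θ hθ hXR hθX
    have hRS : R ≤ S := hθ.le
    obtain ⟨φ, hφ, hφθ⟩ := hθ
    have hcS : ∀ x ∈ S, x ∈ Cfsg.FusionSystem.centralizerIn S
        (Cfsg.powerClosure p 1 (S ⊓ Subgroup.centralizer (S : Set Ω))) := by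
      intro x hx
      refine ⟨hx, ?_⟩
      show x ∈ Subgroup.centralizer _
      rw [Subgroup.mem_centralizer_iff]
      intro q hq
      rw [SetLike.mem_coe, ← hXeq] at hq
      exact hXc x hx q hq
    have hφC : φ ∈ C.Hom R := by
      rw [hC R]
      refine ⟨hφ, fun x hx => hcS x (hRS hx), fun x => hcS _ (hom_apply_mem F hφ x), ?_⟩
      have h1 : IsFM F R θ := ⟨φ, hφ, hφθ⟩
      have hXR' : Cfsg.powerClosure p 1 (S ⊓ Subgroup.centralizer (S : Set Ω)) ≤ R := by
        rw [← hXeq]; exact hXR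
      have h2 : IsFM F (R ⊔ Cfsg.powerClosure p 1 (S ⊓ Subgroup.centralizer (S : Set Ω))) θ :=
        h1.of_eq (sup_eq_left.mpr hXR')
      obtain ⟨ψ, hψ, hψθ⟩ := h2
      refine ⟨ψ, hψ, fun x => ?_, fun x => ?_⟩
      · rw [hψθ, hφθ]
        rfl
      · rw [hψθ]
        apply hθX
        rw [hXeq]
        exact x.2
    exact ⟨φ, hCE R hφC, hφθ⟩
  have hJS : WS JF S = Cfsg.thompsonSubgroupAOf S := rfl
  have hnrm : NormIn 𝒞 JF F := by
    intro R θ hθ hWR hθW
    have hRS : R ≤ S := hθ.le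
    have hNS : ∀ x ∈ S, x ∈ Cfsg.FusionSystem.normalizerIn S (Cfsg.thompsonSubgroupAOf S) := by
      intro x hx
      refine ⟨hx, ?_⟩
      haveI : Finite ↥(WS JF S) := finite_of_le (WS_le JF S)
      rw [← hJS]
      apply mem_normalizer_of_conj_mem_finite
      intro u hu
      exact hW.conj_mem hS (Subgroup.le_normalizer hx) hu
    have hθN : IsFM N R θ := by
      have hJle : Cfsg.thompsonSubgroupAOf S ≤ S := WS_le JF S
      rw [isFM_normalizer_iff F hJle N hN]
      refine ⟨fun x hx => hNS x (hRS hx), fun x hx => hNS _ (hθ.mem hx), θ, ?_, fun _ _ => rfl, hθW⟩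
      exact hθ.of_eq (sup_eq_left.mpr hWR)
    obtain ⟨φ, hφ, hφθ⟩ := hθN
    exact ⟨φ, hNE R hφ, hφθ⟩
  have hall := allIn_of_agemo_of_norm hW hWZ hq hS F hF 𝒞 hfix hnrm
  intro P φ hφ
  obtain ⟨φ', hφ', hφe⟩ := hall P (ofHom φ) (isFM_ofHom hφ)
  have : φ' = φ := by
    ext x
    rw [hφe x, ofHom_apply φ x]
  rw [← this]
  exact hφ'

end Cfsg.Agent.S5220
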