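import Cfsg.Statements.S5226
import Cfsg.Agent.Lib.Helper26.FSExtendMod
import Cfsg.Agent.Lib.Helper26.FSChain

set_option autoImplicit false
open Cfsg

namespace Cfsg.Agent.S5226

open Cfsg.FusionSystem Cfsg.Agent.Lib.Helper26
open scoped commutatorElement

section aux

variable {Ω : Type*} [Group Ω] {S : Subgroup Ω}

theorem weaklyClosed_of_stronglyClosed [Finite S] (F : FusionSystem S) {P : Subgroup Ω}
    (hP : F.StronglyClosed P) : F.WeaklyClosed P := by
  refine ⟨hP.1, fun φ hφ => ?_⟩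
  have hfin : Finite P := finite_of_le hP.1
  have hle : φ.range ≤ P := by
    rintro _ ⟨x, rfl⟩
    exact hP.2 P le_rfl φ hφ x
  apply Subgroup.eq_of_le_of_card_ge hle
  have := Nat.card_congr (MonoidHom.ofInjective (F.injective_of_mem hφ)).toEquiv
  rw [← this]

/-- If `w` commutes with `R'` modulo a subgroup `C ≤ R'`, then `w` normalizes `R'`. -/
theorem mem_normalizer_of_comm_mod {C R' : Subgroup Ω} (hC : C ≤ R') {w : Ω}
    (h : ∀ r ∈ R', w * r * w⁻¹ * r⁻¹ ∈ C) (h' : ∀ r ∈ R', w⁻¹ * r * w * r⁻¹ ∈ C) :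
    w ∈ Subgroup.normalizer (R' : Set Ω) := by
  apply mem_normalizer_of_conj_mem
  · intro r hr
    have := R'.mul_mem (hC (h r hr)) hr
    simpa [mul_assoc] using this
  · intro r hr
    have := R'.mul_mem (hC (h' r hr)) hr
    simpa [mul_assoc] using this

/-- The inductive step: a weakly closed subgroup `W` of a strongly closed `Q`, central in `Q` modulo a strongly
closed `C ≤ W`, is strongly closed. -/
theorem stronglyClosed_step [Finite S] {p : ℕ} [Fact p.Prime] (hS : IsPGroup p S) (F : FusionSystem S)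
    (hF : F.IsSaturated p) {Q C W : Subgroup Ω} (hQ : F.StronglyClosed Q) (hC : F.StronglyClosed C)
    (hW : F.WeaklyClosed W) (hCW : C ≤ W) (hWQ : W ≤ Q) (hcomm : ⁅W, Q⁆ ≤ C) : F.StronglyClosed W := by
  refine ⟨hW.1, fun R hRW φ hφ x => ?_⟩
  obtain ⟨ψ, hψ, hψφ⟩ := extMod_all hS F hF hC R φ hφ
  -- it suffices to treat `ψ`
  suffices hsuff : ∀ y : ↥(R ⊔ C), ψ y ∈ W by
    have h1 := hsuff (Subgroup.inclusion le_sup_left x)
    have h2 := hCW (hψφ x)
    have h3 := W.mul_mem h1 (W.inv_mem h2)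
    simpa [mul_assoc] using h3
  have hR₁W : R ⊔ C ≤ W := sup_le hRW hCW
  have hR₁S : R ⊔ C ≤ S := hR₁W.trans hW.1
  have hWS : W ≤ S := hW.1
  -- the image
  have hR'Q : ψ.range ≤ Q := by
    rintro _ ⟨y, rfl⟩
    exact hQ.2 _ (hR₁W.trans hWQ) ψ hψ y
  have hR'S : ψ.range ≤ S := hR'Q.trans hQ.1
  have hCR' : C ≤ ψ.range := by
    intro c hc
    obtain ⟨y, -, hy⟩ := exists_preimage_of_stronglyClosed F hC (le_sup_right : C ≤ R ⊔ C) hψ c hc
    exact ⟨y, hy⟩
  -- commutators of `W` with `Q` lie in `C`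
  have hcomm1 : ∀ w ∈ W, ∀ q ∈ Q, w * q * w⁻¹ * q⁻¹ ∈ C := fun w hw q hq =>
    hcomm (Subgroup.commutator_mem_commutator hw hq)
  have hcomm2 : ∀ w ∈ W, ∀ q ∈ Q, w⁻¹ * q * w * q⁻¹ ∈ C := fun w hw q hq => by
    have := hcomm1 w⁻¹ (W.inv_mem hw) q hq
    simpa using this
  have hWN₁ : W ≤ normalizerIn S (R ⊔ C) := fun w hw =>
    ⟨hWS hw, mem_normalizer_of_comm_mod (le_sup_right : C ≤ R ⊔ C)
      (fun r hr => hcomm1 w hw r (hWQ (hR₁W hr))) (fun r hr => hcomm2 w hw r (hWQ (hR₁W hr)))⟩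
  have hWN' : W ≤ normalizerIn S ψ.range := fun w hw =>
    ⟨hWS hw, mem_normalizer_of_comm_mod hCR'
      (fun r hr => hcomm1 w hw r (hR'Q hr)) (fun r hr => hcomm2 w hw r (hR'Q hr))⟩
  -- a fully automized receptive conjugate
  obtain ⟨R'', hconj, hfa, hrec⟩ := hF ψ.range hR'S
  have hconj₁ : F.IsConj (R ⊔ C) ψ.range := ⟨ψ, hψ, rfl⟩
  obtain ⟨χ, hχ, -, hχR⟩ := exists_normalizer_hom hS F hfa hrec hconj
  obtain ⟨χ', hχ', -, hχ'R⟩ := exists_normalizer_hom hS F hfa hrec (isConj_trans F hconj₁ hconj)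
  -- `χ'` maps `W` onto `W`, hence `R'' ≤ W`
  have hχ'W := hW.2 _ (inclusion_comp_mem F hWN₁ hχ')
  have hχW := hW.2 _ (inclusion_comp_mem F hWN' hχ)
  have hR''W : R'' ≤ W := by
    intro z hz
    rw [← hχ'R] at hz
    obtain ⟨y, hy, rfl⟩ := hz
    rw [← hχ'W]
    exact ⟨⟨y, hR₁W hy⟩, rfl⟩
  intro y
  -- `ψ y ∈ R'`, `χ (ψ y) ∈ R'' ≤ W = χ(W)`
  have hyR' : ψ y ∈ ψ.range := ⟨y, rfl⟩
  have hyN : ψ y ∈ normalizerIn S ψ.range := ⟨hR'S hyR', Subgroup.le_normalizer hyR'⟩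
  have h1 : χ ⟨ψ y, hyN⟩ ∈ R'' := by
    rw [← hχR]
    exact ⟨⟨ψ y, hyN⟩, hyR', rfl⟩
  have h2 : χ ⟨ψ y, hyN⟩ ∈ W := hR''W h1
  rw [← hχW] at h2
  obtain ⟨w, hw⟩ := h2
  have h3 : Subgroup.inclusion hWN' w = ⟨ψ y, hyN⟩ := F.injective_of_mem hχ hw
  have h4 : (w : Ω) = ψ y := congrArg (fun t : ↥(normalizerIn S ψ.range) => (t : Ω)) h3
  rw [← h4]
  exact w.2

end aux

/-- Let F be a saturated fusion system over a finite p-group S and Q a subgroup of S. Then Q is normal in F (F equals the normalizer system of Q) if and only if Q is strongly closed in F and admits a central series 1 = Q₀ ≤ Q₁ ≤ ⋯ ≤ Qₙ = Q ([Qᵢ₊₁, Q] ≤ Qᵢ) all of whose proper terms are weakly closed in F. -/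
theorem result {Ω : Type*} [Group Ω] {S : Subgroup Ω} [Finite S] (p : ℕ) [Fact p.Prime] (hS : IsPGroup p S) (F : Cfsg.FusionSystem S) (hF : F.IsSaturated p) (Q : Subgroup Ω) : F.IsNormal Q ↔ F.StronglyClosed Q ∧ ∃ (n : ℕ) (C : Fin (n + 1) → Subgroup Ω), C 0 = ⊥ ∧ C (Fin.last n) = Q ∧ Monotone C ∧ (∀ i : Fin n, ⁅C i.succ, Q⁆ ≤ C i.castSucc) ∧ ∀ i : Fin n, F.WeaklyClosed (C i.castSucc) := by
  constructor
  · intro hQ
    refine ⟨stronglyClosed_of_isNormal F hQ, ?_⟩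
    obtain ⟨n, Qs, h0, hlast, hmono, h⟩ := exists_fin_chain_of_isNormal hS F Q hQ
    have hall : ∀ i : Fin (n + 1), F.StronglyClosed (Qs i) := by
      intro i
      refine Fin.cases ?_ (fun j => (h j).1) i
      rw [h0]
      exact stronglyClosed_bot F
    refine ⟨n, Qs, h0, hlast, hmono, fun i => ?_, fun i => weaklyClosed_of_stronglyClosed F (hall _)⟩
    rw [Subgroup.commutator_comm]
    exact (h i).2
  · rintro ⟨hQ, n, C, h0, hlast, hmono, hcomm, hwc⟩
    have hall : ∀ k : ℕ, ∀ hk : k < n + 1, F.StronglyClosed (C ⟨k, hk⟩) := by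
      intro k
      induction k with
      | zero =>
        intro hk
        have : (⟨0, hk⟩ : Fin (n + 1)) = 0 := rfl
        rw [this, h0]
        exact stronglyClosed_bot F
      | succ k ih =>
        intro hk
        by_cases hkn : k + 1 = n
        · have : (⟨k + 1, hk⟩ : Fin (n + 1)) = Fin.last n := Fin.ext hkn
          rw [this, hlast]
          exact hQ
        · have hk' : k + 1 < n := by omega
          have hk0 : k < n := by omega
          have hC := ih (by omega)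
          have hW : F.WeaklyClosed (C ⟨k + 1, hk⟩) := hwc ⟨k + 1, hk'⟩
          have hCW : C ⟨k, by omega⟩ ≤ C ⟨k + 1, hk⟩ := hmono (by
            show k ≤ k + 1
            omega)
          have hWQ : C ⟨k + 1, hk⟩ ≤ Q := by
            rw [← hlast]
            apply hmono
            show k + 1 ≤ n
            omega
          have hc : ⁅C ⟨k + 1, hk⟩, Q⁆ ≤ C ⟨k, by omega⟩ := hcomm ⟨k, hk0⟩
          exact stronglyClosed_step hS F hF hQ hC hW hCW hWQ hc
    apply isNormal_of_fin_chain hS F hF Q n C h0 hlast hmono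
    intro i
    refine ⟨hall _ _, ?_⟩
    rw [Subgroup.commutator_comm]
    exact hcomm i

end Cfsg.Agent.S5226
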