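import Cfsg.Statements.S5243
import Cfsg.Agent.Lib.Helper26.OlvNM

set_option autoImplicit false
open Cfsg

namespace Cfsg.Agent.S5243

/-- Let F be a saturated fusion system over a finite p-group S, E a normal subsystem of F over T ≤ S, and χ a surjective homomorphism from Aut_F(T) onto a nontrivial finite group Δ of order prime to p whose kernel contains Aut_E(T). Then there is a proper normal subsystem F₀ of F over S containing E such that Aut_{F₀}(S) consists of those α ∈ Aut_F(S) whose restriction to T is an element of Aut_F(T) in the kernel of χ; moreover every p'-residual subsystem O^{p'}(F) of F is contained in F₀. -/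
theorem result {Ω : Type*} [Group Ω] {S : Subgroup Ω} [Finite S] (p : ℕ) [Fact p.Prime] (hS : IsPGroup p S) (F : Cfsg.FusionSystem S) (hF : F.IsSaturated p) {T : Subgroup Ω} (hTS : T ≤ S) (E : Cfsg.FusionSystem T) (hE : E.IsNormalIn F p) {Δ : Type*} [Group Δ] [Finite Δ] [Nontrivial Δ] (hΔ : (Nat.card Δ).Coprime p) (χ : ↥(F.autGroup T) →* Δ) (hχ : Function.Surjective χ) (hker : (E.autGroup T).subgroupOf (F.autGroup T) ≤ χ.ker) : ∃ F₀ : Cfsg.FusionSystem S, F₀.IsNormalIn F p ∧ ¬ (∀ P : Subgroup Ω, F₀.Hom P = F.Hom P) ∧ E.IsSubsystemOf F₀ ∧ (∀ α : MulAut ↥S, α ∈ F₀.autGroup S ↔ α ∈ F.autGroup S ∧ ∃ β : ↥(F.autGroup T), χ β = 1 ∧ ∀ t : ↥T, (((β : MulAut ↥T) t : ↥T) : Ω) = ((α ⟨(t : Ω), hTS t.2⟩ : ↥S) : Ω)) ∧ ∀ R : Cfsg.FusionSystem S, F.IsPPrimeResidual p R → R.IsSubsystemOf F₀ := by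
  obtain ⟨⟨hEsat, hFsat, hEinv⟩, -⟩ := hE
  obtain ⟨K, hKdef⟩ : ∃ K : Subgroup (MulAut ↥T), K = χ.ker.map (F.autGroup T).subtype := ⟨_, rfl⟩
  have hKmem : ∀ β : MulAut ↥T, β ∈ K ↔ ∃ b : ↥(F.autGroup T), χ b = 1 ∧ (b : MulAut ↥T) = β := by
    intro β
    rw [hKdef]
    constructor
    · rintro ⟨b, hb, rfl⟩
      exact ⟨b, MonoidHom.mem_ker.mp hb, rfl⟩
    · rintro ⟨b, hb, rfl⟩
      exact ⟨b, MonoidHom.mem_ker.mpr hb, rfl⟩
  have hpel : ∀ a : ↥(F.autGroup T), (∃ k : ℕ, orderOf a = p ^ k) → χ a = 1 := by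
    rintro a ⟨k, hk⟩
    have h1 : orderOf (χ a) ∣ p ^ k := hk ▸ orderOf_map_dvd χ a
    have h2 : orderOf (χ a) ∣ Nat.card Δ := orderOf_dvd_natCard _
    have h3 : (orderOf (χ a)).Coprime (p ^ k) := Nat.Coprime.coprime_dvd_left h2 (hΔ.pow_right k)
    exact orderOf_eq_one_iff.mp (Nat.Coprime.eq_one_of_dvd h3 h1)
  have hKp : Cfsg.Agent.Lib.Helper27.pgenAut F p T ≤ K := by
    unfold Cfsg.Agent.Lib.Helper27.pgenAut
    rw [hKdef]
    apply Subgroup.map_mono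
    rw [Subgroup.closure_le]
    intro a ha
    exact MonoidHom.mem_ker.mpr (hpel a ha)
  have hKS : Cfsg.autInducedBy S T ≤ K := by
    intro α hα
    have hαF := Cfsg.Agent.Lib.Helper26.autInducedBy_le_autGroup F hTS hα
    rw [hKmem]
    refine ⟨⟨α, hαF⟩, hpel _ ?_, rfl⟩
    obtain ⟨k, hk⟩ := (IsPGroup.iff_orderOf.mp (Cfsg.Agent.Lib.Helper26.autInducedBy_isPGroup hS T)) ⟨α, hα⟩
    refine ⟨k, ?_⟩
    rw [Subgroup.orderOf_mk] at hk ⊢
    exact hk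
  have hKD : Cfsg.Agent.Lib.Helper26.OlvN.KData F E K := by
    refine ⟨hEinv, ?_, ?_, hKS, ?_⟩
    · rw [hKdef]
      exact Subgroup.map_subtype_le _
    · intro α hα
      have hαF : α ∈ F.autGroup T :=
        (Cfsg.Agent.Lib.Helper26.mem_autGroup_iff F hTS α).mpr
          (hEinv.1 T ((Cfsg.Agent.Lib.Helper26.mem_autGroup_iff E le_rfl α).mp hα))
      rw [hKmem]
      refine ⟨⟨α, hαF⟩, ?_, rfl⟩
      have : (⟨α, hαF⟩ : ↥(F.autGroup T)) ∈ (E.autGroup T).subgroupOf (F.autGroup T) := by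
        rw [Subgroup.mem_subgroupOf]
        exact hα
      exact MonoidHom.mem_ker.mp (hker this)
    · intro α hα β hβ
      obtain ⟨b, hb, rfl⟩ := (hKmem β).mp hβ
      rw [hKmem]
      refine ⟨⟨α, hα⟩ * b * ⟨α, hα⟩⁻¹, ?_, rfl⟩
      rw [map_mul, map_mul, hb, mul_one, map_inv, mul_inv_cancel]
  obtain ⟨X, hXn, hXsat, hXi, hEX, hXaut, hXne⟩ := hKD.exists_normal hS hF hEsat hKp
  refine ⟨X, hXn, ?_, hEX, ?_, ?_⟩
  · obtain ⟨d, hd⟩ := exists_ne (1 : Δ)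
    obtain ⟨b, hb⟩ := hχ d
    have hbK : (b : MulAut ↥T) ∉ K := by
      intro hbK
      obtain ⟨b', hb', hbb'⟩ := (hKmem _).mp hbK
      have : b' = b := Subtype.ext hbb'
      rw [this, hb] at hb'
      exact hd hb'
    obtain ⟨α, hα, hαX⟩ := hXne ⟨(b : MulAut ↥T), b.2, hbK⟩
    intro hall
    apply hαX
    rw [Cfsg.Agent.Lib.Helper26.mem_autGroup_iff X le_rfl, hall S,
      ← Cfsg.Agent.Lib.Helper26.mem_autGroup_iff F le_rfl]
    exact hα
  · intro α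
    rw [hXaut α]
    constructor
    · rintro ⟨hα, β, hβ, hβα⟩
      obtain ⟨b, hb, rfl⟩ := (hKmem β).mp hβ
      exact ⟨hα, b, hb, hβα⟩
    · rintro ⟨hα, b, hb, hbα⟩
      exact ⟨hα, (b : MulAut ↥T), (hKmem _).mpr ⟨b, hb, rfl⟩, hbα⟩
  · intro R hR
    exact hR.2.2 X hXsat hXi

end Cfsg.Agent.S5243
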