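import Cfsg.Statements.S5244
import Cfsg.Agent.Lib.Helper26.OliverK

set_option autoImplicit false
open Cfsg

namespace Cfsg.Agent.S5244

/-- Let p be an odd prime, S a finite nonabelian p-group with a unique abelian subgroup A of index p, and F a saturated fusion system over S with no nontrivial normal subgroup (O_p(F) = 1) in which A is not F-essential. Then some subgroup Z(S)⟨x⟩ with x ∈ S outside A is F-essential, the centre Z(S) is contained in the commutator subgroup of S, and S has maximal nilpotency class (if S has order pⁿ with n ≥ 3, the term of index n − 2 of its lower central series, counting S itself as the term of index 0, is nontrivial). -/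
theorem result {Ω : Type*} [Group Ω] {S : Subgroup Ω} [Finite S] (p : ℕ) [Fact p.Prime] (hS : IsPGroup p S) (F : Cfsg.FusionSystem S) (hF : F.IsSaturated p) (hp : p ≠ 2) (hna : ¬ IsMulCommutative ↥S) (A : Subgroup Ω) (hA : A ≤ S ∧ IsMulCommutative ↥A ∧ (A.subgroupOf S).index = p) (huniq : ∀ B : Subgroup Ω, B ≤ S → IsMulCommutative ↥B → (B.subgroupOf S).index = p → B = A) (hcore : F.core = ⊥) (hAe : ¬ F.IsEssential p A) : (∃ x ∈ S, x ∉ A ∧ F.IsEssential p ((S ⊓ Subgroup.centralizer (S : Set Ω)) ⊔ Subgroup.zpowers x)) ∧ (S ⊓ Subgroup.centralizer (S : Set Ω)) ≤ (commutator ↥S).map S.subtype ∧ ∀ n : ℕ, Nat.card S = p ^ n → 3 ≤ n → Subgroup.lowerCentralSeries S (n - 2) ≠ ⊥ := by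
  have h := Cfsg.Agent.Lib.Helper26.idxP_of hS hA.1 hA.2.1 hA.2.2
  have hpp : p.Prime := Fact.out
  obtain ⟨P₀, x₀, y₀, D₀⟩ := Cfsg.Agent.Lib.Helper26.exists_hData hS F hF h hna hAe hcore
  have hZW := D₀.center_le_W hS hF hp h hna huniq hAe hcore
  have hyY := D₀.isYElt h
  have hx₀S : x₀ ∈ S := D₀.le D₀.xP
  have hy₀S : y₀ ∈ S := h.le D₀.yA
  refine ⟨⟨x₀, hx₀S, D₀.xA, ?_⟩, ?_, ?_⟩
  · have h1 := h.eq_sup D₀.le D₀.xP D₀.xA
    rw [D₀.inf] at h1
    rw [← h1]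
    exact D₀.ess
  · intro z hz
    obtain ⟨k, hk⟩ := Subgroup.mem_zpowers_iff.mp (hZW hz)
    refine ⟨((⟨y₀, hy₀S⟩ : S) * ⟨x₀, hx₀S⟩ * (⟨y₀, hy₀S⟩ : S)⁻¹ * (⟨x₀, hx₀S⟩ : S)⁻¹) ^ k, ?_, ?_⟩
    · apply Subgroup.zpow_mem
      rw [commutator_def, ← commutatorElement_def]
      exact Subgroup.commutator_mem_commutator (Subgroup.mem_top _) (Subgroup.mem_top _)
    · rw [← hk, map_zpow]
      rfl
  · intro n hn h3
    apply h.lcs_ne_bot _ hn h3
    have hz₀Z : y₀ * x₀ * y₀⁻¹ * x₀⁻¹ ∈ S ⊓ Subgroup.centralizer (S : Set Ω) := hyY.2 x₀ hx₀S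
    have heq : S ⊓ Subgroup.centralizer (S : Set Ω) = Subgroup.zpowers (y₀ * x₀ * y₀⁻¹ * x₀⁻¹) :=
      le_antisymm hZW (Subgroup.zpowers_le.mpr hz₀Z)
    rw [heq, Nat.card_zpowers]
    exact orderOf_eq_prime (hyY.comm_pow_p h hx₀S) (hyY.comm_ne_one h D₀.y_not_mem hx₀S D₀.xA)

end Cfsg.Agent.S5244
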