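import Cfsg.Statements.S5249
import Cfsg.Agent.Lib.Helper12.QdFactor

set_option autoImplicit false
open Cfsg

namespace Cfsg.Agent.S5249

/-- Let p be an odd prime, G a finite group in which Qd(p) (the natural semidirect product of an elementary abelian group of order p² by SL₂(p)) is not involved, and P a Sylow p-subgroup of G. Then the fusion system of G on P is a solvable fusion system. -/
theorem result {G : Type*} [Group G] [Finite G] {p : ℕ} [Fact p.Prime] (hp : p ≠ 2) (hqd : ¬ Cfsg.Involves ↥(Cfsg.qd p) G) (P : Sylow p G) : (Cfsg.groupFusionSystem (P : Subgroup G)).IsSolvableSystem := by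
  classical
  intro R hR hne hnorm E hE
  obtain ⟨hRS, hsc0⟩ := hR
  obtain ⟨-, hker, hrange, hHom⟩ := hE
  have hθsurj : Function.Surjective (QuotientGroup.mk' (R.subgroupOf (P : Subgroup G))) :=
    QuotientGroup.mk'_surjective _
  have hθeq : ∀ a b : ↥(P : Subgroup G), (QuotientGroup.mk' (R.subgroupOf (P : Subgroup G))) a =
      (QuotientGroup.mk' (R.subgroupOf (P : Subgroup G))) b ↔ (a : G)⁻¹ * (b : G) ∈ R := by
    intro a b
    rw [QuotientGroup.mk'_apply, QuotientGroup.mk'_apply, QuotientGroup.eq, Subgroup.mem_subgroupOf]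
    simp
  -- strong closure, elementwise
  have hsc : ∀ (g x : G), x ∈ R → g * x * g⁻¹ ∈ (P : Subgroup G) → g * x * g⁻¹ ∈ R := by
    intro g x hx hgx
    have hle : Subgroup.zpowers x ≤ R := by rw [Subgroup.zpowers_le]; exact hx
    have hmem : Cfsg.conjHom (Subgroup.zpowers x) g ∈
        (Cfsg.groupFusionSystem (P : Subgroup G)).Hom (Subgroup.zpowers x) := by
      refine ⟨le_trans hle hRS, fun y => ?_, g, fun y => rfl⟩
      obtain ⟨k, hk⟩ := Subgroup.mem_zpowers_iff.mp y.2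
      show g * (y : G) * g⁻¹ ∈ (P : Subgroup G)
      rw [← hk]
      have e : g * x ^ k * g⁻¹ = (g * x * g⁻¹) ^ k := by rw [conj_zpow]
      rw [e]
      exact Subgroup.zpow_mem _ hgx k
    exact hsc0 _ hle _ hmem ⟨x, Subgroup.mem_zpowers x⟩
  obtain ⟨W, hRW, hWS, hWR, hW⟩ :=
    Cfsg.Agent.Lib.Helper12.exists_zj_mod_strongly_closed hp hqd P R hRS hne hsc
  set θ : ↥(P : Subgroup G) →* ↥(P : Subgroup G) ⧸ R.subgroupOf (P : Subgroup G) :=
    QuotientGroup.mk' (R.subgroupOf (P : Subgroup G)) with hθ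
  set Qb : Subgroup (↥(P : Subgroup G) ⧸ R.subgroupOf (P : Subgroup G)) :=
    (W.subgroupOf (P : Subgroup G)).map θ with hQb
  have hQbne : Qb ≠ ⊥ := by
    intro hbot
    obtain ⟨w, hwW, hwR⟩ := SetLike.exists_of_lt (lt_of_le_of_ne hRW (Ne.symm hWR))
    have h1 : θ ⟨w, hWS hwW⟩ ∈ Qb := ⟨⟨w, hWS hwW⟩, Subgroup.mem_subgroupOf.mpr hwW, rfl⟩
    rw [hbot, Subgroup.mem_bot] at h1
    exact hwR ((hker _).mp h1)
  have hQbN : E.IsNormal Qb := by
    refine ⟨le_top, ?_⟩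
    intro P' φ' hφ'
    obtain ⟨-, φ, hφF, hind⟩ := (hHom P' φ').mp hφ'
    have hφF' : Cfsg.FusionSystem.preimageAlong θ P' ≤ (P : Subgroup G) ∧
        (∀ x : ↥(Cfsg.FusionSystem.preimageAlong θ P'), φ x ∈ (P : Subgroup G)) ∧
        ∃ g : G, ∀ x : ↥(Cfsg.FusionSystem.preimageAlong θ P'), φ x = g * (x : G) * g⁻¹ := hφF
    obtain ⟨hP₁S, hφS, g, hg⟩ := hφF'
    obtain ⟨hP, hφ, hP', hcomm⟩ := hind
    set P₁ : Subgroup G := Cfsg.FusionSystem.preimageAlong θ P' with hP₁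
    have hmemP : ∀ (Y : Subgroup (↥(P : Subgroup G) ⧸ R.subgroupOf (P : Subgroup G))) (x : G),
        x ∈ Cfsg.FusionSystem.preimageAlong θ Y ↔ ∃ hx : x ∈ (P : Subgroup G), θ ⟨x, hx⟩ ∈ Y := by
      intro Y x
      constructor
      · rintro ⟨y, hy, rfl⟩
        exact ⟨y.2, hy⟩
      · rintro ⟨hx, hy⟩
        exact ⟨⟨x, hx⟩, hy, rfl⟩
    have hRP₁ : R ≤ P₁ := by
      intro r hr
      rw [hmemP]
      refine ⟨hRS hr, ?_⟩
      rw [(hker _).mpr hr]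
      exact one_mem _
    have hgP : ∀ x ∈ P₁, g * x * g⁻¹ ∈ (P : Subgroup G) := by
      intro x hx
      have := hφS ⟨x, hx⟩
      rwa [hg] at this
    obtain ⟨n, hnW, hnR, hmod, hnS⟩ := hW P₁ g hRP₁ hP₁S hgP
    set P₂ : Subgroup G := Cfsg.FusionSystem.preimageAlong θ (P' ⊔ Qb) with hP₂
    have hP₂S : P₂ ≤ (P : Subgroup G) := by
      intro x hx
      exact ((hmemP _ x).mp hx).1
    have hP₂le : P₂ ≤ P₁ ⊔ W := by
      have h1 : (P' ⊔ Qb).comap θ = P'.comap θ ⊔ Qb.comap θ :=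
        (Subgroup.comap_sup_eq θ P' Qb hθsurj).symm
      have h2 : Qb.comap θ = W.subgroupOf (P : Subgroup G) := by
        rw [hQb, Subgroup.comap_map_eq, sup_eq_left]
        intro x hx
        rw [MonoidHom.mem_ker] at hx
        rw [Subgroup.mem_subgroupOf]
        exact hRW ((hker x).mp hx)
      show ((P' ⊔ Qb).comap θ).map (P : Subgroup G).subtype ≤ P₁ ⊔ W
      rw [h1, h2, Subgroup.map_sup]
      apply sup_le_sup (le_refl _)
      rw [Subgroup.subgroupOf_map_subtype]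
      exact inf_le_left
    have hnP₂ : ∀ x ∈ P₂, n * x * n⁻¹ ∈ (P : Subgroup G) := fun x hx => hnS x (hP₂le hx)
    have hP₁P₂ : P₁ ≤ P₂ := by
      intro x hx
      obtain ⟨hxS, hxP⟩ := (hmemP _ x).mp hx
      exact (hmemP _ x).mpr ⟨hxS, (le_sup_left : P' ≤ P' ⊔ Qb) hxP⟩
    have hWP₂ : W ≤ P₂ := by
      intro x hx
      refine (hmemP _ x).mpr ⟨hWS hx, (le_sup_right : Qb ≤ P' ⊔ Qb) ?_⟩
      exact ⟨⟨x, hWS hx⟩, Subgroup.mem_subgroupOf.mpr hx, rfl⟩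
    -- the conjugation map on `P₂`
    set φ₂ : ↥P₂ →* G := Cfsg.conjHom P₂ n with hφ₂
    have hφ₂S : ∀ x : ↥P₂, φ₂ x ∈ (P : Subgroup G) := fun x => hnP₂ x x.2
    -- the two maps out of `P₂`
    set f : ↥P₂ →* ↥(P : Subgroup G) ⧸ R.subgroupOf (P : Subgroup G) :=
      θ.comp (φ₂.codRestrict (P : Subgroup G) hφ₂S) with hf
    have hπmem : ∀ x : ↥P₂, θ ⟨x, hP₂S x.2⟩ ∈ P' ⊔ Qb := fun x => ((hmemP _ x).mp x.2).2
    set π₂ : ↥P₂ →* ↥(P' ⊔ Qb) :=
      (θ.comp (Subgroup.inclusion hP₂S)).codRestrict (P' ⊔ Qb) hπmem with hπ₂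
    have hπ₂surj : Function.Surjective π₂ := by
      intro y
      obtain ⟨s, hs⟩ := hθsurj (y : ↥(P : Subgroup G) ⧸ R.subgroupOf (P : Subgroup G))
      have hsP₂ : (s : G) ∈ P₂ := (hmemP _ _).mpr ⟨s.2, by rw [Subtype.coe_eta, hs]; exact y.2⟩
      refine ⟨⟨s, hsP₂⟩, ?_⟩
      apply Subtype.ext
      show θ ⟨(s : G), _⟩ = y
      rw [Subtype.coe_eta, hs]
    have hker₂ : π₂.ker ≤ f.ker := by
      intro x hx
      rw [MonoidHom.mem_ker] at hx ⊢
      have h1 : θ ⟨x, hP₂S x.2⟩ = 1 := by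
        have := congrArg Subtype.val hx
        exact this
      have h2 : (x : G) ∈ R := (hker _).mp h1
      have h3 : n * (x : G) * n⁻¹ ∈ R := (Subgroup.mem_normalizer_iff.mp hnR _).mp h2
      show θ ⟨φ₂ x, hφ₂S x⟩ = 1
      exact (hker _).mpr h3
    set ψ : ↥(P' ⊔ Qb) →* ↥(P : Subgroup G) ⧸ R.subgroupOf (P : Subgroup G) :=
      (MonoidHom.liftOfSurjective π₂ hπ₂surj) ⟨f, hker₂⟩ with hψdef
    have hψ : ∀ x : ↥P₂, ψ (π₂ x) = f x := fun x =>
      MonoidHom.liftOfRightInverse_comp_apply _ _ _ ⟨f, hker₂⟩ x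
    refine ⟨ψ, (hHom _ ψ).mpr ⟨le_top, φ₂, ⟨hP₂S, hφ₂S, n, fun x => rfl⟩,
      ⟨hP₂S, hφ₂S, hπmem, fun x => hψ x⟩⟩, ?_, ?_⟩
    · -- extends `φ'`
      intro y
      obtain ⟨s, hs⟩ := hθsurj (y : ↥(P : Subgroup G) ⧸ R.subgroupOf (P : Subgroup G))
      have hsP₁ : (s : G) ∈ P₁ := (hmemP _ _).mpr ⟨s.2, by rw [Subtype.coe_eta, hs]; exact y.2⟩
      have hsP₂ : (s : G) ∈ P₂ := hP₁P₂ hsP₁
      have e1 : Subgroup.inclusion (le_sup_left : P' ≤ P' ⊔ Qb) y = π₂ ⟨s, hsP₂⟩ := by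
        apply Subtype.ext
        show (y : ↥(P : Subgroup G) ⧸ R.subgroupOf (P : Subgroup G)) = θ ⟨(s : G), _⟩
        rw [Subtype.coe_eta, hs]
      rw [e1, hψ]
      have e2 : y = ⟨θ ⟨(s : G), hP hsP₁⟩, hP' ⟨s, hsP₁⟩⟩ := by
        apply Subtype.ext
        show (y : ↥(P : Subgroup G) ⧸ R.subgroupOf (P : Subgroup G)) = θ ⟨(s : G), _⟩
        rw [Subtype.coe_eta, hs]
      rw [e2, hcomm ⟨s, hsP₁⟩]
      have hf1 : f ⟨(s : G), hsP₂⟩ = θ ⟨n * (s : G) * n⁻¹, hnP₂ _ hsP₂⟩ := rfl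
      rw [hf1]
      symm
      rw [hθeq]
      have h3 := hmod _ hsP₁
      rw [← hg ⟨(s : G), hsP₁⟩] at h3
      exact h3
    · -- maps `Qb` onto `Qb`
      ext z
      constructor
      · rintro ⟨y, hy, rfl⟩
        have hyQ : (y : ↥(P : Subgroup G) ⧸ R.subgroupOf (P : Subgroup G)) ∈ Qb :=
          Subgroup.mem_subgroupOf.mp hy
        obtain ⟨w, hw, hwy⟩ := hyQ
        have hwW : (w : G) ∈ W := Subgroup.mem_subgroupOf.mp hw
        have hwP₂ : (w : G) ∈ P₂ := hWP₂ hwW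
        have e1 : y = π₂ ⟨w, hwP₂⟩ := by
          apply Subtype.ext
          show (y : ↥(P : Subgroup G) ⧸ R.subgroupOf (P : Subgroup G)) = θ ⟨(w : G), _⟩
          rw [Subtype.coe_eta, hwy]
        rw [e1, hψ]
        have hnw : n * (w : G) * n⁻¹ ∈ W := (Subgroup.mem_normalizer_iff.mp hnW _).mp hwW
        exact ⟨⟨n * (w : G) * n⁻¹, hWS hnw⟩, Subgroup.mem_subgroupOf.mpr hnw, rfl⟩
      · rintro ⟨w, hw, rfl⟩
        have hwW : (w : G) ∈ W := Subgroup.mem_subgroupOf.mp hw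
        have hw'W : n⁻¹ * (w : G) * n ∈ W := by
          rw [Subgroup.mem_normalizer_iff.mp hnW]
          have e : n * (n⁻¹ * (w : G) * n) * n⁻¹ = (w : G) := by group
          rw [e]; exact hwW
        have hw'P₂ : n⁻¹ * (w : G) * n ∈ P₂ := hWP₂ hw'W
        refine ⟨π₂ ⟨n⁻¹ * (w : G) * n, hw'P₂⟩, ?_, ?_⟩
        · rw [SetLike.mem_coe, Subgroup.mem_subgroupOf]
          exact ⟨⟨n⁻¹ * (w : G) * n, hWS hw'W⟩, Subgroup.mem_subgroupOf.mpr hw'W, rfl⟩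
        · rw [hψ]
          show θ ⟨n * (n⁻¹ * (w : G) * n) * n⁻¹, _⟩ = θ w
          congr 1
          apply Subtype.ext
          show n * (n⁻¹ * (w : G) * n) * n⁻¹ = (w : G)
          group
  intro hcore
  apply hQbne
  rw [eq_bot_iff, ← hcore]
  exact le_sSup hQbN

end Cfsg.Agent.S5249
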