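import Cfsg.Statements.S5254
import Cfsg.Agent.Lib.Helper26.OliverC

set_option autoImplicit false
open Cfsg

namespace Cfsg.Agent.S5254

/-- Let p be an odd prime, S a finite nonabelian p-group with a unique abelian subgroup A of index p, and F a saturated fusion system over S. Then every F-essential subgroup P is A, or Z(S)⟨x⟩ for some x ∈ S outside A, or (when the second centre Z₂(S) lies in A) Z₂(S)⟨x⟩ for some x ∈ S outside A; and P has index p in its normalizer in S. -/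
theorem result {Ω : Type*} [Group Ω] {S : Subgroup Ω} [Finite S] (p : ℕ) [Fact p.Prime] (hS : IsPGroup p S) (F : Cfsg.FusionSystem S) (hF : F.IsSaturated p) (hp : p ≠ 2) (hna : ¬ IsMulCommutative ↥S) (A : Subgroup Ω) (hA : A ≤ S ∧ IsMulCommutative ↥A ∧ (A.subgroupOf S).index = p) (huniq : ∀ B : Subgroup Ω, B ≤ S → IsMulCommutative ↥B → (B.subgroupOf S).index = p → B = A) (P : Subgroup Ω) (hP : F.IsEssential p P) : (P = A ∨ (∃ x ∈ S, x ∉ A ∧ P = (S ⊓ Subgroup.centralizer (S : Set Ω)) ⊔ Subgroup.zpowers x) ∨ (((upperCentralSeries ↥S 2).map S.subtype) ≤ A ∧ ∃ x ∈ S, x ∉ A ∧ P = ((upperCentralSeries ↥S 2).map S.subtype) ⊔ Subgroup.zpowers x)) ∧ (P.subgroupOf (S ⊓ Subgroup.normalizer (P : Set Ω))).index = p := by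
  have h := Cfsg.Agent.Lib.Helper26.idxP_of hS hA.1 hA.2.1 hA.2.2
  have hPS : P ≤ S := hP.1.1
  by_cases hPA : P ≤ A
  · have hAP : A ≤ P := by
      have hcen := hP.1.2 P (Cfsg.Agent.Lib.Helper26.isConj_refl F hPS)
      intro a ha
      apply hcen
      rw [Cfsg.Agent.Lib.Helper26.mem_centralizerIn_iff]
      exact ⟨h.le ha, fun y hy => h.comm y (hPA hy) a ha⟩
    have hEq : P = A := le_antisymm hPA hAP
    rw [hEq]
    refine ⟨Or.inl rfl, ?_⟩
    have hfinA : Finite A := Cfsg.Agent.Lib.Helper26.finite_of_le h.le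
    have hN : S ⊓ Subgroup.normalizer (A : Set Ω) = S := by
      apply inf_eq_left.mpr
      intro s hs
      exact Cfsg.Agent.Lib.Helper26.mem_normalizer_of_conj_mem_finite (fun y hy => h.normal s hs y hy)
    rw [hN]
    exact hA.2.2
  · obtain ⟨x, hxP, hxA⟩ := SetLike.not_le_iff_exists.mp hPA
    obtain ⟨a₁, ha₁, ha₁N, ha₁P⟩ := Cfsg.Agent.Lib.Helper26.oliver_exists_a hS F hF h hP hxP hxA
    have hshape := Cfsg.Agent.Lib.Helper26.oliver_shape hS F h hna hP hxP hxA ha₁ ha₁N ha₁P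
    have hidx := Cfsg.Agent.Lib.Helper26.oliver_index hS F h hP hxP hxA ha₁ ha₁N ha₁P
    have hsup := h.eq_sup hPS hxP hxA
    refine ⟨Or.inr ?_, hidx⟩
    rcases hshape with h1 | ⟨h1, h2⟩
    · left
      exact ⟨x, hPS hxP, hxA, by rw [← h1]; exact hsup⟩
    · right
      exact ⟨h1, x, hPS hxP, hxA, by rw [← h2]; exact hsup⟩

end Cfsg.Agent.S5254
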