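import Cfsg.Statements.S5265
import Cfsg.Agent.Lib.Helper26.CenIdxF
import Cfsg.Agent.Lib.Helper26.CenIdxH
import Cfsg.Agent.Lib.Helper27.FSAbelian
import Cfsg.Agent.Lib.Helper4.D8Rec

set_option autoImplicit false
open Cfsg

namespace Cfsg.Agent.S5265

/-- Let p be a prime, S a nontrivial finite p-group whose centre has index at most p², and F a saturated fusion system over S with no nontrivial normal subgroup and with hyperfocal subgroup equal to S. Then S is extraspecial of order p³; for odd p it has exponent p, and for p = 2 it is dihedral of order 8. -/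
theorem result {Ω : Type*} [Group Ω] {S : Subgroup Ω} [Finite S] (p : ℕ) [Fact p.Prime] (hS : IsPGroup p ↥S) (F : Cfsg.FusionSystem S) (hF : F.IsSaturated p) (hS1 : S ≠ ⊥) (hcore : F.core = ⊥) (hhyp : F.hyperfocalSubgroup p = S) (hZ : (Subgroup.center ↥S).index ≤ p ^ 2) : Cfsg.IsExtraspecial p ↥S ∧ Nat.card S = p ^ 3 ∧ (p ≠ 2 → Monoid.exponent ↥S = p) ∧ (p = 2 → Nonempty (↥S ≃* DihedralGroup 4)) := by
  classical
  have hpp : p.Prime := Fact.out
  -- `S` is nonabelian
  have hna : ¬ ∀ a b : S, a * b = b * a := by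
    intro hab
    have hN := Cfsg.Agent.Lib.Helper27.isNormal_self_of_abelian hS F hF (fun x hx y hy =>
      congrArg (fun w : S => (w : Ω)) (hab ⟨x, hx⟩ ⟨y, hy⟩))
    have hle : S ≤ F.core := le_sSup hN
    rw [hcore, le_bot_iff] at hle
    exact hS1 hle
  have hCI := Cfsg.Agent.Lib.Helper26.CI.of_index_le hS hna hZ
  -- an essential subgroup exists
  have hex : ∃ P₀ : Subgroup Ω, F.IsEssential p P₀ := by
    by_contra hcon
    push Not at hcon
    have hbot : (⊤ : Subgroup S) = ⊥ := by
      apply Cfsg.Agent.Lib.Helper26.eq_bot_of_core hS F hF hcore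
      · intro β _ x _
        exact Subgroup.mem_top _
      · intro P hP
        exact absurd hP (hcon P)
    apply hS1
    rw [eq_bot_iff]
    intro s hs
    have h1 : (⟨s, hs⟩ : S) ∈ (⊤ : Subgroup S) := Subgroup.mem_top _
    rw [hbot, Subgroup.mem_bot] at h1
    rw [Subgroup.mem_bot]
    exact congrArg (fun w : S => (w : Ω)) h1
  obtain ⟨P₀, hP₀⟩ := hex
  have K : ∀ P : Subgroup Ω, F.IsEssential p P → Cfsg.Agent.Lib.Helper26.EPack F p P :=
    fun P hP => Classical.choice (Cfsg.Agent.Lib.Helper26.exists_epack hS F hF hCI hP)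
  by_cases hp2 : p = 2
  · obtain ⟨hcardZ, x₁, x₂, hne, ho1, ho2⟩ :=
      Cfsg.Agent.Lib.Helper26.card_center_of_two hp2 hS hF hcore hhyp hCI K hP₀
    have hcard : Nat.card S = p ^ 3 := by
      rw [hCI.card, hcardZ, hp2]; norm_num
    obtain ⟨-, -, hES⟩ := Cfsg.Agent.Lib.Helper26.cube_structure hcard hna
    refine ⟨hES, hcard, fun h => absurd hp2 h, fun _ => ?_⟩
    have hcard8 : Nat.card S = 8 := by rw [hcard, hp2]; norm_num
    have hnc : ¬ IsMulCommutative S := fun h => hna (fun a b => isMulCommutative_iff.mp h a b)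
    exact Cfsg.Agent.Lib.Helper4.nonempty_mulEquiv_dihedral_four hcard8 hnc x₁ x₂ ho1 ho2 hne
  · obtain ⟨hcardZ, hC⟩ := Cfsg.Agent.Lib.Helper26.card_center_of_odd hS hF hcore hCI hp2 K hP₀
    have hcard : Nat.card S = p ^ 3 := by
      rw [hCI.card, hcardZ]; ring
    obtain ⟨-, -, hES⟩ := Cfsg.Agent.Lib.Helper26.cube_structure hcard hna
    have hpow := Cfsg.Agent.Lib.Helper26.pow_eq_one_of_odd hS hF hcore hCI hp2 K hcardZ hC
    refine ⟨hES, hcard, fun _ => ?_, fun h => absurd h hp2⟩
    have hdvd : Monoid.exponent S ∣ p := Monoid.exponent_dvd_of_forall_pow_eq_one hpow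
    rcases (Nat.dvd_prime hpp).mp hdvd with h1 | h1
    · exfalso
      rw [Monoid.exp_eq_one_iff] at h1
      exact hna (fun a b => by rw [Subsingleton.elim a b])
    · exact h1

end Cfsg.Agent.S5265
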