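import Cfsg.Statements.S5279
import Mathlib
import Cfsg.Agent.Lib.Helper17.PSMain
import Cfsg.Agent.Lib.Helper26.FSPStableGroup
import Cfsg.Agent.Lib.Helper1.SLFree3

set_option autoImplicit false
open Cfsg

namespace Cfsg.Agent.S5279

/-- Let p be an odd prime, G a finite group with a nontrivial Sylow p-subgroup P, and F the fusion system of G on P. Suppose F is p-stable: for every fully normalized subgroup Q and every χ in Aut_F(Q) acting quadratically on Q (χ(a⁻¹)·a·χ(a⁻¹)·χ(χ(a)) = 1 for all a in Q), χ lies in O_p(Aut_F(Q)). Then some nontrivial subgroup of P is normal in F. -/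
theorem result {Ω : Type*} [Group Ω] [Finite Ω] (p : ℕ) [Fact p.Prime] (hp : p ≠ 2) (P : Sylow p Ω) (hP : (P : Subgroup Ω) ≠ ⊥) (hst : (∀ Q : Subgroup Ω, (Cfsg.groupFusionSystem (P : Subgroup Ω)).IsFullyNormalized Q → ∀ χ : MulAut ↥Q, χ ∈ (Cfsg.groupFusionSystem (P : Subgroup Ω)).autGroup Q → (∀ a : ↥Q, (χ a⁻¹) * a * (χ a⁻¹) * (χ (χ a)) = 1) → χ ∈ ((Cfsg.pCore p ↥((Cfsg.groupFusionSystem (P : Subgroup Ω)).autGroup Q)).map ((Cfsg.groupFusionSystem (P : Subgroup Ω)).autGroup Q).subtype : Subgroup (MulAut ↥Q)))) : (Cfsg.groupFusionSystem (P : Subgroup Ω)).core ≠ ⊥ := by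
  have hst' : Cfsg.IsNormalizerPStable p Ω := (Cfsg.Agent.Lib.Helper26.normalizerPStable_iff P).mpr hst
  have hnt : ∀ (Y : Type _) [Group Y] [Finite Y] (T : Subgroup Y), IsPGroup p T → T ≠ ⊥ →
      Cfsg.Agent.Lib.Helper27.wSub (Cfsg.Agent.Lib.Helper27.AbSub) T ≠ ⊥ := by
    intro Y _ _ T hT hne
    rw [← Cfsg.Agent.Lib.Helper27.centerThompsonAOf_eq]
    exact Cfsg.Agent.Lib.Helper27.centerThompsonAOf_ne_bot T hT hne
  have hz := Cfsg.Agent.Lib.Helper17.PSM.zjc_of_stable _ hp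
    (Cfsg.Agent.Lib.Helper17.goodFamily_abSub hp) hnt hst' P
  set W := Cfsg.Agent.Lib.Helper27.wSub (Cfsg.Agent.Lib.Helper27.AbSub) (P : Subgroup Ω) with hW
  have hWP : W ≤ (P : Subgroup Ω) := Cfsg.Agent.Lib.Helper27.wSub_le _
  have hWne : W ≠ ⊥ := hnt Ω _ P.isPGroup' hP
  have hctl : Cfsg.Agent.Lib.Helper1.SLFree.Ctl (P : Subgroup Ω) W := by
    intro A hA g hg
    obtain ⟨x, hx, hxa⟩ := hz (A : Set Ω) g (Subgroup.mem_top g) hA
      (fun a ha => hg ⟨a, ha, rfl⟩)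
    refine ⟨x, (Subgroup.mem_inf.mp hx).2, x⁻¹ * g, ?_, by group⟩
    rw [Subgroup.mem_centralizer_iff]
    intro a ha
    have h1 := hxa a ha
    have h2 : g * a = x * a * x⁻¹ * g := by rw [h1]; group
    calc a * (x⁻¹ * g) = x⁻¹ * (x * a * x⁻¹ * g) := by group
      _ = x⁻¹ * (g * a) := by rw [h2]
      _ = x⁻¹ * g * a := by group
  have hn := Cfsg.Agent.Lib.Helper1.SLFree.isNormal_of_ctl hWP hctl
  intro hbot
  apply hWne
  have : W ≤ (Cfsg.groupFusionSystem (P : Subgroup Ω)).core := le_sSup hn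
  rw [hbot] at this
  exact le_bot_iff.mp this

end Cfsg.Agent.S5279
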