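import Cfsg.Statements.S5284
import Cfsg.Agent.Lib.Helper17.SSAb
import Cfsg.Agent.Lib.Helper17.SSConv
import Cfsg.Agent.Lib.Helper17.AbCoord
import Cfsg.Agent.Lib.Helper17.SSBad
import Cfsg.Agent.Lib.Helper27.FSAbelian

set_option autoImplicit false
open Cfsg

namespace Cfsg.Agent.S5284

/-- Let S be a finite abelian p-group. Every saturated fusion system over S is supersoluble (S has a chain of F-strongly closed subgroups from 1 to S with cyclic steps) if and only if the invariants of S are pairwise distinct, that is, S is not isomorphic to a direct product (Z/p^n × Z/p^n) × H with n ≥ 1. -/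
theorem result {Ω : Type*} [Group Ω] {S : Subgroup Ω} [Finite S] (p : ℕ) [Fact p.Prime] (hS : IsPGroup p ↥S) (hab : IsMulCommutative ↥S) : (∀ F : Cfsg.FusionSystem S, F.IsSaturated p → (∃ (m : ℕ) (c : Fin (m + 1) → Subgroup Ω), c 0 = ⊥ ∧ c (Fin.last m) = S ∧ (∀ i : Fin (m + 1), F.StronglyClosed (c i)) ∧ ∀ i : Fin m, c i.castSucc ≤ c i.succ ∧ ∃ x ∈ S, c i.succ = c i.castSucc ⊔ Subgroup.zpowers x)) ↔ ¬ ∃ (n : ℕ) (H : Type) (_ : CommGroup H), 0 < n ∧ Nonempty (↥S ≃* (Multiplicative (ZMod (p ^ n)) × Multiplicative (ZMod (p ^ n))) × H) := by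
  classical
  constructor
  · rintro hss ⟨n, H, iH, hn, ⟨f⟩⟩
    obtain ⟨K, hKcop, hKbad⟩ := @Cfsg.Agent.Lib.Helper17.exists_bad_aut_group _ _ p _ n hn H iH f
    apply hKbad
    obtain ⟨m, c, h0, hlast, hsc, hstep⟩ := hss (Cfsg.Agent.Lib.Helper17.autSystem K)
      (Cfsg.Agent.Lib.Helper17.autSystem_saturated hS K hKcop)
    exact Cfsg.Agent.Lib.Helper17.comm_and_exponent_of_supersoluble hS K hKcop m c h0 hlast hsc hstep
  · intro hno F hF
    have habS : ∀ x ∈ S, ∀ y ∈ S, x * y = y * x := fun x hx y hy =>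
      congrArg Subtype.val (hab.is_comm.comm ⟨x, hx⟩ ⟨y, hy⟩)
    have hres := Cfsg.Agent.Lib.Helper27.isNormal_self_of_abelian hS F hF habS
    apply Cfsg.Agent.Lib.Helper17.supersoluble_of_resistant hS F hF hres
    intro K hK
    obtain ⟨ι, hι, e, hinj, ⟨f⟩⟩ := Cfsg.Agent.Lib.Helper17.exists_coord_of_no_square hS
      (fun a b => hab.is_comm.comm a b) hno
    obtain ⟨T, N, hT0, hTN, hchar, hcyc⟩ := Cfsg.Agent.Lib.Helper17.exists_char_chain hinj f
    exact Cfsg.Agent.Lib.Helper17.comm_and_exponent_of_chain hS K hK T hT0 N hTN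
      (fun i => ⟨fun x hx g => (hchar i (MulAut.conj g) x).mp hx⟩) hcyc
      (fun h _ i => ⟨hchar (i + 1) h, hchar i h⟩)

end Cfsg.Agent.S5284
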