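import Cfsg.Statements.S5286
import Mathlib
import Cfsg.Agent.Lib.Helper21.LSBasic
import Cfsg.Agent.Lib.Helper9.LSREAL
import Cfsg.Agent.Lib.Helper9.LSFIN
import Cfsg.Agent.Lib.Helper29.LSNS

set_option autoImplicit false
universe u
open Cfsg

namespace Cfsg.Agent.S5286

/-- Every fusion system F over a finite p-group S, saturated or not, is realized by a possibly infinite group: there are a group G and an injective homomorphism ι of S into G such that the maps of F are exactly the conjugations by elements of G between subgroups of ι(S), every finite subgroup of G is conjugate to a subgroup of ι(S), and G has a free normal subgroup whose index divides (#S)!. -/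
theorem result {Ω : Type u} [Group Ω] {S : Subgroup Ω} [Finite S] (p : ℕ) [Fact p.Prime] (hS : IsPGroup p ↥S) (F : Cfsg.FusionSystem S) : ∃ (G : Type u) (_ : Group G) (ι : ↥S →* G), F.IsRealizedBy ι ∧ (∀ H : Subgroup G, Finite ↥H → ∃ g : G, ∀ h ∈ H, g * h * g⁻¹ ∈ ι.range) ∧ ∃ N : Subgroup G, N.Normal ∧ IsFreeGroup ↥N ∧ N.index ∣ (Nat.card ↥S).factorial := by
  classical
  refine ⟨↥(Cfsg.Agent.Lib.Helper21.LS.G F), inferInstance, Cfsg.Agent.Lib.Helper21.LS.iota F,
    Cfsg.Agent.Lib.Helper9.LSREAL.isRealizedBy_iota F, ?_, ?_⟩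
  · intro H hHfin
    have hfin : Finite ↥(H.map (Cfsg.Agent.Lib.Helper21.LS.G F).subtype) := by
      have : Finite ↥H := hHfin
      exact Finite.of_surjective
        (fun x : ↥H => (⟨(Cfsg.Agent.Lib.Helper21.LS.G F).subtype x, Subgroup.mem_map_of_mem _ x.2⟩ :
          ↥(H.map (Cfsg.Agent.Lib.Helper21.LS.G F).subtype))) (by
          rintro ⟨_, ⟨y, hy, rfl⟩⟩
          exact ⟨⟨y, hy⟩, rfl⟩)
    obtain ⟨g, hg, hconj⟩ := Cfsg.Agent.Lib.Helper9.LSFIN.finite_subgroup_conj F
      (H.map (Cfsg.Agent.Lib.Helper21.LS.G F).subtype) (by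
        rintro _ ⟨y, _, rfl⟩
        exact y.2)
    refine ⟨⟨g, hg⟩, fun h hh => ?_⟩
    obtain ⟨s, hs⟩ := hconj (h : Cfsg.Agent.Lib.Helper21.LS.Ghat F) (Subgroup.mem_map_of_mem _ hh)
    exact ⟨s, Subtype.ext hs⟩
  · obtain ⟨N, hN, hfree, hidx⟩ := Cfsg.Agent.Lib.Helper29.LSNS.exists_free_normal
      (Cfsg.Agent.Lib.Helper21.LS.actHom (Cfsg.Agent.Lib.Helper21.LS.Sig S) (Cfsg.Agent.Lib.Helper21.LS.X F))
      (Cfsg.Agent.Lib.Helper21.LS.G F)
    refine ⟨N, hN, hfree, ?_⟩
    rwa [Nat.card_perm] at hidx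

end Cfsg.Agent.S5286
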