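import Cfsg.Statements.S5287
import Cfsg.Agent.S5283
import Cfsg.Agent.S5284
import Cfsg.Agent.S5234
import Cfsg.Agent.S5235
import Cfsg.Agent.Lib.Helper1.MetacyclicTwoEnd
import Cfsg.Agent.Lib.Helper27.MetaSSReal2
import Cfsg.Agent.Lib.Helper27.MetaSSOdd2
import Cfsg.Agent.Lib.Helper27.MetaSSGlue

set_option autoImplicit false
open Cfsg

namespace Cfsg.Agent.S5287

open Cfsg.Agent.Lib.Helper27.MetaSS

/-- if `2 * n` (resp. `4 * n`) is a power of two then so is `n` -/
theorem exists_two_pow_of_mul {c n j : ℕ} (hc : c = 2 ∨ c = 4) (h : c * n = 2 ^ j) :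
    ∃ k, n = 2 ^ k := by
  have hd : n ∣ 2 ^ j := ⟨c, by rw [← h, mul_comm]⟩
  obtain ⟨k, -, hk⟩ := (Nat.dvd_prime_pow Nat.prime_two).mp hd
  exact ⟨k, hk⟩

/-- Let S be a finite metacyclic p-group (an extension of a cyclic group by a cyclic group). Every saturated fusion system over S is supersoluble (S has a chain of F-strongly closed subgroups from 1 to S with cyclic steps) if and only if S is not homocyclic of rank two (isomorphic to Z/p^n × Z/p^n with n ≥ 1) and, when p = 2, S is not dihedral of order at least 4, not quasi-dihedral (semidihedral) and not generalized quaternion of order at least 8. -/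
theorem result {Ω : Type*} [Group Ω] {S : Subgroup Ω} [Finite S] (p : ℕ) [Fact p.Prime] (hS : IsPGroup p ↥S) (hm : Cfsg.IsMetacyclic ↥S) : (∀ F : Cfsg.FusionSystem S, F.IsSaturated p → (∃ (m : ℕ) (c : Fin (m + 1) → Subgroup Ω), c 0 = ⊥ ∧ c (Fin.last m) = S ∧ (∀ i : Fin (m + 1), F.StronglyClosed (c i)) ∧ ∀ i : Fin m, c i.castSucc ≤ c i.succ ∧ ∃ x ∈ S, c i.succ = c i.castSucc ⊔ Subgroup.zpowers x)) ↔ ¬ ((∃ n : ℕ, 0 < n ∧ Nonempty (↥S ≃* Multiplicative (ZMod (p ^ n)) × Multiplicative (ZMod (p ^ n)))) ∨ (p = 2 ∧ ((∃ n : ℕ, 2 ≤ n ∧ Nonempty (↥S ≃* DihedralGroup n)) ∨ Cfsg.IsQuasiDihedral ↥S ∨ (∃ n : ℕ, 2 ≤ n ∧ Nonempty (↥S ≃* QuaternionGroup n))))) := by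
  classical
  have hpp : p.Prime := Fact.out
  -- the homocyclic case, used twice
  have hhomo : ∀ n : ℕ, 0 < n →
      Nonempty (↥S ≃* Multiplicative (ZMod (p ^ n)) × Multiplicative (ZMod (p ^ n))) →
      ¬ (∀ F : Cfsg.FusionSystem S, F.IsSaturated p → (∃ (m : ℕ) (c : Fin (m + 1) → Subgroup Ω), c 0 = ⊥ ∧ c (Fin.last m) = S ∧ (∀ i : Fin (m + 1), F.StronglyClosed (c i)) ∧ ∀ i : Fin m, c i.castSucc ≤ c i.succ ∧ ∃ x ∈ S, c i.succ = c i.castSucc ⊔ Subgroup.zpowers x)) := by
    rintro n hn ⟨e⟩ hss
    have hab : IsMulCommutative ↥S := ⟨⟨fun a b => by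
      apply e.injective
      rw [map_mul, map_mul, mul_comm]⟩⟩
    apply (Cfsg.Agent.S5284.result p hS hab).mp hss
    exact ⟨n, PUnit, inferInstance, hn, ⟨e.trans (MulEquiv.prodUnique).symm⟩⟩
  constructor
  · -- every saturated system supersoluble ⟹ not in the list
    intro hss hlist
    obtain ⟨hres, haut⟩ := (Cfsg.Agent.S5283.result p hS).mp hss
    rcases hlist with ⟨n, hn, he⟩ | ⟨rfl, hD | hSD | hQ⟩
    · exact hhomo n hn he hss
    · obtain ⟨n, hn, ⟨e⟩⟩ := hD
      obtain ⟨j, hj⟩ := IsPGroup.iff_card.mp hS
      rw [Nat.card_congr e.toEquiv, DihedralGroup.nat_card] at hj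
      obtain ⟨k, rfl⟩ := exists_two_pow_of_mul (Or.inl rfl) hj
      rcases Nat.lt_or_ge k 2 with hk | hk
      · have hk1 : k = 1 := by
          rcases k with _ | _ | k
          · norm_num at hn
          · rfl
          · omega
        subst hk1
        obtain ⟨e2⟩ := dihedral_two_equiv
        exact hhomo 1 one_pos ⟨e.trans e2⟩ hss
      · obtain ⟨F, hF, hnot⟩ := exists_not_normal_of_dihedral k hk e
        exact hnot (hres F hF)
    · obtain ⟨F, hF, hnot⟩ := exists_not_normal_of_isQuasiDihedral hSD
      exact hnot (hres F hF)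
    · obtain ⟨n, hn, ⟨e⟩⟩ := hQ
      have hn0 : NeZero n := ⟨by omega⟩
      obtain ⟨j, hj⟩ := IsPGroup.iff_card.mp hS
      rw [Nat.card_congr e.toEquiv, Nat.card_eq_fintype_card, QuaternionGroup.card] at hj
      obtain ⟨k, rfl⟩ := exists_two_pow_of_mul (Or.inr rfl) hj
      rcases Nat.lt_or_ge k 2 with hk | hk
      · have hk1 : k = 1 := by
          rcases k with _ | _ | k
          · norm_num at hn
          · rfl
          · omega
        subst hk1
        obtain ⟨K, hK, h, hhK, hh1⟩ := exists_bad_aut_of_q8 e
        have := (haut K hK).2 h hhK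
        rw [show 2 - 1 = 1 from rfl, pow_one] at this
        exact hh1 this
      · obtain ⟨F, hF, hnot⟩ := exists_not_normal_of_quaternion k hk e
        exact hnot (hres F hF)
  · -- not in the list ⟹ every saturated system is supersoluble
    intro hnot
    by_cases hab : ∀ a b : ↥S, a * b = b * a
    · -- abelian: S5284
      have hab' : IsMulCommutative ↥S := ⟨⟨hab⟩⟩
      apply (Cfsg.Agent.S5284.result p hS hab').mpr
      rintro ⟨n, H, iH, hn, ⟨f⟩⟩
      apply hnot
      left
      have hsub := subsingleton_of_isMetacyclic_prod hS hm n hn H f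
      have : Unique H := uniqueOfSubsingleton 1
      exact ⟨n, hn, ⟨f.trans MulEquiv.prodUnique⟩⟩
    · -- nonabelian: S5283
      apply (Cfsg.Agent.S5283.result p hS).mpr
      constructor
      · -- resistant
        intro F hF
        have hsc : F.StronglyClosed S := Cfsg.Agent.Lib.Helper26.stronglyClosed_top F
        by_cases hp2 : p = 2
        · apply Cfsg.Agent.S5235.result p hS F hF S hsc hp2 hm
          · rintro ⟨m, ⟨e⟩⟩
            rcases Nat.lt_or_ge m 2 with hm2 | hm2
            · interval_cases m
              · have : Infinite ↥S := Infinite.of_injective e.symm e.symm.injective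
                exact not_finite ↥S
              · apply hab
                intro a b
                apply e.injective
                rw [map_mul, map_mul]
                exact dihedral_one_comm _ _
            · exact hnot (Or.inr ⟨hp2, Or.inl ⟨m, hm2, ⟨e⟩⟩⟩)
          · rintro ⟨m, ⟨e⟩⟩
            rcases Nat.lt_or_ge m 2 with hm2 | hm2
            · interval_cases m
              · have := infinite_quaternion_zero
                have : Infinite ↥S := Infinite.of_injective e.symm e.symm.injective
                exact not_finite ↥S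
              · apply hab
                intro a b
                apply e.injective
                rw [map_mul, map_mul]
                exact quaternion_one_comm _ _
            · exact hnot (Or.inr ⟨hp2, Or.inr (Or.inr ⟨m, hm2, ⟨e⟩⟩)⟩)
          · intro hsd
            exact hnot (Or.inr ⟨hp2, Or.inr (Or.inl hsd)⟩)
        · exact Cfsg.Agent.S5234.result p hS F hF S hsc hp2 hm
      · -- `p'`-groups of automorphisms
        intro H hH
        by_cases hp2 : p = 2
        · subst hp2
          -- `H` is trivial
          have htriv : ∀ h ∈ H, h = 1 := by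
            intro h hh
            by_contra hne
            have ho1 : orderOf h ≠ 1 := fun h1 => hne (orderOf_eq_one_iff.mp h1)
            obtain ⟨q, hq, hqd⟩ := Nat.exists_prime_and_dvd ho1
            have hqH : q ∣ Nat.card H := by
              have h1 : orderOf h ∣ Nat.card H := by
                have := orderOf_dvd_natCard (⟨h, hh⟩ : ↥H)
                rwa [Subgroup.orderOf_mk] at this
              exact dvd_trans hqd h1
            have hq2 : q ≠ 2 := by
              rintro rfl
              have := Nat.Coprime.eq_one_of_dvd hH.symm hqH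
              omega
            haveI : Fact q.Prime := ⟨hq⟩
            obtain ⟨d, hd⟩ := hqd
            set α : MulAut ↥S := h ^ d with hα
            have hαq : α ^ q = 1 := by
              rw [hα, ← pow_mul, mul_comm, ← hd, pow_orderOf_eq_one]
            have hα1 : α ≠ 1 := by
              intro h1
              have h2 : orderOf h ∣ d := orderOf_dvd_of_pow_eq_one h1
              have hd0 : d ≠ 0 := by
                rintro rfl
                rw [mul_zero] at hd
                exact (orderOf_pos h).ne' hd
              have h3 := Nat.le_of_dvd (Nat.pos_of_ne_zero hd0) h2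
              rw [hd] at h3
              have h4 : d < q * d :=
                (Nat.lt_mul_iff_one_lt_left (Nat.pos_of_ne_zero hd0)).mpr hq.one_lt
              omega
            rcases Cfsg.Agent.Lib.Helper1.metacyclic_two_of_aut hS hm α hq2 hαq hα1 with ⟨⟨e⟩⟩ | ⟨n, ⟨e⟩⟩
            · exact hnot (Or.inr ⟨rfl, Or.inr (Or.inr ⟨2, le_refl 2, ⟨e⟩⟩)⟩)
            · rcases Nat.eq_zero_or_pos n with rfl | hn
              · apply hab
                intro a b
                apply e.injective
                rw [map_mul, map_mul, mul_comm]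
              · exact hnot (Or.inl ⟨n, hn, ⟨e⟩⟩)
          refine ⟨⟨⟨fun a b => Subtype.ext ?_⟩⟩, fun h hh => ?_⟩
          · rw [Subgroup.coe_mul, Subgroup.coe_mul, htriv a a.2, htriv b b.2]
          · rw [htriv h hh, one_pow]
        · obtain ⟨h1, h2⟩ := comm_and_exponent_of_metacyclic_odd hp2 hS hm hab H hH
          exact ⟨⟨⟨fun a b => Subtype.ext (h1 a a.2 b b.2)⟩⟩, h2⟩

end Cfsg.Agent.S5287
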