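import Cfsg.Statements.S5290
import Cfsg.Agent.Lib.Helper27.FSInner
import Cfsg.Agent.Lib.Helper27.FSCentric

set_option autoImplicit false
open Cfsg

namespace Cfsg.Agent.S5290

open Cfsg.FusionSystem Cfsg.Agent.Lib.Helper26 Cfsg.Agent.Lib.Helper27

section aux

variable {Ω : Type*} [Group Ω] {S : Subgroup Ω}

/-- The automorphisms `β` of `P` with `[P, β] ≤ Q` acting on `P ∩ Q` as conjugation by an element of `Q`. -/
def kSub (Q P : Subgroup Ω) : Subgroup (MulAut P) where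
  carrier := {β | (∀ x : P, (x : Ω)⁻¹ * ((β x : P) : Ω) ∈ Q) ∧
    ∃ h ∈ Q, ∀ x : P, (x : Ω) ∈ Q → ((β x : P) : Ω) = h * x * h⁻¹}
  one_mem' := by
    refine ⟨fun x => ?_, 1, Q.one_mem, fun x _ => ?_⟩
    · simp
    · simp
  mul_mem' := by
    rintro β₁ β₂ ⟨h1, k1, hk1, hk1'⟩ ⟨h2, k2, hk2, hk2'⟩
    refine ⟨fun x => ?_, k1 * k2, Q.mul_mem hk1 hk2, fun x hx => ?_⟩
    · have e : (x : Ω)⁻¹ * (((β₁ * β₂) x : P) : Ω) =
          ((x : Ω)⁻¹ * ((β₂ x : P) : Ω)) * (((β₂ x : P) : Ω)⁻¹ * ((β₁ (β₂ x) : P) : Ω)) := by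
        rw [MulAut.mul_apply]; group
      rw [e]
      exact Q.mul_mem (h2 x) (h1 (β₂ x))
    · rw [MulAut.mul_apply]
      have hx2 : ((β₂ x : P) : Ω) ∈ Q := by
        rw [hk2' x hx]
        exact Q.mul_mem (Q.mul_mem hk2 hx) (Q.inv_mem hk2)
      rw [hk1' (β₂ x) hx2, hk2' x hx]
      group
  inv_mem' := by
    rintro β ⟨h1, k, hk, hk'⟩
    refine ⟨fun x => ?_, k⁻¹, Q.inv_mem hk, fun x hx => ?_⟩
    · have := h1 (β⁻¹ x)
      have e : β (β⁻¹ x) = x := by simp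
      rw [e] at this
      have := Q.inv_mem this
      rwa [mul_inv_rev, inv_inv] at this
    · have hy : ((β⁻¹ x : P) : Ω) ∈ Q := by
        have := h1 (β⁻¹ x)
        have e : β (β⁻¹ x) = x := by simp
        rw [e] at this
        have h3 := Q.mul_mem hx (Q.inv_mem this)
        rwa [mul_inv_rev, inv_inv, mul_inv_cancel_left] at h3
      have := hk' (β⁻¹ x) hy
      have e : β (β⁻¹ x) = x := by simp
      rw [e] at this
      rw [this]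
      group

theorem mem_kSub_iff (Q P : Subgroup Ω) (β : MulAut P) :
    β ∈ kSub Q P ↔ (∀ x : P, (x : Ω)⁻¹ * ((β x : P) : Ω) ∈ Q) ∧
    ∃ h ∈ Q, ∀ x : P, (x : Ω) ∈ Q → ((β x : P) : Ω) = h * x * h⁻¹ := Iff.rfl

theorem kSub_isPGroup {p : ℕ} [Fact p.Prime] {Q P : Subgroup Ω} [Finite P] (hQ : IsPGroup p Q)
    (hP : IsPGroup p P) : IsPGroup p (kSub Q P) := by
  rintro ⟨β, hβ⟩
  obtain ⟨h1, k, hk, hk'⟩ := hβ
  obtain ⟨a, ha⟩ := hQ ⟨k, hk⟩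
  have ha' : k ^ p ^ a = 1 := by simpa using congrArg (fun t : Q => (t : Ω)) ha
  obtain ⟨b, hb⟩ := hP.exists_card_eq
  have hpow : ∀ n : ℕ, ∀ x : P, (x : Ω) ∈ Q → (((β ^ n) x : P) : Ω) = k ^ n * x * (k ^ n)⁻¹ := by
    intro n
    induction n with
    | zero => intro x _; simp
    | succ n ih =>
      intro x hx
      rw [pow_succ, MulAut.mul_apply]
      have hx2 : ((β x : P) : Ω) ∈ Q := by
        rw [hk' x hx]; exact Q.mul_mem (Q.mul_mem hk hx) (Q.inv_mem hk)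
      rw [ih (β x) hx2, hk' x hx, pow_succ]
      group
  have hγK : β ^ p ^ a ∈ kSub Q P := (kSub Q P).pow_mem ⟨h1, k, hk, hk'⟩ _
  have hγfix : ∀ x : P, (x : Ω) ∈ Q → (β ^ p ^ a) x = x := by
    intro x hx
    apply Subtype.ext
    rw [hpow _ x hx, ha']; simp
  refine ⟨a + b, ?_⟩
  apply Subtype.ext
  show β ^ p ^ (a + b) = 1
  rw [pow_add, pow_mul]
  ext x
  have hzQ : ((x⁻¹ * (β ^ p ^ a) x : P) : Ω) ∈ Q := hγK.1 x
  have e1 : (β ^ p ^ a) x = x * (x⁻¹ * (β ^ p ^ a) x) := by group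
  have e2 := aut_pow_apply_of_fixed (β ^ p ^ a) e1 (hγfix _ hzQ) (p ^ b)
  rw [e2, ← hb, pow_card_eq_one']
  simp

theorem kSub_normal [Finite S] (F : FusionSystem S) {Q P : Subgroup Ω} (hsc : F.StronglyClosed Q) (hPS : P ≤ S)
    (hfr : ∀ (R : Subgroup Ω), R ≤ Q → ∀ (φ : R →* Ω), φ ∈ F.Hom R →
      ∃ α ∈ F.autGroup Q, ∃ φ₀ ∈ (innerFusionSystem Q).Hom R,
        ∀ (x : R) (hx : φ₀ x ∈ Q), φ x = ((α ⟨φ₀ x, hx⟩ : Q) : Ω)) :
    ((kSub Q P).subgroupOf (F.autGroup P)).Normal := by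
  constructor
  intro β hβ γ
  rw [Subgroup.mem_subgroupOf] at hβ ⊢
  obtain ⟨g, hg⟩ := γ
  obtain ⟨b, hb⟩ := β
  show g * b * g⁻¹ ∈ kSub Q P
  change b ∈ kSub Q P at hβ
  obtain ⟨h1, h, hhQ, hh⟩ := hβ
  have hpres : ∀ g' : MulAut P, g' ∈ F.autGroup P → ∀ y : P, (y : Ω) ∈ Q → ((g' y : P) : Ω) ∈ Q := by
    intro g' hg' y hy
    have hgF := (mem_autGroup_iff F hPS g').mp hg'
    have hres := inclusion_comp_mem F (inf_le_right : Q ⊓ P ≤ P) hgF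
    exact hsc.2 (Q ⊓ P) inf_le_left _ hres ⟨y, hy, y.2⟩
  have hgF := (mem_autGroup_iff F hPS g).mp hg
  have hres := inclusion_comp_mem F (inf_le_right : Q ⊓ P ≤ P) hgF
  obtain ⟨α, hα, φ₀, ⟨-, k, hkQ, hφ₀⟩, hfr'⟩ := hfr (Q ⊓ P) inf_le_left _ hres
  have hkz : ∀ z : Ω, z ∈ Q → k * z * k⁻¹ ∈ Q := fun z hz => Q.mul_mem (Q.mul_mem hkQ hz) (Q.inv_mem hkQ)
  have key : ∀ (z : P) (hz : (z : Ω) ∈ Q),
      ((g z : P) : Ω) = ((α ⟨k * z * k⁻¹, hkz _ hz⟩ : Q) : Ω) := by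
    intro z hz
    have hx : φ₀ ⟨z, hz, z.2⟩ ∈ Q := by rw [hφ₀]; exact hkz _ hz
    have := hfr' ⟨z, hz, z.2⟩ hx
    have e : (⟨φ₀ ⟨z, hz, z.2⟩, hx⟩ : Q) = ⟨k * z * k⁻¹, hkz _ hz⟩ := Subtype.ext (hφ₀ _)
    rw [e] at this
    exact this
  have hginv : g⁻¹ ∈ F.autGroup P := (F.autGroup P).inv_mem hg
  refine ⟨fun x => ?_, ((α ⟨k * h * k⁻¹, hkz _ hhQ⟩ : Q) : Ω), (α _).2, fun x hx => ?_⟩
  · have hw : ((((g⁻¹ x)⁻¹ * b (g⁻¹ x) : P)) : Ω) ∈ Q := h1 (g⁻¹ x)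
    have := hpres g hg ((g⁻¹ x)⁻¹ * b (g⁻¹ x)) hw
    rw [map_mul, map_inv] at this
    have e : g (g⁻¹ x) = x := by simp
    rw [e] at this
    exact this
  · have hyQ : ((g⁻¹ x : P) : Ω) ∈ Q := hpres g⁻¹ hginv x hx
    have e : g (g⁻¹ x) = x := by simp
    have hby : ((b (g⁻¹ x) : P) : Ω) ∈ Q := by
      rw [hh _ hyQ]; exact Q.mul_mem (Q.mul_mem hhQ hyQ) (Q.inv_mem hhQ)
    show ((g (b (g⁻¹ x)) : P) : Ω) = _
    rw [key (b (g⁻¹ x)) hby]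
    have e2 : (⟨k * ((b (g⁻¹ x) : P) : Ω) * k⁻¹, hkz _ hby⟩ : Q) =
        ⟨k * h * k⁻¹, hkz _ hhQ⟩ * ⟨k * ((g⁻¹ x : P) : Ω) * k⁻¹, hkz _ hyQ⟩ * ⟨k * h * k⁻¹, hkz _ hhQ⟩⁻¹ := by
      apply Subtype.ext
      rw [Subgroup.coe_mul, Subgroup.coe_mul, Subgroup.coe_inv]
      show k * ((b (g⁻¹ x) : P) : Ω) * k⁻¹ = _
      rw [hh _ hyQ]; group
    rw [e2, map_mul, map_mul, map_inv, Subgroup.coe_mul, Subgroup.coe_mul, Subgroup.coe_inv, ← key _ hyQ, e]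

theorem le_of_inner_invariant [Finite S] {p : ℕ} [Fact p.Prime] (hS : IsPGroup p S) (F : FusionSystem S)
    {Q P : Subgroup Ω} (hsc : F.StronglyClosed Q)
    (hfr : ∀ (R : Subgroup Ω), R ≤ Q → ∀ (φ : R →* Ω), φ ∈ F.Hom R →
      ∃ α ∈ F.autGroup Q, ∃ φ₀ ∈ (innerFusionSystem Q).Hom R,
        ∀ (x : R) (hx : φ₀ x ∈ Q), φ x = ((α ⟨φ₀ x, hx⟩ : Q) : Ω))
    (hc : F.IsCentric P) (hr : F.IsRadical p P) : Q ≤ P := by
  by_contra hQP
  have hPS : P ≤ S := hc.1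
  have hQS : Q ≤ S := hsc.1
  have hPQS : P ⊔ Q ≤ S := sup_le hPS hQS
  have hfin : Finite ↥(P ⊔ Q) := finite_of_le hPQS
  have hfinP : Finite P := finite_of_le hPS
  have hpg : IsPGroup p ↥(P ⊔ Q) := hS.to_le hPQS
  have hne : P ≠ P ⊔ Q := fun h => hQP (h ▸ le_sup_right)
  obtain ⟨g, hgN, hgP⟩ := exists_mem_normalizerIn_not_mem hpg (le_sup_left : P ≤ P ⊔ Q) hne
  have hgPQ : g ∈ P ⊔ Q := normalizerIn_le _ _ hgN
  have hgN' : g ∈ Subgroup.normalizer (P : Set Ω) := hgN.2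
  have hQnS : ∀ s ∈ S, ∀ q ∈ Q, s * q * s⁻¹ ∈ Q := by
    intro s hs q hq
    exact hsc.2 Q le_rfl _ (F.conj_mem hQS hs) ⟨q, hq⟩
  have hSN : S ≤ Subgroup.normalizer (Q : Set Ω) := by
    intro s hs
    rw [Subgroup.mem_normalizer_iff]
    intro q
    refine ⟨hQnS s hs q, fun h => ?_⟩
    have := hQnS s⁻¹ (S.inv_mem hs) _ h
    simpa [mul_assoc] using this
  have hmul := Subgroup.coe_mul_of_left_le_normalizer_right P Q (hPS.trans hSN)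
  have hg' : g ∈ ((P ⊔ Q : Subgroup Ω) : Set Ω) := hgPQ
  rw [hmul] at hg'
  obtain ⟨x, hx, q, hq, rfl⟩ := Set.mem_mul.mp hg'
  have hxN : x ∈ Subgroup.normalizer (P : Set Ω) := Subgroup.le_normalizer hx
  have hqN : q ∈ Subgroup.normalizer (P : Set Ω) := by
    have := (Subgroup.normalizer (P : Set Ω)).mul_mem ((Subgroup.normalizer (P : Set Ω)).inv_mem hxN) hgN'
    rwa [inv_mul_cancel_left] at this
  have hqP : q ∉ P := fun h => hgP (P.mul_mem hx h)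
  apply hqP
  have hKp : IsPGroup p (kSub Q P) := kSub_isPGroup (hS.to_le hQS) (hS.to_le hPS)
  have hKn := kSub_normal F hsc hPS hfr (P := P)
  have hKinn : kSub Q P ⊓ F.autGroup P ≤ Inn P := by
    have h1 : (kSub Q P).subgroupOf (F.autGroup P) ≤ pCore p (F.autGroup P) :=
      le_sSup ⟨hKn, hKp.comap_subtype⟩
    rintro β ⟨hβK, hβF⟩
    rw [← hr.2]
    exact ⟨⟨β, hβF⟩, h1 hβK, rfl⟩
  have hβF : P.normalizerMonoidHom ⟨q, hqN⟩ ∈ F.autGroup P :=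
    autInducedBy_le_autGroup F hPS (normalizerMonoidHom_mem_autInducedBy (hQS hq) hqN)
  have hβK : P.normalizerMonoidHom ⟨q, hqN⟩ ∈ kSub Q P := by
    refine ⟨fun y => ?_, q, hq, fun y _ => rfl⟩
    show (y : Ω)⁻¹ * (q * y * q⁻¹) ∈ Q
    have h1 := hQnS (y : Ω)⁻¹ (S.inv_mem (hPS y.2)) q hq
    have h2 := Q.mul_mem h1 (Q.inv_mem hq)
    simpa [mul_assoc] using h2
  exact mem_of_normalizerMonoidHom_mem_inn F hc (hQS hq) hqN (hKinn ⟨hβK, hβF⟩)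

end aux

/-- Let F be a saturated fusion system over a finite p-group S and Q a subgroup of S. Then Q is normal in F (F = N_F(Q)) if and only if the inner fusion system of Q, consisting of the conjugations by elements of Q on subgroups of Q, is a weakly normal subsystem of F (both saturated, Q strongly closed, invariant under F-conjugation, with the Frattini property). -/
theorem result {Ω : Type*} [Group Ω] {S : Subgroup Ω} [Finite S] (p : ℕ) [Fact p.Prime] (hS : IsPGroup p S)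
    (F : Cfsg.FusionSystem S) (hF : F.IsSaturated p)
    (Q : Subgroup Ω) (hQ : Q ≤ S) :
    F.IsNormal Q ↔ (Cfsg.innerFusionSystem Q).IsWeaklyNormalIn F p := by
  have hfinQ : Finite Q := finite_of_le hQ
  constructor
  · intro hQn
    refine ⟨inner_saturated Q (hS.to_le hQ), hF, ?_, stronglyClosed_of_isNormal F hQn, ?_, ?_⟩
    · rintro P φ ⟨hP, g, hg, h⟩
      have e : φ = conjHom P g := by
        ext x
        rw [h x]; rfl
      rw [e]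
      exact F.conj_mem (hP.trans hQ) (hQ hg)
    · rintro P hPQ φ ⟨-, g, hg, h⟩ α hα
      refine ⟨conjHom _ ((α ⟨g, hg⟩ : Q) : Ω), ⟨?_, ((α ⟨g, hg⟩ : Q) : Ω), (α ⟨g, hg⟩).2, fun x => rfl⟩, ?_⟩
      · rintro _ ⟨y, -, rfl⟩
        exact (α y).2
      · intro x hφx hαx
        show ((α ⟨g, hg⟩ : Q) : Ω) * ((α ⟨x, hPQ x.2⟩ : Q) : Ω) * ((α ⟨g, hg⟩ : Q) : Ω)⁻¹ = _
        have e : (⟨φ x, hφx⟩ : Q) = ⟨g, hg⟩ * ⟨x, hPQ x.2⟩ * ⟨g, hg⟩⁻¹ := Subtype.ext (h x)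
        rw [e, map_mul, map_mul, map_inv, Subgroup.coe_mul, Subgroup.coe_mul, Subgroup.coe_inv]
    · intro P hPQ φ hφ
      obtain ⟨α, hα, hαφ⟩ := exists_aut_of_isNormal F hQn hφ
      refine ⟨α, hα, P.subtype, ⟨hPQ, 1, Q.one_mem, fun x => by simp⟩, fun x hx => hαφ x hx⟩
  · rintro ⟨-, -, -, hsc, -, hfr⟩
    exact (isNormal_iff_stronglyClosed_le_centric_radical hS F hF Q).mpr
      ⟨hsc, fun P hc hr => le_of_inner_invariant hS F hsc hfr hc hr⟩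

end Cfsg.Agent.S5290
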