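import Cfsg.Statements.S5291
import Cfsg.Agent.Lib.Helper27.FSWeaklyNormal

set_option autoImplicit false
open Cfsg

namespace Cfsg.Agent.S5291

open Cfsg.FusionSystem Cfsg.Agent.Lib.Helper26

/-- Let F be a saturated fusion system over a finite p-group S and E a weakly normal subsystem of F over a subgroup T. Suppose a subgroup R of T is normal in E (E = N_E(R)), and let R* be the subgroup of T generated by the images of R under all maps of F with source R. Then R* is normal in F (F = N_F(R*)). -/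
theorem result {Ω : Type*} [Group Ω] {S : Subgroup Ω} [Finite S] (p : ℕ) [Fact p.Prime] (hS : IsPGroup p S)
    (F : Cfsg.FusionSystem S) (hF : F.IsSaturated p)
    {T : Subgroup Ω} (E : Cfsg.FusionSystem T) (hE : E.IsWeaklyNormalIn F p)
    (R : Subgroup Ω) (hR : E.IsNormal R) :
    F.IsNormal (Subgroup.closure {x : Ω | ∃ φ ∈ F.Hom R, ∃ r : R, x = φ r}) := by
  have hN := Cfsg.Agent.Lib.Helper27.core_isNormal_of_isWeaklyNormalIn hS F E hE
  have hRN : R ≤ E.core := le_sSup hR
  have hNsc := stronglyClosed_of_isNormal F hN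
  have hQN : Subgroup.closure {x : Ω | ∃ φ ∈ F.Hom R, ∃ r : R, x = φ r} ≤ E.core := by
    rw [Subgroup.closure_le]
    rintro _ ⟨φ, hφ, r, rfl⟩
    exact hNsc.2 R hRN φ hφ r
  rw [isNormal_iff_stronglyClosed_le_centric_radical hS F hF]
  refine ⟨⟨hQN.trans hN.1, fun P hPQ φ hφ x => ?_⟩,
    fun P hc hr => hQN.trans (le_of_isNormal_of_centric_radical hS F hN hc hr)⟩
  obtain ⟨α, hα, hαφ⟩ := Cfsg.Agent.Lib.Helper27.exists_aut_of_isNormal F hN hφ
  rw [hαφ x (hQN (hPQ x.2))]
  have hαF := (mem_autGroup_iff F hN.1 α).mp hα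
  have key : ∀ y (hyQ : y ∈ Subgroup.closure {x : Ω | ∃ φ ∈ F.Hom R, ∃ r : R, x = φ r}),
      ∀ hy : y ∈ E.core, ((α ⟨y, hy⟩ : E.core) : Ω) ∈
        Subgroup.closure {x : Ω | ∃ φ ∈ F.Hom R, ∃ r : R, x = φ r} := by
    intro y hyQ
    induction hyQ using Subgroup.closure_induction with
    | mem y hy =>
      obtain ⟨φ', hφ', r, rfl⟩ := hy
      intro hy'
      have hcomp := F.comp_mem hφ' hαF (fun r => hNsc.2 R hRN φ' hφ' r)
      exact Subgroup.subset_closure ⟨_, hcomp, r, rfl⟩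
    | one =>
      intro hy
      have e : (⟨1, hy⟩ : E.core) = 1 := rfl
      rw [e, map_one]
      exact Subgroup.one_mem _
    | mul a b ha hb iha ihb =>
      intro hy
      have e : (⟨a * b, hy⟩ : E.core) = ⟨a, hQN ha⟩ * ⟨b, hQN hb⟩ := rfl
      rw [e, map_mul]
      exact Subgroup.mul_mem _ (iha _) (ihb _)
    | inv a ha iha =>
      intro hy
      have e : (⟨a⁻¹, hy⟩ : E.core) = ⟨a, hQN ha⟩⁻¹ := rfl
      rw [e, map_inv]
      exact Subgroup.inv_mem _ (iha _)
  exact key _ (hPQ x.2) _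

end Cfsg.Agent.S5291
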