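import Cfsg.Statements.S5294
import Cfsg.Agent.Lib.Helper27.FixedSplit
import Cfsg.Agent.Lib.Helper26.FSFrobenius

set_option autoImplicit false
universe u
open Cfsg Cfsg.FusionSystem Cfsg.Agent.Lib.Helper26 Cfsg.Agent.Lib.Helper27
open scoped IsMulCommutative

namespace Cfsg.Agent.S5294

/-- Let F be a saturated fusion system over a finite p-group S whose centre Z(S) lies in the largest subgroup O_p(F) normal in F. Then the centre Z(F) of F is a direct factor of Z(S): there is a subgroup K of Z(S) with Z(F) ∩ K = 1 and Z(F)K = Z(S). -/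
theorem result {Ω : Type u} [Group Ω] {S : Subgroup Ω} [Finite S] (p : ℕ) [Fact p.Prime] (hS : IsPGroup p S)
    (F : Cfsg.FusionSystem S) (hF : F.IsSaturated p) (hZ : (S ⊓ Subgroup.centralizer (S : Set Ω)) ≤ F.core) :
    ∃ K : Subgroup Ω, K ≤ (S ⊓ Subgroup.centralizer (S : Set Ω)) ∧ F.center ⊓ K = ⊥ ∧ F.center ⊔ K = (S ⊓ Subgroup.centralizer (S : Set Ω)) := by
  classical
  have hp : p.Prime := Fact.out
  have hQn : F.IsNormal F.core := core_isNormal F
  have hQS : F.core ≤ S := hQn.1
  have hsc := stronglyClosed_of_isNormal F hQn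
  have hconjQ : ∀ s ∈ S, ∀ y ∈ F.core, s * y * s⁻¹ ∈ F.core := by
    intro s hs y hy
    exact hsc.2 F.core le_rfl (conjHom F.core s) (F.conj_mem hQS hs) ⟨y, hy⟩
  have hSN : S ≤ Subgroup.normalizer (F.core : Set Ω) := by
    intro s hs
    apply mem_normalizer_of_conj_mem (hconjQ s hs)
    intro y hy
    have := hconjQ s⁻¹ (S.inv_mem hs) y hy
    simpa using this
  have hN : normalizerIn S F.core = S := normalizerIn_eq_of_le_normalizer hSN
  have hfn : F.IsFullyNormalized F.core :=
    ⟨hQS, fun Q' _ => by rw [hN]; exact Subgroup.card_le_of_le (normalizerIn_le S Q')⟩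
  obtain ⟨-, R, hR⟩ := (saturated_fn hS F hF hfn).2
  have hfinQ : Finite F.core := finite_of_le hQS
  let ρ : ↥(F.autGroup F.core) →* MulAut (Subgroup.center ↥F.core) :=
    centerAut.comp (F.autGroup F.core).subtype
  have hρ : ∀ (α : ↥(F.autGroup F.core)) (v : Subgroup.center ↥F.core),
      (((ρ α v : Subgroup.center ↥F.core) : ↥F.core) : Ω) = (((α : MulAut ↥F.core) (v : ↥F.core) : ↥F.core) : Ω) :=
    fun _ _ => rfl
  have hV : IsPGroup p (Subgroup.center ↥F.core) := (hS.to_le hQS).to_subgroup _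
  have hH : ¬ p ∣ (R : Subgroup ↥(F.autGroup F.core)).index := R.not_dvd_index
  obtain ⟨K, hK1, hK2, hK3⟩ := exists_compl_fixed ρ (R : Subgroup ↥(F.autGroup F.core)) hV hH
  let ι : Subgroup.center ↥F.core →* Ω := F.core.subtype.comp (Subgroup.center ↥F.core).subtype
  have hι : Function.Injective ι := by
    intro a b hab
    apply Subtype.ext
    apply Subtype.ext
    exact hab
  have hιapp : ∀ v : Subgroup.center ↥F.core, ι v = ((v : ↥F.core) : Ω) := fun _ => rfl
  -- elements of Z(S) as elements of the centre of the core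
  have hmk : ∀ x : Ω, x ∈ S ⊓ Subgroup.centralizer (S : Set Ω) →
      ∃ v : Subgroup.center ↥F.core, ι v = x := by
    rintro x hx
    have hxQ : x ∈ F.core := hZ hx
    have hxcen : (⟨x, hxQ⟩ : ↥F.core) ∈ Subgroup.center ↥F.core := by
      rw [Subgroup.mem_center_iff]
      intro g
      apply Subtype.ext
      exact Subgroup.mem_centralizer_iff.mp hx.2 g (hQS g.2)
    exact ⟨⟨⟨x, hxQ⟩, hxcen⟩, rfl⟩
  have claimA : (fixedBySubgroup ρ (R : Subgroup ↥(F.autGroup F.core))).map ι =
      S ⊓ Subgroup.centralizer (S : Set Ω) := by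
    ext x
    constructor
    · rintro ⟨v, hv, rfl⟩
      rw [Subgroup.mem_inf]
      refine ⟨hQS (v : ↥F.core).2, ?_⟩
      rw [Subgroup.mem_centralizer_iff]
      intro s hs
      have hcs : F.core.normalizerMonoidHom ⟨s, hSN hs⟩ ∈ autInducedBy S F.core :=
        normalizerMonoidHom_mem_autInducedBy hs _
      have hcsF := autInducedBy_le_autGroup F hQS hcs
      have hmemR : (⟨_, hcsF⟩ : ↥(F.autGroup F.core)) ∈ (R : Subgroup ↥(F.autGroup F.core)) := by
        rw [hR, Subgroup.mem_subgroupOf]; exact hcs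
      have hfix := hv _ hmemR
      have h1 := hρ ⟨_, hcsF⟩ v
      rw [hfix] at h1
      have h2 : ι v = s * ι v * s⁻¹ := h1
      calc s * ι v = (s * ι v * s⁻¹) * s := by group
        _ = ι v * s := by rw [← h2]
    · intro hx
      obtain ⟨v, rfl⟩ := hmk x hx
      refine ⟨v, ?_, rfl⟩
      intro h hh
      rw [hR, Subgroup.mem_subgroupOf] at hh
      obtain ⟨s, hs, hsh⟩ := (mem_autInducedBy_iff S F.core _).mp hh
      apply hι
      rw [hιapp, hρ, hsh]
      have := Subgroup.mem_centralizer_iff.mp hx.2 s hs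
      show s * ι v * s⁻¹ = ι v
      rw [this]; group
  have hZc := center_isCentral F
  have hcen := (isCentral_iff_conjElt hS F hF F.center).mp hZc
  have claimB : (fixedBySubgroup ρ ⊤).map ι = F.center := by
    apply le_antisymm
    · have hCS : (fixedBySubgroup ρ ⊤).map ι ≤ S := by
        rintro _ ⟨v, -, rfl⟩
        exact hQS (v : ↥F.core).2
      have hC : F.IsCentral ((fixedBySubgroup ρ ⊤).map ι) := by
        rw [isCentral_iff_conjElt hS F hF]
        refine ⟨hCS, ?_⟩
        rintro _ ⟨v, hv, rfl⟩ y ⟨φ, hφ, rfl⟩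
        obtain ⟨ψ, hψ, hψφ, hψQ⟩ := hQn.2 _ φ hφ
        have hψQ' := inclusion_comp_mem F (le_sup_right : F.core ≤ Subgroup.zpowers (ι v) ⊔ F.core) hψ
        obtain ⟨h1, h2⟩ := (map_subgroupOf_eq_iff ψ).mp hψQ
        have hr : (ψ.comp (Subgroup.inclusion
            (le_sup_right : F.core ≤ Subgroup.zpowers (ι v) ⊔ F.core))).range = F.core := by
          ext z
          constructor
          · rintro ⟨q, rfl⟩
            exact h1 _ q.2
          · intro hz
            obtain ⟨y, hy, hyz⟩ := h2 z hz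
            exact ⟨⟨y, hy⟩, hyz⟩
        have hαA : (homEquiv F hψQ' hr : MulAut ↥F.core) ∈ F.autGroup F.core := by
          rw [mem_autGroup_iff_isFIso F hQS]
          exact homEquiv_isFIso F hψQ' hr
        have hfix := hv ⟨_, hαA⟩ (Subgroup.mem_top _)
        have h3 := hρ ⟨_, hαA⟩ v
        rw [hfix] at h3
        rw [← hψφ ⟨ι v, Subgroup.mem_zpowers _⟩]
        have h4 : ι v = ψ (Subgroup.inclusion le_sup_right (v : ↥F.core)) := h3
        have h5 : (Subgroup.inclusion le_sup_left ⟨ι v, Subgroup.mem_zpowers _⟩ :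
            ↥(Subgroup.zpowers (ι v) ⊔ F.core)) = Subgroup.inclusion le_sup_right (v : ↥F.core) :=
          Subtype.ext rfl
        rw [h5]
        exact h4.symm
      exact le_sSup hC
    · intro x hx
      have hxS : x ∈ S := hcen.1 hx
      have hzS : Subgroup.zpowers x ≤ S := by
        rw [Subgroup.zpowers_le]; exact hxS
      have hxZ : x ∈ S ⊓ Subgroup.centralizer (S : Set Ω) := by
        rw [Subgroup.mem_inf]
        refine ⟨hxS, ?_⟩
        rw [Subgroup.mem_centralizer_iff]
        intro s hs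
        have h1 := hcen.2 x hx (s * x * s⁻¹) ⟨conjHom (Subgroup.zpowers x) s, F.conj_mem hzS hs, rfl⟩
        calc s * x = (s * x * s⁻¹) * s := by group
          _ = x * s := by rw [h1]
      obtain ⟨v, rfl⟩ := hmk x hxZ
      refine ⟨v, ?_, rfl⟩
      intro α _
      have hαF := (mem_autGroup_iff F hQS (α : MulAut ↥F.core)).mp α.2
      have hz : Subgroup.zpowers (ι v) ≤ F.core := by
        rw [Subgroup.zpowers_le]; exact (v : ↥F.core).2
      have hres := inclusion_comp_mem F hz hαF
      have h1 := hcen.2 (ι v) hx _ ⟨_, hres, rfl⟩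
      apply hι
      rw [hιapp, hρ]
      exact h1
  refine ⟨K.map ι, ?_, ?_, ?_⟩
  · rw [← claimA]; exact Subgroup.map_mono hK1
  · rw [← claimB, ← Subgroup.map_inf _ _ ι hι, hK2, Subgroup.map_bot]
  · rw [← claimB, ← Subgroup.map_sup, hK3, claimA]

end Cfsg.Agent.S5294
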