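import Cfsg.Statements.S5297
import Cfsg.Agent.Lib.Helper17.HypSmall

set_option autoImplicit false
universe u
open Cfsg

namespace Cfsg.Agent.S5297

open Cfsg.FusionSystem Cfsg.Agent.Lib.Helper26 Cfsg.Agent.Lib.Helper17

/-- Let F be a saturated fusion system over a finite p-group S. If every map of F between cyclic subgroups of the hyperfocal subgroup of F of order p or 4 is a map of the normalizer system of S (it extends to a map of F defined on all of S), then S is normal in F. -/
theorem result {Ω : Type u} [Group Ω] {S : Subgroup Ω} [Finite S] (p : ℕ) [Fact p.Prime] (hS : IsPGroup p S)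
    (F : Cfsg.FusionSystem S) (hF : F.IsSaturated p)
    (h : ∀ A B : Subgroup Ω, A ≤ (F.hyperfocalSubgroup p) → B ≤ (F.hyperfocalSubgroup p) → IsCyclic ↥A → (Nat.card ↥A = p ∨ Nat.card ↥A = 4) → IsCyclic ↥B → (Nat.card ↥B = p ∨ Nat.card ↥B = 4) →
      F.homSet A B ⊆ F.normalizerHom S A) :
    F.IsNormal S := by
  have hpp : p.Prime := Fact.out
  apply isNormal_of_forall_aut hS F hF S
  intro P hP
  rcases hP with rfl | hP
  · refine ⟨le_rfl, fun α _ => ?_⟩
    rw [Subgroup.subgroupOf_self]
    exact Subgroup.map_top_of_surjective _ α.surjective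
  · exfalso
    have hPS : P ≤ S := hP.1.1
    haveI hfin : Finite P := finite_of_le hPS
    have hd := essData_of_essential hS F hP
    have hfa := (saturated_fn hS F hF hP.2.1).2
    obtain ⟨n, hn⟩ := exists_ucs_eq hS
    set A : Subgroup (MulAut P) := F.autGroup P with hA
    set B : Subgroup (MulAut P) := autInducedBy S P with hB
    have hBA : B ≤ A := autInducedBy_le_autGroup F hPS
    -- a nontrivial `p'`-element in the normal closure of `B` in `A`
    let Nc : Subgroup A := Subgroup.normalClosure ((B.subgroupOf A : Subgroup A) : Set A)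
    have hNcn : Nc.Normal := Subgroup.normalClosure_normal
    have hNcnp : ¬ IsPGroup p Nc := by
      intro hNcp
      obtain ⟨α, hαA, hαInn, j, hj⟩ := hd.out
      have hBz : Subgroup.zpowers α ≤ A := by
        rw [Subgroup.zpowers_le]; exact hαA
      have hBp : IsPGroup p (Subgroup.zpowers α) := by
        rintro ⟨β, hβ⟩
        obtain ⟨k, rfl⟩ := Subgroup.mem_zpowers_iff.mp hβ
        refine ⟨j, Subtype.ext ?_⟩
        show (α ^ k) ^ (p ^ j) = 1
        rw [← zpow_natCast, ← zpow_mul, mul_comm, zpow_mul, zpow_natCast, hj, one_zpow]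
      obtain ⟨χ, hχA, hχ⟩ := exists_conj_mem_autInducedBy F hfa _ hBz hBp
      have h1 : χ * α * χ⁻¹ ∈ B := hχ α (Subgroup.mem_zpowers α)
      have h2 : (⟨χ * α * χ⁻¹, A.mul_mem (A.mul_mem hχA hαA) (A.inv_mem hχA)⟩ : A) ∈ Nc :=
        Subgroup.subset_normalClosure (Subgroup.mem_subgroupOf.mpr h1)
      have h3 : χ * α * χ⁻¹ ∈ Cfsg.Inn P := hd.core Nc hNcn hNcp _ h2
      apply hαInn
      have h4 := (Cfsg.innNormal P).conj_mem _ h3 χ⁻¹
      have h5 : χ⁻¹ * (χ * α * χ⁻¹) * χ⁻¹⁻¹ = α := by group
      rwa [h5] at h4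
    have hex : ∃ g₀ ∈ Nc, (orderOf g₀).Coprime p ∧ g₀ ≠ 1 := by
      by_contra hcon
      push Not at hcon
      exact hNcnp (Cfsg.Agent.Lib.Helper16.isPGroup_of_coprime_trivial Nc hcon)
    obtain ⟨g₀, hg₀Nc, hg₀cop, hg₀ne⟩ := hex
    have hgA : (g₀ : MulAut P) ∈ A := g₀.2
    have hcop : (orderOf (g₀ : MulAut P)).Coprime p := by
      rw [Subgroup.orderOf_coe]; exact hg₀cop
    apply hg₀ne
    apply Subtype.ext
    show (g₀ : MulAut P) = 1
    have hys_coe : ∀ y : P, (y ^ p = 1 ∨ (p = 2 ∧ y ^ 4 = 1)) →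
        ((y : Ω) ^ p = 1 ∨ (p = 2 ∧ (y : Ω) ^ 4 = 1)) := by
      intro y hys
      rcases hys with h1 | ⟨h2, h1⟩
      · left
        have := congrArg Subtype.val h1
        simpa using this
      · right
        have := congrArg Subtype.val h1
        exact ⟨h2, by simpa using this⟩
    apply coprime_trivial_of_chain (hS.to_le hPS) A (inn_le_autGroup F hPS)
      (fun i => (ucs S i).subgroupOf P) ?_ ?_ n ?_ ((F.hyperfocalSubgroup p).subgroupOf P) ?_
      B hBA ?_ ?_ (g₀ : MulAut P) hgA hcop ?_ ?_
    · intro i j hij x hx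
      rw [Subgroup.mem_subgroupOf] at hx ⊢
      exact ucs_mono S hij hx
    · show (ucs S 0).subgroupOf P = ⊥
      rw [ucs_zero, Subgroup.bot_subgroupOf]
    · show (ucs S n).subgroupOf P = ⊤
      rw [hn, Subgroup.subgroupOf_eq_top]
      exact hPS
    · intro a ha x hx
      rw [Subgroup.mem_subgroupOf] at hx ⊢
      exact aut_apply_mem_hyperfocal hS F hF hPS ha x hx
    · -- automorphisms preserve the chain on small elements: the restriction extends to an automorphism of `S`
      intro a ha y hy hys i hyi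
      rw [Subgroup.mem_subgroupOf] at hyi ⊢
      by_cases hy1 : y = 1
      · rw [hy1, map_one]; exact (ucs S i).one_mem
      obtain ⟨φ, hφ, hφy⟩ := exists_small_map hS F hF (fun A => F.normalizerHom S A) h hPS ha y
        (Subgroup.mem_subgroupOf.mp hy) hy1 (hys_coe y hys)
      obtain ⟨-, -, -, ψ, hψ, hψφ, hψS⟩ := hφ
      have hyS : (y : Ω) ∈ S := hPS y.2
      let ψ' : ↥S →* Ω := ψ.comp (Subgroup.inclusion (le_sup_right : S ≤ Subgroup.zpowers (y : Ω) ⊔ S))
      have hinj : Function.Injective ψ' :=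
        (F.injective_of_mem hψ).comp (Subgroup.inclusion_injective _)
      have hval : ∀ x, ψ' x ∈ S := fun x => hom_apply_mem F hψ _
      have h1 := ucs_map_mem ψ' hinj hval hyi hyS
      have h2 : ψ' ⟨(y : Ω), hyS⟩ = ((a y : P) : Ω) := by
        rw [← hφy, ← hψφ]
        rfl
      rwa [h2] at h1
    · intro r hr y hy hys i hyi
      rw [Subgroup.mem_subgroupOf] at hyi ⊢
      obtain ⟨s, hs, hsr⟩ := (mem_autInducedBy_iff S P r).mp hr
      show ((y⁻¹ * r y : P) : Ω) ∈ ucs S i
      rw [Subgroup.coe_mul, Subgroup.coe_inv, hsr]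
      exact ucs_comm_mem hs hyi
    · intro x
      rw [Subgroup.mem_subgroupOf]
      have hres : g₀ ∈ Cfsg.pResidual p (F.autGroup P) := by
        apply Subgroup.subset_closure
        exact hg₀cop
      have := mem_hyperfocal_of F p hPS g₀ hres x
      simpa using this
    · intro N hN hBN
      have hN' : (N.subgroupOf A).Normal := by
        constructor
        intro m hm a
        rw [Subgroup.mem_subgroupOf] at hm ⊢
        exact hN a a.2 m hm
      have hle : Nc ≤ N.subgroupOf A := by
        apply Subgroup.normalClosure_le_normal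
        intro b hb
        rw [SetLike.mem_coe, Subgroup.mem_subgroupOf] at hb ⊢
        exact hBN hb
      exact Subgroup.mem_subgroupOf.mp (hle hg₀Nc)

end Cfsg.Agent.S5297
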