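import Cfsg.Statements.S5298
import Cfsg.Agent.Lib.Helper17.HypSmall

set_option autoImplicit false
universe u
open Cfsg

namespace Cfsg.Agent.S5298

open Cfsg.FusionSystem Cfsg.Agent.Lib.Helper26 Cfsg.Agent.Lib.Helper17

/-- Let F be a saturated fusion system over a finite p-group S. If every map of F between cyclic subgroups of the hyperfocal subgroup of F of order p or 4 is conjugation by an element of S, then F is the inner fusion system of S. -/
theorem result {Ω : Type u} [Group Ω] {S : Subgroup Ω} [Finite S] (p : ℕ) [Fact p.Prime] (hS : IsPGroup p S)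
    (F : Cfsg.FusionSystem S) (hF : F.IsSaturated p)
    (h : ∀ A B : Subgroup Ω, A ≤ (F.hyperfocalSubgroup p) → B ≤ (F.hyperfocalSubgroup p) → IsCyclic ↥A → (Nat.card ↥A = p ∨ Nat.card ↥A = 4) → IsCyclic ↥B → (Nat.card ↥B = p ∨ Nat.card ↥B = 4) →
      F.homSet A B ⊆ (Cfsg.innerFusionSystem S).Hom A) :
    ∀ P : Subgroup Ω, F.Hom P = (Cfsg.innerFusionSystem S).Hom P := by
  have hpp : p.Prime := Fact.out
  have key : ∀ P : Subgroup Ω, P ≤ S → IsPGroup p (F.autGroup P) := by
    intro P hPS
    haveI : Finite P := finite_of_le hPS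
    apply Cfsg.Agent.Lib.Helper16.isPGroup_of_coprime_trivial
    intro g hgA hcop
    obtain ⟨n, hn⟩ := exists_ucs_eq hS
    -- every automorphism acts on small elements of the hyperfocal subgroup as conjugation by an element of `S`
    have hconj : ∀ a ∈ F.autGroup P, ∀ y ∈ (F.hyperfocalSubgroup p).subgroupOf P,
        (y ^ p = 1 ∨ (p = 2 ∧ y ^ 4 = 1)) → ∃ s ∈ S, ((a y : P) : Ω) = s * (y : Ω) * s⁻¹ := by
      intro a ha y hy hys
      by_cases hy1 : y = 1
      · exact ⟨1, S.one_mem, by rw [hy1, map_one]; simp⟩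
      have hys' : (y : Ω) ^ p = 1 ∨ (p = 2 ∧ (y : Ω) ^ 4 = 1) := by
        rcases hys with h1 | ⟨h2, h1⟩
        · left
          have := congrArg Subtype.val h1
          simpa using this
        · right
          have := congrArg Subtype.val h1
          exact ⟨h2, by simpa using this⟩
      obtain ⟨φ, hφ, hφy⟩ := exists_small_map hS F hF (fun A => (Cfsg.innerFusionSystem S).Hom A) h hPS ha y
        (Subgroup.mem_subgroupOf.mp hy) hy1 hys'
      obtain ⟨-, s, hs, hφs⟩ := hφ
      exact ⟨s, hs, by rw [← hφy, hφs]⟩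
    apply coprime_trivial_of_chain (hS.to_le hPS) (F.autGroup P) (inn_le_autGroup F hPS)
      (fun i => (ucs S i).subgroupOf P) ?_ ?_ n ?_ ((F.hyperfocalSubgroup p).subgroupOf P) ?_
      (F.autGroup P) le_rfl ?_ ?_ g hgA hcop ?_ ?_
    · intro i j hij x hx
      rw [Subgroup.mem_subgroupOf] at hx ⊢
      exact ucs_mono S hij hx
    · show (ucs S 0).subgroupOf P = ⊥
      rw [ucs_zero, Subgroup.bot_subgroupOf]
    · show (ucs S n).subgroupOf P = ⊤
      rw [hn, Subgroup.subgroupOf_eq_top]
      exact hPS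
    · intro a ha x hx
      rw [Subgroup.mem_subgroupOf] at hx ⊢
      exact aut_apply_mem_hyperfocal hS F hF hPS ha x hx
    · intro a ha y hy hys i hyi
      rw [Subgroup.mem_subgroupOf] at hyi ⊢
      obtain ⟨s, hs, hsy⟩ := hconj a ha y hy hys
      rw [hsy]
      exact ucs_conj_mem hs hyi
    · intro r hr y hy hys i hyi
      rw [Subgroup.mem_subgroupOf] at hyi ⊢
      obtain ⟨s, hs, hsy⟩ := hconj r hr y hy hys
      show ((y⁻¹ * r y : P) : Ω) ∈ ucs S i
      rw [Subgroup.coe_mul, Subgroup.coe_inv, hsy]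
      exact ucs_comm_mem hs hyi
    · intro x
      rw [Subgroup.mem_subgroupOf]
      have hres : (⟨g, hgA⟩ : F.autGroup P) ∈ Cfsg.pResidual p (F.autGroup P) := by
        apply Subgroup.subset_closure
        show Nat.Coprime (orderOf (⟨g, hgA⟩ : F.autGroup P)) p
        rw [Subgroup.orderOf_mk]
        exact hcop
      have := mem_hyperfocal_of F p hPS ⟨g, hgA⟩ hres x
      simpa using this
    · intro N _ hBN
      exact hBN hgA
  have hFeq := eq_inner_of_forall_isPGroup hS F hF key
  intro P
  exact congrArg (fun E : Cfsg.FusionSystem S => E.Hom P) hFeq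

end Cfsg.Agent.S5298
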