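import Cfsg.Statements.S5299
import Cfsg.Agent.Lib.Helper27.Involves

set_option autoImplicit false
universe u
open Cfsg

namespace Cfsg.Agent.S5299

/-- Let F be a saturated fusion system over a finite p-group S, H a finite group and Q a p-subgroup of H. If Q is not involved in S (no section of S is isomorphic to Q), then F is H-free: H is involved in no model of the normalizer system of a fully normalized centric subgroup. -/
theorem result {Ω : Type u} [Group Ω] {S : Subgroup Ω} [Finite S] (p : ℕ) [Fact p.Prime] (hS : IsPGroup p S)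
    (F : Cfsg.FusionSystem S) (hF : F.IsSaturated p) (H : Type*) [Group H] [Finite H] (Q : Subgroup H) (hQ : IsPGroup p Q)
    (hfree : ¬ Cfsg.Involves (↥Q) (↥S)) : F.IsSectionFree p H := by
  intro Q' _ _ N _ L _ ι hmodel hinv
  obtain ⟨hfin, ⟨hιinj, -⟩, ⟨T, hT⟩, -⟩ := hmodel
  haveI : Finite L := hfin
  apply hfree
  have h1 : Cfsg.Involves (↥Q) (↥(T : Subgroup L)) :=
    Cfsg.Agent.Lib.Helper27.involves_sylow_of_involves T hinv Q hQ
  let e1 : ↥(T : Subgroup L) ≃* ↥ι.range := MulEquiv.subgroupCongr hT
  let e2 : ↥ι.range ≃* ↥(Cfsg.FusionSystem.normalizerIn S Q') := (MonoidHom.ofInjective hιinj).symm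
  have hle : Cfsg.FusionSystem.normalizerIn S Q' ≤ S := inf_le_left
  let j : ↥(T : Subgroup L) →* ↥S :=
    (Subgroup.inclusion hle).comp (e2.toMonoidHom.comp e1.toMonoidHom)
  have hj : Function.Injective j := by
    intro x y hxy
    have h2 := Subgroup.inclusion_injective hle hxy
    exact e1.injective (e2.injective h2)
  exact Cfsg.Agent.Lib.Helper27.involves_of_injective j hj h1

end Cfsg.Agent.S5299
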