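import Cfsg.Statements.S5301
import Cfsg.Agent.Lib.Helper26.FSFrobenius

set_option autoImplicit false
universe u
open Cfsg Cfsg.FusionSystem Cfsg.Agent.Lib.Helper26

namespace Cfsg.Agent.S5301

/-- Let F be a saturated fusion system over a finite p-group S. If for every subgroup P of S that is fully normalized, centric and radical in F the automorphism group that F induces on P has a normal Sylow p-subgroup, then S is normal in F. -/
theorem result {Ω : Type u} [Group Ω] {S : Subgroup Ω} [Finite S] (p : ℕ) [Fact p.Prime] (hS : IsPGroup p S)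
    (F : Cfsg.FusionSystem S) (hF : F.IsSaturated p)
    (hcl : ∀ P : Subgroup Ω, F.IsFullyNormalized P → F.IsCentric P → F.IsRadical p P →
      ∃ R : Sylow p ↥(F.autGroup P), (R : Subgroup ↥(F.autGroup P)).Normal) :
    F.IsNormal S := by
  classical
  have hp : p.Prime := Fact.out
  apply isNormal_of_forall_aut hS F hF S
  intro P hP
  rcases hP with rfl | hP
  · refine ⟨le_rfl, fun α _ => ?_⟩
    rw [Subgroup.subgroupOf_self]
    exact Subgroup.map_top_of_surjective _ α.surjective
  · exfalso
    have hrad := radical_of_essential hS F P hP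
    obtain ⟨hc, hfn, hnorm, E, hE⟩ := hP
    have hPS : P ≤ S := hc.1
    have hfinP : Finite P := finite_of_le hPS
    obtain ⟨R, hRn⟩ := hcl P hfn hc hrad
    -- R ≤ O_p(Aut_F(P))
    have hR1 : (R : Subgroup ↥(F.autGroup P)) ≤ pCore p ↥(F.autGroup P) :=
      le_sSup ⟨hRn, R.isPGroup'⟩
    -- O_p(Aut_F(P)) ≤ Inn(P) (as subgroups of Aut_F(P))
    have hR2 : pCore p ↥(F.autGroup P) ≤ (Inn P).subgroupOf (F.autGroup P) := by
      intro x hx
      rw [Subgroup.mem_subgroupOf, ← hrad.2]
      exact ⟨x, hx, rfl⟩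
    have hle : (R : Subgroup ↥(F.autGroup P)) ≤ (Inn P).subgroupOf (F.autGroup P) := hR1.trans hR2
    have hdvd : p ∣ ((Inn P).subgroupOf (F.autGroup P)).index := hE.1
    have h2 : ((Inn P).subgroupOf (F.autGroup P)).index ∣ (R : Subgroup ↥(F.autGroup P)).index :=
      Subgroup.index_dvd_of_le hle
    exact R.not_dvd_index (hdvd.trans h2)

end Cfsg.Agent.S5301
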