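import Cfsg.Statements.S5306
import Cfsg.Agent.Lib.Helper27.Thompson

set_option autoImplicit false
open Cfsg

namespace Cfsg.Agent.S5306

/-- Let P be a Sylow p-subgroup of the finite group X and J = J(P) its Thompson subgroup (generated by the elementary abelian subgroups of P of largest order). If x and y lie in the centre of J and y = g x g⁻¹ for some g in X, then y = n x n⁻¹ for some n in the normalizer N_X(J). -/
theorem result {X : Type*} [Group X] [Finite X] (p : ℕ) [Fact p.Prime] (P : Sylow p X) (J : Subgroup X) (hJ : J = Cfsg.thompsonSubgroupOf p (P : Subgroup X))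
    (x y : X) (hx : x ∈ J ∧ ∀ j ∈ J, Commute j x) (hy : y ∈ J ∧ ∀ j ∈ J, Commute j y) (g : X) (hg : g * x * g⁻¹ = y) :
    ∃ n ∈ Subgroup.normalizer (J : Set X), n * x * n⁻¹ = y := by
  classical
  subst hJ
  obtain ⟨hxJ, hxc⟩ := hx
  obtain ⟨hyJ, hyc⟩ := hy
  have hJP : Cfsg.thompsonSubgroupOf p (P : Subgroup X) ≤ (P : Subgroup X) := Subgroup.map_subtype_le _
  have hJp : IsPGroup p (Cfsg.thompsonSubgroupOf p (P : Subgroup X)) := P.isPGroup'.to_le hJP
  -- J and its conjugate by g lie in C(y)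
  have hJC : Cfsg.thompsonSubgroupOf p (P : Subgroup X) ≤ Subgroup.centralizer ({y} : Set X) := by
    intro j hj
    rw [Subgroup.mem_centralizer_iff]
    intro h hh
    rw [Set.mem_singleton_iff.mp hh]
    exact (hyc j hj).symm
  have hJgC : (Cfsg.thompsonSubgroupOf p (P : Subgroup X)).map (MulAut.conj g).toMonoidHom ≤
      Subgroup.centralizer ({y} : Set X) := by
    rintro _ ⟨j, hj, rfl⟩
    rw [Subgroup.mem_centralizer_iff]
    intro h hh
    rw [Set.mem_singleton_iff.mp hh]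
    have h1 : j * x = x * j := hxc j hj
    show y * (g * j * g⁻¹) = g * j * g⁻¹ * y
    rw [← hg]
    calc g * x * g⁻¹ * (g * j * g⁻¹) = g * (x * j) * g⁻¹ := by group
      _ = g * (j * x) * g⁻¹ := by rw [h1]
      _ = g * j * g⁻¹ * (g * x * g⁻¹) := by group
  have hJgp : IsPGroup p ((Cfsg.thompsonSubgroupOf p (P : Subgroup X)).map (MulAut.conj g).toMonoidHom) :=
    hJp.map _
  -- Sylow subgroups of C(y)
  obtain ⟨R₁, hR₁⟩ := (hJp.comap_subtype (K := Subgroup.centralizer ({y} : Set X))).exists_le_sylow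
  obtain ⟨R₂, hR₂⟩ := (hJgp.comap_subtype (K := Subgroup.centralizer ({y} : Set X))).exists_le_sylow
  obtain ⟨c, hc⟩ := MulAction.exists_smul_eq (Subgroup.centralizer ({y} : Set X)) R₂ R₁
  have hQ₁p : IsPGroup p ((R₁ : Subgroup _).map (Subgroup.centralizer ({y} : Set X)).subtype) :=
    R₁.isPGroup'.map _
  have hQ₂p : IsPGroup p ((R₂ : Subgroup _).map (Subgroup.centralizer ({y} : Set X)).subtype) :=
    R₂.isPGroup'.map _
  have hJQ₁ : Cfsg.thompsonSubgroupOf p (P : Subgroup X) ≤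
      (R₁ : Subgroup _).map (Subgroup.centralizer ({y} : Set X)).subtype := by
    intro j hj
    exact ⟨⟨j, hJC hj⟩, hR₁ (Subgroup.mem_subgroupOf.mpr hj), rfl⟩
  have hJQ₂ : (Cfsg.thompsonSubgroupOf p (P : Subgroup X)).map (MulAut.conj g).toMonoidHom ≤
      (R₂ : Subgroup _).map (Subgroup.centralizer ({y} : Set X)).subtype := by
    intro j hj
    exact ⟨⟨j, hJgC hj⟩, hR₂ (Subgroup.mem_subgroupOf.mpr hj), rfl⟩
  -- Q₁ is the conjugate of Q₂ by c
  have hQ₁Q₂ : (R₁ : Subgroup _).map (Subgroup.centralizer ({y} : Set X)).subtype =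
      ((R₂ : Subgroup _).map (Subgroup.centralizer ({y} : Set X)).subtype).map
        (MulAut.conj (c : X)).toMonoidHom := by
    rw [← hc, Cfsg.Agent.Lib.Helper27.sylow_smul_eq_map]
    ext z
    constructor
    · rintro ⟨_, ⟨w, hw, rfl⟩, rfl⟩
      exact ⟨w, ⟨w, hw, rfl⟩, rfl⟩
    · rintro ⟨_, ⟨w, hw, rfl⟩, rfl⟩
      exact ⟨_, ⟨w, hw, rfl⟩, rfl⟩
  -- Thompson subgroups
  have h1 : Cfsg.thompsonSubgroupOf p ((R₁ : Subgroup _).map (Subgroup.centralizer ({y} : Set X)).subtype) =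
      Cfsg.thompsonSubgroupOf p (P : Subgroup X) :=
    Cfsg.Agent.Lib.Helper27.thompsonSubgroupOf_eq_of_sylow P hQ₁p hJQ₁
  have hPg : Cfsg.thompsonSubgroupOf p ((g • P : Sylow p X) : Subgroup X) =
      (Cfsg.thompsonSubgroupOf p (P : Subgroup X)).map (MulAut.conj g).toMonoidHom := by
    rw [Cfsg.Agent.Lib.Helper27.sylow_smul_eq_map, Cfsg.Agent.Lib.Helper27.thompsonSubgroupOf_map]
  have h2 : Cfsg.thompsonSubgroupOf p ((R₂ : Subgroup _).map (Subgroup.centralizer ({y} : Set X)).subtype) =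
      (Cfsg.thompsonSubgroupOf p (P : Subgroup X)).map (MulAut.conj g).toMonoidHom := by
    rw [← hPg]
    apply Cfsg.Agent.Lib.Helper27.thompsonSubgroupOf_eq_of_sylow (g • P) hQ₂p
    rw [hPg]
    exact hJQ₂
  have h3 : Cfsg.thompsonSubgroupOf p (P : Subgroup X) =
      ((Cfsg.thompsonSubgroupOf p (P : Subgroup X)).map (MulAut.conj g).toMonoidHom).map
        (MulAut.conj (c : X)).toMonoidHom := by
    calc Cfsg.thompsonSubgroupOf p (P : Subgroup X)
        = Cfsg.thompsonSubgroupOf p ((R₁ : Subgroup _).map (Subgroup.centralizer ({y} : Set X)).subtype) := h1.symm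
      _ = Cfsg.thompsonSubgroupOf p (((R₂ : Subgroup _).map (Subgroup.centralizer ({y} : Set X)).subtype).map
            (MulAut.conj (c : X)).toMonoidHom) := by rw [hQ₁Q₂]
      _ = (Cfsg.thompsonSubgroupOf p ((R₂ : Subgroup _).map (Subgroup.centralizer ({y} : Set X)).subtype)).map
            (MulAut.conj (c : X)).toMonoidHom := Cfsg.Agent.Lib.Helper27.thompsonSubgroupOf_map _ _ _
      _ = _ := by rw [h2]
  refine ⟨(c : X) * g, ?_, ?_⟩
  · rw [Subgroup.mem_normalizer_iff]
    intro h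
    constructor
    · intro hh
      rw [h3]
      refine ⟨g * h * g⁻¹, ⟨h, hh, rfl⟩, ?_⟩
      show (c : X) * (g * h * g⁻¹) * (c : X)⁻¹ = (c : X) * g * h * ((c : X) * g)⁻¹
      group
    · intro hh
      rw [h3] at hh
      obtain ⟨_, ⟨h', hh', rfl⟩, heq⟩ := hh
      have heq' : (c : X) * (g * h' * g⁻¹) * (c : X)⁻¹ = (c : X) * g * h * ((c : X) * g)⁻¹ := heq
      have : h' = h := by
        have e1 : (c : X) * (g * h' * g⁻¹) * (c : X)⁻¹ = ((c : X) * g) * h' * ((c : X) * g)⁻¹ := by group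
        rw [e1] at heq'
        exact mul_left_cancel (mul_right_cancel heq')
      rw [← this]
      exact hh'
  · have hcy : y * (c : X) = (c : X) * y := (Subgroup.mem_centralizer_iff.mp c.2) y rfl
    calc (c : X) * g * x * ((c : X) * g)⁻¹ = (c : X) * (g * x * g⁻¹) * (c : X)⁻¹ := by group
      _ = (c : X) * y * (c : X)⁻¹ := by rw [hg]
      _ = y * (c : X) * (c : X)⁻¹ := by rw [hcy]
      _ = y := by group

end Cfsg.Agent.S5306
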