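import Cfsg.Statements.S5311
import Cfsg.Agent.Lib.Helper26.FSTrI

set_option autoImplicit false
open Cfsg

namespace Cfsg.Agent.S5311

/-- The layer of a saturated fusion system F over a finite p-group S is characteristic in F: for every automorphism α of S that is an automorphism of F (α and its inverse are morphisms from F to F) and every layer E of F over T, α carries T onto T and, for every map φ of E with source P, the map induced by α on α(P) (that is, α ∘ φ ∘ α⁻¹) is a map of E. -/
theorem result {Ω : Type*} [Group Ω] {S : Subgroup Ω} [Finite S] (p : ℕ) [Fact p.Prime] (hS : IsPGroup p S) (F : Cfsg.FusionSystem S) (hF : F.IsSaturated p)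
    (α : ↥S ≃* ↥S) (hα : F.IsMorphism F (S.subtype.comp α.toMonoidHom))
    (hα' : F.IsMorphism F (S.subtype.comp α.symm.toMonoidHom))
    {T : Subgroup Ω} (E : Cfsg.FusionSystem T) (hE : E.IsLayerOf F p) :
    Cfsg.FusionSystem.imageAlong (S.subtype.comp α.toMonoidHom) T = T ∧
      ∀ (P : Subgroup Ω) (φ : ↥P →* Ω), φ ∈ E.Hom P →
        ∀ φ' : ↥(Cfsg.FusionSystem.imageAlong (S.subtype.comp α.toMonoidHom) P) →* Ω,
          Cfsg.FusionSystem.InducedAlong (S.subtype.comp α.toMonoidHom) φ φ' →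
            φ' ∈ E.Hom (Cfsg.FusionSystem.imageAlong (S.subtype.comp α.toMonoidHom) P) := by
  have h := Cfsg.Agent.Lib.Helper26.FSTr.layer_characteristic hS F α hα hα' E hE
  refine ⟨h.1, fun P φ hφ φ' hind => ?_⟩
  have hTS : T ≤ S := hE.1.1.2.2.2.1.1
  have hPS : P ≤ S := (Cfsg.Agent.Lib.Helper26.hom_le E hφ).trans hTS
  have hφS : ∀ x, φ x ∈ S := fun x => hTS (Cfsg.Agent.Lib.Helper26.hom_apply_mem E hφ x)
  exact h.2 P φ hφ φ' ((Cfsg.Agent.Lib.Helper26.FSTr.inducedAlong_iff_ind α le_rfl
    (Cfsg.Agent.Lib.Helper26.FSTr.toHom α) (fun s => rfl) hPS hφS le_rfl).mp hind)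

end Cfsg.Agent.S5311
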