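import Cfsg.Statements.S5326
import Cfsg.Agent.S5081
import Cfsg.Agent.Lib.Helper26.FSFactorHyp

set_option autoImplicit false
open Cfsg

namespace Cfsg.Agent.S5326

open Cfsg.FusionSystem Cfsg.Agent.Lib.Helper26 Cfsg.Agent.S5081

variable {Ω : Type*} [Group Ω] {S : Subgroup Ω}

/-- `l` is a map of `F` on `N_S(Q')` carrying `Q'` onto `Q`. -/
def IsNormMap (F : FusionSystem S) (Q Q' : Subgroup Ω) (l : ↥(normalizerIn S Q') →* Ω) : Prop :=
  Q' ≤ S ∧ l ∈ F.Hom (normalizerIn S Q') ∧ (Q'.subgroupOf (normalizerIn S Q')).map l = Q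

namespace IsNormMap

variable {F : FusionSystem S} {Q Q' : Subgroup Ω} {l : ↥(normalizerIn S Q') →* Ω}

theorem apply_mem (h : IsNormMap F Q Q' l) {x : Ω} (hx : x ∈ Q') :
    l ⟨x, le_normalizerIn h.1 hx⟩ ∈ Q := by
  have key : ∀ z : Ω, z ∈ (Q'.subgroupOf (normalizerIn S Q')).map l → z ∈ Q := by
    intro z hz
    rw [← h.2.2]
    exact hz
  exact key _ ⟨⟨x, le_normalizerIn h.1 hx⟩, hx, rfl⟩

theorem exists_preimage (h : IsNormMap F Q Q' l) {y : Ω} (hy : y ∈ Q) :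
    ∃ (x : Ω) (hx : x ∈ Q'), l ⟨x, le_normalizerIn h.1 hx⟩ = y := by
  rw [← h.2.2] at hy
  obtain ⟨⟨x, hxN⟩, hx, rfl⟩ := hy
  exact ⟨x, hx, rfl⟩

theorem injective (h : IsNormMap F Q Q' l) : Function.Injective l := F.injective_of_mem h.2.1

theorem card_eq [Finite S] (h : IsNormMap F Q Q' l) : Nat.card Q' = Nat.card Q := by
  have h1 : Nat.card ↥((Q'.subgroupOf (normalizerIn S Q')).map l) =
      Nat.card ↥(Q'.subgroupOf (normalizerIn S Q')) :=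
    Subgroup.card_map_of_injective h.injective
  rw [h.2.2] at h1
  rw [h1]
  exact (Nat.card_congr (Subgroup.subgroupOfEquivOfLe (le_normalizerIn h.1)).toEquiv).symm

theorem le (h : IsNormMap F Q Q' l) : Q ≤ S := by
  intro y hy
  obtain ⟨x, hx, rfl⟩ := h.exists_preimage hy
  exact hom_apply_mem F h.2.1 _

theorem isConj (h : IsNormMap F Q Q' l) : F.IsConj Q' Q := by
  refine ⟨l.comp (Subgroup.inclusion (le_normalizerIn h.1)),
    inclusion_comp_mem F (le_normalizerIn h.1) h.2.1, ?_⟩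
  ext y
  constructor
  · rintro ⟨x, rfl⟩
    exact h.apply_mem x.2
  · intro hy
    obtain ⟨x, hx, rfl⟩ := h.exists_preimage hy
    exact ⟨⟨x, hx⟩, rfl⟩

end IsNormMap

theorem isNormMap_self (F : FusionSystem S) {Q : Subgroup Ω} (hQ : Q ≤ S) :
    IsNormMap F Q Q (normalizerIn S Q).subtype := by
  refine ⟨hQ, subtype_mem F (normalizerIn_le S Q), ?_⟩
  ext y
  constructor
  · rintro ⟨x, hx, rfl⟩
    exact hx
  · intro hy
    exact ⟨⟨y, le_normalizerIn hQ hy⟩, hy, rfl⟩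

theorem exists_isNormMap [Finite S] {p : ℕ} [Fact p.Prime] (hS : IsPGroup p S) (F : FusionSystem S)
    {Q Q' : Subgroup Ω} (h₁ : F.IsFullyAutomized p Q) (h₂ : F.IsReceptive Q) (h : F.IsConj Q' Q) :
    ∃ l, IsNormMap F Q Q' l := by
  obtain ⟨l, hl, -, hlQ⟩ := exists_normalizer_hom hS F h₁ h₂ h
  exact ⟨l, isConj_le_left F h, hl, hlQ⟩

/-- Composite `l'' ∘ μ ∘ l₀⁻¹` on the image of `l₀`. -/
theorem exists_transport (F : FusionSystem S) {R₀ N'' : Subgroup Ω} (l₀ : R₀ →* Ω) (hl₀ : l₀ ∈ F.Hom R₀)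
    (μ : R₀ →* Ω) (hμ : μ ∈ F.Hom R₀) (hμN : ∀ r : R₀, μ r ∈ N'') (l'' : N'' →* Ω) (hl'' : l'' ∈ F.Hom N'') :
    ∃ ν ∈ F.Hom l₀.range, ∀ r : R₀, ν ⟨l₀ r, ⟨r, rfl⟩⟩ = l'' ⟨μ r, hμN r⟩ := by
  obtain ⟨inv, hinv, hinvx⟩ := F.inv_mem hl₀
  have hinvR₀ : ∀ z : l₀.range, inv z ∈ R₀ := by
    rintro ⟨_, r, rfl⟩
    rw [hinvx]
    exact r.2
  have h1 := F.comp_mem hinv hμ hinvR₀
  have h1N : ∀ z : l₀.range, (μ.comp (inv.codRestrict R₀ hinvR₀)) z ∈ N'' := fun z => hμN _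
  refine ⟨l''.comp ((μ.comp (inv.codRestrict R₀ hinvR₀)).codRestrict _ h1N), F.comp_mem h1 hl'' h1N, ?_⟩
  intro r
  have e : (⟨inv ⟨l₀ r, ⟨r, rfl⟩⟩, hinvR₀ _⟩ : R₀) = r := Subtype.ext (hinvx r)
  show l'' ⟨μ ⟨inv ⟨l₀ r, ⟨r, rfl⟩⟩, hinvR₀ _⟩, _⟩ = l'' ⟨μ r, hμN r⟩
  congr 1
  exact Subtype.ext (congrArg μ e)

/-- Transport lemma: a map of `F` defined on a subgroup `R₀` of `N_S(Q')` strictly containing `Q'`, with values in
`N_S(Q'')` and carrying `Q'` into `Q''`, becomes after transport along norm maps an automorphism of `Q` that extends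
to a strictly larger subgroup. -/
theorem exists_genSet_transport [Finite S] (F : FusionSystem S) {Q Q' Q'' : Subgroup Ω}
    {l' : ↥(normalizerIn S Q') →* Ω} {l'' : ↥(normalizerIn S Q'') →* Ω}
    (h' : IsNormMap F Q Q' l') (h'' : IsNormMap F Q Q'' l'')
    {R₀ : Subgroup Ω} (hR₀N : R₀ ≤ normalizerIn S Q') (hQ'R₀ : Q' ≤ R₀) (hne : Q' ≠ R₀)
    (μ : R₀ →* Ω) (hμ : μ ∈ F.Hom R₀) (hμN : ∀ r : R₀, μ r ∈ normalizerIn S Q'')
    (hμQ : ∀ x : R₀, (x : Ω) ∈ Q' → μ x ∈ Q'') :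
    ∃ α ∈ genSet F Q, ∀ (x : Ω) (hx : x ∈ Q') (y : Q),
      (y : Ω) = l' ⟨x, le_normalizerIn h'.1 hx⟩ →
        l'' ⟨μ ⟨x, hQ'R₀ hx⟩, hμN _⟩ = ((α y : Q) : Ω) := by
  have hQS : Q ≤ S := h'.le
  have hfinQ : Finite Q := finite_of_le hQS
  have hl₀ : l'.comp (Subgroup.inclusion hR₀N) ∈ F.Hom R₀ := inclusion_comp_mem F hR₀N h'.2.1
  obtain ⟨ν, hν, hνeq⟩ := exists_transport F _ hl₀ μ hμ hμN l'' h''.2.1
  -- `Q ≤ R`
  have hQR : Q ≤ (l'.comp (Subgroup.inclusion hR₀N)).range := by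
    intro y hy
    obtain ⟨x, hx, rfl⟩ := h'.exists_preimage hy
    exact ⟨⟨x, hQ'R₀ hx⟩, rfl⟩
  have hνQ : ∀ (x : Ω) (hx : x ∈ Q'),
      ν ⟨l' ⟨x, le_normalizerIn h'.1 hx⟩, ⟨⟨x, hQ'R₀ hx⟩, rfl⟩⟩ = l'' ⟨μ ⟨x, hQ'R₀ hx⟩, hμN _⟩ :=
    fun x hx => hνeq ⟨x, hQ'R₀ hx⟩
  have hνres : ν.comp (Subgroup.inclusion hQR) ∈ F.Hom Q := inclusion_comp_mem F hQR hν
  have hνmem : ∀ y : Q, (ν.comp (Subgroup.inclusion hQR)) y ∈ Q := by
    rintro ⟨y, hy⟩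
    obtain ⟨x, hx, rfl⟩ := h'.exists_preimage hy
    show ν ⟨l' ⟨x, _⟩, _⟩ ∈ Q
    rw [hνQ x hx]
    exact h''.apply_mem (hμQ _ hx)
  have hrange : (ν.comp (Subgroup.inclusion hQR)).range = Q :=
    range_eq_of_le _ (F.injective_of_mem hνres) hνmem
  refine ⟨homEquiv F hνres hrange, ?_, ?_⟩
  · have hlt : Q < (l'.comp (Subgroup.inclusion hR₀N)).range := by
      refine lt_of_le_of_ne hQR ?_
      intro hQR'
      apply hne
      apply le_antisymm hQ'R₀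
      intro r hr
      have h3 : l' ⟨r, hR₀N hr⟩ ∈ (l'.comp (Subgroup.inclusion hR₀N)).range := ⟨⟨r, hr⟩, rfl⟩
      rw [← hQR'] at h3
      obtain ⟨x, hx, hxe⟩ := h'.exists_preimage h3
      have := h'.injective hxe
      have h4 : x = r := congrArg Subtype.val this
      rw [← h4]
      exact hx
    exact ⟨_, hlt, ν, hν, fun y => rfl⟩
  · intro x hx y hy
    have hy' : y = ⟨l' ⟨x, le_normalizerIn h'.1 hx⟩, h'.apply_mem hx⟩ := Subtype.ext hy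
    rw [hy']
    show _ = ν ⟨l' ⟨x, _⟩, _⟩
    exact (hνQ x hx).symm

/-- A map of `F` on `R₀` (normalizing `Q'`, containing it) carrying `Q'` into `Q''` of at most the same order
carries `R₀` into `N_S(Q'')`. -/
theorem map_mem_normalizerIn (F : FusionSystem S) {R₀ Q' Q'' : Subgroup Ω} [Finite Q'']
    (hQ'R₀ : Q' ≤ R₀) (hR₀N : R₀ ≤ Subgroup.normalizer (Q' : Set Ω))
    (μ : R₀ →* Ω) (hμ : μ ∈ F.Hom R₀) (hμQ : ∀ x : R₀, (x : Ω) ∈ Q' → μ x ∈ Q'')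
    (hcard : Nat.card Q'' ≤ Nat.card Q') : ∀ r : R₀, μ r ∈ normalizerIn S Q'' := by
  have hmap : (Q'.subgroupOf R₀).map μ = Q'' := by
    apply Subgroup.eq_of_le_of_card_ge
    · rintro _ ⟨x, hx, rfl⟩
      exact hμQ x hx
    · rw [Subgroup.card_map_of_injective (F.injective_of_mem hμ)]
      rw [Nat.card_congr (Subgroup.subgroupOfEquivOfLe hQ'R₀).toEquiv]
      exact hcard
  intro r
  refine ⟨hom_apply_mem F hμ r, ?_⟩
  have h1 : μ r ∈ (Subgroup.normalizer ((Q'.subgroupOf R₀ : Subgroup R₀) : Set R₀)).map μ := by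
    refine ⟨r, ?_, rfl⟩
    rw [SetLike.mem_coe, Subgroup.mem_normalizer_iff]
    intro h
    have := (Subgroup.mem_normalizer_iff.mp (hR₀N r.2)) (h : Ω)
    exact this
  have h2 := Subgroup.le_normalizer_map μ h1
  rw [hmap] at h2
  exact h2

/-- The invariant defining the subsystem. -/
def Good (F : FusionSystem S) (Q : Subgroup Ω) {P : Subgroup Ω} (φ : P →* Ω) : Prop :=
  ∀ (Q' Q'' : Subgroup Ω) (l' : ↥(normalizerIn S Q') →* Ω) (l'' : ↥(normalizerIn S Q'') →* Ω),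
    IsNormMap F Q Q' l' → IsNormMap F Q Q'' l'' → Q' ≤ P → (∀ x : P, (x : Ω) ∈ Q' → φ x ∈ Q'') →
    ∃ α ∈ Subgroup.closure (genSet F Q), ∀ (x : P) (hxN : (x : Ω) ∈ normalizerIn S Q')
      (hyN : φ x ∈ normalizerIn S Q'') (y : Q),
      (x : Ω) ∈ Q' → (y : Ω) = l' ⟨x, hxN⟩ → l'' ⟨φ x, hyN⟩ = ((α y : Q) : Ω)

theorem good_of_local_ext [Finite S] (F : FusionSystem S) (Q : Subgroup Ω) {P : Subgroup Ω} (φ : P →* Ω)
    (H : ∀ (Q' : Subgroup Ω) (l' : ↥(normalizerIn S Q') →* Ω), IsNormMap F Q Q' l' → Q' ≤ P →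
      ∃ (R₀ : Subgroup Ω) (μ : R₀ →* Ω), R₀ ≤ normalizerIn S Q' ∧ Q' ≤ R₀ ∧ Q' ≠ R₀ ∧ μ ∈ F.Hom R₀ ∧
        ∀ (x : P) (hx : (x : Ω) ∈ R₀), (x : Ω) ∈ Q' → μ ⟨x, hx⟩ = φ x) : Good F Q φ := by
  intro Q' Q'' l' l'' h' h'' hQ'P hmap
  obtain ⟨R₀, μ, hR₀N, hQ'R₀, hne, hμ, hagree⟩ := H Q' l' h' hQ'P
  have hμQ : ∀ x : R₀, (x : Ω) ∈ Q' → μ x ∈ Q'' := by
    intro x hx
    have := hagree ⟨x, hQ'P hx⟩ x.2 hx
    rw [this]
    exact hmap _ hx
  have hfin : Finite Q'' := finite_of_le h''.1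
  have hμN := map_mem_normalizerIn F hQ'R₀ (hR₀N.trans inf_le_right) μ hμ hμQ
    (by rw [h'.card_eq, h''.card_eq])
  obtain ⟨α, hα, hαeq⟩ := exists_genSet_transport F h' h'' hR₀N hQ'R₀ hne μ hμ hμN hμQ
  refine ⟨α, Subgroup.subset_closure hα, ?_⟩
  intro x hxN hyN y hxQ' hy
  have := hαeq x hxQ' y hy
  rw [← this]
  congr 1
  exact Subtype.ext (hagree x _ hxQ').symm

theorem ne_of_isNormMap [Finite S] {F : FusionSystem S} {Q Q' : Subgroup Ω} {l' : ↥(normalizerIn S Q') →* Ω}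
    (h' : IsNormMap F Q Q' l') (hQS : Q ≠ S) : Q' ≠ S := by
  intro h
  apply hQS
  apply Subgroup.eq_of_le_of_card_ge h'.le
  rw [← h'.card_eq, h]

theorem good_conj [Finite S] {p : ℕ} [Fact p.Prime] (hS : IsPGroup p S) (F : FusionSystem S) {Q : Subgroup Ω}
    (hQS : Q ≠ S) {P : Subgroup Ω} {g : Ω} (hg : g ∈ S) : Good F Q (conjHom P g) := by
  apply good_of_local_ext
  intro Q' l' h' hQ'P
  refine ⟨normalizerIn S Q', conjHom _ g, le_rfl, le_normalizerIn h'.1, ?_,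
    F.conj_mem (normalizerIn_le S Q') hg, fun x hx hxQ' => rfl⟩
  intro h
  obtain ⟨x, hxN, hxQ'⟩ := exists_mem_normalizerIn_not_mem hS h'.1 (ne_of_isNormMap h' hQS)
  rw [← h] at hxN
  exact hxQ' hxN

theorem good_comp [Finite S] {p : ℕ} [Fact p.Prime] (hS : IsPGroup p S) (F : FusionSystem S) {Q : Subgroup Ω}
    (h₁ : F.IsFullyAutomized p Q) (h₂ : F.IsReceptive Q)
    {P P₂ : Subgroup Ω} {φ : P →* Ω} {ψ : P₂ →* Ω} (hφ : φ ∈ F.Hom P)
    (hGφ : Good F Q φ) (hGψ : Good F Q ψ)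
    (h : ∀ x : P, φ x ∈ P₂) : Good F Q (ψ.comp (φ.codRestrict P₂ h)) := by
  intro Q' Q''' l' l''' h' h''' hQ'P hmap
  have hφres : φ.comp (Subgroup.inclusion hQ'P) ∈ F.Hom Q' := inclusion_comp_mem F hQ'P hφ
  obtain ⟨Q'', hQ''def⟩ : ∃ Q'' : Subgroup Ω, Q'' = (φ.comp (Subgroup.inclusion hQ'P)).range := ⟨_, rfl⟩
  have hconj : F.IsConj Q' Q'' := ⟨_, hφres, hQ''def.symm⟩
  have hconj2 : F.IsConj Q'' Q := isConj_trans F (isConj_symm F hconj) h'.isConj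
  obtain ⟨l'', h''⟩ := exists_isNormMap hS F h₁ h₂ hconj2
  have hmap1 : ∀ x : P, (x : Ω) ∈ Q' → φ x ∈ Q'' := by
    intro x hx
    rw [hQ''def]
    exact ⟨⟨x, hx⟩, rfl⟩
  have hQ''P₂ : Q'' ≤ P₂ := by
    rw [hQ''def]
    rintro _ ⟨x, rfl⟩
    exact h _
  have hmap2 : ∀ z : P₂, (z : Ω) ∈ Q'' → ψ z ∈ Q''' := by
    rintro ⟨z, hzP₂⟩ hz
    rw [hQ''def] at hz
    obtain ⟨x, rfl⟩ := hz
    exact hmap ⟨x, hQ'P x.2⟩ x.2
  obtain ⟨α₁, hα₁, hα₁eq⟩ := hGφ Q' Q'' l' l'' h' h'' hQ'P hmap1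
  obtain ⟨α₂, hα₂, hα₂eq⟩ := hGψ Q'' Q''' l'' l''' h'' h''' hQ''P₂ hmap2
  refine ⟨α₂ * α₁, mul_mem hα₂ hα₁, ?_⟩
  intro x hxN hyN y hxQ' hy
  have hφxQ'' := hmap1 x hxQ'
  have e1 := hα₁eq x hxN (le_normalizerIn h''.1 hφxQ'') y hxQ' hy
  have e2 := hα₂eq ⟨φ x, h x⟩ (le_normalizerIn h''.1 hφxQ'') hyN (α₁ y) hφxQ'' e1.symm
  exact e2

theorem good_inv [Finite S] (F : FusionSystem S) {Q : Subgroup Ω}
    {P : Subgroup Ω} {φ : P →* Ω} (hGφ : Good F Q φ) {ψ : φ.range →* Ω}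
    (hψ : ψ ∈ F.Hom φ.range) (hinv : ∀ x : P, ψ ⟨φ x, ⟨x, rfl⟩⟩ = (x : Ω)) : Good F Q ψ := by
  intro Q' Q'' l' l'' h' h'' hQ'R hmap
  have hfin : Finite Q'' := finite_of_le h''.1
  have himg : (Q'.subgroupOf φ.range).map ψ = Q'' := by
    apply Subgroup.eq_of_le_of_card_ge
    · rintro _ ⟨z, hz, rfl⟩
      exact hmap z hz
    · rw [Subgroup.card_map_of_injective (F.injective_of_mem hψ)]
      rw [Nat.card_congr (Subgroup.subgroupOfEquivOfLe hQ'R).toEquiv, h'.card_eq, h''.card_eq]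
  have hkey : ∀ x : Ω, x ∈ Q'' → ∃ x₀ : P, (x₀ : Ω) = x ∧ φ x₀ ∈ Q' := by
    intro x hx
    rw [← himg] at hx
    obtain ⟨⟨_, x₀, rfl⟩, hz, rfl⟩ := hx
    exact ⟨x₀, (hinv x₀).symm, hz⟩
  have hQ''P : Q'' ≤ P := by
    intro x hx
    obtain ⟨x₀, rfl, -⟩ := hkey x hx
    exact x₀.2
  have hmap' : ∀ x : P, (x : Ω) ∈ Q'' → φ x ∈ Q' := by
    intro x hx
    obtain ⟨x₀, hx₀, hφx₀⟩ := hkey x hx
    have : x₀ = x := Subtype.ext hx₀
    rw [← this]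
    exact hφx₀
  obtain ⟨α, hα, hαeq⟩ := hGφ Q'' Q' l'' l' h'' h' hQ''P hmap'
  refine ⟨α⁻¹, inv_mem hα, ?_⟩
  rintro ⟨_, x₀, rfl⟩ hxN hyN y hzQ' hy
  have hx₀Q'' : (x₀ : Ω) ∈ Q'' := by
    have := hmap ⟨φ x₀, ⟨x₀, rfl⟩⟩ hzQ'
    rwa [hinv] at this
  have e := hαeq x₀ (le_normalizerIn h''.1 hx₀Q'') hxN
    ⟨l'' ⟨x₀, le_normalizerIn h''.1 hx₀Q''⟩, h''.apply_mem hx₀Q''⟩ hx₀Q'' rfl
  have hy' : y = α ⟨l'' ⟨x₀, le_normalizerIn h''.1 hx₀Q''⟩, h''.apply_mem hx₀Q''⟩ :=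
    Subtype.ext (hy.trans e)
  rw [hy']
  simp only [MulAut.inv_apply, MulEquiv.symm_apply_apply]
  congr 1
  exact Subtype.ext (hinv x₀)

theorem good_of_not_isConj [Finite S] {p : ℕ} [Fact p.Prime] (hS : IsPGroup p S) (F : FusionSystem S)
    {Q : Subgroup Ω} {R : Subgroup Ω} (hR : R ≤ S) (hnc : ¬ F.IsConj Q R) {φ : R →* Ω} (hφ : φ ∈ F.Hom R) :
    Good F Q φ := by
  apply good_of_local_ext
  intro Q' l' h' hQ'R
  have hne : Q' ≠ R := by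
    rintro rfl
    exact hnc (isConj_symm F h'.isConj)
  have hfinR : Finite R := finite_of_le hR
  obtain ⟨g, hgN, hgQ'⟩ := exists_mem_normalizerIn_not_mem (hS.to_le hR) hQ'R hne
  refine ⟨normalizerIn R Q', φ.comp (Subgroup.inclusion (normalizerIn_le R Q')), ?_, le_normalizerIn hQ'R, ?_,
    inclusion_comp_mem F _ hφ, fun x hx hxQ' => rfl⟩
  · exact inf_le_inf_right _ hR
  · intro h
    rw [← h] at hgN
    exact hgQ' hgN

/-- The subsystem of good maps. -/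
def goodSystem [Finite S] {p : ℕ} [Fact p.Prime] (hS : IsPGroup p S) (F : FusionSystem S) {Q : Subgroup Ω}
    (hQS : Q ≠ S) (h₁ : F.IsFullyAutomized p Q) (h₂ : F.IsReceptive Q) : FusionSystem S where
  Hom P := {φ | φ ∈ F.Hom P ∧ Good F Q φ}
  le_of_mem h := F.le_of_mem h.1
  injective_of_mem h := F.injective_of_mem h.1
  conj_mem hP hg := ⟨F.conj_mem hP hg, good_conj hS F hQS hg⟩
  comp_mem hφ hψ h := ⟨F.comp_mem hφ.1 hψ.1 h, good_comp hS F h₁ h₂ hφ.1 hφ.2 hψ.2 h⟩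
  inv_mem hφ := by
    obtain ⟨ψ, hψ, hinv⟩ := F.inv_mem hφ.1
    exact ⟨ψ, ⟨hψ, good_inv F hφ.2 hψ hinv⟩, hinv⟩

theorem autInducedBy_self_le_inn : autInducedBy S S ≤ Inn S := by
  unfold autInducedBy
  rw [Subgroup.closure_le]
  rintro α ⟨g, hg, hα⟩
  refine ⟨⟨g, hg⟩, ?_⟩
  ext x
  rw [hα]
  rfl

theorem essential_ne [Finite S] {p : ℕ} [Fact p.Prime] (hS : IsPGroup p S) (F : FusionSystem S)
    (hF : F.IsSaturated p) {Q : Subgroup Ω} (hQ : F.IsEssential p Q) : Q ≠ S := by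
  intro hQS
  subst hQS
  obtain ⟨hc, hfn, hnorm, Y, hY⟩ := hQ
  obtain ⟨-, R, hR⟩ := (saturated_fn hS F hF hfn).2
  have heq : (Inn Q).subgroupOf (F.autGroup Q) = (R : Subgroup (F.autGroup Q)) := by
    rw [hR]
    congr 1
    exact le_antisymm (inn_le_autInducedBy le_rfl) autInducedBy_self_le_inn
  have h1 := hY.1
  rw [← Subgroup.index_eq_card, heq] at h1
  exact R.not_dvd_index h1

/-- Let F be a saturated fusion system over a finite p-group S and Q an essential subgroup. Then the F-conjugacy class of Q cannot be left out of a generating family: there is a fusion system E over S whose automorphism group of every subgroup R ≤ S not F-conjugate to Q contains Aut_F(R), and yet E does not contain every map of F. -/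
theorem result {Ω : Type*} [Group Ω] {S : Subgroup Ω} [Finite S] (p : ℕ) [Fact p.Prime] (hS : IsPGroup p S) (F : Cfsg.FusionSystem S) (hF : F.IsSaturated p) (Q : Subgroup Ω) (hQ : F.IsEssential p Q) : ∃ E : Cfsg.FusionSystem S, (∀ R : Subgroup Ω, R ≤ S → ¬ F.IsConj Q R → F.autGroup R ≤ E.autGroup R) ∧ ¬ F ≤ E := by
  have hQS : Q ≠ S := essential_ne hS F hF hQ
  have hQle : Q ≤ S := hQ.1.1
  have hfinQ : Finite Q := finite_of_le hQle
  have hfn : F.IsFullyNormalized Q := hQ.2.1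
  have h₁ : F.IsFullyAutomized p Q := (saturated_fn hS F hF hfn).2
  have h₂ : F.IsReceptive Q := saturated_fn_receptive hS F hF hfn
  refine ⟨goodSystem hS F hQS h₁ h₂, ?_, ?_⟩
  · intro R hR hnc
    unfold FusionSystem.autGroup
    apply Subgroup.closure_mono
    intro α hα
    exact ⟨hα, good_of_not_isConj hS F hR hnc hα⟩
  · intro hle
    have hlt : Q < S := lt_of_le_of_ne hQle hQS
    rcases Cfsg.Agent.S5081.result p hS F hF Q hlt hfn (Subgroup.closure (genSet F Q)) rfl with h | h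
    · exact h.1 hQ
    · obtain ⟨-, hnorm, hspe⟩ := h
      apply hspe.2.1
      have htop : (Subgroup.closure (genSet F Q)).subgroupOf (F.autGroup Q) = ⊤ := by
        rw [Subgroup.subgroupOf_eq_top]
        unfold FusionSystem.autGroup
        rw [Subgroup.closure_le]
        intro α hα
        have hαE := hle Q hα
        obtain ⟨α', hα', hαeq⟩ := hαE.2 Q Q _ _ (isNormMap_self F hQle) (isNormMap_self F hQle) le_rfl
          (fun x _ => (α x).2)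
        have : α = α' := by
          ext x
          exact hαeq x (le_normalizerIn hQle x.2) (le_normalizerIn hQle (α x).2) x x.2 rfl
        rw [SetLike.mem_coe, this]
        exact hα'
      rw [htop, ← MonoidHom.range_eq_map]
      exact MonoidHom.range_eq_top.mpr (QuotientGroup.mk'_surjective _)

end Cfsg.Agent.S5326
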