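import Cfsg.Statements.S5327
import Cfsg.Agent.Lib.Helper26.FSSylow

set_option autoImplicit false
open Cfsg

namespace Cfsg.Agent.S5327

open Cfsg.FusionSystem Cfsg.Agent.Lib.Helper26

variable {Ω : Type*} [Group Ω] {S : Subgroup Ω}

/-- The maps of `F` all of whose restrictions to `F`-conjugates of `R` lie in `E`. -/
def auxSystem (F E : FusionSystem S) (R : Subgroup Ω) : FusionSystem S where
  Hom P := {φ | φ ∈ F.Hom P ∧ ∀ (Q : Subgroup Ω) (hQP : Q ≤ P), F.IsConj R Q →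
    φ.comp (Subgroup.inclusion hQP) ∈ E.Hom Q}
  le_of_mem h := F.le_of_mem h.1
  injective_of_mem h := F.injective_of_mem h.1
  conj_mem := by
    intro P g hP hg
    refine ⟨F.conj_mem hP hg, fun Q hQP _ => ?_⟩
    have : (conjHom P g).comp (Subgroup.inclusion hQP) = conjHom Q g := by
      ext x; rfl
    rw [this]
    exact E.conj_mem (hQP.trans hP) hg
  comp_mem := by
    rintro P Q' φ ψ ⟨hφF, hφ⟩ ⟨hψF, hψ⟩ h
    refine ⟨F.comp_mem hφF hψF h, fun Q hQP hRQ => ?_⟩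
    have hφQE : φ.comp (Subgroup.inclusion hQP) ∈ E.Hom Q := hφ Q hQP hRQ
    have hφQF : φ.comp (Subgroup.inclusion hQP) ∈ F.Hom Q := inclusion_comp_mem F hQP hφF
    have hQ₁Q' : (φ.comp (Subgroup.inclusion hQP)).range ≤ Q' := by
      rintro _ ⟨x, rfl⟩
      exact h _
    have hRQ₁ : F.IsConj R (φ.comp (Subgroup.inclusion hQP)).range :=
      isConj_trans F hRQ ⟨_, hφQF, rfl⟩
    have hψQ₁ := hψ _ hQ₁Q' hRQ₁
    have key := E.comp_mem hφQE hψQ₁ (fun x => ⟨x, rfl⟩)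
    have heq : (ψ.comp (φ.codRestrict Q' h)).comp (Subgroup.inclusion hQP) =
        (ψ.comp (Subgroup.inclusion hQ₁Q')).comp
          ((φ.comp (Subgroup.inclusion hQP)).codRestrict _ (fun x => ⟨x, rfl⟩)) := by
      ext x; rfl
    rw [heq]
    exact key
  inv_mem := by
    rintro P φ ⟨hφF, hφ⟩
    obtain ⟨ψ, hψ, hψx⟩ := F.inv_mem hφF
    refine ⟨ψ, ⟨hψ, fun Q' hQ' hRQ' => ?_⟩, hψx⟩
    have hψQF : ψ.comp (Subgroup.inclusion hQ') ∈ F.Hom Q' := inclusion_comp_mem F hQ' hψ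
    have hψP : ∀ y : φ.range, ψ y ∈ P := by
      rintro ⟨_, x, rfl⟩
      rw [hψx]
      exact x.2
    have hφψ : ∀ y : φ.range, φ ⟨ψ y, hψP y⟩ = (y : Ω) := by
      rintro ⟨_, x, rfl⟩
      have : (⟨ψ ⟨φ x, ⟨x, rfl⟩⟩, hψP _⟩ : P) = x := Subtype.ext (hψx x)
      rw [this]
    have hQP : (ψ.comp (Subgroup.inclusion hQ')).range ≤ P := by
      rintro _ ⟨y, rfl⟩
      exact hψP _
    have hRQ : F.IsConj R (ψ.comp (Subgroup.inclusion hQ')).range :=
      isConj_trans F hRQ' ⟨_, hψQF, rfl⟩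
    have hφQ := hφ _ hQP hRQ
    obtain ⟨χ, hχ, hχx⟩ := E.inv_mem hφQ
    have hrange : Q' ≤ (φ.comp (Subgroup.inclusion hQP)).range := by
      intro y hy
      refine ⟨⟨ψ ⟨y, hQ' hy⟩, ⟨⟨y, hy⟩, rfl⟩⟩, ?_⟩
      exact hφψ ⟨y, hQ' hy⟩
    have key := inclusion_comp_mem E hrange hχ
    have heq : ψ.comp (Subgroup.inclusion hQ') = χ.comp (Subgroup.inclusion hrange) := by
      ext ⟨y, hy⟩
      have h1 := hχx ⟨ψ ⟨y, hQ' hy⟩, ⟨⟨y, hy⟩, rfl⟩⟩
      have h2 : (⟨(φ.comp (Subgroup.inclusion hQP)) ⟨ψ ⟨y, hQ' hy⟩, ⟨⟨y, hy⟩, rfl⟩⟩, ⟨_, rfl⟩⟩ :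
          (φ.comp (Subgroup.inclusion hQP)).range) = Subgroup.inclusion hrange ⟨y, hy⟩ :=
        Subtype.ext (hφψ ⟨y, hQ' hy⟩)
      rw [h2] at h1
      exact h1.symm
    rw [heq]
    exact key

theorem card_eq_of_isConj [Finite S] (F : FusionSystem S) {P Q : Subgroup Ω} (h : F.IsConj P Q) :
    Nat.card P = Nat.card Q := by
  obtain ⟨φ, hφ, rfl⟩ := h
  exact Nat.card_congr (Equiv.ofInjective φ (F.injective_of_mem hφ))

theorem main [Finite S] (F : FusionSystem S) (𝒬₁ 𝒬₂ : Set (Subgroup Ω))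
    (h₁ : ∀ R ∈ 𝒬₁, ∀ R' : Subgroup Ω, F.IsConj R R' → R' ∈ 𝒬₁)
    (h₂ : ∀ R ∈ 𝒬₂, ∀ R' : Subgroup Ω, F.IsConj R R' → R' ∈ 𝒬₂)
    (hg₁ : ∀ E : FusionSystem S, (∀ R ∈ 𝒬₁, F.autGroup R ≤ E.autGroup R) → F ≤ E)
    (hg₂ : ∀ E : FusionSystem S, (∀ R ∈ 𝒬₂, F.autGroup R ≤ E.autGroup R) → F ≤ E)
    (E : FusionSystem S) (hE : ∀ R ∈ 𝒬₁ ∩ 𝒬₂, F.autGroup R ≤ E.autGroup R) :
    ∀ d : ℕ, ∀ R : Subgroup Ω, R ≤ S → R ∈ 𝒬₁ ∪ 𝒬₂ → Nat.card S - Nat.card R = d →
      F.autGroup R ≤ E.autGroup R := by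
  intro d
  induction d using Nat.strong_induction_on with
  | _ d ih =>
    intro R hRS hR hd
    -- the inductive hypothesis for larger subgroups
    have IH : ∀ R' : Subgroup Ω, R' ≤ S → R' ∈ 𝒬₁ ∪ 𝒬₂ → Nat.card R < Nat.card R' →
        F.autGroup R' ≤ E.autGroup R' := by
      intro R' hR'S hR' hlt
      have hle : Nat.card R' ≤ Nat.card S := Subgroup.card_le_of_le hR'S
      exact ih (Nat.card S - Nat.card R') (by omega) R' hR'S hR' rfl
    -- generic step: `R ∉ 𝒬` for a conjugation-closed generating family `𝒬 ⊆ 𝒬₁ ∪ 𝒬₂`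
    have step : ∀ 𝒬 : Set (Subgroup Ω), 𝒬 ⊆ 𝒬₁ ∪ 𝒬₂ →
        (∀ R ∈ 𝒬, ∀ R' : Subgroup Ω, F.IsConj R R' → R' ∈ 𝒬) →
        (∀ E : FusionSystem S, (∀ R ∈ 𝒬, F.autGroup R ≤ E.autGroup R) → F ≤ E) →
        R ∉ 𝒬 → F.autGroup R ≤ E.autGroup R := by
      intro 𝒬 hsub hcl hgen hRn
      have hFE₂ : F ≤ auxSystem F E R := by
        apply hgen
        intro R' hR'
        by_cases hR'S : R' ≤ S
        · intro β hβ
          rw [mem_autGroup_iff _ hR'S] at hβ ⊢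
          refine ⟨hβ, fun Q hQR' hRQ => ?_⟩
          have hfin : Finite R' := finite_of_le hR'S
          have hcardQ : Nat.card Q = Nat.card R := (card_eq_of_isConj F hRQ).symm
          have hlt : Nat.card R < Nat.card R' := by
            rcases (Subgroup.card_le_of_le hQR').lt_or_eq with hlt | heq
            · omega
            · exfalso
              have hQeq : Q = R' := Subgroup.eq_of_le_of_card_ge hQR' heq.ge
              rw [hQeq] at hRQ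
              exact hRn (hcl R' hR' R (isConj_symm F hRQ))
          have hβE := IH R' hR'S (hsub hR') hlt ((mem_autGroup_iff F hR'S β).mpr hβ)
          rw [mem_autGroup_iff _ hR'S] at hβE
          exact inclusion_comp_mem E hQR' hβE
        · rw [autGroup_eq_bot_of_not_le F hR'S]
          exact bot_le
      intro α hα
      rw [mem_autGroup_iff _ hRS] at hα ⊢
      have h1 := (hFE₂ R hα).2 R le_rfl (isConj_refl F hRS)
      have h2 : (R.subtype.comp α.toMonoidHom).comp (Subgroup.inclusion (le_refl R)) =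
          R.subtype.comp α.toMonoidHom := by
        ext x; rfl
      rw [h2] at h1
      exact h1
    by_cases hR1 : R ∈ 𝒬₁
    · by_cases hR2 : R ∈ 𝒬₂
      · exact hE R ⟨hR1, hR2⟩
      · exact step 𝒬₂ Set.subset_union_right h₂ hg₂ hR2
    · exact step 𝒬₁ Set.subset_union_left h₁ hg₁ hR1

/-- Let F be a saturated fusion system over a finite p-group S. Call a family of subgroups of S generating when every fusion system over S whose automorphism group of each member R contains Aut_F(R) contains every map of F. If two families are each closed under F-conjugacy and each generating, then their intersection is generating. -/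
theorem result {Ω : Type*} [Group Ω] {S : Subgroup Ω} [Finite S] (p : ℕ) [Fact p.Prime] (hS : IsPGroup p S) (F : Cfsg.FusionSystem S) (hF : F.IsSaturated p) (𝒬₁ 𝒬₂ : Set (Subgroup Ω)) (h₁ : ∀ R ∈ 𝒬₁, ∀ R' : Subgroup Ω, F.IsConj R R' → R' ∈ 𝒬₁) (h₂ : ∀ R ∈ 𝒬₂, ∀ R' : Subgroup Ω, F.IsConj R R' → R' ∈ 𝒬₂) (hg₁ : ∀ E : Cfsg.FusionSystem S, (∀ R ∈ 𝒬₁, F.autGroup R ≤ E.autGroup R) → F ≤ E) (hg₂ : ∀ E : Cfsg.FusionSystem S, (∀ R ∈ 𝒬₂, F.autGroup R ≤ E.autGroup R) → F ≤ E) (E : Cfsg.FusionSystem S) (hE : ∀ R ∈ 𝒬₁ ∩ 𝒬₂, F.autGroup R ≤ E.autGroup R) : F ≤ E := by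
  apply hg₁
  intro R hR
  by_cases hRS : R ≤ S
  · exact main F 𝒬₁ 𝒬₂ h₁ h₂ hg₁ hg₂ E hE _ R hRS (Or.inl hR) rfl
  · rw [autGroup_eq_bot_of_not_le F hRS]
    exact bot_le

end Cfsg.Agent.S5327
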