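import Cfsg.Statements.S5329
import Cfsg.Agent.Lib.Helper27.BS13

set_option autoImplicit false
open Cfsg

namespace Cfsg.Agent.S5329

theorem commutator_le_focal {Ω : Type*} [Group Ω] {S : Subgroup Ω} (F : Cfsg.FusionSystem S) :
    ⁅(S : Subgroup Ω), (S : Subgroup Ω)⁆ ≤ F.focalSubgroup := by
  rw [Subgroup.commutator_le]
  intro a ha b hb
  obtain ⟨φ, hφ, h1⟩ := Cfsg.Agent.Lib.Helper27.FM.isFM_conj F (le_refl S) hb
  apply Subgroup.subset_closure
  refine ⟨S, φ, ⟨a⁻¹, S.inv_mem ha⟩, hφ, ?_⟩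
  rw [h1, commutatorElement_def]
  show a * b * a⁻¹ * b⁻¹ = (a⁻¹)⁻¹ * (b * a⁻¹ * b⁻¹)
  group

/-- For a saturated fusion system F over a finite p-group S, the focal subgroup and the derived subgroup of S meet the centre Z(F) of the system in the same subgroup: foc(F) ∩ Z(F) = S′ ∩ Z(F). -/
theorem result {Ω : Type*} [Group Ω] {S : Subgroup Ω} [Finite S] (p : ℕ) [Fact p.Prime] (hS : IsPGroup p S) (F : Cfsg.FusionSystem S) (hF : F.IsSaturated p) : F.focalSubgroup ⊓ F.center = ⁅(S : Subgroup Ω), (S : Subgroup Ω)⁆ ⊓ F.center := by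
  apply le_antisymm
  · exact le_inf (Cfsg.Agent.Lib.Helper27.BS.focal_inf_center_le hS F hF) inf_le_right
  · exact inf_le_inf_right _ (commutator_le_focal F)

end Cfsg.Agent.S5329
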