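import Cfsg.Statements.S5330
import Cfsg.Agent.Lib.Helper27.FSAbelian

set_option autoImplicit false
open Cfsg Cfsg.FusionSystem Cfsg.Agent.Lib.Helper26 Cfsg.Agent.Lib.Helper27

namespace Cfsg.Agent.S5330

/-- Let F be a saturated fusion system over a finite abelian p-group S. Then S is the internal direct product of the centre of the system and the focal subgroup: Z(F) ∩ foc(F) = 1 and Z(F)·foc(F) = S. -/
theorem result {Ω : Type*} [Group Ω] {S : Subgroup Ω} [Finite S] (p : ℕ) [Fact p.Prime] (hS : IsPGroup p S) (F : Cfsg.FusionSystem S) (hF : F.IsSaturated p) (hab : ∀ x ∈ S, ∀ y ∈ S, x * y = y * x) : F.center ⊓ F.focalSubgroup = ⊥ ∧ F.center ⊔ F.focalSubgroup = S := by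
  classical
  have hp : p.Prime := Fact.out
  let instC : CommGroup S := { (inferInstance : Group S) with
    mul_comm := fun x y => Subtype.ext (hab x x.2 y y.2) }
  have hfinA : Finite (MulAut S) := inferInstance
  let instF : Fintype ↥(F.autGroup S) := Fintype.ofFinite _
  have hn : ¬ p ∣ Nat.card ↥(F.autGroup S) := not_dvd_card_autGroup hS F hF hab
  -- the norm map
  let θ : S →* S :=
    { toFun := fun x => ∏ α : ↥(F.autGroup S), (α : MulAut S) x
      map_one' := by simp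
      map_mul' := fun x y => by
        simp only [map_mul]
        exact Finset.prod_mul_distrib }
  have hθ : ∀ x, θ x = ∏ α : ↥(F.autGroup S), (α : MulAut S) x := fun x => rfl
  have θ1 : ∀ β ∈ F.autGroup S, ∀ x, θ (β x) = θ x := by
    intro β hβ x
    rw [hθ, hθ]
    refine Fintype.prod_equiv (Equiv.mulRight (⟨β, hβ⟩ : ↥(F.autGroup S))) _ _ (fun α => ?_)
    rfl
  have θ2 : ∀ β ∈ F.autGroup S, ∀ x, β (θ x) = θ x := by
    intro β hβ x
    rw [hθ, map_prod]
    refine Fintype.prod_equiv (Equiv.mulLeft (⟨β, hβ⟩ : ↥(F.autGroup S))) _ _ (fun α => ?_)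
    rfl
  have θ3 : ∀ x : S, (∀ α ∈ F.autGroup S, α x = x) → θ x = x ^ Nat.card ↥(F.autGroup S) := by
    intro x hx
    rw [hθ, Finset.prod_congr rfl (fun α _ => hx α.1 α.2), Finset.prod_const, Finset.card_univ,
      Nat.card_eq_fintype_card]
  -- the centre is fixed by Aut_F(S)
  have hZc := center_isCentral F
  have hZS : F.center ≤ S := hZc.1
  have hZfix : ∀ (y : Ω) (hy : y ∈ F.center), ∀ α ∈ F.autGroup S, α ⟨y, hZS hy⟩ = ⟨y, hZS hy⟩ := by
    intro y hy α hα
    have h1 := ((isCentral_iff_conjElt hS F hF F.center).mp hZc).2 y hy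
    have hle : Subgroup.zpowers y ≤ S := by
      rw [Subgroup.zpowers_le]; exact hZS hy
    have hαF := (mem_autGroup_iff F le_rfl α).mp hα
    have hres := inclusion_comp_mem F hle hαF
    have := h1 _ ⟨_, hres, rfl⟩
    apply Subtype.ext
    exact this
  -- fixed points are central
  have hfixZ : ∀ x : S, (∀ α ∈ F.autGroup S, α x = x) → (x : Ω) ∈ F.center := by
    intro x hx
    let C : Subgroup Ω := Subgroup.zpowers (x : Ω)
    have hCS : C ≤ S := by
      rw [Subgroup.zpowers_le]; exact x.2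
    have hC : F.IsCentral C := by
      rw [isCentral_iff_conjElt hS F hF]
      refine ⟨hCS, fun z hz y hzy => ?_⟩
      obtain ⟨φ, hφ, rfl⟩ := hzy
      obtain ⟨α, hα, h⟩ := exists_aut_extension hS F hF hab hφ
      rw [h ⟨z, Subgroup.mem_zpowers z⟩ (hCS hz)]
      obtain ⟨k, rfl⟩ := Subgroup.mem_zpowers_iff.mp hz
      have : (⟨(x : Ω) ^ k, hCS hz⟩ : S) = x ^ k := Subtype.ext (by simp)
      rw [this, map_zpow, hx α hα]
      simp
    exact (le_sSup hC : C ≤ F.center) (Subgroup.mem_zpowers _)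
  -- the focal subgroup lies in S and is killed by θ
  have hfocS : F.focalSubgroup ≤ S := by
    unfold FusionSystem.focalSubgroup
    rw [Subgroup.closure_le]
    rintro y ⟨P, φ, x, hφ, rfl⟩
    exact S.mul_mem (S.inv_mem (hom_le F hφ x.2)) (hom_apply_mem F hφ x)
  have hfocker : F.focalSubgroup ≤ (θ.ker).map S.subtype := by
    unfold FusionSystem.focalSubgroup
    rw [Subgroup.closure_le]
    rintro y ⟨P, φ, x, hφ, rfl⟩
    obtain ⟨α, hα, h⟩ := exists_aut_extension hS F hF hab hφ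
    have hxS : (x : Ω) ∈ S := hom_le F hφ x.2
    refine ⟨(⟨x, hxS⟩ : S)⁻¹ * α ⟨x, hxS⟩, ?_, ?_⟩
    · show θ ((⟨x, hxS⟩ : S)⁻¹ * α ⟨x, hxS⟩) = 1
      rw [map_mul, map_inv, θ1 α hα, inv_mul_cancel]
    · show (((⟨x, hxS⟩ : S)⁻¹ * α ⟨x, hxS⟩ : S) : Ω) = (x : Ω)⁻¹ * φ x
      rw [h x hxS]
      rfl
  have hcop : ∀ y : S, (Nat.card ↥(F.autGroup S)).Coprime (orderOf y) := by
    intro y
    obtain ⟨k, hk⟩ := IsPGroup.iff_orderOf.mp hS y
    rw [hk]
    exact Nat.Coprime.pow_right k ((Nat.Prime.coprime_iff_not_dvd hp).mpr hn).symm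
  constructor
  · rw [eq_bot_iff]
    rintro y ⟨hyZ, hyf⟩
    rw [Subgroup.mem_bot]
    have hyS : y ∈ S := hZS hyZ
    obtain ⟨y', hy'ker, hy'⟩ := hfocker hyf
    have hy'eq : y' = ⟨y, hyS⟩ := Subtype.ext hy'
    have h1 : θ ⟨y, hyS⟩ = 1 := by rw [← hy'eq]; exact hy'ker
    have h2 := θ3 ⟨y, hyS⟩ (hZfix y hyZ)
    rw [h1] at h2
    have h3 : orderOf (⟨y, hyS⟩ : S) ∣ Nat.card ↥(F.autGroup S) := orderOf_dvd_of_pow_eq_one h2.symm
    have h4 : orderOf (⟨y, hyS⟩ : S) = 1 :=
      Nat.eq_one_of_dvd_coprimes (hcop ⟨y, hyS⟩) h3 dvd_rfl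
    have h5 : (⟨y, hyS⟩ : S) = 1 := orderOf_eq_one_iff.mp h4
    exact congrArg Subtype.val h5
  · apply le_antisymm (sup_le hZS hfocS)
    intro x hxS
    set x' : S := ⟨x, hxS⟩ with hx'
    -- x'^n = (x'^n θ(x')⁻¹) θ(x')
    have hθZ : ((θ x' : S) : Ω) ∈ F.center := hfixZ (θ x') (fun α hα => θ2 α hα x')
    have hfoc : ((x' ^ Nat.card ↥(F.autGroup S) * (θ x')⁻¹ : S) : Ω) ∈ F.focalSubgroup := by
      have e : x' ^ Nat.card ↥(F.autGroup S) * (θ x')⁻¹ =
          ∏ α : ↥(F.autGroup S), (x' * ((α : MulAut S) x')⁻¹) := by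
        rw [hθ, Finset.prod_mul_distrib, Finset.prod_inv_distrib, Finset.prod_const, Finset.card_univ,
          Nat.card_eq_fintype_card]
      rw [e]
      have : ∏ α : ↥(F.autGroup S), (x' * ((α : MulAut S) x')⁻¹) ∈ F.focalSubgroup.subgroupOf S := by
        apply Subgroup.prod_mem
        intro α _
        rw [Subgroup.mem_subgroupOf]
        have hαF := (mem_autGroup_iff F le_rfl α.1).mp α.2
        have hgen : (x' : Ω)⁻¹ * (S.subtype.comp (α.1 : MulAut S).toMonoidHom) x' ∈ F.focalSubgroup := by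
          unfold FusionSystem.focalSubgroup
          exact Subgroup.subset_closure ⟨S, _, x', hαF, rfl⟩
        have hinv := F.focalSubgroup.inv_mem hgen
        have e2 : ((x' * ((α : MulAut S) x')⁻¹ : S) : Ω) =
            ((x' : Ω)⁻¹ * (S.subtype.comp (α.1 : MulAut S).toMonoidHom) x')⁻¹ := by
          rw [mul_comm x']
          simp
        rw [e2]
        exact hinv
      exact this
    have hxn : ((x' ^ Nat.card ↥(F.autGroup S) : S) : Ω) ∈ F.center ⊔ F.focalSubgroup := by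
      have e : ((x' ^ Nat.card ↥(F.autGroup S) : S) : Ω) =
          ((x' ^ Nat.card ↥(F.autGroup S) * (θ x')⁻¹ : S) : Ω) * ((θ x' : S) : Ω) := by
        rw [← Subgroup.coe_mul, inv_mul_cancel_right]
      rw [e]
      exact Subgroup.mul_mem _ (Subgroup.mem_sup_right hfoc) (Subgroup.mem_sup_left hθZ)
    obtain ⟨m, hm⟩ := exists_pow_eq_self_of_coprime (hcop x')
    have : x = (((x' ^ Nat.card ↥(F.autGroup S) : S) : Ω)) ^ m := by
      rw [← Subgroup.coe_pow, hm]
    rw [this]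
    exact Subgroup.pow_mem _ hxn m

end Cfsg.Agent.S5330
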