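import Cfsg.Statements.S5331
import Cfsg.Agent.Lib.Helper27.FSAbelian

set_option autoImplicit false
open Cfsg Cfsg.FusionSystem Cfsg.Agent.Lib.Helper26 Cfsg.Agent.Lib.Helper27

namespace Cfsg.Agent.S5331

section abstractKL

variable {G : Type*} [CommGroup G]

/-- the filtration: elements of order at most 2 which are `2^k`-th powers. -/
def VV (G : Type*) [CommGroup G] (k : ℕ) : Set G := {x | x ^ 2 = 1 ∧ ∃ y, x = y ^ (2 ^ k)}

lemma VV_map (β : MulAut G) {k : ℕ} {x : G} (hx : x ∈ VV G k) : β x ∈ VV G k := by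
  obtain ⟨h1, y, rfl⟩ := hx
  refine ⟨by rw [← map_pow, h1, map_one], β y, by rw [map_pow]⟩

lemma VV_map_iff (β : MulAut G) {k : ℕ} {x : G} : β x ∈ VV G k ↔ x ∈ VV G k := by
  constructor
  · intro h
    have := VV_map β⁻¹ h
    simpa using this
  · exact VV_map β

lemma pow_apply_of_fixed (α : MulAut G) {x t : G} (h1 : α x = t * x) (h2 : α t = t) (j : ℕ) :
    (α ^ j) x = t ^ j * x := by
  induction j with
  | zero => simp
  | succ j ih =>
    rw [pow_succ', MulAut.mul_apply, ih, map_mul, map_pow, h2, h1, pow_succ, mul_assoc]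

lemma eq_one_of_sq_of_odd_pow {t : G} {m : ℕ} (hm : Odd m) (h2 : t ^ 2 = 1) (hmt : t ^ m = 1) : t = 1 := by
  obtain ⟨r, rfl⟩ := hm
  rw [pow_succ, pow_mul, h2, one_pow, one_mul] at hmt
  exact hmt

/-- key step: if `α x = t x` with `t` fixed of order ≤ 2 and `α` of odd order then `t = 1`. -/
lemma fixed_of_step (α : MulAut G) {m : ℕ} (hm : Odd m) (hα : α ^ m = 1) {x t : G}
    (h1 : α x = t * x) (h2 : α t = t) (ht : t ^ 2 = 1) : α x = x := by
  have h3 := pow_apply_of_fixed α h1 h2 m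
  rw [hα, MulAut.one_apply] at h3
  have h4 : t ^ m = 1 := by
    have := congrArg (fun z => z * x⁻¹) h3
    simp only [mul_inv_cancel, mul_inv_cancel_right] at this
    exact this.symm
  rw [h1, eq_one_of_sq_of_odd_pow hm ht h4, one_mul]

theorem aut_eq_one_of_odd_order
    (hK : ∃ K, ∀ x ∈ VV G K, x = 1)
    (hjump : ∀ k x y, x ∈ VV G k → y ∈ VV G k → x ∉ VV G (k + 1) → y ∉ VV G (k + 1) →
      x * y⁻¹ ∈ VV G (k + 1))
    (h2 : ∀ x : G, ∃ j, x ^ (2 ^ j) = 1) (α : MulAut G) (m : ℕ) (hm : Odd m) (hα : α ^ m = 1) :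
    α = 1 := by
  obtain ⟨K, hK⟩ := hK
  -- Claim B
  have claimB : ∀ d k, k + d = K → ∀ x ∈ VV G k, α x = x := by
    intro d
    induction d with
    | zero =>
      intro k hk x hx
      rw [add_zero] at hk
      subst hk
      rw [hK x hx, map_one]
    | succ d ih =>
      intro k hk x hx
      have ih' := ih (k + 1) (by omega)
      by_cases hx1 : x ∈ VV G (k + 1)
      · exact ih' x hx1
      · have hαx : α x ∈ VV G k := VV_map α hx
        have hαx1 : α x ∉ VV G (k + 1) := fun h => hx1 ((VV_map_iff α).mp h)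
        have ht := hjump k (α x) x hαx hx hαx1 hx1
        have h1 : α x = (α x * x⁻¹) * x := by simp
        exact fixed_of_step α hm hα h1 (ih' _ ht) ht.1
  -- Claim C
  have claimC : ∀ j, ∀ x : G, x ^ (2 ^ j) = 1 → α x = x := by
    intro j
    induction j with
    | zero =>
      intro x hx
      rw [pow_zero, pow_one] at hx
      rw [hx, map_one]
    | succ j ih =>
      intro x hx
      have hx2 : (x ^ 2) ^ (2 ^ j) = 1 := by
        rw [← pow_mul, ← pow_succ']; exact hx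
      have h1 := ih _ hx2
      rw [map_pow] at h1
      have ht2 : (α x * x⁻¹) ^ 2 = 1 := by
        rw [mul_pow, h1, inv_pow, mul_inv_cancel]
      have ht : α x * x⁻¹ ∈ VV G 0 := ⟨ht2, α x * x⁻¹, by simp⟩
      have hfix := claimB K 0 (by omega) _ ht
      have h3 : α x = (α x * x⁻¹) * x := by simp
      exact fixed_of_step α hm hα h3 hfix ht2
  ext x
  obtain ⟨j, hj⟩ := h2 x
  rw [claimC j x hj, MulAut.one_apply]

end abstractKL

section concrete

lemma zmod_two_smul_eq_zero {a : ℕ} (ha : 1 ≤ a) (c : ZMod (2 ^ a)) (hc : 2 • c = 0) :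
    c = 0 ∨ c = ((2 ^ (a - 1) : ℕ) : ZMod (2 ^ a)) := by
  have : NeZero (2 ^ a) := ⟨by positivity⟩
  have h1 : ((2 * c.val : ℕ) : ZMod (2 ^ a)) = 0 := by
    rw [Nat.cast_mul, ZMod.natCast_zmod_val, ← hc]
    simp
  rw [ZMod.natCast_eq_zero_iff] at h1
  have h2 : 2 ^ a = 2 * 2 ^ (a - 1) := by
    rw [← pow_succ']; congr 1; omega
  have h1' : 2 * 2 ^ (a - 1) ∣ 2 * c.val := by rw [← h2]; exact h1
  have h3 : 2 ^ (a - 1) ∣ c.val := (Nat.mul_dvd_mul_iff_left (by norm_num)).mp h1'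
  obtain ⟨q, hq⟩ := h3
  have h4 : c.val < 2 * 2 ^ (a - 1) := by rw [← h2]; exact ZMod.val_lt c
  have hpos : 0 < 2 ^ (a - 1) := by positivity
  have hq2 : q < 2 := by
    by_contra hcon
    push Not at hcon
    have : 2 * 2 ^ (a - 1) ≤ 2 ^ (a - 1) * q := by
      rw [mul_comm]; exact Nat.mul_le_mul_left _ hcon
    omega
  have hcv : (c.val : ZMod (2 ^ a)) = c := ZMod.natCast_zmod_val c
  interval_cases q
  · left
    rw [← hcv, hq]; simp
  · right
    rw [← hcv, hq]; simp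

lemma zmod_half_ne_zero {a : ℕ} (ha : 1 ≤ a) : ((2 ^ (a - 1) : ℕ) : ZMod (2 ^ a)) ≠ 0 := by
  intro h
  rw [ZMod.natCast_eq_zero_iff] at h
  have h1 := Nat.le_of_dvd (by positivity) h
  have h2 : 2 ^ (a - 1) < 2 ^ a := Nat.pow_lt_pow_right (by norm_num) (by omega)
  omega

lemma zmod_two_pow_eq_zero {a k : ℕ} (hk : a ≤ k) : ((2 ^ k : ℕ) : ZMod (2 ^ a)) = 0 := by
  rw [ZMod.natCast_eq_zero_iff]
  exact pow_dvd_pow 2 hk

lemma zmod_two_smul_half {a : ℕ} (ha : 1 ≤ a) : 2 • ((2 ^ (a - 1) : ℕ) : ZMod (2 ^ a)) = 0 := by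
  have : 2 • ((2 ^ (a - 1) : ℕ) : ZMod (2 ^ a)) = ((2 ^ a : ℕ) : ZMod (2 ^ a)) := by
    rw [nsmul_eq_mul]
    have h2 : 2 ^ a = 2 * 2 ^ (a - 1) := by
      rw [← pow_succ']; congr 1; omega
    rw [h2]
    push_cast
    ring
  rw [this]
  exact zmod_two_pow_eq_zero le_rfl

variable {n : ℕ} (a : Fin n → ℕ)

/-- description of the filtration by components. -/
def WW (k : ℕ) : Set ((i : Fin n) → ZMod (2 ^ a i)) :=
  {x | ∀ i, x i = 0 ∨ (x i = ((2 ^ (a i - 1) : ℕ) : ZMod (2 ^ a i)) ∧ k < a i)}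

lemma mem_WW_iff (ha1 : ∀ i, 1 ≤ a i) (k : ℕ) (x : (i : Fin n) → ZMod (2 ^ a i)) :
    x ∈ WW a k ↔ (2 • x = 0 ∧ ∃ y : (i : Fin n) → ZMod (2 ^ a i), x = 2 ^ k • y) := by
  constructor
  · intro hx
    constructor
    · funext i
      rw [Pi.smul_apply, Pi.zero_apply]
      rcases hx i with h | ⟨h, -⟩
      · rw [h, smul_zero]
      · rw [h]; exact zmod_two_smul_half (ha1 i)
    · refine ⟨fun i => if x i = 0 then 0 else ((2 ^ (a i - 1 - k) : ℕ) : ZMod (2 ^ a i)), ?_⟩
      funext i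
      rw [Pi.smul_apply]
      rcases hx i with h | ⟨h, hk⟩
      · rw [if_pos h, smul_zero, h]
      · have hne : x i ≠ 0 := by rw [h]; exact zmod_half_ne_zero (ha1 i)
        rw [if_neg hne, h, nsmul_eq_mul, ← Nat.cast_mul, ← pow_add]
        congr 2
        omega
  · rintro ⟨h2, y, hy⟩ i
    have h2i : 2 • x i = 0 := by
      have := congrFun h2 i
      simpa using this
    rcases zmod_two_smul_eq_zero (ha1 i) (x i) h2i with h | h
    · left; exact h
    · right
      refine ⟨h, ?_⟩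
      by_contra hk
      push Not at hk
      have hxi : x i = 0 := by
        rw [hy, Pi.smul_apply, nsmul_eq_mul, zmod_two_pow_eq_zero hk, zero_mul]
      rw [hxi] at h
      exact zmod_half_ne_zero (ha1 i) h.symm

lemma mem_VV_iff (ha1 : ∀ i, 1 ≤ a i) (k : ℕ) (x : Multiplicative ((i : Fin n) → ZMod (2 ^ a i))) :
    x ∈ VV (Multiplicative ((i : Fin n) → ZMod (2 ^ a i))) k ↔ Multiplicative.toAdd x ∈ WW a k := by
  rw [mem_WW_iff a ha1]
  constructor
  · rintro ⟨h1, y, hy⟩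
    refine ⟨?_, Multiplicative.toAdd y, ?_⟩
    · have := congrArg Multiplicative.toAdd h1
      simpa using this
    · have := congrArg Multiplicative.toAdd hy
      simpa using this
  · rintro ⟨h1, y, hy⟩
    refine ⟨?_, Multiplicative.ofAdd y, ?_⟩
    · apply Multiplicative.toAdd.injective
      simpa using h1
    · apply Multiplicative.toAdd.injective
      simpa using hy

lemma concrete_hK (ha1 : ∀ i, 1 ≤ a i) :
    ∃ K, ∀ x ∈ VV (Multiplicative ((i : Fin n) → ZMod (2 ^ a i))) K, x = 1 := by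
  refine ⟨∑ i, a i, fun x hx => ?_⟩
  rw [mem_VV_iff a ha1] at hx
  apply Multiplicative.toAdd.injective
  rw [toAdd_one]
  funext i
  rcases hx i with h | ⟨-, h⟩
  · exact h
  · exfalso
    have : a i ≤ ∑ j, a j := Finset.single_le_sum (fun _ _ => Nat.zero_le _) (Finset.mem_univ i)
    omega

lemma concrete_h2 (x : Multiplicative ((i : Fin n) → ZMod (2 ^ a i))) :
    ∃ j, x ^ (2 ^ j) = 1 := by
  refine ⟨∑ i, a i, ?_⟩
  apply Multiplicative.toAdd.injective
  rw [toAdd_pow, toAdd_one]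
  funext i
  have : a i ≤ ∑ j, a j := Finset.single_le_sum (fun _ _ => Nat.zero_le _) (Finset.mem_univ i)
  rw [Pi.smul_apply, nsmul_eq_mul, zmod_two_pow_eq_zero this, zero_mul]
  rfl

lemma concrete_hjump (ha : StrictMono a) (ha1 : ∀ i, 1 ≤ a i) (k : ℕ)
    (x y : Multiplicative ((i : Fin n) → ZMod (2 ^ a i)))
    (hx : x ∈ VV (Multiplicative ((i : Fin n) → ZMod (2 ^ a i))) k)
    (hy : y ∈ VV (Multiplicative ((i : Fin n) → ZMod (2 ^ a i))) k)
    (hx1 : x ∉ VV (Multiplicative ((i : Fin n) → ZMod (2 ^ a i))) (k + 1))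
    (hy1 : y ∉ VV (Multiplicative ((i : Fin n) → ZMod (2 ^ a i))) (k + 1)) :
    x * y⁻¹ ∈ VV (Multiplicative ((i : Fin n) → ZMod (2 ^ a i))) (k + 1) := by
  rw [mem_VV_iff a ha1] at hx hy hx1 hy1 ⊢
  -- the special index
  have key : ∀ z : (i : Fin n) → ZMod (2 ^ a i), z ∈ WW a k → z ∉ WW a (k + 1) →
      ∃ i, a i = k + 1 ∧ z i = ((2 ^ (a i - 1) : ℕ) : ZMod (2 ^ a i)) := by
    intro z hz hz1
    unfold WW at hz1
    rw [Set.mem_ofPred_eq] at hz1
    push Not at hz1
    obtain ⟨i, hi0, hi1⟩ := hz1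
    rcases hz i with h | ⟨h, hk⟩
    · exact absurd h hi0
    · refine ⟨i, ?_, h⟩
      have := hi1 h
      omega
  obtain ⟨i₁, hi₁, hxi⟩ := key _ hx hx1
  obtain ⟨i₂, hi₂, hyi⟩ := key _ hy hy1
  have hi12 : i₁ = i₂ := ha.injective (hi₁.trans hi₂.symm)
  subst hi12
  intro i
  have hsub : Multiplicative.toAdd (x * y⁻¹) i = Multiplicative.toAdd x i - Multiplicative.toAdd y i := by
    simp [sub_eq_add_neg]
  rw [hsub]
  by_cases hi : i = i₁
  · subst hi
    left
    rw [hxi, hyi, sub_self]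
  · have hai : a i ≠ k + 1 := fun h => hi (ha.injective (h.trans hi₁.symm))
    have hneg : -((2 ^ (a i - 1) : ℕ) : ZMod (2 ^ a i)) = ((2 ^ (a i - 1) : ℕ) : ZMod (2 ^ a i)) := by
      have := zmod_two_smul_half (ha1 i)
      rw [two_smul] at this
      exact neg_eq_of_add_eq_zero_left this
    rcases hx i with h | ⟨h, hk⟩ <;> rcases hy i with h' | ⟨h', hk'⟩
    · left; rw [h, h', sub_zero]
    · right
      refine ⟨by rw [h, h', zero_sub, hneg], by omega⟩
    · right
      refine ⟨by rw [h, h', sub_zero], by omega⟩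
    · left; rw [h, h', sub_self]

end concrete

/-- Let S be a finite abelian 2-group that is a direct product of cyclic groups of pairwise distinct orders 2^{a_1} < 2^{a_2} < ⋯ < 2^{a_n} (all a_i ≥ 1). Then every saturated fusion system over S is the inner one: its maps are exactly the conjugations by elements of S. -/
theorem result {Ω : Type*} [Group Ω] {S : Subgroup Ω} [Finite S] (n : ℕ) (a : Fin n → ℕ) (ha : StrictMono a) (ha1 : ∀ i, 1 ≤ a i) (e : ↥S ≃* Multiplicative ((i : Fin n) → ZMod (2 ^ a i))) (F : Cfsg.FusionSystem S) (hF : F.IsSaturated 2) (P : Subgroup Ω) : F.Hom P = (Cfsg.innerFusionSystem S).Hom P := by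
  classical
  have hab : ∀ x ∈ S, ∀ y ∈ S, x * y = y * x := by
    intro x hx y hy
    have h1 : e (⟨x, hx⟩ * ⟨y, hy⟩) = e (⟨y, hy⟩ * ⟨x, hx⟩) := by
      rw [map_mul, map_mul, mul_comm]
    have h2 := e.injective h1
    exact congrArg Subtype.val h2
  have hS : IsPGroup 2 S := by
    intro g
    obtain ⟨j, hj⟩ := concrete_h2 a (e g)
    refine ⟨j, ?_⟩
    apply e.injective
    rw [map_pow, hj, map_one]
  have hprime : Fact (Nat.Prime 2) := ⟨Nat.prime_two⟩
  have hn := not_dvd_card_autGroup hS F hF hab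
  have hodd : Odd (Nat.card (F.autGroup S)) := by
    rw [Nat.odd_iff]
    omega
  have htriv : ∀ α ∈ F.autGroup S, α = 1 := by
    intro α hα
    have hpow : α ^ Nat.card (F.autGroup S) = 1 := by
      have h1 := pow_card_eq_one' (G := F.autGroup S) (x := ⟨α, hα⟩)
      have h2 := congrArg Subtype.val h1
      rw [Subgroup.coe_pow] at h2
      exact h2
    have h1 : (MulAut.congr e α) ^ Nat.card (F.autGroup S) = 1 := by
      rw [← map_pow, hpow, map_one]
    have h2 := aut_eq_one_of_odd_order (concrete_hK a ha1) (concrete_hjump a ha ha1) (concrete_h2 a)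
      _ _ hodd h1
    exact (MulEquiv.map_eq_one_iff (MulAut.congr e)).mp h2
  apply Set.Subset.antisymm _ (inner_hom_subset F P)
  intro φ hφ
  obtain ⟨α, hα, h⟩ := exists_aut_extension hS F hF hab hφ
  have hP := hom_le F hφ
  refine ⟨hP, 1, S.one_mem, fun x => ?_⟩
  rw [h x (hP x.2), htriv α hα]
  simp

end Cfsg.Agent.S5331
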