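import Cfsg.Statements.S5333
import Cfsg.Agent.Lib.Helper27.FSCentric

set_option autoImplicit false
open Cfsg Cfsg.FusionSystem Cfsg.Agent.Lib.Helper26 Cfsg.Agent.Lib.Helper27

namespace Cfsg.Agent.S5333

/-- Let F′ ≤ F be saturated fusion systems over the same finite p-group S. Suppose that for every subgroup Z ≤ S of order p that is fully centralized in F′, the maps of F and of F′ with source Z coincide and the centralizer systems C_F(Z) and C_{F′}(Z) coincide. Then F = F′. -/
theorem result {Ω : Type*} [Group Ω] {S : Subgroup Ω} [Finite S] (p : ℕ) [Fact p.Prime] (hS : IsPGroup p S) (F : Cfsg.FusionSystem S) (hF : F.IsSaturated p) (F' : Cfsg.FusionSystem S) (hF' : F'.IsSaturated p) (hle : F' ≤ F) (hZ : ∀ Z : Subgroup Ω, Z ≤ S → Nat.card Z = p → F'.IsFullyCentralized Z → F.Hom Z = F'.Hom Z ∧ ∀ (C C' : Cfsg.FusionSystem (Cfsg.FusionSystem.centralizerIn S Z)), F.IsCentralizerSystem Z C → F'.IsCentralizerSystem Z C' → ∀ P : Subgroup Ω, C.Hom P = C'.Hom P) (P : Subgroup Ω) : F.Hom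 P = F'.Hom P := by
  classical
  have hp : p.Prime := Fact.out
  have hle' : ∀ P : Subgroup Ω, F'.Hom P ⊆ F.Hom P := hle
  apply Set.Subset.antisymm _ (hle' P)
  apply alperin hS F hF F'
  intro P hP α hα
  have hPc : F.IsCentric P := by
    rcases hP with rfl | hP
    · exact isCentric_self F
    · exact hP.1
  have hPS : P ≤ S := hPc.1
  by_cases hPbot : P = ⊥
  · -- trivial group: only the identity automorphism
    have hall : ∀ y ∈ P, y = 1 := fun y hy => by
      have h2 : y ∈ (⊥ : Subgroup Ω) := hPbot ▸ hy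
      exact Subgroup.mem_bot.mp h2
    have : α = 1 := by
      ext x
      rw [hall _ (α x).2, MulAut.one_apply, hall _ x.2]
    rw [this]
    exact Subgroup.one_mem _
  -- a central element of order p
  have hSnt : Nontrivial S := by
    obtain ⟨x, hx1⟩ := (Subgroup.ne_bot_iff_exists_ne_one).mp hPbot
    exact ⟨⟨⟨x.1, hPS x.2⟩, 1, fun h => hx1 (Subtype.ext (congrArg (fun t : S => (t : Ω)) h))⟩⟩
  have hcnt : Nontrivial (Subgroup.center S) := hS.center_nontrivial
  have hcp : IsPGroup p (Subgroup.center S) := hS.to_subgroup _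
  have hdvd : p ∣ Nat.card (Subgroup.center S) := by
    rcases hcp.card_eq_or_dvd with h | h
    · exfalso
      have := (Finite.one_lt_card_iff_nontrivial (α := Subgroup.center S)).mpr hcnt
      omega
    · exact h
  obtain ⟨zc, hzc⟩ := exists_prime_orderOf_dvd_card' (G := Subgroup.center S) p hdvd
  have hzS : ((zc : S) : Ω) ∈ S := (zc : S).2
  have hzcomm : ∀ s ∈ S, s * ((zc : S) : Ω) = ((zc : S) : Ω) * s := by
    intro s hs
    have := Subgroup.mem_center_iff.mp zc.2 ⟨s, hs⟩
    exact congrArg Subtype.val this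
  have hzord : orderOf (((zc : S) : Ω)) = p := by
    rw [← hzc, Subgroup.orderOf_coe, Subgroup.orderOf_coe]
  set z : Ω := ((zc : S) : Ω) with hz
  have hZS : Subgroup.zpowers z ≤ S := by
    rw [Subgroup.zpowers_le]; exact hzS
  have hZcard : Nat.card (Subgroup.zpowers z) = p := by rw [Nat.card_zpowers, hzord]
  have hZcomm : ∀ y ∈ Subgroup.zpowers z, ∀ s ∈ S, s * y = y * s := by
    intro y hy s hs
    obtain ⟨k, rfl⟩ := Subgroup.mem_zpowers_iff.mp hy
    exact ((Commute.zpow_right (hzcomm s hs) k)).eq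
  have hCZ : centralizerIn S (Subgroup.zpowers z) = S := by
    apply le_antisymm (centralizerIn_le _ _)
    intro s hs
    rw [mem_centralizerIn_iff]
    exact ⟨hs, fun y hy => (hZcomm y hy s hs).symm⟩
  have hfc : F'.IsFullyCentralized (Subgroup.zpowers z) := by
    refine ⟨hZS, fun Q _ => ?_⟩
    rw [hCZ]
    exact Subgroup.card_le_of_le (centralizerIn_le S Q)
  obtain ⟨hHomZ, hCsys⟩ := hZ _ hZS hZcard hfc
  -- Z ≤ P
  have hZP : Subgroup.zpowers z ≤ P := by
    rw [Subgroup.zpowers_le]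
    apply hPc.2 P (isConj_refl F hPS)
    rw [mem_centralizerIn_iff]
    exact ⟨hzS, fun x hx => hzcomm x (hPS hx)⟩
  have hαF := (mem_autGroup_iff F hPS α).mp hα
  -- φ = α restricted to Z, a map of F'
  have hφ' : (P.subtype.comp α.toMonoidHom).comp (Subgroup.inclusion hZP) ∈ F'.Hom (Subgroup.zpowers z) := by
    rw [← hHomZ]
    exact inclusion_comp_mem F hZP hαF
  obtain ⟨φi, hφi, hφiφ⟩ := F'.inv_mem hφ'
  have hφir : φi.range = Subgroup.zpowers z := by
    apply le_antisymm
    · rintro _ ⟨⟨_, x, rfl⟩, rfl⟩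
      rw [hφiφ]
      exact x.2
    · intro x hx
      exact ⟨_, hφiφ ⟨x, hx⟩⟩
  have hrec : F'.IsReceptive (Subgroup.zpowers z) := saturated_fc hS F' hF' hfc
  obtain ⟨χ, hχ, hχφi⟩ := hrec.2 _ φi hφi hφir
  -- P centralizes Z' = α(Z)
  have hPext : P ≤ extender S ((P.subtype.comp α.toMonoidHom).comp (Subgroup.inclusion hZP)).range φi := by
    refine le_trans ?_ (centralizerIn_le_extender _ φi)
    intro y hy
    rw [mem_centralizerIn_iff]
    refine ⟨hPS hy, ?_⟩
    rintro _ ⟨x, rfl⟩
    show ((α (Subgroup.inclusion hZP x) : P) : Ω) * y = y * ((α (Subgroup.inclusion hZP x) : P) : Ω)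
    have h1 : α (Subgroup.inclusion hZP x) * α (α⁻¹ ⟨y, hy⟩) = α (α⁻¹ ⟨y, hy⟩) * α (Subgroup.inclusion hZP x) := by
      rw [← map_mul, ← map_mul]
      congr 1
      apply Subtype.ext
      exact (hZcomm x x.2 _ (hPS (α⁻¹ ⟨y, hy⟩).2)).symm
    have h2 : α (α⁻¹ ⟨y, hy⟩) = ⟨y, hy⟩ := by simp
    rw [h2] at h1
    exact congrArg Subtype.val h1
  have hχP' : χ.comp (Subgroup.inclusion hPext) ∈ F'.Hom P := inclusion_comp_mem F' hPext hχ
  have hχP : χ.comp (Subgroup.inclusion hPext) ∈ F.Hom P := hle' P hχP'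
  have hαval : ∀ x : P, (P.subtype.comp α.toMonoidHom) x ∈ P := fun x => (α x).2
  have hρ := F.comp_mem hαF hχP hαval
  -- ρ fixes Z pointwise
  have hρZ : ∀ x : Subgroup.zpowers z,
      ((χ.comp (Subgroup.inclusion hPext)).comp ((P.subtype.comp α.toMonoidHom).codRestrict P hαval))
        (Subgroup.inclusion hZP x) = x := by
    intro x
    have hmem : ((α (Subgroup.inclusion hZP x) : P) : Ω) ∈
        ((P.subtype.comp α.toMonoidHom).comp (Subgroup.inclusion hZP)).range := ⟨x, rfl⟩
    have h1 := hχφi _ hmem (hPext (α (Subgroup.inclusion hZP x)).2)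
    show χ (Subgroup.inclusion hPext (α (Subgroup.inclusion hZP x))) = x
    rw [← hφiφ x]
    exact h1
  -- ρ lies in the centralizer system of Z in F, hence in that of F'
  have hρC : ((χ.comp (Subgroup.inclusion hPext)).comp ((P.subtype.comp α.toMonoidHom).codRestrict P hαval)) ∈
      F.centralizerHom (Subgroup.zpowers z) P := by
    have hsup : P ⊔ Subgroup.zpowers z ≤ P := sup_le le_rfl hZP
    refine ⟨hρ, by rw [hCZ]; exact hPS, fun x => by rw [hCZ]; exact hom_apply_mem F hρ x, ?_⟩
    refine ⟨_, inclusion_comp_mem F hsup hρ, fun x => rfl, fun x => ?_⟩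
    exact hρZ x
  have hCeq := hCsys (centralizerSystem F _ hZS) (centralizerSystem F' _ hZS)
    (centralizerSystem_isCentralizerSystem F _ hZS) (centralizerSystem_isCentralizerSystem F' _ hZS) P
  have hρC' : ((χ.comp (Subgroup.inclusion hPext)).comp ((P.subtype.comp α.toMonoidHom).codRestrict P hαval)) ∈
      F'.centralizerHom (Subgroup.zpowers z) P := by
    have : ((χ.comp (Subgroup.inclusion hPext)).comp ((P.subtype.comp α.toMonoidHom).codRestrict P hαval)) ∈
        (centralizerSystem F (Subgroup.zpowers z) hZS).Hom P := hρC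
    rw [hCeq] at this
    exact this
  have hρ' := hρC'.1
  -- α = (χ|P)⁻¹ ∘ ρ
  obtain ⟨χi, hχi, hχiχ⟩ := F'.inv_mem hχP'
  have hval : ∀ x : P,
      ((χ.comp (Subgroup.inclusion hPext)).comp ((P.subtype.comp α.toMonoidHom).codRestrict P hαval)) x ∈
        (χ.comp (Subgroup.inclusion hPext)).range := fun x => ⟨_, rfl⟩
  have hfinal := F'.comp_mem hρ' hχi hval
  rw [mem_autGroup_iff F' hPS]
  have : χi.comp (((χ.comp (Subgroup.inclusion hPext)).comp
      ((P.subtype.comp α.toMonoidHom).codRestrict P hαval)).codRestrict _ hval) =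
      P.subtype.comp α.toMonoidHom := by
    ext x
    show χi ⟨(χ.comp (Subgroup.inclusion hPext)) (α x), _⟩ = ((α x : P) : Ω)
    exact hχiχ (α x)
  rw [this] at hfinal
  exact hfinal

end Cfsg.Agent.S5333
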