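import Cfsg.Statements.S5335
import Cfsg.Agent.Lib.Helper27.FSCentric

set_option autoImplicit false
open Cfsg Cfsg.FusionSystem Cfsg.Agent.Lib.Helper26 Cfsg.Agent.Lib.Helper27

namespace Cfsg.Agent.S5335

/-- Let F′ ≤ F be saturated fusion systems over the same finite p-group S. If the maps of F and of F′ with source Q coincide for every F-centric subgroup Q that is minimal among F-centric subgroups, then F = F′. -/
theorem result {Ω : Type*} [Group Ω] {S : Subgroup Ω} [Finite S] (p : ℕ) [Fact p.Prime] (hS : IsPGroup p S) (F : Cfsg.FusionSystem S) (hF : F.IsSaturated p) (F' : Cfsg.FusionSystem S) (hF' : F'.IsSaturated p) (hle : F' ≤ F) (hmin : ∀ Q : Subgroup Ω, F.IsCentric Q → (∀ R : Subgroup Ω, R < Q → ¬ F.IsCentric R) → F.Hom Q = F'.Hom Q) (P : Subgroup Ω) : F.Hom P = F'.Hom P := by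
  classical
  have hle' : ∀ P : Subgroup Ω, F'.Hom P ⊆ F.Hom P := hle
  -- minimal centric subgroups below a centric subgroup
  have hminex : ∀ n : ℕ, ∀ P : Subgroup Ω, F.IsCentric P → Nat.card P = n →
      ∃ Q : Subgroup Ω, Q ≤ P ∧ F.IsCentric Q ∧ ∀ R : Subgroup Ω, R < Q → ¬ F.IsCentric R := by
    intro n
    induction n using Nat.strong_induction_on with
    | _ n ih =>
      intro P hP hn
      by_cases h : ∃ R : Subgroup Ω, R < P ∧ F.IsCentric R
      · obtain ⟨R, hRP, hR⟩ := h
        have hfinP : Finite P := finite_of_le hP.1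
        have hlt : Nat.card R < Nat.card P := by
          rcases (Subgroup.card_le_of_le hRP.le).lt_or_eq with h | h
          · exact h
          · exfalso
            have := Subgroup.eq_of_le_of_card_ge hRP.le h.ge
            exact hRP.ne this
        obtain ⟨Q, hQR, hQ, hQmin⟩ := ih (Nat.card R) (hn ▸ hlt) R hR rfl
        exact ⟨Q, hQR.trans hRP.le, hQ, hQmin⟩
      · push Not at h
        exact ⟨P, le_rfl, hP, h⟩
  apply Set.Subset.antisymm _ (hle' P)
  apply alperin hS F hF F'
  intro P hP α hα
  have hPc : F.IsCentric P := by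
    rcases hP with rfl | hP
    · exact isCentric_self F
    · exact hP.1
  obtain ⟨Q, hQP, hQ, hQmin⟩ := hminex _ P hPc rfl
  have hαF := (mem_autGroup_iff F hPc.1 α).mp hα
  rw [mem_autGroup_iff F' hPc.1]
  have hres : (P.subtype.comp α.toMonoidHom).comp (Subgroup.inclusion hQP) ∈ F'.Hom Q := by
    rw [← hmin Q hQ hQmin]
    exact inclusion_comp_mem F hQP hαF
  exact mem_of_restrict_centric_mem hS F F' hF hF' hle' hαF Q hQP hQ hres

end Cfsg.Agent.S5335
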