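import Cfsg.Statements.S5336
import Cfsg.Agent.S5118

set_option autoImplicit false
open Cfsg

namespace Cfsg.Agent.S5336

open Cfsg.FusionSystem Cfsg.Agent.Lib.Helper26 Cfsg.Agent.Lib.Helper27

/-- Let G be a finite group with Sylow p-subgroup S whose fusion system F_S(G) is simple. If G has no nontrivial normal subgroup of order prime to p and no proper subgroup H containing S induces the same fusion system on S as G does, then G is a simple group. -/
theorem result {G : Type*} [Group G] [Finite G] (p : ℕ) [Fact p.Prime] (S : Sylow p G) (hsimple : (Cfsg.groupFusionSystem (S : Subgroup G)).IsSimple p) (hcore : Cfsg.pPrimeCore p G = ⊥) (hmin : ∀ (H : Subgroup G) (hSH : (S : Subgroup G) ≤ H), H ≠ ⊤ → ∃ P : Subgroup G, (Cfsg.fusionSystemOfSubgroup H (S : Subgroup G) hSH).Hom P ≠ (Cfsg.groupFusionSystem (S : Subgroup G)).Hom P) : IsSimpleGroup G := by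
  obtain ⟨hsat, hSne, hsimp⟩ := hsimple
  have hnt : Nontrivial G := by
    by_contra hG
    rw [not_nontrivial_iff_subsingleton] at hG
    apply hSne
    exact Subsingleton.elim _ _
  refine { toNontrivial := hnt, eq_bot_or_eq_top_of_normal := ?_ }
  intro N hN
  by_contra hcon
  push Not at hcon
  obtain ⟨hNbot, hNtop⟩ := hcon
  have hnorm := Cfsg.Agent.S5118.result p S N
  rcases hsimp _ _ hnorm with hT | ⟨hT, hHom⟩
  · -- `S ∩ N = ⊥`: `N` is a normal `p'`-subgroup
    apply hNbot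
    obtain ⟨R, hR⟩ := sylowIn_inf_of_normal S N
    have hRbot : (R : Subgroup N) = ⊥ := by
      rw [hR, hT]
      exact Subgroup.bot_subgroupOf _
    have hndvd : ¬ p ∣ Nat.card N := fun hd => R.ne_bot_of_dvd_card hd hRbot
    have hcop : (Nat.card N).Coprime p :=
      ((Nat.Prime.coprime_iff_not_dvd (Fact.out : p.Prime)).mpr hndvd).symm
    have hle : N ≤ Cfsg.pPrimeCore p G := le_sSup ⟨hN, hcop⟩
    rw [hcore] at hle
    exact le_bot_iff.mp hle
  · -- `S ≤ N` and `F_S(N) = F_S(G)`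
    have hSN : (S : Subgroup G) ≤ N := by
      rw [← hT]; exact inf_le_right
    obtain ⟨P, hP⟩ := hmin N hSN hNtop
    apply hP
    rw [← hHom P]
    ext φ
    show (P ≤ (S : Subgroup G) ∧ (∀ x : P, φ x ∈ (S : Subgroup G)) ∧
        ∃ g ∈ N, ∀ x : P, φ x = g * (x : G) * g⁻¹) ↔
      (P ≤ (S : Subgroup G) ⊓ N ∧ (∀ x : P, φ x ∈ (S : Subgroup G) ⊓ N) ∧
        ∃ g ∈ N, ∀ x : P, φ x = g * (x : G) * g⁻¹)
    rw [hT]

end Cfsg.Agent.S5336
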