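import Cfsg.Statements.S5337
import Cfsg.Agent.Lib.Helper27.FSAbelian

set_option autoImplicit false
open Cfsg Cfsg.FusionSystem Cfsg.Agent.Lib.Helper26 Cfsg.Agent.Lib.Helper27

namespace Cfsg.Agent.S5337

/-- Let F be a saturated fusion system over a finite abelian p-group S. Then F is simple if and only if S has order p and F is the inner system of S (whose only maps are the inclusions, S being abelian). -/
theorem result {Ω : Type*} [Group Ω] {S : Subgroup Ω} [Finite S] (p : ℕ) [Fact p.Prime] (hS : IsPGroup p S) (F : Cfsg.FusionSystem S) (hF : F.IsSaturated p) (hab : ∀ x ∈ S, ∀ y ∈ S, x * y = y * x) : F.IsSimple p ↔ (Nat.card S = p ∧ ∀ P : Subgroup Ω, F.Hom P = (Cfsg.innerFusionSystem S).Hom P) := by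
  classical
  have hp : p.Prime := Fact.out
  constructor
  · -- simple ⇒ |S| = p and F inner
    rintro ⟨-, hne, hsimple⟩
    -- step (i): the inner system of S is normal, hence equals F
    have hN1 : (innerFusionSystem S).IsNormalIn F p := by
      apply inner_isNormalIn_of_abelian F hF hab le_rfl
      · exact ⟨le_rfl, fun R _ φ hφ x => hom_apply_mem F hφ x⟩
      · intro P hP φ hφ
        obtain ⟨α, hα, h⟩ := exists_aut_extension hS F hF hab hφ
        exact ⟨α, hα, fun x => h x (hP x.2)⟩
    have hinner : ∀ P : Subgroup Ω, (innerFusionSystem S).Hom P = F.Hom P := by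
      rcases hsimple S _ hN1 with h | h
      · exact absurd h hne
      · exact h.2
    -- step (ii): a subgroup of order p
    have hcard1 : Nat.card S ≠ 1 := by
      intro h
      exact hne (Subgroup.card_eq_one.mp h)
    have hdvd : p ∣ Nat.card S := by
      rcases hS.card_eq_or_dvd with h | h
      · exact absurd h hcard1
      · exact h
    obtain ⟨x, hx⟩ := exists_prime_orderOf_dvd_card' (G := S) p hdvd
    have hxS : Subgroup.zpowers (x : Ω) ≤ S := by
      rw [Subgroup.zpowers_le]; exact x.2
    have hordx : orderOf (x : Ω) = p := by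
      rw [← hx]; exact (Subgroup.orderOf_coe x)
    have hN2 : (innerFusionSystem (Subgroup.zpowers (x : Ω))).IsNormalIn F p := by
      apply inner_isNormalIn_of_abelian F hF hab hxS
      · refine ⟨hxS, fun R hR φ hφ y => ?_⟩
        rw [← hinner R] at hφ
        rw [inner_hom_apply_of_abelian hab hφ y]
        exact hR y.2
      · intro P hP φ hφ
        refine ⟨1, Subgroup.one_mem _, fun y => ?_⟩
        rw [← hinner P] at hφ
        rw [inner_hom_apply_of_abelian hab hφ y]
        rfl
    have hTS : Subgroup.zpowers (x : Ω) = S := by
      rcases hsimple _ _ hN2 with h | h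
      · exfalso
        have : (x : Ω) = 1 := by
          have := Subgroup.mem_zpowers (x : Ω)
          rw [h] at this
          exact Subgroup.mem_bot.mp this
        rw [this, orderOf_one] at hordx
        exact hp.one_lt.ne hordx
      · exact h.1
    refine ⟨?_, fun P => (hinner P).symm⟩
    rw [← hTS, Nat.card_zpowers, hordx]
  · -- converse
    rintro ⟨hcard, hinner⟩
    have hne : S ≠ ⊥ := by
      intro h
      have : Nat.card S = 1 := Subgroup.card_eq_one.mpr h
      rw [hcard] at this
      exact hp.one_lt.ne' this
    refine ⟨hF, hne, fun T E hE => ?_⟩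
    have hTS : T ≤ S := hE.1.2.2.2.1.1
    have hdvd : Nat.card T ∣ Nat.card S := Subgroup.card_dvd_of_le hTS
    rw [hcard] at hdvd
    rcases (Nat.dvd_prime hp).mp hdvd with h | h
    · left
      exact Subgroup.card_eq_one.mp h
    · right
      have hT : T = S := by
        apply Subgroup.eq_of_le_of_card_ge hTS
        rw [h, hcard]
      subst hT
      refine ⟨rfl, fun P => ?_⟩
      apply Set.Subset.antisymm (hE.1.2.2.1 P)
      rw [hinner P]
      exact inner_hom_subset E P

end Cfsg.Agent.S5337
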