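import Cfsg.Statements.S5338
import Cfsg.Agent.Lib.Helper27.FSAlperinStrong

set_option autoImplicit false
open Cfsg Cfsg.FusionSystem Cfsg.Agent.Lib.Helper26 Cfsg.Agent.Lib.Helper27

namespace Cfsg.Agent.S5338

/-- Let F be a saturated fusion system over a finite p-group S and F′ ≤ F a saturated subsystem over all of S that is invariant under F in the conjugation sense: for every map φ of F with source Q and every map ψ of F′ between subgroups R ≤ Q (with values in Q), the transported map φψφ⁻¹ defined on φ(R) is again a map of F′. If moreover Aut_{F′}(S) = Aut_F(S), then F′ = F. -/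
theorem result {Ω : Type*} [Group Ω] {S : Subgroup Ω} [Finite S] (p : ℕ) [Fact p.Prime] (hS : IsPGroup p S) (F : Cfsg.FusionSystem S) (hF : F.IsSaturated p) (F' : Cfsg.FusionSystem S) (hF' : F'.IsSaturated p) (hle : F' ≤ F) (hinv : ∀ (Q : Subgroup Ω) (φ : ↥Q →* Ω), φ ∈ F.Hom Q → ∀ (R : Subgroup Ω) (hRQ : R ≤ Q) (ψ : ↥R →* Ω), ψ ∈ F'.Hom R → ∀ (hψQ : ∀ x : R, ψ x ∈ Q), ∃ χ ∈ F'.Hom ((R.subgroupOf Q).map φ), ∀ (x : R) (hx : φ ⟨(x : Ω), hRQ x.2⟩ ∈ (R.subgroupOf Q).map φ), χ ⟨φ ⟨(x : Ω), hRQ x.2⟩, hx⟩ = φ ⟨ψ x, hψQ x⟩) (htop : F'.autGroup S = F.autGroup S) (P : Subgroup Ω) : F'.Hom P = F.Hom P := by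
  classical
  have hle' : ∀ P : Subgroup Ω, F'.Hom P ⊆ F.Hom P := hle
  apply Set.Subset.antisymm (hle' P)
  apply alperin_strong hS F hF F'
  intro P hP IH
  by_cases hPeq : P = S
  · subst hPeq
    rw [htop]
  have hess : F.IsEssential p P := by
    rcases hP with h | h
    · exact absurd h hPeq
    · exact h
  have hfn : F.IsFullyNormalized P := hess.2.1
  have hPS : P ≤ S := hfn.1
  have hfinP : Finite P := finite_of_le hPS
  have hRec := saturated_fn_receptive hS F hF hfn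
  obtain ⟨-, R, hR⟩ := (saturated_fn hS F hF hfn).2
  -- Aut_{F'}(P) is normal in Aut_F(P)
  have hconjmem : ∀ α ∈ F.autGroup P, ∀ κ ∈ F'.autGroup P, α * κ * α⁻¹ ∈ F'.autGroup P := by
    intro α hα κ hκ
    have hαF := (mem_autGroup_iff F hPS α).mp hα
    have hκF' := (mem_autGroup_iff F' hPS κ).mp hκ
    obtain ⟨χ, hχ, hχeq⟩ := hinv P _ hαF P le_rfl _ hκF' (fun x => (κ x).2)
    have hPeq' : (P.subgroupOf P).map (P.subtype.comp α.toMonoidHom) = P := by
      ext y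
      constructor
      · rintro ⟨x, -, rfl⟩
        exact (α x).2
      · intro hy
        refine ⟨α⁻¹ ⟨y, hy⟩, ?_, ?_⟩
        · rw [Subgroup.subgroupOf_self]; trivial
        · show ((α (α⁻¹ ⟨y, hy⟩) : P) : Ω) = y
          simp
    have h2 := hom_congr F' hPeq' hχ
    rw [mem_autGroup_iff F' hPS]
    have : P.subtype.comp (α * κ * α⁻¹).toMonoidHom = χ.comp (Subgroup.inclusion hPeq'.ge) := by
      ext y
      have hmem : (P.subtype.comp α.toMonoidHom) ⟨((α⁻¹ y : P) : Ω), (α⁻¹ y).2⟩ ∈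
          (P.subgroupOf P).map (P.subtype.comp α.toMonoidHom) := by
        rw [hPeq']
        exact (α _).2
      have h3 := hχeq (α⁻¹ y) hmem
      show ((α (κ (α⁻¹ y)) : P) : Ω) = χ (Subgroup.inclusion hPeq'.ge y)
      have h4 : (⟨(P.subtype.comp α.toMonoidHom) ⟨((α⁻¹ y : P) : Ω), (α⁻¹ y).2⟩, hmem⟩ :
          ↥((P.subgroupOf P).map (P.subtype.comp α.toMonoidHom))) = Subgroup.inclusion hPeq'.ge y := by
        apply Subtype.ext
        show ((α (⟨((α⁻¹ y : P) : Ω), _⟩) : P) : Ω) = y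
        have : (⟨((α⁻¹ y : P) : Ω), (α⁻¹ y).2⟩ : P) = α⁻¹ y := Subtype.ext rfl
        rw [this]
        simp
      rw [← h4, h3]
      rfl
    rw [this]
    exact h2
  have hNn : ((F'.autGroup P).subgroupOf (F.autGroup P)).Normal := by
    constructor
    intro κ hκ α
    rw [Subgroup.mem_subgroupOf] at hκ ⊢
    exact hconjmem α.1 α.2 κ.1 hκ
  -- Aut_S(P) ≤ Aut_{F'}(P)
  have hRle : (R : Subgroup ↥(F.autGroup P)) ≤ (F'.autGroup P).subgroupOf (F.autGroup P) := by
    rw [hR]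
    intro β hβ
    rw [Subgroup.mem_subgroupOf] at hβ ⊢
    exact autInducedBy_le_autGroup F' hPS hβ
  have hfrat := Sylow.normalizer_sup_eq_top' R hRle
  -- an element of N_S(P) outside P
  obtain ⟨g, hgN, hgP⟩ := exists_mem_normalizerIn_not_mem hS hPS hPeq
  have hgS : g ∈ S := normalizerIn_le S P hgN
  have hgN' : g ∈ Subgroup.normalizer (P : Set Ω) := hgN.2
  intro α hα
  have hmem := Subgroup.mem_top (⟨α, hα⟩ : ↥(F.autGroup P))
  rw [← hfrat] at hmem
  rw [← SetLike.mem_coe, Subgroup.mul_normal] at hmem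
  obtain ⟨ν, hν, κ, hκ, hνκ⟩ := Set.mem_mul.mp hmem
  -- ν lies in Aut_{F'}(P) because it extends to N_S(P)
  have hνF' : (ν : MulAut P) ∈ F'.autGroup P := by
    apply mem_autGroup_of_extender F F' hRec IH ν.2 (g := g) _ hgP
    rw [mem_extender_iff]
    have hcg : P.normalizerMonoidHom ⟨g, hgN'⟩ ∈ autInducedBy S P :=
      normalizerMonoidHom_mem_autInducedBy hgS hgN'
    have hcgF : P.normalizerMonoidHom ⟨g, hgN'⟩ ∈ F.autGroup P := autInducedBy_le_autGroup F hPS hcg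
    have hcgR : (⟨_, hcgF⟩ : ↥(F.autGroup P)) ∈ (R : Subgroup ↥(F.autGroup P)) := by
      rw [hR, Subgroup.mem_subgroupOf]; exact hcg
    have h1 := (Subgroup.mem_normalizer_iff.mp hν _).mp hcgR
    rw [hR, Subgroup.mem_subgroupOf] at h1
    obtain ⟨h, hhS, hh⟩ := (mem_autInducedBy_iff S P _).mp h1
    refine ⟨hgS, hgN', h, hhS, fun x hx => ?_⟩
    have h2 := hh ((ν : MulAut P) x)
    have h3 : ((ν * ⟨_, hcgF⟩ * ν⁻¹ : ↥(F.autGroup P)) : MulAut P) ((ν : MulAut P) x) =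
        (ν : MulAut P) ⟨g * x * g⁻¹, hx⟩ := by
      show (ν : MulAut P) ((P.normalizerMonoidHom ⟨g, hgN'⟩) ((ν : MulAut P)⁻¹ ((ν : MulAut P) x))) = _
      have : (ν : MulAut P)⁻¹ ((ν : MulAut P) x) = x := by simp
      rw [this]
      congr 1
    rw [h3] at h2
    exact h2
  have hκF' : (κ : MulAut P) ∈ F'.autGroup P := hκ
  have : α = (ν : MulAut P) * (κ : MulAut P) := by
    have := congrArg Subtype.val hνκ
    exact this.symm
  rw [this]
  exact Subgroup.mul_mem _ hνF' hκF'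

end Cfsg.Agent.S5338
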