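import Cfsg.Statements.S5341
import Cfsg.Agent.Lib.Helper26.FSSatEquiv

set_option autoImplicit false
open Cfsg Cfsg.FusionSystem Cfsg.Agent.Lib.Helper26

namespace Cfsg.Agent.S5341

/-- Let F be a saturated fusion system over a finite p-group S, T a subgroup strongly closed in F, and F′ any fusion system over T all of whose maps are maps of F. For a subgroup Q ≤ T: if Q is fully centralized in F then it is fully centralized in F′, and if Q is fully normalized in F then it is fully normalized in F′. -/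
theorem result {Ω : Type*} [Group Ω] {S : Subgroup Ω} [Finite S] (p : ℕ) [Fact p.Prime] (hS : IsPGroup p S) (F : Cfsg.FusionSystem S) (hF : F.IsSaturated p) (T : Subgroup Ω) (hT : F.StronglyClosed T) (F' : Cfsg.FusionSystem T) (hsub : F'.IsSubsystemOf F) (Q : Subgroup Ω) (hQT : Q ≤ T) : (F.IsFullyCentralized Q → F'.IsFullyCentralized Q) ∧ (F.IsFullyNormalized Q → F'.IsFullyNormalized Q) := by
  classical
  have hTS : T ≤ S := hT.1
  constructor
  · intro hQ
    refine ⟨hQT, fun Q' hconj => ?_⟩
    obtain ⟨φ, hφ', hr⟩ := hconj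
    have hφ : φ ∈ F.Hom Q := hsub Q hφ'
    have hrec : F.IsReceptive Q := saturated_fc hS F hF hQ
    obtain ⟨ψ, hψ, hrψ⟩ := isConj_symm F ⟨φ, hφ, hr⟩
    obtain ⟨χ, hχ, hχψ⟩ := hrec.2 Q' ψ hψ hrψ
    have hQ'S : Q' ≤ S := hom_le F hψ
    have hle : centralizerIn T Q' ≤ extender S Q' ψ := by
      refine le_trans ?_ (centralizerIn_le_extender Q' ψ)
      exact inf_le_inf_right _ hTS
    have hQ'ext : Q' ≤ extender S Q' ψ := le_extender hQ'S ψ (fun x => hom_apply_mem F hψ x)
    have hres := inclusion_comp_mem F hle hχ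
    have hfin : Finite ↥(centralizerIn T Q) :=
      finite_of_le (le_trans (centralizerIn_le T Q) hTS)
    let f : ↥(centralizerIn T Q') → ↥(centralizerIn T Q) := fun c =>
      ⟨χ ⟨c.1, hle c.2⟩, by
        rw [mem_centralizerIn_iff]
        refine ⟨hT.2 (centralizerIn T Q') (centralizerIn_le T Q') _ hres c, ?_⟩
        intro y hy
        have hy' : y ∈ ψ.range := by rw [hrψ]; exact hy
        obtain ⟨x', rfl⟩ := hy'
        have h1 : χ ⟨x'.1, hQ'ext x'.2⟩ = ψ x' := hχψ x'.1 x'.2 (hQ'ext x'.2)
        rw [← h1, ← map_mul, ← map_mul]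
        congr 1
        apply Subtype.ext
        show (x' : Ω) * c.1 = c.1 * x'
        exact (mem_centralizerIn_iff.mp c.2).2 x'.1 x'.2⟩
    have hf : Function.Injective f := by
      intro c c' h
      have h1 : χ ⟨c.1, hle c.2⟩ = χ ⟨c'.1, hle c'.2⟩ := congrArg Subtype.val h
      have h2 := F.injective_of_mem hχ h1
      apply Subtype.ext
      exact Subtype.mk.inj h2
    exact Nat.card_le_card_of_injective f hf
  · intro hQ
    refine ⟨hQT, fun Q' hconj => ?_⟩
    obtain ⟨φ, hφ', hr⟩ := hconj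
    have hφ : φ ∈ F.Hom Q := hsub Q hφ'
    have hFA := (saturated_fn hS F hF hQ).2
    have hrec := saturated_fn_receptive hS F hF hQ
    have hQ'Q : F.IsConj Q' Q := isConj_symm F ⟨φ, hφ, hr⟩
    obtain ⟨χ, hχ, hχN, -⟩ := exists_normalizer_hom hS F hFA hrec hQ'Q
    have hle : normalizerIn T Q' ≤ normalizerIn S Q' := inf_le_inf_right _ hTS
    have hres := inclusion_comp_mem F hle hχ
    have hfin : Finite ↥(normalizerIn T Q) :=
      finite_of_le (le_trans (normalizerIn_le T Q) hTS)
    let f : ↥(normalizerIn T Q') → ↥(normalizerIn T Q) := fun c =>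
      ⟨χ ⟨c.1, hle c.2⟩, by
        refine ⟨hT.2 (normalizerIn T Q') (normalizerIn_le T Q') _ hres c, ?_⟩
        exact (hχN ⟨c.1, hle c.2⟩).2⟩
    have hf : Function.Injective f := by
      intro c c' h
      have h1 : χ ⟨c.1, hle c.2⟩ = χ ⟨c'.1, hle c'.2⟩ := congrArg Subtype.val h
      have h2 := F.injective_of_mem hχ h1
      apply Subtype.ext
      exact Subtype.mk.inj h2
    exact Nat.card_le_card_of_injective f hf

end Cfsg.Agent.S5341
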