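import Cfsg.Statements.S5342
import Cfsg.Agent.Lib.Helper26.SubConB

set_option autoImplicit false
open Cfsg

namespace Cfsg.Agent.S5342

theorem subnormal_constrained_aux {Ω : Type*} [Group Ω] (p : ℕ) [Fact p.Prime]
    {T S : Subgroup Ω} (E : Cfsg.FusionSystem T) (F : Cfsg.FusionSystem S) (q : ℕ)
    (hE : E.IsSubnormalIn F q) :
    q = p → Finite S → IsPGroup p S → F.IsConstrained p → E.IsConstrained p := by
  induction hE with
  | refl F q => intro _ _ _ hF; exact hF
  | step hED hDF ih =>
    rename_i T U S E D F q
    intro hq hfin hS hF
    subst hq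
    haveI := hfin
    have hUcl : F.StronglyClosed U := hDF.1.2.2.2.1
    have hUS : U ≤ S := hUcl.1
    have hDsat : D.IsSaturated q := hDF.1.1
    have hDsub : D.IsSubsystemOf F := hDF.1.2.2.1
    have hDcon : D.IsConstrained q :=
      Cfsg.Agent.Lib.Helper26.SubCon.constrained_of_subsystem hS F hF hUcl D hDsat hDsub
    have hfinU : Finite U := Finite.of_injective (Subgroup.inclusion hUS) (Subgroup.inclusion_injective hUS)
    exact ih rfl hfinU (hS.to_le hUS) hDcon

/-- Let F be a constrained saturated fusion system over a finite p-group S. Then every subsystem of F that is subnormal in F (reached from F by a finite chain of successive normal subsystems) is constrained. -/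
theorem result {Ω : Type*} [Group Ω] {S : Subgroup Ω} [Finite S] (p : ℕ) [Fact p.Prime] (hS : IsPGroup p S) (F : Cfsg.FusionSystem S) (hF : F.IsConstrained p) {T : Subgroup Ω} (E : Cfsg.FusionSystem T) (hE : E.IsSubnormalIn F p) : E.IsConstrained p := by
  exact subnormal_constrained_aux p E F p hE rfl inferInstance hS hF

end Cfsg.Agent.S5342
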