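import Cfsg.Statements.S5345
import Cfsg.Agent.Lib.Helper27.Basic

set_option autoImplicit false
open Cfsg

namespace Cfsg.Agent.S5345

/-- Let D be a conjugation-invariant generating set of 3-transpositions of a finite group G and T a Sylow 2-subgroup of G. Then the members of D lying in T generate an abelian subgroup, and their number is the width of D (the largest number of pairwise commuting members of D). -/
theorem result {G : Type*} [Group G] [Finite G] {D : Set G} (hD : Cfsg.IsThreeTranspositionGroup D) (T : Sylow 2 G) : IsMulCommutative (Subgroup.closure {d : G | d ∈ D ∧ d ∈ T}) ∧ {d : G | d ∈ D ∧ d ∈ T}.ncard = Cfsg.commutingWidth D := by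
  classical
  obtain ⟨⟨hord, h23⟩, hconj, -⟩ := hD
  haveI : Fact (Nat.Prime 2) := ⟨Nat.prime_two⟩
  have hsq : ∀ d ∈ D, d * d = 1 := by
    intro d hd
    have h := hord d hd
    rw [← pow_two, ← h, pow_orderOf_eq_one]
  -- members of D in a common 2-subgroup commute
  have hcommP : ∀ (P : Subgroup G), IsPGroup 2 P → ∀ d ∈ D, ∀ e ∈ D, d ∈ P → e ∈ P → d * e = e * d := by
    intro P hP d hd e he hdP heP
    have hde2 : (d * e) ^ 2 = 1 := by
      rcases h23 d hd e he with h | h
      · exact h
      · obtain ⟨k, hk⟩ := hP ⟨d * e, P.mul_mem hdP heP⟩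
        have hk' : (d * e) ^ 2 ^ k = 1 := by
          have := congrArg Subtype.val hk
          simpa using this
        have hc : Nat.Coprime (2 ^ k) 3 := Nat.Coprime.pow_left k (by norm_num)
        have := pow_gcd_eq_one.mpr ⟨hk', h⟩
        rw [hc, pow_one] at this
        rw [this, one_pow]
    have hdinv : d⁻¹ = d := inv_eq_of_mul_eq_one_left (hsq d hd)
    have heinv : e⁻¹ = e := inv_eq_of_mul_eq_one_left (hsq e he)
    have h1 : d * e = (d * e)⁻¹ := by
      rw [pow_two] at hde2
      exact eq_inv_of_mul_eq_one_left hde2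
    rw [h1, mul_inv_rev, hdinv, heinv]
  have hA : ∀ a ∈ {d : G | d ∈ D ∧ d ∈ T}, ∀ b ∈ {d : G | d ∈ D ∧ d ∈ T}, a * b = b * a := by
    rintro a ⟨haD, haT⟩ b ⟨hbD, hbT⟩
    exact hcommP T T.isPGroup' a haD b hbD haT hbT
  refine ⟨Cfsg.Agent.Lib.Helper27.closure_isMulCommutative _ hA, ?_⟩
  symm
  apply IsGreatest.csSup_eq
  constructor
  · exact ⟨{d : G | d ∈ D ∧ d ∈ T}, fun d hd => hd.1, Set.toFinite _, fun a ha b hb => hA a ha b hb, rfl⟩
  · rintro n ⟨E, hED, hEfin, hEcomm, rfl⟩
    have hE2 : IsPGroup 2 (Subgroup.closure E) :=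
      Cfsg.Agent.Lib.Helper27.isPGroup_two_closure_involutions E (fun a ha b hb => hEcomm a ha b hb)
        (fun a ha => hsq a (hED ha))
    obtain ⟨T', hT'⟩ := hE2.exists_le_sylow
    obtain ⟨g, hg⟩ := MulAction.exists_smul_eq G T' T
    refine Set.ncard_le_ncard_of_injOn (fun x => g * x * g⁻¹) ?_ ?_ (Set.toFinite _)
    · intro x hx
      refine ⟨hconj g x (hED hx), ?_⟩
      have hxT' : x ∈ T' := hT' (Subgroup.subset_closure hx)
      rw [← hg]
      show g * x * g⁻¹ ∈ ((g • T' : Sylow 2 G) : Subgroup G)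
      rw [Sylow.coe_subgroup_smul]
      exact ⟨x, hxT', rfl⟩
    · intro x _ y _ hxy
      have : g * x * g⁻¹ = g * y * g⁻¹ := hxy
      exact mul_left_cancel (mul_right_cancel this)

end Cfsg.Agent.S5345
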