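import Cfsg.Statements.S5346
import Cfsg.Agent.Lib.Helper12.WidthOne
import Cfsg.Agent.Lib.Helper12.Cores
import Cfsg.Agent.Lib.Helper12.PPrimeP

set_option autoImplicit false
open Cfsg

namespace Cfsg.Agent.S5346

theorem commutingWidth_eq_one_iff {G : Type*} [Group G] [Finite G] {D : Set G} {d : G}
    (hd : d ∈ D) :
    Cfsg.commutingWidth D = 1 ↔ ∀ a ∈ D, ∀ b ∈ D, Commute a b → a = b := by
  unfold Cfsg.commutingWidth
  set T : Set ℕ := {n : ℕ | ∃ E : Set G, E ⊆ D ∧ E.Finite ∧ (∀ a ∈ E, ∀ b ∈ E, Commute a b) ∧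
    E.ncard = n} with hT
  have hbdd : BddAbove T := by
    refine ⟨Nat.card G, ?_⟩
    rintro n ⟨E, -, -, -, rfl⟩
    exact Set.ncard_le_card E
  have h1 : 1 ∈ T := by
    refine ⟨{d}, Set.singleton_subset_iff.mpr hd, Set.finite_singleton d, ?_, Set.ncard_singleton d⟩
    intro a ha b hb
    rw [Set.mem_singleton_iff] at ha hb
    rw [ha, hb]
  constructor
  · intro h a ha b hb hab
    by_contra hne
    have h2 : 2 ∈ T := by
      refine ⟨{a, b}, ?_, Set.toFinite _, ?_, Set.ncard_pair hne⟩
      · intro x hx
        rcases hx with rfl | rfl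
        · exact ha
        · exact hb
      · intro x hx y hy
        rcases hx with rfl | rfl <;> rcases hy with rfl | rfl
        · exact Commute.refl _
        · exact hab
        · exact hab.symm
        · exact Commute.refl _
    have h3 := le_csSup hbdd h2
    omega
  · intro h
    apply le_antisymm
    · apply csSup_le ⟨1, h1⟩
      rintro n ⟨E, hED, hEfin, hEc, rfl⟩
      rw [Set.ncard_le_one hEfin]
      intro a ha b hb
      exact h a (hED ha) b (hED hb) (hEc a ha b hb)
    · exact le_csSup hbdd h1

/-- Let D be a conjugation-invariant generating set of 3-transpositions of a finite group G and d a member of D. Then D has width 1 (no two different members of D commute) if and only if G is the product of the subgroup generated by d with the largest normal 3-subgroup of G. -/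
theorem result {G : Type*} [Group G] [Finite G] {D : Set G} (hD : Cfsg.IsThreeTranspositionGroup D) {d : G} (hd : d ∈ D) : Cfsg.commutingWidth D = 1 ↔ Subgroup.zpowers d ⊔ Cfsg.pCore 3 G = ⊤ := by
  classical
  obtain ⟨⟨hord, h23⟩, hconj, hgen⟩ := hD
  have : Fact (Nat.Prime 3) := ⟨Nat.prime_three⟩
  rw [commutingWidth_eq_one_iff hd]
  constructor
  · intro hw
    obtain ⟨P, hP, hDP⟩ := Cfsg.Agent.Lib.Helper12.exists_sylow_three_of_width_one hord h23 hconj
      hw hd
    have htop : Subgroup.zpowers d ⊔ (P : Subgroup G) = ⊤ := by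
      rw [eq_top_iff, ← hgen, Subgroup.closure_le]
      intro e he
      obtain ⟨x, hxP, rfl⟩ := hDP e he
      rw [sup_comm]
      exact Subgroup.mul_mem_sup hxP (Subgroup.mem_zpowers d)
    have hnorm : (P : Subgroup G).Normal := by
      rw [← Subgroup.normalizer_eq_top_iff, eq_top_iff, ← htop]
      apply sup_le
      · rw [Subgroup.zpowers_le]; exact hP
      · exact Subgroup.le_normalizer
    have hle : (P : Subgroup G) ≤ Cfsg.pCore 3 G :=
      Cfsg.Agent.Lib.Helper12.le_pCore' 3 _ hnorm P.2
    rw [eq_top_iff, ← htop]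
    exact sup_le_sup_left hle _
  · intro htop a ha b hb hab
    set T := Cfsg.pCore 3 G with hT
    have hTn : T.Normal := Cfsg.Agent.Lib.Helper12.pCore_normal'' 3
    have hTp : IsPGroup 3 T := Cfsg.Agent.Lib.Helper12.pCore_isPGroup' 3
    have hdd : d * d = 1 := Cfsg.Agent.Lib.Helper12.mul_self_of_orderOf_two (hord d hd)
    -- an element of `T` of order dividing `2` is trivial
    have htriv : ∀ x ∈ T, x * x = 1 → x = 1 := by
      intro x hx hxx
      obtain ⟨k, hk⟩ := hTp ⟨x, hx⟩
      have hk' : x ^ 3 ^ k = 1 := by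
        have := congrArg Subtype.val hk
        simpa using this
      have h1 : orderOf x ∣ 3 ^ k := orderOf_dvd_of_pow_eq_one hk'
      have h2 : orderOf x ∣ 2 := orderOf_dvd_of_pow_eq_one (by rw [pow_two]; exact hxx)
      have h3 : orderOf x ∣ Nat.gcd (3 ^ k) 2 := Nat.dvd_gcd h1 h2
      have h4 : Nat.Coprime (3 ^ k) 2 := Nat.Coprime.pow_left k (by norm_num)
      rw [h4] at h3
      exact orderOf_eq_one_iff.mp (Nat.dvd_one.mp h3)
    -- every member of `D` is congruent to `d` modulo `T`
    have hcong : ∀ e ∈ D, d⁻¹ * e ∈ T := by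
      intro e he
      have hee : e * e = 1 := Cfsg.Agent.Lib.Helper12.mul_self_of_orderOf_two (hord e he)
      have heT : e ∉ T := by
        intro h
        have h1 := htriv e h hee
        have h2 := hord e he
        rw [h1, orderOf_one] at h2
        omega
      have hmem : e ∈ Subgroup.zpowers d ⊔ T := by rw [htop]; exact Subgroup.mem_top e
      obtain ⟨h, hh, t, ht, rfl⟩ := Subgroup.mem_sup_of_normal_right.mp hmem
      obtain ⟨i, rfl⟩ := Subgroup.mem_zpowers_iff.mp hh
      rcases Int.emod_two_eq_zero_or_one i with hi | hi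
      · exfalso
        apply heT
        have h1 : d ^ i = 1 := by
          obtain ⟨j, rfl⟩ : ∃ j, i = 2 * j := ⟨i / 2, by omega⟩
          rw [zpow_mul, zpow_two, hdd, one_zpow]
        rw [h1, one_mul]
        exact ht
      · have h1 : d ^ i = d := by
          obtain ⟨j, rfl⟩ : ∃ j, i = 2 * j + 1 := ⟨i / 2, by omega⟩
          rw [zpow_add, zpow_mul, zpow_two, hdd, one_zpow, one_mul, zpow_one]
        rw [h1, inv_mul_cancel_left]
        exact ht
    have haa : a * a = 1 := Cfsg.Agent.Lib.Helper12.mul_self_of_orderOf_two (hord a ha)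
    have hbb : b * b = 1 := Cfsg.Agent.Lib.Helper12.mul_self_of_orderOf_two (hord b hb)
    have hai : a⁻¹ = a := inv_eq_of_mul_eq_one_left haa
    have h1 : a⁻¹ * b ∈ T := by
      have h2 : a⁻¹ * b = (d⁻¹ * a)⁻¹ * (d⁻¹ * b) := by group
      rw [h2]
      exact T.mul_mem (T.inv_mem (hcong a ha)) (hcong b hb)
    have h2 : (a⁻¹ * b) * (a⁻¹ * b) = 1 := by
      rw [hai]
      calc a * b * (a * b) = a * (b * a) * b := by group
        _ = a * (a * b) * b := by rw [hab.eq]
        _ = (a * a) * (b * b) := by group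
        _ = 1 := by rw [haa, hbb, one_mul]
    have h3 := htriv _ h1 h2
    rw [hai] at h3
    calc a = a * (a * b) := by rw [h3, mul_one]
      _ = (a * a) * b := by group
      _ = b := by rw [haa, one_mul]

end Cfsg.Agent.S5346
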