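import Cfsg.Statements.S5349
import Cfsg.Agent.Lib.Helper27.ThreeTrans

set_option autoImplicit false
open Cfsg

namespace Cfsg.Agent.S5349

open Cfsg.Agent.Lib.Helper27 Cfsg.Agent.Lib.Helper27.ThreeTrans

/-- Members of `D` congruent modulo `O_2(G)` have the same commuting partners. -/
theorem commute_of_mem_pCore {G : Type*} [Group G] {D : Set G} (hset : IsThreeTranspositionSet D)
    {x y e : G} (hx : x ∈ D) (hy : y ∈ D) (he : e ∈ D) (hq : x⁻¹ * y ∈ Cfsg.pCore 2 G) (h : Commute x e) :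
    Commute y e := by
  by_contra hne
  have hQn : (Cfsg.pCore 2 G).Normal := pCore_normal 2 G
  have hQp : IsPGroup 2 (Cfsg.pCore 2 G) := pCore_isPGroup 2 G
  have h3 := cube_of_not_commute hset hy he hne
  have hx2 := sq_of_mem hset hx
  have he2 := sq_of_mem hset he
  have hxe2 : (x * e) ^ 2 = 1 := by
    rw [h.mul_pow, pow_two, pow_two, hx2, he2, mul_one]
  have hπ : (QuotientGroup.mk' (Cfsg.pCore 2 G)) y = (QuotientGroup.mk' (Cfsg.pCore 2 G)) x := by
    rw [QuotientGroup.mk'_apply, QuotientGroup.mk'_apply, eq_comm, QuotientGroup.eq]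
    exact hq
  have h2 : (y * e) ^ 2 ∈ Cfsg.pCore 2 G := by
    rw [← QuotientGroup.eq_one_iff, ← QuotientGroup.mk'_apply, map_pow, map_mul, hπ, ← map_mul, ← map_pow, hxe2,
      map_one]
  have hmem : y * e ∈ Cfsg.pCore 2 G := by
    have e1 : y * e = ((y * e) ^ 2)⁻¹ := by
      rw [eq_inv_iff_mul_eq_one, ← pow_succ']
      exact h3
    rw [e1]
    exact inv_mem h2
  obtain ⟨n, hn⟩ := hQp ⟨y * e, hmem⟩
  have hn' : (y * e) ^ 2 ^ n = 1 := by
    have := congrArg Subtype.val hn
    simpa using this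
  have hord1 : orderOf (y * e) ∣ 3 := orderOf_dvd_of_pow_eq_one h3
  have hord2 : orderOf (y * e) ∣ 2 ^ n := orderOf_dvd_of_pow_eq_one hn'
  have hcop : Nat.Coprime 3 (2 ^ n) := Nat.Coprime.pow_right n (by norm_num)
  have hone : orderOf (y * e) = 1 := Nat.eq_one_of_dvd_coprimes hcop hord1 hord2
  rw [orderOf_eq_one_iff] at hone
  have hye : y = e := by
    rw [← inv_of_mem hset he]
    exact eq_inv_of_mul_eq_one_left hone
  exact hne (hye ▸ Commute.refl y)

/-- Let D be a conjugacy class of 3-transpositions generating the finite group G, with at least two members, and d a member of D. Then the set of members of D commuting with exactly the same members of D as d coincides with the set of members of D lying in the coset of d modulo the largest normal 2-subgroup of G, and also with the orbit of d under conjugation by that normal 2-subgroup. -/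
theorem result {G : Type*} [Group G] [Finite G] {D : Set G} (hD : Cfsg.IsThreeTranspositionClass D) (hD2 : ∃ a ∈ D, ∃ b ∈ D, a ≠ b) {d : G} (hd : d ∈ D) : {v : G | v ∈ D ∧ ∀ e ∈ D, Commute v e ↔ Commute d e} = {v : G | v ∈ D ∧ d⁻¹ * v ∈ Cfsg.pCore 2 G} ∧ {v : G | v ∈ D ∧ ∀ e ∈ D, Commute v e ↔ Commute d e} = {v : G | ∃ g ∈ Cfsg.pCore 2 G, v = g * d * g⁻¹} := by
  obtain ⟨hset, ⟨d₀, hd₀, hcls⟩, hgen⟩ := hD
  have hconj : ∀ g : G, ∀ x ∈ D, g * x * g⁻¹ ∈ D := by
    intro g x hx
    rw [hcls] at hx ⊢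
    have hx' : IsConj d₀ x := hx
    exact (hx'.trans (isConj_iff.mpr ⟨g, rfl⟩) : IsConj d₀ (g * x * g⁻¹))
  have hQn : (Cfsg.pCore 2 G).Normal := pCore_normal 2 G
  -- some member of `D` does not commute with `d`
  have hexf : ∃ f ∈ D, ¬ Commute d f := by
    by_contra hall
    push Not at hall
    have hle : Subgroup.closure D ≤ Subgroup.centralizer ({d} : Set G) := by
      rw [Subgroup.closure_le]
      intro x hx
      rw [SetLike.mem_coe, Subgroup.mem_centralizer_iff]
      intro h hh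
      rw [Set.mem_singleton_iff] at hh
      subst hh
      exact (hall x hx).eq
    have hcen : ∀ c : G, d * c = c * d := by
      intro c
      have hc : c ∈ Subgroup.closure D := by rw [hgen]; trivial
      exact Subgroup.mem_centralizer_iff.mp (hle hc) d rfl
    have hall' : ∀ x ∈ D, x = d := by
      intro x hx
      have h1 : IsConj d₀ x := by rw [hcls] at hx; exact hx
      have h2 : IsConj d₀ d := by rw [hcls] at hd; exact hd
      obtain ⟨c, hc⟩ := isConj_iff.mp (h2.symm.trans h1)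
      rw [← hc, ← hcen c, mul_inv_cancel_right]
    obtain ⟨a, ha, b, hb, hab⟩ := hD2
    exact hab ((hall' a ha).trans (hall' b hb).symm)
  have hAC : {v : G | v ∈ D ∧ ∀ e ∈ D, Commute v e ↔ Commute d e} ⊆
      {v : G | ∃ g ∈ Cfsg.pCore 2 G, v = g * d * g⁻¹} := by
    rintro v ⟨hvD, hv⟩
    by_cases hne : d = v
    · exact ⟨1, one_mem _, by simp [hne]⟩
    · obtain ⟨f, hf, hdf⟩ := hexf
      have hτ : Tau D d v := ⟨hvD, hv⟩
      have hvf : ¬ Commute v f := fun hh => hdf ((hv f hf).mp hh)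
      have hdv := tau_commute hd hτ
      obtain ⟨φ, -, h01, h12, h23⟩ := Cfsg.Agent.S5344.result hset hd hf hvD hne hdv hdf
        (fun hh => hvf hh.symm)
      have ht : d * v ∈ Cfsg.pCore 2 G := tau_mul_mem_pCore hset hconj hd hτ hne
      refine ⟨f * (d * v) * f⁻¹ * (d * v), mul_mem (hQn.conj_mem _ ht f) ht, ?_⟩
      have key : Equiv.swap (2 : Fin 4) 3 =
          (Equiv.swap 1 2 * (Equiv.swap (0 : Fin 4) 1 * Equiv.swap 2 3) * (Equiv.swap 1 2)⁻¹ *
            (Equiv.swap (0 : Fin 4) 1 * Equiv.swap 2 3)) * Equiv.swap 0 1 *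
          (Equiv.swap 1 2 * (Equiv.swap (0 : Fin 4) 1 * Equiv.swap 2 3) * (Equiv.swap 1 2)⁻¹ *
            (Equiv.swap (0 : Fin 4) 1 * Equiv.swap 2 3))⁻¹ := by
        decide
      have := congrArg φ key
      simp only [map_mul, map_inv, h01, h12, h23] at this
      exact this
  have hCB : {v : G | ∃ g ∈ Cfsg.pCore 2 G, v = g * d * g⁻¹} ⊆
      {v : G | v ∈ D ∧ d⁻¹ * v ∈ Cfsg.pCore 2 G} := by
    rintro v ⟨g, hg, rfl⟩
    refine ⟨hconj g d hd, ?_⟩
    have h1 := hQn.conj_mem g hg d⁻¹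
    rw [inv_inv] at h1
    have h2 := mul_mem h1 (inv_mem hg)
    have e : d⁻¹ * g * d * g⁻¹ = d⁻¹ * (g * d * g⁻¹) := by group
    rw [← e]
    exact h2
  have hBA : {v : G | v ∈ D ∧ d⁻¹ * v ∈ Cfsg.pCore 2 G} ⊆
      {v : G | v ∈ D ∧ ∀ e ∈ D, Commute v e ↔ Commute d e} := by
    rintro v ⟨hvD, hq⟩
    have hq' : v⁻¹ * d ∈ Cfsg.pCore 2 G := by
      have := inv_mem hq
      rwa [mul_inv_rev, inv_inv] at this
    refine ⟨hvD, fun e he => ⟨fun h => ?_, fun h => ?_⟩⟩
    · exact commute_of_mem_pCore hset hvD hd he hq' h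
    · exact commute_of_mem_pCore hset hd hvD he hq h
  exact ⟨Set.Subset.antisymm (hAC.trans hCB) hBA, Set.Subset.antisymm hAC (hCB.trans hBA)⟩

end Cfsg.Agent.S5349
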