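import Cfsg.Statements.S5353
import Cfsg.Agent.S5351
import Cfsg.Agent.S5352
import Cfsg.Agent.Lib.Helper12.FischerFitting2
import Cfsg.Agent.Lib.Helper12.Cores
import Cfsg.Agent.Lib.Helper12.PPrimeP
import Cfsg.Agent.Lib.Helper1.Fitting
import Cfsg.Agent.Lib.Helper27.ThreeTrans

set_option autoImplicit false
open Cfsg

namespace Cfsg.Agent.S5353

section blocks

variable {G : Type*} [Group G]

/-- conjugate of a set -/
def cj (g : G) (S : Set G) : Set G := (fun x => g * x * g⁻¹) '' S

theorem cj_one (S : Set G) : cj 1 S = S := by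
  unfold cj
  simp

theorem cj_mul (g h : G) (S : Set G) : cj (g * h) S = cj g (cj h S) := by
  unfold cj
  rw [Set.image_image]
  congr 1
  ext x
  group

theorem mem_cj {g y : G} {S : Set G} : y ∈ cj g S ↔ g⁻¹ * y * g ∈ S := by
  unfold cj
  constructor
  · rintro ⟨x, hx, rfl⟩
    have : g⁻¹ * (g * x * g⁻¹) * g = x := by group
    rw [this]; exact hx
  · intro h
    exact ⟨g⁻¹ * y * g, h, by group⟩

theorem cj_self_of_sq {a : G} (ha : a * a = 1) (S : Set G) : cj a (cj a S) = S := by
  rw [← cj_mul, ha, cj_one]

/-- the block property for all pairs of conjugates -/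
theorem block_pair {B : Set G}
    (hB : ∀ g : G, (fun x => g * x * g⁻¹) '' B = B ∨ Disjoint ((fun x => g * x * g⁻¹) '' B) B)
    (g h : G) : cj g B = cj h B ∨ Disjoint (cj g B) (cj h B) := by
  rcases hB (h⁻¹ * g) with h1 | h1
  · left
    have h2 : cj (h⁻¹ * g) B = B := h1
    have h3 : cj g B = cj h (cj (h⁻¹ * g) B) := by rw [← cj_mul]; congr 1; group
    rw [h3, h2]
  · right
    have h2 : Disjoint (cj (h⁻¹ * g) B) B := h1
    rw [Set.disjoint_left] at h2 ⊢
    intro y hy1 hy2
    rw [mem_cj] at hy1 hy2
    apply h2 (a := h⁻¹ * y * h) _ hy2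
    rw [mem_cj]
    have e : (h⁻¹ * g)⁻¹ * (h⁻¹ * y * h) * (h⁻¹ * g) = g⁻¹ * y * g := by group
    rw [e]; exact hy1

theorem block_eq_of_mem {B : Set G}
    (hB : ∀ g : G, (fun x => g * x * g⁻¹) '' B = B ∨ Disjoint ((fun x => g * x * g⁻¹) '' B) B)
    {g h y : G} (h1 : y ∈ cj g B) (h2 : y ∈ cj h B) : cj g B = cj h B := by
  rcases block_pair hB g h with h3 | h3
  · exact h3
  · exact absurd h2 (Set.disjoint_left.mp h3 h1)

/-- an element fixing (under conjugation) a member of a block, or lying in it, normalizes it -/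
theorem cj_eq_of_fix {B : Set G}
    (hB : ∀ g : G, (fun x => g * x * g⁻¹) '' B = B ∨ Disjoint ((fun x => g * x * g⁻¹) '' B) B)
    {g x y : G} (hy : y ∈ cj g B) (hxy : x * y * x⁻¹ = y) : cj x (cj g B) = cj g B := by
  rw [← cj_mul]
  apply block_eq_of_mem hB (y := y) _ hy
  rw [cj_mul]
  exact ⟨y, hy, hxy⟩

/-- **Key lemma.** Two members `a, b` of a block `B` of involutions with the braid property act
in the same way on every conjugate of `B`. -/
theorem cj_eq_cj_of_mem_block {B : Set G}
    (hB : ∀ g : G, (fun x => g * x * g⁻¹) '' B = B ∨ Disjoint ((fun x => g * x * g⁻¹) '' B) B)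
    (hsq : ∀ x ∈ B, x * x = 1)
    (hbraid : ∀ g h : G, ∀ x ∈ cj g B, ∀ y ∈ cj h B, x * y ≠ y * x → x * y * x⁻¹ = y * x * y⁻¹)
    {a b : G} (ha : a ∈ B) (hb : b ∈ B) (g : G) : cj a (cj g B) = cj b (cj g B) := by
  have haB : a ∈ cj 1 B := by rw [cj_one]; exact ha
  have hbB : b ∈ cj 1 B := by rw [cj_one]; exact hb
  have hfixa : cj a B = B := by
    have := cj_eq_of_fix hB haB (x := a) (by group)
    rwa [cj_one] at this
  have hfixb : cj b B = B := by
    have := cj_eq_of_fix hB hbB (x := b) (by group)
    rwa [cj_one] at this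
  have haa := hsq a ha
  have hbb := hsq b hb
  -- the asymmetric case
  have main : ∀ a b : G, a ∈ B → b ∈ B → cj a B = B → cj b B = B → a * a = 1 → b * b = 1 →
      cj g B ≠ B → cj a (cj g B) ≠ cj g B → cj a (cj g B) = cj b (cj g B) := by
    intro a b ha hb hfixa hfixb haa hbb hne hna
    have haB : a ∈ cj 1 B := by rw [cj_one]; exact ha
    have hbB : b ∈ cj 1 B := by rw [cj_one]; exact hb
    obtain ⟨c, hc⟩ : (cj g B).Nonempty := ⟨g * a * g⁻¹, a, ha, rfl⟩
    have hac : a * c ≠ c * a := by
      intro h
      apply hna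
      apply cj_eq_of_fix hB hc
      rw [h]; group
    have h1 : a * c * a⁻¹ = c * a * c⁻¹ := hbraid 1 g a haB c hc hac
    have hcB : cj c B ≠ B := by
      intro h
      apply hne
      have h2 : c * a * c⁻¹ ∈ cj c B := ⟨a, ha, rfl⟩
      rw [h] at h2
      have h3 : c * a * c⁻¹ ∈ cj a (cj g B) := ⟨c, hc, h1⟩
      rw [← cj_mul] at h3
      have h4 : cj (a * g) B = cj 1 B := block_eq_of_mem hB h3 (by rw [cj_one]; exact h2)
      rw [cj_one, cj_mul] at h4
      have h5 : cj a (cj a (cj g B)) = cj a B := by rw [h4]
      rw [cj_self_of_sq haa, hfixa] at h5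
      exact h5
    have hcb : c * b ≠ b * c := by
      intro h
      apply hcB
      have := cj_eq_of_fix hB hbB (x := c) (by rw [h]; group)
      rwa [cj_one] at this
    have h2 : b * c * b⁻¹ = c * b * c⁻¹ := hbraid 1 g b hbB c hc (fun h => hcb h.symm)
    have h3 : cj a (cj g B) = cj c B := by
      rw [← cj_mul]
      apply block_eq_of_mem hB (y := c * a * c⁻¹)
      · rw [cj_mul]; exact ⟨c, hc, h1⟩
      · exact ⟨a, ha, rfl⟩
    have h4 : cj b (cj g B) = cj c B := by
      rw [← cj_mul]
      apply block_eq_of_mem hB (y := c * b * c⁻¹)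
      · rw [cj_mul]; exact ⟨c, hc, h2⟩
      · exact ⟨b, hb, rfl⟩
    rw [h3, h4]
  by_cases hne : cj g B = B
  · rw [hne, hfixa, hfixb]
  by_cases hna : cj a (cj g B) = cj g B
  · by_cases hnb : cj b (cj g B) = cj g B
    · rw [hna, hnb]
    · exact (main b a hb ha hfixb hfixa hbb haa hne hnb).symm
  · exact main a b ha hb hfixa hfixb haa hbb hne hna

end blocks

/-- Let D be a conjugacy class of 3-transpositions generating the finite group G, with at least two members, such that the largest normal 2-subgroup and the largest normal 3-subgroup of G are central, and let L be a quasisimple normal subgroup with generalized Fitting subgroup of G equal to L times the centre. If L has index at most 2 then G acts primitively on D by conjugation; and if the commuting graph of D is connected then L has index at most 2. -/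
theorem result {G : Type*} [Group G] [Finite G] {D : Set G} (hD : Cfsg.IsThreeTranspositionClass D) (hD2 : ∃ a ∈ D, ∃ b ∈ D, a ≠ b) (h2 : Cfsg.pCore 2 G ≤ Subgroup.center G) (h3 : Cfsg.pCore 3 G ≤ Subgroup.center G) (L : Subgroup G) [L.Normal] (hL : Cfsg.IsQuasisimple L) (hF : Cfsg.generalizedFittingSubgroup G = L ⊔ Subgroup.center G) : (L.index ≤ 2 → Cfsg.IsPrimitiveUnderConj D) ∧ ((Cfsg.commutingGraph D).Connected → L.index ≤ 2) := by
  classical
  obtain ⟨hpart1, -⟩ := Cfsg.Agent.S5351.result hD hD2
  obtain ⟨L', hL'n, hL'q, hL'F, hL'c⟩ := Cfsg.Agent.S5352.result hD hD2 h2 h3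
  obtain ⟨hTS, ⟨d, hd, hcls⟩, hgen⟩ := hD
  have hLn : L.Normal := inferInstance
  have hconj : ∀ g : G, ∀ e ∈ D, g * e * g⁻¹ ∈ D := by
    intro g e he
    rw [hcls] at he ⊢
    have he' : IsConj d e := he
    show IsConj d (g * e * g⁻¹)
    exact he'.trans (isConj_iff.mpr ⟨g, rfl⟩)
  have hconj2 : ∀ a ∈ D, ∀ b ∈ D, ∃ g : G, g * a * g⁻¹ = b := by
    intro a ha b hb
    rw [hcls] at ha hb
    have ha' : IsConj d a := ha
    have hb' : IsConj d b := hb
    exact isConj_iff.mp (ha'.symm.trans hb')
  have hsq : ∀ e ∈ D, e * e = 1 := fun e he => Cfsg.Agent.Lib.Helper27.ThreeTrans.sq_of_mem hTS he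
  have hinv : ∀ e ∈ D, e⁻¹ = e := fun e he => Cfsg.Agent.Lib.Helper27.ThreeTrans.inv_of_mem hTS he
  have hdd := hsq d hd
  have hdi := hinv d hd
  have hcs : Group.IsSolvable ↥(Subgroup.center G) := by
    apply Group.isSolvable_of_comm
    rintro ⟨a, ha⟩ ⟨b, hb⟩
    apply Subtype.ext
    rw [Subgroup.mem_center_iff] at hb
    show a * b = b * a
    exact hb a
  -- every member of `D` has a non-commuting partner
  have hnc : ∀ a ∈ D, ∃ b ∈ D, ¬ Commute a b := by
    intro a ha
    by_contra hall
    push Not at hall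
    have hle : Subgroup.closure D ≤ Subgroup.centralizer ({a} : Set G) := by
      rw [Subgroup.closure_le]
      intro e he
      rw [SetLike.mem_coe, Subgroup.mem_centralizer_singleton_iff]
      exact (hall e he).eq.symm
    have hcen : ∀ g : G, g * a * g⁻¹ = a := by
      intro g
      have hg : g ∈ Subgroup.centralizer ({a} : Set G) := hle (by rw [hgen]; exact Subgroup.mem_top g)
      rw [Subgroup.mem_centralizer_singleton_iff] at hg
      rw [hg, mul_inv_cancel_right]
    obtain ⟨x, hx, y, hy, hxy⟩ := hD2
    obtain ⟨g1, hg1⟩ := hconj2 a ha x hx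
    obtain ⟨g2, hg2⟩ := hconj2 a ha y hy
    exact hxy (by rw [← hg1, ← hg2, hcen, hcen])
  -- `F(G) ≤ Z(G)`
  have hFZ : Cfsg.fittingSubgroup G ≤ Subgroup.center G := by
    rw [Cfsg.Agent.Lib.Helper1.fittingSubgroup_eq_iSup_pCore]
    apply iSup_le
    intro p
    have hp := p.2
    by_cases hp2 : (p : ℕ) = 2
    · rw [hp2]; exact h2
    by_cases hp3 : (p : ℕ) = 3
    · rw [hp3]; exact h3
    · apply hpart1 _ hp
      have := hp.two_le
      omega
  -- `C_G(L) ≤ Z(G)` for a normal subgroup `L` with `F*(G) = L Z(G)`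
  have hCL : ∀ L₀ : Subgroup G, L₀.Normal → Cfsg.generalizedFittingSubgroup G = L₀ ⊔ Subgroup.center G →
      Subgroup.centralizer (L₀ : Set G) ≤ Subgroup.center G := by
    intro L₀ hL₀n hF₀ x hx
    have := hL₀n
    have hxF : x ∈ Cfsg.generalizedFittingSubgroup G := by
      apply Cfsg.Agent.Lib.Helper9.centralizer_generalizedFittingSubgroup_le
      rw [Subgroup.mem_centralizer_iff]
      intro y hy
      rw [SetLike.mem_coe, hF₀] at hy
      obtain ⟨l, hl, z, hz, rfl⟩ := Subgroup.mem_sup_of_normal_left.mp hy
      rw [Subgroup.mem_centralizer_iff] at hx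
      rw [Subgroup.mem_center_iff] at hz
      calc l * z * x = l * (z * x) := by group
        _ = l * (x * z) := by rw [← hz x]
        _ = (l * x) * z := by group
        _ = (x * l) * z := by rw [hx l hl]
        _ = x * (l * z) := by group
    rw [hF₀] at hxF
    obtain ⟨l, hl, z, hz, rfl⟩ := Subgroup.mem_sup_of_normal_left.mp hxF
    have hlc : l ∈ Subgroup.centralizer (L₀ : Set G) := by
      have h1 : l = (l * z) * z⁻¹ := by group
      rw [h1]
      refine mul_mem hx (inv_mem ?_)
      exact Subgroup.center_le_centralizer _ hz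
    set N0 : Subgroup G := L₀ ⊓ Subgroup.centralizer (L₀ : Set G) with hN0
    have hN0n : N0.Normal := inferInstance
    have hN0c : N0 ≤ Subgroup.centralizer (N0 : Set G) := by
      intro y hy
      exact Subgroup.centralizer_le (inf_le_left : N0 ≤ L₀) hy.2
    have hN0F : N0 ≤ Cfsg.fittingSubgroup G :=
      Cfsg.Agent.Lib.Helper1.le_fittingSubgroup hN0n
        (Cfsg.Agent.Lib.Helper9.isNilpotent_of_le_centralizer hN0c)
    have hlZ : l ∈ Subgroup.center G := hFZ (hN0F ⟨hl, hlc⟩)
    exact mul_mem hlZ hz
  have hLc : Cfsg.IsComponent L := ⟨hLn.isSubnormal, hL⟩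
  have hL'comp : Cfsg.IsComponent L' := ⟨hL'n.isSubnormal, hL'q⟩
  -- a normal subgroup contains `L` or is central
  have hNK : ∀ K : Subgroup G, K.Normal → L ≤ K ∨ K ≤ Subgroup.center G := by
    intro K hK
    rcases Cfsg.Agent.Lib.Helper9.component_le_or_commutator_eq_bot L K hLc hK.isSubnormal with h | h
    · exact Or.inl h
    · right
      rw [Subgroup.commutator_comm, Subgroup.commutator_eq_bot_iff_le_centralizer] at h
      exact h.trans (hCL L hLn hF)
  -- `L' = L`
  have hLL' : L' = L := by
    apply le_antisymm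
    · rcases Cfsg.Agent.Lib.Helper9.component_le_or_commutator_eq_bot L' L hL'comp hLn.isSubnormal
        with h | h
      · exact h
      · exfalso
        rw [Subgroup.commutator_eq_bot_iff_le_centralizer] at h
        exact Cfsg.Agent.Lib.Helper9.component_not_le_of_isSolvable hL'comp hcs
          (h.trans (hCL L hLn hF))
    · rcases Cfsg.Agent.Lib.Helper9.component_le_or_commutator_eq_bot L L' hLc hL'n.isSubnormal
        with h | h
      · exact h
      · exfalso
        rw [Subgroup.commutator_eq_bot_iff_le_centralizer] at h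
        exact Cfsg.Agent.Lib.Helper9.component_not_le_of_isSolvable hLc hcs
          (h.trans (hCL L' hL'n hL'F))
  rw [hLL'] at hL'c
  refine ⟨?_, ?_⟩
  · -- primitivity
    intro hidx
    refine ⟨hconj2, hD2, ?_⟩
    intro B hBD hB
    by_contra hcon
    push Not at hcon
    obtain ⟨hBs, hBne⟩ := hcon
    obtain ⟨a, ha, b, hb, hab⟩ := hBs
    have haD := hBD ha
    have hbD := hBD hb
    have haa := hsq a haD
    have hbb := hsq b hbD
    have hai := hinv a haD
    have hbi := hinv b hbD
    -- the stabilizer of `B`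
    let M : Subgroup G :=
      { carrier := {g | cj g B = B}
        mul_mem' := by
          intro g h hg hh
          show cj (g * h) B = B
          rw [cj_mul, (hh : cj h B = B), (hg : cj g B = B)]
        one_mem' := cj_one B
        inv_mem' := by
          intro g hg
          show cj g⁻¹ B = B
          have h1 : cj g⁻¹ (cj g B) = B := by rw [← cj_mul, inv_mul_cancel, cj_one]
          rw [(hg : cj g B = B)] at h1
          exact h1 }
    have hM : ∀ g : G, g ∈ M ↔ cj g B = B := fun g => Iff.rfl
    have hcjD : ∀ g : G, cj g B ⊆ D := by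
      rintro g _ ⟨x, hx, rfl⟩
      exact hconj g x (hBD hx)
    have hbraid : ∀ g h : G, ∀ x ∈ cj g B, ∀ y ∈ cj h B, x * y ≠ y * x →
        x * y * x⁻¹ = y * x * y⁻¹ := by
      intro g h x hx y hy hxy
      have hxD := hcjD g hx
      have hyD := hcjD h hy
      have h3 : (x * y) ^ 3 = 1 :=
        Cfsg.Agent.Lib.Helper27.ThreeTrans.cube_of_not_commute hTS hxD hyD hxy
      have h4 : x * y * (x * y) * (x * y) = 1 := by rw [← h3]; simp [pow_succ]
      rw [hinv x hxD, hinv y hyD]
      calc x * y * x = (x * y * (x * y) * (x * y)) * y⁻¹ * x⁻¹ * y⁻¹ := by group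
        _ = y * x * y := by rw [h4, one_mul, hinv x hxD, hinv y hyD]
    have hkey : ∀ g : G, cj a (cj g B) = cj b (cj g B) :=
      fun g => cj_eq_cj_of_mem_block hB (fun x hx => hsq x (hBD hx)) hbraid ha hb g
    have habK : a * b ∈ M.normalCore := by
      intro h
      show cj (h * (a * b) * h⁻¹) B = B
      rw [cj_mul, cj_mul, cj_mul, ← hkey, cj_self_of_sq haa, ← cj_mul, mul_inv_cancel, cj_one]
    rcases hNK M.normalCore inferInstance with hLK | hKZ
    · -- `L ≤ M`, so `M = ⊤` and `B = D`
      apply hBne
      have hLM : L ≤ M := hLK.trans (Subgroup.normalCore_le M)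
      have haM : a ∈ M := by
        rw [hM]
        have := cj_eq_of_fix hB (g := 1) (x := a) (y := a) (by rw [cj_one]; exact ha) (by group)
        rwa [cj_one] at this
      have hMtop : M = ⊤ := by
        by_cases haL : a ∈ L
        · have hDL : D ⊆ L := by
            intro e he
            obtain ⟨g, rfl⟩ := hconj2 a haD e he
            exact hLn.conj_mem a haL g
          rw [eq_top_iff, ← hgen, Subgroup.closure_le]
          exact fun e he => hLM (hDL he)
        · have hsup : L ⊔ Subgroup.zpowers a = ⊤ := by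
            rw [← Subgroup.index_eq_one]
            have h1 := Subgroup.relIndex_mul_index (le_sup_left : L ≤ L ⊔ Subgroup.zpowers a)
            have h2 : L.relIndex (L ⊔ Subgroup.zpowers a) ≠ 1 := by
              rw [Ne, Subgroup.relIndex_eq_one]
              intro h
              exact haL (h ((le_sup_right : Subgroup.zpowers a ≤ _) (Subgroup.mem_zpowers a)))
            have hL0 : L.index ≠ 0 := Subgroup.index_ne_zero_of_finite
            set r := L.relIndex (L ⊔ Subgroup.zpowers a)
            set t := (L ⊔ Subgroup.zpowers a).index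
            have h5 : r * t ≤ 2 := by rw [h1]; exact hidx
            have h5' : r * t ≠ 0 := by rw [h1]; exact hL0
            have h3 : r ≠ 0 := fun h => h5' (by rw [h, zero_mul])
            have h4 : t ≠ 0 := fun h => h5' (by rw [h, mul_zero])
            have h6 : 2 ≤ r := by omega
            have h7 : 1 ≤ t := by omega
            nlinarith
          rw [eq_top_iff, ← hsup]
          exact sup_le hLM (by rw [Subgroup.zpowers_le]; exact haM)
      apply Set.Subset.antisymm hBD
      intro e he
      obtain ⟨g, rfl⟩ := hconj2 a haD e he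
      have hg : g ∈ M := by rw [hMtop]; exact Subgroup.mem_top g
      rw [hM] at hg
      rw [← hg]
      exact ⟨a, ha, rfl⟩
    · -- `a b` is central: a product of order `6` appears
      have hz : a * b ∈ Subgroup.center G := hKZ habK
      rw [Subgroup.mem_center_iff] at hz
      have hcomm : a * b = b * a := by
        have h1 := hz a
        calc a * b = a⁻¹ * (a * (a * b)) := by group
          _ = a⁻¹ * (a * b * a) := by rw [h1]
          _ = b * a := by group
      have hz2 : (a * b) * (a * b) = 1 := by
        calc a * b * (a * b) = a * (b * a) * b := by group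
          _ = a * (a * b) * b := by rw [hcomm]
          _ = (a * a) * (b * b) := by group
          _ = 1 := by rw [haa, hbb, one_mul]
      have hz1 : a * b ≠ 1 := by
        intro h
        apply hab
        have := eq_inv_of_mul_eq_one_left h
        rw [hbi] at this
        exact this
      obtain ⟨c, hcD, hac⟩ := hnc a haD
      have h3 : (a * c) ^ 3 = 1 :=
        Cfsg.Agent.Lib.Helper27.ThreeTrans.cube_of_not_commute hTS haD hcD hac
      have hbc : b * c = (a * b) * (a * c) := by
        calc b * c = (a * a) * b * c := by rw [haa, one_mul]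
          _ = a * (a * b) * c := by group
          _ = (a * b) * a * c := by rw [hz a]
          _ = (a * b) * (a * c) := by group
      have hcm : Commute (a * b) (a * c) := (hz (a * c)).symm
      have h := hTS.2 b hbD c hcD
      rw [hbc, hcm.mul_pow, hcm.mul_pow] at h
      rcases h with h | h
      · rw [pow_two (a * b), hz2, one_mul] at h
        have h4 : a * c = 1 := Cfsg.Agent.S5351.eq_one_of_pow_coprime h h3 (by norm_num)
        apply hac
        have h5 : c = a := by
          have := eq_inv_of_mul_eq_one_right h4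
          rw [hai] at this
          exact this
        rw [h5]
      · rw [h3, mul_one] at h
        have h6 : (a * b) ^ 2 = 1 := by rw [pow_two]; exact hz2
        exact hz1 (Cfsg.Agent.S5351.eq_one_of_pow_coprime h6 h (by norm_num))
  · -- connectedness forces index at most two
    intro hconn
    rcases hL'c with htop | hcl
    · rw [htop, Subgroup.index_top]; norm_num
    have hstep : ∀ x y : D, (Cfsg.commutingGraph D).Adj x y → (x : G)⁻¹ * (y : G) ∈ L := by
      intro x y hxy
      unfold Cfsg.commutingGraph at hxy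
      rw [SimpleGraph.fromRel_adj] at hxy
      have hc : Commute (x : G) (y : G) := by
        rcases hxy.2 with h | h
        · exact h
        · exact h.symm
      apply hcl _ x.2 _ y.2
      have e1 : (x : G) * y * (x : G)⁻¹ * (y : G)⁻¹ = 1 := by
        rw [hc.eq]; group
      rw [e1]; exact one_mem _
    have hreach : ∀ x y : D, Relation.ReflTransGen (Cfsg.commutingGraph D).Adj x y →
        (x : G)⁻¹ * (y : G) ∈ L := by
      intro x y hxy
      induction hxy with
      | refl => rw [inv_mul_cancel]; exact one_mem _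
      | @tail y z _ hyz ih =>
        have h1 := hstep y z hyz
        have e1 : (x : G)⁻¹ * (z : G) = ((x : G)⁻¹ * (y : G)) * ((y : G)⁻¹ * (z : G)) := by group
        rw [e1]; exact mul_mem ih h1
    have hDL : ∀ e ∈ D, d⁻¹ * e ∈ L := by
      intro e he
      have h1 := hconn.preconnected ⟨d, hd⟩ ⟨e, he⟩
      rw [SimpleGraph.reachable_iff_reflTransGen] at h1
      exact hreach _ _ h1
    have hsup : L ⊔ Subgroup.zpowers d = ⊤ := by
      rw [eq_top_iff, ← hgen, Subgroup.closure_le]
      intro e he
      have e1 : e = d * (d⁻¹ * e) := by group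
      rw [SetLike.mem_coe, e1, sup_comm]
      exact Subgroup.mul_mem_sup (Subgroup.mem_zpowers d) (hDL e he)
    rw [Subgroup.index_eq_card]
    let f : Subgroup.zpowers d → G ⧸ L := fun z => QuotientGroup.mk (z : G)
    have hf : Function.Surjective f := by
      intro y
      induction y using QuotientGroup.induction_on with
      | H g =>
        have hg : g ∈ L ⊔ Subgroup.zpowers d := by rw [hsup]; exact Subgroup.mem_top g
        obtain ⟨l, hl, z, hz, rfl⟩ := Subgroup.mem_sup_of_normal_left.mp hg
        refine ⟨⟨z, hz⟩, ?_⟩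
        show (QuotientGroup.mk z : G ⧸ L) = QuotientGroup.mk (l * z)
        rw [QuotientGroup.eq]
        have e1 : z⁻¹ * (l * z) = z⁻¹ * l * z⁻¹⁻¹ := by group
        rw [e1]
        exact hLn.conj_mem l hl z⁻¹
    have h1 := Nat.card_le_card_of_surjective f hf
    have h2 : Nat.card (Subgroup.zpowers d) = 2 := by
      rw [Nat.card_zpowers]; exact hTS.1 d hd
    omega

end Cfsg.Agent.S5353
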