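import Cfsg.Statements.S5361
import Cfsg.Agent.S5351
import Cfsg.Agent.S5352
import Cfsg.Agent.S5353
import Cfsg.Agent.Lib.Helper12.FischerFitting2
import Cfsg.Agent.Lib.Helper12.Cores
import Cfsg.Agent.Lib.Helper12.PPrimeP
import Cfsg.Agent.Lib.Helper1.Fitting
import Cfsg.Agent.Lib.Helper27.ThreeTrans

set_option autoImplicit false
open Cfsg
open scoped commutatorElement

namespace Cfsg.Agent.S5361

section aux

variable {G : Type*} [Group G]

/-- the orbit of `d` under a normal subgroup is a block for conjugation -/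
theorem orbit_block (N : Subgroup G) [hN : N.Normal] (d : G) (g : G) :
    (fun x => g * x * g⁻¹) '' {y : G | ∃ n ∈ N, y = n * d * n⁻¹} = {y : G | ∃ n ∈ N, y = n * d * n⁻¹} ∨
      Disjoint ((fun x => g * x * g⁻¹) '' {y : G | ∃ n ∈ N, y = n * d * n⁻¹})
        {y : G | ∃ n ∈ N, y = n * d * n⁻¹} := by
  by_cases hdisj : Disjoint ((fun x => g * x * g⁻¹) '' {y : G | ∃ n ∈ N, y = n * d * n⁻¹})
      {y : G | ∃ n ∈ N, y = n * d * n⁻¹}
  · exact Or.inr hdisj
  left
  rw [Set.not_disjoint_iff] at hdisj
  obtain ⟨y, ⟨_, ⟨n2, hn2, rfl⟩, hy2⟩, ⟨n1, hn1, hy1⟩⟩ := hdisj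
  -- `g (n2 d n2⁻¹) g⁻¹ = n1 d n1⁻¹`
  have hy : g * (n2 * d * n2⁻¹) * g⁻¹ = n1 * d * n1⁻¹ := hy2.trans hy1
  apply Set.Subset.antisymm
  · rintro _ ⟨_, ⟨n, hn, rfl⟩, rfl⟩
    refine ⟨(g * (n * n2⁻¹) * g⁻¹) * n1, mul_mem (hN.conj_mem _ (mul_mem hn (inv_mem hn2)) g) hn1, ?_⟩
    calc g * (n * d * n⁻¹) * g⁻¹
        = (g * (n * n2⁻¹) * g⁻¹) * (g * (n2 * d * n2⁻¹) * g⁻¹) * (g * (n * n2⁻¹) * g⁻¹)⁻¹ := by
          group
      _ = (g * (n * n2⁻¹) * g⁻¹) * (n1 * d * n1⁻¹) * (g * (n * n2⁻¹) * g⁻¹)⁻¹ := by rw [hy]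
      _ = (g * (n * n2⁻¹) * g⁻¹) * n1 * d * ((g * (n * n2⁻¹) * g⁻¹) * n1)⁻¹ := by group
  · rintro _ ⟨n, hn, rfl⟩
    have hm : g⁻¹ * (n * n1⁻¹) * g ∈ N := by
      have := hN.conj_mem _ (mul_mem hn (inv_mem hn1)) g⁻¹
      rwa [inv_inv] at this
    refine ⟨(g⁻¹ * (n * n1⁻¹) * g * n2) * d * (g⁻¹ * (n * n1⁻¹) * g * n2)⁻¹,
      ⟨_, mul_mem hm hn2, rfl⟩, ?_⟩
    show g * ((g⁻¹ * (n * n1⁻¹) * g * n2) * d * (g⁻¹ * (n * n1⁻¹) * g * n2)⁻¹) * g⁻¹ = n * d * n⁻¹
    calc g * ((g⁻¹ * (n * n1⁻¹) * g * n2) * d * (g⁻¹ * (n * n1⁻¹) * g * n2)⁻¹) * g⁻¹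
        = (n * n1⁻¹) * (g * (n2 * d * n2⁻¹) * g⁻¹) * (n * n1⁻¹)⁻¹ := by group
      _ = (n * n1⁻¹) * (n1 * d * n1⁻¹) * (n * n1⁻¹)⁻¹ := by rw [hy]
      _ = n * d * n⁻¹ := by group

/-- the commuting relation on `D`, as a relation on `G` -/
def CR (D : Set G) (x y : G) : Prop := x ∈ D ∧ y ∈ D ∧ x ≠ y ∧ Commute x y

theorem CR_symm {D : Set G} {x y : G} (h : CR D x y) : CR D y x :=
  ⟨h.2.1, h.1, h.2.2.1.symm, h.2.2.2.symm⟩

theorem CR_conj {D : Set G} (hconj : ∀ g : G, ∀ e ∈ D, g * e * g⁻¹ ∈ D) {x y : G} (h : CR D x y)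
    (g : G) : CR D (g * x * g⁻¹) (g * y * g⁻¹) := by
  refine ⟨hconj g x h.1, hconj g y h.2.1, ?_, (Commute.conj_iff g).mpr h.2.2.2⟩
  intro he
  apply h.2.2.1
  have := congrArg (fun t => g⁻¹ * t * g) he
  simpa [mul_assoc] using this

theorem RTG_symm {D : Set G} {x y : G} (h : Relation.ReflTransGen (CR D) x y) :
    Relation.ReflTransGen (CR D) y x := by
  induction h with
  | refl => exact Relation.ReflTransGen.refl
  | tail _ hyz ih => exact Relation.ReflTransGen.head (CR_symm hyz) ih

theorem RTG_conj {D : Set G} (hconj : ∀ g : G, ∀ e ∈ D, g * e * g⁻¹ ∈ D) {x y : G}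
    (h : Relation.ReflTransGen (CR D) x y) (g : G) :
    Relation.ReflTransGen (CR D) (g * x * g⁻¹) (g * y * g⁻¹) := by
  induction h with
  | refl => exact Relation.ReflTransGen.refl
  | tail _ hyz ih => exact Relation.ReflTransGen.tail ih (CR_conj hconj hyz g)

theorem RTG_mem {D : Set G} {x y : G} (hx : x ∈ D) (h : Relation.ReflTransGen (CR D) x y) :
    y ∈ D := by
  induction h with
  | refl => exact hx
  | tail _ hyz _ => exact hyz.2.1

theorem RTG_reachable {D : Set G} {x y : G} (hx : x ∈ D)
    (h : Relation.ReflTransGen (CR D) x y) :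
    ∀ hy : y ∈ D, (Cfsg.commutingGraph D).Reachable ⟨x, hx⟩ ⟨y, hy⟩ := by
  induction h with
  | refl => intro hy; exact SimpleGraph.Reachable.refl _
  | @tail y z hxy hyz ih =>
    intro hz
    have hyD : y ∈ D := hyz.1
    refine (ih hyD).trans (SimpleGraph.Adj.reachable ?_)
    unfold Cfsg.commutingGraph
    rw [SimpleGraph.fromRel_adj]
    refine ⟨fun h => hyz.2.2.1 (congrArg Subtype.val h), Or.inl hyz.2.2.2⟩

/-- the connected component of `d` in the commuting graph is a block -/
theorem component_block {D : Set G} (hconj : ∀ g : G, ∀ e ∈ D, g * e * g⁻¹ ∈ D) (d : G) (g : G) :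
    (fun x => g * x * g⁻¹) '' {y : G | Relation.ReflTransGen (CR D) d y} =
        {y : G | Relation.ReflTransGen (CR D) d y} ∨
      Disjoint ((fun x => g * x * g⁻¹) '' {y : G | Relation.ReflTransGen (CR D) d y})
        {y : G | Relation.ReflTransGen (CR D) d y} := by
  by_cases hdisj : Disjoint ((fun x => g * x * g⁻¹) '' {y : G | Relation.ReflTransGen (CR D) d y})
      {y : G | Relation.ReflTransGen (CR D) d y}
  · exact Or.inr hdisj
  left
  rw [Set.not_disjoint_iff] at hdisj
  obtain ⟨y, ⟨x, hx, rfl⟩, hy⟩ := hdisj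
  have hx' : Relation.ReflTransGen (CR D) d x := hx
  have hy' : Relation.ReflTransGen (CR D) d (g * x * g⁻¹) := hy
  -- `d` and `g d g⁻¹` are connected
  have h1 : Relation.ReflTransGen (CR D) (g * d * g⁻¹) (g * x * g⁻¹) := RTG_conj hconj hx' g
  have h2 : Relation.ReflTransGen (CR D) d (g * d * g⁻¹) := hy'.trans (RTG_symm h1)
  apply Set.Subset.antisymm
  · rintro _ ⟨z, hz, rfl⟩
    exact h2.trans (RTG_conj hconj hz g)
  · intro z hz
    refine ⟨g⁻¹ * z * g, ?_, by group⟩
    have h3 : Relation.ReflTransGen (CR D) (g * d * g⁻¹) z := (RTG_symm h2).trans hz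
    have h4 := RTG_conj hconj h3 g⁻¹
    have e1 : g⁻¹ * (g * d * g⁻¹) * g⁻¹⁻¹ = d := by group
    have e2 : g⁻¹ * z * g⁻¹⁻¹ = g⁻¹ * z * g := by group
    rw [e1, e2] at h4
    exact h4

end aux

/-- Let D be a conjugacy class of 3-transpositions generating the finite group G, and suppose the centre of G is trivial and some two different members of D commute. Then the following are equivalent: (1) the commutator subgroup of G is simple (possibly of prime order); (2) G acts primitively on D by conjugation; (3) the largest normal 2-subgroup and the largest normal 3-subgroup of G are trivial and the commuting graph of D is connected. -/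
theorem result {G : Type*} [Group G] [Finite G] {D : Set G} (hD : Cfsg.IsThreeTranspositionClass D) (hZ : Subgroup.center G = ⊥) (hw : ∃ a ∈ D, ∃ b ∈ D, a ≠ b ∧ Commute a b) : (IsSimpleGroup (commutator G) ↔ Cfsg.IsPrimitiveUnderConj D) ∧ (Cfsg.IsPrimitiveUnderConj D ↔ (Cfsg.pCore 2 G = ⊥ ∧ Cfsg.pCore 3 G = ⊥ ∧ (Cfsg.commutingGraph D).Connected)) := by
  classical
  have hD0 := hD
  obtain ⟨hTS, ⟨d, hd, hcls⟩, hgen⟩ := hD
  have : Fact (Nat.Prime 2) := ⟨Nat.prime_two⟩
  have : Fact (Nat.Prime 3) := ⟨Nat.prime_three⟩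
  have hD2 : ∃ a ∈ D, ∃ b ∈ D, a ≠ b := by
    obtain ⟨a, ha, b, hb, hab, -⟩ := hw
    exact ⟨a, ha, b, hb, hab⟩
  obtain ⟨hpart1, -⟩ := Cfsg.Agent.S5351.result hD0 hD2
  have hconj : ∀ g : G, ∀ e ∈ D, g * e * g⁻¹ ∈ D := by
    intro g e he
    rw [hcls] at he ⊢
    have he' : IsConj d e := he
    show IsConj d (g * e * g⁻¹)
    exact he'.trans (isConj_iff.mpr ⟨g, rfl⟩)
  have hconj2 : ∀ a ∈ D, ∀ b ∈ D, ∃ g : G, g * a * g⁻¹ = b := by
    intro a ha b hb
    rw [hcls] at ha hb
    have ha' : IsConj d a := ha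
    have hb' : IsConj d b := hb
    exact isConj_iff.mp (ha'.symm.trans hb')
  have hsq : ∀ e ∈ D, e * e = 1 := fun e he => Cfsg.Agent.Lib.Helper27.ThreeTrans.sq_of_mem hTS he
  have hinv : ∀ e ∈ D, e⁻¹ = e := fun e he => Cfsg.Agent.Lib.Helper27.ThreeTrans.inv_of_mem hTS he
  have hdd := hsq d hd
  have hdi := hinv d hd
  -- a normal subgroup centralized by `d` is trivial
  have hP0 : ∀ N : Subgroup G, N.Normal → (∀ x ∈ N, Commute d x) → N = ⊥ := by
    intro N hN hc
    rw [eq_bot_iff, ← hZ]
    intro x hx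
    rw [Subgroup.mem_center_iff]
    have hle : Subgroup.closure D ≤ Subgroup.centralizer ({x} : Set G) := by
      rw [Subgroup.closure_le]
      intro f hf
      rw [SetLike.mem_coe, Subgroup.mem_centralizer_singleton_iff]
      obtain ⟨g, rfl⟩ := hconj2 d hd f hf
      have hx' : g⁻¹ * x * g ∈ N := by
        have := hN.conj_mem x hx g⁻¹
        rwa [inv_inv] at this
      have h1 := (hc _ hx').eq
      calc g * d * g⁻¹ * x = g * (d * (g⁻¹ * x * g)) * g⁻¹ := by group
        _ = g * ((g⁻¹ * x * g) * d) * g⁻¹ := by rw [h1]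
        _ = x * (g * d * g⁻¹) := by group
    intro g
    have hg : g ∈ Subgroup.centralizer ({x} : Set G) := hle (by rw [hgen]; exact Subgroup.mem_top g)
    rw [Subgroup.mem_centralizer_singleton_iff] at hg
    exact hg
  -- every member of `D` has a non-commuting partner
  have hnc : ∃ c ∈ D, ¬ Commute d c := by
    by_contra hall
    push Not at hall
    have hle : Subgroup.closure D ≤ Subgroup.centralizer ({d} : Set G) := by
      rw [Subgroup.closure_le]
      intro e he
      rw [SetLike.mem_coe, Subgroup.mem_centralizer_singleton_iff]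
      exact (hall e he).eq.symm
    have hcen : ∀ g : G, g * d * g⁻¹ = d := by
      intro g
      have hg : g ∈ Subgroup.centralizer ({d} : Set G) := hle (by rw [hgen]; exact Subgroup.mem_top g)
      rw [Subgroup.mem_centralizer_singleton_iff] at hg
      rw [hg, mul_inv_cancel_right]
    obtain ⟨x, hx, y, hy, hxy⟩ := hD2
    obtain ⟨g1, hg1⟩ := hconj2 d hd x hx
    obtain ⟨g2, hg2⟩ := hconj2 d hd y hy
    exact hxy (by rw [← hg1, ← hg2, hcen, hcen])
  -- a normal subgroup whose orbit of `d` is all of `D` contains all quotients `d⁻¹ e`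
  have horb : ∀ N : Subgroup G, N.Normal → {y : G | ∃ n ∈ N, y = n * d * n⁻¹} = D →
      ∀ e ∈ D, d⁻¹ * e ∈ N := by
    intro N hN hBD e he
    rw [← hBD] at he
    obtain ⟨n, hn, rfl⟩ := he
    have e1 : d⁻¹ * (n * d * n⁻¹) = (d⁻¹ * n * d⁻¹⁻¹) * n⁻¹ := by group
    rw [e1]
    exact mul_mem (hN.conj_mem n hn d⁻¹) (inv_mem hn)
  -- the index computation
  have hindex : ∀ N : Subgroup G, N.Normal → (∀ e ∈ D, d⁻¹ * e ∈ N) → N.index ≤ 2 := by
    intro N hN hDN
    have hsup : N ⊔ Subgroup.zpowers d = ⊤ := by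
      rw [eq_top_iff, ← hgen, Subgroup.closure_le]
      intro e he
      have e1 : e = d * (d⁻¹ * e) := by group
      rw [SetLike.mem_coe, e1, sup_comm]
      exact Subgroup.mul_mem_sup (Subgroup.mem_zpowers d) (hDN e he)
    rw [Subgroup.index_eq_card]
    let f : Subgroup.zpowers d → G ⧸ N := fun z => QuotientGroup.mk (z : G)
    have hf : Function.Surjective f := by
      intro y
      induction y using QuotientGroup.induction_on with
      | H g =>
        have hg : g ∈ N ⊔ Subgroup.zpowers d := by rw [hsup]; exact Subgroup.mem_top g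
        obtain ⟨l, hl, z, hz, rfl⟩ := Subgroup.mem_sup_of_normal_left.mp hg
        refine ⟨⟨z, hz⟩, ?_⟩
        show (QuotientGroup.mk z : G ⧸ N) = QuotientGroup.mk (l * z)
        rw [QuotientGroup.eq]
        have e1 : z⁻¹ * (l * z) = z⁻¹ * l * z⁻¹⁻¹ := by group
        rw [e1]
        exact hN.conj_mem l hl z⁻¹
    have h1 := Nat.card_le_card_of_surjective f hf
    have h2 : Nat.card (Subgroup.zpowers d) = 2 := by
      rw [Nat.card_zpowers]; exact hTS.1 d hd
    omega
  -- (A) primitive implies the three conditions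
  have hA : Cfsg.IsPrimitiveUnderConj D →
      (Cfsg.pCore 2 G = ⊥ ∧ Cfsg.pCore 3 G = ⊥ ∧ (Cfsg.commutingGraph D).Connected) := by
    rintro ⟨-, -, hblk⟩
    have horbit : ∀ N : Subgroup G, N.Normal →
        N = ⊥ ∨ {y : G | ∃ n ∈ N, y = n * d * n⁻¹} = D := by
      intro N hN
      have hsub : {y : G | ∃ n ∈ N, y = n * d * n⁻¹} ⊆ D := by
        rintro _ ⟨n, -, rfl⟩
        exact hconj n d hd
      have := hN
      rcases hblk _ hsub (orbit_block N d) with h | h
      · left
        apply hP0 N hN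
        intro x hx
        have h1 : x * d * x⁻¹ = d :=
          h ⟨x, hx, rfl⟩ ⟨1, one_mem _, by group⟩
        show d * x = x * d
        calc d * x = (x * d * x⁻¹) * x := by rw [h1]
          _ = x * d := by group
      · exact Or.inr h
    refine ⟨?_, ?_, ?_⟩
    · rcases horbit (Cfsg.pCore 2 G) (Cfsg.Agent.Lib.Helper12.pCore_normal'' 2) with h | h
      · exact h
      · exfalso
        obtain ⟨c, hcD, hdc⟩ := hnc
        have h1 := horb _ (Cfsg.Agent.Lib.Helper12.pCore_normal'' 2) h c hcD
        rw [hdi] at h1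
        have h3 := Cfsg.Agent.Lib.Helper27.ThreeTrans.cube_of_not_commute hTS hd hcD hdc
        obtain ⟨k, hk⟩ := (Cfsg.Agent.Lib.Helper12.pCore_isPGroup' (X := G) 2) ⟨d * c, h1⟩
        have hk' : (d * c) ^ 2 ^ k = 1 := by
          have := congrArg Subtype.val hk
          simpa using this
        have h4 : d * c = 1 :=
          Cfsg.Agent.S5351.eq_one_of_pow_coprime hk' h3 (Nat.Coprime.pow_left k (by norm_num))
        apply hdc
        have h5 : c = d := by
          have := eq_inv_of_mul_eq_one_right h4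
          rw [hdi] at this
          exact this
        rw [h5]
    · rcases horbit (Cfsg.pCore 3 G) (Cfsg.Agent.Lib.Helper12.pCore_normal'' 3) with h | h
      · exact h
      · exfalso
        obtain ⟨a, ha, b, hb, hab, hcab⟩ := hw
        have h1 := horb _ (Cfsg.Agent.Lib.Helper12.pCore_normal'' 3) h a ha
        have h2 := horb _ (Cfsg.Agent.Lib.Helper12.pCore_normal'' 3) h b hb
        have h3 : a * b ∈ Cfsg.pCore 3 G := by
          have e1 : a * b = (d⁻¹ * a)⁻¹ * (d⁻¹ * b) := by rw [mul_inv_rev, inv_inv, hinv a ha]; group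
          rw [e1]; exact mul_mem (inv_mem h1) h2
        obtain ⟨k, hk⟩ := (Cfsg.Agent.Lib.Helper12.pCore_isPGroup' (X := G) 3) ⟨a * b, h3⟩
        have hk' : (a * b) ^ 3 ^ k = 1 := by
          have := congrArg Subtype.val hk
          simpa using this
        have h4 : (a * b) ^ 2 = 1 := by
          rw [hcab.mul_pow, pow_two, pow_two, hsq a ha, hsq b hb, one_mul]
        have h5 : a * b = 1 :=
          Cfsg.Agent.S5351.eq_one_of_pow_coprime hk' h4 (Nat.Coprime.pow_left k (by norm_num))
        apply hab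
        have := eq_inv_of_mul_eq_one_left h5
        rw [hinv b hb] at this
        exact this
    · -- connectedness
      have hsub : {y : G | Relation.ReflTransGen (CR D) d y} ⊆ D := fun y hy => RTG_mem hd hy
      rcases hblk _ hsub (component_block hconj d) with h | h
      · exfalso
        obtain ⟨a, ha, b, hb, hab, hcab⟩ := hw
        obtain ⟨g, hg⟩ := hconj2 a ha d hd
        have hb' : g * b * g⁻¹ ∈ D := hconj g b hb
        have hne : d ≠ g * b * g⁻¹ := by
          rw [← hg]
          intro he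
          apply hab
          have := congrArg (fun t => g⁻¹ * t * g) he
          simpa [mul_assoc] using this
        have hcm : Commute d (g * b * g⁻¹) := by
          rw [← hg]; exact (Commute.conj_iff g).mpr hcab
        have h1 : Relation.ReflTransGen (CR D) d (g * b * g⁻¹) :=
          Relation.ReflTransGen.single ⟨hd, hb', hne, hcm⟩
        exact hne (h Relation.ReflTransGen.refl h1)
      · have hall : ∀ e (he : e ∈ D), (Cfsg.commutingGraph D).Reachable ⟨d, hd⟩ ⟨e, he⟩ := by
          intro e he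
          have he' : e ∈ {y : G | Relation.ReflTransGen (CR D) d y} := by rw [h]; exact he
          exact RTG_reachable hd he' he
        have : Nonempty D := ⟨⟨d, hd⟩⟩
        refine ⟨?_⟩
        rintro ⟨x, hx⟩ ⟨y, hy⟩
        exact (hall x hx).symm.trans (hall y hy)
  -- common data when `O_2(G) = O_3(G) = 1`
  have hdata : Cfsg.pCore 2 G = ⊥ → Cfsg.pCore 3 G = ⊥ →
      ∃ L : Subgroup G, L.Normal ∧ Cfsg.IsQuasisimple L ∧
        (L.index ≤ 2 → Cfsg.IsPrimitiveUnderConj D) ∧
        ((Cfsg.commutingGraph D).Connected → L.index ≤ 2) ∧ IsSimpleGroup ↥L := by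
    intro hO2 hO3
    have h2 : Cfsg.pCore 2 G ≤ Subgroup.center G := by rw [hO2]; exact bot_le
    have h3 : Cfsg.pCore 3 G ≤ Subgroup.center G := by rw [hO3]; exact bot_le
    obtain ⟨L, hLn, hLq, hLF, -⟩ := Cfsg.Agent.S5352.result hD0 hD2 h2 h3
    have := hLn
    obtain ⟨h53a, h53b⟩ := Cfsg.Agent.S5353.result hD0 hD2 h2 h3 L hLq hLF
    refine ⟨L, hLn, hLq, h53a, h53b, ?_⟩
    -- `F(G) = 1`, hence `Z(L) = 1`
    have hFbot : Cfsg.fittingSubgroup G = ⊥ := by
      rw [eq_bot_iff, Cfsg.Agent.Lib.Helper1.fittingSubgroup_eq_iSup_pCore]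
      apply iSup_le
      intro p
      have hp := p.2
      by_cases hp2 : (p : ℕ) = 2
      · rw [hp2, hO2]
      by_cases hp3 : (p : ℕ) = 3
      · rw [hp3, hO3]
      · rw [← hZ]
        apply hpart1 _ hp
        have := hp.two_le
        omega
    have hcenter : Subgroup.center ↥L = ⊥ := by
      have h1 := Cfsg.Agent.Lib.Helper9.map_subtype_center L
      set N0 : Subgroup G := L ⊓ Subgroup.centralizer (L : Set G) with hN0
      have hN0n : N0.Normal := inferInstance
      have hN0c : N0 ≤ Subgroup.centralizer (N0 : Set G) := by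
        intro y hy
        exact Subgroup.centralizer_le (inf_le_left : N0 ≤ L) hy.2
      have hN0F : N0 ≤ Cfsg.fittingSubgroup G :=
        Cfsg.Agent.Lib.Helper1.le_fittingSubgroup hN0n
          (Cfsg.Agent.Lib.Helper9.isNilpotent_of_le_centralizer hN0c)
      rw [hFbot, le_bot_iff] at hN0F
      rw [hN0F] at h1
      rw [eq_bot_iff]
      intro x hx
      have h4 : L.subtype x ∈ (Subgroup.center ↥L).map L.subtype := ⟨x, hx, rfl⟩
      rw [h1, Subgroup.mem_bot] at h4
      rw [Subgroup.mem_bot]
      apply Subtype.ext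
      exact h4
    have hs : IsSimpleGroup (↥L ⧸ Subgroup.center ↥L) := hLq.2
    let e : ↥L ≃* (↥L ⧸ Subgroup.center ↥L) :=
      (QuotientGroup.quotientBot (G := ↥L)).symm.trans
        (QuotientGroup.quotientMulEquivOfEq hcenter.symm)
    exact e.isSimpleGroup
  -- (B)
  have hB : (Cfsg.pCore 2 G = ⊥ ∧ Cfsg.pCore 3 G = ⊥ ∧ (Cfsg.commutingGraph D).Connected) →
      Cfsg.IsPrimitiveUnderConj D := by
    rintro ⟨hO2, hO3, hconn⟩
    obtain ⟨L, -, -, h53a, h53b, -⟩ := hdata hO2 hO3
    exact h53a (h53b hconn)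
  -- (C)
  have hC : Cfsg.IsPrimitiveUnderConj D → IsSimpleGroup ↥(commutator G) := by
    intro hprim
    obtain ⟨hO2, hO3, hconn⟩ := hA hprim
    obtain ⟨L, hLn, hLq, -, h53b, hLs⟩ := hdata hO2 hO3
    have := hLn
    have hidx := h53b hconn
    have hcomm : commutator G = L := by
      apply le_antisymm
      · have h0 : L.index ≠ 0 := Subgroup.index_ne_zero_of_finite
        have h12 : L.index = 1 ∨ L.index = 2 := by omega
        rcases h12 with h1 | h1
        · rw [Subgroup.index_eq_one] at h1
          rw [h1]; exact le_top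
        · apply Subgroup.Normal.quotient_commutative_iff_commutator_le.mp
          have hcard : Nat.card (G ⧸ L) = 2 := by rw [← Subgroup.index_eq_card]; exact h1
          have : IsCyclic (G ⧸ L) := isCyclic_of_prime_card hcard
          exact IsCyclic.isMulCommutative
      · have hperf : ⁅L, L⁆ = L := Subgroup.isPerfect_iff.mp hLq.1
        rw [commutator_def, ← hperf]
        exact Subgroup.commutator_mono le_top le_top
    rw [hcomm]
    exact hLs
  -- (D)
  have hDd : IsSimpleGroup ↥(commutator G) → Cfsg.IsPrimitiveUnderConj D := by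
    intro hs
    set N : Subgroup G := commutator G with hN
    have hNn : N.Normal := inferInstance
    have hDN : ∀ e ∈ D, d⁻¹ * e ∈ N := by
      intro e he
      obtain ⟨g, rfl⟩ := hconj2 d hd e he
      have e1 : d⁻¹ * (g * d * g⁻¹) = ⁅d⁻¹, g⁆ := by rw [commutatorElement_def, inv_inv]; group
      rw [e1, hN, commutator_def]
      exact Subgroup.commutator_mem_commutator (Subgroup.mem_top _) (Subgroup.mem_top _)
    have hidx : N.index ≤ 2 := hindex N hNn hDN
    by_cases hab : ∀ x y : ↥N, x * y = y * x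
    · -- the abelian case is impossible
      exfalso
      obtain ⟨a, ha, b, hb, hne, hcab⟩ := hw
      have hzN : a⁻¹ * b ∈ N := by
        have e1 : a⁻¹ * b = (d⁻¹ * a)⁻¹ * (d⁻¹ * b) := by group
        rw [e1]; exact mul_mem (inv_mem (hDN a ha)) (hDN b hb)
      set z : G := a⁻¹ * b with hz
      have hz1 : z ≠ 1 := by
        intro h
        apply hne
        have := inv_mul_eq_one.mp h
        exact this
      have hzz : z * z = 1 := by
        rw [hz, hinv a ha]
        calc a * b * (a * b) = a * (b * a) * b := by group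
          _ = a * (a * b) * b := by rw [hcab.eq]
          _ = (a * a) * (b * b) := by group
          _ = 1 := by rw [hsq a ha, hsq b hb, one_mul]
      let zN : ↥N := ⟨z, hzN⟩
      have hnorm : (Subgroup.zpowers zN).Normal :=
        ⟨fun n hn g => by rw [hab g n, mul_inv_cancel_right]; exact hn⟩
      rcases hnorm.eq_bot_or_eq_top with h | h
      · apply hz1
        have h1 : zN ∈ Subgroup.zpowers zN := Subgroup.mem_zpowers zN
        rw [h, Subgroup.mem_bot] at h1
        exact congrArg Subtype.val h1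
      · -- `N = {1, z}`, so `z` is central
        have hN2 : ∀ n ∈ N, n = 1 ∨ n = z := by
          intro n hn
          have h1 : (⟨n, hn⟩ : ↥N) ∈ Subgroup.zpowers zN := by rw [h]; exact Subgroup.mem_top _
          obtain ⟨i, hi⟩ := Subgroup.mem_zpowers_iff.mp h1
          have hi' : z ^ i = n := by
            have := congrArg Subtype.val hi
            simpa [zN] using this
          rcases Int.emod_two_eq_zero_or_one i with hi2 | hi2
          · left
            obtain ⟨j, rfl⟩ : ∃ j, i = 2 * j := ⟨i / 2, by omega⟩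
            rw [← hi', zpow_mul, zpow_two, hzz, one_zpow]
          · right
            obtain ⟨j, rfl⟩ : ∃ j, i = 2 * j + 1 := ⟨i / 2, by omega⟩
            rw [← hi', zpow_add, zpow_mul, zpow_two, hzz, one_zpow, one_mul, zpow_one]
        have hzc : z ∈ Subgroup.center G := by
          rw [Subgroup.mem_center_iff]
          intro g
          have h1 : g * z * g⁻¹ ∈ N := hNn.conj_mem z hzN g
          rcases hN2 _ h1 with h2 | h2
          · exfalso
            apply hz1
            have := congrArg (fun t => g⁻¹ * t * g) h2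
            simpa [mul_assoc] using this
          · calc g * z = (g * z * g⁻¹) * g := by group
              _ = z * g := by rw [h2]
        rw [hZ, Subgroup.mem_bot] at hzc
        exact hz1 hzc
    · -- the non-abelian case
      have hcenN : Subgroup.center ↥N = ⊥ := by
        rcases (inferInstance : (Subgroup.center ↥N).Normal).eq_bot_or_eq_top with h | h
        · exact h
        · exfalso
          apply hab
          intro x y
          have hy : y ∈ Subgroup.center ↥N := by rw [h]; exact Subgroup.mem_top y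
          rw [Subgroup.mem_center_iff] at hy
          exact hy x
      have hperfN : Group.IsPerfect ↥N := by
        rcases (inferInstance : (commutator ↥N).Normal).eq_bot_or_eq_top with h | h
        · exfalso
          apply hab
          intro x y
          have h1 : ⁅x, y⁆ ∈ commutator ↥N := by
            rw [commutator_def]
            exact Subgroup.commutator_mem_commutator (Subgroup.mem_top _) (Subgroup.mem_top _)
          rw [h, Subgroup.mem_bot] at h1
          exact commutatorElement_eq_one_iff_mul_comm.mp h1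
        · exact ⟨h⟩
      -- `O_p(G) = 1` for `p = 2, 3`
      have hOp : ∀ p : ℕ, p.Prime → Cfsg.pCore p G = ⊥ := by
        intro p hp
        have : Fact p.Prime := ⟨hp⟩
        set Q : Subgroup G := Cfsg.pCore p G with hQ
        have hQn : Q.Normal := Cfsg.Agent.Lib.Helper12.pCore_normal'' p
        have hQp : IsPGroup p Q := Cfsg.Agent.Lib.Helper12.pCore_isPGroup' p
        have hTn : ((Q ⊓ N).subgroupOf N).Normal := Subgroup.normal_subgroupOf
        rcases hTn.eq_bot_or_eq_top with h | h
        · -- `Q ∩ N = 1`, so `Q` is central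
          rw [Subgroup.subgroupOf_eq_bot, disjoint_iff, inf_assoc, inf_idem] at h
          rw [eq_bot_iff, ← hZ]
          intro q hq
          rw [Subgroup.mem_center_iff]
          intro g
          have h1 : ⁅g, q⁆ ∈ Q ⊓ N := by
            refine Subgroup.mem_inf.mpr ⟨?_, ?_⟩
            · rw [commutatorElement_def]
              have e1 : g * q * g⁻¹ * q⁻¹ = (g * q * g⁻¹) * q⁻¹ := by group
              rw [e1]
              exact mul_mem (hQn.conj_mem q hq g) (inv_mem hq)
            · rw [hN, commutator_def]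
              exact Subgroup.commutator_mem_commutator (Subgroup.mem_top _) (Subgroup.mem_top _)
          rw [h, Subgroup.mem_bot] at h1
          exact commutatorElement_eq_one_iff_mul_comm.mp h1
        · -- `N ≤ Q` is a `p`-group, so has a non-trivial centre
          exfalso
          rw [Subgroup.subgroupOf_eq_top] at h
          have hNQ : N ≤ Q := h.trans inf_le_left
          have hNp : IsPGroup p ↥N := hQp.to_le hNQ
          have : Nontrivial ↥N := hs.toNontrivial
          have h1 := hNp.center_nontrivial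
          rw [hcenN] at h1
          exact not_nontrivial _ h1
      have hO2 := hOp 2 Nat.prime_two
      have hO3 := hOp 3 Nat.prime_three
      obtain ⟨L, hLn, hLq, h53a, -, -⟩ := hdata hO2 hO3
      apply h53a
      -- `L = N`
      have hLN : L ≤ N := by
        have hperf : ⁅L, L⁆ = L := Subgroup.isPerfect_iff.mp hLq.1
        rw [hN, commutator_def, ← hperf]
        exact Subgroup.commutator_mono le_top le_top
      have := hLn
      have hLNn : (L.subgroupOf N).Normal := Subgroup.normal_subgroupOf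
      rcases hLNn.eq_bot_or_eq_top with h | h
      · exfalso
        rw [Subgroup.subgroupOf_eq_bot, disjoint_iff, inf_of_le_left hLN] at h
        have h1 := Cfsg.Agent.Lib.Helper9.IsQuasisimple_nontrivial hLq
        rw [h] at h1
        exact not_nontrivial _ h1
      · rw [Subgroup.subgroupOf_eq_top] at h
        have hLeq : L = N := le_antisymm hLN h
        rw [hLeq]
        exact hidx
  exact ⟨⟨hDd, hC⟩, ⟨hA, hB⟩⟩

end Cfsg.Agent.S5361
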