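import Cfsg.Statements.S5354
import Cfsg.Agent.S5351
import Cfsg.Agent.S5352
import Cfsg.Agent.S5353
import Cfsg.Agent.S5361
import Cfsg.Agent.Lib.Helper12.PrimRank3M
import Cfsg.Agent.Lib.Helper12.Cores
import Cfsg.Agent.Lib.Helper12.PPrimeP
import Cfsg.Agent.Lib.Helper27.ThreeTrans

set_option autoImplicit false
open Cfsg

namespace Cfsg.Agent.S5354

/-- Let D be a conjugation-invariant generating set of 3-transpositions of the finite group G on which G acts primitively by conjugation, and suppose two different members of D commute (width at least 2). Then G has a quasisimple normal subgroup L of index at most 2 with the generalized Fitting subgroup of G equal to L times the centre, the commuting graph of D is connected, and for d in D the subgroup generated by the members of D commuting with d is a maximal D-subgroup: it is proper, and every subgroup generated by members of D that contains it is either it or G. -/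
theorem result {G : Type*} [Group G] [Finite G] {D : Set G} (hD : Cfsg.IsThreeTranspositionGroup D) (hprim : Cfsg.IsPrimitiveUnderConj D) (hw : ∃ a ∈ D, ∃ b ∈ D, a ≠ b ∧ Commute a b) : (∃ L : Subgroup G, L.Normal ∧ Cfsg.IsQuasisimple L ∧ L.index ≤ 2 ∧ Cfsg.generalizedFittingSubgroup G = L ⊔ Subgroup.center G) ∧ (Cfsg.commutingGraph D).Connected ∧ ∀ d ∈ D, Subgroup.closure {y : G | y ∈ D ∧ Commute d y} ≠ ⊤ ∧ ∀ H : Subgroup G, Cfsg.IsDSubgroup D H → Subgroup.closure {y : G | y ∈ D ∧ Commute d y} ≤ H → H = Subgroup.closure {y : G | y ∈ D ∧ Commute d y} ∨ H = ⊤ := by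
  classical
  obtain ⟨hTS, hconj, hgen⟩ := hD
  obtain ⟨htrans, hD2, hblk⟩ := hprim
  have : Fact (Nat.Prime 2) := ⟨Nat.prime_two⟩
  have : Fact (Nat.Prime 3) := ⟨Nat.prime_three⟩
  obtain ⟨d, hd, b₀, hb₀, hdb₀, hcdb₀⟩ := hw
  have hw' : ∃ a ∈ D, ∃ b ∈ D, a ≠ b ∧ Commute a b := ⟨d, hd, b₀, hb₀, hdb₀, hcdb₀⟩
  have hcls : D = conjugatesOf d := by
    ext y
    constructor
    · intro hy
      obtain ⟨g, hg⟩ := htrans d hd y hy
      show IsConj d y
      exact isConj_iff.mpr ⟨g, hg⟩
    · intro hy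
      have hy' : IsConj d y := hy
      obtain ⟨g, rfl⟩ := isConj_iff.mp hy'
      exact hconj g d hd
  have hD0 : Cfsg.IsThreeTranspositionClass D := ⟨hTS, ⟨d, hd, hcls⟩, hgen⟩
  have hsq : ∀ e ∈ D, e * e = 1 := fun e he => Cfsg.Agent.Lib.Helper27.ThreeTrans.sq_of_mem hTS he
  have hinv : ∀ e ∈ D, e⁻¹ = e := fun e he => Cfsg.Agent.Lib.Helper27.ThreeTrans.inv_of_mem hTS he
  have hdi := hinv d hd
  -- a normal subgroup centralized by `d` is central
  have hP0 : ∀ N : Subgroup G, N.Normal → (∀ x ∈ N, Commute d x) → N ≤ Subgroup.center G := by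
    intro N hN hc x hx
    rw [Subgroup.mem_center_iff]
    have hle : Subgroup.closure D ≤ Subgroup.centralizer ({x} : Set G) := by
      rw [Subgroup.closure_le]
      intro f hf
      rw [SetLike.mem_coe, Subgroup.mem_centralizer_singleton_iff]
      obtain ⟨g, rfl⟩ := htrans d hd f hf
      have hx' : g⁻¹ * x * g ∈ N := by
        have := hN.conj_mem x hx g⁻¹
        rwa [inv_inv] at this
      have h1 := (hc _ hx').eq
      calc g * d * g⁻¹ * x = g * (d * (g⁻¹ * x * g)) * g⁻¹ := by group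
        _ = g * ((g⁻¹ * x * g) * d) * g⁻¹ := by rw [h1]
        _ = x * (g * d * g⁻¹) := by group
    intro g
    have hg : g ∈ Subgroup.centralizer ({x} : Set G) := hle (by rw [hgen]; exact Subgroup.mem_top g)
    rw [Subgroup.mem_centralizer_singleton_iff] at hg
    exact hg
  -- every member of `D` has a non-commuting partner
  have hnc : ∀ a ∈ D, ∃ c ∈ D, ¬ Commute c a := by
    intro a ha
    by_contra hall
    push Not at hall
    have hle : Subgroup.closure D ≤ Subgroup.centralizer ({a} : Set G) := by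
      rw [Subgroup.closure_le]
      intro e he
      rw [SetLike.mem_coe, Subgroup.mem_centralizer_singleton_iff]
      exact (hall e he).eq
    have hcen : ∀ g : G, g * a * g⁻¹ = a := by
      intro g
      have hg : g ∈ Subgroup.centralizer ({a} : Set G) := hle (by rw [hgen]; exact Subgroup.mem_top g)
      rw [Subgroup.mem_centralizer_singleton_iff] at hg
      rw [hg, mul_inv_cancel_right]
    obtain ⟨x, hx, y, hy, hxy⟩ := hD2
    obtain ⟨g1, hg1⟩ := htrans a ha x hx
    obtain ⟨g2, hg2⟩ := htrans a ha y hy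
    exact hxy (by rw [← hg1, ← hg2, hcen, hcen])
  have horb : ∀ N : Subgroup G, N.Normal → {y : G | ∃ n ∈ N, y = n * d * n⁻¹} = D →
      ∀ e ∈ D, d⁻¹ * e ∈ N := by
    intro N hN hBD e he
    rw [← hBD] at he
    obtain ⟨n, hn, rfl⟩ := he
    have e1 : d⁻¹ * (n * d * n⁻¹) = (d⁻¹ * n * d⁻¹⁻¹) * n⁻¹ := by group
    rw [e1]
    exact mul_mem (hN.conj_mem n hn d⁻¹) (inv_mem hn)
  have horbit : ∀ N : Subgroup G, N.Normal →
      N ≤ Subgroup.center G ∨ {y : G | ∃ n ∈ N, y = n * d * n⁻¹} = D := by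
    intro N hN
    have hsub : {y : G | ∃ n ∈ N, y = n * d * n⁻¹} ⊆ D := by
      rintro _ ⟨n, -, rfl⟩
      exact hconj n d hd
    have := hN
    rcases hblk _ hsub (Cfsg.Agent.S5361.orbit_block N d) with h | h
    · left
      apply hP0 N hN
      intro x hx
      have h1 : x * d * x⁻¹ = d :=
        h ⟨x, hx, rfl⟩ ⟨1, one_mem _, by group⟩
      show d * x = x * d
      calc d * x = (x * d * x⁻¹) * x := by rw [h1]
        _ = x * d := by group
    · exact Or.inr h
  have h2 : Cfsg.pCore 2 G ≤ Subgroup.center G := by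
    rcases horbit (Cfsg.pCore 2 G) (Cfsg.Agent.Lib.Helper12.pCore_normal'' 2) with h | h
    · exact h
    · exfalso
      obtain ⟨c, hcD, hcd⟩ := hnc d hd
      have hdc : ¬ Commute d c := fun hh => hcd hh.symm
      have h1 := horb _ (Cfsg.Agent.Lib.Helper12.pCore_normal'' 2) h c hcD
      rw [hdi] at h1
      have h3 := Cfsg.Agent.Lib.Helper27.ThreeTrans.cube_of_not_commute hTS hd hcD hdc
      obtain ⟨k, hk⟩ := (Cfsg.Agent.Lib.Helper12.pCore_isPGroup' (X := G) 2) ⟨d * c, h1⟩
      have hk' : (d * c) ^ 2 ^ k = 1 := by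
        have := congrArg Subtype.val hk
        simpa using this
      have h4 : d * c = 1 :=
        Cfsg.Agent.S5351.eq_one_of_pow_coprime hk' h3 (Nat.Coprime.pow_left k (by norm_num))
      apply hdc
      have h5 : c = d := by
        have := eq_inv_of_mul_eq_one_right h4
        rw [hdi] at this
        exact this
      rw [h5]
  have h3 : Cfsg.pCore 3 G ≤ Subgroup.center G := by
    rcases horbit (Cfsg.pCore 3 G) (Cfsg.Agent.Lib.Helper12.pCore_normal'' 3) with h | h
    · exact h
    · exfalso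
      have h1 := horb _ (Cfsg.Agent.Lib.Helper12.pCore_normal'' 3) h b₀ hb₀
      rw [hdi] at h1
      obtain ⟨k, hk⟩ := (Cfsg.Agent.Lib.Helper12.pCore_isPGroup' (X := G) 3) ⟨d * b₀, h1⟩
      have hk' : (d * b₀) ^ 3 ^ k = 1 := by
        have := congrArg Subtype.val hk
        simpa using this
      have h4 : (d * b₀) ^ 2 = 1 := by
        rw [hcdb₀.mul_pow, pow_two, pow_two, hsq d hd, hsq b₀ hb₀, one_mul]
      have h5 : d * b₀ = 1 :=
        Cfsg.Agent.S5351.eq_one_of_pow_coprime hk' h4 (Nat.Coprime.pow_left k (by norm_num))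
      apply hdb₀
      have := eq_inv_of_mul_eq_one_left h5
      rw [hinv b₀ hb₀] at this
      exact this
  -- connectedness
  have hconn : (Cfsg.commutingGraph D).Connected := by
    have hsub : {y : G | Relation.ReflTransGen (Cfsg.Agent.S5361.CR D) d y} ⊆ D :=
      fun y hy => Cfsg.Agent.S5361.RTG_mem hd hy
    rcases hblk _ hsub (Cfsg.Agent.S5361.component_block hconj d) with h | h
    · exfalso
      have h1 : Relation.ReflTransGen (Cfsg.Agent.S5361.CR D) d b₀ :=
        Relation.ReflTransGen.single ⟨hd, hb₀, hdb₀, hcdb₀⟩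
      exact hdb₀ (h Relation.ReflTransGen.refl h1)
    · have hall : ∀ e (he : e ∈ D), (Cfsg.commutingGraph D).Reachable ⟨d, hd⟩ ⟨e, he⟩ := by
        intro e he
        have he' : e ∈ {y : G | Relation.ReflTransGen (Cfsg.Agent.S5361.CR D) d y} := by
          rw [h]; exact he
        exact Cfsg.Agent.S5361.RTG_reachable hd he' he
      have : Nonempty D := ⟨⟨d, hd⟩⟩
      refine ⟨?_⟩
      rintro ⟨x, hx⟩ ⟨y, hy⟩
      exact (hall x hx).symm.trans (hall y hy)
  -- the primitive context
  have hT : Cfsg.Agent.Lib.Helper1.FR3.T3 D := ⟨hTS.1, hTS.2, hconj⟩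
  have hctx : Cfsg.Agent.Lib.Helper12.PR3.PCtx D := by
    refine ⟨hT, htrans, hgen, ?_, fun {a} ha => hnc a ha, ?_⟩
    · -- blocks are trivial
      intro B hBD hB a a' ha ha' hne
      have hblock : ∀ g : G, (fun x => g * x * g⁻¹) '' B = B ∨
          Disjoint ((fun x => g * x * g⁻¹) '' B) B := by
        intro g
        by_cases hdisj : Disjoint ((fun x => g * x * g⁻¹) '' B) B
        · exact Or.inr hdisj
        left
        rw [Set.not_disjoint_iff] at hdisj
        obtain ⟨z, ⟨x, hx, rfl⟩, hz⟩ := hdisj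
        apply Set.Subset.antisymm
        · rintro _ ⟨y, hy, rfl⟩
          exact hB g x hx hz y hy
        · intro y hy
          refine ⟨g⁻¹ * y * g, ?_, by group⟩
          have h1 : g⁻¹ * (g * x * g⁻¹) * g⁻¹⁻¹ ∈ B := by
            have e : g⁻¹ * (g * x * g⁻¹) * g⁻¹⁻¹ = x := by group
            rw [e]; exact hx
          have := hB g⁻¹ _ hz h1 y hy
          rwa [inv_inv] at this
      rcases hblk B hBD hblock with h | h
      · exact absurd (h ha ha') hne
      · rw [h]
    · -- no twins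
      intro a ha b hb hab
      by_contra hne
      set B : Set G := {x | x ∈ D ∧ Cfsg.Agent.Lib.Helper1.FR3.Dp D x = Cfsg.Agent.Lib.Helper1.FR3.Dp D a} with hBdef
      have hBD : B ⊆ D := fun x hx => hx.1
      have hB : Cfsg.Agent.Lib.Helper1.FR3.IsBlk B := by
        rintro g x ⟨hx, hxa⟩ ⟨-, hgx⟩ y ⟨hy, hya⟩
        refine ⟨hconj g y hy, ?_⟩
        calc Cfsg.Agent.Lib.Helper1.FR3.Dp D (g * y * g⁻¹)
            = (fun z => g * z * g⁻¹) '' Cfsg.Agent.Lib.Helper1.FR3.Dp D y := hT.Dp_conj g y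
          _ = (fun z => g * z * g⁻¹) '' Cfsg.Agent.Lib.Helper1.FR3.Dp D x := by rw [hya, hxa]
          _ = Cfsg.Agent.Lib.Helper1.FR3.Dp D (g * x * g⁻¹) := (hT.Dp_conj g x).symm
          _ = Cfsg.Agent.Lib.Helper1.FR3.Dp D a := hgx
      have haB : a ∈ B := ⟨ha, rfl⟩
      have hbB : b ∈ B := ⟨hb, hab.symm⟩
      -- use primitivity
      have hblock : ∀ g : G, (fun x => g * x * g⁻¹) '' B = B ∨
          Disjoint ((fun x => g * x * g⁻¹) '' B) B := by
        intro g
        by_cases hdisj : Disjoint ((fun x => g * x * g⁻¹) '' B) B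
        · exact Or.inr hdisj
        left
        rw [Set.not_disjoint_iff] at hdisj
        obtain ⟨z, ⟨x, hx, rfl⟩, hz⟩ := hdisj
        apply Set.Subset.antisymm
        · rintro _ ⟨y, hy, rfl⟩
          exact hB g x hx hz y hy
        · intro y hy
          refine ⟨g⁻¹ * y * g, ?_, by group⟩
          have h1 : g⁻¹ * (g * x * g⁻¹) * g⁻¹⁻¹ ∈ B := by
            have e : g⁻¹ * (g * x * g⁻¹) * g⁻¹⁻¹ = x := by group
            rw [e]; exact hx
          have := hB g⁻¹ _ hz h1 y hy
          rwa [inv_inv] at this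
      rcases hblk B hBD hblock with h | h
      · exact hne (h haB hbB)
      · have hdB : d ∈ B := by rw [h]; exact hd
        have hbB' : b₀ ∈ B := by rw [h]; exact hb₀
        have h1 : b₀ ∈ Cfsg.Agent.Lib.Helper1.FR3.Dp D d := ⟨hb₀, fun hh => hdb₀ hh.symm, hcdb₀⟩
        rw [hdB.2, ← hbB'.2] at h1
        exact h1.2.1 rfl
  refine ⟨?_, hconn, ?_⟩
  · obtain ⟨L, hLn, hLq, hF, -⟩ := Cfsg.Agent.S5352.result hD0 hD2 h2 h3
    have := hLn
    exact ⟨L, hLn, hLq, (Cfsg.Agent.S5353.result hD0 hD2 h2 h3 L hLq hF).2 hconn, hF⟩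
  · intro e he
    refine ⟨hctx.closure_perp_ne_top he, ?_⟩
    intro H hH hle
    exact hctx.closure_perp_maximal he H hH hle

end Cfsg.Agent.S5354
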