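import Cfsg.Statements.S5355
import Cfsg.Agent.Lib.Helper27.ThreeTransClass

set_option autoImplicit false
open Cfsg

namespace Cfsg.Agent.S5355

open Cfsg.Agent.Lib.Helper27 Cfsg.Agent.Lib.Helper27.ThreeTrans

/-- Let D be a conjugacy class of 3-transpositions generating the finite group G, with at least two members, and d a member of D. Suppose that every member of D commuting with d commutes with exactly the same members of D as d does, and that exactly one member of D other than d commutes with d. Then G is isomorphic to the symmetric group of degree 4. -/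
theorem result {G : Type*} [Group G] [Finite G] {D : Set G} (hD : Cfsg.IsThreeTranspositionClass D) (hD2 : ∃ a ∈ D, ∃ b ∈ D, a ≠ b) {d : G} (hd : d ∈ D) (hV : {y : G | y ∈ D ∧ Commute d y} = {v : G | v ∈ D ∧ ∀ e ∈ D, Commute v e ↔ Commute d e}) (hm : {y : G | y ∈ D ∧ Commute d y}.ncard = 2) : Nonempty (G ≃* Equiv.Perm (Fin 4)) := by
  have hset := hD.1
  have hgen := hD.2.2
  have hconj := conj_mem_of_class hD
  -- the partner of `d`
  obtain ⟨a, b, hab, hs⟩ := Set.ncard_eq_two.mp hm
  have hds : d ∈ {y : G | y ∈ D ∧ Commute d y} := ⟨hd, Commute.refl d⟩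
  obtain ⟨v, hvd, hs'⟩ : ∃ v : G, v ≠ d ∧ {y : G | y ∈ D ∧ Commute d y} = {d, v} := by
    rw [hs] at hds
    rcases hds with h | h
    · exact ⟨b, fun e => hab (e.trans h).symm, by rw [hs, h]⟩
    · rw [Set.mem_singleton_iff] at h
      exact ⟨a, fun e => hab (e.trans h), by rw [hs, h, Set.pair_comm]⟩
  have hvs : v ∈ {y : G | y ∈ D ∧ Commute d y} := by rw [hs']; simp
  have hvτ : Tau D d v := by
    have := hvs
    rw [hV] at this
    exact this
  have hpd : IsPartner D d v := by
    refine ⟨hvd, hvτ, ?_⟩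
    intro z hz hc
    have : z ∈ {y : G | y ∈ D ∧ Commute d y} := ⟨hz, hc⟩
    rw [hs'] at this
    exact this
  have hpart : ∀ x ∈ D, ∃ y, IsPartner D x y := by
    intro x hx
    obtain ⟨g, rfl⟩ := exists_conj_of_class hD hd hx
    exact ⟨_, isPartner_conj hconj hpd g⟩
  obtain ⟨f, hf, hdf⟩ := exists_not_commute hD hD2 hd
  obtain ⟨fb, hpf⟩ := hpart f hf
  obtain ⟨φ, hinj, h01, h12, h23, h03⟩ := exists_hom_of_partner hset hconj hd hf hpd hpf hdf
  have hfi : f⁻¹ = f := inv_of_mem hset hf
  -- every member of `D` lies in the image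
  have hsub : ∀ z ∈ D, z ∈ φ.range := by
    intro z hz
    by_cases hzd : Commute d z
    · rcases hpd.2.2 z hz hzd with h | h
      · exact ⟨_, h01.trans h.symm⟩
      · exact ⟨_, h23.trans h.symm⟩
    by_cases hzf : Commute f z
    · rcases hpf.2.2 z hz hzf with h | h
      · exact ⟨_, h12.trans h.symm⟩
      · exact ⟨_, h03.trans h.symm⟩
    have hw : f * d * f⁻¹ ∈ D := hconj f d hd
    have hwφ : φ (Equiv.swap 0 2) = f * d * f⁻¹ := by
      have key : Equiv.swap (0 : Fin 4) 2 = Equiv.swap 1 2 * Equiv.swap 0 1 * (Equiv.swap 1 2)⁻¹ := by decide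
      rw [key, map_mul, map_mul, map_inv, h01, h12]
    obtain ⟨wb, hpw⟩ := hpart _ hw
    by_cases hzw : Commute (f * d * f⁻¹) z
    · rcases hpw.2.2 z hz hzw with h | h
      · exact ⟨_, hwφ.trans h.symm⟩
      · -- `wb = φ (1 3)`
        have hmem : φ (Equiv.swap 1 3) ∈ D := by
          have key : Equiv.swap (1 : Fin 4) 3 = Equiv.swap 0 3 * Equiv.swap 0 1 * (Equiv.swap 0 3)⁻¹ := by
            decide
          rw [key, map_mul, map_mul, map_inv, h01]
          exact hconj _ d hd
        have hc : Commute (f * d * f⁻¹) (φ (Equiv.swap 1 3)) := by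
          have key : Commute (Equiv.swap (0 : Fin 4) 2) (Equiv.swap 1 3) := by
            show _ * _ = _ * _
            decide
          have := key.map φ
          rwa [hwφ] at this
        rcases hpw.2.2 _ hmem hc with h1 | h1
        · exfalso
          rw [← hwφ] at h1
          have := hinj h1
          revert this
          decide
        · exact ⟨_, h1.trans h.symm⟩
    · exfalso
      obtain ⟨zb, hpz⟩ := hpart z hz
      obtain ⟨ea, -⟩ := conj_pair hset hconj hw hz hpw hpz hzw
      obtain ⟨eb, -⟩ := conj_pair hset hconj hf hz hpf hpz hzf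
      obtain ⟨ec, hcomm⟩ := conj_pair hset hconj hd hf hpd hpf hdf
      obtain ⟨ed, -⟩ := conj_pair hset hconj hd hz hpd hpz hzd
      have hffb : Commute f fb := tau_commute hf hpf.2.1
      have hdv : Commute d v := tau_commute hd hvτ
      have ee : f * (f * fb) * f⁻¹ = f * fb := by
        rw [hffb.eq, mul_assoc, mul_assoc, mul_inv_cancel, mul_one, hffb.eq]
      have hTd2 : (d * v) * (d * v) = 1 := by
        rw [← pow_two, hdv.mul_pow, pow_two, pow_two, sq_of_mem hset hd, sq_of_mem hset hvτ.1, mul_one]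
      have hTf2 : (f * fb) * (f * fb) = 1 := by
        rw [← pow_two, hffb.mul_pow, pow_two, pow_two, sq_of_mem hset hf, sq_of_mem hset hpf.2.1.1, mul_one]
      have eb' : f⁻¹ * (z * zb) * f = (f * fb) * (z * zb) := by
        have := eb
        rw [hfi] at this ⊢
        exact this
      have e1 : f * d * f⁻¹ * (z * zb) * (f * d * f⁻¹)⁻¹ =
          f * (d * (f⁻¹ * (z * zb) * f) * d⁻¹) * f⁻¹ := by group
      have e2 : d * ((f * fb) * (z * zb)) * d⁻¹ = (f * fb) * (z * zb) := by
        have : d * ((f * fb) * (z * zb)) * d⁻¹ = (d * (f * fb) * d⁻¹) * (d * (z * zb) * d⁻¹) := by group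
        rw [this, ec, ed]
        calc d * v * (f * fb) * (d * v * (z * zb))
            = (d * v) * ((f * fb) * (d * v)) * (z * zb) := by group
          _ = (d * v) * ((d * v) * (f * fb)) * (z * zb) := by rw [hcomm.eq]
          _ = ((d * v) * (d * v)) * (f * fb) * (z * zb) := by group
          _ = (f * fb) * (z * zb) := by rw [hTd2, one_mul]
      have e3 : f * ((f * fb) * (z * zb)) * f⁻¹ = z * zb := by
        have : f * ((f * fb) * (z * zb)) * f⁻¹ = (f * (f * fb) * f⁻¹) * (f * (z * zb) * f⁻¹) := by group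
        rw [this, ee, eb, ← mul_assoc, hTf2, one_mul]
      have e4 : f * d * f⁻¹ * (z * zb) * (f * d * f⁻¹)⁻¹ = z * zb := by
        rw [e1, eb', e2, e3]
      rw [e4] at ea
      have hone : f * d * f⁻¹ * wb = 1 := by
        have := mul_right_cancel (ea.symm.trans (one_mul _).symm)
        exact this
      apply hpw.1
      rw [← inv_of_mem hset hw]
      exact eq_inv_of_mul_eq_one_right hone
  have hrange : φ.range = ⊤ := by
    rw [eq_top_iff, ← hgen, Subgroup.closure_le]
    exact hsub
  have hsurj : Function.Surjective φ := MonoidHom.range_eq_top.mp hrange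
  exact ⟨(MulEquiv.ofBijective φ ⟨hinj, hsurj⟩).symm⟩

end Cfsg.Agent.S5355
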