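import Cfsg.Statements.S5356
import Cfsg.Agent.Lib.Helper12.WidthOne
import Cfsg.Agent.Lib.Helper12.Cores
import Cfsg.Agent.Lib.Helper12.PPrimeP
import Cfsg.Agent.Lib.Helper12.InvariantSylow
import Cfsg.Agent.Lib.Helper27.ThreeTrans

set_option autoImplicit false
open Cfsg

namespace Cfsg.Agent.S5356


/-- in the group generated by involutions `a, d, e` with `(ad)^3 = (ae)^3 = 1`, the element
`a d e a` conjugates `e` to `d` -/
theorem word_conj {G : Type*} [Group G] {a d e : G} (ha : a * a = 1) (hd : d * d = 1)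
    (he : e * e = 1) (h1 : (a * d) ^ 3 = 1) (h2 : (a * e) ^ 3 = 1) :
    (a * d * e * a) * e * (a * d * e * a)⁻¹ = d := by
  have hai : a⁻¹ = a := inv_eq_of_mul_eq_one_right ha
  have hdi : d⁻¹ = d := inv_eq_of_mul_eq_one_right hd
  have hei : e⁻¹ = e := inv_eq_of_mul_eq_one_right he
  rw [mul_inv_rev, mul_inv_rev, mul_inv_rev, hai, hdi, hei]
  have k2 : e * a * e * a * e = a := by
    have h3 : a * e * (a * e) * (a * e) = 1 := by rw [← h2]; simp [pow_succ]
    calc e * a * e * a * e = a⁻¹ * (a * e * (a * e) * (a * e)) := by group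
      _ = a := by rw [h3, mul_one, hai]
  have k1 : a * d * a * d * a = d := by
    have h3 : a * d * (a * d) * (a * d) = 1 := by rw [← h1]; simp [pow_succ]
    calc a * d * a * d * a = (a * d * (a * d) * (a * d)) * d⁻¹ := by group
      _ = d := by rw [h3, one_mul, hdi]
  calc a * d * e * a * e * (a * (e * (d * a))) = a * d * (e * a * e * a * e) * d * a := by group
    _ = a * d * a * d * a := by rw [k2]
    _ = d := k1

/-- Let D be a conjugacy class of 3-transpositions generating the finite group G, with at least two members, and d a member of D such that every member of D commuting with d commutes with exactly the same members of D as d. Then there is a Sylow 3-subgroup P of G normalized by d such that G is generated by d, P and the largest normal 2-subgroup of G. -/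
theorem result {G : Type*} [Group G] [Finite G] {D : Set G} (hD : Cfsg.IsThreeTranspositionClass D) (hD2 : ∃ a ∈ D, ∃ b ∈ D, a ≠ b) {d : G} (hd : d ∈ D) (hV : {y : G | y ∈ D ∧ Commute d y} = {v : G | v ∈ D ∧ ∀ e ∈ D, Commute v e ↔ Commute d e}) : ∃ P : Sylow 3 G, d ∈ Subgroup.normalizer (P : Set G) ∧ Subgroup.zpowers d ⊔ (P : Subgroup G) ⊔ Cfsg.pCore 2 G = ⊤ := by
  classical
  obtain ⟨hTS, ⟨d0, hd0, hcls⟩, hgen⟩ := hD
  have : Fact (Nat.Prime 3) := ⟨Nat.prime_three⟩
  have : Fact (Nat.Prime 2) := ⟨Nat.prime_two⟩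
  have hconj : ∀ g : G, ∀ e ∈ D, g * e * g⁻¹ ∈ D := by
    intro g e he
    rw [hcls] at he ⊢
    have he' : IsConj d0 e := he
    show IsConj d0 (g * e * g⁻¹)
    exact he'.trans (isConj_iff.mpr ⟨g, rfl⟩)
  have hconj2 : ∀ a ∈ D, ∀ b ∈ D, ∃ g : G, g * a * g⁻¹ = b := by
    intro a ha b hb
    rw [hcls] at ha hb
    have ha' : IsConj d0 a := ha
    have hb' : IsConj d0 b := hb
    exact isConj_iff.mp (ha'.symm.trans hb')
  set Q : Subgroup G := Cfsg.pCore 2 G with hQdef
  have hQn : Q.Normal := Cfsg.Agent.Lib.Helper12.pCore_normal'' 2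
  have hQp : IsPGroup 2 Q := Cfsg.Agent.Lib.Helper12.pCore_isPGroup' 2
  have hsq : ∀ e ∈ D, e * e = 1 := fun e he => Cfsg.Agent.Lib.Helper27.ThreeTrans.sq_of_mem hTS he
  have hinv : ∀ e ∈ D, e⁻¹ = e := fun e he => Cfsg.Agent.Lib.Helper27.ThreeTrans.inv_of_mem hTS he
  -- an element of `Q` whose cube is trivial is trivial
  have htriv : ∀ x ∈ Q, x ^ 3 = 1 → x = 1 := by
    intro x hx h3
    obtain ⟨k, hk⟩ := hQp ⟨x, hx⟩
    have hk' : x ^ 2 ^ k = 1 := by
      have := congrArg Subtype.val hk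
      simpa using this
    exact Cfsg.Agent.Lib.Helper12.InvSyl.eq_one_of_two_three (b := 1) hk' (by simpa using h3)
  -- every member of `D` has a non-commuting partner
  have hnc : ∀ a ∈ D, ∃ b ∈ D, ¬ Commute a b := by
    intro a ha
    by_contra hall
    push Not at hall
    have hle : Subgroup.closure D ≤ Subgroup.centralizer ({a} : Set G) := by
      rw [Subgroup.closure_le]
      intro e he
      rw [SetLike.mem_coe, Subgroup.mem_centralizer_singleton_iff]
      exact (hall e he).eq.symm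
    have hcen : ∀ g : G, g * a * g⁻¹ = a := by
      intro g
      have hg : g ∈ Subgroup.centralizer ({a} : Set G) := hle (by rw [hgen]; exact Subgroup.mem_top g)
      rw [Subgroup.mem_centralizer_singleton_iff] at hg
      rw [hg, mul_inv_cancel_right]
    obtain ⟨x, hx, y, hy, hxy⟩ := hD2
    obtain ⟨g1, hg1⟩ := hconj2 a ha x hx
    obtain ⟨g2, hg2⟩ := hconj2 a ha y hy
    exact hxy (by rw [← hg1, ← hg2, hcen, hcen])
  -- the hypothesis on `d` holds for every member of `D`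
  have hV' : ∀ a ∈ D, ∀ y ∈ D, Commute a y → Cfsg.Agent.Lib.Helper27.ThreeTrans.Tau D a y := by
    intro a ha y hy hay
    obtain ⟨g, hg⟩ := hconj2 d hd a ha
    have hy' : g⁻¹ * y * g ∈ D := by
      have := hconj g⁻¹ y hy
      rwa [inv_inv] at this
    have hc : Commute d (g⁻¹ * y * g) := by
      have e1 : y = g * (g⁻¹ * y * g) * g⁻¹ := by group
      rw [← hg, e1, Commute.conj_iff] at hay
      exact hay
    have hmem : (g⁻¹ * y * g) ∈ {y : G | y ∈ D ∧ Commute d y} := ⟨hy', hc⟩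
    rw [hV] at hmem
    have hτ : Cfsg.Agent.Lib.Helper27.ThreeTrans.Tau D d (g⁻¹ * y * g) := hmem
    have h1 := Cfsg.Agent.Lib.Helper27.ThreeTrans.tau_conj hconj hτ g
    rw [hg] at h1
    have e2 : g * (g⁻¹ * y * g) * g⁻¹ = y := by group
    rwa [e2] at h1
  -- members of `D` are not in `Q`
  have hDQ : ∀ e ∈ D, e ∉ Q := by
    intro e he heQ
    obtain ⟨b, hb, hcb⟩ := hnc e he
    obtain ⟨g, hg⟩ := hconj2 e he b hb
    have hbQ : b ∈ Q := by rw [← hg]; exact hQn.conj_mem e heQ g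
    have h3 := Cfsg.Agent.Lib.Helper27.ThreeTrans.cube_of_not_commute hTS he hb hcb
    have h1 := htriv _ (mul_mem heQ hbQ) h3
    apply hcb
    have h2 : b = e := by
      rw [← hinv e he]; exact (inv_eq_of_mul_eq_one_right h1).symm
    rw [h2]
  -- members of `D` congruent modulo `Q` are conjugate under `Q`
  have hA : ∀ e ∈ D, e * d ∈ Q → ∃ q ∈ Q, q * e * q⁻¹ = d := by
    intro e he heQ
    by_cases hed : e = d
    · exact ⟨1, one_mem _, by simp [hed]⟩
    have hc : Commute d e := by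
      by_contra hnc'
      have h3 := Cfsg.Agent.Lib.Helper27.ThreeTrans.cube_of_not_commute hTS he hd
        (fun h => hnc' h.symm)
      have h1 := htriv _ heQ h3
      apply hed
      rw [← hinv d hd]; exact eq_inv_of_mul_eq_one_left h1
    have hτ := hV' d hd e he hc
    obtain ⟨a, ha, hda⟩ := hnc d hd
    have hea : ¬ Commute e a := fun h => hda ((hτ.2 a ha).mp h)
    have h3d : (a * d) ^ 3 = 1 :=
      Cfsg.Agent.Lib.Helper27.ThreeTrans.cube_of_not_commute hTS ha hd (fun h => hda h.symm)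
    have h3e : (a * e) ^ 3 = 1 :=
      Cfsg.Agent.Lib.Helper27.ThreeTrans.cube_of_not_commute hTS ha he (fun h => hea h.symm)
    refine ⟨a * d * e * a, ?_, word_conj (hsq a ha) (hsq d hd) (hsq e he) h3d h3e⟩
    have e1 : a * d * e * a = a * (e * d)⁻¹ * a⁻¹ := by
      rw [mul_inv_rev, hinv a ha, hinv d hd, hinv e he]; group
    rw [e1]
    exact hQn.conj_mem _ (inv_mem heQ) a
  -- the quotient `G/Q` and the image of `D`
  set π : G →* G ⧸ Q := QuotientGroup.mk' Q with hπ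
  have hπs : Function.Surjective π := QuotientGroup.mk'_surjective Q
  have hπ1 : ∀ x : G, π x = 1 ↔ x ∈ Q := fun x => QuotientGroup.eq_one_iff x
  set Dbar : Set (G ⧸ Q) := π '' D with hDbar
  have hord' : ∀ x ∈ Dbar, orderOf x = 2 := by
    rintro _ ⟨e, he, rfl⟩
    apply orderOf_eq_prime
    · rw [← map_pow, pow_two, hsq e he, map_one]
    · rw [Ne, hπ1]; exact hDQ e he
  have h23' : ∀ a ∈ Dbar, ∀ b ∈ Dbar, (a * b) ^ 2 = 1 ∨ (a * b) ^ 3 = 1 := by
    rintro _ ⟨a, ha, rfl⟩ _ ⟨b, hb, rfl⟩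
    rcases hTS.2 a ha b hb with h | h
    · left; rw [← map_mul, ← map_pow, h, map_one]
    · right; rw [← map_mul, ← map_pow, h, map_one]
  have hconj' : ∀ g : G ⧸ Q, ∀ e ∈ Dbar, g * e * g⁻¹ ∈ Dbar := by
    intro x
    rintro _ ⟨e, he, rfl⟩
    obtain ⟨g, rfl⟩ := hπs x
    exact ⟨g * e * g⁻¹, hconj g e he, by simp⟩
  have hw' : ∀ a ∈ Dbar, ∀ b ∈ Dbar, Commute a b → a = b := by
    rintro _ ⟨a, ha, rfl⟩ _ ⟨b, hb, rfl⟩ hab
    by_cases hab' : a = b
    · rw [hab']
    have key : a * b ∈ Q := by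
      by_cases hc : Commute a b
      · exact Cfsg.Agent.Lib.Helper27.ThreeTrans.tau_mul_mem_pCore hTS hconj ha (hV' a ha b hb hc) hab'
      · have h3 := Cfsg.Agent.Lib.Helper27.ThreeTrans.cube_of_not_commute hTS ha hb hc
        have h2 : (a * b) ^ 2 ∈ Q := by
          rw [← hπ1, map_pow, map_mul, hab.mul_pow, ← map_pow, ← map_pow, pow_two, pow_two,
            hsq a ha, hsq b hb, map_one, mul_one]
        have h4 : a * b = ((a * b) ^ 2)⁻¹ := by
          rw [eq_inv_iff_mul_eq_one, ← pow_succ']; exact h3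
        rw [h4]; exact inv_mem h2
    have h5 : a⁻¹ * b ∈ Q := by rw [hinv a ha]; exact key
    exact QuotientGroup.eq.mpr h5
  obtain ⟨Pbar, hPd, hDP⟩ := Cfsg.Agent.Lib.Helper12.exists_sylow_three_of_width_one hord' h23'
    hconj' hw' (Set.mem_image_of_mem π hd)
  have hgen' : Subgroup.closure Dbar = ⊤ := by
    rw [hDbar, ← MonoidHom.map_closure, hgen, ← MonoidHom.range_eq_map, MonoidHom.range_eq_top]
    exact hπs
  have htop : Subgroup.zpowers (π d) ⊔ (Pbar : Subgroup (G ⧸ Q)) = ⊤ := by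
    rw [eq_top_iff, ← hgen', Subgroup.closure_le]
    intro e he
    obtain ⟨x, hxP, rfl⟩ := hDP e he
    rw [sup_comm]
    exact Subgroup.mul_mem_sup hxP (Subgroup.mem_zpowers (π d))
  have hnorm : (Pbar : Subgroup (G ⧸ Q)).Normal := by
    rw [← Subgroup.normalizer_eq_top_iff, eq_top_iff, ← htop]
    apply sup_le
    · rw [Subgroup.zpowers_le]; exact hPd
    · exact Subgroup.le_normalizer
  have hdd' : π d * π d = 1 := by rw [← map_mul, hsq d hd, map_one]
  -- decomposition of elements of `G/Q`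
  have hdec : ∀ x : G ⧸ Q, ∃ h : G ⧸ Q, h * h = 1 ∧ (∃ i : ℤ, h = π d ^ i) ∧
      ∃ t ∈ (Pbar : Subgroup (G ⧸ Q)), x = h * t := by
    intro x
    have hx : x ∈ Subgroup.zpowers (π d) ⊔ (Pbar : Subgroup (G ⧸ Q)) := by
      rw [htop]; exact Subgroup.mem_top x
    obtain ⟨h, hh, t, ht, rfl⟩ := Subgroup.mem_sup_of_normal_right.mp hx
    obtain ⟨i, rfl⟩ := Subgroup.mem_zpowers_iff.mp hh
    refine ⟨π d ^ i, ?_, ⟨i, rfl⟩, t, ht, rfl⟩
    rw [← zpow_add, ← two_mul, zpow_mul, zpow_two, hdd', one_zpow]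
  -- the preimage `L` of the Sylow `3`-subgroup of `G/Q`
  set L : Subgroup G := (Pbar : Subgroup (G ⧸ Q)).comap π with hL
  have hLn : L.Normal := hnorm.comap π
  have hQL : Q ≤ L := by
    intro x hx
    show π x ∈ (Pbar : Subgroup (G ⧸ Q))
    rw [(hπ1 x).mpr hx]; exact one_mem _
  have hL3 : ∀ g ∈ L, ∃ k : ℕ, g ^ (3 ^ k) ∈ Q := by
    intro g hg
    obtain ⟨k, hk⟩ := Pbar.2 ⟨π g, hg⟩
    refine ⟨k, ?_⟩
    rw [← hπ1, map_pow]
    have := congrArg Subtype.val hk
    simpa using this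
  have hG2 : ∀ g : G, g * g ∈ L := by
    intro g
    show π (g * g) ∈ (Pbar : Subgroup (G ⧸ Q))
    obtain ⟨h, hhh, -, t, ht, hg⟩ := hdec (π g)
    have hhi : h⁻¹ = h := inv_eq_of_mul_eq_one_right hhh
    have e1 : π (g * g) = (h⁻¹ * t * h⁻¹⁻¹) * t := by
      rw [map_mul, hg, inv_inv]
      calc h * t * (h * t) = (h * h) * (h⁻¹ * t * h) * t := by group
        _ = h⁻¹ * t * h * t := by rw [hhh, one_mul]
    rw [e1]
    exact mul_mem (hnorm.conj_mem t ht h⁻¹) ht
  have hB : ∀ c ∈ L, c⁻¹ * d * c * d ∈ Q → ∃ q ∈ Q, Commute (c * q) d := by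
    intro c _ hcQ
    have he : c⁻¹ * d * c ∈ D := by
      have := hconj c⁻¹ d hd
      rwa [inv_inv] at this
    obtain ⟨q, hq, hqe⟩ := hA _ he hcQ
    refine ⟨q⁻¹, inv_mem hq, ?_⟩
    show c * q⁻¹ * d = d * (c * q⁻¹)
    calc c * q⁻¹ * d = c * q⁻¹ * (q * (c⁻¹ * d * c) * q⁻¹) := by rw [hqe]
      _ = d * (c * q⁻¹) := by group
  obtain ⟨P, hPd'⟩ := Cfsg.Agent.Lib.Helper12.InvSyl.exists_invariant_sylow_three Q L hQp hQL hL3
    hG2 (hsq d hd) hB
  refine ⟨P, hPd', ?_⟩
  -- `P Q = L`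
  have hmap : (P : Subgroup G).map π = (Pbar : Subgroup (G ⧸ Q)) := by
    have h1 := Sylow.coe_mapSurjective hπs P
    have huniq := Sylow.unique_of_normal Pbar hnorm
    have h2 : P.mapSurjective hπs = Pbar := Subsingleton.elim _ _
    rw [← h1, h2]
  have hLeq : (P : Subgroup G) ⊔ Q = L := by
    rw [hL, ← hmap, Subgroup.comap_map_eq, hπ, QuotientGroup.ker_mk']
  rw [sup_assoc, hLeq, eq_top_iff]
  intro g _
  obtain ⟨h, -, ⟨i, rfl⟩, t, ht, hg⟩ := hdec (π g)
  have h1 : d ^ (-i) * g ∈ L := by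
    show π (d ^ (-i) * g) ∈ (Pbar : Subgroup (G ⧸ Q))
    rw [map_mul, map_zpow, hg, zpow_neg, inv_mul_cancel_left]
    exact ht
  have h2 : g = d ^ i * (d ^ (-i) * g) := by rw [zpow_neg, mul_inv_cancel_left]
  rw [h2]
  exact Subgroup.mul_mem_sup (Subgroup.zpow_mem_zpowers d i) h1

end Cfsg.Agent.S5356
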