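import Cfsg.Statements.S5357
import Cfsg.Agent.Lib.Helper25.ReflF3
-- import your own Cfsg.Agent.* helpers here

set_option autoImplicit false
open scoped MatrixGroups
open Cfsg

namespace Cfsg.Agent.S5357

open Matrix Cfsg.Agent.Lib.Helper25.CD Cfsg.Agent.Lib.Helper25.Spin Cfsg.Agent.Lib.Helper25.ReflClass

/-- Let Q be a non-degenerate quadratic form on the n-dimensional coordinate space over the field with three elements, n ≥ 5, and c a non-zero scalar. In the subgroup of the isometry group of Q generated by the reflections in vectors v with Q(v) = c, these reflections form a single conjugacy class of 3-transpositions generating that subgroup. -/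
theorem result (n : ℕ) (hn : 5 ≤ n) (Q : QuadraticForm (ZMod 3) (Fin n → ZMod 3)) (hQ : (QuadraticMap.polarBilin Q).Nondegenerate) (c : ZMod 3) (hc : c ≠ 0) : Cfsg.IsThreeTranspositionClass {g : ↥(Cfsg.reflectionSubgroup (⇑Q) c) | (g : ↥(Cfsg.isometryGroup (ZMod 3) (⇑Q))) ∈ Cfsg.reflectionsOfNorm (⇑Q) c} := by
  have h2 : (2 : ZMod 3) ≠ 0 := by decide
  have hfin : 2 ≤ Module.finrank (ZMod 3) (Fin n → ZMod 3) := by
    rw [Module.finrank_fintype_fun_eq_card, Fintype.card_fin]
    omega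
  -- every member of D is a reflection in a vector of norm c
  have hD : ∀ d : ↥(Cfsg.reflectionSubgroup (⇑Q) c),
      (d : ↥(Cfsg.isometryGroup (ZMod 3) (⇑Q))) ∈ Cfsg.reflectionsOfNorm (⇑Q) c →
      ∃ v : Fin n → ZMod 3, Q v = c ∧ (d : ↥(Cfsg.isometryGroup (ZMod 3) (⇑Q))) = reflM Q v := by
    rintro d ⟨v, hv, hd⟩
    exact ⟨v, hv, eq_reflM_of_coe Q hd⟩
  have hmem : ∀ v : Fin n → ZMod 3, Q v = c → reflM Q v ∈ Cfsg.reflectionSubgroup (⇑Q) c :=
    fun v hv => Subgroup.subset_closure ⟨v, hv, reflM_coe Q v⟩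
  refine ⟨⟨?_, ?_⟩, ?_, ?_⟩
  · intro d hd
    obtain ⟨v, hv, hdv⟩ := hD d hd
    have : Fact (Nat.Prime 2) := ⟨Nat.prime_two⟩
    apply orderOf_eq_prime
    · apply Subtype.ext
      rw [Subgroup.coe_pow, hdv, pow_two, reflM_mul_self]
      rfl
    · intro h
      have h1 : (d : ↥(Cfsg.isometryGroup (ZMod 3) (⇑Q))) = 1 := by rw [h]; rfl
      rw [hdv] at h1
      exact reflM_ne_one Q h2 (by rw [hv]; exact hc) h1
  · intro d hd e he
    obtain ⟨u, hu, hdu⟩ := hD d hd
    obtain ⟨w, hw, hew⟩ := hD e he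
    by_cases hB : QuadraticMap.polar Q u w = 0
    · left
      apply Subtype.ext
      rw [Subgroup.coe_pow, Subgroup.coe_mul, hdu, hew, pow_two,
        reflM_comm_of_perp Q hB]
      have : reflM Q w * reflM Q u * (reflM Q w * reflM Q u) =
          reflM Q w * (reflM Q u * reflM Q w) * reflM Q u := by group
      rw [this, reflM_comm_of_perp Q hB]
      have : reflM Q w * (reflM Q w * reflM Q u) * reflM Q u =
          (reflM Q w * reflM Q w) * (reflM Q u * reflM Q u) := by group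
      rw [this, reflM_mul_self, reflM_mul_self, one_mul]
      rfl
    · right
      apply Subtype.ext
      rw [Subgroup.coe_pow, Subgroup.coe_mul, hdu, hew]
      have hε : (QuadraticMap.polar Q u w / c) ^ 2 = 1 := sq_eq_one_zmod3 _ (div_ne_zero hB hc)
      have hbr := reflM_braid Q hc hε hu hw (by field_simp)
      rw [braid_cube (reflM_mul_self Q u) (reflM_mul_self Q w) hbr]
      rfl
  · obtain ⟨v₀, hv₀⟩ := exists_rep Q hQ hfin c
    refine ⟨⟨reflM Q v₀, hmem v₀ hv₀⟩, ⟨v₀, hv₀, reflM_coe Q v₀⟩, ?_⟩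
    ext e
    show _ ↔ IsConj _ e
    rw [isConj_iff]
    constructor
    · intro he
      obtain ⟨w, hw, hew⟩ := hD e he
      obtain ⟨g, hg, hgc⟩ := exists_conj_F3 Q (by omega) hQ hc hv₀ hw
      refine ⟨⟨g, hg⟩, ?_⟩
      apply Subtype.ext
      rw [Subgroup.coe_mul, Subgroup.coe_mul, Subgroup.coe_inv]
      show g * reflM Q v₀ * g⁻¹ = e
      rw [hgc, hew]
    · rintro ⟨g, rfl⟩
      have e : ((g * ⟨reflM Q v₀, hmem v₀ hv₀⟩ * g⁻¹ : ↥(Cfsg.reflectionSubgroup (⇑Q) c)) :
          ↥(Cfsg.isometryGroup (ZMod 3) (⇑Q))) =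
          reflM Q ((((g : ↥(Cfsg.isometryGroup (ZMod 3) (⇑Q))) : GL (Fin n) (ZMod 3)) :
            Matrix (Fin n) (Fin n) (ZMod 3)) *ᵥ v₀) := by
        rw [Subgroup.coe_mul, Subgroup.coe_mul, Subgroup.coe_inv]
        exact conj_reflM Q _ v₀
      rw [Set.mem_ofPred_eq, e]
      refine ⟨_, ?_, reflM_coe Q _⟩
      have := toOG_mem_OG Q (g : ↥(Cfsg.isometryGroup (ZMod 3) (⇑Q))) v₀
      rw [toOG_apply] at this
      rw [this, hv₀]
  · exact Subgroup.closure_closure_coe_preimage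

end Cfsg.Agent.S5357
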