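import Cfsg.Statements.S5358
-- import your own Cfsg.Agent.* helpers here

set_option autoImplicit false
open scoped MatrixGroups
open Cfsg

namespace Cfsg.Agent.S5358


theorem dot_polarVec {n : ℕ} (Q : QuadraticForm (ZMod 3) (Fin n → ZMod 3)) (u v : Fin n → ZMod 3) :
    Cfsg.polarVec (⇑Q) u ⬝ᵥ v = QuadraticMap.polar (⇑Q) u v := by
  have h := LinearMap.pi_apply_eq_sum_univ (QuadraticMap.polarBilin Q u) v
  rw [QuadraticMap.polarBilin_apply_apply] at h
  rw [h]
  unfold dotProduct Cfsg.polarVec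
  apply Finset.sum_congr rfl
  intro j _
  rw [QuadraticMap.polarBilin_apply_apply, smul_eq_mul, mul_comm]
  congr 2
  ext i
  rw [Pi.single_apply]
  by_cases hij : i = j
  · simp [hij]
  · have : ¬ j = i := fun h => hij h.symm
    simp [hij, this]

theorem commute_one_sub_iff {R : Type*} [Ring R] (X Y : R) :
    Commute (1 - X) (1 - Y) ↔ X * Y = Y * X := by
  have e1 : (1 - X) * (1 - Y) = (1 - X - Y) + X * Y := by noncomm_ring
  have e2 : (1 - Y) * (1 - X) = (1 - X - Y) + Y * X := by noncomm_ring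
  show (1 - X) * (1 - Y) = (1 - Y) * (1 - X) ↔ _
  rw [e1, e2]
  exact add_left_cancel_iff

/-- Let Q be a non-degenerate quadratic form on the n-dimensional coordinate space over the field with three elements and u, v vectors of the same non-zero norm Q(u) = Q(v) spanning different lines (v ≠ u and v ≠ −u). Then the reflection matrices of u and v commute if and only if u and v are orthogonal for the polar form of Q. -/
theorem result (n : ℕ) (Q : QuadraticForm (ZMod 3) (Fin n → ZMod 3)) (hQ : (QuadraticMap.polarBilin Q).Nondegenerate) (u v : Fin n → ZMod 3) (hu : Q u ≠ 0) (huv : Q u = Q v) (h1 : v ≠ u) (h2 : v ≠ -u) : Commute (Cfsg.reflectionMatrix (⇑Q) u) (Cfsg.reflectionMatrix (⇑Q) v) ↔ QuadraticMap.polar (⇑Q) u v = 0 := by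
  have hv : Q v ≠ 0 := huv ▸ hu
  unfold Cfsg.reflectionMatrix
  rw [commute_one_sub_iff, ← huv]
  rw [Matrix.smul_mul, Matrix.mul_smul, Matrix.smul_mul, Matrix.mul_smul,
    Matrix.vecMulVec_mul_vecMulVec, Matrix.vecMulVec_mul_vecMulVec, dot_polarVec, dot_polarVec,
    Matrix.vecMulVec_smul, Matrix.vecMulVec_smul, QuadraticMap.polar_comm (⇑Q) v u]
  constructor
  · intro h
    by_contra hf
    -- cancel the nonzero scalars
    have hinv : (Q u)⁻¹ ≠ 0 := inv_ne_zero hu
    have h' : Matrix.vecMulVec u (Cfsg.polarVec (⇑Q) v) = Matrix.vecMulVec v (Cfsg.polarVec (⇑Q) u) := by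
      have h3 := smul_right_injective (Matrix (Fin n) (Fin n) (ZMod 3)) hinv h
      have h4 := smul_right_injective (Matrix (Fin n) (Fin n) (ZMod 3)) hinv h3
      exact smul_right_injective (Matrix (Fin n) (Fin n) (ZMod 3)) hf h4
    -- some coordinate of polarVec v is nonzero
    obtain ⟨j₀, hj₀⟩ : ∃ j, Cfsg.polarVec (⇑Q) v j ≠ 0 := by
      by_contra hall
      push Not at hall
      have hv0 : v = 0 := by
        apply hQ.1
        intro y
        rw [QuadraticMap.polarBilin_apply_apply, ← dot_polarVec]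
        unfold dotProduct
        apply Finset.sum_eq_zero
        intro j _
        rw [hall j, zero_mul]
      apply hv
      rw [hv0, QuadraticMap.map_zero]
    have hu' : u = (Cfsg.polarVec (⇑Q) u j₀ / Cfsg.polarVec (⇑Q) v j₀) • v := by
      ext i
      have := congrFun (congrFun h' i) j₀
      rw [Matrix.vecMulVec_apply, Matrix.vecMulVec_apply] at this
      rw [Pi.smul_apply, smul_eq_mul]
      field_simp
      rw [this, mul_comm]
    have hQu : Q u = ((Cfsg.polarVec (⇑Q) u j₀ / Cfsg.polarVec (⇑Q) v j₀) *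
        (Cfsg.polarVec (⇑Q) u j₀ / Cfsg.polarVec (⇑Q) v j₀)) * Q v := by
      conv_lhs => rw [hu']
      rw [QuadraticMap.map_smul, smul_eq_mul]
    rw [← huv] at hQu
    have hl : (Cfsg.polarVec (⇑Q) u j₀ / Cfsg.polarVec (⇑Q) v j₀) *
        (Cfsg.polarVec (⇑Q) u j₀ / Cfsg.polarVec (⇑Q) v j₀) = 1 := by
      have : (1 : ZMod 3) * Q u = ((Cfsg.polarVec (⇑Q) u j₀ / Cfsg.polarVec (⇑Q) v j₀) *
        (Cfsg.polarVec (⇑Q) u j₀ / Cfsg.polarVec (⇑Q) v j₀)) * Q u := by rw [one_mul]; exact hQu
      exact (mul_right_cancel₀ hu this).symm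
    rcases mul_self_eq_one_iff.mp hl with hl1 | hl1
    · rw [hl1, one_smul] at hu'
      exact h1 hu'.symm
    · rw [hl1, neg_one_smul] at hu'
      apply h2
      rw [hu', neg_neg]
  · intro h
    rw [h, zero_smul, zero_smul]

end Cfsg.Agent.S5358
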