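import Cfsg.Statements.S5360
import Cfsg.Agent.Lib.Helper25.ReflPrim
import Cfsg.Agent.S5357
import Cfsg.Agent.S5354
-- import your own Cfsg.Agent.* helpers here

set_option autoImplicit false
open scoped MatrixGroups
open Cfsg

namespace Cfsg.Agent.S5360

/-- Let Q be a non-degenerate quadratic form on the n-dimensional coordinate space over the field with three elements, n ≥ 5, c a non-zero scalar, and R the subgroup of the isometry group generated by the reflections of norm c. Then the commutator subgroup of R is quasisimple of index at most 2, the generalized Fitting subgroup of R is the product of the centre and the commutator subgroup, and R acts primitively by conjugation on its reflections of norm c. -/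
theorem result (n : ℕ) (hn : 5 ≤ n) (Q : QuadraticForm (ZMod 3) (Fin n → ZMod 3)) (hQ : (QuadraticMap.polarBilin Q).Nondegenerate) (c : ZMod 3) (hc : c ≠ 0) : Cfsg.IsQuasisimple (commutator ↥(Cfsg.reflectionSubgroup (⇑Q) c)) ∧ (commutator ↥(Cfsg.reflectionSubgroup (⇑Q) c)).index ≤ 2 ∧ Cfsg.generalizedFittingSubgroup ↥(Cfsg.reflectionSubgroup (⇑Q) c) = Subgroup.center ↥(Cfsg.reflectionSubgroup (⇑Q) c) ⊔ commutator ↥(Cfsg.reflectionSubgroup (⇑Q) c) ∧ Cfsg.IsPrimitiveUnderConj {g : ↥(Cfsg.reflectionSubgroup (⇑Q) c) | (g : ↥(Cfsg.isometryGroup (ZMod 3) (⇑Q))) ∈ Cfsg.reflectionsOfNorm (⇑Q) c} := by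
  classical
  have hD3 := Cfsg.Agent.S5357.result n hn Q hQ c hc
  have hprim := Cfsg.Agent.Lib.Helper25.ReflClass.isPrimitiveUnderConj_refl Q hn hQ hc
  have h2 : (2 : ZMod 3) ≠ 0 := by decide
  have hfin : 2 ≤ Module.finrank (ZMod 3) (Fin n → ZMod 3) := by
    rw [Cfsg.Agent.Lib.Helper25.ReflClass.finrank_fin]
    omega
  have hmem : ∀ v : Fin n → ZMod 3, Q v = c →
      Cfsg.Agent.Lib.Helper25.CD.reflM Q v ∈ Cfsg.reflectionSubgroup (⇑Q) c :=
    fun v hv => Subgroup.subset_closure ⟨v, hv, Cfsg.Agent.Lib.Helper25.CD.reflM_coe Q v⟩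
  -- three-transposition group
  have hTG : Cfsg.IsThreeTranspositionGroup {g : ↥(Cfsg.reflectionSubgroup (⇑Q) c) |
      (g : ↥(Cfsg.isometryGroup (ZMod 3) (⇑Q))) ∈ Cfsg.reflectionsOfNorm (⇑Q) c} := by
    refine ⟨hD3.1, ?_, hD3.2.2⟩
    obtain ⟨d₀, hd₀, hconj⟩ := hD3.2.1
    intro g d hd
    rw [hconj] at hd ⊢
    have hd' : IsConj d₀ d := hd
    show IsConj d₀ (g * d * g⁻¹)
    exact hd'.trans (isConj_iff.2 ⟨g, rfl⟩)
  -- two commuting members
  have hw : ∃ a ∈ {g : ↥(Cfsg.reflectionSubgroup (⇑Q) c) |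
      (g : ↥(Cfsg.isometryGroup (ZMod 3) (⇑Q))) ∈ Cfsg.reflectionsOfNorm (⇑Q) c},
      ∃ b ∈ {g : ↥(Cfsg.reflectionSubgroup (⇑Q) c) |
      (g : ↥(Cfsg.isometryGroup (ZMod 3) (⇑Q))) ∈ Cfsg.reflectionsOfNorm (⇑Q) c},
      a ≠ b ∧ Commute a b := by
    obtain ⟨v, hv⟩ := Cfsg.Agent.Lib.Helper25.Spin.exists_rep Q hQ hfin c
    obtain ⟨w, hw, hvw⟩ := Cfsg.Agent.Lib.Helper25.ReflClass.exists_perp_one Q (by omega) hQ hc hv c
    refine ⟨⟨_, hmem v hv⟩, ⟨v, hv, Cfsg.Agent.Lib.Helper25.CD.reflM_coe Q v⟩,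
      ⟨_, hmem w hw⟩, ⟨w, hw, Cfsg.Agent.Lib.Helper25.CD.reflM_coe Q w⟩, ?_, ?_⟩
    · intro h
      have := congrArg Subtype.val h
      exact Cfsg.Agent.Lib.Helper25.ReflClass.reflM_ne_of_perp Q (by rw [hw]; exact hc) hvw this
    · apply Subtype.ext
      exact Cfsg.Agent.Lib.Helper25.ReflClass.reflM_comm_of_perp Q hvw
  obtain ⟨⟨L, hLn, hLq, hLi, hF⟩, -, -⟩ := Cfsg.Agent.S5354.result hTG hprim hw
  have hL : L = commutator ↥(Cfsg.reflectionSubgroup (⇑Q) c) := by
    apply le_antisymm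
    · have := hLq.1
      have h1 : ⁅L, L⁆ = L := Subgroup.commutator_eq_self
      rw [← h1, commutator_def]
      exact Subgroup.commutator_mono le_top le_top
    · rw [commutator_def, Subgroup.commutator_le]
      intro a _ b _
      have hidx : L.index = 1 ∨ L.index = 2 := by
        have h0 : L.index ≠ 0 := Subgroup.index_ne_zero_of_finite
        omega
      rcases hidx with h | h
      · rw [Subgroup.index_eq_one] at h
        rw [h]
        exact Subgroup.mem_top _
      · rw [commutatorElement_def, mul_assoc,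
          Subgroup.mul_mem_iff_of_index_two h, Subgroup.mul_mem_iff_of_index_two h,
          Subgroup.mul_mem_iff_of_index_two h, inv_mem_iff, inv_mem_iff]
  subst hL
  exact ⟨hLq, hLi, by rw [hF, sup_comm], hprim⟩

end Cfsg.Agent.S5360
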