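import Cfsg.Statements.S5363
-- import your own Cfsg.Agent.* helpers here

set_option autoImplicit false
open Cfsg

namespace Cfsg.Agent.S5363

/-- Let D be a conjugation-invariant set of involutions of a finite group G. Then every product of two members of D has odd order or order 2 if and only if, for every a in D and every b in D different from a and commuting with a, the members of D commuting with a b are exactly those commuting with both a and b. -/
theorem result {G : Type*} [Group G] [Finite G] {D : Set G} (hinv : ∀ d ∈ D, orderOf d = 2) (hconj : ∀ g : G, ∀ d ∈ D, g * d * g⁻¹ ∈ D) : (∀ a ∈ D, ∀ b ∈ D, Odd (orderOf (a * b)) ∨ orderOf (a * b) = 2) ↔ ∀ a ∈ D, ∀ b ∈ D, b ≠ a → Commute a b → {y : G | y ∈ D ∧ Commute (a * b) y} = {y : G | y ∈ D ∧ Commute a y} ∩ {y : G | y ∈ D ∧ Commute b y} := by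
  have hsq : ∀ d ∈ D, d * d = 1 := by
    intro d hd
    have h := hinv d hd
    rw [← pow_two, ← h, pow_orderOf_eq_one]
  have hinv' : ∀ d ∈ D, d⁻¹ = d := fun d hd => inv_eq_of_mul_eq_one_left (hsq d hd)
  have hcomm_of_sq : ∀ x ∈ D, ∀ y ∈ D, (x * y) ^ 2 = 1 → Commute x y := by
    intro x hx y hy h
    have h1 : x * y = (x * y)⁻¹ := by
      rw [pow_two] at h
      exact eq_inv_of_mul_eq_one_left h
    show x * y = y * x
    rw [h1, mul_inv_rev, hinv' x hx, hinv' y hy]
  constructor
  · intro h a ha b hb hba hab
    have hz2 : (a * b) * (a * b) = 1 := by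
      have : a * b = b * a := hab
      calc a * b * (a * b) = a * (b * a) * b := by group
        _ = a * (a * b) * b := by rw [this]
        _ = (a * a) * (b * b) := by group
        _ = 1 := by rw [hsq a ha, hsq b hb, one_mul]
    ext y
    simp only [Set.mem_ofPred_eq, Set.mem_inter_iff]
    constructor
    · rintro ⟨hy, hzy⟩
      have hza : Commute (a * b) a := (Commute.refl a).mul_left hab.symm
      have hbyz : b * y = (a * b) * (a * y) := by
        have : a * b = b * a := hab
        calc b * y = (a * a) * b * y := by rw [hsq a ha, one_mul]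
          _ = a * (a * b) * y := by group
          _ = a * (b * a) * y := by rw [this]
          _ = (a * b) * (a * y) := by group
      have hzay : Commute (a * b) (a * y) := hza.mul_right hzy
      have hay2 : (a * y) ^ 2 = 1 := by
        rcases h a ha y hy with hodd | h2
        · rcases h b hb y hy with hodd' | h2'
          · exfalso
            obtain ⟨j, hj⟩ := hodd'
            have h1 : (b * y) ^ (orderOf (b * y)) = 1 := pow_orderOf_eq_one _
            rw [hbyz, hzay.mul_pow] at h1
            rw [← hbyz] at h1
            have hzm : (a * b) ^ (orderOf (b * y)) = a * b := by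
              rw [hj, pow_succ, pow_mul, pow_two, hz2, one_pow, one_mul]
            rw [hzm] at h1
            have hz : a * b = ((a * y) ^ (orderOf (b * y)))⁻¹ := eq_inv_of_mul_eq_one_left h1
            have hzn : (a * b) ^ (orderOf (a * y)) = 1 := by
              rw [hz, inv_pow, ← pow_mul, mul_comm, pow_mul, pow_orderOf_eq_one, one_pow, inv_one]
            have hz2' : (a * b) ^ 2 = 1 := by rw [pow_two]; exact hz2
            have hc : Nat.Coprime (orderOf (a * y)) 2 := Nat.coprime_two_right.mpr hodd
            have := pow_gcd_eq_one.mpr ⟨hzn, hz2'⟩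
            rw [hc, pow_one] at this
            apply hba
            have hb' : b = a⁻¹ := eq_inv_of_mul_eq_one_right this
            rw [hb', hinv' a ha]
          · have h1 : (b * y) ^ 2 = 1 := by rw [← h2', pow_orderOf_eq_one]
            rw [hbyz, hzay.mul_pow, pow_two (a * b), hz2, one_mul] at h1
            exact h1
        · rw [← h2, pow_orderOf_eq_one]
      have hay : Commute a y := hcomm_of_sq a ha y hy hay2
      refine ⟨⟨hy, hay⟩, ⟨hy, ?_⟩⟩
      have hb' : b = a * (a * b) := by
        calc b = (a * a) * b := by rw [hsq a ha, one_mul]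
          _ = a * (a * b) := by group
      rw [hb']
      exact hay.mul_left hzy
    · rintro ⟨⟨hy, hay⟩, ⟨_, hby⟩⟩
      exact ⟨hy, hay.mul_left hby⟩
  · intro h a ha b hb
    by_contra hcon
    rw [not_or] at hcon
    obtain ⟨hnodd, hn2⟩ := hcon
    have heven : Even (orderOf (a * b)) := Nat.not_odd_iff_even.mp hnodd
    obtain ⟨k, hk⟩ := heven
    have hnpos : 0 < orderOf (a * b) := orderOf_pos _
    have hkpos : 0 < k := by omega
    have hw2 : (a * b) ^ k * (a * b) ^ k = 1 := by rw [← pow_add, ← hk, pow_orderOf_eq_one]
    have hw1 : (a * b) ^ k ≠ 1 := by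
      intro hw
      have := Nat.le_of_dvd hkpos (orderOf_dvd_of_pow_eq_one hw)
      omega
    have hwinv : ((a * b) ^ k)⁻¹ = (a * b) ^ k := inv_eq_of_mul_eq_one_left hw2
    have hra : a * (a * b) * a⁻¹ = (a * b)⁻¹ := by
      rw [mul_inv_rev, hinv' a ha, hinv' b hb]
      calc a * (a * b) * a = (a * a) * (b * a) := by group
        _ = b * a := by rw [hsq a ha, one_mul]
    have hrb : b * (a * b) * b⁻¹ = (a * b)⁻¹ := by
      rw [mul_inv_rev, hinv' a ha, hinv' b hb]
      calc b * (a * b) * b = b * a * (b * b) := by group
        _ = b * a := by rw [hsq b hb, mul_one]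
    have hrapow : ∀ j : ℕ, a * (a * b) ^ j * a⁻¹ = ((a * b) ^ j)⁻¹ := by
      intro j
      rw [← conj_pow, hra, inv_pow]
    have hwa : a * (a * b) ^ k * a⁻¹ = (a * b) ^ k := by rw [hrapow, hwinv]
    have hwb : b * (a * b) ^ k * b⁻¹ = (a * b) ^ k := by
      rw [← conj_pow, hrb, inv_pow, hwinv]
    have hcD : (a * b) ^ k * a ∈ D := by
      rcases Nat.even_or_odd' k with ⟨j, hj | hj⟩
      · have : (a * b) ^ k * a = (a * b) ^ j * a * ((a * b) ^ j)⁻¹ := by
          rw [← hrapow j, hj, two_mul, pow_add, hinv' a ha]
          calc (a * b) ^ j * (a * b) ^ j * a = (a * b) ^ j * 1 * (a * b) ^ j * a := by group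
            _ = (a * b) ^ j * (a * a) * (a * b) ^ j * a := by rw [hsq a ha]
            _ = (a * b) ^ j * a * (a * (a * b) ^ j * a) := by group
        rw [this]
        exact hconj _ a ha
      · have key : ∀ X R : G, X * R = R * X → X * X * R * a = X * (R * a) * (a * X * a) := by
          intro X R hXR
          calc X * X * R * a = X * (X * R) * a := by group
            _ = X * (R * X) * a := by rw [hXR]
            _ = X * R * 1 * X * a := by group
            _ = X * R * (a * a) * X * a := by rw [hsq a ha]
            _ = X * (R * a) * (a * X * a) := by group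
        have hc : Commute ((a * b) ^ j) (a * b) := (Commute.refl (a * b)).pow_left j
        have : (a * b) ^ k * a = (a * b) ^ j * (a * b * a⁻¹) * ((a * b) ^ j)⁻¹ := by
          rw [← hrapow j, hj, pow_succ, two_mul, pow_add, hinv' a ha]
          exact key _ _ hc
        rw [this]
        exact hconj _ _ (hconj a b hb)
    have hne : (a * b) ^ k * a ≠ a := by
      intro hc
      apply hw1
      calc (a * b) ^ k = (a * b) ^ k * a * a⁻¹ := by group
        _ = 1 := by rw [hc, mul_inv_cancel]
    have hwa' : a * (a * b) ^ k = (a * b) ^ k * a := by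
      calc a * (a * b) ^ k = (a * (a * b) ^ k * a⁻¹) * a := by group
        _ = (a * b) ^ k * a := by rw [hwa]
    have hcomm : Commute a ((a * b) ^ k * a) := by
      show a * ((a * b) ^ k * a) = (a * b) ^ k * a * a
      rw [← mul_assoc, hwa']
    have hset := h a ha _ hcD hne hcomm
    have hprod : a * ((a * b) ^ k * a) = (a * b) ^ k := by
      rw [← mul_assoc, hwa', mul_assoc, hsq a ha, mul_one]
    have hbmem : b ∈ {y : G | y ∈ D ∧ Commute (a * ((a * b) ^ k * a)) y} := by
      refine ⟨hb, ?_⟩
      rw [hprod]
      show (a * b) ^ k * b = b * (a * b) ^ k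
      calc (a * b) ^ k * b = (b * (a * b) ^ k * b⁻¹) * b := by rw [hwb]
        _ = b * (a * b) ^ k := by group
    rw [hset] at hbmem
    have hab : Commute a b := hbmem.1.2
    have hab2 : (a * b) ^ 2 = 1 := by
      have : a * b = b * a := hab
      rw [pow_two]
      calc a * b * (a * b) = a * (b * a) * b := by group
        _ = a * (a * b) * b := by rw [this]
        _ = (a * a) * (b * b) := by group
        _ = 1 := by rw [hsq a ha, hsq b hb, one_mul]
    have hdvd : orderOf (a * b) ∣ 2 := orderOf_dvd_of_pow_eq_one hab2
    have hle : orderOf (a * b) ≤ 2 := Nat.le_of_dvd (by norm_num) hdvd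
    omega

end Cfsg.Agent.S5363
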