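import Cfsg.Statements.S5366
import Cfsg.Agent.Lib.Helper27.Fischer3

set_option autoImplicit false
open Cfsg

namespace Cfsg.Agent.S5366

/-- Let L be a nondegenerate Fischer space on the point type X (every point on a line). Then for every point x the map t(x) — sending a point collinear with x to the third point of their common line and fixing every other point — is a permutation of X of order 2 and an automorphism of the line system; and the set of all t(x) satisfies the 3-transposition order conditions in the permutation group of X (any two have product of order at most 3). -/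
theorem result {X : Type*} (L : Set (Set X)) (hL : Cfsg.IsFischerSpace L) (hnd : Cfsg.LineSystem.IsNondegenerate L) : (∀ x : X, ∃ σ : Equiv.Perm X, ⇑σ = Cfsg.LineSystem.lineMap L x ∧ orderOf σ = 2 ∧ Cfsg.LineSystem.IsIso L L σ) ∧ Cfsg.IsThreeTranspositionSet {σ : Equiv.Perm X | ∃ x : X, ⇑σ = Cfsg.LineSystem.lineMap L x} := by
  classical
  have hLin := Cfsg.Agent.Lib.Helper27.Fischer.lin_of_fischer hL
  have hiso := fun x => Cfsg.Agent.Lib.Helper27.Fischer.tau_isIso hL
    Cfsg.Agent.Lib.Helper27.Fischer.planeProp_dual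
    Cfsg.Agent.Lib.Helper27.Fischer.planeProp_affine x
  have hsq := fun x => Cfsg.Agent.Lib.Helper27.Fischer.tau_mul_self hLin x
  have hord : ∀ x : X, orderOf (Cfsg.Agent.Lib.Helper27.Fischer.tau hLin x) = 2 := by
    intro x
    apply orderOf_eq_prime
    · rw [pow_two]; exact hsq x
    · intro h1
      obtain ⟨l, hl, hxl⟩ := hnd x
      have h3 := hLin.three l hl
      obtain ⟨y, hy, hyx⟩ : ∃ y ∈ l, y ≠ x := by
        by_contra hcon
        push Not at hcon
        have : l ⊆ {x} := fun w hw => hcon w hw
        have := Set.ncard_le_ncard this (Set.finite_singleton x)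
        rw [h3, Set.ncard_singleton] at this
        omega
      obtain ⟨z, hz, -⟩ := Cfsg.Agent.Lib.Helper27.Fischer.exists_third_of_mem hLin hl hxl hy hyx.symm
      have h2 : Cfsg.Agent.Lib.Helper27.Fischer.tau hLin x y = z :=
        Cfsg.Agent.Lib.Helper27.Fischer.lineMap_eq_of_third hLin hz
      rw [h1] at h2
      exact hz.2.1 h2.symm
  refine ⟨fun x => ⟨Cfsg.Agent.Lib.Helper27.Fischer.tau hLin x, rfl, hord x, hiso x⟩, ?_, ?_⟩
  · rintro σ ⟨x, hx⟩
    have : σ = Cfsg.Agent.Lib.Helper27.Fischer.tau hLin x := Equiv.ext (fun y => congrFun hx y)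
    rw [this]
    exact hord x
  · rintro σ ⟨x, hx⟩ ρ ⟨y, hy⟩
    have hσ : σ = Cfsg.Agent.Lib.Helper27.Fischer.tau hLin x := Equiv.ext (fun w => congrFun hx w)
    have hρ : ρ = Cfsg.Agent.Lib.Helper27.Fischer.tau hLin y := Equiv.ext (fun w => congrFun hy w)
    rw [hσ, hρ]
    set tx := Cfsg.Agent.Lib.Helper27.Fischer.tau hLin x with htx
    set ty := Cfsg.Agent.Lib.Helper27.Fischer.tau hLin y with hty
    have hxinv : tx⁻¹ = tx := Cfsg.Agent.Lib.Helper27.Fischer.tau_inv hLin x
    have hyinv : ty⁻¹ = ty := Cfsg.Agent.Lib.Helper27.Fischer.tau_inv hLin y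
    by_cases h : ∃ z, Cfsg.Agent.Lib.Helper27.Fischer.Third L x y z
    · right
      obtain ⟨z, hz⟩ := h
      have h1 : tx * ty * tx = Cfsg.Agent.Lib.Helper27.Fischer.tau hLin z := by
        have := Cfsg.Agent.Lib.Helper27.Fischer.tau_conj hLin tx (hiso x) y
        rw [hxinv] at this
        rw [this]
        congr 1
        exact Cfsg.Agent.Lib.Helper27.Fischer.lineMap_eq_of_third hLin hz
      have h2 : ty * tx * ty = Cfsg.Agent.Lib.Helper27.Fischer.tau hLin z := by
        have := Cfsg.Agent.Lib.Helper27.Fischer.tau_conj hLin ty (hiso y) x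
        rw [hyinv] at this
        rw [this]
        congr 1
        exact Cfsg.Agent.Lib.Helper27.Fischer.lineMap_eq_of_third hLin hz.symm_xy
      have h3 : (tx * ty) ^ 3 = (tx * ty * tx) * (ty * tx * ty) := by
        simp only [pow_succ, pow_zero, one_mul, mul_assoc]
      rw [h3, h1, h2]
      exact hsq z
    · left
      have h1 : tx * ty * tx = ty := by
        have := Cfsg.Agent.Lib.Helper27.Fischer.tau_conj hLin tx (hiso x) y
        rw [hxinv] at this
        rw [this]
        congr 1
        exact Cfsg.Agent.Lib.Helper27.Fischer.lineMap_eq_self h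
      have h3 : (tx * ty) ^ 2 = (tx * ty * tx) * ty := by
        simp only [pow_succ, pow_zero, one_mul, mul_assoc]
      rw [h3, h1]
      exact hsq y

end Cfsg.Agent.S5366
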