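import Cfsg.Statements.S5382
-- import your own Cfsg.Agent.* helpers here
import Cfsg.Agent.Lib.Helper14.J2RecZb

set_option autoImplicit false
open Cfsg

namespace Cfsg.Agent.S5382

/-- Let G be a finite group of Hall–Janko type: it has more than one class of involutions and an involution z whose centralizer C has generalized Fitting subgroup Q extraspecial of order 32 with C/Q isomorphic to the commutator subgroup of the isometry group of the elliptic quadratic form in dimension 4 over the field with two elements (the alternating group of degree 5), with z not weakly closed in Q. Then for every involution t not conjugate to z, the centralizer of t is isomorphic to the direct product of an elementary abelian group of order 4 and the alternating group of degree 5, and the normalizer of the largest normal 2-subgroup of that centralizer is isomorphic to the direct product of the alternating groups of degrees 4 and 5. -/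
theorem result {G : Type*} [Group G] [Finite G] (z : G) (hz : orderOf z = 2) (Q : Subgroup (Subgroup.centralizer ({z} : Set G))) [Q.Normal] (hF : Cfsg.generalizedFittingSubgroup (Subgroup.centralizer ({z} : Set G)) = Q) (hQ : Cfsg.IsExtraspecial 2 Q) (hcard : Nat.card Q = 2 ^ 5) (e : (Subgroup.centralizer ({z} : Set G)) ⧸ Q ≃* Cfsg.Omega (ZMod 2) (Cfsg.quadFormMinus 1 (ZMod 2) 1 1)) (hnwc : ∃ g : G, (∃ hq : g * z * g⁻¹ ∈ Subgroup.centralizer ({z} : Set G), (⟨g * z * g⁻¹, hq⟩ : Subgroup.centralizer ({z} : Set G)) ∈ Q) ∧ g * z * g⁻¹ ≠ z) (hcl : ∃ x y : G, orderOf x = 2 ∧ orderOf y = 2 ∧ ¬ IsConj x y) (t : G) (ht : orderOf t = 2) (htz : ¬ IsConj t z) : Nonempty (↥(Subgroup.centralizer ({t} : Set G)) ≃* (Multiplicative (ZMod 2) × Multiplicative (ZMod 2)) × alternatingGroup (Fin 5)) ∧ Nonempty (↥(Subgroup.normalizer (((Cfsg.pCore 2 ↥(Subgroup.centralizer ({t} : Set G))).map (Subgroup.subtype (Subgroup.centralizer ({t} : Set G))) : Subgroup G) : Set G)) ≃* alternatingGroup (Fin 4) × alternatingGroup (Fin 5)) := by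
  classical
  have S := Cfsg.Agent.Lib.Helper14.J2Rec.za5_of_statement z hz Q hF hQ hcard e
  have hnwc' : ∃ g : G, g * z * g⁻¹ ∈ Q.map (Subgroup.centralizer ({z} : Set G)).subtype ∧
      g * z * g⁻¹ ≠ z := by
    obtain ⟨g, ⟨hq, hqQ⟩, hne⟩ := hnwc
    exact ⟨g, ⟨⟨_, hq⟩, hqQ, rfl⟩, hne⟩
  obtain ⟨t₀, hgp, hall⟩ := S.exists_GP hnwc' hcl
  have hconj : IsConj t₀ t := by
    rcases hall t ht with h | h
    · exact absurd h.symm htz
    · exact h
  obtain ⟨g, hg⟩ := isConj_iff.mp hconj
  have hgp' := hgp.conj g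
  rw [hg] at hgp'
  have hall' : ∀ x : G, orderOf x = 2 → IsConj (g * z * g⁻¹) x ∨ IsConj t x := by
    intro x hx
    rcases hall x hx with h | h
    · left
      exact (isConj_iff.mpr ⟨g, rfl⟩ : IsConj z (g * z * g⁻¹)).symm.trans h
    · right
      exact hconj.symm.trans h
  obtain ⟨V, B, hT, hV4, hVz, hBn, hVc, -, -, hCt⟩ := hgp'.structure_thm hall'
  have hTS : Cfsg.Agent.Lib.Helper14.J2Rec.TS (g * z * g⁻¹) t V B :=
    ⟨hT, hV4, hVz, hBn, hVc, hCt⟩
  refine ⟨hTS.cent_iso, ?_⟩
  rw [hTS.pCore_eq]
  exact hTS.normalizer_iso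

end Cfsg.Agent.S5382
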