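import Cfsg.Statements.S5392
-- import your own Cfsg.Agent.* helpers here
import Cfsg.Agent.Lib.Helper14.LeechMinCount
import Cfsg.Agent.Lib.Helper14.LeechOrbit
import Cfsg.Agent.Lib.Helper14.LeechCross
import Cfsg.Agent.Lib.Helper14.LeechShort
import Cfsg.Agent.Lib.Helper14.LeechGen
import Cfsg.Agent.Lib.Helper14.Co0Center
import Cfsg.Agent.S1573

set_option autoImplicit false
open Cfsg

namespace Cfsg.Agent.S5392

open Cfsg.Agent.Lib.Helper14.Leech Cfsg.Agent.Lib.Helper14.LeechCount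
  Cfsg.Agent.Lib.Helper14.LeechMinCount Cfsg.Agent.Lib.Helper14.LeechOrbit
  Cfsg.Agent.Lib.Helper14.LeechCross Cfsg.Agent.Lib.Helper14.LeechMono
  Cfsg.Agent.Lib.Helper14.Co0Center

/-! ### explicit vectors -/

def a1 : GolayPt → ℤ := fun i => if i = none then 5 else 1
def a2 : GolayPt → ℤ := -(fun i => if i = some 0 then 5 else 1)
def b1 : GolayPt → ℤ := fun i => if i = none ∨ i = some 0 ∨ i = some 1 ∨ i = some 2 then 4 else 0
def b2 : GolayPt → ℤ :=
  fun i => if i = none ∨ i = some 0 ∨ i = some 1 then -4 else if i = some 3 then 4 else 0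

theorem a1_mem : a1 ∈ leechLattice := mem_odd _ (by decide) (by decide)
theorem a2_mem : a2 ∈ leechLattice := by
  apply AddSubgroup.neg_mem
  exact mem_odd _ (by decide) (by decide)
theorem b1_mem : b1 ∈ leechLattice := mem_even _ (by decide) (by decide)
theorem b2_mem : b2 ∈ leechLattice := mem_even _ (by decide) (by decide)

theorem a1_norm : sqNorm a1 = 48 := by decide +kernel
theorem a2_norm : sqNorm a2 = 48 := by decide +kernel
theorem a12_norm : sqNorm (a1 + a2) = 32 := by decide +kernel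
theorem b1_norm : sqNorm b1 = 64 := by decide +kernel
theorem b2_norm : sqNorm b2 = 64 := by decide +kernel
theorem b12_norm : sqNorm (b1 + b2) = 32 := by decide +kernel

/-! ### automorphisms acting as a scalar -/

theorem scalar_of_min (g : Equiv.Perm ↥leechLattice) (hg : g ∈ Co0) (s : ℤ)
    (h : ∀ y : ↥leechLattice, sqNorm (y : GolayPt → ℤ) = 32 → g y = s • y) :
    ∀ y : ↥leechLattice, g y = s • y := by
  intro y
  have hy : (y : GolayPt → ℤ) ∈ Lmin := by rw [Lmin_eq]; exact y.2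
  have key : ∀ x (hx : x ∈ Lmin), ∀ hx' : x ∈ leechLattice,
      g ⟨x, hx'⟩ = s • (⟨x, hx'⟩ : ↥leechLattice) := by
    intro x hx
    unfold Lmin at hx
    induction hx using AddSubgroup.closure_induction with
    | mem x hx =>
      intro hx'
      exact h ⟨x, hx'⟩ hx.2
    | zero =>
      intro hx'
      have : (⟨0, hx'⟩ : ↥leechLattice) = 0 := rfl
      rw [this, co0_map_zero g hg, smul_zero]
    | add x y hx hy ihx ihy =>
      intro hx'
      have hxL : x ∈ leechLattice := by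
        have : x ∈ Lmin := hx
        rwa [Lmin_eq] at this
      have hyL : y ∈ leechLattice := by
        have : y ∈ Lmin := hy
        rwa [Lmin_eq] at this
      have : (⟨x + y, hx'⟩ : ↥leechLattice) = ⟨x, hxL⟩ + ⟨y, hyL⟩ := rfl
      rw [this, hg.1, ihx hxL, ihy hyL, smul_add]
    | neg x hx ihx =>
      intro hx'
      have hxL : x ∈ leechLattice := by
        have : x ∈ Lmin := hx
        rwa [Lmin_eq] at this
      have : (⟨-x, hx'⟩ : ↥leechLattice) = -⟨x, hxL⟩ := rfl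
      rw [this, co0_map_neg g hg, ihx hxL, smul_neg]
  exact key y.1 hy y.2

theorem center_of_scalar (g : ↥Co0) (s : ℤ)
    (h : ∀ y : ↥leechLattice, (g : Equiv.Perm ↥leechLattice) y = s • y) :
    g ∈ Subgroup.center ↥Co0 := by
  rw [Subgroup.mem_center_iff]
  intro k
  apply Subtype.ext
  apply Equiv.ext
  intro y
  show (k : Equiv.Perm ↥leechLattice) ((g : Equiv.Perm ↥leechLattice) y)
    = (g : Equiv.Perm ↥leechLattice) ((k : Equiv.Perm ↥leechLattice) y)
  rw [h, h]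
  let K' : ↥leechLattice →+ ↥leechLattice := AddMonoidHom.mk' k.1 k.2.1
  exact map_zsmul K' s y

/-! ### connectivity of the minimal vectors -/

theorem dotInt_neg_right (x y : GolayPt → ℤ) : dotInt x (-y) = -dotInt x y := by
  unfold dotInt
  rw [← Finset.sum_neg_distrib]
  refine Finset.sum_congr rfl fun i _ => ?_
  rw [Pi.neg_apply]; ring

theorem exists_link (v w : ↥leechLattice) (hv : sqNorm (v : GolayPt → ℤ) = 32)
    (hw : sqNorm (w : GolayPt → ℤ) = 32) :
    ∃ x : ↥leechLattice, sqNorm (x : GolayPt → ℤ) = 32 ∧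
      dotInt (v : GolayPt → ℤ) (x : GolayPt → ℤ) ≠ 0 ∧
      dotInt (w : GolayPt → ℤ) (x : GolayPt → ℤ) ≠ 0 := by
  by_contra hcon
  push Not at hcon
  have h1 := (Cfsg.Agent.S1573.result v.1 v.2 hv).2.2
  have h2 := (Cfsg.Agent.S1573.result w.1 w.2 hw).2.2
  have hsub : {x : GolayPt → ℤ | x ∈ leechLattice ∧ sqNorm x = 32}
      ⊆ {x : GolayPt → ℤ | x ∈ leechLattice ∧ sqNorm x = 32 ∧ dotInt (v : GolayPt → ℤ) x = 0}
        ∪ {x : GolayPt → ℤ | x ∈ leechLattice ∧ sqNorm x = 32 ∧ dotInt (w : GolayPt → ℤ) x = 0} := by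
    rintro x ⟨hx, hn⟩
    by_cases hd : dotInt (v : GolayPt → ℤ) x = 0
    · left; exact ⟨hx, hn, hd⟩
    · right; exact ⟨hx, hn, hcon ⟨x, hx⟩ hn hd⟩
  have hf1 : {x : GolayPt → ℤ | x ∈ leechLattice ∧ sqNorm x = 32
      ∧ dotInt (v : GolayPt → ℤ) x = 0}.Finite :=
    Set.finite_of_ncard_ne_zero (by rw [h1]; norm_num)
  have hf2 : {x : GolayPt → ℤ | x ∈ leechLattice ∧ sqNorm x = 32
      ∧ dotInt (w : GolayPt → ℤ) x = 0}.Finite :=
    Set.finite_of_ncard_ne_zero (by rw [h2]; norm_num)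
  have h3 := Set.ncard_le_ncard hsub (hf1.union hf2)
  have h4 := Set.ncard_union_le
    {x : GolayPt → ℤ | x ∈ leechLattice ∧ sqNorm x = 32 ∧ dotInt (v : GolayPt → ℤ) x = 0}
    {x : GolayPt → ℤ | x ∈ leechLattice ∧ sqNorm x = 32 ∧ dotInt (w : GolayPt → ℤ) x = 0}
  rw [ncard_min] at h3
  rw [h1, h2] at h4
  omega

/-! ### part 1 -/

theorem part1 (g : ↥Co0)
    (hg : ∀ v : ↥leechLattice, ∃ w : ↥leechLattice,
      ((g • v : ↥leechLattice) : GolayPt → ℤ) - (v : GolayPt → ℤ) = 2 • (w : GolayPt → ℤ)) :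
    g ∈ Subgroup.center ↥Co0 := by
  -- on minimal vectors, `g` is `±1`
  have hpm : ∀ v : ↥leechLattice, sqNorm (v : GolayPt → ℤ) = 32 →
      (g : Equiv.Perm ↥leechLattice) v = v ∨ (g : Equiv.Perm ↥leechLattice) v = -v := by
    intro v hv
    by_cases he : (g : Equiv.Perm ↥leechLattice) v = v
    · exact Or.inl he
    · right
      obtain ⟨w, hw⟩ := hg v
      rw [two_nsmul] at hw
      have hne : (((g : Equiv.Perm ↥leechLattice) v : ↥leechLattice) : GolayPt → ℤ)
          ≠ (v : GolayPt → ℤ) := fun h => he (Subtype.ext h)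
      have hn : sqNorm (((g : Equiv.Perm ↥leechLattice) v : ↥leechLattice) : GolayPt → ℤ) = 32 := by
        rw [g.2.2 v, hv]
      rcases short_congr _ _ _ v.2 w.2 hne (by rw [hn]; norm_num) (by rw [hv]; norm_num) hw
        with h | ⟨h, -, -⟩
      · exact Subtype.ext h
      · rw [hn] at h; norm_num at h
  have hne0 : ∀ v : ↥leechLattice, sqNorm (v : GolayPt → ℤ) = 32 → v ≠ -v := by
    intro v hv h
    have h1 : (v : GolayPt → ℤ) = -(v : GolayPt → ℤ) := congrArg Subtype.val h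
    have h2 : (v : GolayPt → ℤ) = 0 := by
      funext i
      have := congrFun h1 i
      rw [Pi.neg_apply] at this
      show (v : GolayPt → ℤ) i = 0
      omega
    rw [h2] at hv
    have : sqNorm (0 : GolayPt → ℤ) = 0 := sqNorm_zero
    omega
  -- consistency along non-orthogonal pairs
  have hcons : ∀ v w : ↥leechLattice, sqNorm (v : GolayPt → ℤ) = 32 →
      sqNorm (w : GolayPt → ℤ) = 32 → dotInt (v : GolayPt → ℤ) (w : GolayPt → ℤ) ≠ 0 →
      ∀ s : ℤ, (s = 1 ∨ s = -1) → (g : Equiv.Perm ↥leechLattice) v = s • v →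
        (g : Equiv.Perm ↥leechLattice) w = s • w := by
    intro v w hv hw hd s hs hgv
    have hdp := dot_pres g.1 g.2 v w
    rw [hgv] at hdp
    rcases hs with rfl | rfl
    · rw [one_smul] at hdp ⊢
      rcases hpm w hw with h | h
      · exact h
      · exfalso
        rw [h, AddSubgroup.coe_neg, dotInt_neg_right] at hdp
        omega
    · rw [neg_one_smul] at hdp ⊢
      rcases hpm w hw with h | h
      · exfalso
        rw [h, AddSubgroup.coe_neg, dotInt_comm, dotInt_neg_right, dotInt_comm] at hdp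
        omega
      · exact h
  -- a base vector
  let v1 : ↥leechLattice := ⟨Cfsg.Agent.S1573.v0, Cfsg.Agent.S1573.v0_mem⟩
  have hv1 : sqNorm (v1 : GolayPt → ℤ) = 32 := Cfsg.Agent.S1573.v0_norm
  obtain ⟨s, hs, hgs⟩ : ∃ s : ℤ, (s = 1 ∨ s = -1) ∧ (g : Equiv.Perm ↥leechLattice) v1 = s • v1 := by
    rcases hpm v1 hv1 with h | h
    · exact ⟨1, Or.inl rfl, by rw [one_smul]; exact h⟩
    · exact ⟨-1, Or.inr rfl, by rw [neg_one_smul]; exact h⟩
  apply center_of_scalar g s
  apply scalar_of_min g.1 g.2 s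
  intro w hw
  obtain ⟨x, hx, hd1, hd2⟩ := exists_link v1 w hv1 hw
  have h1 := hcons v1 x hv1 hx hd1 s hs hgs
  have hd2' : dotInt (x : GolayPt → ℤ) (w : GolayPt → ℤ) ≠ 0 := by
    rw [dotInt_comm]; exact hd2
  exact hcons x w hx hw hd2' s hs h1

/-! ### part 2 -/

theorem part2 (M : AddSubgroup (GolayPt → ℤ)) (h2 : ∀ v ∈ leechLattice, (2 : ℤ) • v ∈ M)
    (hML : M ≤ leechLattice)
    (hinv : ∀ g : ↥Co0, ∀ v : ↥leechLattice, (v : GolayPt → ℤ) ∈ M →
      ((g • v : ↥leechLattice) : GolayPt → ℤ) ∈ M) :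
    (∀ x ∈ M, ∃ w ∈ leechLattice, x = (2 : ℤ) • w) ∨ M = leechLattice := by
  by_cases hall : ∀ x ∈ M, ∃ w ∈ leechLattice, x = (2 : ℤ) • w
  · exact Or.inl hall
  right
  push Not at hall
  obtain ⟨x, hxM, hx⟩ := hall
  obtain ⟨y, hy, hyn, z, hz, hxy⟩ := exists_short x (hML hxM)
  have h2z : (2 : ℤ) • z = 2 • z := by rw [two_nsmul, two_smul]
  have hyM : y ∈ M := by
    have : y = x - (2 : ℤ) • z := by rw [h2z, ← hxy]; abel
    rw [this]
    exact M.sub_mem hxM (h2 z hz)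
  have hy0 : y ≠ 0 := by
    rintro rfl
    apply hx z hz
    rw [sub_zero] at hxy
    rw [hxy, h2z]
  -- transport inside `M`
  have htr : ∀ (p q : ↥leechLattice), (p : GolayPt → ℤ) ∈ M →
      (∃ g : ↥Co0, g • p = q) → (q : GolayPt → ℤ) ∈ M := by
    rintro p q hp ⟨g, rfl⟩
    exact hinv g p hp
  -- a minimal vector in `M`
  obtain ⟨m, hmM, hmn⟩ : ∃ m : ↥leechLattice, (m : GolayPt → ℤ) ∈ M ∧
      sqNorm (m : GolayPt → ℤ) = 32 := by
    rcases norm_cases y hy hyn with h | h | h | h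
    · exact absurd h hy0
    · exact ⟨⟨y, hy⟩, hyM, h⟩
    · have m1 : a1 ∈ M := htr ⟨y, hy⟩ ⟨a1, a1_mem⟩ hyM (co0_trans48 _ _ h a1_norm)
      have m2 : a2 ∈ M := htr ⟨y, hy⟩ ⟨a2, a2_mem⟩ hyM (co0_trans48 _ _ h a2_norm)
      exact ⟨⟨a1 + a2, AddSubgroup.add_mem _ a1_mem a2_mem⟩, M.add_mem m1 m2, a12_norm⟩
    · have m1 : b1 ∈ M := htr ⟨y, hy⟩ ⟨b1, b1_mem⟩ hyM (co0_trans64 _ _ h b1_norm)
      have m2 : b2 ∈ M := htr ⟨y, hy⟩ ⟨b2, b2_mem⟩ hyM (co0_trans64 _ _ h b2_norm)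
      exact ⟨⟨b1 + b2, AddSubgroup.add_mem _ b1_mem b2_mem⟩, M.add_mem m1 m2, b12_norm⟩
  apply le_antisymm hML
  rw [← Lmin_eq]
  unfold Lmin
  rw [AddSubgroup.closure_le]
  rintro w ⟨hw, hwn⟩
  exact htr m ⟨w, hw⟩ hmM (co0_trans32 _ _ hmn hwn)

/-- The Leech lattice modulo twice itself is a faithful irreducible module for the first Conway group: an automorphism of the rank-24 lattice built from the length-24 code that moves every lattice vector only by twice a lattice vector lies in the centre of the automorphism group (the centre consists of ±1, which act trivially there, so the kernel is exactly the centre), and an additive subgroup lying between twice the lattice and the lattice that is invariant under all lattice automorphisms is one of the two. -/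
theorem result : (∀ g : ↥Cfsg.Co0, (∀ v : ↥Cfsg.leechLattice, ∃ w : ↥Cfsg.leechLattice, ((g • v : ↥Cfsg.leechLattice) : Cfsg.GolayPt → ℤ) - (v : Cfsg.GolayPt → ℤ) = 2 • (w : Cfsg.GolayPt → ℤ)) → g ∈ Subgroup.center ↥Cfsg.Co0) ∧ ∀ M : AddSubgroup (Cfsg.GolayPt → ℤ), (∀ v ∈ Cfsg.leechLattice, (2 : ℤ) • v ∈ M) → M ≤ Cfsg.leechLattice → (∀ g : ↥Cfsg.Co0, ∀ v : ↥Cfsg.leechLattice, (v : Cfsg.GolayPt → ℤ) ∈ M → ((g • v : ↥Cfsg.leechLattice) : Cfsg.GolayPt → ℤ) ∈ M) → (∀ x ∈ M, ∃ w ∈ Cfsg.leechLattice, x = (2 : ℤ) • w) ∨ M = Cfsg.leechLattice := by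
  exact ⟨part1, part2⟩

end Cfsg.Agent.S5392
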