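import Cfsg.Statements.S5393
import Cfsg.Agent.Lib.Helper28.GolayModule

set_option autoImplicit false
open Cfsg

namespace Cfsg.Agent.S5393
open Cfsg.Agent.Lib.Helper28.GolayCode Cfsg.Agent.Lib.Helper28.GolayModule

/-- a word of weight two. -/
def w2 : GolayPt → ZMod 2 := wordOf 3

theorem w2_sum : ∑ p, w2 p = 0 := by decide +kernel

theorem w2_not_mem : w2 ∉ golayCode := by
  intro h
  have h8 := eight_le_weight w2 h (by
    intro h0
    have := congrFun h0 (dec 0)
    revert this
    decide +kernel)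
  unfold w2 at h8
  rw [support_wordOf, card_bset] at h8
  revert h8
  decide +kernel

theorem result : (fun _ : Cfsg.GolayPt => (1 : ZMod 2)) ∈ Cfsg.golayCode ∧ ∀ W : Submodule (ZMod 2) (Cfsg.GolayPt → ZMod 2), (fun _ => (1 : ZMod 2)) ∈ W → W ≤ Cfsg.golayCode → (∀ σ ∈ Cfsg.M24, ∀ w ∈ W, (fun p => w (σ.symm p)) ∈ W) → W = Submodule.span (ZMod 2) {fun _ => (1 : ZMod 2)} ∨ W = Cfsg.golayCode := by
  refine ⟨one_mem, ?_⟩
  intro W h1 hle hW
  rcases invariant_cases W hW with h | h | h | h | h
  · exfalso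
    rw [h, Submodule.mem_bot] at h1
    have := congrFun h1 (dec 0)
    revert this
    decide
  · exact Or.inl h
  · exact Or.inr h
  · exfalso
    have : w2 ∈ (W : Set (GolayPt → ZMod 2)) := by
      rw [h]
      exact w2_sum
    exact w2_not_mem (hle this)
  · exfalso
    have : w2 ∈ W := by rw [h]; exact Submodule.mem_top
    exact w2_not_mem (hle this)

end Cfsg.Agent.S5393
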