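import Cfsg.Statements.S5394
-- import your own Cfsg.Agent.* helpers here
import Cfsg.Agent.Lib.Helper3.Golay.Involutions

set_option autoImplicit false
open Cfsg

namespace Cfsg.Agent.S5394

open scoped Pointwise
open Cfsg.Agent.Lib.Helper3.Golay

/-- The automorphism group of the length-24 code built from the squares modulo 23 has exactly two conjugacy classes of involutions: an involution either fixes exactly the eight points of an octad or has no fixed points, both kinds occur, and any two involutions of the same kind are conjugate in the group. -/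
theorem result : (∀ g ∈ Cfsg.M24, orderOf g = 2 → (Finset.univ.filter fun p => g p = p) ∈ Cfsg.octads ∨ ∀ p, g p ≠ p) ∧ (∃ g ∈ Cfsg.M24, orderOf g = 2 ∧ (Finset.univ.filter fun p => g p = p) ∈ Cfsg.octads) ∧ (∃ g ∈ Cfsg.M24, orderOf g = 2 ∧ ∀ p, g p ≠ p) ∧ ∀ g ∈ Cfsg.M24, ∀ h ∈ Cfsg.M24, orderOf g = 2 → orderOf h = 2 → ((∀ p, g p ≠ p) ↔ (∀ p, h p ≠ p)) → ∃ k ∈ Cfsg.M24, k * g * k⁻¹ = h := by
  refine ⟨?_, ?_, ?_, ?_⟩
  · intro g hg h2
    by_cases hfix : ∃ p, g p = p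
    · obtain ⟨p, hp⟩ := hfix
      exact Or.inl (fixed_octad_of_fixed hg h2 hp)
    · push Not at hfix
      exact Or.inr hfix
  · obtain ⟨s, hs, -, h2, p, hp⟩ := exists_E1
    exact ⟨s, hs, h2, fixed_octad_of_fixed hs h2 hp⟩
  · obtain ⟨s, hs, -, h2, hfpf, -⟩ := exists_G0
    have h1 : s ≠ 1 := by
      rintro rfl
      exact hfpf (β 0) rfl
    exact ⟨s, hs, orderOf_eq_two h2 h1, hfpf⟩
  · intro g hg h hh g2 h2 hiff
    by_cases hfix : ∃ p, g p = p
    · obtain ⟨p, hp⟩ := hfix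
      have hfix' : ∃ q, h q = q := by
        by_contra hcon
        push Not at hcon
        exact hiff.mpr hcon p hp
      obtain ⟨q, hq⟩ := hfix'
      obtain ⟨s, -, hsT, -, -⟩ := exists_E1
      obtain ⟨k1, hk1, e1⟩ := conj_fixed hg g2 hp hsT
      obtain ⟨k2, hk2, e2⟩ := conj_fixed hh h2 hq hsT
      refine ⟨k2⁻¹ * k1, M24.mul_mem (M24.inv_mem hk2) hk1, ?_⟩
      have : k2⁻¹ * k1 * g * (k2⁻¹ * k1)⁻¹ = k2⁻¹ * (k1 * g * k1⁻¹) * k2 := by group
      rw [this, e1, ← e2]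
      group
    · push Not at hfix
      have hfix' := hiff.mp hfix
      obtain ⟨s, -, hsT, -, -⟩ := exists_G0
      obtain ⟨k1, hk1, e1⟩ := conj_fpf hg (sq_eq_one_of_orderOf g2) hfix hsT
      obtain ⟨k2, hk2, e2⟩ := conj_fpf hh (sq_eq_one_of_orderOf h2) hfix' hsT
      refine ⟨k2⁻¹ * k1, M24.mul_mem (M24.inv_mem hk2) hk1, ?_⟩
      have : k2⁻¹ * k1 * g * (k2⁻¹ * k1)⁻¹ = k2⁻¹ * (k1 * g * k1⁻¹) * k2 := by group
      rw [this, e1, ← e2]
      group

end Cfsg.Agent.S5394
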