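import Cfsg.Statements.S5395
-- import your own Cfsg.Agent.* helpers here

set_option autoImplicit false
open Cfsg

namespace Cfsg.Agent.S5395

/-- commutator as an element of the centre, for an extraspecial group. -/
private lemma comm_mem_center {E : Type*} [Group E]
    (hcomm : commutator E = Subgroup.center E) (g x : E) :
    g * x * g⁻¹ * x⁻¹ ∈ Subgroup.center E := by
  rw [← hcomm, commutator_def]
  exact Subgroup.commutator_mem_commutator (Subgroup.mem_top g) (Subgroup.mem_top x)

private lemma comm_mul_right {E : Type*} [Group E] (g x y : E)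
    (hy : g * y * g⁻¹ * y⁻¹ ∈ Subgroup.center E) :
    g * (x * y) * g⁻¹ * (x * y)⁻¹ = (g * x * g⁻¹ * x⁻¹) * (g * y * g⁻¹ * y⁻¹) := by
  have h := (Subgroup.mem_center_iff.mp hy x)
  -- x * c = c * x
  calc g * (x * y) * g⁻¹ * (x * y)⁻¹
      = (g * x * g⁻¹ * x⁻¹) * (x * (g * y * g⁻¹ * y⁻¹)) * x⁻¹ := by group
    _ = (g * x * g⁻¹ * x⁻¹) * ((g * y * g⁻¹ * y⁻¹) * x) * x⁻¹ := by rw [h]
    _ = _ := by group

private lemma comm_mul_left {E : Type*} [Group E] (g h x : E)
    (hx : h * x * h⁻¹ * x⁻¹ ∈ Subgroup.center E) :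
    (g * h) * x * (g * h)⁻¹ * x⁻¹ = (g * x * g⁻¹ * x⁻¹) * (h * x * h⁻¹ * x⁻¹) := by
  have h1 := (Subgroup.mem_center_iff.mp hx g)
  calc (g * h) * x * (g * h)⁻¹ * x⁻¹
      = (g * (h * x * h⁻¹ * x⁻¹)) * x * g⁻¹ * x⁻¹ := by group
    _ = ((h * x * h⁻¹ * x⁻¹) * g) * x * g⁻¹ * x⁻¹ := by rw [h1]
    _ = (h * x * h⁻¹ * x⁻¹) * (g * x * g⁻¹ * x⁻¹) := by group
    _ = _ := by
      have h2 := (Subgroup.mem_center_iff.mp hx (g * x * g⁻¹ * x⁻¹))
      exact h2.symm

open scoped IsMulCommutative in
private lemma exists_inj_char {E : Type*} [Group E] [Finite E]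
    (hcard : Nat.card (Subgroup.center E) = 2) :
    ∃ ι : Subgroup.center E →* ℂˣ, Function.Injective ι := by
  have hnt : Nontrivial (Subgroup.center E) := by
    rw [← Finite.one_lt_card_iff_nontrivial, hcard]; norm_num
  obtain ⟨a, ha⟩ := exists_ne (1 : Subgroup.center E)
  have : NeZero ((Monoid.exponent (Subgroup.center E) : ℕ) : ℂ) :=
    ⟨by exact_mod_cast Monoid.exponent_ne_zero_of_finite⟩
  obtain ⟨ι, hι⟩ := CommGroup.exists_apply_ne_one_of_hasEnoughRootsOfUnity
    (Subgroup.center E) ℂ ha
  refine ⟨ι, ?_⟩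
  rw [← MonoidHom.ker_eq_bot_iff]
  have : Fact (Nat.card (Subgroup.center E)).Prime := ⟨by rw [hcard]; exact Nat.prime_two⟩
  rcases Subgroup.eq_bot_or_eq_top_of_prime_card ι.ker with h | h
  · exact h
  · exfalso
    apply hι
    have : a ∈ ι.ker := by rw [h]; exact Subgroup.mem_top a
    exact this

/-- For a finite extraspecial 2-group E, an automorphism of E that induces the identity on E modulo its centre is inner (so these automorphisms form exactly the inner automorphism group, an elementary abelian 2-group of order |E|/2). -/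
theorem result {E : Type*} [Group E] [Finite E] (hE : Cfsg.IsExtraspecial 2 E) (φ : E ≃* E) (hφ : ∀ x : E, φ x * x⁻¹ ∈ Subgroup.center E) : ∃ g : E, ∀ x : E, φ x = g * x * g⁻¹ := by
  classical
  obtain ⟨⟨hp, hfr, hcomm⟩, hcard⟩ := hE
  -- an injective character of the centre
  have hZfin : Finite (Subgroup.center E) := inferInstance
  obtain ⟨ι, hι⟩ := exists_inj_char hcard
  -- the commutator pairing
  let c : E → E → Subgroup.center E := fun g x => ⟨g * x * g⁻¹ * x⁻¹, comm_mem_center hcomm g x⟩
  have c_mul_right : ∀ g x y, c g (x * y) = c g x * c g y := by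
    intro g x y
    apply Subtype.ext
    exact comm_mul_right g x y (comm_mem_center hcomm g y)
  have c_mul_left : ∀ g h x, c (g * h) x = c g x * c h x := by
    intro g h x
    apply Subtype.ext
    exact comm_mul_left g h x (comm_mem_center hcomm h x)
  have c_one_right : ∀ g, c g 1 = 1 := by
    intro g; apply Subtype.ext; simp [c]
  have c_one_left : ∀ x, c 1 x = 1 := by
    intro g; apply Subtype.ext; simp [c]
  let Ψ : E →* (E →* ℂˣ) :=
    { toFun := fun g =>
        { toFun := fun x => ι (c g x)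
          map_one' := by rw [c_one_right, map_one]
          map_mul' := fun x y => by rw [c_mul_right, map_mul] }
      map_one' := by
        ext x
        simp only [MonoidHom.coe_mk, OneHom.coe_mk, MonoidHom.one_apply]
        rw [c_one_left, map_one]
      map_mul' := fun g h => by
        ext x
        simp only [MonoidHom.coe_mk, OneHom.coe_mk, MonoidHom.mul_apply]
        rw [c_mul_left, map_mul] }
  have hΨ : ∀ g x, Ψ g x = ι (c g x) := fun g x => rfl
  -- kernel of Ψ is the centre
  have hker : Ψ.ker = Subgroup.center E := by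
    ext g
    rw [MonoidHom.mem_ker, Subgroup.mem_center_iff]
    constructor
    · intro h x
      have h1 : Ψ g x = 1 := by rw [h]; rfl
      rw [hΨ] at h1
      have h2 : c g x = 1 := hι (by rw [h1, map_one])
      have h3 : g * x * g⁻¹ * x⁻¹ = 1 := congrArg Subtype.val h2
      have : g * x = x * g := by
        have := congrArg (fun t => t * x * g) h3
        simpa [mul_assoc] using this
      exact this.symm
    · intro h
      ext x
      rw [hΨ]
      have : c g x = 1 := by
        apply Subtype.ext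
        show g * x * g⁻¹ * x⁻¹ = 1
        rw [← h x]; group
      rw [this, map_one]; rfl
  -- cardinality of the dual
  have hcardDual : Nat.card (E →* ℂˣ) = (Subgroup.center E).index := by
    rw [Nat.card_congr (Abelianization.lift (G := E) (A := ℂˣ))]
    have : NeZero ((Monoid.exponent (Abelianization E) : ℕ) : ℂ) :=
      ⟨by exact_mod_cast Monoid.exponent_ne_zero_of_finite⟩
    rw [CommGroup.card_monoidHom_of_hasEnoughRootsOfUnity, ← hcomm]
    rfl
  have hidx : (Subgroup.center E).index ≠ 0 := Subgroup.index_ne_zero_of_finite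
  have : Finite (E →* ℂˣ) := Nat.finite_of_card_ne_zero (by rw [hcardDual]; exact hidx)
  have hrange : Ψ.range = ⊤ := by
    rw [← Subgroup.card_eq_iff_eq_top, ← Subgroup.index_ker, hker, hcardDual]
  -- the character attached to φ
  let f : E →* ℂˣ :=
    { toFun := fun x => ι ⟨φ x * x⁻¹, hφ x⟩
      map_one' := by
        have : (⟨φ 1 * 1⁻¹, hφ 1⟩ : Subgroup.center E) = 1 := by
          apply Subtype.ext; simp
        rw [this, map_one]
      map_mul' := fun x y => by
        rw [← map_mul]
        congr 1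
        apply Subtype.ext
        show φ (x * y) * (x * y)⁻¹ = (φ x * x⁻¹) * (φ y * y⁻¹)
        have h := Subgroup.mem_center_iff.mp (hφ y) x⁻¹
        rw [map_mul, mul_inv_rev]
        calc φ x * φ y * (y⁻¹ * x⁻¹) = φ x * ((φ y * y⁻¹) * x⁻¹) := by group
          _ = φ x * (x⁻¹ * (φ y * y⁻¹)) := by rw [h]
          _ = _ := by group }
  have hf : f ∈ Ψ.range := by rw [hrange]; exact Subgroup.mem_top f
  obtain ⟨g, hg⟩ := hf
  refine ⟨g, fun x => ?_⟩
  have h1 : Ψ g x = f x := by rw [hg]
  rw [hΨ] at h1
  have h2 : c g x = ⟨φ x * x⁻¹, hφ x⟩ := hι h1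
  have h3 : g * x * g⁻¹ * x⁻¹ = φ x * x⁻¹ := congrArg Subtype.val h2
  have := mul_right_cancel h3
  exact this.symm

end Cfsg.Agent.S5395
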