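import Cfsg.Statements.S5396
import Cfsg.Agent.Lib.Helper27.HeisCount

set_option autoImplicit false
open Cfsg

namespace Cfsg.Agent.S5396

/-- For every n ≥ 1 there exist finite extraspecial 2-groups of order 2^(2n+1) whose 2-rank (the largest rank of an elementary abelian subgroup) is n, and ones whose 2-rank is n + 1 (so for each such order there are two non-isomorphic extraspecial 2-groups, told apart by their 2-rank). -/
theorem result (n : ℕ) (hn : 1 ≤ n) : ∀ r ∈ ({n, n + 1} : Set ℕ), ∃ (E : Type) (_ : Group E) (_ : Finite E), Cfsg.IsExtraspecial 2 E ∧ Nat.card E = 2 ^ (2 * n + 1) ∧ sSup {k : ℕ | ∃ A : Subgroup E, Cfsg.IsElementaryAbelian 2 A ∧ Nat.card A = 2 ^ k} = r := by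
  open Cfsg.Agent.Lib.Helper27 in
  obtain ⟨m, rfl⟩ : ∃ m, n = m + 1 := ⟨n - 1, by omega⟩
  intro r hr
  rcases hr with rfl | rfl
  · -- minus type: rank m + 1
    have hfin : Finite (Heis (minusForm m)) := Nat.finite_of_card_ne_zero (by
      rw [card_heis_vn]; positivity)
    refine ⟨Heis (minusForm m), inferInstance, hfin, minus_isExtraspecial m, card_heis_vn _, ?_⟩
    apply IsGreatest.csSup_eq
    refine ⟨⟨minusSub m, minusSub_elementary m, card_minusSub m⟩, ?_⟩
    rintro k ⟨A, hA, hAc⟩
    have h1 := rank_le_of_extraspecial (minus_isExtraspecial m) (m + 1) (card_heis_vn _) A hA k hAc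
    by_contra hk
    have hk2 : k = m + 2 := by omega
    rw [hk2] at hAc
    exact minus_no_large m A hA hAc
  · -- plus type: rank m + 2
    have hfin : Finite (Heis (plusForm (m + 1))) := Nat.finite_of_card_ne_zero (by
      rw [card_heis_vn]; positivity)
    refine ⟨Heis (plusForm (m + 1)), inferInstance, hfin, plus_isExtraspecial m, card_heis_vn _, ?_⟩
    apply IsGreatest.csSup_eq
    refine ⟨⟨plusSub (m + 1), plusSub_elementary (m + 1), card_plusSub (m + 1)⟩, ?_⟩
    rintro k ⟨A, hA, hAc⟩
    exact rank_le_of_extraspecial (plus_isExtraspecial m) (m + 1) (card_heis_vn _) A hA k hAc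

end Cfsg.Agent.S5396
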