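import Cfsg.Statements.S5410
-- import your own Cfsg.Agent.* helpers here
import Cfsg.Agent.Lib.Helper14.MonI

set_option autoImplicit false
open Cfsg

namespace Cfsg.Agent.S5410

/-- Let G be a finite group of Monster type at the involution z with Q the extraspecial normal subgroup of order 2^25 of C = C_G(z) (so C/Q is identified with the first Conway group with Q modulo its centre the Leech lattice modulo 2, and z is not weakly closed in Q). Let g in G with s = g z g⁻¹ a member of Q other than z, let X be the image in C/Q of the centralizer of s in C, and let E be the image in C/Q of the intersection of g Q g⁻¹ with C. Then E is a normal subgroup of X, elementary abelian of order 2^11, and it has a complement in X isomorphic to the Mathieu group of degree 24 (the automorphism group of the length-24 binary Golay code). -/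
theorem result {G : Type*} [Group G] [Finite G] (z : G) (Q : Subgroup (Subgroup.centralizer ({z} : Set G))) [Q.Normal] (hM : Cfsg.IsOfMonsterType z Q) (s : G) (hsQ : ∃ hsc : s ∈ Subgroup.centralizer ({z} : Set G), (⟨s, hsc⟩ : Subgroup.centralizer ({z} : Set G)) ∈ Q) (hs : IsConj z s) (hs1 : s ≠ z) (g : G) (hg : g * z * g⁻¹ = s) (X E : Subgroup ((Subgroup.centralizer ({z} : Set G)) ⧸ Q)) (hX : X = ((Subgroup.centralizer ({z} : Set G) ⊓ Subgroup.centralizer ({s} : Set G)).subgroupOf (Subgroup.centralizer ({z} : Set G))).map (QuotientGroup.mk' Q)) (hE : E = (((Q.map (Subgroup.centralizer ({z} : Set G)).subtype).map (MulAut.conj g).toMonoidHom ⊓ Subgroup.centralizer ({z} : Set G)).subgroupOf (Subgroup.centralizer ({z} : Set G))).map (QuotientGroup.mk' Q)) : E ≤ X ∧ (∀ x ∈ X, ∀ y ∈ E, x * y * x⁻¹ ∈ E) ∧ Cfsg.IsElementaryAbelian 2 E ∧ Nat.card E = 2 ^ 11 ∧ ∃ K : Subgroup ((Subgroup.centralizer ({z} : Set G)) ⧸ Q), K ≤ X ∧ E ⊓ K = ⊥ ∧ E ⊔ K = X ∧ Nonempty (K ≃* Cfsg.M24) := by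
  obtain ⟨D⟩ := Cfsg.Agent.Lib.Helper14.MonT.nonempty_dat hM
  subst hg
  have hsQ' : Cfsg.Agent.Lib.Helper14.MonT.InQ Q (g * z * g⁻¹) := hsQ
  have hEr : E = (D.th g hsQ' hs1).range := by rw [hE]; exact D.E_eq g hsQ' hs1
  have hXm : ∀ x, x ∈ X ↔ ∃ h : Subgroup.centralizer ({z} : Set G),
      h * (hsQ'.toQ : Subgroup.centralizer ({z} : Set G)) =
        (hsQ'.toQ : Subgroup.centralizer ({z} : Set G)) * h ∧ x = QuotientGroup.mk h := by
    intro x; rw [hX]; exact Cfsg.Agent.Lib.Helper14.MonT.Dat.mem_X g hsQ' x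
  have hEX : E ≤ X := by
    intro r hr
    rw [hEr] at hr
    exact (hXm r).mpr (D.th_range_le g hsQ' hs1 r hr)
  refine ⟨hEX, ?_, ?_, ?_, ?_⟩
  · intro x hx y hy
    rw [hEr] at hy ⊢
    obtain ⟨h, hh, rfl⟩ := (hXm x).mp hx
    exact D.th_range_normal g hsQ' hs1 h hh y hy
  · rw [hEr]; exact D.elemAb_range g hsQ' hs1
  · rw [hEr]; exact (D.card_th g hsQ' hs1).1
  · obtain ⟨K, hK1, hK2, hK3, hK4⟩ := D.exists_compl g hsQ' hs1
    refine ⟨K, ?_, ?_, ?_, hK4⟩
    · intro x hx
      exact (hXm x).mpr (hK1 x hx)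
    · rw [hEr]; exact hK2
    · apply le_antisymm
      · exact sup_le hEX (fun x hx => (hXm x).mpr (hK1 x hx))
      · intro x hx
        obtain ⟨h, hh, rfl⟩ := (hXm x).mp hx
        rw [hEr]
        exact hK3 h hh

end Cfsg.Agent.S5410
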