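import Cfsg.Statements.S5420
import Cfsg.Agent.Lib.Helper27.Basic

set_option autoImplicit false
open Cfsg

namespace Cfsg.Agent.S5420

/-- Let Q be an extraspecial 2-subgroup of the finite group G whose centralizer in G is its centre Z and which is normal in the centralizer of Z. If Z lies in the largest normal 2-subgroup of G, then Q is a large extraspecial 2-subgroup of G: it normalizes no non-trivial subgroup of G of odd order. -/
theorem result {G : Type*} [Group G] [Finite G] (Q : Subgroup G) (hL1 : Cfsg.IsExtraspecial 2 ↥Q) (hL2 : Subgroup.centralizer (Q : Set G) = ((Subgroup.center ↥Q).map Q.subtype)) (hL3 : Subgroup.centralizer (((Subgroup.center ↥Q).map Q.subtype) : Set G) ≤ Subgroup.normalizer (Q : Set G)) (hZ : ((Subgroup.center ↥Q).map Q.subtype) ≤ Cfsg.pCore 2 G) : Cfsg.IsLargeExtraspecial Q := by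
  refine ⟨hL1, hL2, hL3, ?_⟩
  intro K hK hQK
  have hQ2 : IsPGroup 2 Q := Cfsg.Agent.Lib.Helper27.isPGroup_of_isExtraspecial hL1
  have hO2 : IsPGroup 2 (Cfsg.pCore 2 G) := Cfsg.Agent.Lib.Helper27.pCore_isPGroup 2 G
  have hOn : (Cfsg.pCore 2 G).Normal := Cfsg.Agent.Lib.Helper27.pCore_normal 2 G
  have hZQ : ((Subgroup.center ↥Q).map Q.subtype) ≤ Q := by
    rintro _ ⟨x, -, rfl⟩
    exact x.2
  -- Step 1: K centralizes Z
  have h1 : K ≤ Subgroup.centralizer (((Subgroup.center ↥Q).map Q.subtype) : Set G) := by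
    intro k hk
    rw [Subgroup.mem_centralizer_iff]
    intro z hz
    have hzQ : z ∈ Q := hZQ hz
    have hzK : z * k * z⁻¹ ∈ K := (Subgroup.mem_normalizer_iff.mp (hQK hzQ) k).mp hk
    have hcK : z * k * z⁻¹ * k⁻¹ ∈ K := K.mul_mem hzK (K.inv_mem hk)
    have hzO : z ∈ Cfsg.pCore 2 G := hZ hz
    have hcO : z * k * z⁻¹ * k⁻¹ ∈ Cfsg.pCore 2 G := by
      have h' : k * z⁻¹ * k⁻¹ ∈ Cfsg.pCore 2 G := hOn.conj_mem _ ((Cfsg.pCore 2 G).inv_mem hzO) k
      have : z * k * z⁻¹ * k⁻¹ = z * (k * z⁻¹ * k⁻¹) := by group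
      rw [this]
      exact (Cfsg.pCore 2 G).mul_mem hzO h'
    have h1' := Cfsg.Agent.Lib.Helper27.eq_one_of_mem_odd_of_mem_two K _ hK hO2 hcK hcO
    -- z * k = k * z
    calc z * k = (z * k * z⁻¹ * k⁻¹) * (k * z) := by group
      _ = k * z := by rw [h1', one_mul]
  -- Step 2: K centralizes Q
  have h2 : K ≤ Subgroup.centralizer (Q : Set G) := by
    intro k hk
    rw [Subgroup.mem_centralizer_iff]
    intro q hq
    have hkN : k ∈ Subgroup.normalizer (Q : Set G) := hL3 (h1 hk)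
    have hqK : q * k * q⁻¹ ∈ K := (Subgroup.mem_normalizer_iff.mp (hQK hq) k).mp hk
    have hcK : q * k * q⁻¹ * k⁻¹ ∈ K := K.mul_mem hqK (K.inv_mem hk)
    have hcQ : q * k * q⁻¹ * k⁻¹ ∈ Q := by
      have h' : k * q⁻¹ * k⁻¹ ∈ Q := (Subgroup.mem_normalizer_iff.mp hkN q⁻¹).mp (Q.inv_mem hq)
      have : q * k * q⁻¹ * k⁻¹ = q * (k * q⁻¹ * k⁻¹) := by group
      rw [this]
      exact Q.mul_mem hq h'
    have h1' := Cfsg.Agent.Lib.Helper27.eq_one_of_mem_odd_of_mem_two K _ hK hQ2 hcK hcQ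
    calc q * k = (q * k * q⁻¹ * k⁻¹) * (k * q) := by group
      _ = k * q := by rw [h1', one_mul]
  rw [hL2] at h2
  rw [Subgroup.eq_bot_iff_forall]
  intro k hk
  exact Cfsg.Agent.Lib.Helper27.eq_one_of_mem_odd_of_mem_two K _ hK hQ2 hk (hZQ (h2 hk))

end Cfsg.Agent.S5420
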