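import Cfsg.Statements.S5421
import Mathlib
import Cfsg.Agent.S0058
import Cfsg.Agent.Lib.Helper9.Cyclic
import Cfsg.Agent.Lib.Helper17.CharP
import Cfsg.Agent.Lib.Helper17.CentrallyLarge

set_option autoImplicit false
set_option linter.style.haveILetI false
open Cfsg
open scoped Pointwise commutatorElement

namespace Cfsg.Agent.S5421

theorem zpow_eq_one_or_self {G : Type*} [Group G] (x : G) (h : x ^ 2 = 1) (i : ℤ) :
    x ^ i = 1 ∨ x ^ i = x := by
  have h2 : x ^ (2 : ℤ) = 1 := by exact_mod_cast h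
  rcases Int.even_or_odd' i with ⟨c, hc | hc⟩
  · left; rw [hc, zpow_mul, h2, one_zpow]
  · right; rw [hc, zpow_add, zpow_mul, h2, one_zpow, one_mul, zpow_one]

/-- the key fixed-point computation -/
theorem key {G : Type*} [Group G] [Finite G] (Q : Subgroup G) (hL1 : Cfsg.IsExtraspecial 2 ↥Q)
    (hL2 : Subgroup.centralizer (Q : Set G) = ((Subgroup.center ↥Q).map Q.subtype))
    (hL3 : Subgroup.centralizer (((Subgroup.center ↥Q).map Q.subtype) : Set G) ≤
      Subgroup.normalizer (Q : Set G))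
    (b : G) (hbQ : b ∈ Q) (hbZ : b ∉ ((Subgroup.center ↥Q).map Q.subtype)) (hb : orderOf b = 2)
    (hZ : ((Subgroup.center ↥Q).map Q.subtype) ≤
      (Cfsg.pCore 2 ↥(Subgroup.centralizer ({b} : Set G))).map
        (Subgroup.centralizer ({b} : Set G)).subtype)
    (K : Subgroup G) (hKodd : Odd (Nat.card K)) (hQK : Q ≤ Subgroup.normalizer (K : Set G)) :
    K = ⊥ := by
  haveI : Fact (Nat.Prime 2) := ⟨Nat.prime_two⟩
  obtain ⟨⟨hQ2, -, hcomm⟩, hcardZ⟩ := hL1
  obtain ⟨Z, hZdef⟩ : ∃ Z : Subgroup G, Z = (Subgroup.center ↥Q).map Q.subtype := ⟨_, rfl⟩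
  rw [← hZdef] at hL2 hL3 hbZ hZ
  have hZcard : Nat.card ↥Z = 2 := by
    rw [hZdef, Subgroup.card_map_of_injective Q.subtype_injective]; exact hcardZ
  have hZQ : Z ≤ Q := by rw [hZdef]; exact Subgroup.map_subtype_le _
  -- elements of K of 2-power order are trivial
  have hK2 : ∀ x ∈ K, (∃ k : ℕ, x ^ (2 ^ k) = 1) → x = 1 := by
    intro x hx ⟨k, hk⟩
    have h1 : orderOf x ∣ 2 ^ k := orderOf_dvd_of_pow_eq_one hk
    have h2 : orderOf x ∣ Nat.card K := by
      have := orderOf_dvd_natCard (⟨x, hx⟩ : ↥K)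
      rwa [Subgroup.orderOf_mk] at this
    have hcop : Nat.Coprime (2 ^ k) (Nat.card K) :=
      Nat.Coprime.pow_left k (Nat.coprime_two_left.mpr hKodd)
    exact orderOf_eq_one_iff.mp (Nat.eq_one_of_dvd_coprimes hcop h1 h2)
  -- 2-power order of elements of Q
  have hQpow : ∀ x ∈ Q, ∃ k : ℕ, x ^ (2 ^ k) = 1 := by
    intro x hx
    obtain ⟨k, hk⟩ := hQ2 ⟨x, hx⟩
    exact ⟨k, by simpa using congrArg Subtype.val hk⟩
  -- conjugation by Q preserves K
  have hconjK : ∀ q ∈ Q, ∀ x ∈ K, q * x * q⁻¹ ∈ K := fun q hq x hx =>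
    (Subgroup.mem_normalizer_iff.mp (hQK hq) x).mp hx
  have hconjK' : ∀ q ∈ Q, ∀ x ∈ K, q⁻¹ * x * q ∈ K := by
    intro q hq x hx
    have := hconjK q⁻¹ (Q.inv_mem hq) x hx
    rwa [inv_inv] at this
  -- the generator z of Z
  have hZne : Z ≠ ⊥ := by
    intro h; rw [h, Subgroup.card_bot] at hZcard; omega
  obtain ⟨z', hz'⟩ := Subgroup.ne_bot_iff_exists_ne_one.mp hZne
  obtain ⟨z, hzZ, hz1⟩ : ∃ z : G, z ∈ Z ∧ z ≠ 1 := ⟨z', z'.2, fun h => hz' (Subtype.ext h)⟩
  have hzQ : z ∈ Q := hZQ hzZ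
  have hzo : orderOf z = 2 := by
    have h1 : orderOf z ∣ 2 := by
      have := orderOf_dvd_natCard (⟨z, hzZ⟩ : ↥Z)
      rwa [Subgroup.orderOf_mk, hZcard] at this
    rcases (Nat.dvd_prime Nat.prime_two).mp h1 with h | h
    · exact absurd (orderOf_eq_one_iff.mp h) hz1
    · exact h
  have hzsq : z ^ 2 = 1 := by rw [← hzo]; exact pow_orderOf_eq_one z
  have hbsq : b ^ 2 = 1 := by rw [← hb]; exact pow_orderOf_eq_one b
  have hZeq : Subgroup.zpowers z = Z :=
    Subgroup.eq_of_le_of_card_ge (by rw [Subgroup.zpowers_le]; exact hzZ)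
      (by rw [Nat.card_zpowers, hzo, hZcard])
  have hZelts : ∀ y ∈ Z, y = 1 ∨ y = z := by
    intro y hy
    rw [← hZeq] at hy
    obtain ⟨i, rfl⟩ := Subgroup.mem_zpowers_iff.mp hy
    exact zpow_eq_one_or_self z hzsq i
  -- z is central in Q
  have hzcent : ∀ q ∈ Q, q * z = z * q := by
    intro q hq
    rw [hZdef] at hzZ
    obtain ⟨c, hc, rfl⟩ := hzZ
    have := Subgroup.mem_center_iff.mp hc ⟨q, hq⟩
    exact congrArg Subtype.val this
  have hbz : b * z = z * b := hzcent b hbQ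
  -- (i) C_K(z) = 1
  have hCz : ∀ x ∈ K, x * z = z * x → x = 1 := by
    intro x hx hxz
    have hxN : x ∈ Subgroup.normalizer (Q : Set G) := by
      apply hL3
      rw [Subgroup.mem_centralizer_iff]
      intro y hy
      rcases hZelts y hy with rfl | rfl
      · rw [one_mul, mul_one]
      · exact hxz.symm
    have hxC : x ∈ Subgroup.centralizer (Q : Set G) := by
      rw [Subgroup.mem_centralizer_iff]
      intro q hq
      have h1 : x * q * x⁻¹ * q⁻¹ ∈ Q :=
        Q.mul_mem ((Subgroup.mem_normalizer_iff.mp hxN q).mp hq) (Q.inv_mem hq)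
      have h2 : x * q * x⁻¹ * q⁻¹ ∈ K := by
        have : x * q * x⁻¹ * q⁻¹ = x * (q * x⁻¹ * q⁻¹) := by group
        rw [this]
        exact K.mul_mem hx (hconjK q hq _ (K.inv_mem hx))
      have h3 := hK2 _ h2 (hQpow _ h1)
      have : q * x = (x * q * x⁻¹ * q⁻¹)⁻¹ * (x * q) := by group
      rw [this, h3, inv_one, one_mul]
    rw [hL2] at hxC
    exact hK2 x hx (hQpow x (hZQ hxC))
  -- (ii) C_K(b) = 1
  have hCb : ∀ x ∈ K, x * b = b * x → x = 1 := by
    intro x hx hxb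
    apply hCz x hx
    have hxC : x ∈ Subgroup.centralizer ({b} : Set G) := by
      rw [Subgroup.mem_centralizer_singleton_iff]; exact hxb
    obtain ⟨zc, hzc, hzceq⟩ := hZ hzZ
    haveI : (Cfsg.pCore 2 ↥(Subgroup.centralizer ({b} : Set G))).Normal :=
      Lib.Helper17.pCore_normal 2 _
    have h1 : (⟨x, hxC⟩ : ↥(Subgroup.centralizer ({b} : Set G))) * zc * ⟨x, hxC⟩⁻¹ * zc⁻¹ ∈
        Cfsg.pCore 2 ↥(Subgroup.centralizer ({b} : Set G)) :=
      Subgroup.mul_mem _ (Subgroup.Normal.conj_mem inferInstance zc hzc _) (Subgroup.inv_mem _ hzc)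
    obtain ⟨k, hk⟩ := Lib.Helper17.pCore_isPGroup 2 ↥(Subgroup.centralizer ({b} : Set G)) ⟨_, h1⟩
    have hk' : (x * z * x⁻¹ * z⁻¹) ^ (2 ^ k) = 1 := by
      have := congrArg (fun u : ↥(Cfsg.pCore 2 ↥(Subgroup.centralizer ({b} : Set G))) =>
        ((u : ↥(Subgroup.centralizer ({b} : Set G))) : G)) hk
      simp only [Subgroup.coe_pow, Subgroup.coe_mul, Subgroup.coe_inv, Subgroup.coe_one] at this
      rw [← hzceq]
      exact this
    have h2 : x * z * x⁻¹ * z⁻¹ ∈ K := by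
      have : x * z * x⁻¹ * z⁻¹ = x * (z * x⁻¹ * z⁻¹) := by group
      rw [this]
      exact K.mul_mem hx (hconjK z hzQ _ (K.inv_mem hx))
    have h3 := hK2 _ h2 ⟨k, hk'⟩
    have : x * z = (x * z * x⁻¹ * z⁻¹) * (z * x) := by group
    rw [this, h3, one_mul]
  -- q with q b q⁻¹ = z b
  obtain ⟨q, hqQ, hqb⟩ : ∃ q ∈ Q, q * b * q⁻¹ = z * b := by
    have hbc : (⟨b, hbQ⟩ : ↥Q) ∉ Subgroup.center ↥Q := by
      intro h
      apply hbZ
      rw [hZdef]
      exact ⟨⟨b, hbQ⟩, h, rfl⟩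
    rw [Subgroup.mem_center_iff] at hbc
    push Not at hbc
    obtain ⟨q, hq⟩ := hbc
    have hc : ⁅q, (⟨b, hbQ⟩ : ↥Q)⁆ ∈ Subgroup.center ↥Q := by
      rw [← hcomm]
      exact Subgroup.commutator_mem_commutator (Subgroup.mem_top _) (Subgroup.mem_top _)
    have hcZ : ((⁅q, (⟨b, hbQ⟩ : ↥Q)⁆ : ↥Q) : G) ∈ Z := by
      rw [hZdef]; exact ⟨_, hc, rfl⟩
    have hval : ((⁅q, (⟨b, hbQ⟩ : ↥Q)⁆ : ↥Q) : G) = (q : G) * b * (q : G)⁻¹ * b⁻¹ := by
      rw [commutatorElement_def]; simp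
    rw [hval] at hcZ
    refine ⟨q, q.2, ?_⟩
    rcases hZelts _ hcZ with h | h
    · exfalso
      apply hq
      apply Subtype.ext
      show (q : G) * b = b * (q : G)
      have : (q : G) * b = ((q : G) * b * (q : G)⁻¹ * b⁻¹) * (b * (q : G)) := by group
      rw [this, h, one_mul]
    · have : (q : G) * b * (q : G)⁻¹ = ((q : G) * b * (q : G)⁻¹ * b⁻¹) * b := by group
      rw [this, h]
  -- (iii) C_K(zb) = 1
  have hCzb : ∀ x ∈ K, x * (z * b) = (z * b) * x → x = 1 := by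
    intro x hx hxzb
    have hy : q⁻¹ * x * q ∈ K := hconjK' q hqQ x hx
    have hyb : (q⁻¹ * x * q) * b = b * (q⁻¹ * x * q) := by
      have e1 : (q⁻¹ * x * q) * b = q⁻¹ * (x * (q * b * q⁻¹)) * q := by group
      have e2 : b * (q⁻¹ * x * q) = q⁻¹ * ((q * b * q⁻¹) * x) * q := by group
      rw [e1, e2, hqb, hxzb]
    have h1 := hCb _ hy hyb
    have : x = q * (q⁻¹ * x * q) * q⁻¹ := by group
    rw [this, h1]; group
  -- the four-group E
  obtain ⟨E, hE⟩ : ∃ E : Subgroup G, E = Subgroup.zpowers b ⊔ Subgroup.zpowers z := ⟨_, rfl⟩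
  have hEQ : E ≤ Q := by
    rw [hE]
    exact sup_le (by rw [Subgroup.zpowers_le]; exact hbQ) (by rw [Subgroup.zpowers_le]; exact hzQ)
  have hEcomm : IsMulCommutative ↥E := by
    rw [hE]
    apply Lib.Helper17.isMulCommutative_sup _ _ inferInstance inferInstance
    rw [Subgroup.zpowers_le, Subgroup.mem_centralizer_iff]
    intro y hy
    obtain ⟨k, rfl⟩ := Subgroup.mem_zpowers_iff.mp hy
    have hcm : Commute z b := hbz.symm
    exact (hcm.zpow_left k).eq
  have hEnc : ¬ IsCyclic ↥E := by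
    intro hcyc
    have h1 : Subgroup.zpowers b = Subgroup.zpowers z :=
      Cfsg.Agent.Lib.Helper9.eq_of_card_eq_of_le_isCyclic E _ _
        (by rw [hE]; exact le_sup_left) (by rw [hE]; exact le_sup_right)
        (by rw [Nat.card_zpowers, Nat.card_zpowers, hb, hzo])
    apply hbZ
    rw [← hZeq, ← h1]
    exact Subgroup.mem_zpowers b
  have hEcop : (Nat.card ↥E).Coprime (Nat.card ↥K) := by
    obtain ⟨k, hk⟩ := IsPGroup.iff_card.mp (hQ2.to_le hEQ)
    rw [hk]
    exact Nat.Coprime.pow_left k (Nat.coprime_two_left.mpr hKodd)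
  have hgen := Cfsg.Agent.S0058.result E K hEnc (hEQ.trans hQK) hEcop
  have hEelts : ∀ a ∈ E, a = 1 ∨ a = z ∨ a = b ∨ a = z * b := by
    intro a ha
    have hnorm : Subgroup.zpowers b ≤ Subgroup.normalizer (Subgroup.zpowers z : Set G) := by
      refine le_trans ?_ (Subgroup.centralizer_le_normalizer _)
      rw [Subgroup.zpowers_le, Subgroup.mem_centralizer_iff]
      intro y hy
      obtain ⟨k, rfl⟩ := Subgroup.mem_zpowers_iff.mp (SetLike.mem_coe.mp hy)
      have hcm : Commute z b := hbz.symm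
      exact (hcm.zpow_left k).eq
    have hmem : a ∈ ((Subgroup.zpowers b ⊔ Subgroup.zpowers z : Subgroup G) : Set G) := by
      rw [← hE]; exact ha
    rw [Subgroup.coe_mul_of_left_le_normalizer_right _ _ hnorm] at hmem
    obtain ⟨u, hu, v, hv, huv⟩ := hmem
    have huv' : u * v = a := huv
    obtain ⟨i, hi⟩ := Subgroup.mem_zpowers_iff.mp (SetLike.mem_coe.mp hu)
    obtain ⟨j, hj⟩ := Subgroup.mem_zpowers_iff.mp (SetLike.mem_coe.mp hv)
    rw [← huv', ← hi, ← hj]
    rcases zpow_eq_one_or_self b hbsq i with h1 | h1 <;>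
      rcases zpow_eq_one_or_self z hzsq j with h2 | h2 <;> rw [h1, h2]
    · left; rw [one_mul]
    · right; left; rw [one_mul]
    · right; right; left; rw [mul_one]
    · right; right; right; exact hbz
  rw [eq_bot_iff, ← hgen]
  apply iSup₂_le
  rintro a ⟨haE, ha1⟩
  intro x hx
  obtain ⟨hxK, hxC⟩ := Subgroup.mem_inf.mp hx
  rw [Subgroup.mem_centralizer_singleton_iff] at hxC
  rw [Subgroup.mem_bot]
  rcases hEelts a haE with rfl | rfl | rfl | rfl
  · exact absurd rfl ha1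
  · exact hCz x hxK hxC
  · exact hCb x hxK hxC
  · exact hCzb x hxK hxC

/-- Let Q be an extraspecial 2-subgroup of the finite group G whose centralizer in G is its centre Z and which is normal in the centralizer of Z. If some involution b of Q outside Z has Z inside the largest normal 2-subgroup of the centralizer of b, then Q is a large extraspecial 2-subgroup of G. -/
theorem result {G : Type*} [Group G] [Finite G] (Q : Subgroup G) (hL1 : Cfsg.IsExtraspecial 2 ↥Q) (hL2 : Subgroup.centralizer (Q : Set G) = ((Subgroup.center ↥Q).map Q.subtype)) (hL3 : Subgroup.centralizer (((Subgroup.center ↥Q).map Q.subtype) : Set G) ≤ Subgroup.normalizer (Q : Set G)) (b : G) (hbQ : b ∈ Q) (hbZ : b ∉ ((Subgroup.center ↥Q).map Q.subtype)) (hb : orderOf b = 2) (hZ : ((Subgroup.center ↥Q).map Q.subtype) ≤ (Cfsg.pCore 2 ↥(Subgroup.centralizer ({b} : Set G))).map (Subgroup.centralizer ({b} : Set G)).subtype) : Cfsg.IsLargeExtraspecial Q := by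
  refine ⟨hL1, hL2, hL3, ?_⟩
  intro K hKodd hQK
  exact key Q hL1 hL2 hL3 b hbQ hbZ hb hZ K hKodd hQK

end Cfsg.Agent.S5421
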