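import Cfsg.Statements.S5423
import Cfsg.Agent.Lib.Helper16.AGL5
import Cfsg.Agent.Lib.Helper16.AGL6

set_option autoImplicit false
open Cfsg

namespace Cfsg.Agent.S5423

/-- Let G be a finite group that is the split extension of an elementary abelian normal subgroup U of order 2^(n+1), n ≥ 1, by its full automorphism group: U has a complement M in G whose conjugation action on U is faithful and realizes every automorphism of U. Let Z be a subgroup of U of order 2 and Q the largest normal 2-subgroup of the centralizer C of Z. Then Q is extraspecial of order 2^(2n+1) with an elementary abelian subgroup of order 2^(n+1) (plus type), Q is a large extraspecial 2-subgroup of G, and C is the split extension of Q by the general linear group of degree n over the field with two elements. -/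
theorem result {G : Type*} [Group G] [Finite G] (n : ℕ) (hn : 1 ≤ n) (U M : Subgroup G) [U.Normal] (hU : Cfsg.IsElementaryAbelian 2 U) (hUcard : Nat.card ↥U = 2 ^ (n + 1)) (hUM : U ⊓ M = ⊥) (hUM' : U ⊔ M = ⊤) (hfaith : ∀ m ∈ M, (∀ u ∈ U, m * u * m⁻¹ = u) → m = 1) (hfull : ∀ φ : ↥U ≃* ↥U, ∃ m ∈ M, ∀ u : ↥U, ((φ u : ↥U) : G) = m * u * m⁻¹) (Z : Subgroup G) (hZU : Z ≤ U) (hZ : Nat.card ↥Z = 2) (Q : Subgroup G) (hQ : Q = (Cfsg.pCore 2 ↥(Subgroup.centralizer (Z : Set G))).map (Subgroup.centralizer (Z : Set G)).subtype) : Cfsg.IsExtraspecial 2 ↥Q ∧ Nat.card ↥Q = 2 ^ (2 * n + 1) ∧ (∃ E : Subgroup G, E ≤ Q ∧ Cfsg.IsElementaryAbelian 2 E ∧ Nat.card ↥E = 2 ^ (n + 1)) ∧ Cfsg.IsLargeExtraspecial Q ∧ ∃ K : Subgroup G, K ≤ Subgroup.centralizer (Z : Set G) ∧ Q ⊓ K = ⊥ ∧ Q ⊔ K = Subgroup.centralizer (Z : Set G) ∧ Nonempty (↥K ≃* Matrix.GeneralLinearGroup (Fin n) (ZMod 2)) := by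
  classical
  -- the nonidentity element of `Z`
  obtain ⟨z, hz1, hzu⟩ := (Nat.card_eq_two_iff' (1 : ↥Z)).mp hZ
  have hz1' : (z : G) ≠ 1 := fun h1 => hz1 (Subtype.ext h1)
  have hZel : ∀ y ∈ Z, y = 1 ∨ y = (z : G) := by
    intro y hy
    by_cases h1 : y = 1
    · exact Or.inl h1
    · right
      have := hzu ⟨y, hy⟩ (fun h2 => h1 (congrArg Subtype.val h2))
      exact congrArg Subtype.val this
  have hcomm : ∀ a ∈ U, ∀ b ∈ U, a * b = b * a := by
    intro a ha b hb
    have := hU.1.is_comm.comm (⟨a, ha⟩ : ↥U) ⟨b, hb⟩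
    exact congrArg Subtype.val this
  have hsq : ∀ a ∈ U, a * a = 1 := by
    intro a ha
    rw [← pow_two]; exact hU.2 a ha
  have hbig : ∃ u ∈ U, u ≠ 1 ∧ u ≠ (z : G) := by
    by_contra hcon
    have hUZ : U ≤ Z := by
      intro u hu
      by_cases h1 : u = 1
      · rw [h1]; exact Z.one_mem
      · by_cases h2 : u = (z : G)
        · rw [h2]; exact z.2
        · exact absurd ⟨u, hu, h1, h2⟩ hcon
    have h1 := Subgroup.card_le_of_le hUZ
    rw [hUcard, hZ] at h1
    have h2 : 2 ^ (n + 1) ≥ 2 ^ 2 := Nat.pow_le_pow_right (by norm_num) (by omega)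
    omega
  have hS : Cfsg.Agent.Lib.Helper16.AGL.Setup U M (z : G) :=
    { normal := inferInstance
      comm := hcomm
      sq := hsq
      inf := fun g hg hm => by
        have : g ∈ U ⊓ M := ⟨hg, hm⟩
        rw [hUM] at this
        exact Subgroup.mem_bot.mp this
      sup := fun g => by
        have h1 : g ∈ ((U ⊔ M : Subgroup G) : Set G) := by rw [hUM']; trivial
        rw [Subgroup.normal_mul] at h1
        obtain ⟨u, hu, m, hm, rfl⟩ := Set.mem_mul.mp h1
        exact ⟨u, hu, m, hm, rfl⟩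
      faith := hfaith
      full := hfull
      zU := hZU z.2
      z1 := hz1'
      big := hbig }
  have hCz : Subgroup.centralizer (Z : Set G) = Subgroup.centralizer ({(z : G)} : Set G) := by
    ext g
    rw [Subgroup.mem_centralizer_iff, Subgroup.mem_centralizer_iff]
    constructor
    · intro h1 y hy
      rw [Set.mem_singleton_iff] at hy
      rw [hy]; exact h1 _ z.2
    · intro h1 y hy
      rcases hZel y hy with h2 | h2
      · rw [h2, one_mul, mul_one]
      · rw [h2]; exact h1 _ rfl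
  have hQ0 : Q = hS.Q0 := by rw [hQ, hCz, hS.core_eq_Q0]
  subst hQ0
  obtain ⟨W, hy⟩ := hS.exists_compl
  have hWcard : Nat.card ↥W = 2 ^ n := by
    have h1 := hy.card_eq
    rw [hUcard, pow_succ, mul_comm] at h1
    exact (Nat.eq_of_mul_eq_mul_left (by norm_num) h1).symm
  obtain ⟨eGL⟩ := Cfsg.Agent.Lib.Helper16.AGL.mulAut_equiv_GL (A := ↥W)
    (fun a b => Subtype.ext (hS.hcA a b)) (fun a => Subtype.ext (hS.hsA a)) n hWcard
  refine ⟨hS.isExtraspecial, hS.card_Q0 n hUcard, ⟨U, hS.U_le_Q0, hU, hUcard⟩, hS.isLarge,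
    hS.Kc W, ?_, hS.Q0_inf_Kc hy, ?_, ⟨(hS.kappaEquiv hy).trans eGL⟩⟩
  · rw [hCz]; exact hS.Kc_le_cent W
  · rw [hCz]; exact hS.sup_eq_cent hy

end Cfsg.Agent.S5423
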