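import Cfsg.Statements.S5424
import Cfsg.Agent.Lib.Helper16.SLT5

set_option autoImplicit false
open Cfsg

namespace Cfsg.Agent.S5424

/-- Let G be the special linear group of degree n + 2 over the field with two elements, n ≥ 2, let z be a transvection, and let Q be the largest normal 2-subgroup of the centralizer C of z. Then Q is extraspecial of order 2^(2n+1) with an elementary abelian subgroup of order 2^(n+1) (plus type), Q is a large extraspecial 2-subgroup of G, and C is the split extension of Q by the special linear group of degree n over the field with two elements. -/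
theorem result (n : ℕ) (hn : 2 ≤ n) (z : Matrix.SpecialLinearGroup (Fin (n + 2)) (ZMod 2)) (hz : (z : Matrix (Fin (n + 2)) (Fin (n + 2)) (ZMod 2)) = Matrix.transvection 0 1 1) (Q : Subgroup (Matrix.SpecialLinearGroup (Fin (n + 2)) (ZMod 2))) (hQ : Q = (Cfsg.pCore 2 ↥(Subgroup.centralizer ({z} : Set (Matrix.SpecialLinearGroup (Fin (n + 2)) (ZMod 2))))).map (Subgroup.centralizer ({z} : Set (Matrix.SpecialLinearGroup (Fin (n + 2)) (ZMod 2)))).subtype) : Cfsg.IsExtraspecial 2 ↥Q ∧ Nat.card ↥Q = 2 ^ (2 * n + 1) ∧ (∃ E : Subgroup (Matrix.SpecialLinearGroup (Fin (n + 2)) (ZMod 2)), E ≤ Q ∧ Cfsg.IsElementaryAbelian 2 E ∧ Nat.card ↥E = 2 ^ (n + 1)) ∧ Cfsg.IsLargeExtraspecial Q ∧ ∃ K : Subgroup (Matrix.SpecialLinearGroup (Fin (n + 2)) (ZMod 2)), K ≤ Subgroup.centralizer ({z} : Set (Matrix.SpecialLinearGroup (Fin (n + 2)) (ZMod 2))) ∧ Q ⊓ K = ⊥ ∧ Q ⊔ K = Subgroup.centralizer ({z} : Set (Matrix.SpecialLinearGroup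 (Fin (n + 2)) (ZMod 2))) ∧ Nonempty (↥K ≃* Matrix.SpecialLinearGroup (Fin n) (ZMod 2)) := by
  classical
  have h01 : (0 : Fin (n + 2)) ≠ 1 := Fin.zero_ne_one
  have h2lt : 2 < n + 2 := by omega
  have h20 : (⟨2, h2lt⟩ : Fin (n + 2)) ≠ 0 := by
    intro h; have := congrArg Fin.val h; simp at this
  have h21 : (⟨2, h2lt⟩ : Fin (n + 2)) ≠ 1 := by
    intro h; have := congrArg Fin.val h; simp at this
  have hzt : z = Cfsg.Agent.Lib.Helper16.SLT.zt (0 : Fin (n + 2)) 1 h01 := by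
    apply Cfsg.Agent.Lib.Helper16.SLT.sl_ext
    rw [Cfsg.Agent.Lib.Helper16.SLT.mat_zt]
    exact hz
  subst hzt
  have a := Cfsg.Agent.Lib.Helper16.SLT.aSetup (0 : Fin (n + 2)) 1 ⟨2, h2lt⟩ h01 h20 h21
  have hcardU : Nat.card ↥(Cfsg.Agent.Lib.Helper16.SLT.Utr (1 : Fin (n + 2))) = 2 ^ (n + 1) := by
    have h1 := Cfsg.Agent.Lib.Helper16.SLT.card_Utr (1 : Fin (n + 2))
    rw [Fintype.card_fin, pow_succ, mul_comm] at h1
    exact Nat.eq_of_mul_eq_mul_right (by norm_num) h1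
  have hQ1 : Q = a.Q1 := by rw [hQ, a.core_eq_Q1]
  subst hQ1
  obtain ⟨K, hKC, hQK, hQKs, ⟨eK⟩⟩ := a.exists_K n hcardU
  refine ⟨a.isExtraspecial_Q1, a.card_Q1 n hcardU,
    ⟨Cfsg.Agent.Lib.Helper16.SLT.Utr (1 : Fin (n + 2)), a.U_le_Q1, ⟨?_, ?_⟩, hcardU⟩,
    ⟨a.isExtraspecial_Q1, a.large_Q1.1, a.large_Q1.2, ?_⟩,
    K, hKC, hQK, hQKs, ⟨eK.trans (Cfsg.Agent.Lib.Helper16.SLT.slEquivGL (Fin n)).symm⟩⟩
  · exact ⟨⟨fun x y => Subtype.ext (a.comm x x.2 y y.2)⟩⟩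
  · intro x hx
    rw [pow_two]
    exact a.sq x hx
  · intro K' hK' hQK'
    exact Cfsg.Agent.Lib.Helper16.SLT.odd_trivial (0 : Fin (n + 2)) 1 ⟨2, h2lt⟩ h01 h20 h21 K' hK' hQK'

end Cfsg.Agent.S5424
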