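import Cfsg.Statements.S5425
-- import your own Cfsg.Agent.* helpers here
import Cfsg.Agent.Lib.Helper14.OctInvF

set_option autoImplicit false
open Cfsg

namespace Cfsg.Agent.S5425

/-- In the Mathieu group of degree 24 (the automorphism group of the length-24 binary Golay code, acting on the 24 coordinates), let z be an involution whose fixed points form an octad (the support of a code word of weight 8), and let Q be the largest normal 2-subgroup of the centralizer C of z. Then Q is extraspecial of order 2^7 with an elementary abelian subgroup of order 16 (plus type), Q is a large extraspecial 2-subgroup, and C is the split extension of Q by the special linear group of degree 3 over the field with two elements. -/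
theorem result (z : ↥Cfsg.M24) (hz : orderOf z = 2) (hfix : (Finset.univ.filter fun p : Cfsg.GolayPt => (z : Equiv.Perm Cfsg.GolayPt) p = p) ∈ Cfsg.octads) (Q : Subgroup ↥Cfsg.M24) (hQ : Q = (Cfsg.pCore 2 ↥(Subgroup.centralizer ({z} : Set ↥Cfsg.M24))).map (Subgroup.centralizer ({z} : Set ↥Cfsg.M24)).subtype) : Cfsg.IsExtraspecial 2 ↥Q ∧ Nat.card ↥Q = 2 ^ 7 ∧ (∃ E : Subgroup ↥Cfsg.M24, E ≤ Q ∧ Cfsg.IsElementaryAbelian 2 E ∧ Nat.card ↥E = 2 ^ 4) ∧ Cfsg.IsLargeExtraspecial Q ∧ ∃ K : Subgroup ↥Cfsg.M24, K ≤ Subgroup.centralizer ({z} : Set ↥Cfsg.M24) ∧ Q ⊓ K = ⊥ ∧ Q ⊔ K = Subgroup.centralizer ({z} : Set ↥Cfsg.M24) ∧ Nonempty (↥K ≃* Matrix.SpecialLinearGroup (Fin 3) (ZMod 2)) := by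
  classical
  have hfixpt : ∃ p, (z : Equiv.Perm Cfsg.GolayPt) p = p := by
    have hne : (Finset.univ.filter fun p : Cfsg.GolayPt => (z : Equiv.Perm Cfsg.GolayPt) p = p).Nonempty := by
      rw [← Finset.card_pos, hfix.2]
      norm_num
    obtain ⟨p, hp⟩ := hne
    exact ⟨p, (Finset.mem_filter.mp hp).2⟩
  obtain ⟨k, hk⟩ := Cfsg.Agent.Lib.Helper14.OctInv.exists_conj_zz z hz hfixpt
  obtain ⟨ψ0⟩ := Cfsg.Agent.Lib.Helper14.OctInv.nonempty_psi0
  obtain ⟨g, hg1, hg2⟩ := Cfsg.Agent.Lib.Helper14.OctInv.exists_g z hz hfix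
  exact Cfsg.Agent.Lib.Helper14.OctInv.transfer z hz
    ((Cfsg.Agent.Lib.Helper14.OctInv.centConj k _ z hk).trans ψ0) Q hQ g hg1 (by rw [hQ]; exact hg2)

end Cfsg.Agent.S5425
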