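import Cfsg.Statements.S5432
import Cfsg.Agent.Lib.Helper16.ESQuad4
import Cfsg.Agent.Lib.Helper16.ESQuad6
import Cfsg.Agent.Lib.Helper16.ESQuad7

set_option autoImplicit false
open Cfsg

namespace Cfsg.Agent.S5432

/-- Let E be an extraspecial 2-group of order 2^(2n+1), n ≥ 1. If E contains an elementary abelian subgroup of order 2^(n+1) (plus type), then its outer automorphism group is isomorphic to the full isometry group of the hyperbolic quadratic form in dimension 2n over the field with two elements; otherwise (minus type) it is isomorphic to the full isometry group of the elliptic quadratic form in dimension 2n over that field. -/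
theorem result {E : Type*} [Group E] [Finite E] (hE : Cfsg.IsExtraspecial 2 E) (n : ℕ) (hn : 1 ≤ n) (hcard : Nat.card E = 2 ^ (2 * n + 1)) : ((∃ A : Subgroup E, Cfsg.IsElementaryAbelian 2 A ∧ Nat.card ↥A = 2 ^ (n + 1)) → Nonempty (Cfsg.Out E ≃* Cfsg.isometryGroup (ZMod 2) (Cfsg.quadFormPlus n (ZMod 2)))) ∧ ((¬ ∃ A : Subgroup E, Cfsg.IsElementaryAbelian 2 A ∧ Nat.card ↥A = 2 ^ (n + 1)) → Nonempty (Cfsg.Out E ≃* Cfsg.isometryGroup (ZMod 2) (Cfsg.quadFormMinus (n - 1) (ZMod 2) 1 1))) := by
  classical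
  obtain ⟨z, h⟩ := Cfsg.Agent.Lib.Helper16.ES32.exists_esData hE
  obtain ⟨k, rfl⟩ : ∃ k, n = k + 1 := ⟨n - 1, by omega⟩
  rcases Cfsg.Agent.Lib.Helper16.ESQuad.exists_coord h k hcard with ⟨⟨C⟩⟩ | ⟨⟨C⟩⟩
  · constructor
    · intro _
      exact C.out_equiv h
    · intro hno
      exact absurd (Cfsg.Agent.Lib.Helper16.ESQuad.exists_elemAb_of_plus h (k + 1) C) hno
  · constructor
    · rintro ⟨A, hA, hAcard⟩
      exfalso
      have h1 := Cfsg.Agent.Lib.Helper16.ESQuad.card_elemAb_le_of_minus h k C A hA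
      rw [hAcard] at h1
      have h2 : 2 ^ (k + 1) < 2 ^ (k + 1 + 1) := Nat.pow_lt_pow_right (by norm_num) (by omega)
      omega
    · intro _
      exact C.out_equiv h

end Cfsg.Agent.S5432
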