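import Cfsg.Statements.S5433
import Cfsg.Agent.Lib.Helper27.Basic

set_option autoImplicit false
open Cfsg

namespace Cfsg.Agent.S5433

/-- Let Q be a large extraspecial 2-subgroup of the finite group G (extraspecial; centralizer equal to its centre; normal in the centralizer of its centre; normalizing no non-trivial subgroup of odd order), and L a normal subgroup of G containing Q. Then G is the product of L and the normalizer of Q. -/
theorem result {G : Type*} [Group G] [Finite G] (Q : Subgroup G) (hQ : Cfsg.IsLargeExtraspecial Q) (L : Subgroup G) [L.Normal] (hQL : Q ≤ L) : L ⊔ Subgroup.normalizer (Q : Set G) = ⊤ := by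
  classical
  obtain ⟨hE, hC, hN, -⟩ := hQ
  have hQ2 : IsPGroup 2 Q := hE.1.1
  have hcard : Nat.card (Subgroup.center ↥Q) = 2 := hE.2
  have hZcard : Nat.card ((Subgroup.center ↥Q).map Q.subtype) = 2 := by
    rw [Subgroup.card_map_of_injective Q.subtype_injective]
    exact hcard
  have hZQ : ((Subgroup.center ↥Q).map Q.subtype) ≤ Q := by
    rintro _ ⟨x, -, rfl⟩
    exact x.2
  obtain ⟨⟨z0, hz0Z⟩, hz0, huniq⟩ := (Nat.card_eq_two_iff' (1 : ((Subgroup.center ↥Q).map Q.subtype))).mp hZcard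
  have hz0' : z0 ≠ 1 := fun h => hz0 (Subtype.ext h)
  have hZel : ∀ a ∈ ((Subgroup.center ↥Q).map Q.subtype), a ≠ 1 → a = z0 := by
    intro a ha ha1
    have := huniq ⟨a, ha⟩ (fun h => ha1 (congrArg Subtype.val h))
    exact congrArg Subtype.val this
  -- commuting with z0 puts you in the normalizer of Q
  have hcomm : ∀ h : G, h * z0 = z0 * h → h ∈ Subgroup.normalizer (Q : Set G) := by
    intro h hh
    apply hN
    rw [Subgroup.mem_centralizer_iff]
    intro z hz
    by_cases hz1 : z = 1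
    · rw [hz1, one_mul, mul_one]
    · rw [hZel z hz hz1]
      exact hh.symm
  haveI : Fact (Nat.Prime 2) := ⟨Nat.prime_two⟩
  have hQL2 : IsPGroup 2 (Q.subgroupOf L) := hQ2.comap_subtype
  obtain ⟨P, hP⟩ := hQL2.exists_le_sylow
  have hfr := Sylow.normalizer_sup_eq_top P
  have hQT : Q ≤ (P : Subgroup L).map L.subtype := by
    intro q hq
    exact ⟨⟨q, hQL hq⟩, hP (Subgroup.mem_subgroupOf.mpr hq), rfl⟩
  have hT2 : IsPGroup 2 ((P : Subgroup L).map L.subtype) := P.isPGroup'.map _
  -- z0 lies in T and is central in T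
  have hzT : z0 ∈ (P : Subgroup L).map L.subtype := hQT (hZQ hz0Z)
  haveI : Nontrivial ↥((P : Subgroup L).map L.subtype) :=
    ⟨⟨⟨z0, hzT⟩, 1, fun h => hz0' (congrArg Subtype.val h)⟩⟩
  obtain ⟨⟨c, hc⟩, c', hcc'⟩ := hT2.center_nontrivial
  -- get a nontrivial central element of T
  obtain ⟨⟨⟨c0, hc0T⟩, hc0cen⟩, hc0ne⟩ : ∃ c : Subgroup.center ↥((P : Subgroup L).map L.subtype), c ≠ 1 := by
    by_cases h1 : (⟨c, hc⟩ : Subgroup.center ↥((P : Subgroup L).map L.subtype)) = 1
    · refine ⟨c', fun h => hcc' ?_⟩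
      rw [h1, h]
    · exact ⟨_, h1⟩
  have hc0ne' : c0 ≠ 1 := fun h => hc0ne (Subtype.ext (Subtype.ext h))
  have hc0comm : ∀ t ∈ (P : Subgroup L).map L.subtype, t * c0 = c0 * t := by
    intro t ht
    have := Subgroup.mem_center_iff.mp hc0cen ⟨t, ht⟩
    exact congrArg Subtype.val this
  have hc0Z : c0 ∈ ((Subgroup.center ↥Q).map Q.subtype) := by
    rw [← hC, Subgroup.mem_centralizer_iff]
    intro q hq
    exact hc0comm q (hQT hq)
  have hc0z0 : c0 = z0 := hZel c0 hc0Z hc0ne'
  subst hc0z0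
  -- normalizer of T is inside normalizer of Q
  have hNT : Subgroup.normalizer (((P : Subgroup L).map L.subtype : Subgroup G) : Set G) ≤
      Subgroup.normalizer (Q : Set G) := by
    intro h hh
    apply hcomm
    have hmem : ∀ t : G, t ∈ (P : Subgroup L).map L.subtype ↔ h * t * h⁻¹ ∈ (P : Subgroup L).map L.subtype :=
      fun t => Subgroup.mem_normalizer_iff.mp hh t
    have hmem' : ∀ t : G, t ∈ (P : Subgroup L).map L.subtype → h⁻¹ * t * h ∈ (P : Subgroup L).map L.subtype := by
      intro t ht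
      rw [hmem]
      have : h * (h⁻¹ * t * h) * h⁻¹ = t := by group
      rw [this]; exact ht
    have h1 : h * c0 * h⁻¹ ∈ (P : Subgroup L).map L.subtype := (hmem c0).mp hc0T
    have h2 : h * c0 * h⁻¹ ≠ 1 := by
      intro h'
      apply hc0ne'
      have : c0 = h⁻¹ * (h * c0 * h⁻¹) * h := by group
      rw [this, h']; group
    have h3 : h * c0 * h⁻¹ ∈ ((Subgroup.center ↥Q).map Q.subtype) := by
      rw [← hC, Subgroup.mem_centralizer_iff]
      intro q hq
      have hq' := hc0comm _ (hmem' q (hQT hq))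
      calc q * (h * c0 * h⁻¹) = h * ((h⁻¹ * q * h) * c0) * h⁻¹ := by group
        _ = h * (c0 * (h⁻¹ * q * h)) * h⁻¹ := by rw [hq']
        _ = h * c0 * h⁻¹ * q := by group
    have h4 : h * c0 * h⁻¹ = c0 := hZel _ h3 h2
    calc h * c0 = (h * c0 * h⁻¹) * h := by group
      _ = c0 * h := by rw [h4]
  rw [eq_top_iff, ← hfr, sup_comm]
  exact sup_le_sup_left hNT L

end Cfsg.Agent.S5433
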