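import Cfsg.Statements.S5435
import Cfsg.Agent.Lib.Helper11.Extremal
import Cfsg.Agent.Lib.Helper11.TwoGroupE8
import Cfsg.Agent.Lib.Helper18.QDTransfer
import Cfsg.Agent.Lib.Helper7.SimpleTools
import Cfsg.Agent.Lib.Helper4.D8Rec
import Cfsg.Agent.Lib.Helper1.PGroup

set_option autoImplicit false
open Cfsg

namespace Cfsg.Agent.S5435

theorem mem_zpowers_invol {G : Type*} [Group G] {z : G} (hz : z * z = 1) (x : G) :
    x ∈ Subgroup.zpowers z ↔ x = 1 ∨ x = z := by
  constructor
  · intro h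
    obtain ⟨k, rfl⟩ := Subgroup.mem_zpowers_iff.mp h
    rcases Int.even_or_odd' k with ⟨m, rfl | rfl⟩
    · left; rw [zpow_mul, zpow_two, hz, one_zpow]
    · right; rw [zpow_add, zpow_mul, zpow_two, hz, one_zpow, one_mul, zpow_one]
  · rintro (rfl | rfl)
    · exact one_mem _
    · exact Subgroup.mem_zpowers _

theorem pow_invol {G : Type*} [Group G] {z : G} (hz : z * z = 1) (k : ℕ) :
    z ^ k = 1 ∨ z ^ k = z := by
  induction k with
  | zero => left; simp
  | succ n ih =>
    rcases ih with h | h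
    · right; rw [pow_succ, h, one_mul]
    · left; rw [pow_succ, h, hz]

/-- two elements with the same commutator against `s` differ by an element commuting with `s` -/
theorem comm_of_same_commutator {X : Type*} [Group X] (a b s c : X)
    (ha : a * s * a⁻¹ * s⁻¹ = c) (hb : b * s * b⁻¹ * s⁻¹ = c) :
    (a⁻¹ * b) * s = s * (a⁻¹ * b) := by
  have h1 : a * s * a⁻¹ = b * s * b⁻¹ := by
    have : a * s * a⁻¹ * s⁻¹ = b * s * b⁻¹ * s⁻¹ := ha.trans hb.symm
    exact mul_right_cancel this
  have h2 : s = a⁻¹ * (b * s * b⁻¹) * a := by rw [← h1]; group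
  calc (a⁻¹ * b) * s = (a⁻¹ * (b * s * b⁻¹) * a) * (a⁻¹ * b) := by group
    _ = s * (a⁻¹ * b) := by rw [← h2]

theorem card_le_eight {X : Type*} [Group X] [Finite X] (z t : X)
    (hcomm : ∀ x y : X, x * y * x⁻¹ * y⁻¹ = 1 ∨ x * y * x⁻¹ * y⁻¹ = z)
    (hcent : ∀ c : X, (∀ x, x * c = c * x) → c * c = 1 → c = 1 ∨ c = z)
    (hD : ∀ d : X, d * t = t * d → d * d = 1)
    (x₀ : X) (hx₀ : x₀ * t ≠ t * x₀) : Nat.card X ≤ 8 := by
  classical
  -- commutator with `s` nontrivial means it equals `z`
  have hne : ∀ a s : X, a * s ≠ s * a → a * s * a⁻¹ * s⁻¹ = z := by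
    intro a s has
    rcases hcomm a s with h | h
    · exfalso; apply has
      have : a * s = (a * s * a⁻¹ * s⁻¹) * (s * a) := by group
      rw [this, h, one_mul]
    · exact h
  set D : Subgroup X := Subgroup.centralizer ({t} : Set X) with hDdef
  set E : Subgroup X := D ⊓ Subgroup.centralizer ({x₀} : Set X) with hEdef
  have memD : ∀ a : X, a ∈ D ↔ a * t = t * a := by
    intro a
    rw [hDdef, Subgroup.mem_centralizer_iff]
    constructor
    · intro h; exact (h t rfl).symm
    · intro h s hs; rw [Set.mem_singleton_iff.mp hs]; exact h.symm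
  have memE : ∀ a : X, a ∈ E ↔ a * t = t * a ∧ a * x₀ = x₀ * a := by
    intro a
    rw [hEdef, Subgroup.mem_inf, memD, Subgroup.mem_centralizer_iff]
    constructor
    · rintro ⟨h1, h2⟩; exact ⟨h1, (h2 x₀ rfl).symm⟩
    · rintro ⟨h1, h2⟩; refine ⟨h1, ?_⟩
      intro s hs; rw [Set.mem_singleton_iff.mp hs]; exact h2.symm
  -- any two elements outside `D` differ by an element of `D`
  have hDD : ∀ a b : X, a ∉ D → b ∉ D → a⁻¹ * b ∈ D := by
    intro a b ha hb
    rw [memD] at ha hb ⊢
    exact comm_of_same_commutator a b t z (hne a t ha) (hne b t hb)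
  have h1 : Nat.card X ≤ 2 * Nat.card D := by
    have := Cfsg.Agent.Lib.Helper11.card_le_two_mul_of_forall_mem (⊤ : Subgroup X) D le_top
      (fun a _ b _ ha hb => hDD a b ha hb)
    rwa [Subgroup.card_top] at this
  have h2 : Nat.card D ≤ 2 * Nat.card E := by
    apply Cfsg.Agent.Lib.Helper11.card_le_two_mul_of_forall_mem D E inf_le_left
    intro a ha b hb haE hbE
    have haD := (memD a).mp ha
    have hbD := (memD b).mp hb
    rw [memE] at haE hbE ⊢
    have hax : a * x₀ ≠ x₀ * a := fun h => haE ⟨haD, h⟩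
    have hbx : b * x₀ ≠ x₀ * b := fun h => hbE ⟨hbD, h⟩
    refine ⟨(memD _).mp (D.mul_mem (D.inv_mem ha) hb), ?_⟩
    exact comm_of_same_commutator a b x₀ z (hne a x₀ hax) (hne b x₀ hbx)
  have h3 : Nat.card E ≤ 2 := by
    apply Cfsg.Agent.Lib.Helper11.card_le_two_of_forall E z
    intro c hc
    rw [memE] at hc
    have hc2 : c * c = 1 := hD c hc.1
    apply hcent c _ hc2
    -- `c` is central
    have hDab : ∀ x : X, x ∈ D → x * c = c * x := by
      intro x hx
      have hx2 : x * x = 1 := hD x ((memD x).mp hx)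
      have hxc : (x * c) * (x * c) = 1 := by
        apply hD
        exact (memD _).mp (D.mul_mem hx ((memD c).mpr hc.1))
      have hxi : x⁻¹ = x := inv_eq_of_mul_eq_one_left hx2
      have hci : c⁻¹ = c := inv_eq_of_mul_eq_one_left hc2
      have : x * c = (x * c)⁻¹ := (inv_eq_of_mul_eq_one_left hxc).symm
      rw [this, mul_inv_rev, hxi, hci]
    intro x
    by_cases hx : x ∈ D
    · exact hDab x hx
    · have hx₀D : x₀ ∉ D := by rw [memD]; exact hx₀
      have hd := hDD x₀ x hx₀D hx
      have hdc := hDab _ hd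
      have hxe : x = x₀ * (x₀⁻¹ * x) := by group
      calc x * c = x₀ * ((x₀⁻¹ * x) * c) := by rw [← mul_assoc, ← hxe]
        _ = x₀ * (c * (x₀⁻¹ * x)) := by rw [hdc]
        _ = (c * x₀) * (x₀⁻¹ * x) := by rw [← mul_assoc, hc.2]
        _ = c * x := by rw [mul_assoc, ← hxe]
  omega

/-- Let L be a finite non-abelian simple group with an involution z whose centralizer R is a Sylow 2-subgroup of L whose Frattini subgroup is the subgroup generated by z. Then R is dihedral of order 8. -/
theorem result {L : Type*} [Group L] [Finite L] [IsSimpleGroup L] (hL : ¬ IsMulCommutative L) (z : L) (hz : orderOf z = 2) (R : Sylow 2 L) (hR : (R : Subgroup L) = Subgroup.centralizer ({z} : Set L)) (hΦ : (frattini ↥(R : Subgroup L)).map (R : Subgroup L).subtype = Subgroup.zpowers z) : Nonempty (↥(R : Subgroup L) ≃* DihedralGroup 4) := by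
  classical
  haveI : Fact (Nat.Prime 2) := ⟨Nat.prime_two⟩
  have hz2 : z * z = 1 := by rw [← pow_two, ← hz]; exact pow_orderOf_eq_one z
  have hz1 : z ≠ 1 := by intro h; rw [h, orderOf_one] at hz; omega
  have hcen : ∀ g : L, g ∈ (R : Subgroup L) ↔ z * g = g * z := by
    intro g
    rw [hR, Subgroup.mem_centralizer_iff]
    constructor
    · intro h; exact h z rfl
    · intro h s hs; rw [Set.mem_singleton_iff.mp hs]; exact h
  have hzS : z ∈ (R : Subgroup L) := (hcen z).mpr rfl
  have hP : IsPGroup 2 ↥(R : Subgroup L) := R.isPGroup'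
  have hfr : ∀ x : ↥(R : Subgroup L), x ∈ frattini ↥(R : Subgroup L) ↔ (x : L) = 1 ∨ (x : L) = z := by
    intro x
    rw [← mem_zpowers_invol hz2, ← hΦ]
    exact (Subgroup.mem_map_iff_mem (R : Subgroup L).subtype_injective).symm
  have F1 : ∀ x ∈ (R : Subgroup L), x * x = 1 ∨ x * x = z := by
    intro x hx
    have := Cfsg.Agent.Lib.Helper1.IsPGroup.pow_mem_frattini hP ⟨x, hx⟩
    rw [hfr] at this
    simpa [pow_two] using this
  have F2 : ∀ x ∈ (R : Subgroup L), ∀ y ∈ (R : Subgroup L),
      x * y * x⁻¹ * y⁻¹ = 1 ∨ x * y * x⁻¹ * y⁻¹ = z := by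
    intro x hx y hy
    have h1 : (⟨x, hx⟩ : ↥(R : Subgroup L)) * ⟨y, hy⟩ * (⟨x, hx⟩ : ↥(R : Subgroup L))⁻¹ *
        (⟨y, hy⟩ : ↥(R : Subgroup L))⁻¹ ∈ commutator ↥(R : Subgroup L) := by
      rw [commutator_def]
      exact Subgroup.commutator_mem_commutator (Subgroup.mem_top (⟨x, hx⟩ : ↥(R : Subgroup L)))
        (Subgroup.mem_top (⟨y, hy⟩ : ↥(R : Subgroup L)))
    have := Cfsg.Agent.Lib.Helper1.IsPGroup.commutator_le_frattini hP h1
    rw [hfr] at this
    simpa using this
  have F3 : ∀ x (hx : x ∈ (R : Subgroup L)), x ≠ 1 → x ≠ z →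
      ∃ M : Subgroup ↥(R : Subgroup L), IsCoatom M ∧ (⟨x, hx⟩ : ↥(R : Subgroup L)) ∉ M := by
    intro x hx h1 h2
    have h3 : (⟨x, hx⟩ : ↥(R : Subgroup L)) ∉ frattini ↥(R : Subgroup L) := by
      rw [hfr]; push Not; exact ⟨h1, h2⟩
    unfold frattini Order.radical at h3
    simp only [Subgroup.mem_iInf] at h3
    push Not at h3
    obtain ⟨M, hM, hxM⟩ := h3
    exact ⟨M, hM, hxM⟩
  have F6 : ∀ M : Subgroup ↥(R : Subgroup L), IsCoatom M → ∀ c (hc : c ∈ (R : Subgroup L)),
      (c = 1 ∨ c = z) → (⟨c, hc⟩ : ↥(R : Subgroup L)) ∈ M := by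
    intro M hM c hc h
    exact frattini_le_coatom hM ((hfr _).mpr h)
  have hno2 : ∀ H : Subgroup L, H.index ≠ 2 := by
    intro H hH
    have hn : H.Normal := Subgroup.normal_of_index_eq_two hH
    rcases hn.eq_bot_or_eq_top with h | h
    · rw [h, Subgroup.index_bot] at hH
      apply hL
      have : IsCyclic L := isCyclic_of_prime_card hH
      exact IsCyclic.isMulCommutative
    · rw [h, Subgroup.index_top] at hH; omega
  have hres : Cfsg.pResidual 2 L = ⊤ :=
    Cfsg.Agent.Lib.Helper11.pResidual_two_eq_top_of_no_index_two hno2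
  -- conjugates of `z` inside `R` that are squares
  have hconjz : ∀ g : L, (g * z * g⁻¹ = 1 ∨ g * z * g⁻¹ = z) → g ∈ (R : Subgroup L) := by
    intro g h2
    rcases h2 with h2 | h2
    · exfalso; apply hz1
      have : z = g⁻¹ * (g * z * g⁻¹) * g := by group
      rw [this, h2]; group
    · rw [hcen]
      calc z * g = (g * z * g⁻¹) * g := by rw [h2]
        _ = g * z := by group
  -- `N_L(R) = R`
  have hN : ∀ g : L, (∀ x ∈ (R : Subgroup L), g * x * g⁻¹ ∈ (R : Subgroup L)) → g ∈ (R : Subgroup L) := by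
    intro g hg
    let φ : ↥(R : Subgroup L) →* ↥(R : Subgroup L) :=
      { toFun := fun x => ⟨g * x * g⁻¹, hg x x.2⟩
        map_one' := by ext; simp
        map_mul' := by intro a b; ext; simp }
    have hinj : Function.Injective φ := by
      intro a b hab
      have h1 : g * (a : L) * g⁻¹ = g * (b : L) * g⁻¹ := congrArg Subtype.val hab
      have h2 : (a : L) = b := by
        have := mul_right_cancel h1
        exact mul_left_cancel this
      exact Subtype.ext h2
    have hbij : Function.Bijective φ := Finite.injective_iff_bijective.mp hinj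
    let e : ↥(R : Subgroup L) ≃* ↥(R : Subgroup L) := MulEquiv.ofBijective φ hbij
    have hchar : (frattini ↥(R : Subgroup L)).Characteristic := frattini_characteristic
    have hmap := (Subgroup.characteristic_iff_map_le.mp hchar) e
    have hzfr : (⟨z, hzS⟩ : ↥(R : Subgroup L)) ∈ frattini ↥(R : Subgroup L) :=
      (hfr _).mpr (Or.inr rfl)
    have h1 : e ⟨z, hzS⟩ ∈ frattini ↥(R : Subgroup L) := hmap (Subgroup.mem_map_of_mem _ hzfr)
    rw [hfr] at h1
    exact hconjz g h1
  -- `R` is not abelian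
  have hnab : ∃ x ∈ (R : Subgroup L), ∃ y ∈ (R : Subgroup L), x * y ≠ y * x := by
    by_contra hcon
    push Not at hcon
    have hT : 1 < Nat.card ↥(R : Subgroup L) := by
      rw [Subgroup.one_lt_card_iff_ne_bot]
      intro hb
      rw [hb, Subgroup.mem_bot] at hzS
      exact hz1 hzS
    apply Cfsg.Agent.Lib.Helper7.not_normalizer_le_centralizer hL R hT hcon
    intro g hg
    have hgS : g ∈ (R : Subgroup L) :=
      hN g (fun x hx => (Subgroup.mem_normalizer_iff.mp hg x).mp hx)
    rw [Subgroup.mem_centralizer_iff]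
    intro h hh
    exact hcon h hh g hgS
  -- central involutions of `R` lie in `⟨z⟩`
  have hA : ∀ a ∈ (R : Subgroup L), (∀ x ∈ (R : Subgroup L), x * a = a * x) → a * a = 1 →
      a = 1 ∨ a = z := by
    intro a haS hac ha2
    by_contra hne
    push Not at hne
    obtain ⟨M, hM, haM⟩ := F3 a haS hne.1 hne.2
    have hoa : orderOf a = 2 := orderOf_eq_prime (by rw [pow_two]; exact ha2) hne.1
    obtain ⟨g, ⟨hbS, hbM⟩, -, hsub⟩ :=
      Cfsg.Agent.Lib.Helper11.exists_extremal_conj_coatom R M hM hres a hoa haS haM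
    have hgS : g ∈ (R : Subgroup L) := by
      apply hN
      intro x hx
      have hx' : x ∈ (R : Subgroup L) ⊓ Subgroup.centralizer {a} := by
        refine Subgroup.mem_inf.mpr ⟨hx, ?_⟩
        rw [Subgroup.mem_centralizer_iff]
        intro s hs; rw [Set.mem_singleton_iff.mp hs]; exact (hac x hx).symm
      have : g * x * g⁻¹ ∈ (R : Subgroup L) ⊓ Subgroup.centralizer {g * a * g⁻¹} :=
        hsub ⟨x, hx', rfl⟩
      exact this.1
    have hga : g * a * g⁻¹ = a := by rw [hac g hgS]; group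
    apply haM
    have : (⟨a, haS⟩ : ↥(R : Subgroup L)) = ⟨g * a * g⁻¹, hbS⟩ := Subtype.ext hga.symm
    rw [this]; exact hbM
  -- centralizers of other involutions have exponent two
  have hD : ∀ t ∈ (R : Subgroup L), t * t = 1 → t ≠ 1 → t ≠ z →
      ∀ d ∈ (R : Subgroup L), d * t = t * d → d * d = 1 := by
    intro t htS ht2 ht1 htz d hdS hdt
    by_contra hd2
    have hdz : d * d = z := (F1 d hdS).resolve_left hd2
    obtain ⟨M, hM, htM⟩ := F3 t htS ht1 htz
    have hot : orderOf t = 2 := orderOf_eq_prime (by rw [pow_two]; exact ht2) ht1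
    obtain ⟨g, ⟨hbS, hbM⟩, -, hsub⟩ :=
      Cfsg.Agent.Lib.Helper11.exists_extremal_conj_coatom R M hM hres t hot htS htM
    have hgd : g * d * g⁻¹ ∈ (R : Subgroup L) := by
      have hd' : d ∈ (R : Subgroup L) ⊓ Subgroup.centralizer {t} := by
        refine Subgroup.mem_inf.mpr ⟨hdS, ?_⟩
        rw [Subgroup.mem_centralizer_iff]
        intro s hs; rw [Set.mem_singleton_iff.mp hs]; exact hdt.symm
      have : g * d * g⁻¹ ∈ (R : Subgroup L) ⊓ Subgroup.centralizer {g * t * g⁻¹} :=
        hsub ⟨d, hd', rfl⟩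
      exact this.1
    have hgS : g ∈ (R : Subgroup L) := by
      apply hconjz
      have h1 := F1 _ hgd
      have h2 : g * d * g⁻¹ * (g * d * g⁻¹) = g * z * g⁻¹ := by rw [← hdz]; group
      rwa [h2] at h1
    have hc := F2 g hgS t htS
    have hcS : g * t * g⁻¹ * t⁻¹ ∈ (R : Subgroup L) :=
      (R : Subgroup L).mul_mem hbS ((R : Subgroup L).inv_mem htS)
    have hcM := F6 M hM (g * t * g⁻¹ * t⁻¹) hcS hc
    apply htM
    have : (⟨t, htS⟩ : ↥(R : Subgroup L)) =
        (⟨g * t * g⁻¹ * t⁻¹, hcS⟩ : ↥(R : Subgroup L))⁻¹ * ⟨g * t * g⁻¹, hbS⟩ := by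
      apply Subtype.ext
      show t = (g * t * g⁻¹ * t⁻¹)⁻¹ * (g * t * g⁻¹)
      group
    rw [this]; exact M.mul_mem (M.inv_mem hcM) hbM
  have hnab' : ¬ IsMulCommutative ↥(R : Subgroup L) := by
    intro h
    obtain ⟨x, hx, y, hy, hxy⟩ := hnab
    apply hxy
    exact congrArg Subtype.val (h.is_comm.comm ⟨x, hx⟩ ⟨y, hy⟩)
  by_cases hinv : ∃ t ∈ (R : Subgroup L), t * t = 1 ∧ t ≠ 1 ∧ t ≠ z
  swap
  · exfalso
    push Not at hinv
    obtain ⟨x, hx, y, hy, hxy⟩ := hnab
    have hex : ∃ u ∈ (R : Subgroup L), u * u ≠ 1 := by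
      by_contra hcon
      push Not at hcon
      apply hxy
      have h1 := hcon x hx
      have h2 := hcon y hy
      have h3 := hcon (x * y) ((R : Subgroup L).mul_mem hx hy)
      have hxi : x⁻¹ = x := inv_eq_of_mul_eq_one_left h1
      have hyi : y⁻¹ = y := inv_eq_of_mul_eq_one_left h2
      have : x * y = (x * y)⁻¹ := (inv_eq_of_mul_eq_one_left h3).symm
      rw [this, mul_inv_rev, hxi, hyi]
    obtain ⟨u, huS, hu2⟩ := hex
    have huz : u * u = z := (F1 u huS).resolve_left hu2
    have hu1 : u ≠ 1 := by rintro rfl; simp at hu2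
    have huz' : u ≠ z := by rintro rfl; exact hu2 hz2
    obtain ⟨M, hM, huM⟩ := F3 u huS hu1 huz'
    have hMidx : M.index = 2 := Cfsg.Agent.Lib.Helper1.IsPGroup.coatom_index hP M hM
    have hpow : ∀ k : ℕ, u ^ (2 * k) = z ^ k := by
      intro k; rw [pow_mul, pow_two, huz]
    have hodd : ∀ (j : ℕ) (g : L) (hg : g⁻¹ * u ^ j * g ∈ (R : Subgroup L)), Odd j →
        (⟨_, hg⟩ : ↥(R : Subgroup L)) ∉ M := by
      intro j g hg hj
      obtain ⟨k, rfl⟩ := hj
      have hupow : u ^ (2 * k + 1) = z ^ k * u := by rw [pow_succ, hpow]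
      have hzkS : z ^ k ∈ (R : Subgroup L) := (R : Subgroup L).pow_mem hzS k
      have hzku : z ^ k * u = u * z ^ k := by
        have := (hcen u).mp huS
        exact ((Commute.pow_left (show Commute z u from this) k)).eq
      have hsq : (z ^ k * u) * (z ^ k * u) = z := by
        calc (z ^ k * u) * (z ^ k * u) = z ^ k * (u * z ^ k) * u := by group
          _ = z ^ k * (z ^ k * u) * u := by rw [hzku]
          _ = (z ^ k * z ^ k) * (u * u) := by group
          _ = z := by
            rw [huz]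
            rcases pow_invol hz2 k with h | h
            · rw [h, one_mul, one_mul]
            · rw [h, hz2, one_mul]
      have hgoal : ∀ (w : L) (hw : w ∈ (R : Subgroup L)), w = g⁻¹ * (z ^ k * u) * g →
          (⟨w, hw⟩ : ↥(R : Subgroup L)) ∉ M := by
        intro w hw hwe hmem
        subst hwe
        have hgS : g⁻¹ ∈ (R : Subgroup L) := by
          apply hconjz
          have h1 := F1 _ hw
          have h2 : g⁻¹ * (z ^ k * u) * g * (g⁻¹ * (z ^ k * u) * g) = g⁻¹ * z * g⁻¹⁻¹ := by
            calc g⁻¹ * (z ^ k * u) * g * (g⁻¹ * (z ^ k * u) * g)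
                = g⁻¹ * ((z ^ k * u) * (z ^ k * u)) * g := by group
              _ = g⁻¹ * z * g⁻¹⁻¹ := by rw [hsq, inv_inv]
          rwa [h2] at h1
        have hwS : z ^ k * u ∈ (R : Subgroup L) := (R : Subgroup L).mul_mem hzkS huS
        have hc := F2 g⁻¹ hgS (z ^ k * u) hwS
        have hcS : g⁻¹ * (z ^ k * u) * g⁻¹⁻¹ * (z ^ k * u)⁻¹ ∈ (R : Subgroup L) :=
          (R : Subgroup L).mul_mem ((R : Subgroup L).mul_mem ((R : Subgroup L).mul_mem hgS hwS)
            ((R : Subgroup L).inv_mem hgS)) ((R : Subgroup L).inv_mem hwS)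
        have hcM := F6 M hM _ hcS hc
        have hzkM := F6 M hM (z ^ k) hzkS (pow_invol hz2 k)
        apply huM
        have : (⟨u, huS⟩ : ↥(R : Subgroup L)) =
            (⟨z ^ k, hzkS⟩ : ↥(R : Subgroup L))⁻¹ *
              ((⟨g⁻¹ * (z ^ k * u) * g⁻¹⁻¹ * (z ^ k * u)⁻¹, hcS⟩ : ↥(R : Subgroup L))⁻¹ *
                ⟨g⁻¹ * (z ^ k * u) * g, hw⟩) := by
          apply Subtype.ext
          show u = (z ^ k)⁻¹ * ((g⁻¹ * (z ^ k * u) * g⁻¹⁻¹ * (z ^ k * u)⁻¹)⁻¹ * (g⁻¹ * (z ^ k * u) * g))
          group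
        rw [this]
        exact M.mul_mem (M.inv_mem hzkM) (M.mul_mem (M.inv_mem hcM) hmem)
      exact hgoal _ hg (by rw [hupow])
    have heven : ∀ (j : ℕ) (g : L) (hg : g⁻¹ * u ^ j * g ∈ (R : Subgroup L)), Even j →
        (⟨_, hg⟩ : ↥(R : Subgroup L)) ∈ M := by
      intro j g hg hj
      obtain ⟨k, rfl⟩ := hj
      have hupow : u ^ (k + k) = z ^ k := by rw [← two_mul, hpow]
      have hgoal : ∀ (w : L) (hw : w ∈ (R : Subgroup L)), w = g⁻¹ * u ^ (k + k) * g →
          (⟨w, hw⟩ : ↥(R : Subgroup L)) ∈ M := by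
        intro w hw hwe
        rw [hupow] at hwe
        apply F6 M hM w hw
        rcases pow_invol hz2 k with h | h
        · left; rw [hwe, h]; group
        · rw [h] at hwe
          by_cases hw1 : w = 1
          · left; exact hw1
          · right
            apply hinv w hw _ hw1
            rw [hwe]
            calc g⁻¹ * z * g * (g⁻¹ * z * g) = g⁻¹ * (z * z) * g := by group
              _ = 1 := by rw [hz2]; group
      exact hgoal _ hg rfl
    obtain ⟨K, -, hKi, -⟩ :=
      Cfsg.Agent.Lib.Helper18.exists_normal_index_two_of_transfer R M hMidx u huS hodd heven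
    exact hno2 K hKi
  · obtain ⟨t, htS, ht2, ht1, htz⟩ := hinv
    have hnc : ∃ x₀ ∈ (R : Subgroup L), x₀ * t ≠ t * x₀ := by
      by_contra hcon
      push Not at hcon
      rcases hA t htS hcon ht2 with h | h
      exacts [ht1 h, htz h]
    obtain ⟨x₀, hx₀S, hx₀t⟩ := hnc
    have hcard : Nat.card ↥(R : Subgroup L) ≤ 8 := by
      apply card_le_eight (X := ↥(R : Subgroup L)) ⟨z, hzS⟩ ⟨t, htS⟩ _ _ _ ⟨x₀, hx₀S⟩
      · intro h; apply hx₀t; exact congrArg Subtype.val h
      · intro x y
        rcases F2 x x.2 y y.2 with h | h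
        · left; exact Subtype.ext h
        · right; exact Subtype.ext h
      · intro c hc hc2
        have := hA c c.2 (fun x hx => congrArg Subtype.val (hc ⟨x, hx⟩)) (congrArg Subtype.val hc2)
        rcases this with h | h
        · left; exact Subtype.ext h
        · right; exact Subtype.ext h
      · intro d hd
        exact Subtype.ext (hD t htS ht2 ht1 htz d d.2 (congrArg Subtype.val hd))
    have hcard8 : Nat.card ↥(R : Subgroup L) = 8 := by
      obtain ⟨k, hk⟩ := hP.exists_card_eq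
      rw [hk] at hcard
      have hk3 : k ≤ 3 := by
        by_contra hk4
        push Not at hk4
        have : 2 ^ 4 ≤ 2 ^ k := Nat.pow_le_pow_right (by norm_num) hk4
        omega
      interval_cases k
      · exfalso; apply hnab'
        have hsub : Subsingleton ↥(R : Subgroup L) := by
          rw [← Finite.card_le_one_iff_subsingleton, hk]; norm_num
        exact ⟨⟨fun a b => Subsingleton.elim _ _⟩⟩
      · exfalso; apply hnab'
        have : IsCyclic ↥(R : Subgroup L) := isCyclic_of_prime_card (p := 2) (by simpa using hk)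
        exact IsCyclic.isMulCommutative
      · exfalso; apply hnab'
        exact IsPGroup.isMulCommutative_of_card_eq_prime_sq (p := 2) hk
      · simpa using hk
    refine Cfsg.Agent.Lib.Helper4.nonempty_mulEquiv_dihedral_four hcard8 hnab'
      ⟨z, hzS⟩ ⟨t, htS⟩ ?_ ?_ ?_
    · rw [Subgroup.orderOf_mk]; exact hz
    · rw [Subgroup.orderOf_mk]
      exact orderOf_eq_prime (by rw [pow_two]; exact ht2) ht1
    · intro h; exact htz (congrArg Subtype.val h).symm

end Cfsg.Agent.S5435
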