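import Cfsg.Statements.S5436
import Mathlib
import Cfsg.Agent.Lib.Helper9.FStar
-- import your own Cfsg.Agent.* helpers here

set_option autoImplicit false
open Cfsg

namespace Cfsg.Agent.S5436

open Subgroup
open scoped commutatorElement

section
variable {G : Type*} [Group G]

/-- a fixed-point-free involution on a finite normal subgroup inverts it -/
theorem inverts_of_fpf [Finite G] (N : Subgroup G) [N.Normal] (t : G) (ht : t * t = 1)
    (hfpf : ∀ n ∈ N, t * n * t⁻¹ = n → n = 1) : ∀ n ∈ N, t * n * t⁻¹ = n⁻¹ := by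
  intro n hn
  have ht' : t⁻¹ = t := inv_eq_of_mul_eq_one_left ht
  let φ : ↥N →* ↥N := (MulAut.conjNormal t : MulAut N).toMonoidHom
  have hφv : ∀ m : ↥N, ((φ m : ↥N) : G) = t * (m : G) * t⁻¹ := fun m => rfl
  have hφ : MonoidHom.FixedPointFree φ := by
    intro m hm
    have h1 : t * (m : G) * t⁻¹ = m := by
      rw [← hφv m, hm]
    exact Subtype.ext (hfpf m m.2 h1)
  have hinv : Function.Involutive φ := by
    intro m
    apply Subtype.ext
    rw [hφv, hφv, ht']
    calc t * (t * (m : G) * t) * t = (t * t) * m * (t * t) := by group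
      _ = m := by rw [ht, one_mul, mul_one]
  have h1 := hφ.coe_eq_inv_of_involutive hinv
  have h2 := congrFun h1 ⟨n, hn⟩
  have h3 := congrArg Subtype.val h2
  rw [hφv] at h3
  exact h3

/-- the closure of a conjugation-invariant set is normal -/
theorem closure_normal_of_conj (S : Set G) (hS : ∀ s ∈ S, ∀ g : G, g * s * g⁻¹ ∈ S) :
    (Subgroup.closure S).Normal := by
  constructor
  intro n hn g
  induction hn using Subgroup.closure_induction with
  | mem x hx => exact Subgroup.subset_closure (hS x hx g)
  | one => simp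
  | mul x y _ _ hx hy =>
    have : g * (x * y) * g⁻¹ = (g * x * g⁻¹) * (g * y * g⁻¹) := by group
    rw [this]; exact Subgroup.mul_mem _ hx hy
  | inv x _ hx =>
    have : g * x⁻¹ * g⁻¹ = (g * x * g⁻¹)⁻¹ := by group
    rw [this]; exact Subgroup.inv_mem _ hx

theorem mem_zpowers_of_orderOf_two (z x : G) (hz : orderOf z = 2) (hx : x ∈ Subgroup.zpowers z) :
    x = 1 ∨ x = z := by
  obtain ⟨k, rfl⟩ := Subgroup.mem_zpowers_iff.mp hx
  have hz2 : z ^ (2 : ℤ) = 1 := by
    have := pow_orderOf_eq_one z
    rw [hz] at this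
    exact_mod_cast this
  rcases Int.emod_two_eq_zero_or_one k with h | h
  · left
    have hk : k = 2 * (k / 2) := by omega
    rw [hk, zpow_mul, hz2, one_zpow]
  · right
    have hk : k = 2 * (k / 2) + 1 := by omega
    rw [hk, zpow_add, zpow_mul, hz2, one_zpow, one_mul, zpow_one]

end


/-- Let z be an involution of the finite group G with centralizer H whose generalized Fitting subgroup Q is extraspecial of width at least 2 (order 2^(2w+1), w ≥ 2); suppose some conjugate of z other than z lies in Q, H/Q is a non-abelian simple group, H acts irreducibly by conjugation on Q modulo the subgroup generated by z (the only H-invariant subgroups of Q containing z are that subgroup and Q), and Q is not the subgroup generated by the conjugates of z lying in H. Then G is simple. -/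
theorem result {G : Type*} [Group G] [Finite G] (z : G) (hz : orderOf z = 2) (Q : Subgroup (Subgroup.centralizer ({z} : Set G))) [Q.Normal] (hF : Cfsg.generalizedFittingSubgroup ↥(Subgroup.centralizer ({z} : Set G)) = Q) (hQ : Cfsg.IsExtraspecial 2 ↥Q) (w : ℕ) (hw : 2 ≤ w) (hcard : Nat.card ↥Q = 2 ^ (2 * w + 1)) (hnwc : ∃ g : G, (∃ hq : g * z * g⁻¹ ∈ Subgroup.centralizer ({z} : Set G), (⟨g * z * g⁻¹, hq⟩ : Subgroup.centralizer ({z} : Set G)) ∈ Q) ∧ g * z * g⁻¹ ≠ z) (hsimp : IsSimpleGroup (↥(Subgroup.centralizer ({z} : Set G)) ⧸ Q)) (hna : ¬ IsMulCommutative (↥(Subgroup.centralizer ({z} : Set G)) ⧸ Q)) (hirr : ∀ W : Subgroup (Subgroup.centralizer ({z} : Set G)), W.Normal → W ≤ Q → (W = Q ∨ ∀ x ∈ W, (x : G) ∈ Subgroup.zpowers z)) (hwcl : Subgroup.closure {x : Subgroup.centralizer ({z} : Set G) | IsConj z (x : G)} ≠ Q) : IsSimpleGroup G := by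
  classical
  -- basic facts on `z`
  have hz1 : z ≠ 1 := by
    intro h; rw [h, orderOf_one] at hz; omega
  have hzz : z * z = 1 := by
    have := pow_orderOf_eq_one z
    rw [hz, pow_two] at this; exact this
  have hzinv : z⁻¹ = z := inv_eq_of_mul_eq_one_left hzz
  have hmemH : ∀ x : G, x ∈ Subgroup.centralizer ({z} : Set G) ↔ z * x = x * z := by
    intro x
    rw [Subgroup.mem_centralizer_iff]
    constructor
    · intro h; exact h z rfl
    · intro h y hy; rw [Set.mem_singleton_iff.mp hy]; exact h
  have hzH : z ∈ Subgroup.centralizer ({z} : Set G) := (hmemH z).mpr rfl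
  -- `C_H(Q) ≤ Q`
  have hCQ : Subgroup.centralizer (Q : Set ↥(Subgroup.centralizer ({z} : Set G))) ≤ Q := by
    have := Cfsg.Agent.Lib.Helper9.centralizer_generalizedFittingSubgroup_le
      (G := ↥(Subgroup.centralizer ({z} : Set G)))
    rw [hF] at this
    exact this
  -- `z ∈ Q`
  have hzQ : (⟨z, hzH⟩ : Subgroup.centralizer ({z} : Set G)) ∈ Q := by
    apply hCQ
    rw [Subgroup.mem_centralizer_iff]
    intro q _
    apply Subtype.ext
    show (q : G) * z = z * (q : G)
    exact ((hmemH q).mp q.2).symm
  -- the centre of `Q` is `{1, z}`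
  have hcenter : ∀ x : ↥Q, x ∈ Subgroup.center ↥Q → x = 1 ∨ ((x : Subgroup.centralizer ({z} : Set G)) : G) = z := by
    intro x hx
    by_cases hx1 : x = 1
    · exact Or.inl hx1
    · right
      have hzc : (⟨⟨z, hzH⟩, hzQ⟩ : ↥Q) ∈ Subgroup.center ↥Q := by
        rw [Subgroup.mem_center_iff]
        intro q
        apply Subtype.ext; apply Subtype.ext
        show ((q : Subgroup.centralizer ({z} : Set G)) : G) * z = z * ((q : Subgroup.centralizer ({z} : Set G)) : G)
        exact ((hmemH _).mp (q : Subgroup.centralizer ({z} : Set G)).2).symm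
      obtain ⟨y, _, hy⟩ := (Nat.card_eq_two_iff' (1 : Subgroup.center ↥Q)).mp hQ.2
      have h1 : (⟨x, hx⟩ : Subgroup.center ↥Q) = y := hy _ (fun h => hx1 (congrArg Subtype.val h))
      have h2 : (⟨⟨⟨z, hzH⟩, hzQ⟩, hzc⟩ : Subgroup.center ↥Q) = y :=
        hy _ (fun h => hz1 (congrArg (fun t : Subgroup.center ↥Q => (((t : ↥Q) : Subgroup.centralizer ({z} : Set G)) : G)) h))
      have h3 := h1.trans h2.symm
      exact congrArg (fun t : Subgroup.center ↥Q => (((t : ↥Q) : Subgroup.centralizer ({z} : Set G)) : G)) h3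
  -- the conjugate `a` of `z` in `Q`
  obtain ⟨g, ⟨haH, haQ⟩, hane⟩ := hnwc
  set a := g * z * g⁻¹ with ha
  have haa : a * a = 1 := by
    rw [ha]
    calc g * z * g⁻¹ * (g * z * g⁻¹) = g * (z * z) * g⁻¹ := by group
      _ = 1 := by rw [hzz]; group
  have ha1 : a ≠ 1 := by
    intro h
    apply hz1
    have : z = g⁻¹ * a * g := by rw [ha]; group
    rw [this, h]; group
  have hanz : a ∉ Subgroup.zpowers z := by
    intro h
    rcases mem_zpowers_of_orderOf_two z a hz h with h | h
    · exact ha1 h
    · exact hane h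
  -- `z * a` is conjugate to `a` inside `Q`
  have hza : ∃ y : G, y * a * y⁻¹ = z * a := by
    have hnc : (⟨⟨a, haH⟩, haQ⟩ : ↥Q) ∉ Subgroup.center ↥Q := by
      intro h
      rcases hcenter _ h with h1 | h1
      · exact ha1 (congrArg (fun t : ↥Q => ((t : Subgroup.centralizer ({z} : Set G)) : G)) h1)
      · exact hane h1
    rw [Subgroup.mem_center_iff] at hnc
    push Not at hnc
    obtain ⟨y, hy⟩ := hnc
    have hc : ⁅y, (⟨⟨a, haH⟩, haQ⟩ : ↥Q)⁆ ∈ Subgroup.center ↥Q := by
      rw [← hQ.1.2.2]
      exact Subgroup.commutator_mem_commutator (Subgroup.mem_top _) (Subgroup.mem_top _)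
    rcases hcenter _ hc with h1 | h1
    · exfalso
      apply hy
      rw [commutatorElement_def] at h1
      have : y * (⟨⟨a, haH⟩, haQ⟩ : ↥Q) * y⁻¹ = ⟨⟨a, haH⟩, haQ⟩ := by
        rw [← mul_inv_eq_one]; exact h1
      calc y * (⟨⟨a, haH⟩, haQ⟩ : ↥Q) = (y * (⟨⟨a, haH⟩, haQ⟩ : ↥Q) * y⁻¹) * y := by group
        _ = (⟨⟨a, haH⟩, haQ⟩ : ↥Q) * y := by rw [this]
    · refine ⟨((y : Subgroup.centralizer ({z} : Set G)) : G), ?_⟩
      rw [commutatorElement_def] at h1
      have h2 : ((y : Subgroup.centralizer ({z} : Set G)) : G) * a *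
          ((y : Subgroup.centralizer ({z} : Set G)) : G)⁻¹ * a⁻¹ = z := h1
      calc ((y : Subgroup.centralizer ({z} : Set G)) : G) * a *
            ((y : Subgroup.centralizer ({z} : Set G)) : G)⁻¹
          = (((y : Subgroup.centralizer ({z} : Set G)) : G) * a *
            ((y : Subgroup.centralizer ({z} : Set G)) : G)⁻¹ * a⁻¹) * a := by group
        _ = z * a := by rw [h2]
  obtain ⟨y, hy⟩ := hza
  -- Step A: every nontrivial normal subgroup contains `z`
  have stepA : ∀ N : Subgroup G, N.Normal → N ≠ ⊥ → z ∈ N := by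
    intro N hN hNbot
    by_cases hfpf : ∀ n ∈ N, z * n = n * z → n = 1
    · -- `z`, `a`, `z * a` act fixed-point-freely, so invert `N`
      exfalso
      apply hNbot
      have hconj : ∀ k : G, ∀ n ∈ N, (k * z * k⁻¹) * n * (k * z * k⁻¹)⁻¹ = n → n = 1 := by
        intro k n hn hfix
        have h1 : k⁻¹ * n * k ∈ N := by
          have := hN.conj_mem n hn k⁻¹
          rwa [inv_inv] at this
        have h2 : z * (k⁻¹ * n * k) = (k⁻¹ * n * k) * z := by
          have : n = (k * z * k⁻¹) * n * (k * z * k⁻¹)⁻¹ := hfix.symm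
          calc z * (k⁻¹ * n * k) = k⁻¹ * ((k * z * k⁻¹) * n * (k * z * k⁻¹)⁻¹) * k * z := by
                rw [hzinv.symm]; group
            _ = (k⁻¹ * n * k) * z := by rw [hfix]
        have h3 := hfpf _ h1 h2
        have : n = k * (k⁻¹ * n * k) * k⁻¹ := by group
        rw [this, h3]; group
      have hsq : ∀ k : G, (k * z * k⁻¹) * (k * z * k⁻¹) = 1 := by
        intro k
        calc k * z * k⁻¹ * (k * z * k⁻¹) = k * (z * z) * k⁻¹ := by group
          _ = 1 := by rw [hzz]; group
      have hinvz := inverts_of_fpf N z hzz (by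
        intro n hn h
        have := hconj 1 n hn (by simpa using h)
        exact this)
      have hinva := inverts_of_fpf N a haa (hconj g)
      have hzaeq : z * a = (y * g) * z * (y * g)⁻¹ := by
        rw [← hy, ha]; group
      have hinvza := inverts_of_fpf N (z * a) (by rw [hzaeq]; exact hsq _)
        (by rw [hzaeq]; exact hconj _)
      rw [Subgroup.eq_bot_iff_forall]
      intro n hn
      have h1 := hinvz n hn
      have h2 := hinva n hn
      have h3 := hinvza n hn
      have h4 : (z * a) * n * (z * a)⁻¹ = n := by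
        calc (z * a) * n * (z * a)⁻¹ = z * (a * n * a⁻¹) * z⁻¹ := by group
          _ = z * n⁻¹ * z⁻¹ := by rw [h2]
          _ = (z * n * z⁻¹)⁻¹ := by group
          _ = n := by rw [h1, inv_inv]
      have h5 : n⁻¹ = n := by rw [← h3, h4]
      apply hfpf n hn
      have h6 : z * n * z⁻¹ = n := by rw [h1, h5]
      calc z * n = (z * n * z⁻¹) * z := by group
        _ = n * z := by rw [h6]
    · push Not at hfpf
      obtain ⟨n, hnN, hnz, hn1⟩ := hfpf
      have hnH : n ∈ Subgroup.centralizer ({z} : Set G) := (hmemH n).mpr hnz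
      -- `K = N ∩ H`
      have hKn : (N.subgroupOf (Subgroup.centralizer ({z} : Set G))).Normal := inferInstance
      have hnK : (⟨n, hnH⟩ : Subgroup.centralizer ({z} : Set G)) ∈
          N.subgroupOf (Subgroup.centralizer ({z} : Set G)) := by
        rw [Subgroup.mem_subgroupOf]; exact hnN
      have hWn : (N.subgroupOf (Subgroup.centralizer ({z} : Set G)) ⊓ Q).Normal :=
        Subgroup.normal_inf_normal _ _
      have hWne : N.subgroupOf (Subgroup.centralizer ({z} : Set G)) ⊓ Q ≠ ⊥ := by
        intro hbot
        have hKC : N.subgroupOf (Subgroup.centralizer ({z} : Set G)) ≤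
            Subgroup.centralizer (Q : Set ↥(Subgroup.centralizer ({z} : Set G))) := by
          intro k hk
          rw [Subgroup.mem_centralizer_iff]
          intro q hq
          have h1 : k * q * k⁻¹ * q⁻¹ ∈ N.subgroupOf (Subgroup.centralizer ({z} : Set G)) ⊓ Q := by
            refine ⟨?_, ?_⟩
            · have : k * q * k⁻¹ * q⁻¹ = k * (q * k⁻¹ * q⁻¹) := by group
              rw [this]
              exact Subgroup.mul_mem _ hk (hKn.conj_mem _ (Subgroup.inv_mem _ hk) q)
            · exact Subgroup.mul_mem _ (‹Q.Normal›.conj_mem q hq k) (Subgroup.inv_mem _ hq)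
          rw [hbot, Subgroup.mem_bot] at h1
          have : k * q = q * k := by
            calc k * q = (k * q * k⁻¹ * q⁻¹) * (q * k) := by group
              _ = q * k := by rw [h1, one_mul]
          exact this.symm
        have : (⟨n, hnH⟩ : Subgroup.centralizer ({z} : Set G)) ∈
            N.subgroupOf (Subgroup.centralizer ({z} : Set G)) ⊓ Q := ⟨hnK, hCQ (hKC hnK)⟩
        rw [hbot, Subgroup.mem_bot] at this
        exact hn1 (congrArg Subtype.val this)
      rcases hirr _ hWn inf_le_right with h | h
      · have : (⟨z, hzH⟩ : Subgroup.centralizer ({z} : Set G)) ∈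
            N.subgroupOf (Subgroup.centralizer ({z} : Set G)) ⊓ Q := by rw [h]; exact hzQ
        exact Subgroup.mem_subgroupOf.mp this.1
      · obtain ⟨x, hx1⟩ := (Subgroup.ne_bot_iff_exists_ne_one).mp hWne
        rcases mem_zpowers_of_orderOf_two z _ hz (h x.1 x.2) with h1 | h1
        · exfalso
          apply hx1
          apply Subtype.ext; apply Subtype.ext
          exact h1
        · rw [← h1]; exact Subgroup.mem_subgroupOf.mp x.2.1
  -- Step B: the normal closure of `z` is everything
  have stepB : Subgroup.normalClosure ({z} : Set G) = ⊤ := by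
    set M := Subgroup.normalClosure ({z} : Set G) with hM
    have hMn : M.Normal := Subgroup.normalClosure_normal
    have hzM : z ∈ M := Subgroup.subset_normalClosure rfl
    have hconjM : ∀ k : G, k * z * k⁻¹ ∈ M := fun k => hMn.conj_mem z hzM k
    have hMHn : (M.subgroupOf (Subgroup.centralizer ({z} : Set G))).Normal := inferInstance
    -- `Q ≤ M ∩ H`
    have hQM : Q ≤ M.subgroupOf (Subgroup.centralizer ({z} : Set G)) := by
      have hWn : (M.subgroupOf (Subgroup.centralizer ({z} : Set G)) ⊓ Q).Normal :=
        Subgroup.normal_inf_normal _ _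
      have haW : (⟨a, haH⟩ : Subgroup.centralizer ({z} : Set G)) ∈
          M.subgroupOf (Subgroup.centralizer ({z} : Set G)) ⊓ Q :=
        ⟨Subgroup.mem_subgroupOf.mpr (hconjM g), haQ⟩
      rcases hirr _ hWn inf_le_right with h | h
      · rw [← h]; exact inf_le_left
      · exact absurd (h _ haW) hanz
    -- `H ≤ M`
    have hHM : ∀ h : Subgroup.centralizer ({z} : Set G), (h : G) ∈ M := by
      have hmapn : ((M.subgroupOf (Subgroup.centralizer ({z} : Set G))).map (QuotientGroup.mk' Q)).Normal :=
        Subgroup.Normal.map hMHn _ (QuotientGroup.mk'_surjective Q)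
      rcases hsimp.eq_bot_or_eq_top_of_normal _ hmapn with hbot | htop
      · exfalso
        have hMQ : M.subgroupOf (Subgroup.centralizer ({z} : Set G)) ≤ Q := by
          intro m hm
          have : QuotientGroup.mk' Q m ∈ (M.subgroupOf (Subgroup.centralizer ({z} : Set G))).map (QuotientGroup.mk' Q) :=
            Subgroup.mem_map_of_mem _ hm
          rw [hbot, Subgroup.mem_bot] at this
          exact (QuotientGroup.eq_one_iff m).mp this
        apply hwcl
        have hCln : (Subgroup.closure {x : Subgroup.centralizer ({z} : Set G) | IsConj z (x : G)}).Normal := by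
          apply closure_normal_of_conj
          intro s hs k
          show IsConj z ((k * s * k⁻¹ : Subgroup.centralizer ({z} : Set G)) : G)
          have hs' : IsConj z (s : G) := hs
          have : IsConj (s : G) ((k * s * k⁻¹ : Subgroup.centralizer ({z} : Set G)) : G) := by
            rw [isConj_iff]
            exact ⟨(k : G), rfl⟩
          exact hs'.trans this
        have hClQ : Subgroup.closure {x : Subgroup.centralizer ({z} : Set G) | IsConj z (x : G)} ≤ Q := by
          refine le_trans ?_ hMQ
          rw [Subgroup.closure_le]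
          intro x hx
          obtain ⟨k, hk⟩ := isConj_iff.mp (show IsConj z (x : G) from hx)
          rw [SetLike.mem_coe, Subgroup.mem_subgroupOf, ← hk]
          exact hconjM k
        rcases hirr _ hCln hClQ with h | h
        · exact h
        · exfalso
          apply hanz
          apply h ⟨a, haH⟩
          apply Subgroup.subset_closure
          show IsConj z a
          rw [isConj_iff]
          exact ⟨g, rfl⟩
      · intro h
        have : QuotientGroup.mk' Q h ∈ (M.subgroupOf (Subgroup.centralizer ({z} : Set G))).map (QuotientGroup.mk' Q) := by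
          rw [htop]; trivial
        obtain ⟨m, hm, hmh⟩ := Subgroup.mem_map.mp this
        have h1 : m⁻¹ * h ∈ Q := by
          rw [← QuotientGroup.eq]
          exact hmh
        have h2 : h = m * (m⁻¹ * h) := by group
        have h3 : h ∈ M.subgroupOf (Subgroup.centralizer ({z} : Set G)) := by
          rw [h2]; exact Subgroup.mul_mem _ hm (hQM h1)
        exact Subgroup.mem_subgroupOf.mp h3
    -- Frattini argument
    have : Fact (Nat.Prime 2) := ⟨Nat.prime_two⟩
    -- the image of `Q` in `M`
    let Qm : Subgroup ↥M := (Q.map (Subgroup.centralizer ({z} : Set G)).subtype).subgroupOf M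
    have hQmP : IsPGroup 2 ↥Qm :=
      (hQ.1.1.map (Subgroup.centralizer ({z} : Set G)).subtype).comap_of_injective M.subtype
        M.subtype_injective
    obtain ⟨P, hQP⟩ := hQmP.exists_le_sylow
    have hQmem : ∀ q : Subgroup.centralizer ({z} : Set G), q ∈ Q → ∀ hq : (q : G) ∈ M,
        (⟨(q : G), hq⟩ : ↥M) ∈ (P : Subgroup ↥M) := by
      intro q hq hqM
      apply hQP
      show (⟨(q : G), hqM⟩ : ↥M) ∈ (Q.map (Subgroup.centralizer ({z} : Set G)).subtype).subgroupOf M
      rw [Subgroup.mem_subgroupOf]
      exact ⟨q, hq, rfl⟩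
    have hzP : (⟨z, hzM⟩ : ↥M) ∈ (P : Subgroup ↥M) := hQmem ⟨z, hzH⟩ hzQ hzM
    -- central elements of `P` are `1` or `z`
    have hcenP : ∀ c : ↥M, c ∈ (P : Subgroup ↥M) → (∀ p ∈ (P : Subgroup ↥M), p * c = c * p) →
        c = 1 ∨ (c : G) = z := by
      intro c hcP hcc
      have h1 : z * (c : G) = (c : G) * z := congrArg Subtype.val (hcc _ hzP)
      have hcH : (c : G) ∈ Subgroup.centralizer ({z} : Set G) := (hmemH _).mpr h1
      have hcCQ : (⟨(c : G), hcH⟩ : Subgroup.centralizer ({z} : Set G)) ∈
          Subgroup.centralizer (Q : Set ↥(Subgroup.centralizer ({z} : Set G))) := by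
        rw [Subgroup.mem_centralizer_iff]
        intro q hq
        apply Subtype.ext
        have := hcc _ (hQmem q hq (hHM q))
        have e : (q : G) * (c : G) = (c : G) * (q : G) := congrArg Subtype.val this
        exact e
      have hcQ := hCQ hcCQ
      have hcc' : (⟨⟨(c : G), hcH⟩, hcQ⟩ : ↥Q) ∈ Subgroup.center ↥Q := by
        rw [Subgroup.mem_center_iff]
        intro q
        apply Subtype.ext; apply Subtype.ext
        have := hcc _ (hQmem q q.2 (hHM q))
        have e : ((q : Subgroup.centralizer ({z} : Set G)) : G) * (c : G) =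
            (c : G) * ((q : Subgroup.centralizer ({z} : Set G)) : G) := congrArg Subtype.val this
        exact e
      rcases hcenter _ hcc' with h | h
      · left
        apply Subtype.ext
        exact congrArg (fun t : ↥Q => ((t : Subgroup.centralizer ({z} : Set G)) : G)) h
      · right; exact h
    -- `z` is central in `P`
    have hPnt : Nontrivial ↥(P : Subgroup ↥M) :=
      ⟨⟨⟨⟨z, hzM⟩, hzP⟩, 1, fun h => hz1 (congrArg (fun t : ↥(P : Subgroup ↥M) => ((t : ↥M) : G)) h)⟩⟩
    have hzcen : ∀ p ∈ (P : Subgroup ↥M), p * (⟨z, hzM⟩ : ↥M) = ⟨z, hzM⟩ * p := by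
      have hcn : Nontrivial (Subgroup.center ↥(P : Subgroup ↥M)) := P.isPGroup'.center_nontrivial
      obtain ⟨c, hc1⟩ := exists_ne (1 : Subgroup.center ↥(P : Subgroup ↥M))
      have hcmem := c.2
      rw [Subgroup.mem_center_iff] at hcmem
      have hcz : (((c : ↥(P : Subgroup ↥M)) : ↥M) : G) = z := by
        rcases hcenP ((c : ↥(P : Subgroup ↥M)) : ↥M) (c : ↥(P : Subgroup ↥M)).2 (by
          intro p hp
          exact congrArg Subtype.val (hcmem ⟨p, hp⟩)) with h | h
        · exfalso
          apply hc1
          apply Subtype.ext; apply Subtype.ext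
          exact h
        · exact h
      intro p hp
      have h1 := congrArg Subtype.val (hcmem ⟨p, hp⟩)
      have h2 : ((c : ↥(P : Subgroup ↥M)) : ↥M) = ⟨z, hzM⟩ := Subtype.ext hcz
      rw [← h2]
      exact h1
    -- the normalizer of `P` centralizes `z`
    have hNP : Subgroup.normalizer (((P : Subgroup ↥M).map M.subtype : Subgroup G) : Set G) ≤ M := by
      intro n hn
      rw [Subgroup.mem_normalizer_iff] at hn
      have hzPG : z ∈ (P : Subgroup ↥M).map M.subtype := ⟨⟨z, hzM⟩, hzP, rfl⟩
      have h1 : n * z * n⁻¹ ∈ (P : Subgroup ↥M).map M.subtype := (hn z).mp hzPG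
      obtain ⟨c, hcP, hcn⟩ := h1
      have hcn' : (c : G) = n * z * n⁻¹ := hcn
      have hcc : ∀ p ∈ (P : Subgroup ↥M), p * c = c * p := by
        intro p hp
        apply Subtype.ext
        show (p : G) * (c : G) = (c : G) * (p : G)
        rw [hcn']
        -- `n⁻¹ p n ∈ P` commutes with `z`
        have hpPG : (p : G) ∈ (P : Subgroup ↥M).map M.subtype := ⟨p, hp, rfl⟩
        have h2 : n⁻¹ * (p : G) * n ∈ (P : Subgroup ↥M).map M.subtype := by
          have := (hn (n⁻¹ * (p : G) * n)).mpr (by
            have e : n * (n⁻¹ * (p : G) * n) * n⁻¹ = (p : G) := by group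
            rw [e]; exact hpPG)
          exact this
        obtain ⟨p', hp'P, hp'⟩ := h2
        have h3 := congrArg Subtype.val (hzcen p' hp'P)
        have h4 : (p' : G) * z = z * (p' : G) := h3
        have hp'' : (p' : G) = n⁻¹ * (p : G) * n := hp'
        rw [hp''] at h4
        calc (p : G) * (n * z * n⁻¹) = n * ((n⁻¹ * (p : G) * n) * z) * n⁻¹ := by group
          _ = n * (z * (n⁻¹ * (p : G) * n)) * n⁻¹ := by rw [h4]
          _ = n * z * n⁻¹ * (p : G) := by group
      rcases hcenP c hcP hcc with h | h
      · exfalso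
        apply hz1
        have : n * z * n⁻¹ = 1 := by rw [← hcn', h]; rfl
        have e : z = n⁻¹ * (n * z * n⁻¹) * n := by group
        rw [e, this]; group
      · have h5 : n * z * n⁻¹ = z := by rw [← hcn', h]
        have hnH : n ∈ Subgroup.centralizer ({z} : Set G) := by
          rw [hmemH]
          calc z * n = (n * z * n⁻¹)⁻¹⁻¹ * n := by rw [h5, inv_inv]
            _ = n * z := by group
        exact hHM ⟨n, hnH⟩
    have hfr := Sylow.normalizer_sup_eq_top P
    rw [eq_top_iff, ← hfr]
    exact sup_le hNP le_rfl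
  -- conclusion
  refine { exists_pair_ne := ⟨z, 1, hz1⟩, eq_bot_or_eq_top_of_normal := ?_ }
  intro N hN
  by_cases hNbot : N = ⊥
  · exact Or.inl hNbot
  · right
    have hzN := stepA N hN hNbot
    rw [eq_top_iff, ← stepB]
    exact Subgroup.normalClosure_le_normal (Set.singleton_subset_iff.mpr hzN)

end Cfsg.Agent.S5436
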