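import Cfsg.Statements.S5437
-- import your own Cfsg.Agent.* helpers here

set_option autoImplicit false
open Cfsg

namespace Cfsg.Agent.S5437

/-- Let I be a set of involutions of the finite group G closed under conjugation, and H a subgroup of G. The following are equivalent: (1) for every member x of I lying in H, the conjugates of x lying in H form a single H-class and the centralizer of x lies in H; (2) for every g outside H, no member of I lies in both H and g H g⁻¹; (3) every member of I lying in H fixes exactly one coset in the action of G on the cosets of H. -/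
theorem result {G : Type*} [Group G] [Finite G] (I : Set G) (hI : ∀ x ∈ I, orderOf x = 2) (hIc : ∀ g : G, ∀ x ∈ I, g * x * g⁻¹ ∈ I) (H : Subgroup G) : ((∀ x ∈ I, x ∈ H → (∀ g : G, g * x * g⁻¹ ∈ H → ∃ h ∈ H, h * x * h⁻¹ = g * x * g⁻¹) ∧ Subgroup.centralizer ({x} : Set G) ≤ H) ↔ (∀ g : G, g ∉ H → ∀ x ∈ I, ¬ (x ∈ H ∧ x ∈ (H : Subgroup G).map (MulAut.conj g).toMonoidHom))) ∧ ((∀ g : G, g ∉ H → ∀ x ∈ I, ¬ (x ∈ H ∧ x ∈ (H : Subgroup G).map (MulAut.conj g).toMonoidHom)) ↔ ∀ x ∈ I, x ∈ H → ∃! c : G ⧸ H, x • c = c) := by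
  have hmap : ∀ g x : G, x ∈ (H : Subgroup G).map (MulAut.conj g).toMonoidHom ↔ g⁻¹ * x * g ∈ H := by
    intro g x
    constructor
    · rintro ⟨y, hy, rfl⟩
      have : g⁻¹ * (MulAut.conj g).toMonoidHom y * g = y := by
        show g⁻¹ * (g * y * g⁻¹) * g = y
        group
      rw [this]; exact hy
    · intro h
      refine ⟨g⁻¹ * x * g, h, ?_⟩
      show g * (g⁻¹ * x * g) * g⁻¹ = x
      group
  have hfix : ∀ g x : G, x • (g : G ⧸ H) = (g : G ⧸ H) ↔ g⁻¹ * x * g ∈ H := by
    intro g x
    rw [MulAction.Quotient.smul_mk, QuotientGroup.eq]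
    have : (x • g)⁻¹ * g = (g⁻¹ * x * g)⁻¹ := by
      show (x * g)⁻¹ * g = (g⁻¹ * x * g)⁻¹
      group
    rw [this, inv_mem_iff]
  have hAB : (∀ x ∈ I, x ∈ H → (∀ g : G, g * x * g⁻¹ ∈ H → ∃ h ∈ H, h * x * h⁻¹ = g * x * g⁻¹) ∧
      Subgroup.centralizer ({x} : Set G) ≤ H) ↔
      (∀ g : G, g ∉ H → ∀ x ∈ I, ¬ (x ∈ H ∧ x ∈ (H : Subgroup G).map (MulAut.conj g).toMonoidHom)) := by
    constructor
    · intro hA g hg x hxI ⟨hxH, hxg⟩
      rw [hmap] at hxg
      apply hg
      have hyI : g⁻¹ * x * g ∈ I := by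
        have := hIc g⁻¹ x hxI
        rwa [inv_inv] at this
      obtain ⟨hfus, hcen⟩ := hA _ hyI hxg
      have hgx : g * (g⁻¹ * x * g) * g⁻¹ = x := by group
      obtain ⟨h, hh, hhx⟩ := hfus g (by rw [hgx]; exact hxH)
      have hc : h⁻¹ * g ∈ Subgroup.centralizer ({g⁻¹ * x * g} : Set G) := by
        rw [Subgroup.mem_centralizer_iff]
        intro y hy
        rw [Set.mem_singleton_iff.mp hy]
        have e1 : h * (g⁻¹ * x * g) * h⁻¹ = x := by rw [hhx, hgx]
        calc g⁻¹ * x * g * (h⁻¹ * g) = h⁻¹ * (h * (g⁻¹ * x * g) * h⁻¹) * g := by group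
          _ = h⁻¹ * x * g := by rw [e1]
          _ = h⁻¹ * g * (g⁻¹ * x * g) := by group
      have := H.mul_mem hh (hcen hc)
      rwa [mul_inv_cancel_left] at this
    · intro hB x hxI hxH
      constructor
      · intro g hg
        refine ⟨g, ?_, rfl⟩
        by_contra hgH
        apply hB g hgH (g * x * g⁻¹) (hIc g x hxI)
        refine ⟨hg, ?_⟩
        rw [hmap]
        have : g⁻¹ * (g * x * g⁻¹) * g = x := by group
        rw [this]; exact hxH
      · intro c hc
        by_contra hcH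
        apply hB c hcH x hxI
        refine ⟨hxH, ?_⟩
        rw [hmap]
        have hcx : x * c = c * x := (Subgroup.mem_centralizer_iff.mp hc) x rfl
        have : c⁻¹ * x * c = x := by
          calc c⁻¹ * x * c = c⁻¹ * (x * c) := by group
            _ = c⁻¹ * (c * x) := by rw [hcx]
            _ = x := by group
        rw [this]; exact hxH
  refine ⟨hAB, ?_⟩
  constructor
  · intro hB x hxI hxH
    refine ⟨((1 : G) : G ⧸ H), ?_, ?_⟩
    · show x • ((1 : G) : G ⧸ H) = ((1 : G) : G ⧸ H)
      rw [hfix]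
      simpa using hxH
    · intro c hc
      induction c using QuotientGroup.induction_on with
      | H g =>
        have hc' : x • (g : G ⧸ H) = (g : G ⧸ H) := hc
        rw [hfix] at hc'
        have hgH : g ∈ H := by
          by_contra hgH
          apply hB g hgH x hxI
          exact ⟨hxH, (hmap g x).mpr hc'⟩
        rw [QuotientGroup.eq]
        simpa using hgH
  · intro hC g hg x hxI ⟨hxH, hxg⟩
    obtain ⟨c, -, huniq⟩ := hC x hxI hxH
    have h1 : ((1 : G) : G ⧸ H) = c := by
      apply huniq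
      show x • ((1 : G) : G ⧸ H) = ((1 : G) : G ⧸ H)
      rw [hfix]
      simpa using hxH
    have h2 : (g : G ⧸ H) = c := by
      apply huniq
      show x • (g : G ⧸ H) = (g : G ⧸ H)
      rw [hfix]
      exact (hmap g x).mp hxg
    apply hg
    have h3 : ((1 : G) : G ⧸ H) = (g : G ⧸ H) := h1.trans h2.symm
    rw [QuotientGroup.eq] at h3
    simpa using h3

end Cfsg.Agent.S5437
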