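import Cfsg.Statements.S5438
-- import your own Cfsg.Agent.* helpers here

set_option autoImplicit false
open Cfsg

namespace Cfsg.Agent.S5438



theorem orderOf_conj' {G : Type*} [Group G] (g x : G) : orderOf (g * x * g⁻¹) = orderOf x :=
  (SemiconjBy.orderOf_eq g (show SemiconjBy g x (g * x * g⁻¹) by unfold SemiconjBy; group)).symm

/-- A `2`-subgroup containing `z` lies in `H`, when `H` is the only coset of `H` fixed by `z`. -/
theorem two_subgroup_le {G : Type*} [Group G] [Finite G] (z : G) (H : Subgroup G) (hzH : z ∈ H)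
    (hfix : ∀ g : G, g⁻¹ * z * g ∈ H → g ∈ H) (R : Subgroup G) (hR : IsPGroup 2 R) (hzR : z ∈ R) :
    R ≤ H := by
  haveI : Fact (Nat.Prime 2) := ⟨Nat.prime_two⟩
  by_contra hle
  have hne : H.subgroupOf R ≠ ⊤ := fun h => hle (Subgroup.subgroupOf_eq_top.mp h)
  haveI : Group.IsNilpotent ↥R := hR.isNilpotent
  have hnc : NormalizerCondition ↥R := Group.normalizerCondition_of_isNilpotent
  have hlt := hnc (H.subgroupOf R) (lt_top_iff_ne_top.mpr hne)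
  obtain ⟨t, htN, htK⟩ := SetLike.exists_of_lt hlt
  apply htK
  have h1 := (Subgroup.mem_normalizer_iff''.mp htN ⟨z, hzR⟩).mp (Subgroup.mem_subgroupOf.mpr hzH)
  have h2 : (t : G)⁻¹ * z * (t : G) ∈ H := Subgroup.mem_subgroupOf.mp h1
  exact Subgroup.mem_subgroupOf.mpr (hfix _ h2)

/-- A `2`-element of `H` is `H`-conjugate to an element commuting with `z`. -/
theorem exists_conj_commute {G : Type*} [Group G] [Finite G] (z : G) (H : Subgroup G)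
    (P : Sylow 2 G) (hPz : ∀ x ∈ P, x * z = z * x) (hPH : (P : Subgroup G) ≤ H)
    (x : G) (hx : x ∈ H) (hx2 : ∃ k : ℕ, orderOf x = 2 ^ k) :
    ∃ h ∈ H, (h⁻¹ * x * h) * z = z * (h⁻¹ * x * h) := by
  haveI : Fact (Nat.Prime 2) := ⟨Nat.prime_two⟩
  obtain ⟨k, hk⟩ := hx2
  have hcard : Nat.card (Subgroup.zpowers (⟨x, hx⟩ : H)) = 2 ^ k := by
    rw [Nat.card_zpowers, Subgroup.orderOf_mk, hk]
  have hp : IsPGroup 2 (Subgroup.zpowers (⟨x, hx⟩ : H)) := IsPGroup.of_card hcard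
  obtain ⟨T, hT⟩ := hp.exists_le_sylow
  obtain ⟨h, hh⟩ := MulAction.exists_smul_eq H (P.subtype hPH) T
  have hxT : (⟨x, hx⟩ : H) ∈ T := hT (Subgroup.mem_zpowers _)
  rw [← hh] at hxT
  have hxT' : (⟨x, hx⟩ : H) ∈ ((h • P.subtype hPH : Sylow 2 H) : Subgroup H) := hxT
  rw [Sylow.coe_subgroup_smul, Subgroup.mem_pointwise_smul_iff_inv_smul_mem] at hxT'
  have hmem : (h : G)⁻¹ * x * (h : G) ∈ (P : Subgroup G) := by
    have h3 : (MulAut.conj h)⁻¹ • (⟨x, hx⟩ : H) ∈ (P : Subgroup G).subgroupOf H := by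
      simpa using hxT'
    have h4 := Subgroup.mem_subgroupOf.mp h3
    simpa [MulAut.smul_def] using h4
  exact ⟨h, h.2, hPz _ hmem⟩

/-- Let z be a 2-central involution of the finite group G (an involution central in some Sylow 2-subgroup) and H a subgroup containing z such that the coset H is the only coset of H fixed by z (in the action of G on the cosets of H). Then H has odd index in G, and for every 2-element x of H the conjugates of x lying in H form a single H-class. -/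
theorem result {G : Type*} [Group G] [Finite G] (z : G) (hz : Cfsg.IsTwoCentralInvolution z) (H : Subgroup G) (hzH : z ∈ H) (hfix : ∀ g : G, g⁻¹ * z * g ∈ H → g ∈ H) : Odd H.index ∧ ∀ x ∈ H, (∃ k : ℕ, orderOf x = 2 ^ k) → ∀ g : G, g * x * g⁻¹ ∈ H → ∃ h ∈ H, h * x * h⁻¹ = g * x * g⁻¹ := by
  haveI : Fact (Nat.Prime 2) := ⟨Nat.prime_two⟩
  obtain ⟨hz2, P, hzP, hPz⟩ := hz
  have hPH : (P : Subgroup G) ≤ H := by
    intro t ht
    apply hfix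
    have h1 : t * z = z * t := hPz t ht
    have : t⁻¹ * z * t = z := by
      calc t⁻¹ * z * t = t⁻¹ * (z * t) := by group
        _ = t⁻¹ * (t * z) := by rw [h1]
        _ = z := by group
    rw [this]; exact hzH
  refine ⟨?_, ?_⟩
  · have hdvd : H.index ∣ (P : Subgroup G).index := Subgroup.index_dvd_of_le hPH
    have hnd : ¬ 2 ∣ (P : Subgroup G).index := P.not_dvd_index
    rw [← Nat.not_even_iff_odd, even_iff_two_dvd]
    exact fun h => hnd (h.trans hdvd)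
  · intro x hx hx2 g hgx
    obtain ⟨k, hk⟩ := hx2
    have hy2 : ∃ k : ℕ, orderOf (g * x * g⁻¹) = 2 ^ k := by
      refine ⟨k, ?_⟩
      rw [← hk]
      exact orderOf_conj' g x
    obtain ⟨h₁, hh₁, hc₁⟩ := exists_conj_commute z H P hPz hPH x hx ⟨k, hk⟩
    obtain ⟨h₂, hh₂, hc₂⟩ := exists_conj_commute z H P hPz hPH (g * x * g⁻¹) hgx hy2
    -- x' = h₁⁻¹ x h₁, y' = h₂⁻¹ (g x g⁻¹) h₂ = g' x' g'⁻¹ with g' = h₂⁻¹ g h₁
    have hy' : h₂⁻¹ * (g * x * g⁻¹) * h₂ = (h₂⁻¹ * g * h₁) * (h₁⁻¹ * x * h₁) * (h₂⁻¹ * g * h₁)⁻¹ := by group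
    -- z and g' z g'⁻¹ lie in C(y')
    have hzC : z ∈ Subgroup.centralizer ({h₂⁻¹ * (g * x * g⁻¹) * h₂} : Set G) := by
      rw [Subgroup.mem_centralizer_iff]
      intro w hw
      rw [Set.mem_singleton_iff.mp hw]
      exact hc₂
    have hwC : (h₂⁻¹ * g * h₁) * z * (h₂⁻¹ * g * h₁)⁻¹ ∈
        Subgroup.centralizer ({h₂⁻¹ * (g * x * g⁻¹) * h₂} : Set G) := by
      rw [Subgroup.mem_centralizer_iff]
      intro w hw
      rw [Set.mem_singleton_iff.mp hw, hy']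
      calc (h₂⁻¹ * g * h₁) * (h₁⁻¹ * x * h₁) * (h₂⁻¹ * g * h₁)⁻¹ * ((h₂⁻¹ * g * h₁) * z * (h₂⁻¹ * g * h₁)⁻¹)
          = (h₂⁻¹ * g * h₁) * ((h₁⁻¹ * x * h₁) * z) * (h₂⁻¹ * g * h₁)⁻¹ := by group
        _ = (h₂⁻¹ * g * h₁) * (z * (h₁⁻¹ * x * h₁)) * (h₂⁻¹ * g * h₁)⁻¹ := by rw [hc₁]
        _ = (h₂⁻¹ * g * h₁) * z * (h₂⁻¹ * g * h₁)⁻¹ * ((h₂⁻¹ * g * h₁) * (h₁⁻¹ * x * h₁) * (h₂⁻¹ * g * h₁)⁻¹) := by
          group
    -- Sylow subgroups of C(y')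
    have hzord : orderOf (⟨z, hzC⟩ : Subgroup.centralizer ({h₂⁻¹ * (g * x * g⁻¹) * h₂} : Set G)) = 2 ^ 1 := by
      rw [Subgroup.orderOf_mk, hz2, pow_one]
    have hword : orderOf (⟨_, hwC⟩ : Subgroup.centralizer ({h₂⁻¹ * (g * x * g⁻¹) * h₂} : Set G)) = 2 ^ 1 := by
      rw [Subgroup.orderOf_mk, orderOf_conj', hz2, pow_one]
    have hp₁ : IsPGroup 2 (Subgroup.zpowers
        (⟨z, hzC⟩ : Subgroup.centralizer ({h₂⁻¹ * (g * x * g⁻¹) * h₂} : Set G))) :=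
      IsPGroup.of_card (by rw [Nat.card_zpowers, hzord])
    have hp₂ : IsPGroup 2 (Subgroup.zpowers
        (⟨_, hwC⟩ : Subgroup.centralizer ({h₂⁻¹ * (g * x * g⁻¹) * h₂} : Set G))) :=
      IsPGroup.of_card (by rw [Nat.card_zpowers, hword])
    obtain ⟨R₁, hR₁⟩ := hp₁.exists_le_sylow
    obtain ⟨R₂, hR₂⟩ := hp₂.exists_le_sylow
    obtain ⟨c, hc⟩ := MulAction.exists_smul_eq
      (Subgroup.centralizer ({h₂⁻¹ * (g * x * g⁻¹) * h₂} : Set G)) R₂ R₁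
    have hzR₁ : z ∈ (R₁ : Subgroup _).map
        (Subgroup.centralizer ({h₂⁻¹ * (g * x * g⁻¹) * h₂} : Set G)).subtype :=
      ⟨⟨z, hzC⟩, hR₁ (Subgroup.mem_zpowers _), rfl⟩
    have hwR₁ : (c : G) * ((h₂⁻¹ * g * h₁) * z * (h₂⁻¹ * g * h₁)⁻¹) * (c : G)⁻¹ ∈ (R₁ : Subgroup _).map
        (Subgroup.centralizer ({h₂⁻¹ * (g * x * g⁻¹) * h₂} : Set G)).subtype := by
      refine ⟨c * ⟨_, hwC⟩ * c⁻¹, ?_, rfl⟩
      rw [← hc]
      show c * ⟨_, hwC⟩ * c⁻¹ ∈ ((c • R₂ : Sylow 2 _) : Subgroup _)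
      rw [Sylow.coe_subgroup_smul]
      exact ⟨⟨_, hwC⟩, hR₂ (Subgroup.mem_zpowers _), rfl⟩
    have hRH := two_subgroup_le z H hzH hfix _ (R₁.isPGroup'.map _) hzR₁
    have hwH := hRH hwR₁
    have hcg : ((c : G) * (h₂⁻¹ * g * h₁))⁻¹ ∈ H := by
      apply hfix
      have : (((c : G) * (h₂⁻¹ * g * h₁))⁻¹)⁻¹ * z * ((c : G) * (h₂⁻¹ * g * h₁))⁻¹ =
          (c : G) * ((h₂⁻¹ * g * h₁) * z * (h₂⁻¹ * g * h₁)⁻¹) * (c : G)⁻¹ := by group
      rw [this]; exact hwH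
    have hcg' : (c : G) * (h₂⁻¹ * g * h₁) ∈ H := by
      have := H.inv_mem hcg
      rwa [inv_inv] at this
    have hcy : (h₂⁻¹ * (g * x * g⁻¹) * h₂) * (c : G) = (c : G) * (h₂⁻¹ * (g * x * g⁻¹) * h₂) :=
      (Subgroup.mem_centralizer_iff.mp c.2) _ rfl
    refine ⟨h₂ * ((c : G) * (h₂⁻¹ * g * h₁)) * h₁⁻¹, H.mul_mem (H.mul_mem hh₂ hcg') (H.inv_mem hh₁), ?_⟩
    calc h₂ * ((c : G) * (h₂⁻¹ * g * h₁)) * h₁⁻¹ * x * (h₂ * ((c : G) * (h₂⁻¹ * g * h₁)) * h₁⁻¹)⁻¹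
        = h₂ * ((c : G) * (h₂⁻¹ * (g * x * g⁻¹) * h₂) * (c : G)⁻¹) * h₂⁻¹ := by group
      _ = h₂ * ((h₂⁻¹ * (g * x * g⁻¹) * h₂) * (c : G) * (c : G)⁻¹) * h₂⁻¹ := by rw [hcy]
      _ = g * x * g⁻¹ := by group

end Cfsg.Agent.S5438
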