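import Cfsg.Statements.S5439
import Cfsg.Agent.Lib.Helper27.Dihedral

set_option autoImplicit false
open Cfsg

namespace Cfsg.Agent.S5439

/-- Let I and J be two different conjugacy classes of involutions of the finite group G and H a subgroup such that every member of I ∪ J fixes exactly one coset in the action on the cosets of H, and such that for every a in I ∩ H and every b in (I ∪ J) ∩ H different from a and commuting with it, the centralizer of a b lies in H. Then H = G. -/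
theorem result {G : Type*} [Group G] [Finite G] (I J : Set G) (a₀ b₀ : G) (ha₀ : orderOf a₀ = 2) (hb₀ : orderOf b₀ = 2) (hI : I = {x | IsConj a₀ x}) (hJ : J = {x | IsConj b₀ x}) (hIJ : I ≠ J) (H : Subgroup G) (hfix : ∀ x ∈ I ∪ J, ∃! c : G ⧸ H, x • c = c) (hcent : ∀ a ∈ I, a ∈ H → ∀ b ∈ I ∪ J, b ∈ H → a ≠ b → a * b = b * a → Subgroup.centralizer ({a * b} : Set G) ≤ H) : H = ⊤ := by
  have hfixiff : ∀ g x : G, x • (g : G ⧸ H) = (g : G ⧸ H) ↔ g⁻¹ * x * g ∈ H := by
    intro g x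
    rw [MulAction.Quotient.smul_mk, QuotientGroup.eq]
    have : (x • g)⁻¹ * g = (g⁻¹ * x * g)⁻¹ := by
      show (x * g)⁻¹ * g = (g⁻¹ * x * g)⁻¹
      group
    rw [this, inv_mem_iff]
  have hsq_of_order : ∀ x : G, orderOf x = 2 → x * x = 1 := by
    intro x hx
    rw [← pow_two, ← hx, pow_orderOf_eq_one]
  have hIconj : ∀ g x : G, x ∈ I → g * x * g⁻¹ ∈ I := by
    intro g x hx
    rw [hI] at hx ⊢
    exact hx.trans (isConj_iff.mpr ⟨g, rfl⟩)
  have hJconj : ∀ g x : G, x ∈ J → g * x * g⁻¹ ∈ J := by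
    intro g x hx
    rw [hJ] at hx ⊢
    exact hx.trans (isConj_iff.mpr ⟨g, rfl⟩)
  have hIsq : ∀ x ∈ I, x * x = 1 := by
    intro x hx
    rw [hI] at hx
    obtain ⟨c, rfl⟩ := isConj_iff.mp hx
    have := hsq_of_order a₀ ha₀
    calc c * a₀ * c⁻¹ * (c * a₀ * c⁻¹) = c * (a₀ * a₀) * c⁻¹ := by group
      _ = 1 := by rw [this]; group
  have hJsq : ∀ x ∈ J, x * x = 1 := by
    intro x hx
    rw [hJ] at hx
    obtain ⟨c, rfl⟩ := isConj_iff.mp hx
    have := hsq_of_order b₀ hb₀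
    calc c * b₀ * c⁻¹ * (c * b₀ * c⁻¹) = c * (b₀ * b₀) * c⁻¹ := by group
      _ = 1 := by rw [this]; group
  have hdisj : ∀ x : G, x ∈ I → x ∈ J → False := by
    intro x hxI hxJ
    apply hIJ
    rw [hI] at hxI ⊢
    rw [hJ] at hxJ ⊢
    have hab : IsConj a₀ b₀ := hxI.trans hxJ.symm
    ext y
    exact ⟨fun h => hab.symm.trans h, fun h => hab.trans h⟩
  have ha₀I : a₀ ∈ I := by rw [hI]; exact IsConj.refl a₀
  have hb₀J : b₀ ∈ J := by rw [hJ]; exact IsConj.refl b₀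
  -- uniqueness of fixed cosets
  have huniq : ∀ x ∈ I ∪ J, ∀ g₁ g₂ : G, g₁⁻¹ * x * g₁ ∈ H → g₂⁻¹ * x * g₂ ∈ H →
      (g₁ : G ⧸ H) = (g₂ : G ⧸ H) := by
    intro x hx g₁ g₂ h₁ h₂
    obtain ⟨c, -, hc⟩ := hfix x hx
    rw [hc _ ((hfixiff g₁ x).mpr h₁), hc _ ((hfixiff g₂ x).mpr h₂)]
  -- Step 2: the key claim
  have hclaim : ∀ a ∈ I, ∀ b ∈ J, a ∈ H → b ∈ H := by
    intro a ha b hb haH
    have ha2 := hIsq a ha
    have hb2 := hJsq b hb
    rcases Nat.even_or_odd (orderOf (a * b)) with heven | hodd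
    · obtain ⟨k, hk⟩ := heven
      have hnpos : 0 < orderOf (a * b) := orderOf_pos _
      have hk0 : 0 < k := by omega
      obtain ⟨hw2, hw1, hwa, hwb, t, hc⟩ :=
        Cfsg.Agent.Lib.Helper27.even_order_mul_involutions ha2 hb2 hk0 hk
      have hcIJ : (a * b) ^ k * a ∈ I ∪ J := by
        rcases hc with hc | hc
        · left; rw [hc]; exact hIconj t a ha
        · right; rw [hc]; exact hJconj t b hb
      have hne : a ≠ (a * b) ^ k * a := by
        intro h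
        apply hw1
        calc (a * b) ^ k = (a * b) ^ k * a * a⁻¹ := by group
          _ = 1 := by rw [← h, mul_inv_cancel]
      have hcomm : a * ((a * b) ^ k * a) = (a * b) ^ k * a * a := by
        rw [← mul_assoc, hwa]
      have hcH : (a * b) ^ k * a ∈ H := by
        have h1 : ((a * b) ^ k * a)⁻¹ * a * ((a * b) ^ k * a) ∈ H := by
          have : ((a * b) ^ k * a)⁻¹ * a * ((a * b) ^ k * a) = a := by
            calc ((a * b) ^ k * a)⁻¹ * a * ((a * b) ^ k * a)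
                = ((a * b) ^ k * a)⁻¹ * (a * ((a * b) ^ k * a)) := by group
              _ = ((a * b) ^ k * a)⁻¹ * ((a * b) ^ k * a * a) := by rw [hcomm]
              _ = a := by group
          rw [this]; exact haH
        have h2 : (1 : G)⁻¹ * a * 1 ∈ H := by simpa using haH
        have h3 := huniq a (Or.inl ha) _ _ h1 h2
        rw [QuotientGroup.eq] at h3
        have h4 := H.inv_mem h3
        simpa using h4
      have hprod : a * ((a * b) ^ k * a) = (a * b) ^ k := by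
        rw [hcomm, mul_assoc, ha2, mul_one]
      have hcen := hcent a ha haH _ hcIJ hcH hne hcomm
      rw [hprod] at hcen
      apply hcen
      rw [Subgroup.mem_centralizer_iff]
      intro y hy
      rw [Set.mem_singleton_iff.mp hy]
      exact hwb.symm
    · exfalso
      obtain ⟨t, ht⟩ := Cfsg.Agent.Lib.Helper27.conj_of_odd_order_mul_involutions ha2 hb2 hodd
      apply hdisj a ha
      rw [ht]
      exact hJconj t b hb
  -- Step 3
  have hstep3 : ∀ a ∈ I, ∀ g : G, g⁻¹ * a * g ∈ H → g⁻¹ * b₀ * g ∈ H := by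
    intro a ha g hg
    have h1 : g⁻¹ * a * g ∈ I := by
      have := hIconj g⁻¹ a ha
      rwa [inv_inv] at this
    have h2 : g⁻¹ * b₀ * g ∈ J := by
      have := hJconj g⁻¹ b₀ hb₀J
      rwa [inv_inv] at this
    exact hclaim _ h1 _ h2 hg
  have hexfix : ∀ x ∈ I ∪ J, ∃ g : G, g⁻¹ * x * g ∈ H := by
    intro x hx
    obtain ⟨c, hc, -⟩ := hfix x hx
    induction c using QuotientGroup.induction_on with
    | H g => exact ⟨g, (hfixiff g x).mp hc⟩
  obtain ⟨g₀, hg₀⟩ := hexfix a₀ (Or.inl ha₀I)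
  have hb₀g₀ := hstep3 a₀ ha₀I g₀ hg₀
  have hall : ∀ a ∈ I, g₀⁻¹ * a * g₀ ∈ H := by
    intro a ha
    obtain ⟨g, hg⟩ := hexfix a (Or.inl ha)
    have hb₀g := hstep3 a ha g hg
    have heq := huniq b₀ (Or.inr hb₀J) g g₀ hb₀g hb₀g₀
    have hfixg : a • (g : G ⧸ H) = (g : G ⧸ H) := (hfixiff g a).mpr hg
    rw [heq] at hfixg
    exact (hfixiff g₀ a).mp hfixg
  -- Step 4
  rw [eq_top_iff]
  intro x _
  have h1 : x⁻¹ * a₀ * x ∈ H := by
    have h2 := hall _ (hIconj (g₀ * x⁻¹) a₀ ha₀I)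
    have : g₀⁻¹ * (g₀ * x⁻¹ * a₀ * (g₀ * x⁻¹)⁻¹) * g₀ = x⁻¹ * a₀ * x := by group
    rwa [this] at h2
  have h0 : (1 : G)⁻¹ * a₀ * 1 ∈ H := by
    have h2 := hall _ (hIconj g₀ a₀ ha₀I)
    have : g₀⁻¹ * (g₀ * a₀ * g₀⁻¹) * g₀ = (1 : G)⁻¹ * a₀ * 1 := by group
    rwa [this] at h2
  have h3 := huniq a₀ (Or.inl ha₀I) _ _ h0 h1
  rw [QuotientGroup.eq] at h3
  simpa using h3

end Cfsg.Agent.S5439
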