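import Cfsg.Statements.S5459
-- import your own Cfsg.Agent.* helpers here

set_option autoImplicit false
open Cfsg

namespace Cfsg.Agent.S5459

section aux
open scoped commutatorElement
variable {G : Type*} [Group G]

/-- the relation "both in `D` and commuting". -/
def CR (D : Set G) (x y : G) : Prop := x ∈ D ∧ y ∈ D ∧ Commute x y

lemma reachable_of_rtg (D : Set G) {x : G} (hx : x ∈ D) :
    ∀ y, Relation.ReflTransGen (CR D) x y → ∀ hy : y ∈ D,
      (Cfsg.commutingGraph D).Reachable ⟨x, hx⟩ ⟨y, hy⟩ := by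
  intro y h
  induction h with
  | refl => intro hy; exact SimpleGraph.Reachable.refl _
  | tail hab hbc ih =>
    rename_i b c
    intro hc
    obtain ⟨hb, -, hcomm⟩ := hbc
    refine (ih hb).trans ?_
    by_cases hbc' : b = c
    · subst hbc'
      exact SimpleGraph.Reachable.refl _
    · apply SimpleGraph.Adj.reachable
      unfold Cfsg.commutingGraph
      rw [SimpleGraph.fromRel_adj]
      refine ⟨fun h => hbc' (congrArg Subtype.val h), Or.inl hcomm⟩

lemma rtg_of_reachable (D : Set G) {a b : D}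
    (h : (Cfsg.commutingGraph D).Reachable a b) :
    Relation.ReflTransGen (CR D) a.1 b.1 := by
  rw [SimpleGraph.reachable_iff_reflTransGen] at h
  induction h with
  | refl => exact Relation.ReflTransGen.refl
  | tail hab hbc ih =>
    rename_i b c
    refine ih.tail ?_
    unfold Cfsg.commutingGraph at hbc
    rw [SimpleGraph.fromRel_adj] at hbc
    rcases hbc.2 with h | h
    · exact ⟨b.2, c.2, h⟩
    · exact ⟨b.2, c.2, h.symm⟩

lemma lift_commute {Z : Subgroup G} {x y u : G} (hx2 : x * x = 1) (hy2 : y * y = 1)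
    (hxZ : ∀ c ∈ Z, x * c = c⁻¹ * x) (hyZ : ∀ c ∈ Z, y * c = c⁻¹ * y)
    (hu : u ∈ Z) (hu4 : u ^ 4 = x * y * x * y) : Commute x (u * y * u⁻¹) := by
  have e1 : y * u⁻¹ = u * y := by
    have := hyZ u⁻¹ (Z.inv_mem hu); simpa using this
  have e2 : x * u = u⁻¹ * x := hxZ u hu
  have e3 : x * y = u ^ 4 * (y * x) := by
    rw [hu4]
    calc x * y = x * y * (x * x) := by rw [hx2, mul_one]
      _ = x * y * x * (y * y) * x := by rw [hy2]; group
      _ = _ := by group
  show x * (u * y * u⁻¹) = (u * y * u⁻¹) * x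
  calc x * (u * y * u⁻¹) = x * (u * (y * u⁻¹)) := by group
    _ = x * (u * (u * y)) := by rw [e1]
    _ = (x * u) * u * y := by group
    _ = u⁻¹ * x * u * y := by rw [e2]
    _ = u⁻¹ * (x * u) * y := by group
    _ = u⁻¹ * (u⁻¹ * x) * y := by rw [e2]
    _ = u⁻¹ * u⁻¹ * (x * y) := by group
    _ = u⁻¹ * u⁻¹ * (u ^ 4 * (y * x)) := by rw [← e3]
    _ = u * (u * y) * x := by
      simp only [pow_succ, pow_zero, one_mul, mul_assoc, inv_mul_cancel_left]
    _ = u * (y * u⁻¹) * x := by rw [e1]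
    _ = _ := by group

lemma comm_left' (u a b : G) (hua : Commute u a) (hub : Commute u b) : ⁅u * a, b⁆ = ⁅a, b⁆ := by
  have h : u * (a * b * a⁻¹) = (a * b * a⁻¹) * u :=
    ((hua.mul_right hub).mul_right hua.inv_right).eq
  rw [commutatorElement_def, commutatorElement_def]
  calc u * a * b * (u * a)⁻¹ * b⁻¹ = (u * (a * b * a⁻¹)) * u⁻¹ * b⁻¹ := by group
    _ = (a * b * a⁻¹) * u * u⁻¹ * b⁻¹ := by rw [h]
    _ = _ := by group

lemma comm_right' (u a b : G) (hua : Commute u a) (hub : Commute u b) : ⁅a, u * b⁆ = ⁅a, b⁆ := by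
  have h : u * (a * b * a⁻¹ * b⁻¹) = (a * b * a⁻¹ * b⁻¹) * u :=
    (((hua.mul_right hub).mul_right hua.inv_right).mul_right hub.inv_right).eq
  have h1 : a * u = u * a := hua.eq.symm
  rw [commutatorElement_def, commutatorElement_def]
  calc a * (u * b) * a⁻¹ * (u * b)⁻¹ = (a * u) * b * a⁻¹ * b⁻¹ * u⁻¹ := by group
    _ = (u * a) * b * a⁻¹ * b⁻¹ * u⁻¹ := by rw [h1]
    _ = (u * (a * b * a⁻¹ * b⁻¹)) * u⁻¹ := by group
    _ = (a * b * a⁻¹ * b⁻¹) * u * u⁻¹ := by rw [h]
    _ = _ := by group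

theorem main (L Z : Subgroup G) [Z.Normal] (hperf : ⁅L, L⁆ = L) (d : G) (hd : d * d = 1)
    (hgen : L ⊔ Subgroup.zpowers d = ⊤) (n : ℕ) (hn : Odd n) (hZn : ∀ c ∈ Z, c ^ n = 1)
    (hZL : ∀ c ∈ Z, c ∈ L ∧ ∀ l ∈ L, l * c = c * l)
    (hinv : ∀ c ∈ Z, d * c * d⁻¹ = c⁻¹)
    (hconn : (Cfsg.commutingGraph (conjugatesOf (QuotientGroup.mk d : G ⧸ Z))).Connected) :
    (Cfsg.commutingGraph (conjugatesOf d)).Connected := by
  classical
  -- elements of D
  have hDmem : ∀ x, x ∈ conjugatesOf d ↔ ∃ g, g * d * g⁻¹ = x := by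
    intro x; show IsConj d x ↔ _; rw [isConj_iff]
  have hdD : d ∈ conjugatesOf d := mem_conjugatesOf_self
  have hDsq : ∀ x ∈ conjugatesOf d, x * x = 1 := by
    intro x hx
    obtain ⟨g, rfl⟩ := (hDmem x).mp hx
    calc g * d * g⁻¹ * (g * d * g⁻¹) = g * (d * d) * g⁻¹ := by group
      _ = 1 := by rw [hd]; group
  have hDself : ∀ x ∈ conjugatesOf d, x⁻¹ = x := by
    intro x hx
    exact (eq_inv_of_mul_eq_one_left (hDsq x hx)).symm
  have hDinv : ∀ x ∈ conjugatesOf d, ∀ c ∈ Z, x * c = c⁻¹ * x := by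
    intro x hx c hc
    obtain ⟨g, rfl⟩ := (hDmem x).mp hx
    have hc' : g⁻¹ * c * g ∈ Z := by
      have := ‹Z.Normal›.conj_mem c hc g⁻¹
      simpa using this
    have h1 := hinv _ hc'
    have h2 : d * (g⁻¹ * c * g) = (g⁻¹ * c * g)⁻¹ * d := by
      rw [← h1]; group
    calc g * d * g⁻¹ * c = g * (d * (g⁻¹ * c * g)) * g⁻¹ := by group
      _ = g * ((g⁻¹ * c * g)⁻¹ * d) * g⁻¹ := by rw [h2]
      _ = _ := by group
  have hDconj : ∀ x ∈ conjugatesOf d, ∀ g : G, g * x * g⁻¹ ∈ conjugatesOf d := by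
    intro x hx g
    obtain ⟨k, rfl⟩ := (hDmem x).mp hx
    exact (hDmem _).mpr ⟨g * k, by group⟩
  -- roots in Z
  have hsqrt : ∀ c ∈ Z, ∃ u ∈ Z, u ^ 2 = c := by
    intro c hc
    obtain ⟨m, hm⟩ := hn
    refine ⟨c ^ (m + 1), Z.pow_mem hc _, ?_⟩
    rw [← pow_mul]
    have : (m + 1) * 2 = n + 1 := by omega
    rw [this, pow_succ, hZn c hc, one_mul]
  have h4rt : ∀ c ∈ Z, ∃ u ∈ Z, u ^ 4 = c := by
    intro c hc
    obtain ⟨u₁, hu₁, h1⟩ := hsqrt c hc
    obtain ⟨u₂, hu₂, h2⟩ := hsqrt u₁ hu₁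
    refine ⟨u₂, hu₂, ?_⟩
    rw [show 4 = 2 * 2 from rfl, pow_mul, h2, h1]
  -- conj invariance
  have CRconj : ∀ g x y, CR (conjugatesOf d) x y →
      CR (conjugatesOf d) (g * x * g⁻¹) (g * y * g⁻¹) := by
    rintro g x y ⟨hx, hy, hxy⟩
    refine ⟨hDconj x hx g, hDconj y hy g, ?_⟩
    show g * x * g⁻¹ * (g * y * g⁻¹) = g * y * g⁻¹ * (g * x * g⁻¹)
    calc g * x * g⁻¹ * (g * y * g⁻¹) = g * (x * y) * g⁻¹ := by group
      _ = g * (y * x) * g⁻¹ := by rw [hxy.eq]
      _ = _ := by group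
  have Tconj : ∀ g x y, Relation.ReflTransGen (CR (conjugatesOf d)) x y →
      Relation.ReflTransGen (CR (conjugatesOf d)) (g * x * g⁻¹) (g * y * g⁻¹) := by
    intro g x y h
    induction h with
    | refl => exact Relation.ReflTransGen.refl
    | tail _ hbc ih => exact ih.tail (CRconj g _ _ hbc)
  have CRsymm : ∀ x y, CR (conjugatesOf d) x y → CR (conjugatesOf d) y x := by
    rintro x y ⟨hx, hy, hxy⟩
    exact ⟨hy, hx, hxy.symm⟩
  have Tsymm : ∀ x y, Relation.ReflTransGen (CR (conjugatesOf d)) x y →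
      Relation.ReflTransGen (CR (conjugatesOf d)) y x := by
    intro x y h
    induction h with
    | refl => exact Relation.ReflTransGen.refl
    | tail _ hbc ih => exact Relation.ReflTransGen.head (CRsymm _ _ hbc) ih
  -- lifting
  have hlift : ∀ a b : G ⧸ Z,
      Relation.ReflTransGen (CR (conjugatesOf (QuotientGroup.mk d : G ⧸ Z))) a b →
      ∀ x ∈ conjugatesOf d, (QuotientGroup.mk x : G ⧸ Z) = a →
      ∃ y ∈ conjugatesOf d, (QuotientGroup.mk y : G ⧸ Z) = b ∧
        Relation.ReflTransGen (CR (conjugatesOf d)) x y := by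
    intro a b hab
    induction hab with
    | refl => intro x hx hxa; exact ⟨x, hx, hxa, Relation.ReflTransGen.refl⟩
    | tail hab' hbc ih =>
      rename_i b c
      intro x hx hxa
      obtain ⟨y, hy, hyb, hxy⟩ := ih x hx hxa
      obtain ⟨-, hcD, hcomm⟩ := hbc
      -- lift c
      obtain ⟨w, hw, hwc⟩ : ∃ w ∈ conjugatesOf d, (QuotientGroup.mk w : G ⧸ Z) = c := by
        obtain ⟨gbar, hg⟩ := isConj_iff.mp hcD
        obtain ⟨g, rfl⟩ := QuotientGroup.mk_surjective gbar
        exact ⟨g * d * g⁻¹, (hDmem _).mpr ⟨g, rfl⟩, by rw [← hg]; rfl⟩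
      have hz : y * w * y * w ∈ Z := by
        have h1 : (QuotientGroup.mk (w * y) : G ⧸ Z) = QuotientGroup.mk (y * w) := by
          rw [QuotientGroup.mk_mul, QuotientGroup.mk_mul, hyb, hwc]
          exact hcomm.eq.symm
        have h2 := QuotientGroup.eq.mp h1
        rw [mul_inv_rev, hDself y hy, hDself w hw] at h2
        simpa [mul_assoc] using h2
      obtain ⟨u, hu, hu4⟩ := h4rt _ hz
      have hcm := lift_commute (hDsq y hy) (hDsq w hw) (hDinv y hy) (hDinv w hw) hu hu4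
      have hw' : u * w * u⁻¹ ∈ conjugatesOf d := hDconj w hw u
      refine ⟨u * w * u⁻¹, hw', ?_, hxy.tail ⟨hy, hw', hcm⟩⟩
      rw [QuotientGroup.mk_mul, QuotientGroup.mk_mul, QuotientGroup.mk_inv,
        (QuotientGroup.eq_one_iff u).mpr hu, hwc]
      simp
  -- the stabiliser-like subgroup K
  let K : Subgroup G :=
    { carrier := {g | Relation.ReflTransGen (CR (conjugatesOf d)) d (g * d * g⁻¹)}
      one_mem' := by
        show Relation.ReflTransGen (CR (conjugatesOf d)) d (1 * d * 1⁻¹)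
        simp only [one_mul, inv_one, mul_one]
        exact Relation.ReflTransGen.refl
      mul_mem' := by
        intro a b ha hb
        show Relation.ReflTransGen (CR (conjugatesOf d)) d (a * b * d * (a * b)⁻¹)
        have h := Tconj a _ _ hb
        have e : a * (b * d * b⁻¹) * a⁻¹ = a * b * d * (a * b)⁻¹ := by group
        rw [e] at h
        exact Relation.ReflTransGen.trans ha h
      inv_mem' := by
        intro a ha
        show Relation.ReflTransGen (CR (conjugatesOf d)) d (a⁻¹ * d * a⁻¹⁻¹)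
        have h := Tconj a⁻¹ _ _ ha
        have e : a⁻¹ * (a * d * a⁻¹) * a⁻¹⁻¹ = d := by group
        rw [e] at h
        exact Tsymm _ _ h }
  have hKmem : ∀ g, g ∈ K ↔ Relation.ReflTransGen (CR (conjugatesOf d)) d (g * d * g⁻¹) :=
    fun g => Iff.rfl
  have hZK : ∀ g : G, ∃ u ∈ Z, u⁻¹ * g ∈ K := by
    intro g
    have hxD : g * d * g⁻¹ ∈ conjugatesOf d := (hDmem _).mpr ⟨g, rfl⟩
    have hxbar : (QuotientGroup.mk (g * d * g⁻¹) : G ⧸ Z) ∈
        conjugatesOf (QuotientGroup.mk d : G ⧸ Z) := by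
      show IsConj _ _
      rw [isConj_iff]
      exact ⟨QuotientGroup.mk g, rfl⟩
    have hr := hconn.preconnected ⟨QuotientGroup.mk d, mem_conjugatesOf_self⟩
      ⟨QuotientGroup.mk (g * d * g⁻¹), hxbar⟩
    have hr' := rtg_of_reachable _ hr
    obtain ⟨y, hy, hyx, hdy⟩ := hlift _ _ hr' d hdD rfl
    have hc : y⁻¹ * (g * d * g⁻¹) ∈ Z := QuotientGroup.eq.mp hyx
    have hc' : (g * d * g⁻¹) * y ∈ Z := by
      have := Z.inv_mem hc
      rw [mul_inv_rev, inv_inv, hDself _ hxD] at this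
      exact this
    obtain ⟨u, hu, hu2⟩ := hsqrt _ hc'
    refine ⟨u, hu, ?_⟩
    rw [hKmem]
    have e1 : y * u⁻¹ = u * y := by
      have := hDinv y hy u⁻¹ (Z.inv_mem hu); simpa using this
    have e2 : u * y * u⁻¹ = g * d * g⁻¹ := by
      calc u * y * u⁻¹ = u * (y * u⁻¹) := by group
        _ = u * (u * y) := by rw [e1]
        _ = u ^ 2 * y := by rw [pow_two, mul_assoc]
        _ = (g * d * g⁻¹) * y * y := by rw [hu2]
        _ = (g * d * g⁻¹) * (y * y) := by group
        _ = _ := by rw [hDsq y hy, mul_one]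
    have e3 : u⁻¹ * g * d * (u⁻¹ * g)⁻¹ = y := by
      calc u⁻¹ * g * d * (u⁻¹ * g)⁻¹ = u⁻¹ * (g * d * g⁻¹) * u := by group
        _ = u⁻¹ * (u * y * u⁻¹) * u := by rw [e2]
        _ = y := by group
    rw [e3]
    exact hdy
  have hLK : L ≤ K := by
    rw [← hperf, Subgroup.commutator_le]
    intro a ha b hb
    obtain ⟨u₁, hu₁, hk₁⟩ := hZK a
    obtain ⟨u₂, hu₂, hk₂⟩ := hZK b
    have hu₁' := hZL _ (Z.inv_mem hu₁)
    have hu₂' := hZL _ (Z.inv_mem hu₂)
    have c1a : Commute u₁⁻¹ a := (hu₁'.2 a ha).symm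
    have c2a : Commute u₂⁻¹ a := (hu₂'.2 a ha).symm
    have c2b : Commute u₂⁻¹ b := (hu₂'.2 b hb).symm
    have c1b' : Commute u₁⁻¹ (u₂⁻¹ * b) := (hu₁'.2 _ (L.mul_mem hu₂'.1 hb)).symm
    have e : ⁅a, b⁆ = ⁅u₁⁻¹ * a, u₂⁻¹ * b⁆ := by
      rw [comm_left' _ _ _ c1a c1b', comm_right' _ _ _ c2a c2b]
    rw [e, commutatorElement_def]
    exact K.mul_mem (K.mul_mem (K.mul_mem hk₁ hk₂) (K.inv_mem hk₁)) (K.inv_mem hk₂)
  have hdK : d ∈ K := by
    rw [hKmem]
    have e : d * d * d⁻¹ = d := by group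
    rw [e]
  have hK : K = ⊤ := by
    rw [eq_top_iff, ← hgen]
    exact sup_le hLK ((Subgroup.zpowers_le).mpr hdK)
  have hall : ∀ x ∈ conjugatesOf d, Relation.ReflTransGen (CR (conjugatesOf d)) d x := by
    intro x hx
    obtain ⟨g, rfl⟩ := (hDmem x).mp hx
    have : g ∈ K := by rw [hK]; exact Subgroup.mem_top g
    exact (hKmem g).mp this
  have : Nonempty (conjugatesOf d) := ⟨⟨d, hdD⟩⟩
  refine ⟨fun a b => ?_⟩
  have ha := hall a.1 a.2
  have hb := hall b.1 b.2
  exact reachable_of_rtg _ a.2 b.1 (Relation.ReflTransGen.trans (Tsymm _ _ ha) hb) b.2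

end aux

/-- Let G be a finite group with a quasisimple normal subgroup L and an involution d such that G is generated by L and d, the centre of L has odd order, and d inverts every element of the centre of L. If the commuting graph on the conjugacy class of the image of d in G modulo the centre of L is connected, then the commuting graph on the conjugacy class of d is connected. -/
theorem result {G : Type*} [Group G] [Finite G] (L : Subgroup G) [L.Normal] (hL : Cfsg.IsQuasisimple ↥L) (d : G) (hd : orderOf d = 2) (hgen : L ⊔ Subgroup.zpowers d = ⊤) (hodd : Odd (Nat.card ↥(Subgroup.center ↥L))) (hinv : ∀ c ∈ (Subgroup.center ↥L).map L.subtype, d * c * d⁻¹ = c⁻¹) [hn : ((Subgroup.center ↥L).map L.subtype).Normal] (hconn : (Cfsg.commutingGraph (conjugatesOf (QuotientGroup.mk d : G ⧸ (Subgroup.center ↥L).map L.subtype))).Connected) : (Cfsg.commutingGraph (conjugatesOf d)).Connected := by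
  have hperf : ⁅L, L⁆ = L := by
    have := hL.1
    exact Subgroup.isPerfect_iff.mp this
  have hdd : d * d = 1 := by
    have := pow_orderOf_eq_one d
    rw [hd, pow_two] at this
    exact this
  have hZL : ∀ c ∈ (Subgroup.center ↥L).map L.subtype, c ∈ L ∧ ∀ l ∈ L, l * c = c * l := by
    rintro c ⟨c', hc', rfl⟩
    refine ⟨c'.2, fun l hl => ?_⟩
    have := Subgroup.mem_center_iff.mp hc' ⟨l, hl⟩
    exact congrArg Subtype.val this
  have hcard : Nat.card ((Subgroup.center ↥L).map L.subtype) = Nat.card (Subgroup.center ↥L) :=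
    Subgroup.card_map_of_injective L.subtype_injective
  have hZn : ∀ c ∈ (Subgroup.center ↥L).map L.subtype, c ^ Nat.card (Subgroup.center ↥L) = 1 := by
    intro c hc
    rw [← hcard]
    have := pow_card_eq_one' (G := ((Subgroup.center ↥L).map L.subtype)) (x := ⟨c, hc⟩)
    have h2 := congrArg Subtype.val this
    simpa using h2
  exact main L _ hperf d hdd hgen _ hodd hZn hZL hinv hconn

end Cfsg.Agent.S5459
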