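import Cfsg.Statements.S5521
import Cfsg.Agent.Lib.Helper28.M24Fix
import Cfsg.Agent.Lib.Helper28.M24FactsProof

set_option autoImplicit false
open Cfsg

namespace Cfsg.Agent.S5521
open Cfsg Cfsg.Agent.Lib.Helper28.GolayCode

theorem base7 : Nat.land (fixClosure 0x80003f [(0x149f, 0x800c75), (0x149f, 0x8081b3), (0x149f, 0x8018ea), (0x293e, 0xa4f8), (0x293e, 0x20ab9), (0x293e, 0x3da1), (0x46e3, 0x8dc6), (0x46e3, 0x10f13), (0x46e3, 0x527c), (0x8dc6, 0x9959), (0x10f13, 0x11b8c), (0x20ab9, 0x21e26), (0x401ed, 0x41572), (0x803da, 0x81745), (0x1007b4, 0x10132b), (0x200f68, 0x202656), (0x400a4f, 0x401ed0)]) 0xffffff = 0xffffff := by decide +kernel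

theorem card_bset_base : (bset 0x80003f).card = 7 := by
  rw [card_bset]; decide +kernel

/-- pigeonhole: a set of points with trivial pointwise stabiliser gives an injection of `M24` into
the embeddings of that set. -/
theorem card_le_of_trivial_stab (B : Finset GolayPt)
    (h : ∀ g ∈ M24, (∀ b ∈ B, g b = b) → g = 1) :
    Nat.card M24 ≤ (24 : ℕ).descFactorial B.card := by
  classical
  let φ : M24 → (B ↪ GolayPt) := fun g =>
    ⟨fun b => (g : Equiv.Perm GolayPt) b, fun a b hab => Subtype.ext ((g : Equiv.Perm GolayPt).injective hab)⟩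
  have hinj : Function.Injective φ := by
    intro g k hgk
    have h1 : ∀ b ∈ B, (g : Equiv.Perm GolayPt) b = (k : Equiv.Perm GolayPt) b := by
      intro b hb
      have := congrArg (fun e : B ↪ GolayPt => e ⟨b, hb⟩) hgk
      exact this
    have h2 := h ((k : Equiv.Perm GolayPt)⁻¹ * g) (M24.mul_mem (M24.inv_mem k.2) g.2) (by
      intro b hb
      rw [Equiv.Perm.mul_apply, h1 b hb]; simp)
    apply Subtype.ext
    have : (k : Equiv.Perm GolayPt) * ((k : Equiv.Perm GolayPt)⁻¹ * g) = k := by rw [h2, mul_one]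
    rw [← this]; group
  have := Nat.card_le_card_of_injective φ hinj
  rw [Nat.card_eq_fintype_card (α := B ↪ GolayPt), Fintype.card_embedding_eq] at this
  simpa using this

theorem result_of_card (hcard : Nat.card M24 = 244823040) :
    (∀ B : Finset Cfsg.GolayPt, B.card ≤ 6 → ∃ g ∈ Cfsg.M24, g ≠ 1 ∧ ∀ b ∈ B, g b = b) ∧
    (∃ B : Finset Cfsg.GolayPt, B.card = 7 ∧ ∀ g ∈ Cfsg.M24, (∀ b ∈ B, g b = b) → g = 1) := by
  constructor
  · intro B hB
    by_contra hno
    push Not at hno
    have h : ∀ g ∈ M24, (∀ b ∈ B, g b = b) → g = 1 := by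
      intro g hg hfix
      by_contra hne
      obtain ⟨b, hb, hgb⟩ := hno g hg hne
      exact hgb (hfix b hb)
    have hle := card_le_of_trivial_stab B h
    rw [hcard] at hle
    have : (24 : ℕ).descFactorial B.card ≤ 96909120 := by
      interval_cases B.card <;> norm_num [Nat.descFactorial]
    omega
  · refine ⟨bset 0x80003f, card_bset_base, ?_⟩
    intro g hg hfix
    exact eq_one_of_fixClosure hg 0x80003f _ hfix base7

theorem result :
    (∀ B : Finset Cfsg.GolayPt, B.card ≤ 6 → ∃ g ∈ Cfsg.M24, g ≠ 1 ∧ ∀ b ∈ B, g b = b) ∧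
    (∃ B : Finset Cfsg.GolayPt, B.card = 7 ∧ ∀ g ∈ Cfsg.M24, (∀ b ∈ B, g b = b) → g = 1) :=
  result_of_card Cfsg.Agent.Lib.Helper28.GolayCode.facts.card

end Cfsg.Agent.S5521
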