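import Cfsg.Statements.S5620
import Cfsg.Agent.S0372
import Cfsg.Agent.Lib.Helper3.Golay.Dodecad3
import Cfsg.Agent.Lib.Helper28.GolayCode

set_option autoImplicit false
open scoped Pointwise
open Cfsg

namespace Cfsg.Agent.S5620
open Cfsg.Agent.Lib.Helper3.Golay

theorem sq_eq : Spor.squareDodecad = Cfsg.Agent.Lib.Helper28.GolayCode.bset 0x5335f := by
  unfold Spor.squareDodecad support₂ Cfsg.Agent.Lib.Helper28.GolayCode.bset
  decide +kernel

theorem sq_mem : Spor.squareDodecad ∈ dodecads := by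
  rw [sq_eq, Cfsg.Agent.Lib.Helper28.GolayCode.bset_mem_dodecads_iff _ (by decide)]
  constructor <;> decide +kernel

theorem zero_mem : (some 0 : GolayPt) ∈ Spor.squareDodecad := by
  rw [sq_eq, Cfsg.Agent.Lib.Helper28.GolayCode.mem_bset]
  decide +kernel

theorem none_not_mem : (none : GolayPt) ∉ Spor.squareDodecad := by
  rw [sq_eq, Cfsg.Agent.Lib.Helper28.GolayCode.mem_bset]
  decide +kernel

theorem five_not_mem : (some 5 : GolayPt) ∉ Spor.squareDodecad := by
  rw [sq_eq, Cfsg.Agent.Lib.Helper28.GolayCode.mem_bset]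
  decide +kernel

theorem proj_smul : projInv • Spor.squareDodecad = Finset.univ \ Spor.squareDodecad := by
  rw [sq_eq]
  unfold Cfsg.Agent.Lib.Helper28.GolayCode.bset
  decide +kernel

theorem proj_zero : projInv (some 0) = none := by decide

theorem smul_compl_iff (x : Equiv.Perm GolayPt) (d : Finset GolayPt) :
    x • (Finset.univ \ d) = Finset.univ \ d ↔ x • d = d := by
  rw [Finset.smul_finset_sdiff, Finset.smul_finset_univ]
  constructor
  · intro h
    have := congrArg (fun s => Finset.univ \ s) h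
    simpa [Finset.sdiff_sdiff_eq_self (Finset.subset_univ _)] using this
  · intro h
    rw [h]

theorem mem_M12 (x : Equiv.Perm GolayPt) :
    x ∈ Spor.M12 ↔ x ∈ M24 ∧ x • Spor.squareDodecad = Spor.squareDodecad := by
  unfold Spor.M12
  constructor
  · rintro ⟨h1, h2⟩
    exact ⟨h1, h2⟩
  · rintro ⟨h1, h2⟩
    exact ⟨h1, h2⟩

theorem mem_M11 (x : Equiv.Perm GolayPt) :
    x ∈ Spor.M11 ↔ x ∈ M24 ∧ x • Spor.squareDodecad = Spor.squareDodecad ∧ x (some 0) = some 0 := by
  unfold Spor.M11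
  constructor
  · rintro ⟨h1, h2⟩
    exact ⟨((mem_M12 x).mp h1).1, ((mem_M12 x).mp h1).2, h2⟩
  · rintro ⟨h1, h2, h3⟩
    exact ⟨(mem_M12 x).mpr ⟨h1, h2⟩, h3⟩

theorem mem_M12_none (x : Equiv.Perm GolayPt) :
    x ∈ Spor.M12 ⊓ MulAction.stabilizer (Equiv.Perm GolayPt) (none : GolayPt) ↔
      x ∈ M24 ∧ x • Spor.squareDodecad = Spor.squareDodecad ∧ x none = none := by
  constructor
  · rintro ⟨h1, h2⟩
    exact ⟨((mem_M12 x).mp h1).1, ((mem_M12 x).mp h1).2, h2⟩
  · rintro ⟨h1, h2, h3⟩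
    exact ⟨(mem_M12 x).mpr ⟨h1, h2⟩, h3⟩

/-- conjugating the stabiliser of a point of the dodecad inside `M12`. -/
theorem mem_conj_M11 (k x : Equiv.Perm GolayPt) (hk : k ∈ M24) :
    x ∈ MulAut.conj k • Spor.M11 ↔
      x ∈ M24 ∧ x • (k • Spor.squareDodecad) = k • Spor.squareDodecad ∧ x (k (some 0)) = k (some 0) := by
  rw [Subgroup.mem_pointwise_smul_iff_inv_smul_mem, MulAut.smul_def, MulAut.conj_inv_apply, mem_M11]
  constructor
  · rintro ⟨h1, h2, h3⟩
    refine ⟨?_, ?_, ?_⟩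
    · have : x = k * (k⁻¹ * x * k) * k⁻¹ := by group
      rw [this]
      exact M24.mul_mem (M24.mul_mem hk h1) (M24.inv_mem hk)
    · rw [mul_smul, mul_smul] at h2
      have := congrArg (fun s => k • s) h2
      simpa using this
    · rw [Equiv.Perm.mul_apply, Equiv.Perm.mul_apply] at h3
      have := congrArg (fun p => k p) h3
      simpa using this
  · rintro ⟨h1, h2, h3⟩
    refine ⟨M24.mul_mem (M24.mul_mem (M24.inv_mem hk) h1) hk, ?_, ?_⟩
    · rw [mul_smul, mul_smul, h2, inv_smul_smul]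
    · rw [Equiv.Perm.mul_apply, Equiv.Perm.mul_apply, h3]
      simp

theorem conj_proj : MulAut.conj projInv • Spor.M11 =
    Spor.M12 ⊓ MulAction.stabilizer (Equiv.Perm GolayPt) (none : GolayPt) := by
  ext x
  rw [mem_conj_M11 projInv x S0372.result, mem_M12_none, proj_smul, proj_zero, smul_compl_iff]

theorem result : Nonempty (↥(Cfsg.Spor.M12 ⊓ MulAction.stabilizer (Equiv.Perm Cfsg.GolayPt) (none : Cfsg.GolayPt)) ≃* ↥Cfsg.Spor.M11) ∧ (¬ ∃ k ∈ Cfsg.Spor.M12, MulAut.conj k • Cfsg.Spor.M11 = Cfsg.Spor.M12 ⊓ MulAction.stabilizer (Equiv.Perm Cfsg.GolayPt) (none : Cfsg.GolayPt)) ∧ ∃ g ∈ Cfsg.M24, g • Cfsg.Spor.squareDodecad = Finset.univ \ Cfsg.Spor.squareDodecad ∧ MulAut.conj g • Cfsg.Spor.M11 = Cfsg.Spor.M12 ⊓ MulAction.stabilizer (Equiv.Perm Cfsg.GolayPt) (none : Cfsg.GolayPt) := by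
  refine ⟨?_, ?_, ⟨projInv, S0372.result, proj_smul, conj_proj⟩⟩
  · exact ⟨((Subgroup.equivSMul (MulAut.conj projInv) Spor.M11).trans
      (MulEquiv.subgroupCongr conj_proj)).symm⟩
  · rintro ⟨k, hk, hconj⟩
    have hk' := (mem_M12 k).mp hk
    set q := k (some 0) with hq
    have hqd : q ∈ Spor.squareDodecad := by
      rw [← hk'.2]
      exact Finset.smul_mem_smul_finset zero_mem
    -- an element of `M12` fixing `q` and moving `none`
    obtain ⟨u, hu, humap⟩ := stab_dodecad_point_map sq_mem hqd (fun _ => (none : GolayPt))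
      (fun _ => (some 5 : GolayPt)) 1 (by norm_num) (fun _ _ => none_not_mem) (fun _ _ => five_not_mem)
      (by intro i hi j hj _; omega) (by intro i hi j hj _; omega)
    have hu0 := humap 0 (by norm_num)
    have humem : u ∈ MulAut.conj k • Spor.M11 := by
      rw [mem_conj_M11 k u hk'.1, hk'.2]
      exact ⟨hu.1.1, hu.1.2, hu.2⟩
    rw [hconj, mem_M12_none] at humem
    rw [humem.2.2] at hu0
    simp at hu0

end Cfsg.Agent.S5620
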