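import Cfsg.Statements.S5522
import Cfsg.Agent.S5620
import Cfsg.Agent.Lib.Helper28.M24Classes

set_option autoImplicit false
open Cfsg

namespace Cfsg.Agent.S5522
open Cfsg.Agent.Lib.Helper28.GolayCode Cfsg.Agent.Lib.Helper28.M24Pairs
  Cfsg.Agent.Lib.Helper28.M24OctadFix
open scoped Pointwise

theorem card_fixed_split (g : Equiv.Perm GolayPt) (D : Finset GolayPt) :
    (Finset.univ.filter fun x => g x = x).card =
      (D.filter fun x => g x = x).card + ((Finset.univ \ D).filter fun x => g x = x).card := by
  classical
  rw [← Finset.card_union_of_disjoint]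
  · congr 1
    ext x
    simp only [Finset.mem_filter, Finset.mem_univ, true_and, Finset.mem_union, Finset.mem_sdiff]
    tauto
  · rw [Finset.disjoint_left]
    intro x hx hx'
    rw [Finset.mem_filter] at hx hx'
    exact (Finset.mem_sdiff.mp hx'.1).2 hx.1

theorem result (g : Equiv.Perm Cfsg.GolayPt) (hg : g ∈ Cfsg.Spor.M11) (hord : (orderOf g).Prime) :
    ∃ x : Cfsg.GolayPt, x ∉ Cfsg.Spor.squareDodecad ∧ g x = x := by
  classical
  obtain ⟨hgM, hgD, hg0⟩ := (Cfsg.Agent.S5620.mem_M11 g).mp hg
  set D := Spor.squareDodecad with hD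
  have hDmem : D ∈ dodecads := Cfsg.Agent.S5620.sq_mem
  set p := orderOf g with hp
  have hgp : g ^ p ^ 1 = 1 := by rw [pow_one, hp]; exact pow_orderOf_eq_one g
  have hg1 : g ≠ 1 := by
    rintro rfl
    rw [hp, orderOf_one] at hord
    exact Nat.not_prime_one hord
  -- the complement is invariant
  have hgDc : g • (Finset.univ \ D) = Finset.univ \ D :=
    (Cfsg.Agent.S5620.smul_compl_iff g D).mpr hgD
  have hDc : (Finset.univ \ D).card = 12 := by
    rw [Finset.card_sdiff_of_subset (Finset.subset_univ _), hDmem.2]
    simp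
  have hmod := @card_filter_fixed_modEq g p 1 ⟨hord⟩ hgp _ hgDc
  rw [hDc] at hmod
  -- it suffices to find a fixed point in the complement
  suffices h : 0 < ((Finset.univ \ D).filter fun x => g x = x).card by
    obtain ⟨x, hx⟩ := Finset.card_pos.mp h
    rw [Finset.mem_filter, Finset.mem_sdiff] at hx
    exact ⟨x, hx.1.2, hx.2⟩
  by_cases h23 : p = 2 ∨ p = 3
  · -- at least six fixed points, at most four of them in the dodecad
    have h6 : 6 ≤ (Finset.univ.filter fun x => g x = x).card := by
      have hpos : 0 < (Finset.univ.filter fun x => g x = x).card :=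
        Finset.card_pos.mpr ⟨some 0, Finset.mem_filter.mpr ⟨Finset.mem_univ _, hg0⟩⟩
      rcases h23 with h2 | h3
      · rcases card_fixed_invol hgM (by rw [← h2, hp]; exact pow_orderOf_eq_one g) hg1 with h | h
        · omega
        · omega
      · rcases card_fixed_order3 hgM (by rw [← h3, hp]; exact pow_orderOf_eq_one g) hg1 with h | h
        · omega
        · omega
    have h4 : (D.filter fun x => g x = x).card ≤ 4 := by
      by_contra hcon
      push Not at hcon
      obtain ⟨s5, hs5, h5c⟩ := Finset.exists_subset_card_eq (show 5 ≤ _ from hcon)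
      let e5 : Fin 5 ≃ ↥s5 := (Fintype.equivFinOfCardEq (by rw [Fintype.card_coe, h5c])).symm
      apply hg1
      apply Cfsg.Agent.Lib.Helper3.Golay.stab_dodecad_unique hDmem
        (fun i => if h : i < 5 then ((e5 ⟨i, h⟩ : ↥s5) : GolayPt) else none) _ _
        (Subgroup.mem_inf.mpr ⟨hgM, hgD⟩)
      · intro i hi
        simp only [hi, dif_pos]
        exact (Finset.mem_filter.mp (hs5 (e5 ⟨i, hi⟩).2)).2
      · intro i hi
        simp only [hi, dif_pos]
        exact (Finset.mem_filter.mp (hs5 (e5 ⟨i, hi⟩).2)).1
      · intro i hi j hj h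
        simp only [hi, hj, dif_pos] at h
        have := e5.injective (Subtype.ext h)
        simpa using this
    have hsplit := card_fixed_split g D
    omega
  · -- `p` does not divide 12
    push Not at h23
    have hnd : ¬ p ∣ 12 := by
      intro hdvd
      have h12 : (12 : ℕ) = 2 ^ 2 * 3 := by norm_num
      rw [h12] at hdvd
      rcases (Nat.Prime.dvd_mul hord).mp hdvd with h | h
      · have := Nat.Prime.dvd_of_dvd_pow hord h
        exact h23.1 ((Nat.prime_dvd_prime_iff_eq hord Nat.prime_two).mp this)
      · exact h23.2 ((Nat.prime_dvd_prime_iff_eq hord Nat.prime_three).mp h)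
    by_contra hcon
    push Not at hcon
    have h0 : ((Finset.univ \ D).filter fun x => g x = x).card = 0 := by omega
    rw [h0] at hmod
    exact hnd ((Nat.modEq_zero_iff_dvd).mp hmod.symm)

end Cfsg.Agent.S5522
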