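import Cfsg.Statements.S5529
import Cfsg.Agent.Lib.Helper28.M23Neg
import Cfsg.Agent.Lib.Helper28.M23GenCertA
import Cfsg.Agent.Lib.Helper28.M23GenCertB
import Cfsg.Agent.Lib.Helper28.M23GenCertC
import Cfsg.Agent.Lib.Helper28.M23GenCertD

set_option autoImplicit false
open Cfsg

namespace Cfsg.Agent.S5529

open Cfsg.Agent.Lib.Helper28 Cfsg.Agent.Lib.Helper28.M23Gen Cfsg.Agent.Lib.Helper28.M23Neg

theorem prime_cases {p : ℕ} (hp : p.Prime) (h : p ∣ 10200960) :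
    p = 2 ∨ p = 3 ∨ p = 5 ∨ p = 7 ∨ p = 11 ∨ p = 23 := by
  have e : 10200960 = 2 ^ 7 * (3 ^ 2 * (5 * (7 * (11 * 23)))) := by norm_num
  rw [e] at h
  rcases (Nat.Prime.dvd_mul hp).1 h with h | h
  · exact Or.inl ((Nat.prime_dvd_prime_iff_eq hp (by norm_num)).1 (hp.dvd_of_dvd_pow h))
  rcases (Nat.Prime.dvd_mul hp).1 h with h | h
  · exact Or.inr (Or.inl ((Nat.prime_dvd_prime_iff_eq hp (by norm_num)).1 (hp.dvd_of_dvd_pow h)))
  rcases (Nat.Prime.dvd_mul hp).1 h with h | h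
  · exact Or.inr (Or.inr (Or.inl ((Nat.prime_dvd_prime_iff_eq hp (by norm_num)).1 h)))
  rcases (Nat.Prime.dvd_mul hp).1 h with h | h
  · exact Or.inr (Or.inr (Or.inr (Or.inl ((Nat.prime_dvd_prime_iff_eq hp (by norm_num)).1 h))))
  rcases (Nat.Prime.dvd_mul hp).1 h with h | h
  · exact Or.inr (Or.inr (Or.inr (Or.inr (Or.inl ((Nat.prime_dvd_prime_iff_eq hp (by norm_num)).1 h)))))
  · exact Or.inr (Or.inr (Or.inr (Or.inr (Or.inr ((Nat.prime_dvd_prime_iff_eq hp (by norm_num)).1 h)))))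

/-- the triples for which generating triples exist. -/
def posList : List (ℕ × ℕ × ℕ) := [(2, 5, 11), (2, 5, 23), (2, 7, 7), (2, 7, 11), (2, 7, 23), (2, 11, 11), (2, 11, 23), (2, 23, 23), (3, 3, 11), (3, 3, 23), (3, 5, 5), (3, 5, 7), (3, 5, 11), (3, 5, 23), (3, 7, 7), (3, 7, 11), (3, 7, 23), (3, 11, 11), (3, 11, 23), (3, 23, 23), (5, 5, 5), (5, 5, 7), (5, 5, 11), (5, 5, 23), (5, 7, 7), (5, 7, 11), (5, 7, 23), (5, 11, 11), (5, 11, 23), (5, 23, 23), (7, 7, 7), (7, 7, 11), (7, 7, 23), (7, 11, 11), (7, 11, 23), (7, 23, 23), (11, 11, 11), (11, 11, 23), (11, 23, 23), (23, 23, 23)]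

theorem pos (p q r : ℕ) (hp : p.Prime) (hq : q.Prime) (hr : r.Prime) (h : (p, q, r) ∈ posList) :
    ∃ x y z : Cfsg.Spor.M23, orderOf x = p ∧ orderOf y = q ∧ orderOf z = r ∧ x * y * z = 1 ∧
        Subgroup.closure {x, y} = ⊤ := by
  unfold posList at h
  simp only [List.mem_cons, Prod.mk.injEq, List.not_mem_nil, or_false] at h
  rcases h with ⟨rfl, rfl, rfl⟩ | ⟨rfl, rfl, rfl⟩ | ⟨rfl, rfl, rfl⟩ | ⟨rfl, rfl, rfl⟩ | ⟨rfl, rfl, rfl⟩ | ⟨rfl, rfl, rfl⟩ | ⟨rfl, rfl, rfl⟩ | ⟨rfl, rfl, rfl⟩ | ⟨rfl, rfl, rfl⟩ | ⟨rfl, rfl, rfl⟩ | ⟨rfl, rfl, rfl⟩ | ⟨rfl, rfl, rfl⟩ | ⟨rfl, rfl, rfl⟩ | ⟨rfl, rfl, rfl⟩ | ⟨rfl, rfl, rfl⟩ | ⟨rfl, rfl, rfl⟩ | ⟨rfl, rfl, rfl⟩ | ⟨rfl, rfl, rfl⟩ | ⟨rfl, rfl, rfl⟩ | ⟨rfl, rfl, rfl⟩ | ⟨rfl, rfl, rfl⟩ | ⟨rfl, rfl, rfl⟩ | ⟨rfl, rfl, rfl⟩ | ⟨rfl, rfl, rfl⟩ | ⟨rfl, rfl, rfl⟩ | ⟨rfl, rfl, rfl⟩ | ⟨rfl, rfl, rfl⟩ | ⟨rfl, rfl, rfl⟩ | ⟨rfl, rfl, rfl⟩ | ⟨rfl, rfl, rfl⟩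 | ⟨rfl, rfl, rfl⟩ | ⟨rfl, rfl, rfl⟩ | ⟨rfl, rfl, rfl⟩ | ⟨rfl, rfl, rfl⟩ | ⟨rfl, rfl, rfl⟩ | ⟨rfl, rfl, rfl⟩ | ⟨rfl, rfl, rfl⟩ | ⟨rfl, rfl, rfl⟩ | ⟨rfl, rfl, rfl⟩ | ⟨rfl, rfl, rfl⟩
  · exact exists_of_certOK hp hq hr M23GenCertA.cert_2_5_11
  · exact exists_of_certOK hp hq hr M23GenCertA.cert_2_5_23
  · exact exists_of_certOK hp hq hr M23GenCertA.cert_2_7_7
  · exact exists_of_certOK hp hq hr M23GenCertA.cert_2_7_11
  · exact exists_of_certOK hp hq hr M23GenCertA.cert_2_7_23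
  · exact exists_of_certOK hp hq hr M23GenCertA.cert_2_11_11
  · exact exists_of_certOK hp hq hr M23GenCertA.cert_2_11_23
  · exact exists_of_certOK hp hq hr M23GenCertA.cert_2_23_23
  · exact exists_of_certOK hp hq hr M23GenCertA.cert_3_3_11
  · exact exists_of_certOK hp hq hr M23GenCertA.cert_3_3_23
  · exact exists_of_certOK hp hq hr M23GenCertB.cert_3_5_5
  · exact exists_of_certOK hp hq hr M23GenCertB.cert_3_5_7
  · exact exists_of_certOK hp hq hr M23GenCertB.cert_3_5_11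
  · exact exists_of_certOK hp hq hr M23GenCertB.cert_3_5_23
  · exact exists_of_certOK hp hq hr M23GenCertB.cert_3_7_7
  · exact exists_of_certOK hp hq hr M23GenCertB.cert_3_7_11
  · exact exists_of_certOK hp hq hr M23GenCertB.cert_3_7_23
  · exact exists_of_certOK hp hq hr M23GenCertB.cert_3_11_11
  · exact exists_of_certOK hp hq hr M23GenCertB.cert_3_11_23
  · exact exists_of_certOK hp hq hr M23GenCertB.cert_3_23_23
  · exact exists_of_certOK hp hq hr M23GenCertC.cert_5_5_5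
  · exact exists_of_certOK hp hq hr M23GenCertC.cert_5_5_7
  · exact exists_of_certOK hp hq hr M23GenCertC.cert_5_5_11
  · exact exists_of_certOK hp hq hr M23GenCertC.cert_5_5_23
  · exact exists_of_certOK hp hq hr M23GenCertC.cert_5_7_7
  · exact exists_of_certOK hp hq hr M23GenCertC.cert_5_7_11
  · exact exists_of_certOK hp hq hr M23GenCertC.cert_5_7_23
  · exact exists_of_certOK hp hq hr M23GenCertC.cert_5_11_11
  · exact exists_of_certOK hp hq hr M23GenCertC.cert_5_11_23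
  · exact exists_of_certOK hp hq hr M23GenCertC.cert_5_23_23
  · exact exists_of_certOK hp hq hr M23GenCertD.cert_7_7_7
  · exact exists_of_certOK hp hq hr M23GenCertD.cert_7_7_11
  · exact exists_of_certOK hp hq hr M23GenCertD.cert_7_7_23
  · exact exists_of_certOK hp hq hr M23GenCertD.cert_7_11_11
  · exact exists_of_certOK hp hq hr M23GenCertD.cert_7_11_23
  · exact exists_of_certOK hp hq hr M23GenCertD.cert_7_23_23
  · exact exists_of_certOK hp hq hr M23GenCertD.cert_11_11_11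
  · exact exists_of_certOK hp hq hr M23GenCertD.cert_11_11_23
  · exact exists_of_certOK hp hq hr M23GenCertD.cert_11_23_23
  · exact exists_of_certOK hp hq hr M23GenCertD.cert_23_23_23

/-- Generation of the Mathieu group M₂₃ (the stabiliser of a point in the Mathieu group M₂₄ acting on 24 points) by triples of prime orders. Let p ≤ q ≤ r be primes dividing |M₂₃| = 10200960 = 2⁷·3²·5·7·11·23, not both p and q equal to 2. Then M₂₃ contains elements x, y, z of orders p, q, r with xyz = 1 and ⟨x, y⟩ = M₂₃ if and only if (p, q, r) is none of: (2, 3, r) for any r, (2, 5, 5), (2, 5, 7), (3, 3, 3), (3, 3, 5), (3, 3, 7). -/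
theorem result (p q r : ℕ) (hp : p.Prime) (hq : q.Prime)
    (hr : r.Prime) (hpq : p ≤ q) (hqr : q ≤ r) (hp2 : ¬ (p = 2 ∧ q = 2))
    (hdvd : p ∣ 10200960 ∧ q ∣ 10200960 ∧ r ∣ 10200960) :
    (∃ x y z : Cfsg.Spor.M23, orderOf x = p ∧ orderOf y = q ∧ orderOf z = r ∧ x * y * z = 1 ∧
        Subgroup.closure {x, y} = ⊤) ↔
      ¬ ((p = 2 ∧ q = 3) ∨ (p = 2 ∧ q = 5 ∧ r = 5) ∨ (p = 2 ∧ q = 5 ∧ r = 7) ∨ (p = 3 ∧ q = 3 ∧ r ≤ 7)) := by
  obtain ⟨h1, h2, h3⟩ := hdvd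
  rcases prime_cases hp h1 with rfl | rfl | rfl | rfl | rfl | rfl <;>
  rcases prime_cases hq h2 with rfl | rfl | rfl | rfl | rfl | rfl <;>
  first
  | (exfalso; omega)
  | (rcases prime_cases hr h3 with rfl | rfl | rfl | rfl | rfl | rfl <;>
      first
      | (exfalso; omega)
      | exact ⟨fun _ => by norm_num, fun _ => pos _ _ _ hp hq hr (by decide)⟩
      | exact ⟨fun ⟨x, y, z, hx, hy, hz, hxyz, hgen⟩ =>
          absurd (cyc_sum_le x y z hp hq hr hx hy hz hxyz hgen) (by decide), fun h => absurd (by norm_num) h⟩)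

end Cfsg.Agent.S5529
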