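import Cfsg.Statements.S5541
-- import your own Cfsg.Agent.* helpers here

set_option autoImplicit false
open Cfsg

namespace Cfsg.Agent.S5541

section helpers

variable {H : Type*} [Group H] {U : Type*} [AddCommGroup U] [Module ℝ U] [FiniteDimensional ℝ U]

theorem rho_inv_apply (ρ : Representation ℝ H U) (g : H) (u : U) : ρ g (ρ g⁻¹ u) = u := by
  have : ρ g * ρ g⁻¹ = 1 := by rw [← map_mul, mul_inv_cancel, map_one]
  calc ρ g (ρ g⁻¹ u) = (ρ g * ρ g⁻¹) u := rfl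
    _ = u := by rw [this]; rfl

theorem nondeg (ρ : Representation ℝ H U) (hirr : ∀ W : Submodule ℝ U, (∀ g : H, W.map (ρ g) ≤ W) → W = ⊥ ∨ W = ⊤) (B : LinearMap.BilinForm ℝ U) (hB0 : B ≠ 0) (hBs : ∀ u v, B u v = B v u) (hBi : ∀ (g : H) (u v : U), B (ρ g u) (ρ g v) = B u v) :
    B.Nondegenerate := by
  have hleft : B.SeparatingLeft := by
    have hW := hirr (LinearMap.ker B) (by
      intro g
      rintro _ ⟨u, hu, rfl⟩
      rw [SetLike.mem_coe] at hu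
      rw [LinearMap.mem_ker] at hu ⊢
      ext v
      have h1 : B (ρ g u) v = B u (ρ g⁻¹ v) := by
        rw [← hBi g u (ρ g⁻¹ v), rho_inv_apply]
      rw [h1, hu]; rfl)
    rcases hW with h | h
    · exact LinearMap.separatingLeft_iff_ker_eq_bot.mpr h
    · exfalso; apply hB0
      ext u v
      have : u ∈ LinearMap.ker B := by rw [h]; trivial
      rw [LinearMap.mem_ker] at this
      rw [this]; rfl
  refine ⟨hleft, ?_⟩
  intro y hy
  apply hleft y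
  intro x; rw [hBs]; exact hy x

/-- trilinear form from a product -/
noncomputable def toTri (B : LinearMap.BilinForm ℝ U) (m : U →ₗ[ℝ] U →ₗ[ℝ] U) : U →ₗ[ℝ] U →ₗ[ℝ] U →ₗ[ℝ] ℝ :=
  m.compr₂ B

theorem toTri_apply (B : LinearMap.BilinForm ℝ U) (m : U →ₗ[ℝ] U →ₗ[ℝ] U) (u v w : U) :
    toTri B m u v w = B (m u v) w := rfl

/-- product from a trilinear form -/
noncomputable def toProd (B : LinearMap.BilinForm ℝ U) (hB : B.Nondegenerate) (t : U →ₗ[ℝ] U →ₗ[ℝ] U →ₗ[ℝ] ℝ) :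
    U →ₗ[ℝ] U →ₗ[ℝ] U :=
  t.compr₂ ((B.toDual hB).symm : Module.Dual ℝ U →ₗ[ℝ] U)

theorem toProd_spec (B : LinearMap.BilinForm ℝ U) (hB : B.Nondegenerate) (t : U →ₗ[ℝ] U →ₗ[ℝ] U →ₗ[ℝ] ℝ) (u v w : U) :
    B (toProd B hB t u v) w = t u v w := by
  simp [toProd]

theorem toTri_toProd (B : LinearMap.BilinForm ℝ U) (hB : B.Nondegenerate) (t : U →ₗ[ℝ] U →ₗ[ℝ] U →ₗ[ℝ] ℝ) :
    toTri B (toProd B hB t) = t := by
  ext u v w
  rw [toTri_apply, toProd_spec]

theorem toTri_injective (B : LinearMap.BilinForm ℝ U) (hB : B.Nondegenerate) {m m' : U →ₗ[ℝ] U →ₗ[ℝ] U}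
    (h : toTri B m = toTri B m') : m = m' := by
  ext u v
  apply eq_of_sub_eq_zero
  apply hB.1
  intro w
  have := congrArg (fun t => t u v w) h
  simp only [toTri_apply] at this
  rw [map_sub, LinearMap.sub_apply, this, sub_self]

theorem toTri_smul (B : LinearMap.BilinForm ℝ U) (c : ℝ) (m : U →ₗ[ℝ] U →ₗ[ℝ] U) :
    toTri B (c • m) = c • toTri B m := by
  ext u v w
  simp [toTri_apply]

theorem toTri_inv (ρ : Representation ℝ H U) (B : LinearMap.BilinForm ℝ U)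
    (hBi : ∀ (g : H) (u v : U), B (ρ g u) (ρ g v) = B u v) (m : U →ₗ[ℝ] U →ₗ[ℝ] U)
    (hm : ∀ (g : H) (u v : U), m (ρ g u) (ρ g v) = ρ g (m u v)) (g : H) (u v w : U) :
    toTri B m (ρ g u) (ρ g v) (ρ g w) = toTri B m u v w := by
  rw [toTri_apply, toTri_apply, hm, hBi]

theorem toProd_equiv (ρ : Representation ℝ H U) (B : LinearMap.BilinForm ℝ U) (hB : B.Nondegenerate)
    (hBi : ∀ (g : H) (u v : U), B (ρ g u) (ρ g v) = B u v) (t : U →ₗ[ℝ] U →ₗ[ℝ] U →ₗ[ℝ] ℝ)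
    (ht : ∀ (g : H) (u v w : U), t (ρ g u) (ρ g v) (ρ g w) = t u v w) (g : H) (u v : U) :
    toProd B hB t (ρ g u) (ρ g v) = ρ g (toProd B hB t u v) := by
  apply eq_of_sub_eq_zero
  apply hB.1
  intro w
  rw [map_sub, LinearMap.sub_apply, toProd_spec]
  have h1 : t (ρ g u) (ρ g v) w = t u v (ρ g⁻¹ w) := by
    rw [← ht g u v (ρ g⁻¹ w), rho_inv_apply]
  have h2 : B (ρ g (toProd B hB t u v)) w = B (toProd B hB t u v) (ρ g⁻¹ w) := by
    rw [← hBi g _ (ρ g⁻¹ w), rho_inv_apply]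
  rw [h1, h2, toProd_spec, sub_self]

end helpers

theorem result {H : Type*} [Group H] {U : Type*} [AddCommGroup U] [Module ℝ U] [FiniteDimensional ℝ U] (ρ : Representation ℝ H U) (hirr : ∀ W : Submodule ℝ U, (∀ g : H, W.map (ρ g) ≤ W) → W = ⊥ ∨ W = ⊤) (B : LinearMap.BilinForm ℝ U) (hB0 : B ≠ 0) (hBs : ∀ u v, B u v = B v u) (hBi : ∀ (g : H) (u v : U), B (ρ g u) (ρ g v) = B u v) : (∃ m : U →ₗ[ℝ] U →ₗ[ℝ] U, m ≠ 0 ∧ (∀ u v, m u v = m v u) ∧ (∀ (g : H) (u v : U), m (ρ g u) (ρ g v) = ρ g (m u v)) ∧ ∀ m' : U →ₗ[ℝ] U →ₗ[ℝ] U, (∀ (g : H) (u v : U), m' (ρ g u) (ρ g v) = ρ g (m' u v)) → ∃ c : ℝ, m' = c • m) ↔ (∃ t : U →ₗ[ℝ] U →ₗ[ℝ] U →ₗ[ℝ] ℝ, t ≠ 0 ∧ (∀ u v w, t u v w = t v u w ∧ t u v w = t u w v) ∧ (∀ (g : H) (u v w : U), t (ρ g u) (ρ g v) (ρ g w) = t u v w) ∧ ∀ t' : U →ₗ[ℝ] U →ₗ[ℝ] U →ₗ[ℝ] ℝ, (∀ (g : H) (u v w : U), t' (ρ g u) (ρ g v) (ρ g w) = t' u v w) → ∃ c : ℝ, t' = c • t) := by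
  have hB : B.Nondegenerate := nondeg ρ hirr B hB0 hBs hBi
  constructor
  · rintro ⟨m, hm0, hmc, hme, hmu⟩
    set t := toTri B m with ht
    have ht0 : t ≠ 0 := by
      intro h
      apply hm0
      apply toTri_injective B hB
      rw [← ht, h]
      ext u v w; simp [toTri_apply]
    have htinv : ∀ (g : H) (u v w : U), t (ρ g u) (ρ g v) (ρ g w) = t u v w :=
      toTri_inv ρ B hBi m hme
    have htuniv : ∀ t' : U →ₗ[ℝ] U →ₗ[ℝ] U →ₗ[ℝ] ℝ, (∀ (g : H) (u v w : U), t' (ρ g u) (ρ g v) (ρ g w) = t' u v w) → ∃ c : ℝ, t' = c • t := by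
      intro t' ht'
      obtain ⟨c, hc⟩ := hmu (toProd B hB t') (toProd_equiv ρ B hB hBi t' ht')
      refine ⟨c, ?_⟩
      rw [← toTri_toProd B hB t', hc, toTri_smul]
    have hsym1 : ∀ u v w, t u v w = t v u w := by
      intro u v w
      rw [ht, toTri_apply, toTri_apply, hmc]
    -- the flipped form
    let t' : U →ₗ[ℝ] U →ₗ[ℝ] U →ₗ[ℝ] ℝ := (LinearMap.lflip (R := ℝ) (M := U) (N := U) (P := ℝ)).comp t
    have ht'app : ∀ u v w, t' u v w = t u w v := fun u v w => rfl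
    obtain ⟨c, hc⟩ := htuniv t' (by
      intro g u v w
      rw [ht'app, ht'app, htinv])
    have hc' : ∀ u v w, t u w v = c * t u v w := by
      intro u v w
      have := congrArg (fun s : U →ₗ[ℝ] U →ₗ[ℝ] U →ₗ[ℝ] ℝ => s u v w) hc
      simpa [ht'app] using this
    -- some nonzero value
    obtain ⟨u₀, v₀, w₀, h0⟩ : ∃ u v w, t u v w ≠ 0 := by
      by_contra hcon
      push Not at hcon
      apply ht0
      ext u v w; simpa using hcon u v w
    have hcc : c * c = 1 := by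
      have h1 := hc' u₀ v₀ w₀
      have h2 := hc' u₀ w₀ v₀
      rw [h1] at h2
      have : (c * c - 1) * t u₀ v₀ w₀ = 0 := by linarith
      rcases mul_eq_zero.mp this with h | h
      · linarith
      · exact absurd h h0
    have hc1 : c = 1 := by
      have : (c - 1) * (c + 1) = 0 := by ring_nf; linarith
      rcases mul_eq_zero.mp this with h | h
      · linarith
      · exfalso
        have hcm : c = -1 := by linarith
        have hanti : ∀ u v w, t u w v = - t u v w := by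
          intro u v w; rw [hc', hcm]; ring
        apply h0
        have e1 : t u₀ v₀ w₀ = - t u₀ w₀ v₀ := by rw [hanti u₀ v₀ w₀]; ring
        have e2 : t u₀ w₀ v₀ = t w₀ u₀ v₀ := hsym1 _ _ _
        have e3 : t w₀ u₀ v₀ = - t w₀ v₀ u₀ := by rw [hanti w₀ u₀ v₀]; ring
        have e4 : t w₀ v₀ u₀ = t v₀ w₀ u₀ := hsym1 _ _ _
        have e5 : t v₀ w₀ u₀ = - t v₀ u₀ w₀ := by rw [hanti v₀ w₀ u₀]; ring
        have e6 : t v₀ u₀ w₀ = t u₀ v₀ w₀ := hsym1 _ _ _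
        linarith
    refine ⟨t, ht0, ?_, htinv, htuniv⟩
    intro u v w
    refine ⟨hsym1 u v w, ?_⟩
    rw [hc' u v w, hc1, one_mul]
  · rintro ⟨t, ht0, hts, htinv, htu⟩
    set m := toProd B hB t with hm
    have hmt : toTri B m = t := toTri_toProd B hB t
    refine ⟨m, ?_, ?_, toProd_equiv ρ B hB hBi t htinv, ?_⟩
    · intro h
      apply ht0
      rw [← hmt, h]
      ext u v w; simp [toTri_apply]
    · intro u v
      apply eq_of_sub_eq_zero
      apply hB.1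
      intro w
      rw [map_sub, LinearMap.sub_apply, hm, toProd_spec, toProd_spec, (hts u v w).1, sub_self]
    · intro m' hm'
      obtain ⟨c, hc⟩ := htu (toTri B m') (toTri_inv ρ B hBi m' hm')
      refine ⟨c, ?_⟩
      apply toTri_injective B hB
      rw [hc, toTri_smul, hmt]

end Cfsg.Agent.S5541
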