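import Cfsg.Statements.S5543
-- import your own Cfsg.Agent.* helpers here

set_option autoImplicit false
open Cfsg

namespace Cfsg.Agent.S5543

section helpers
variable {V : Type*} [AddCommGroup V] [Module ℝ V]

theorem law_quarter : Cfsg.Axial.monsterLaw (1 / 4 : ℝ) (1 / 32) (1 / 4) (1 / 4) = {1, 0} := by
  unfold Cfsg.Axial.monsterLaw
  norm_num

theorem mem_eigen_iff (mul : V →ₗ[ℝ] V →ₗ[ℝ] V) (a v : V) (c : ℝ) :
    v ∈ Cfsg.Axial.eigen mul a c ↔ mul a v = c • v := by
  unfold Cfsg.Axial.eigen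
  rw [Module.End.mem_eigenspace_iff]

theorem eigen_quarter_inter (mul : V →ₗ[ℝ] V →ₗ[ℝ] V) (a w : V)
    (h1 : w ∈ Cfsg.Axial.eigen mul a (1 / 4))
    (h2 : w ∈ Cfsg.Axial.eigenSum mul a {1, 0}) : w = 0 := by
  unfold Cfsg.Axial.eigenSum at h2
  rw [iSup_insert, iSup_singleton] at h2
  obtain ⟨w1, hw1, w0, hw0, rfl⟩ := Submodule.mem_sup.mp h2
  rw [mem_eigen_iff] at h1 hw1 hw0
  rw [map_add, hw1, hw0] at h1
  simp only [one_smul, zero_smul, add_zero] at h1
  -- h1 : w1 = (1/4) • (w1 + w0)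
  have h3 : mul a w1 = mul a ((1 / 4 : ℝ) • (w1 + w0)) := by rw [← h1]
  rw [map_smul, map_add, hw1, hw0] at h3
  simp only [one_smul, zero_smul, add_zero] at h3
  -- h3 : w1 = (1/4) • w1
  have h4 : w1 = 0 := by
    have : (3 / 4 : ℝ) • w1 = 0 := by
      have : (3 / 4 : ℝ) • w1 = w1 - (1 / 4 : ℝ) • w1 := by
        rw [show (3 / 4 : ℝ) = 1 - 1 / 4 by norm_num, sub_smul, one_smul]
      rw [this, ← h3, sub_self]
    rcases smul_eq_zero.mp this with h | h
    · norm_num at h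
    · exact h
  rw [h4, zero_add] at h1 ⊢
  -- h1 : 0 = (1/4) • w0
  rcases smul_eq_zero.mp h1.symm with h | h
  · norm_num at h
  · exact h

end helpers

theorem result {V : Type*} [AddCommGroup V] [Module ℝ V] [FiniteDimensional ℝ V] (mul : V →ₗ[ℝ] V →ₗ[ℝ] V) (B : LinearMap.BilinForm ℝ V) (hV : Cfsg.Axial.IsMajoranaAmbient mul B) (X : Subgroup (V ≃ₗ[ℝ] V)) (hX : ∀ x ∈ X, x * x = 1) (ax : (V ≃ₗ[ℝ] V) → V) (hax : ∀ x ∈ X, x ≠ 1 → Cfsg.Axial.IsMajoranaPair mul B x (ax x)) (h1 : ∀ x ∈ X, x ≠ 1 → B (ax x) (ax x) = 1) (h2A : ∀ x ∈ X, ∀ y ∈ X, x ≠ 1 → y ≠ 1 → x ≠ y → mul (ax x) (ax y) = (1 / 8 : ℝ) • (ax x + ax y - ax (x * y))) : Nat.card ↥X ≤ 4 := by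
  classical
  by_contra hcard
  push Not at hcard
  have hfin : Finite X := Nat.finite_of_card_ne_zero (by omega)
  have : Fintype X := Fintype.ofFinite X
  rw [Nat.card_eq_fintype_card] at hcard
  -- choose three independent elements
  obtain ⟨x, -, hx⟩ := Finset.exists_mem_notMem_of_card_lt_card
    (s := ({1} : Finset X)) (t := Finset.univ) (by rw [Finset.card_singleton, Finset.card_univ]; omega)
  obtain ⟨y, -, hy⟩ := Finset.exists_mem_notMem_of_card_lt_card
    (s := ({1, x} : Finset X)) (t := Finset.univ)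
    (lt_of_le_of_lt (Finset.card_le_two) (by rw [Finset.card_univ]; omega))
  obtain ⟨z, -, hz⟩ := Finset.exists_mem_notMem_of_card_lt_card
    (s := ({1, x, y, x * y} : Finset X)) (t := Finset.univ)
    (lt_of_le_of_lt (Finset.card_le_four) (by rw [Finset.card_univ]; omega))
  simp only [Finset.mem_singleton, Finset.mem_insert, not_or] at hx hy hz
  obtain ⟨hy1, hyx⟩ := hy
  obtain ⟨hz1, hzx, hzy, hzxy⟩ := hz
  -- involution and commutativity facts in X
  have hsq : ∀ g : X, g * g = 1 := fun g => Subtype.ext (hX g g.2)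
  have hinv : ∀ g : X, g⁻¹ = g := fun g => inv_eq_of_mul_eq_one_left (hsq g)
  have hcomm : ∀ g h : X, g * h = h * g := by
    intro g h
    have h1 : (g * h)⁻¹ = g * h := hinv _
    rw [mul_inv_rev, hinv, hinv] at h1
    exact h1.symm
  let a' : X → V := fun s => ax (s : V ≃ₗ[ℝ] V)
  have hne1 : ∀ s : X, s ≠ 1 → (s : V ≃ₗ[ℝ] V) ≠ 1 := by
    intro s hs h; apply hs; exact Subtype.ext h
  have h2A' : ∀ s t : X, s ≠ 1 → t ≠ 1 → s ≠ t →
      mul (a' s) (a' t) = (1 / 8 : ℝ) • (a' s + a' t - a' (s * t)) := by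
    intro s t hs ht hst
    exact h2A s s.2 t t.2 (hne1 s hs) (hne1 t ht) (fun h => hst (Subtype.ext h))
  have hmulne : ∀ s t : X, s ≠ t → s * t ≠ 1 := by
    intro s t hst h
    apply hst
    have : s = t⁻¹ := eq_inv_of_mul_eq_one_left h
    rw [this, hinv]
  have heig : ∀ s t : X, s ≠ 1 → t ≠ 1 → s ≠ t →
      mul (a' s) (a' t - a' (s * t)) = (1 / 4 : ℝ) • (a' t - a' (s * t)) := by
    intro s t hs ht hst
    have e1 : s * (s * t) = t := by rw [← mul_assoc, hsq, one_mul]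
    have hsst : s ≠ s * t := by
      intro h
      apply ht
      have := congrArg (fun g => s * g) h
      simp only [hsq, e1] at this
      exact this.symm
    rw [map_sub, h2A' s t hs ht hst, h2A' s (s * t) hs (hmulne s t hst) hsst, e1]
    module
  -- names
  set xy := x * y with hxy
  set xz := x * z with hxz
  set yz := y * z with hyz
  set xyz := x * (y * z) with hxyz
  have hx1 : x ≠ 1 := hx
  have hyz_ne : y ≠ z := fun h => hzy h.symm
  have hxy1 : xy ≠ 1 := hmulne x y (fun h => hyx h.symm)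
  have hxz1 : xz ≠ 1 := hmulne x z (fun h => hzx h.symm)
  have hyz1 : yz ≠ 1 := hmulne y z hyz_ne
  have e_y_xz : y * xz = xyz := by rw [hxz, hxyz, ← mul_assoc, hcomm y x, mul_assoc]
  have e_xy_z : xy * z = xyz := by rw [hxy, hxyz, mul_assoc]
  have e_xy_xz : xy * xz = yz := by
    rw [hxy, hxz, hyz, hcomm x y, mul_assoc, ← mul_assoc x x z, hsq, one_mul]
  have hy_xz : y ≠ xz := by
    intro h
    apply hzxy
    have := congrArg (fun g => x * g) h
    simp only [hxz, ← mul_assoc, hsq, one_mul] at this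
    exact this.symm
  have hxy_z : xy ≠ z := fun h => hzxy h.symm
  have hxy_xz : xy ≠ xz := by
    intro h
    apply hyz_ne
    exact mul_left_cancel h
  -- the product computation
  have hprod : mul (a' y - a' xy) (a' z - a' xz) = (1 / 4 : ℝ) • (a' xyz - a' yz) := by
    simp only [map_sub, LinearMap.sub_apply]
    rw [h2A' y z hy1 hz1 hyz_ne, h2A' y xz hy1 hxz1 hy_xz, h2A' xy z hxy1 hz1 hxy_z,
      h2A' xy xz hxy1 hxz1 hxy_xz, e_y_xz, e_xy_z, e_xy_xz]
    module
  -- eigenvector memberships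
  have hu : a' y - a' xy ∈ Cfsg.Axial.eigen mul (a' x) (1 / 4) := by
    rw [mem_eigen_iff]; exact heig x y hx1 hy1 (fun h => hyx h.symm)
  have hv : a' z - a' xz ∈ Cfsg.Axial.eigen mul (a' x) (1 / 4) := by
    rw [mem_eigen_iff]; exact heig x z hx1 hz1 (fun h => hzx h.symm)
  have hx_yz : x ≠ yz := by
    intro h
    apply hzxy
    have := congrArg (fun g => y * g) h
    simp only [hyz, ← mul_assoc, hsq, one_mul] at this
    rw [hxy, hcomm x y]; exact this.symm
  have hw : a' yz - a' xyz ∈ Cfsg.Axial.eigen mul (a' x) (1 / 4) := by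
    rw [mem_eigen_iff]; exact heig x yz hx1 hyz1 hx_yz
  have hP1 : mul (a' y - a' xy) (a' z - a' xz) ∈ Cfsg.Axial.eigen mul (a' x) (1 / 4) := by
    rw [hprod]
    have : (1 / 4 : ℝ) • (a' xyz - a' yz) = (-(1 / 4) : ℝ) • (a' yz - a' xyz) := by module
    rw [this]
    exact Submodule.smul_mem _ _ hw
  have hpair := hax x x.2 (hne1 x hx1)
  have haxis := hpair.2.2.1.1
  have hq : (1 / 4 : ℝ) ∈ Cfsg.Axial.majoranaSpectrum := by
    unfold Cfsg.Axial.majoranaSpectrum; simp
  have hP2 : mul (a' y - a' xy) (a' z - a' xz) ∈ Cfsg.Axial.eigenSum mul (a' x) {1, 0} := by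
    have := haxis.2.2.2 (1 / 4) hq (1 / 4) hq _ hu _ hv
    rwa [law_quarter] at this
  have hP0 := eigen_quarter_inter mul (a' x) _ hP1 hP2
  rw [hprod] at hP0
  have hceq : a' xyz = a' yz := by
    rcases smul_eq_zero.mp hP0 with h | h
    · norm_num at h
    · exact sub_eq_zero.mp h
  -- final contradiction
  have hxyz1 : xyz ≠ 1 := by
    rw [hxyz]; exact hmulne x (y * z) hx_yz
  have hyz_xyz : yz ≠ xyz := by
    intro h
    apply hx1
    have h' : 1 * yz = x * yz := by rw [one_mul]; exact h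
    exact (mul_right_cancel h').symm
  have e_last : yz * xyz = x := by
    rw [hxyz, hcomm x (y * z), ← mul_assoc, ← hyz, hsq, one_mul]
  have hrel := h2A' yz xyz hyz1 hxyz1 hyz_xyz
  rw [e_last, hceq] at hrel
  have hidem : mul (a' yz) (a' yz) = a' yz := (hax yz yz.2 (hne1 yz hyz1)).2.2.1.1.2.1
  rw [hidem] at hrel
  have hax_eq : a' x = (-6 : ℝ) • a' yz := by
    have h8 : (8 : ℝ) • a' yz = a' yz + a' yz - a' x := by
      calc (8 : ℝ) • a' yz = (8 : ℝ) • ((1 / 8 : ℝ) • (a' yz + a' yz - a' x)) := by rw [← hrel]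
        _ = a' yz + a' yz - a' x := by module
    have : a' x = a' yz + a' yz - (8 : ℝ) • a' yz := by rw [h8]; abel
    rw [this]; module
  have hBx : B (a' x) (a' x) = 1 := h1 x x.2 (hne1 x hx1)
  have hByz : B (a' yz) (a' yz) = 1 := h1 yz yz.2 (hne1 yz hyz1)
  rw [hax_eq] at hBx
  simp only [map_smul, LinearMap.smul_apply, smul_eq_mul, hByz] at hBx
  norm_num at hBx

end Cfsg.Agent.S5543
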