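import Cfsg.Statements.S5545
-- import your own Cfsg.Agent.* helpers here

set_option autoImplicit false
open Cfsg

namespace Cfsg.Agent.S5545

section helpers
variable {V : Type*} [AddCommGroup V] [Module ℝ V]

theorem law_qq : Cfsg.Axial.monsterLaw (1 / 4 : ℝ) (1 / 32) (1 / 4) (1 / 4) = {1, 0} := by
  unfold Cfsg.Axial.monsterLaw
  norm_num

theorem law_00 : Cfsg.Axial.monsterLaw (1 / 4 : ℝ) (1 / 32) 0 0 = {0} := by
  unfold Cfsg.Axial.monsterLaw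
  norm_num

theorem law_0q : Cfsg.Axial.monsterLaw (1 / 4 : ℝ) (1 / 32) 0 (1 / 4) = {1 / 4} := by
  unfold Cfsg.Axial.monsterLaw
  norm_num

theorem mem_eigen_iff (mul : V →ₗ[ℝ] V →ₗ[ℝ] V) (a v : V) (c : ℝ) :
    v ∈ Cfsg.Axial.eigen mul a c ↔ mul a v = c • v := by
  unfold Cfsg.Axial.eigen
  rw [Module.End.mem_eigenspace_iff]

theorem eigenSum_singleton (mul : V →ₗ[ℝ] V →ₗ[ℝ] V) (a : V) (c : ℝ) :
    Cfsg.Axial.eigenSum mul a {c} = Cfsg.Axial.eigen mul a c := by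
  unfold Cfsg.Axial.eigenSum
  rw [iSup_singleton]

theorem eigen_le_eigenSum (mul : V →ₗ[ℝ] V →ₗ[ℝ] V) (a : V) (c : ℝ) (S : Set ℝ) (hc : c ∈ S) :
    Cfsg.Axial.eigen mul a c ≤ Cfsg.Axial.eigenSum mul a S := by
  unfold Cfsg.Axial.eigenSum
  exact le_iSup₂_of_le c hc le_rfl

theorem eigen_quarter_inter (mul : V →ₗ[ℝ] V →ₗ[ℝ] V) (a w : V)
    (h1 : w ∈ Cfsg.Axial.eigen mul a (1 / 4))
    (h2 : w ∈ Cfsg.Axial.eigenSum mul a {1, 0}) : w = 0 := by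
  unfold Cfsg.Axial.eigenSum at h2
  rw [iSup_insert, iSup_singleton] at h2
  obtain ⟨w1, hw1, w0, hw0, rfl⟩ := Submodule.mem_sup.mp h2
  rw [mem_eigen_iff] at h1 hw1 hw0
  rw [map_add, hw1, hw0] at h1
  simp only [one_smul, zero_smul, add_zero] at h1
  have h3 : mul a w1 = mul a ((1 / 4 : ℝ) • (w1 + w0)) := by rw [← h1]
  rw [map_smul, map_add, hw1, hw0] at h3
  simp only [one_smul, zero_smul, add_zero] at h3
  have h4 : w1 = 0 := by
    have : (3 / 4 : ℝ) • w1 = 0 := by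
      have : (3 / 4 : ℝ) • w1 = w1 - (1 / 4 : ℝ) • w1 := by
        rw [show (3 / 4 : ℝ) = 1 - 1 / 4 by norm_num, sub_smul, one_smul]
      rw [this, ← h3, sub_self]
    rcases smul_eq_zero.mp this with h | h
    · norm_num at h
    · exact h
  rw [h4, zero_add] at h1 ⊢
  rcases smul_eq_zero.mp h1.symm with h | h
  · norm_num at h
  · exact h

/-- transport of eigenspaces under an automorphism of the product -/
theorem eigen_map (mul : V →ₗ[ℝ] V →ₗ[ℝ] V) (μ : V ≃ₗ[ℝ] V)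
    (hμ : ∀ u v : V, μ (mul u v) = mul (μ u) (μ v)) (a : V) (c : ℝ) :
    Cfsg.Axial.eigen mul (μ a) c = (Cfsg.Axial.eigen mul a c).map (μ : V →ₗ[ℝ] V) := by
  ext v
  rw [mem_eigen_iff, Submodule.mem_map]
  constructor
  · intro hv
    refine ⟨μ.symm v, ?_, by simp⟩
    rw [mem_eigen_iff]
    apply μ.injective
    rw [hμ, map_smul, LinearEquiv.apply_symm_apply, hv]
  · rintro ⟨w, hw, rfl⟩
    rw [mem_eigen_iff] at hw
    change mul (μ a) (μ w) = c • μ w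
    rw [← hμ, hw, map_smul]

theorem eigenSum_map (mul : V →ₗ[ℝ] V →ₗ[ℝ] V) (μ : V ≃ₗ[ℝ] V)
    (hμ : ∀ u v : V, μ (mul u v) = mul (μ u) (μ v)) (a : V) (S : Set ℝ) :
    Cfsg.Axial.eigenSum mul (μ a) S = (Cfsg.Axial.eigenSum mul a S).map (μ : V →ₗ[ℝ] V) := by
  unfold Cfsg.Axial.eigenSum
  simp only [Submodule.map_iSup, eigen_map mul μ hμ]

/-- transport of Majorana pairs under a commuting automorphism -/
theorem pair_transport (mul : V →ₗ[ℝ] V →ₗ[ℝ] V) (B : LinearMap.BilinForm ℝ V) (μ₀ μ₁ : V ≃ₗ[ℝ] V) (a₀ : V)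
    (h₀ : Cfsg.Axial.IsMajoranaPair mul B μ₀ a₀)
    (hμ : ∀ u v : V, μ₁ (mul u v) = mul (μ₁ u) (μ₁ v))
    (hc : μ₀ * μ₁ = μ₁ * μ₀) :
    Cfsg.Axial.IsMajoranaPair mul B μ₀ (μ₁ a₀) := by
  obtain ⟨hm, hb, ⟨⟨hne, hid, htop, hfus⟩, hprim⟩, hmiy1, hmiy2⟩ := h₀
  have hcomm : ∀ v, μ₀ (μ₁ v) = μ₁ (μ₀ v) := by
    intro v
    have := congrArg (fun f : V ≃ₗ[ℝ] V => f v) hc
    exact this
  refine ⟨hm, hb, ⟨⟨?_, ?_, ?_, ?_⟩, ?_⟩, ?_, ?_⟩
  · intro h; apply hne; exact (LinearEquiv.map_eq_zero_iff μ₁).mp h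
  · rw [← hμ, hid]
  · rw [eigenSum_map mul μ₁ hμ, htop, Submodule.map_top]
    exact LinearMap.range_eq_top.mpr μ₁.surjective
  · intro c hcS d hdS u hu v hv
    rw [eigen_map mul μ₁ hμ] at hu hv
    obtain ⟨u', hu', rfl⟩ := hu
    obtain ⟨v', hv', rfl⟩ := hv
    rw [eigenSum_map mul μ₁ hμ]
    refine ⟨mul u' v', hfus c hcS d hdS u' hu' v' hv', ?_⟩
    exact hμ u' v'
  · rw [eigen_map mul μ₁ hμ, hprim, Submodule.map_span, Set.image_singleton]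
    rfl
  · intro v hv
    rw [eigenSum_map mul μ₁ hμ] at hv
    obtain ⟨v', hv', rfl⟩ := hv
    change μ₀ (μ₁ v') = μ₁ v'
    rw [hcomm]
    congr 1
    exact hmiy1 v' hv'
  · intro v hv
    rw [eigen_map mul μ₁ hμ] at hv
    obtain ⟨v', hv', rfl⟩ := hv
    change μ₀ (μ₁ v') = -(μ₁ v')
    rw [hcomm]
    have := hmiy2 v' hv'
    change μ₀ v' = - v' at this
    rw [this, map_neg]

theorem orth_axis (mul : V →ₗ[ℝ] V →ₗ[ℝ] V) (B : LinearMap.BilinForm ℝ V)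
    (hcomm : ∀ u v : V, mul u v = mul v u)
    (hassoc : ∀ u v w : V, B u (mul v w) = B (mul u v) w)
    (a c : V) (e : ℝ) (he : e ≠ 1) (hid : mul a a = a) (hc : mul a c = e • c) : B c a = 0 := by
  have h1 : B c a = e * B c a := by
    calc B c a = B c (mul a a) := by rw [hid]
      _ = B (mul c a) a := hassoc c a a
      _ = B (mul a c) a := by rw [hcomm]
      _ = e * B c a := by rw [hc, map_smul, LinearMap.smul_apply, smul_eq_mul]
  have h2 : (1 - e) * B c a = 0 := by linarith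
  rcases mul_eq_zero.mp h2 with h | h
  · exfalso; apply he; linarith
  · exact h

theorem decomp (mul : V →ₗ[ℝ] V →ₗ[ℝ] V) (B : LinearMap.BilinForm ℝ V)
    (hcomm : ∀ u v : V, mul u v = mul v u)
    (hassoc : ∀ u v w : V, B u (mul v w) = B (mul u v) w)
    (μ₁ : V ≃ₗ[ℝ] V) (a₁ a₀ : V)
    (h₁ : Cfsg.Axial.IsMajoranaPair mul B μ₁ a₁) (hn₁ : B a₁ a₁ = 1) (hfix : μ₁ a₀ = a₀) :
    ∃ p₀ pq : V, mul a₁ p₀ = 0 ∧ mul a₁ pq = (1 / 4 : ℝ) • pq ∧
      a₀ = (B a₀ a₁) • a₁ + p₀ + pq := by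
  obtain ⟨hm, hb, ⟨⟨hne, hid, htop, hfus⟩, hprim⟩, hmiy1, hmiy2⟩ := h₁
  have hmem : a₀ ∈ Cfsg.Axial.eigenSum mul a₁ Cfsg.Axial.majoranaSpectrum := by rw [htop]; trivial
  unfold Cfsg.Axial.eigenSum Cfsg.Axial.majoranaSpectrum at hmem
  rw [iSup_insert, iSup_insert, iSup_insert, iSup_singleton] at hmem
  obtain ⟨c1, hc1, r1, hr1, e1⟩ := Submodule.mem_sup.mp hmem
  obtain ⟨c0, hc0, r2, hr2, e2⟩ := Submodule.mem_sup.mp hr1
  obtain ⟨cq, hcq, cr, hcr, e3⟩ := Submodule.mem_sup.mp hr2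
  have hS1 : c1 ∈ Cfsg.Axial.eigenSum mul a₁ {1, 0, 1 / 4} :=
    eigen_le_eigenSum mul a₁ 1 _ (by simp) hc1
  have hS0 : c0 ∈ Cfsg.Axial.eigenSum mul a₁ {1, 0, 1 / 4} :=
    eigen_le_eigenSum mul a₁ 0 _ (by simp) hc0
  have hSq : cq ∈ Cfsg.Axial.eigenSum mul a₁ {1, 0, 1 / 4} :=
    eigen_le_eigenSum mul a₁ (1 / 4) _ (by simp) hcq
  have f1 : μ₁ c1 = c1 := hmiy1 c1 hS1
  have f0 : μ₁ c0 = c0 := hmiy1 c0 hS0
  have fq : μ₁ cq = cq := hmiy1 cq hSq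
  have fr : μ₁ cr = -cr := hmiy2 cr hcr
  have ha₀ : a₀ = c1 + (c0 + (cq + cr)) := by rw [e3, e2, e1]
  have hcr0 : cr = 0 := by
    have h1 : μ₁ a₀ = c1 + (c0 + (cq + -cr)) := by
      rw [ha₀, map_add, map_add, map_add, f1, f0, fq, fr]
    rw [hfix, ha₀] at h1
    have h2 : cr = -cr := by
      have := add_left_cancel (add_left_cancel (add_left_cancel h1))
      exact this
    have h3 : (2 : ℝ) • cr = 0 := by
      rw [two_smul]; nth_rewrite 2 [h2]; exact add_neg_cancel cr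
    rcases smul_eq_zero.mp h3 with h | h
    · norm_num at h
    · exact h
  rw [hprim] at hc1
  obtain ⟨k, rfl⟩ := Submodule.mem_span_singleton.mp hc1
  rw [mem_eigen_iff] at hc0 hcq
  rw [zero_smul] at hc0
  have hB0 : B c0 a₁ = 0 := orth_axis mul B hcomm hassoc a₁ c0 0 (by norm_num) hid (by rw [hc0, zero_smul])
  have hBq : B cq a₁ = 0 := orth_axis mul B hcomm hassoc a₁ cq (1 / 4) (by norm_num) hid hcq
  have hk : B a₀ a₁ = k := by
    rw [ha₀, hcr0, add_zero, map_add, map_add, LinearMap.add_apply, LinearMap.add_apply, map_smul,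
      LinearMap.smul_apply, hn₁, hB0, hBq]
    simp
  refine ⟨c0, cq, hc0, hcq, ?_⟩
  rw [hk, ha₀, hcr0, add_zero, add_assoc]

theorem oneSide (mul : V →ₗ[ℝ] V →ₗ[ℝ] V)
    (hcomm : ∀ u v : V, mul u v = mul v u) (a b : V)
    (hax : Cfsg.Axial.IsAxis mul (Cfsg.Axial.monsterLaw (1 / 4) (1 / 32)) Cfsg.Axial.majoranaSpectrum a)
    (hb : mul b b = b) (lam : ℝ) (p₀ pq : V) (hp₀ : mul a p₀ = 0) (hpq : mul a pq = (1 / 4 : ℝ) • pq)
    (hdec : b = lam • a + p₀ + pq) :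
    mul a (mul a b) = (1 / 4 : ℝ) • (mul a b + (3 * lam) • a) ∧
    pq = (4 : ℝ) • (mul a b - lam • a) ∧ p₀ = b + (3 * lam) • a - (4 : ℝ) • mul a b ∧
    mul p₀ pq = (1 / 2 - lam / 4 : ℝ) • pq := by
  obtain ⟨hne, hid, htop, hfus⟩ := hax
  have hs : mul a b = lam • a + (1 / 4 : ℝ) • pq := by
    rw [hdec, map_add, map_add, map_smul, hid, hp₀, hpq, add_zero]
  have hpq' : pq = (4 : ℝ) • (mul a b - lam • a) := by rw [hs]; module
  have hp₀' : p₀ = b + (3 * lam) • a - (4 : ℝ) • mul a b := by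
    rw [hs]; nth_rewrite 1 [hdec]; module
  have h0S : (0 : ℝ) ∈ Cfsg.Axial.majoranaSpectrum := by unfold Cfsg.Axial.majoranaSpectrum; simp
  have hqS : (1 / 4 : ℝ) ∈ Cfsg.Axial.majoranaSpectrum := by unfold Cfsg.Axial.majoranaSpectrum; simp
  have hp₀e : p₀ ∈ Cfsg.Axial.eigen mul a 0 := by rw [mem_eigen_iff, hp₀, zero_smul]
  have hpqe : pq ∈ Cfsg.Axial.eigen mul a (1 / 4) := by rw [mem_eigen_iff, hpq]
  have hae : a ∈ Cfsg.Axial.eigen mul a 1 := by rw [mem_eigen_iff, hid, one_smul]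
  have f00 : mul p₀ p₀ ∈ Cfsg.Axial.eigen mul a 0 := by
    have := hfus 0 h0S 0 h0S p₀ hp₀e p₀ hp₀e
    rwa [law_00, eigenSum_singleton] at this
  have f0q : mul p₀ pq ∈ Cfsg.Axial.eigen mul a (1 / 4) := by
    have := hfus 0 h0S (1 / 4) hqS p₀ hp₀e pq hpqe
    rwa [law_0q, eigenSum_singleton] at this
  have fqq : mul pq pq ∈ Cfsg.Axial.eigenSum mul a {1, 0} := by
    have := hfus (1 / 4) hqS (1 / 4) hqS pq hpqe pq hpqe
    rwa [law_qq] at this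
  refine ⟨?_, hpq', hp₀', ?_⟩
  · have h1 : mul a p₀ = mul a b + (3 * lam) • a - (4 : ℝ) • mul a (mul a b) := by
      nth_rewrite 1 [hp₀']
      rw [map_sub, map_add, map_smul, map_smul, hid]
    rw [hp₀] at h1
    have h2 : (4 : ℝ) • mul a (mul a b) = mul a b + (3 * lam) • a := by
      have := sub_eq_zero.mp h1.symm
      exact this.symm
    calc mul a (mul a b) = (1 / 4 : ℝ) • ((4 : ℝ) • mul a (mul a b)) := by module
      _ = (1 / 4 : ℝ) • (mul a b + (3 * lam) • a) := by rw [h2]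
  · -- the quarter component
    set D : V := (lam / 2) • pq + (2 : ℝ) • mul p₀ pq - pq with hD
    set E : V := (lam ^ 2) • a + mul p₀ p₀ + mul pq pq - lam • a - p₀ with hE
    have hDE : D + E = 0 := by
      have hbb : mul b b - b = D + E := by
        rw [hD, hE, hdec]
        simp only [map_add, map_smul, LinearMap.add_apply, LinearMap.smul_apply]
        rw [hid, hp₀, hpq, hcomm p₀ a, hp₀, hcomm pq a, hpq, hcomm pq p₀]
        module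
      rw [← hbb, hb, sub_self]
    have hDq : D ∈ Cfsg.Axial.eigen mul a (1 / 4) := by
      rw [hD]
      exact Submodule.sub_mem _ (Submodule.add_mem _ (Submodule.smul_mem _ _ hpqe)
        (Submodule.smul_mem _ _ f0q)) hpqe
    have h10 : ∀ v, v ∈ Cfsg.Axial.eigen mul a 0 → v ∈ Cfsg.Axial.eigenSum mul a {1, 0} :=
      fun v hv => eigen_le_eigenSum mul a 0 _ (by simp) hv
    have h11 : ∀ v, v ∈ Cfsg.Axial.eigen mul a 1 → v ∈ Cfsg.Axial.eigenSum mul a {1, 0} :=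
      fun v hv => eigen_le_eigenSum mul a 1 _ (by simp) hv
    have hE10 : E ∈ Cfsg.Axial.eigenSum mul a {1, 0} := by
      rw [hE]
      exact Submodule.sub_mem _ (Submodule.sub_mem _ (Submodule.add_mem _ (Submodule.add_mem _
        (Submodule.smul_mem _ _ (h11 a hae)) (h10 _ f00)) fqq) (Submodule.smul_mem _ _ (h11 a hae)))
        (h10 _ hp₀e)
    have hD10 : D ∈ Cfsg.Axial.eigenSum mul a {1, 0} := by
      have : D = -E := eq_neg_of_add_eq_zero_left hDE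
      rw [this]; exact Submodule.neg_mem _ hE10
    have hD0 := eigen_quarter_inter mul a D hDq hD10
    rw [hD] at hD0
    have h2 : (2 : ℝ) • mul p₀ pq = pq - (lam / 2) • pq := by
      exact eq_sub_of_add_eq' (sub_eq_zero.mp hD0)
    calc mul p₀ pq = (1 / 2 : ℝ) • ((2 : ℝ) • mul p₀ pq) := by module
      _ = (1 / 2 : ℝ) • (pq - (lam / 2) • pq) := by rw [h2]
      _ = (1 / 2 - lam / 4 : ℝ) • pq := by module

end helpers

theorem result {V : Type*} [AddCommGroup V] [Module ℝ V] [FiniteDimensional ℝ V] (mul : V →ₗ[ℝ] V →ₗ[ℝ] V) (B : LinearMap.BilinForm ℝ V) (hV : Cfsg.Axial.IsMajoranaAmbient mul B) (μ₀ μ₁ : V ≃ₗ[ℝ] V) (a₀ a₁ : V) (h₀ : Cfsg.Axial.IsMajoranaPair mul B μ₀ a₀) (h₁ : Cfsg.Axial.IsMajoranaPair mul B μ₁ a₁) (hu₀ : ∀ a : V, Cfsg.Axial.IsMajoranaPair mul B μ₀ a → a = a₀) (hu₁ : ∀ a : V, Cfsg.Axial.IsMajoranaPair mul B μ₁ a → a = a₁) (hn₀ : B a₀ a₀ = 1) (hn₁ : B a₁ a₁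 = 1) (hc : μ₀ * μ₁ = μ₁ * μ₀) (hne : a₀ ≠ a₁) : (B a₀ a₁ = 0 ∧ mul a₀ a₁ = 0) ∨ (B a₀ a₁ = 1 / 8 ∧ mul (a₀ + a₁ - (8 : ℝ) • mul a₀ a₁) (a₀ + a₁ - (8 : ℝ) • mul a₀ a₁) = a₀ + a₁ - (8 : ℝ) • mul a₀ a₁ ∧ mul a₀ (a₀ + a₁ - (8 : ℝ) • mul a₀ a₁) = (1 / 8 : ℝ) • (a₀ + (a₀ + a₁ - (8 : ℝ) • mul a₀ a₁) - a₁) ∧ mul a₁ (a₀ + a₁ - (8 : ℝ) • mul a₀ a₁) = (1 / 8 : ℝ) • (a₁ + (a₀ + a₁ - (8 : ℝ) • mul a₀ a₁) - a₀)) := by
  obtain ⟨hcomm, hsymm, hpos, hassoc, -⟩ := hV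
  have hfix₁ : μ₁ a₀ = a₀ := hu₀ (μ₁ a₀) (pair_transport mul B μ₀ μ₁ a₀ h₀ h₁.1 hc)
  have hfix₀ : μ₀ a₁ = a₁ := hu₁ (μ₀ a₁) (pair_transport mul B μ₁ μ₀ a₁ h₁ h₀.1 hc.symm)
  obtain ⟨p₀, pq, hp₀, hpq, hdec⟩ := decomp mul B hcomm hassoc μ₁ a₁ a₀ h₁ hn₁ hfix₁
  obtain ⟨r₀, rq, hr₀, hrq, hdec'⟩ := decomp mul B hcomm hassoc μ₀ a₀ a₁ h₀ hn₀ hfix₀
  rw [hsymm a₁ a₀] at hdec'
  set lam := B a₀ a₁ with hlam
  have hid₀ : mul a₀ a₀ = a₀ := h₀.2.2.1.1.2.1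
  have hid₁ : mul a₁ a₁ = a₁ := h₁.2.2.1.1.2.1
  obtain ⟨i1, hpq', hp₀', hm1⟩ := oneSide mul hcomm a₁ a₀ h₁.2.2.1.1 hid₀ lam p₀ pq hp₀ hpq hdec
  obtain ⟨i0, hrq', hr₀', hm0⟩ := oneSide mul hcomm a₀ a₁ h₀.2.2.1.1 hid₁ lam r₀ rq hr₀ hrq hdec'
  rw [hcomm a₁ a₀] at i1 hpq' hp₀'
  set s := mul a₀ a₁ with hs
  have hs1 : mul s a₁ = mul a₁ s := hcomm _ _
  have hs0 : mul s a₀ = mul a₀ s := hcomm _ _
  -- the two expressions for 16 s²
  have E1 : (16 : ℝ) • mul s s = (4 * lam - 1) • s + (3 * lam) • a₀ + (8 * lam ^ 2 + 2 * lam) • a₁ := by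
    have h := hm1
    rw [hp₀', hpq'] at h
    simp only [map_sub, map_add, map_smul, LinearMap.sub_apply, LinearMap.add_apply,
      LinearMap.smul_apply] at h
    rw [hs1, i1, i0, hid₁, ← hs] at h
    linear_combination (norm := module) (-1 : ℝ) • h
  have E0 : (16 : ℝ) • mul s s = (4 * lam - 1) • s + (3 * lam) • a₁ + (8 * lam ^ 2 + 2 * lam) • a₀ := by
    have h := hm0
    rw [hr₀', hrq'] at h
    simp only [map_sub, map_add, map_smul, LinearMap.sub_apply, LinearMap.add_apply,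
      LinearMap.smul_apply] at h
    rw [hs0, i1, i0, hid₀, hcomm a₁ a₀, ← hs] at h
    linear_combination (norm := module) (-1 : ℝ) • h
  have hlamcases : lam = 0 ∨ lam = 1 / 8 := by
    have h1 : (lam * (1 - 8 * lam)) • (a₀ - a₁) = 0 := by
      have := E1.symm.trans E0
      linear_combination (norm := module) this
    rcases smul_eq_zero.mp h1 with h | h
    · rcases mul_eq_zero.mp h with h' | h'
      · left; exact h'
      · right; linarith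
    · exact absurd (sub_eq_zero.mp h) hne
  rcases hlamcases with hl | hl
  · left
    refine ⟨hl, ?_⟩
    -- B s s = 0
    have hBss : B s s = 0 := by
      have e1 : B s s = B a₁ (mul a₀ s) := by
        calc B s s = B (mul a₁ a₀) s := by rw [hs, hcomm a₀ a₁]
          _ = B a₁ (mul a₀ s) := (hassoc a₁ a₀ s).symm
      rw [e1, i0, hl]
      simp only [mul_zero, zero_smul, add_zero, map_smul, smul_eq_mul]
      have e2 : B a₁ s = B (mul a₁ a₁) a₀ := by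
        rw [hs, hcomm a₀ a₁]; exact hassoc a₁ a₁ a₀
      rw [e2, hid₁, hsymm a₁ a₀, ← hlam, hl]; ring
    by_contra hs0'
    have := hpos s hs0'
    rw [hBss] at this
    exact lt_irrefl _ this
  · right
    refine ⟨hl, ?_, ?_, ?_⟩
    · simp only [map_sub, map_add, map_smul, LinearMap.sub_apply, LinearMap.add_apply,
        LinearMap.smul_apply]
      rw [hs1, hs0, hcomm a₁ a₀, ← hs, hid₀, hid₁, i0, i1]
      rw [hl] at E1 ⊢
      linear_combination (norm := module) (4 : ℝ) • E1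
    · simp only [map_sub, map_add, map_smul]
      rw [hid₀, ← hs, i0, hl]
      module
    · simp only [map_sub, map_add, map_smul]
      rw [hid₁, hcomm a₁ a₀, ← hs, i1, hl]
      module

end Cfsg.Agent.S5545
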