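import Cfsg.Statements.S5548
import Cfsg.Agent.Lib.Helper28.GolayModule

set_option autoImplicit false
open Cfsg

namespace Cfsg.Agent.S5548

theorem result (W : Submodule (ZMod 2) (Cfsg.GolayPt → ZMod 2)) (hW : ∀ σ ∈ Cfsg.M24, ∀ w ∈ W, (fun p => w (σ.symm p)) ∈ W) : W = ⊥ ∨ W = Submodule.span (ZMod 2) {fun _ => (1 : ZMod 2)} ∨ W = Cfsg.golayCode ∨ (W : Set (Cfsg.GolayPt → ZMod 2)) = {w | ∑ p, w p = 0} ∨ W = ⊤ :=
  Cfsg.Agent.Lib.Helper28.GolayModule.invariant_cases W hW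

end Cfsg.Agent.S5548
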