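import Cfsg.Statements.S5550
import Cfsg.Agent.Lib.Helper3.Golay.Dodecad3
import Cfsg.Agent.Lib.Helper3.Golay.M24List
import Cfsg.Agent.Lib.Helper28.GolayCoset
import Cfsg.Agent.Lib.Helper28.M24FixConj

set_option autoImplicit false
open Cfsg

namespace Cfsg.Agent.S5550
open Cfsg.Agent.Lib.Helper28.GolayCode Cfsg.Agent.Lib.Helper28.M24Pairs
  Cfsg.Agent.Lib.Helper28.M24OctadFix
open scoped Pointwise

/-- there is an element of `M24` fixing `U` and moving `V` to a set meeting it suitably. -/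
def Good (U V : Finset GolayPt) : Prop :=
  ∃ σ ∈ M24, σ • U = U ∧ σ • V ≠ V ∧ (V.card ≤ 3 ∨ (σ • V ∩ V).Nonempty)

theorem mem_smul_of (σ : Equiv.Perm GolayPt) (V : Finset GolayPt) (p : GolayPt) (hp : p ∈ V) :
    σ p ∈ σ • V := Finset.smul_mem_smul_finset hp

theorem good_of_side (U S V : Finset GolayPt) (hS5 : 5 ≤ S.card)
    (h2 : ∀ p ∈ S, ∀ p' ∈ S, ∀ q ∈ S, p ≠ p' → p ≠ q → ∃ σ ∈ M24, σ • U = U ∧ σ p = p ∧ σ p' = q)
    (hV : V.card ≤ 4)
    (hcase : 2 ≤ (V ∩ S).card ∨ (V.card ≤ 3 ∧ 1 ≤ (V ∩ S).card)) : Good U V := by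
  classical
  obtain ⟨q, hqS, hqV⟩ : ∃ q ∈ S, q ∉ V :=
    Finset.exists_mem_notMem_of_card_lt_card (by omega)
  rcases hcase with h | ⟨h3, h1⟩
  · obtain ⟨p, hp, p', hp', hne⟩ := Finset.one_lt_card.mp (by omega : 1 < (V ∩ S).card)
    rw [Finset.mem_inter] at hp hp'
    have hpq : p ≠ q := fun h => hqV (h ▸ hp.1)
    obtain ⟨σ, hσ, hσU, hσp, hσp'⟩ := h2 p hp.2 p' hp'.2 q hqS hne hpq
    refine ⟨σ, hσ, hσU, ?_, Or.inr ⟨p, ?_⟩⟩
    · intro h
      apply hqV
      rw [← h, ← hσp']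
      exact mem_smul_of σ V p' hp'.1
    · rw [Finset.mem_inter]
      refine ⟨?_, hp.1⟩
      rw [← hσp]
      exact mem_smul_of σ V p hp.1
  · obtain ⟨p, hp⟩ := Finset.card_pos.mp (by omega : 0 < (V ∩ S).card)
    rw [Finset.mem_inter] at hp
    have hpq : p ≠ q := fun h => hqV (h ▸ hp.1)
    obtain ⟨r, hrS, hr⟩ : ∃ r ∈ S, r ∉ ({p, q} : Finset GolayPt) := by
      apply Finset.exists_mem_notMem_of_card_lt_card
      have : ({p, q} : Finset GolayPt).card ≤ 2 := Finset.card_le_two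
      omega
    rw [Finset.mem_insert, Finset.mem_singleton, not_or] at hr
    obtain ⟨σ, hσ, hσU, -, hσp⟩ := h2 r hrS p hp.2 q hqS hr.1 hr.2
    refine ⟨σ, hσ, hσU, ?_, Or.inl h3⟩
    intro h
    apply hqV
    rw [← h, ← hσp]
    exact mem_smul_of σ V p hp.1

theorem good_of_two_sides (U S1 S2 V : Finset GolayPt) (hcover : ∀ p, p ∈ S1 ∨ p ∈ S2)
    (hS1 : 5 ≤ S1.card) (hS2 : 5 ≤ S2.card)
    (h21 : ∀ p ∈ S1, ∀ p' ∈ S1, ∀ q ∈ S1, p ≠ p' → p ≠ q →
      ∃ σ ∈ M24, σ • U = U ∧ σ p = p ∧ σ p' = q)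
    (h22 : ∀ p ∈ S2, ∀ p' ∈ S2, ∀ q ∈ S2, p ≠ p' → p ≠ q →
      ∃ σ ∈ M24, σ • U = U ∧ σ p = p ∧ σ p' = q)
    (hV1 : 1 ≤ V.card) (hV4 : V.card ≤ 4) : Good U V := by
  classical
  have hsum : V.card ≤ (V ∩ S1).card + (V ∩ S2).card := by
    have : V ⊆ (V ∩ S1) ∪ (V ∩ S2) := by
      intro p hp
      rw [Finset.mem_union, Finset.mem_inter, Finset.mem_inter]
      rcases hcover p with h | h
      · exact Or.inl ⟨hp, h⟩
      · exact Or.inr ⟨hp, h⟩
    exact (Finset.card_le_card this).trans (Finset.card_union_le _ _)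
  by_cases h3 : V.card ≤ 3
  · by_cases h1 : 1 ≤ (V ∩ S1).card
    · exact good_of_side U S1 V hS1 h21 hV4 (Or.inr ⟨h3, h1⟩)
    · exact good_of_side U S2 V hS2 h22 hV4 (Or.inr ⟨h3, by omega⟩)
  · by_cases h1 : 2 ≤ (V ∩ S1).card
    · exact good_of_side U S1 V hS1 h21 hV4 (Or.inl h1)
    · exact good_of_side U S2 V hS2 h22 hV4 (Or.inl (by omega))

/-! ### The three kinds of stabilisers -/

theorem card_univ24 : (Finset.univ : Finset GolayPt).card = 24 := by simp

theorem two_trans_M24 (p p' q : GolayPt) (h1 : p ≠ p') (h2 : p ≠ q) :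
    ∃ σ ∈ M24, σ p = p ∧ σ p' = q := by
  obtain ⟨g, hg, hmap⟩ := Cfsg.Agent.Lib.Helper3.Golay.exists_map_list [p, p'] [p, q]
    (by simpa using h1) (by simpa using h2) rfl (by norm_num)
  simp only [List.map_cons, List.map_nil, List.cons.injEq, and_true] at hmap
  exact ⟨g, hg, hmap.1, hmap.2⟩

theorem good_trivial (U V : Finset GolayPt) (hU : ∀ σ : Equiv.Perm GolayPt, σ • U = U)
    (hV1 : 1 ≤ V.card) (hV4 : V.card ≤ 4) : Good U V := by
  apply good_of_two_sides U Finset.univ Finset.univ V (fun p => Or.inl (Finset.mem_univ p))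
    (by rw [card_univ24]; norm_num) (by rw [card_univ24]; norm_num) _ _ hV1 hV4
  · intro p _ p' _ q _ h1 h2
    obtain ⟨σ, hσ, h3, h4⟩ := two_trans_M24 p p' q h1 h2
    exact ⟨σ, hσ, hU σ, h3, h4⟩
  · intro p _ p' _ q _ h1 h2
    obtain ⟨σ, hσ, h3, h4⟩ := two_trans_M24 p p' q h1 h2
    exact ⟨σ, hσ, hU σ, h3, h4⟩

theorem smul_compl_iff (x : Equiv.Perm GolayPt) (d : Finset GolayPt) :
    x • (Finset.univ \ d) = Finset.univ \ d ↔ x • d = d := by
  rw [Finset.smul_finset_sdiff, Finset.smul_finset_univ]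
  constructor
  · intro h
    have := congrArg (fun s => Finset.univ \ s) h
    simpa [Finset.sdiff_sdiff_eq_self (Finset.subset_univ _)] using this
  · intro h
    rw [h]

/-- certificates: the stabiliser of the base octad and the point `x0` is transitive on the other
fifteen points outside the octad. -/
def outC : List ℕ := [0xbdab49ca307b9ac5a928398a418820, 0x13609b22f3794d45324ba9c2470e20, 0x1cda73304b81695b492f52224706e0, 0x751466d456401eb9c8ec824642c437, 0x1b133340b6785726d2a83a9c405e22, 0x1c9b5618a850ac7a4d2f82ee470620, 0x135f449ef3538d682175930a408071, 0x2beb05d1c750906932764b46488037, 0x12d86b42f3502893a1b2abc640b8b1, 0x9ccfb30b5401b2a256a9c04470ef1, 0xda957a5c798ccc5c1aa44ae401451, 0xa5f66a06c514d481d7594dc4146e0, 0x71acd3aeef98650ab12a45064144a0, 0x150ef94c0db15483412b656240b877, 0x7328daa22f9066a399305d8642dc40]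

noncomputable def outOK (P : ℕ) : Bool :=
  inM24 P && Nat.beq (applyMask P O0) O0 && Nat.beq (img P 4) 4

theorem outC_ok : outC.all outOK = true := by decide +kernel

theorem outC_cover : ∀ i < 24, O0.testBit i = false → i = 4 ∨ ∃ P ∈ outC, img P 6 = i := by
  decide +kernel

/-- a point outside the base octad other than `x0` is the image of `dec 6`. -/
theorem exists_out_cert (y : GolayPt) (hy : y ∉ bset O0) (hyx : y ≠ x0) :
    ∃ c ∈ M24, c • bset O0 = bset O0 ∧ c x0 = x0 ∧ c (dec 6) = y := by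
  rw [mem_bset] at hy
  rcases outC_cover (enc y) (enc_lt y) (by simpa using hy) with h | ⟨P, hP, himg⟩
  · exfalso
    apply hyx
    rw [← dec_enc y, h]; rfl
  · have hok := List.all_eq_true.mp outC_ok P hP
    unfold outOK at hok
    simp only [Bool.and_eq_true, nat_beq_iff] at hok
    obtain ⟨⟨h1, h2⟩, h3⟩ := hok
    have hp := isPerm_of_inM24 _ h1
    refine ⟨permOf P, permOf_mem_M24 _ h1, ?_, ?_, ?_⟩
    · rw [permOf_smul_bset P hp, h2]
    · show permOf P (dec 4) = dec 4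
      rw [permOf_apply_dec P hp 4 (by norm_num), h3]
    · rw [permOf_apply_dec P hp 6 (by norm_num), himg, dec_enc]

theorem two_trans_out_base (y y' : GolayPt) (hy : y ∉ bset O0) (hy' : y' ∉ bset O0) (hyx : y ≠ x0)
    (hyx' : y' ≠ x0) : ∃ c ∈ M24, c • bset O0 = bset O0 ∧ c x0 = x0 ∧ c y = y' := by
  obtain ⟨c1, hc1, h1O, h1x, h1y⟩ := exists_out_cert y hy hyx
  obtain ⟨c2, hc2, h2O, h2x, h2y⟩ := exists_out_cert y' hy' hyx'
  refine ⟨c2 * c1⁻¹, M24.mul_mem hc2 (M24.inv_mem hc1), ?_, ?_, ?_⟩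
  · rw [mul_smul, inv_smul_eq_iff.mpr h1O.symm, h2O]
  · rw [Equiv.Perm.mul_apply, Equiv.Perm.inv_eq_iff_eq.mpr h1x.symm, h2x]
  · rw [Equiv.Perm.mul_apply, Equiv.Perm.inv_eq_iff_eq.mpr h1y.symm, h2y]

theorem two_trans_out {o : Finset GolayPt} (ho : o ∈ octads) (p p' q : GolayPt) (hp : p ∉ o)
    (hp' : p' ∉ o) (hq : q ∉ o) (h1 : p ≠ p') (h2 : p ≠ q) :
    ∃ σ ∈ M24, σ • o = o ∧ σ p = p ∧ σ p' = q := by
  obtain ⟨t, ht, hto, -, htx⟩ := Cfsg.Agent.Lib.Helper3.Golay.exists_map_octad_list_out ho [] []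
    List.nodup_nil List.nodup_nil rfl (by norm_num) (by simp) (by simp) hp
  rw [bitSet_eq_bset] at hto
  change t • bset O0 = o at hto
  have htx' : t x0 = p := htx
  have hmem : ∀ z, t⁻¹ z ∈ bset O0 ↔ z ∈ o := by
    intro z
    rw [← hto]
    show t⁻¹ • z ∈ bset O0 ↔ z ∈ t • bset O0
    exact Finset.inv_smul_mem_iff
  have hne : ∀ z, z ≠ p → t⁻¹ z ≠ x0 := by
    intro z hz h
    apply hz
    rw [← htx', ← h]; simp
  obtain ⟨c, hc, hcO, hcx, hcy⟩ := two_trans_out_base (t⁻¹ p') (t⁻¹ q)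
    (fun h => hp' ((hmem _).mp h)) (fun h => hq ((hmem _).mp h)) (hne _ h1.symm) (hne _ h2.symm)
  refine ⟨t * c * t⁻¹, M24.mul_mem (M24.mul_mem ht hc) (M24.inv_mem ht), ?_, ?_, ?_⟩
  · rw [mul_smul, mul_smul, ← hto, inv_smul_smul, hcO]
  · rw [Equiv.Perm.mul_apply, Equiv.Perm.mul_apply, ← htx']
    simp [hcx]
  · rw [Equiv.Perm.mul_apply, Equiv.Perm.mul_apply, hcy]
    simp

theorem two_trans_in {o : Finset GolayPt} (ho : o ∈ octads) (p p' q : GolayPt) (hp : p ∈ o)
    (hp' : p' ∈ o) (hq : q ∈ o) (h1 : p ≠ p') (h2 : p ≠ q) :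
    ∃ σ ∈ M24, σ • o = o ∧ σ p = p ∧ σ p' = q := by
  obtain ⟨g, hg, hgo, hmap⟩ := Cfsg.Agent.Lib.Helper3.Golay.exists_map_octad_list ho ho [p, p'] [p, q]
    (by simpa using h1) (by simpa using h2) rfl (by norm_num)
    (by
      intro z hz
      simp only [List.mem_cons, List.not_mem_nil, or_false] at hz
      rcases hz with rfl | rfl <;> assumption)
    (by
      intro z hz
      simp only [List.mem_cons, List.not_mem_nil, or_false] at hz
      rcases hz with rfl | rfl <;> assumption)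
  simp only [List.map_cons, List.map_nil, List.cons.injEq, and_true] at hmap
  exact ⟨g, hg, hgo, hmap.1, hmap.2⟩

theorem card_compl (s : Finset GolayPt) : (Finset.univ \ s).card = 24 - s.card := by
  rw [Finset.card_sdiff_of_subset (Finset.subset_univ _), card_univ24]

/-- the octad case, for the octad itself or its complement. -/
theorem good_octad {o : Finset GolayPt} (ho : o ∈ octads) (U V : Finset GolayPt)
    (hU : ∀ σ : Equiv.Perm GolayPt, σ • o = o → σ • U = U) (hV1 : 1 ≤ V.card) (hV4 : V.card ≤ 4) :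
    Good U V := by
  classical
  apply good_of_two_sides U o (Finset.univ \ o) V _ (by rw [ho.2]; norm_num)
    (by rw [card_compl, ho.2]; norm_num) _ _ hV1 hV4
  · intro p
    by_cases h : p ∈ o
    · exact Or.inl h
    · exact Or.inr (Finset.mem_sdiff.mpr ⟨Finset.mem_univ _, h⟩)
  · intro p hp p' hp' q hq h1 h2
    obtain ⟨σ, hσ, hσo, h3, h4⟩ := two_trans_in ho p p' q hp hp' hq h1 h2
    exact ⟨σ, hσ, hU σ hσo, h3, h4⟩
  · intro p hp p' hp' q hq h1 h2
    obtain ⟨σ, hσ, hσo, h3, h4⟩ := two_trans_out ho p p' q (Finset.mem_sdiff.mp hp).2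
      (Finset.mem_sdiff.mp hp').2 (Finset.mem_sdiff.mp hq).2 h1 h2
    exact ⟨σ, hσ, hU σ hσo, h3, h4⟩

theorem two_trans_dodecad {d : Finset GolayPt} (hd : d ∈ dodecads) (p p' q : GolayPt) (hp : p ∈ d)
    (hp' : p' ∈ d) (hq : q ∈ d) (h1 : p ≠ p') (h2 : p ≠ q) :
    ∃ σ ∈ M24, σ • d = d ∧ σ p = p ∧ σ p' = q := by
  obtain ⟨g, hg, hmap⟩ := Cfsg.Agent.Lib.Helper3.Golay.stab_dodecad_map hd
    (fun i => if i = 0 then p else p') (fun i => if i = 0 then p else q) 2 (by norm_num)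
    (by intro i hi; interval_cases i <;> simp [hp, hp'])
    (by intro i hi; interval_cases i <;> simp [hp, hq])
    (by
      intro i hi j hj h
      interval_cases i <;> interval_cases j <;> simp_all)
    (by
      intro i hi j hj h
      interval_cases i <;> interval_cases j <;> simp_all)
  refine ⟨g, hg.1, hg.2, ?_, ?_⟩
  · simpa using hmap 0 (by norm_num)
  · simpa using hmap 1 (by norm_num)

/-- the complement of a code support is a code support. -/
theorem compl_mem_supports {s : Finset GolayPt}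
    (hs : s ∈ supports (golayCode : Set (GolayPt → ZMod 2))) :
    Finset.univ \ s ∈ supports (golayCode : Set (GolayPt → ZMod 2)) := by
  obtain ⟨w, hw, rfl⟩ := hs
  refine ⟨1 + w, golayCode.add_mem one_mem hw, ?_⟩
  ext p
  simp only [support₂, Finset.mem_filter, Finset.mem_univ, true_and, Finset.mem_sdiff, Pi.add_apply,
    Pi.one_apply, ne_eq, not_not]
  have : ∀ x : ZMod 2, (1 + x = 0 ↔ ¬ x = 0) := by decide
  rw [← not_iff_not, not_not, this]

theorem good_dodecad {d : Finset GolayPt} (hd : d ∈ dodecads) (V : Finset GolayPt)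
    (hV1 : 1 ≤ V.card) (hV4 : V.card ≤ 4) : Good d V := by
  classical
  have hd' : Finset.univ \ d ∈ dodecads :=
    ⟨compl_mem_supports hd.1, by rw [card_compl, hd.2]⟩
  apply good_of_two_sides d d (Finset.univ \ d) V _ (by rw [hd.2]; norm_num)
    (by rw [card_compl, hd.2]; norm_num) _ _ hV1 hV4
  · intro p
    by_cases h : p ∈ d
    · exact Or.inl h
    · exact Or.inr (Finset.mem_sdiff.mpr ⟨Finset.mem_univ _, h⟩)
  · intro p hp p' hp' q hq h1 h2
    exact two_trans_dodecad hd p p' q hp hp' hq h1 h2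
  · intro p hp p' hp' q hq h1 h2
    obtain ⟨σ, hσ, hσo, h3, h4⟩ := two_trans_dodecad hd' p p' q hp hp' hq h1 h2
    exact ⟨σ, hσ, (smul_compl_iff σ d).mp hσo, h3, h4⟩

/-- the main combinatorial statement. -/
theorem good_support {U : Finset GolayPt} (hU : U ∈ supports (golayCode : Set (GolayPt → ZMod 2)))
    (V : Finset GolayPt) (hV1 : 1 ≤ V.card) (hV4 : V.card ≤ 4) : Good U V := by
  classical
  obtain ⟨u, hu, rfl⟩ := hU
  rcases weight_cases u hu with h | h | h | h | h
  · have : support₂ u = ∅ := Finset.card_eq_zero.mp h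
    rw [this]
    exact good_trivial ∅ V (fun σ => Finset.smul_finset_empty σ) hV1 hV4
  · exact good_octad (o := support₂ u) ⟨⟨u, hu, rfl⟩, h⟩ _ V (fun σ hσ => hσ) hV1 hV4
  · exact good_dodecad (d := support₂ u) ⟨⟨u, hu, rfl⟩, h⟩ V hV1 hV4
  · have ho : Finset.univ \ support₂ u ∈ octads :=
      ⟨compl_mem_supports ⟨u, hu, rfl⟩, by rw [card_compl, h]⟩
    exact good_octad ho _ V (fun σ hσ => (smul_compl_iff σ _).mp hσ) hV1 hV4
  · have : support₂ u = Finset.univ := Finset.eq_univ_of_card _ (by rw [h]; simp)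
    rw [this]
    exact good_trivial Finset.univ V (fun σ => Finset.smul_finset_univ) hV1 hV4

theorem perm_mem_code {σ : Equiv.Perm GolayPt} (hσ : σ ∈ M24) {c : GolayPt → ZMod 2}
    (hc : c ∈ golayCode) : (fun p => c (σ.symm p)) ∈ golayCode := by
  obtain ⟨c', hc', hsupp⟩ := smul_mem_supports hσ (s := support₂ c) ⟨c, hc, rfl⟩
  rw [← support_comp_symm] at hsupp
  rw [← support_injective hsupp]
  exact hc'

theorem support_add (a b : GolayPt → ZMod 2) :
    support₂ (a + b) = (support₂ a \ support₂ b) ∪ (support₂ b \ support₂ a) := by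
  ext p
  simp only [support₂, Finset.mem_filter, Finset.mem_univ, true_and, Pi.add_apply, ne_eq,
    Finset.mem_union, Finset.mem_sdiff, not_not]
  have : ∀ x y : ZMod 2, (¬ x + y = 0 ↔ (¬ x = 0 ∧ y = 0) ∨ (¬ y = 0 ∧ x = 0)) := by decide
  exact this _ _

theorem result (u : (Cfsg.GolayPt → ZMod 2)) (hu : u ∈ Cfsg.golayCode) (w : (Cfsg.GolayPt → ZMod 2)) (hw : w ∉ Cfsg.golayCode) : ∃ σ ∈ Cfsg.M24, (fun p => u (σ.symm p)) = u ∧ (fun p => w (σ.symm p)) - w ∉ Cfsg.golayCode := by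
  classical
  obtain ⟨v, hv, hpop, hmem⟩ := exists_leader w
  have hVcard : (bset v).card ≤ 4 := by rw [card_bset]; exact hpop
  have hV1 : 1 ≤ (bset v).card := by
    by_contra hcon
    have h0 : (bset v).card = 0 := by omega
    have : wordOf v = 0 := by
      rw [← support_eq_empty_iff, support_wordOf]
      exact Finset.card_eq_zero.mp h0
    rw [this, add_zero] at hmem
    exact hw hmem
  obtain ⟨σ, hσ, hσU, hσV, hcase⟩ :=
    good_support (U := support₂ u) ⟨u, hu, rfl⟩ (bset v) hV1 hVcard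
  refine ⟨σ, hσ, ?_, ?_⟩
  · apply support_injective
    rw [support_comp_symm, hσU]
  · intro hcon
    have h1 : (fun p => (w + wordOf v) (σ.symm p)) ∈ golayCode := perm_mem_code hσ hmem
    have h2 : (fun p => wordOf v (σ.symm p)) + wordOf v ∈ golayCode := by
      have h3 := golayCode.add_mem (golayCode.add_mem hcon h1) hmem
      convert h3 using 1
      funext p
      simp only [Pi.add_apply, Pi.sub_apply]
      have : ∀ a b c d : ZMod 2, c + d = a - b + (a + c) + (b + d) := by decide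
      exact this _ _ _ _
    have hsupp : support₂ ((fun p => wordOf v (σ.symm p)) + wordOf v) =
        ((σ • bset v) \ bset v) ∪ (bset v \ (σ • bset v)) := by
      rw [support_add, support_comp_symm, support_wordOf]
    have hne : (fun p => wordOf v (σ.symm p)) + wordOf v ≠ 0 := by
      intro h0
      have : support₂ ((fun p => wordOf v (σ.symm p)) + wordOf v) = ∅ := by
        rw [h0]; exact (support_eq_empty_iff 0).mpr rfl
      rw [hsupp, Finset.union_eq_empty, Finset.sdiff_eq_empty_iff_subset,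
        Finset.sdiff_eq_empty_iff_subset] at this
      exact hσV (Finset.Subset.antisymm this.1 this.2)
    have h8 := eight_le_weight _ h2 hne
    rw [hsupp] at h8
    have hc1 : (σ • bset v).card = (bset v).card := Finset.card_smul_finset _ _
    have hc2 := Finset.card_sdiff_add_card_inter (σ • bset v) (bset v)
    have hc3 := Finset.card_sdiff_add_card_inter (bset v) (σ • bset v)
    have hc4 := Finset.card_union_le ((σ • bset v) \ bset v) (bset v \ (σ • bset v))
    rw [Finset.inter_comm] at hc3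
    rcases hcase with h | h
    · omega
    · have := Finset.card_pos.mpr h
      omega

end Cfsg.Agent.S5550
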