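import Cfsg.Statements.S5552
-- import your own Cfsg.Agent.* helpers here
import Cfsg.Agent.Lib.Helper14.Leech
import Cfsg.Agent.Lib.Helper14.LeechShort
import Cfsg.Agent.Lib.Helper14.LeechCross
import Cfsg.Agent.Lib.Helper14.LeechOrbit

set_option autoImplicit false
open Cfsg

namespace Cfsg.Agent.S5552

open Cfsg.Agent.Lib.Helper14.Leech Cfsg.Agent.Lib.Helper14.LeechCross
  Cfsg.Agent.Lib.Helper14.LeechOrbit

/-- vectors all of whose coordinates are `0` modulo 4 -/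
theorem mem_even (x : GolayPt → ℤ) (h : ∀ i, x i % 4 = 0) (hs : (∑ i, x i) % 8 = 0) :
    x ∈ leechLattice := by
  rw [mem_leechLattice_iff, mem_leechSet_iff]
  refine ⟨0, 0, Submodule.zero_mem _, fun i => ?_, by rw [hs]; rfl⟩
  rw [h i]; simp

/-- vectors all of whose coordinates are `1` modulo 4 -/
theorem mem_odd (x : GolayPt → ℤ) (h : ∀ i, x i % 4 = 1) (hs : (∑ i, x i) % 8 = 4) :
    x ∈ leechLattice := by
  rw [mem_leechLattice_iff, mem_leechSet_iff]
  refine ⟨1, 0, Submodule.zero_mem _, fun i => ?_, by rw [hs]; rfl⟩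
  rw [h i]; simp

/-- `4 e_a + s 4 e_b` -/
def tw (a b : GolayPt) (s t : ℤ) : GolayPt → ℤ :=
  fun i => (if i = a then 4 * s else 0) + (if i = b then 4 * t else 0)

/-- `(1, …, 1, -3, 1, …)` -/
def od (a : GolayPt) : GolayPt → ℤ := fun i => if i = a then -3 else 1

def u1 : GolayPt → ℤ := tw none (some 2) 1 1
def u2 : GolayPt → ℤ := tw none (some 0) (-1) (-1)
def u3 : GolayPt → ℤ := tw (some 0) (some 1) 1 (-1)
def u4 : GolayPt → ℤ := od none
def u5 : GolayPt → ℤ := -od (some 0)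
def u6 : GolayPt → ℤ := tw none (some 1) 1 1

theorem m1 : u1 ∈ leechLattice := mem_even _ (by decide) (by decide)
theorem m2 : u2 ∈ leechLattice := mem_even _ (by decide) (by decide)
theorem m3 : u3 ∈ leechLattice := mem_even _ (by decide) (by decide)
theorem m4 : u4 ∈ leechLattice := mem_odd _ (by decide) (by decide)
theorem m5 : u5 ∈ leechLattice := by
  apply AddSubgroup.neg_mem
  exact mem_odd _ (by decide) (by decide)
theorem m6 : u6 ∈ leechLattice := mem_even _ (by decide) (by decide)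

theorem n1 : sqNorm u1 = 32 := by decide +kernel
theorem n2 : sqNorm u2 = 32 := by decide +kernel
theorem n3 : sqNorm u3 = 32 := by decide +kernel
theorem n4 : sqNorm u4 = 32 := by decide +kernel
theorem n5 : sqNorm u5 = 32 := by decide +kernel
theorem n6 : sqNorm u6 = 32 := by decide +kernel
theorem n123 : sqNorm (u1 + u2 + u3) = 32 := by decide +kernel
theorem n12 : sqNorm (u1 + u2) = 32 := by decide +kernel
theorem n23 : sqNorm (u2 + u3) = 32 := by decide +kernel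
theorem n13 : sqNorm (u1 + u3) = 64 := by decide +kernel
theorem n456 : sqNorm (u4 + u5 + u6) = 32 := by decide +kernel
theorem n45 : sqNorm (u4 + u5) = 32 := by decide +kernel
theorem n56 : sqNorm (u5 + u6) = 48 := by decide +kernel
theorem n46 : sqNorm (u4 + u6) = 48 := by decide +kernel

theorem char2 : ∀ a X : ZMod 2, a + a + a + a = a + X + X → a = 0 := by decide

theorem char2' : ∀ a c : ZMod 2, a + a + a + a = a + c + a → c = 0 := by decide

theorem zmod2 : ∀ b : ZMod 2, b ≠ 0 → b = 1 := by decide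

/-- On the Leech lattice of the definitions, let Q be a function to the field with two elements that is constant on cosets of twice the lattice, is a quadratic form there (Q(u+v+w) + Q(u) + Q(v) + Q(w) = Q(u+v) + Q(u+w) + Q(v+w) for all u, v, w), is invariant under every lattice automorphism, and is not identically zero. Then Q(v) is the squared length of v divided by 16, reduced modulo 2, for every lattice vector v (squared lengths of lattice vectors are multiples of 16). -/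
theorem result (Q : ↥Cfsg.leechLattice → ZMod 2) (hcoset : ∀ v w : ↥Cfsg.leechLattice, Q (v + (w + w)) = Q v) (hquad : ∀ u v w : ↥Cfsg.leechLattice, Q (u + v + w) + Q u + Q v + Q w = Q (u + v) + Q (u + w) + Q (v + w)) (hinv : ∀ (g : ↥Cfsg.Co0) (v : ↥Cfsg.leechLattice), Q (g • v) = Q v) (hne : ∃ v : ↥Cfsg.leechLattice, Q v ≠ 0) (v : ↥Cfsg.leechLattice) : Q v = ((Cfsg.sqNorm (v : Cfsg.GolayPt → ℤ) / 16 : ℤ) : ZMod 2) := by
  classical
  -- Q 0 = 0
  have hQ0 : Q 0 = 0 := by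
    have := hquad 0 0 0
    simp only [add_zero] at this
    have h2 : ∀ a : ZMod 2, a + a + a + a = a + a + a → a = 0 := by decide
    exact h2 _ this
  -- constancy on norm classes
  have h32 : ∀ x y : ↥leechLattice, sqNorm (x : GolayPt → ℤ) = 32 → sqNorm (y : GolayPt → ℤ) = 32 →
      Q x = Q y := by
    intro x y hx hy
    obtain ⟨g, hg⟩ := co0_trans32 x y hx hy
    rw [← hg, hinv]
  have h48 : ∀ x y : ↥leechLattice, sqNorm (x : GolayPt → ℤ) = 48 → sqNorm (y : GolayPt → ℤ) = 48 →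
      Q x = Q y := by
    intro x y hx hy
    obtain ⟨g, hg⟩ := co0_trans48 x y hx hy
    rw [← hg, hinv]
  have h64 : ∀ x y : ↥leechLattice, sqNorm (x : GolayPt → ℤ) = 64 → sqNorm (y : GolayPt → ℤ) = 64 →
      Q x = Q y := by
    intro x y hx hy
    obtain ⟨g, hg⟩ := co0_trans64 x y hx hy
    rw [← hg, hinv]
  -- relation 1: norm 64 gives 0
  have hc : ∀ x : ↥leechLattice, sqNorm (x : GolayPt → ℤ) = 64 → Q x = 0 := by
    intro x hx
    have hq := hquad ⟨u1, m1⟩ ⟨u2, m2⟩ ⟨u3, m3⟩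
    have e1 : Q (⟨u1, m1⟩ + ⟨u2, m2⟩ + ⟨u3, m3⟩) = Q ⟨u1, m1⟩ := h32 _ _ n123 n1
    have e2 : Q ⟨u2, m2⟩ = Q ⟨u1, m1⟩ := h32 _ _ n2 n1
    have e3 : Q ⟨u3, m3⟩ = Q ⟨u1, m1⟩ := h32 _ _ n3 n1
    have e4 : Q (⟨u1, m1⟩ + ⟨u2, m2⟩) = Q ⟨u1, m1⟩ := h32 _ _ n12 n1
    have e5 : Q (⟨u2, m2⟩ + ⟨u3, m3⟩) = Q ⟨u1, m1⟩ := h32 _ _ n23 n1
    have e6 : Q (⟨u1, m1⟩ + ⟨u3, m3⟩) = Q x := h64 _ _ n13 hx
    rw [e1, e2, e3, e4, e5, e6] at hq
    exact char2' _ _ hq
  -- relation 2: norm 32 gives 0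
  have ha : ∀ x : ↥leechLattice, sqNorm (x : GolayPt → ℤ) = 32 → Q x = 0 := by
    intro x hx
    have hq := hquad ⟨u4, m4⟩ ⟨u5, m5⟩ ⟨u6, m6⟩
    have e1 : Q (⟨u4, m4⟩ + ⟨u5, m5⟩ + ⟨u6, m6⟩) = Q ⟨u4, m4⟩ := h32 _ _ n456 n4
    have e2 : Q ⟨u5, m5⟩ = Q ⟨u4, m4⟩ := h32 _ _ n5 n4
    have e3 : Q ⟨u6, m6⟩ = Q ⟨u4, m4⟩ := h32 _ _ n6 n4
    have e4 : Q (⟨u4, m4⟩ + ⟨u5, m5⟩) = Q ⟨u4, m4⟩ := h32 _ _ n45 n4
    have e5 : Q (⟨u5, m5⟩ + ⟨u6, m6⟩) = Q (⟨u4, m4⟩ + ⟨u6, m6⟩) := h48 _ _ n56 n46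
    rw [e1, e2, e3, e4, e5] at hq
    rw [h32 x ⟨u4, m4⟩ hx n4]
    exact char2 _ _ hq
  -- reduction to short representatives
  have hred : ∀ v : ↥leechLattice, ∃ y : ↥leechLattice, sqNorm (y : GolayPt → ℤ) ≤ 64 ∧
      Q v = Q y ∧ ∃ k : ℤ, sqNorm (v : GolayPt → ℤ) = sqNorm (y : GolayPt → ℤ) + 32 * k := by
    intro v
    obtain ⟨y, hy, hn, z, hz, hvz⟩ := exists_short v.1 v.2
    refine ⟨⟨y, hy⟩, hn, ?_, ?_⟩
    · have : v = ⟨y, hy⟩ + (⟨z, hz⟩ + ⟨z, hz⟩) := by
        apply Subtype.ext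
        show v.1 = y + (z + z)
        rw [two_nsmul] at hvz
        rw [← hvz]; abel
      rw [this, hcoset]
    · have hv : v.1 = y + (z + z) := by
        rw [two_nsmul] at hvz
        rw [← hvz]; abel
      obtain ⟨a, ha'⟩ := sixteen_dvd_sqNorm_lattice z hz
      obtain ⟨b, hb⟩ := sixteen_dvd_sqNorm_lattice y hy
      obtain ⟨c, hc'⟩ := sixteen_dvd_sqNorm_lattice (y + z) (AddSubgroup.add_mem _ hy hz)
      have h1 := Cfsg.Agent.Lib.Helper14.Leech.sqNorm_add y z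
      have h2 := Cfsg.Agent.Lib.Helper14.Leech.sqNorm_add y (z + z)
      have h3 : dotInt y (z + z) = 2 * dotInt y z := by
        unfold dotInt
        rw [Finset.mul_sum]
        refine Finset.sum_congr rfl fun i _ => ?_
        rw [Pi.add_apply]; ring
      have h4 := Cfsg.Agent.Lib.Helper14.Leech.sqNorm_add_self z
      refine ⟨(c - b - a) + 2 * a, ?_⟩
      show sqNorm v.1 = sqNorm y + _
      rw [hv, h2, h3, h4]
      linarith
  -- norm 48 gives 1
  have hb : ∀ x : ↥leechLattice, sqNorm (x : GolayPt → ℤ) = 48 → Q x = 1 := by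
    intro x hx
    apply zmod2
    intro hx0
    obtain ⟨v0, hv0⟩ := hne
    apply hv0
    obtain ⟨y, hyn, hQ, -⟩ := hred v0
    rw [hQ]
    rcases norm_cases y.1 y.2 hyn with h | h | h | h
    · have : y = 0 := Subtype.ext h
      rw [this, hQ0]
    · exact ha y h
    · rw [h48 y x h hx, hx0]
    · exact hc y h
  -- conclusion
  obtain ⟨y, hyn, hQ, k, hk⟩ := hred v
  rw [hQ, hk]
  rcases norm_cases y.1 y.2 hyn with h | h | h | h
  · have : y = 0 := Subtype.ext h
    have h0 : sqNorm (y : GolayPt → ℤ) = 0 := by rw [h]; exact sqNorm_zero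
    rw [this, hQ0]
    have : sqNorm (((0 : ↥leechLattice)) : GolayPt → ℤ) = 0 := sqNorm_zero
    rw [this, show (0 + 32 * k) / 16 = 2 * k by omega]
    push_cast
    have : (2 : ZMod 2) = 0 := by decide
    rw [this, zero_mul]
  · rw [ha y h, h, show (32 + 32 * k) / 16 = 2 * (1 + k) by omega]
    push_cast
    have : (2 : ZMod 2) = 0 := by decide
    rw [this, zero_mul]
  · rw [hb y h, h, show (48 + 32 * k) / 16 = 1 + 2 * (1 + k) by omega]
    push_cast
    have : (2 : ZMod 2) = 0 := by decide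
    rw [this, zero_mul, add_zero]
  · rw [hc y h, h, show (64 + 32 * k) / 16 = 2 * (2 + k) by omega]
    push_cast
    have : (2 : ZMod 2) = 0 := by decide
    rw [this, zero_mul]

end Cfsg.Agent.S5552
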