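import Cfsg.Statements.S5559
-- import your own Cfsg.Agent.* helpers here
import Cfsg.Agent.Lib.Helper19.SU32
import Cfsg.Agent.Lib.Helper21.Recog54
import Cfsg.Agent.Lib.Helper1.T3O2J

set_option autoImplicit false
open Cfsg

namespace Cfsg.Agent.S5559

/-- Let H be a finite group generated by a conjugacy class E of 3-transpositions with at least two members, with F*(H) = O₂(H), and such that H/O₂(H) has a normal Sylow 3-subgroup of 2-power index (that is, H = O_{2,3,2}(H)). Then H/O₂(H) is isomorphic to the symmetric group of degree 3 or to the derived group of SU₃(2) (of order 54). -/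
theorem result {H : Type*} [Group H] [Finite H] {E : Set H} (hE : Cfsg.IsThreeTranspositionClass E)
    (hE2 : ∃ a ∈ E, ∃ b ∈ E, a ≠ b) (hF : Cfsg.generalizedFittingSubgroup H = Cfsg.pCore 2 H)
    (h232 : ∃ P : Sylow 3 (H ⧸ Cfsg.pCore 2 H), (P : Subgroup (H ⧸ Cfsg.pCore 2 H)).Normal ∧
      ∃ k : ℕ, (P : Subgroup (H ⧸ Cfsg.pCore 2 H)).index = 2 ^ k) :
    Nonempty (H ⧸ Cfsg.pCore 2 H ≃* Equiv.Perm (Fin 3)) ∨
      ∃ (F : Type) (_ : Field F) (_ : Fintype F), Fintype.card F = 4 ∧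
        Nonempty (H ⧸ Cfsg.pCore 2 H ≃* ↥(commutator ↥(Cfsg.SU 3 F 2))) := by
  rcases Cfsg.Agent.Lib.Helper1.T3O2.quot_structure hE hE2 hF h232 with
    h | ⟨hcard, d, x, y, h1, h2, h3, h4, h5, h6, h7, h8⟩
  · exact Or.inl h
  · right
    obtain ⟨d', x', y', g1, g2, g3, g4, g5, g6, g7, g8⟩ :=
      Cfsg.Agent.Lib.Helper19.SU32.exists_gens_commutator_SU32
    refine ⟨Cfsg.Agent.Lib.Helper28.U6F4.F4, inferInstance, inferInstance,
      Cfsg.Agent.Lib.Helper28.U6F4.card_F4, ?_⟩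
    exact Cfsg.Agent.Lib.Helper21.Recog54.recog54 d x y d' x' y' ⟨h1, h2, h3, h4, h5, h6, h7⟩
      ⟨g1, g2, g3, g4, g5, g6, g7⟩ h8 g8 hcard
      Cfsg.Agent.Lib.Helper19.SU32.card_commutator_SU32

end Cfsg.Agent.S5559
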