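import Cfsg.Statements.S5562
-- import your own Cfsg.Agent.* helpers here

set_option autoImplicit false
open Cfsg

namespace Cfsg.Agent.S5562

theorem sq_one_of_order_two {G : Type*} [Group G] {y : G} (hy : orderOf y = 2) : y * y = 1 := by
  have h : y ^ 2 = 1 := by rw [← hy]; exact pow_orderOf_eq_one y
  rwa [sq] at h

theorem mem_conj_iff {G : Type*} [Group G] {d y : G} : y ∈ conjugatesOf d ↔ ∃ c : G, c * d * c⁻¹ = y :=
  isConj_iff

theorem sq_one_of_conj {G : Type*} [Group G] {d y : G} (hd : d * d = 1) (hy : y ∈ conjugatesOf d) :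
    y * y = 1 := by
  obtain ⟨c, rfl⟩ := mem_conj_iff.mp hy
  calc c * d * c⁻¹ * (c * d * c⁻¹) = c * (d * d) * c⁻¹ := by group
    _ = 1 := by rw [hd]; group

theorem conj_mem_conj {G : Type*} [Group G] {d y : G} (hy : y ∈ conjugatesOf d) (w : G) :
    w * y * w⁻¹ ∈ conjugatesOf d := by
  obtain ⟨c, rfl⟩ := mem_conj_iff.mp hy
  exact mem_conj_iff.mpr ⟨w * c, by group⟩

theorem result {G : Type*} [Group G] [Finite G] (d : G) (hd : orderOf d = 2)
    (hodd : ∀ a ∈ conjugatesOf d, ∀ b ∈ conjugatesOf d, Odd (orderOf (a * b)))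
    (x : G) (hx : orderOf x = 2) :
    ∀ e ∈ conjugatesOf d,
      ∃! a : G, a ∈ conjugatesOf d ∧ Commute a x ∧ Commute e (a * x) := by
  intro e he
  have hdd : d * d = 1 := sq_one_of_order_two hd
  have hxx : x * x = 1 := sq_one_of_order_two hx
  have hee : e * e = 1 := sq_one_of_conj hdd he
  have hxi : x⁻¹ = x := inv_eq_of_mul_eq_one_left hxx
  have hei : e⁻¹ = e := inv_eq_of_mul_eq_one_left hee
  set u := e * x with hu
  have hui : u⁻¹ = x * e := by rw [hu, mul_inv_rev, hxi, hei]
  -- semiconjugation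
  have hxu : SemiconjBy x u u⁻¹ := by
    change x * u = u⁻¹ * x
    rw [hui, hu, mul_assoc]
  have heu : SemiconjBy e u u⁻¹ := by
    change e * u = u⁻¹ * e
    rw [hui, hu, ← mul_assoc, hee, one_mul, mul_assoc, hee, mul_one]
  have hxun : ∀ n : ℤ, x * u ^ n = u ^ (-n) * x := by
    intro n
    have := hxu.zpow_right n
    rw [inv_zpow'] at this
    exact this
  have heun : ∀ n : ℤ, e * u ^ n = u ^ (-n) * e := by
    intro n
    have := heu.zpow_right n
    rw [inv_zpow'] at this
    exact this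
  -- the odd number k
  have he' : x * e * x⁻¹ ∈ conjugatesOf d := conj_mem_conj he x
  have hu2 : e * (x * e * x⁻¹) = u ^ 2 := by rw [hxi, sq, hu]; group
  set k := orderOf (u ^ 2) with hk
  have hkodd : Odd k := by rw [hk, ← hu2]; exact hodd e he _ he'
  have hu2k : u ^ (2 * (k : ℤ)) = 1 := by
    rw [zpow_mul, zpow_natCast, zpow_ofNat, hk]; exact pow_orderOf_eq_one _
  have hukk : u ^ (-(k : ℤ)) = u ^ (k : ℤ) := by
    have : u ^ (k : ℤ) * u ^ (k : ℤ) = 1 := by rw [← zpow_add, ← two_mul]; exact hu2k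
    rw [zpow_neg]; exact inv_eq_of_mul_eq_one_left this
  obtain ⟨j, hj⟩ := hkodd
  refine ⟨u ^ (-(k : ℤ)) * x, ⟨?_, ?_, ?_⟩, ?_⟩
  · -- membership
    have h1 : u ^ (-(k : ℤ)) * x = u ^ (-(j : ℤ)) * (x * e * x⁻¹) * (u ^ (-(j : ℤ)))⁻¹ := by
      rw [hxi, ← zpow_neg, neg_neg]
      have h2 : x * e * x = u⁻¹ * x := by rw [hui]
      rw [h2, mul_assoc, mul_assoc, hxun, ← mul_assoc, ← mul_assoc, ← zpow_neg_one, ← zpow_add, ← zpow_add]
      congr 2
      rw [hj]; push_cast; ring
    rw [h1]
    exact conj_mem_conj he' _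
  · -- commutes with x
    change u ^ (-(k : ℤ)) * x * x = x * (u ^ (-(k : ℤ)) * x)
    rw [mul_assoc, hxx, mul_one, ← mul_assoc, hxun, neg_neg, mul_assoc, hxx, mul_one, hukk]
  · -- e commutes with a * x
    change e * (u ^ (-(k : ℤ)) * x * x) = u ^ (-(k : ℤ)) * x * x * e
    rw [mul_assoc (u ^ (-(k : ℤ))), hxx, mul_one, heun, neg_neg, hukk]
  · -- uniqueness
    rintro a' ⟨ha', hax, hea⟩
    have haa : a' * a' = 1 := sq_one_of_conj hdd ha'
    set t := a' * x with ht
    have hax' : a' * x = x * a' := hax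
    have htt : t * t = 1 := by
      rw [ht]
      calc a' * x * (a' * x) = a' * (x * a') * x := by group
        _ = a' * (a' * x) * x := by rw [hax']
        _ = (a' * a') * (x * x) := by group
        _ = 1 := by rw [haa, hxx, one_mul]
    have htx : t * x = x * t := by
      rw [ht, mul_assoc, hxx, mul_one, ← mul_assoc, ← hax', mul_assoc, hxx, mul_one]
    have hte : e * t = t * e := hea
    have htu : Commute t u := by
      change t * u = u * t
      rw [hu, ← mul_assoc, ← hte, mul_assoc, htx, mul_assoc]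
    have hea' : e * a' = t * u := by
      calc e * a' = e * (a' * (x * x)) := by rw [hxx, mul_one]
        _ = (e * t) * x := by rw [ht]; group
        _ = (t * e) * x := by rw [hte]
        _ = t * u := by rw [hu]; group
    set l := orderOf (e * a') with hl
    have hlodd : Odd l := hodd e he a' ha'
    have htul : (t * u) ^ l = 1 := by rw [← hea', hl]; exact pow_orderOf_eq_one _
    have htl : t ^ l = t := by
      obtain ⟨i, hi⟩ := hlodd
      rw [hi, pow_succ, pow_mul, sq, htt, one_pow, one_mul]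
    have htul' : t * u ^ l = 1 := by
      rw [htu.mul_pow, htl] at htul; exact htul
    have hul2 : (u ^ 2) ^ l = 1 := by
      have h1 : u ^ l = t := by
        have : t * u ^ l = t * t := by rw [htul', htt]
        exact mul_left_cancel this
      rw [← pow_mul, mul_comm, pow_mul, h1, sq, htt]
    have hkl : k ∣ l := orderOf_dvd_of_pow_eq_one hul2
    obtain ⟨q, hq⟩ := hkl
    have hqodd : Odd q := by
      rw [hq] at hlodd
      exact (Nat.odd_mul.mp hlodd).2
    obtain ⟨i, hi⟩ := hqodd
    have hulk : u ^ (l : ℤ) = u ^ (k : ℤ) := by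
      have : (l : ℤ) = (2 * (k : ℤ)) * i + k := by rw [hq, hi]; push_cast; ring
      rw [this, zpow_add, zpow_mul, hu2k, one_zpow, one_mul]
    have ha'eq : a' = t * x := by rw [ht, mul_assoc, hxx, mul_one]
    have hteq : t = u ^ (-(l : ℤ)) := by
      rw [zpow_neg, zpow_natCast]
      exact eq_inv_of_mul_eq_one_left htul'
    rw [ha'eq, hteq, zpow_neg, hulk, ← zpow_neg]

end Cfsg.Agent.S5562
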