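-- S5588 (helper4): Y555 + spider implies the arm relations f_i = w0(E7).
-- The proof reduces to a relation in any group generated by a Y532 spider (`arm_relation`, in
-- Lib/Helper4/Y5Main.lean), which rests on coset-enumeration certificates for Y432 + spider (= 2 x Fi23)
-- and for Y522 + spider + (w0(E8) = 1), and on helper28's certified order and faithful action of Fi23.
import Cfsg.Statements.S5588
import Cfsg.Agent.Lib.Helper4.Y5Main

set_option autoImplicit false
set_option maxRecDepth 100000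
open Cfsg

namespace Cfsg.Agent.S5588
open Cfsg.Spor Cfsg.Agent.Lib.Helper4.Y5

/-- the relators: Coxeter relations of `Y₅₅₅` and the spider relation -/
abbrev R : Set (FreeGroup Bimonster.Gen) :=
  Cfsg.Spor.coxRelators Cfsg.Spor.Bimonster.edges ∪ {r' | r' ∈ [(Cfsg.Spor.Bimonster.a * Cfsg.Spor.Bimonster.b1 * Cfsg.Spor.Bimonster.c1 * Cfsg.Spor.Bimonster.a * Cfsg.Spor.Bimonster.b2 * Cfsg.Spor.Bimonster.c2 * Cfsg.Spor.Bimonster.a * Cfsg.Spor.Bimonster.b3 * Cfsg.Spor.Bimonster.c3) ^ 10]}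

/-- the generators in the presented group -/
abbrev o (x : Bimonster.Gen) : PresentedGroup R := PresentedGroup.of x

theorem cox (x y : Bimonster.Gen) : (o x * o y) ^ coxLabel Bimonster.edges x y = 1 := by
  have hx : ∀ z : Bimonster.Gen, z ∈ coxNodes Bimonster.edges := by intro z; cases z <;> decide
  have h : (FreeGroup.of x * FreeGroup.of y) ^ coxLabel Bimonster.edges x y ∈ R :=
    Or.inl ⟨x, hx x, y, hx y, rfl⟩
  have h1 := PresentedGroup.one_of_mem h
  rw [map_pow, map_mul] at h1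
  exact h1

theorem sq (x : Bimonster.Gen) : o x * o x = 1 := by
  have h := cox x x
  have e : coxLabel Bimonster.edges x x = 1 := by simp [coxLabel]
  rw [e, pow_one] at h
  exact h

theorem comm (x y : Bimonster.Gen) (h : coxLabel Bimonster.edges x y = 2) : Commute (o x) (o y) := by
  have h1 := cox x y
  rw [h, pow_two] at h1
  have hx := sq x
  have hy := sq y
  show o x * o y = o y * o x
  have e1 : o x * o y = (o y)⁻¹ * (o x)⁻¹ := by
    rw [← mul_inv_rev]
    exact eq_inv_of_mul_eq_one_left h1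
  rw [e1, inv_eq_of_mul_eq_one_right hx, inv_eq_of_mul_eq_one_right hy]

theorem sp123 : (o .a * o .b1 * o .c1 * o .a * o .b2 * o .c2 * o .a * o .b3 * o .c3) ^ 10 = 1 := by
  have h : (Cfsg.Spor.Bimonster.a * Cfsg.Spor.Bimonster.b1 * Cfsg.Spor.Bimonster.c1 * Cfsg.Spor.Bimonster.a * Cfsg.Spor.Bimonster.b2 * Cfsg.Spor.Bimonster.c2 * Cfsg.Spor.Bimonster.a * Cfsg.Spor.Bimonster.b3 * Cfsg.Spor.Bimonster.c3) ^ 10 ∈ R :=
    Or.inr (List.mem_singleton.mpr rfl)
  have h1 := PresentedGroup.one_of_mem h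
  simp only [map_pow, map_mul] at h1
  exact h1

theorem sp231 : (o .a * o .b2 * o .c2 * o .a * o .b3 * o .c3 * o .a * o .b1 * o .c1) ^ 10 = 1 := spider_rot sp123
theorem sp312 : (o .a * o .b3 * o .c3 * o .a * o .b1 * o .c1 * o .a * o .b2 * o .c2) ^ 10 = 1 := spider_rot sp231
theorem sp132 : (o .a * o .b1 * o .c1 * o .a * o .b3 * o .c3 * o .a * o .b2 * o .c2) ^ 10 = 1 :=
  spider_swap (sq _) (sq _) (sq _) (sq _) (sq _) (sq _) (sq _)
    (comm _ _ rfl) (comm _ _ rfl) (comm _ _ rfl) (comm _ _ rfl) (comm _ _ rfl) (comm _ _ rfl) (comm _ _ rfl)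
    (comm _ _ rfl) (comm _ _ rfl) (comm _ _ rfl) (comm _ _ rfl) (comm _ _ rfl) sp123
theorem sp321 : (o .a * o .b3 * o .c3 * o .a * o .b2 * o .c2 * o .a * o .b1 * o .c1) ^ 10 = 1 := spider_rot sp132
theorem sp213 : (o .a * o .b2 * o .c2 * o .a * o .b1 * o .c1 * o .a * o .b3 * o .c3) ^ 10 = 1 := spider_rot sp321

/-- the arm relation for an assignment of the arms -/
theorem arm (τ : G11 → Bimonster.Gen)
    (hτ : ∀ x y, coxLabel edges11 x y = coxLabel Bimonster.edges (τ x) (τ y))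
    (hsp : (o (τ .a) * o (τ .b2) * o (τ .c2) * o (τ .a) * o (τ .b1) * o (τ .c1) * o (τ .a) * o (τ .b3) * o (τ .c3)) ^ 10 = 1) :
    o (τ .f1) = (o (τ .a) * o (τ .b1) * o (τ .b2) * o (τ .b3) * o (τ .c1) * o (τ .c2) * o (τ .d1)) ^ 9 :=
  arm_relation (fun x => o (τ x)) (fun x y => by rw [hτ]; exact cox _ _) hsp

/-- arm `i` long, arm `j` of length three, arm `k` of length two -/
def t123 : G11 → Bimonster.Gen
  | .a => .a | .b1 => .b1 | .c1 => .c1 | .d1 => .d1 | .e1 => .e1 | .f1 => .f1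
  | .b2 => .b2 | .c2 => .c2 | .d2 => .d2 | .b3 => .b3 | .c3 => .c3
def t132 : G11 → Bimonster.Gen
  | .a => .a | .b1 => .b1 | .c1 => .c1 | .d1 => .d1 | .e1 => .e1 | .f1 => .f1
  | .b2 => .b3 | .c2 => .c3 | .d2 => .d3 | .b3 => .b2 | .c3 => .c2
def t213 : G11 → Bimonster.Gen
  | .a => .a | .b1 => .b2 | .c1 => .c2 | .d1 => .d2 | .e1 => .e2 | .f1 => .f2
  | .b2 => .b1 | .c2 => .c1 | .d2 => .d1 | .b3 => .b3 | .c3 => .c3
def t231 : G11 → Bimonster.Gen
  | .a => .a | .b1 => .b2 | .c1 => .c2 | .d1 => .d2 | .e1 => .e2 | .f1 => .f2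
  | .b2 => .b3 | .c2 => .c3 | .d2 => .d3 | .b3 => .b1 | .c3 => .c1
def t312 : G11 → Bimonster.Gen
  | .a => .a | .b1 => .b3 | .c1 => .c3 | .d1 => .d3 | .e1 => .e3 | .f1 => .f3
  | .b2 => .b1 | .c2 => .c1 | .d2 => .d1 | .b3 => .b2 | .c3 => .c2
def t321 : G11 → Bimonster.Gen
  | .a => .a | .b1 => .b3 | .c1 => .c3 | .d1 => .d3 | .e1 => .e3 | .f1 => .f3
  | .b2 => .b2 | .c2 => .c2 | .d2 => .d2 | .b3 => .b1 | .c3 => .c1

theorem h123 : ∀ x y, coxLabel edges11 x y = coxLabel Bimonster.edges (t123 x) (t123 y) := by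
  intro x y; cases x <;> cases y <;> rfl
theorem h132 : ∀ x y, coxLabel edges11 x y = coxLabel Bimonster.edges (t132 x) (t132 y) := by
  intro x y; cases x <;> cases y <;> rfl
theorem h213 : ∀ x y, coxLabel edges11 x y = coxLabel Bimonster.edges (t213 x) (t213 y) := by
  intro x y; cases x <;> cases y <;> rfl
theorem h231 : ∀ x y, coxLabel edges11 x y = coxLabel Bimonster.edges (t231 x) (t231 y) := by
  intro x y; cases x <;> cases y <;> rfl
theorem h312 : ∀ x y, coxLabel edges11 x y = coxLabel Bimonster.edges (t312 x) (t312 y) := by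
  intro x y; cases x <;> cases y <;> rfl
theorem h321 : ∀ x y, coxLabel edges11 x y = coxLabel Bimonster.edges (t321 x) (t321 y) := by
  intro x y; cases x <;> cases y <;> rfl

theorem fin {x w : FreeGroup Bimonster.Gen} (h : PresentedGroup.mk R x = (PresentedGroup.mk R w) ^ 9) :
    PresentedGroup.mk R (x * (w ^ 9)⁻¹) = 1 := by
  rw [map_mul, map_inv, map_pow, h, mul_inv_cancel]

theorem result :
    ∀ r ∈ Cfsg.Spor.Bimonster.extra,
      (PresentedGroup.mk (Cfsg.Spor.coxRelators Cfsg.Spor.Bimonster.edges ∪ {r' | r' ∈ [(Cfsg.Spor.Bimonster.a * Cfsg.Spor.Bimonster.b1 * Cfsg.Spor.Bimonster.c1 * Cfsg.Spor.Bimonster.a * Cfsg.Spor.Bimonster.b2 * Cfsg.Spor.Bimonster.c2 * Cfsg.Spor.Bimonster.a * Cfsg.Spor.Bimonster.b3 * Cfsg.Spor.Bimonster.c3) ^ 10]}) r) = 1 := by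
  intro r hr
  rw [Cfsg.Spor.Bimonster.extra] at hr
  simp only [List.mem_cons, List.not_mem_nil, or_false] at hr
  rcases hr with rfl | rfl | rfl | rfl | rfl | rfl | rfl
  · exact PresentedGroup.one_of_mem (Or.inr (List.mem_singleton.mpr rfl))
  · apply fin
    simp only [map_mul]
    exact arm t123 h123 sp213
  · apply fin
    simp only [map_mul]
    exact arm t132 h132 sp312
  · apply fin
    simp only [map_mul]
    exact arm t213 h213 sp123
  · apply fin
    simp only [map_mul]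
    exact arm t231 h231 sp321
  · apply fin
    simp only [map_mul]
    exact arm t312 h312 sp132
  · apply fin
    simp only [map_mul]
    exact arm t321 h321 sp231

end Cfsg.Agent.S5588
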