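import Cfsg.Statements.S5595
import Mathlib
import Cfsg.Agent.Lib.Helper17.LargeES

set_option autoImplicit false
open Cfsg

namespace Cfsg.Agent.S5595

open Cfsg.Agent.Lib.Helper17 Cfsg.Agent.Lib.Helper11

/-- Setting: `z` is an involution of the finite group `G`; for each element `x`, `Q x` denotes the largest normal 2-subgroup of the centralizer of `x`; `Q z` is extraspecial and contains its own centralizer in `G` (a large extraspecial 2-subgroup in this sense). Call the conjugates of `z` singular, and say that singular `x` is orthogonal to singular `y` when `x ∈ Q y`. Then orthogonality is symmetric: if a conjugate `x` of `z` lies in `Q z`, then `z` lies in `Q x`. -/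
theorem result {G : Type*} [Group G] [Finite G]
    (Q : G → Subgroup G)
    (hQ : ∀ x : G, Q x = (Cfsg.pCore 2 ↥(Subgroup.centralizer ({x} : Set G))).map (Subgroup.centralizer ({x} : Set G)).subtype)
    (z : G) (hz : orderOf z = 2) (hE : Cfsg.IsExtraspecial 2 ↥(Q z))
    (hC : Subgroup.centralizer ((Q z : Subgroup G) : Set G) ≤ Q z)
    (g : G) (hx : g * z * g⁻¹ ∈ Q z) : z ∈ Q (g * z * g⁻¹) := by
  classical
  have : Fact (Nat.Prime 2) := ⟨Nat.prime_two⟩
  have hQ' : ∀ x, Q x = coreCent 2 x := hQ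
  have hz1 : z ≠ 1 := by
    intro h; rw [h, orderOf_one] at hz; norm_num at hz
  have hz2 : z * z = 1 := by
    have := pow_orderOf_eq_one z
    rw [hz, pow_two] at this; exact this
  have hzi : z⁻¹ = z := inv_eq_of_mul_eq_one_left hz2
  have hzQ : z ∈ Q z := by
    rw [hQ']
    apply self_mem_coreCent
    apply IsPGroup.of_card (n := 1)
    rw [Nat.card_zpowers, hz, pow_one]
  have hcomm1 : ∀ q ∈ Q z, q * z = z * q := fun q hq => coreCent_comm (hQ' z ▸ hq)
  obtain ⟨z', hES'⟩ := ES.of_isExtraspecial (Q z) hE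
  have hzz' : z' = z := by
    rcases hES'.cent z hzQ (fun b hb => (hcomm1 b hb).symm) with h | h
    · exact absurd h hz1
    · exact h.symm
  rw [hzz'] at hES'
  have hES : ES (Q z) z := hES'
  obtain ⟨x, hxdef⟩ : ∃ x, x = g * z * g⁻¹ := ⟨_, rfl⟩
  rw [← hxdef] at hx ⊢
  have hQx : Q x = (Q z).map (MulAut.conj g).toMonoidHom := by
    apply le_antisymm
    · intro q hq
      rw [mem_map_conj_iff]
      have h1 := conj_mem_coreCent (p := 2) g⁻¹ (x := x) (q := q) (by rw [← hQ']; exact hq)
      rw [inv_inv] at h1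
      have e : g⁻¹ * x * g = z := by rw [hxdef]; group
      rw [e, ← hQ'] at h1; exact h1
    · rintro _ ⟨q, hq, rfl⟩
      have h1 := conj_mem_coreCent (p := 2) g (x := z) (q := q) (by rw [← hQ']; exact hq)
      rw [← hxdef, ← hQ'] at h1; exact h1
  have hES2 : ES (Q x) x := by rw [hQx, hxdef]; exact hES.conj g
  by_contra hzx
  have hx1 : x ≠ 1 := hES2.z_ne
  have hx2 : x * x = 1 := hES2.z_sq
  have hxi : x⁻¹ = x := hES2.z_inv
  have hxz : x ≠ z := by
    intro h; rw [h] at hzx; exact hzx hzQ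
  have hxzc : x * z = z * x := hcomm1 x hx
  have hnorm1 : ∀ c, c * z = z * c → ∀ q ∈ Q z, c * q * c⁻¹ ∈ Q z := by
    intro c hc q hq; rw [hQ'] at hq ⊢; exact coreCent_conj_mem hc hq
  have hnorm2 : ∀ c, c * x = x * c → ∀ q ∈ Q x, c * q * c⁻¹ ∈ Q x := by
    intro c hc q hq; rw [hQ'] at hq ⊢; exact coreCent_conj_mem hc hq
  have hcomm2 : ∀ q ∈ Q x, q * x = x * q := fun q hq => coreCent_comm (hQ' x ▸ hq)
  have hxQx : x ∈ Q x := hES2.z_mem
  have hcent2 : ∀ c : G, (∀ q ∈ Q x, c * q = q * c) → c ∈ Q x := by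
    intro c hc
    rw [hQx, mem_map_conj_iff]
    apply hC
    rw [Subgroup.mem_centralizer_iff]
    intro q hq
    have h1 := hc (g * q * g⁻¹) (by rw [hQx]; exact ⟨q, hq, rfl⟩)
    have h2 : g * (g⁻¹ * c * g) * g⁻¹ * (g * q * g⁻¹) = g * q * g⁻¹ * (g * (g⁻¹ * c * g) * g⁻¹) := by
      have e : g * (g⁻¹ * c * g) * g⁻¹ = c := by group
      rw [e]; exact h1
    exact ((conj_comm_iff g (g⁻¹ * c * g) q).mp h2).symm
  obtain ⟨q₀, hq₀, hq₀x, hq₀ne⟩ := hES.exists_conj hx hx1 hxz
  -- the intersection of `Q z` and `Q x`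
  have hD : ∀ d, d ∈ Q z → d ∈ Q x → d = 1 ∨ d = x := by
    intro d hd1 hd2
    have hcc : ∀ r ∈ Q z, r * x = x * r → r * d = d * r := by
      intro r hr hrx
      rcases hES.comm r hr d hd1 with h1 | h1
      · have := congrArg (fun y => y * d * r) h1
        simpa [mul_assoc] using this
      · exfalso; apply hzx; rw [← h1]
        exact (Q x).mul_mem (hnorm2 r hrx d hd2) ((Q x).inv_mem hd2)
    rcases hES.dbl hx hd1 hcc with h1 | h1 | h1 | h1
    · left; exact h1
    · exfalso; exact hzx (h1 ▸ hd2)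
    · right; exact h1
    · exfalso; apply hzx
      have : z = x⁻¹ * d := by rw [h1]; group
      rw [this]; exact (Q x).mul_mem ((Q x).inv_mem hxQx) hd2
  have hRS : ∀ r ∈ Q z, r * x = x * r → ∀ s ∈ Q x, s * z = z * s →
      r * s * r⁻¹ * s⁻¹ = 1 ∨ r * s * r⁻¹ * s⁻¹ = x := by
    intro r hr hrx s hs hsz
    apply hD
    · have h1 := hnorm1 s hsz r⁻¹ ((Q z).inv_mem hr)
      have e : r * s * r⁻¹ * s⁻¹ = r * (s * r⁻¹ * s⁻¹) := by group
      rw [e]; exact (Q z).mul_mem hr h1
    · exact (Q x).mul_mem (hnorm2 r hrx s hs) ((Q x).inv_mem hs)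
  by_cases hi : ∃ s ∈ Q x, s * z * s⁻¹ = z * x
  · -- case (i): `N_G(⟨x, z⟩)` induces a 3-cycle
    obtain ⟨s, hs, hsz⟩ := hi
    have hsx : s * x = x * s := hcomm2 s hs
    have hq₀z : q₀ * z = z * q₀ := hcomm1 q₀ hq₀
    have ht1 : (q₀ * s) * z * (q₀ * s)⁻¹ = x := by
      calc (q₀ * s) * z * (q₀ * s)⁻¹ = q₀ * (s * z * s⁻¹) * q₀⁻¹ := by group
        _ = q₀ * (z * x) * q₀⁻¹ := by rw [hsz]
        _ = (q₀ * z * q₀⁻¹) * (q₀ * x * q₀⁻¹) := by group
        _ = z * (x * z) := by rw [hq₀x, hq₀z, mul_inv_cancel_right]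
        _ = x := by rw [hxzc, ← mul_assoc, hz2, one_mul]
    have ht2 : (q₀ * s) * x * (q₀ * s)⁻¹ = x * z := by
      calc (q₀ * s) * x * (q₀ * s)⁻¹ = q₀ * (s * x * s⁻¹) * q₀⁻¹ := by group
        _ = q₀ * x * q₀⁻¹ := by rw [hsx, mul_inv_cancel_right]
        _ = x * z := hq₀x
    have h3 := conj_mem_coreCent (p := 2) (q₀ * s) (x := z) (q := x) (hQ' z ▸ hx)
    rw [ht1, ht2, ← hQ'] at h3
    apply hzx
    have : z = x⁻¹ * (x * z) := by group
    rw [this]; exact (Q x).mul_mem ((Q x).inv_mem hxQx) h3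
  · -- case (ii)
    push Not at hi
    have hiia : ∀ s ∈ Q x, (z * s * z⁻¹ * s⁻¹ = 1 ∨ z * s * z⁻¹ * s⁻¹ = x) → s * z = z * s := by
      intro s hs h
      rcases h with h | h
      · have := congrArg (fun y => y * s * z) h
        simpa [mul_assoc] using this.symm
      · exfalso; apply hi s hs
        have h1 : s * z⁻¹ * s⁻¹ = z⁻¹ * x := by
          have := congrArg (fun y => z⁻¹ * y) h
          simpa [mul_assoc] using this
        have h2 : s * z * s⁻¹ = (s * z⁻¹ * s⁻¹)⁻¹ := by group
        rw [h2, h1, mul_inv_rev, inv_inv, hxi, hxzc]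
    -- it suffices that `z` acts trivially on `Q x` modulo `⟨x⟩`
    have hfin : (∀ s ∈ Q x, z * s * z⁻¹ * s⁻¹ = 1 ∨ z * s * z⁻¹ * s⁻¹ = x) → False := by
      intro h
      apply hzx
      apply hcent2
      intro q hq
      exact (hiia q hq (h q hq)).symm
    have hzxc : z * x = x * z := hxzc.symm
    have hcs_central : ∀ ε, (ε = 1 ∨ ε = x) → ∀ v ∈ Q x, commSign ε v = 1 := by
      intro ε hε v hv
      rcases hε with h | h
      · rw [h]; exact commSign_eq_one (by simp)
      · rw [h]; exact commSign_eq_one (hcomm2 v hv).symm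
    -- Lemma X
    have hX : ∀ r ∈ Q z, r * x = x * r → ∀ b ∈ Q x, b * z = z * b → ∀ v ∈ Q x,
        commSign (r * b * r⁻¹) v = commSign b v := by
      intro r hr hrx b hb hbz v hv
      have hε := hRS r hr hrx b hb hbz
      have hεQ : r * b * r⁻¹ * b⁻¹ ∈ Q x :=
        (Q x).mul_mem (hnorm2 r hrx b hb) ((Q x).inv_mem hb)
      have e : r * b * r⁻¹ = (r * b * r⁻¹ * b⁻¹) * b := by group
      rw [e, hES2.mul _ hεQ b hb v hv, hcs_central _ hε v hv, one_mul]
    have hinvx : ∀ r : G, r * x = x * r → r⁻¹ * x = x * r⁻¹ := by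
      intro r hr
      have := congrArg (fun y => r⁻¹ * y * r⁻¹) hr
      simpa [mul_assoc] using this.symm
    -- Claim 1
    have hC1 : ∀ r ∈ Q z, r * x = x * r → ∀ s ∈ Q x, ∀ c ∈ Q x, c * z = z * c →
        commSign (r * s * r⁻¹ * s⁻¹) c = 1 := by
      intro r hr hrx s hs c hc hcz
      have hs' : r * s * r⁻¹ ∈ Q x := hnorm2 r hrx s hs
      rw [hES2.mul _ hs' s⁻¹ ((Q x).inv_mem hs) c hc, commSign_inv_left]
      have hc' : r⁻¹ * c * r⁻¹⁻¹ ∈ Q x := hnorm2 r⁻¹ (hinvx r hrx) c hc
      have e : c = r * (r⁻¹ * c * r⁻¹⁻¹) * r⁻¹ := by group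
      have h1 : commSign (r * s * r⁻¹) c = commSign s c := by
        conv_lhs => rw [e]
        rw [commSign_conj, commSign_symm,
          hX r⁻¹ ((Q z).inv_mem hr) (hinvx r hrx) c hc hcz s hs, commSign_symm]
      rw [h1]
      exact commSign_mul_self s c
    -- Claim 2
    have hC2 : ∀ w ∈ Q x, (∀ c ∈ Q x, c * z = z * c → w * c = c * w) → w * z = z * w := by
      intro w hw hwc
      apply hiia w hw
      have hw' : z * w * z⁻¹ ∈ Q x := hnorm2 z hzxc w hw
      have hm : z * w * z⁻¹ * w⁻¹ ∈ Q x := (Q x).mul_mem hw' ((Q x).inv_mem hw)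
      apply hES2.central_of_commSign hm
      intro v hv
      have ha' : z * v * z⁻¹ ∈ Q x := hnorm2 z hzxc v hv
      have e' : v = z * (z * v * z⁻¹) * z⁻¹ := by
        calc v = (z * z) * v * (z * z)⁻¹ := by rw [hz2]; group
          _ = z * (z * v * z⁻¹) * z⁻¹ := by group
      obtain ⟨a, hadef⟩ : ∃ a, a = z * v * z⁻¹ := ⟨_, rfl⟩
      rw [← hadef] at ha' e'
      have ha : a ∈ Q x := ha'
      have e : v = z * a * z⁻¹ := e'
      rw [hES2.mul _ hw' w⁻¹ ((Q x).inv_mem hw) v hv, commSign_inv_left]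
      have h1 : commSign (z * w * z⁻¹) v = commSign w a := by
        conv_lhs => rw [e]
        rw [commSign_conj]
      rw [h1, ← hES2.mul_right ha hv hw]
      apply commSign_eq_one
      apply hwc _ ((Q x).mul_mem ha hv)
      apply hiia _ ((Q x).mul_mem ha hv)
      have e2 : z * (a * v) * z⁻¹ * (a * v)⁻¹ = v * a * v⁻¹ * a⁻¹ := by
        calc z * (a * v) * z⁻¹ * (a * v)⁻¹ = (z * a * z⁻¹) * (z * v * z⁻¹) * (a * v)⁻¹ := by group
          _ = v * a * (a * v)⁻¹ := by rw [← e, ← hadef]
          _ = v * a * v⁻¹ * a⁻¹ := by group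
      rw [e2]
      exact hES2.comm v hv _ ha
    -- Claim 3
    have hC3 : ∀ r ∈ Q z, r * x = x * r → ∀ s ∈ Q x,
        (r * s * r⁻¹ * s⁻¹) * z = z * (r * s * r⁻¹ * s⁻¹) := by
      intro r hr hrx s hs
      apply hC2 _ ((Q x).mul_mem (hnorm2 r hrx s hs) ((Q x).inv_mem hs))
      intro c hc hcz
      exact (commSign_eq_one_iff _ _).mp (hC1 r hr hrx s hs c hc hcz)
    by_cases hR : ∀ e ∈ Q z, e * x = x * e → ∀ e' ∈ Q z, e' * x = x * e' → e * e' = e' * e
    · -- case (ii-2): `C_{Q z}(x)` is abelian, i.e. `Q z` has order 8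
      have hV : ∀ r ∈ Q z, r * x = x * r → r = 1 ∨ r = z ∨ r = x ∨ r = x * z := fun r hr hrx =>
        hES.dbl hx hr (fun r' hr' hr'x => hR r' hr' hr'x r hr hrx)
      obtain ⟨y, hydef⟩ : ∃ y, y = g * x * g⁻¹ := ⟨_, rfl⟩
      have hy : y ∈ Q x := by rw [hQx, hydef]; exact ⟨x, hx, rfl⟩
      have hV2 : ∀ r ∈ Q x, r * y = y * r → r = 1 ∨ r = x ∨ r = y ∨ r = y * x := by
        intro r hr hry
        rw [hQx] at hr
        obtain ⟨r', hr', rfl⟩ := hr
        have hconj : (MulAut.conj g).toMonoidHom r' = g * r' * g⁻¹ := rfl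
        rw [hconj] at hry ⊢
        have hc : r' * x = x * r' := by
          apply (conj_comm_iff g r' x).mp
          rw [hydef] at hry
          exact hry
        rcases hV r' hr' hc with h | h | h | h
        · left; rw [h]; group
        · right; left; rw [h]; exact hxdef.symm
        · right; right; left; rw [h]; exact hydef.symm
        · right; right; right
          rw [h]
          have e : g * (x * z) * g⁻¹ = (g * x * g⁻¹) * (g * z * g⁻¹) := by group
          rw [e, ← hydef, ← hxdef]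
      have h1 : ∀ a ∈ Q x, a * (z * a * z⁻¹) = (z * a * z⁻¹) * a := by
        intro a ha
        have ha'' : z * a * z⁻¹ ∈ Q x := hnorm2 z hzxc a ha
        obtain ⟨a', ha'def⟩ : ∃ a', a' = z * a * z⁻¹ := ⟨_, rfl⟩
        rw [← ha'def] at ha'' ⊢
        have hza' : z * a' * z⁻¹ = a := by
          rw [ha'def]
          calc z * (z * a * z⁻¹) * z⁻¹ = (z * z) * a * (z * z)⁻¹ := by group
            _ = a := by rw [hz2]; group
        have hw : a' * a⁻¹ ∈ Q x := (Q x).mul_mem ha'' ((Q x).inv_mem ha)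
        have hzw : z * (a' * a⁻¹) * z⁻¹ = (a' * a⁻¹)⁻¹ := by
          calc z * (a' * a⁻¹) * z⁻¹ = (z * a' * z⁻¹) * (z * a * z⁻¹)⁻¹ := by group
            _ = a * a'⁻¹ := by rw [hza', ← ha'def]
            _ = (a' * a⁻¹)⁻¹ := by group
        have hwz : (a' * a⁻¹) * z = z * (a' * a⁻¹) := by
          apply hiia _ hw
          rw [hzw]
          rcases hES2.sq _ hw with h | h
          · left; rw [← mul_inv_rev, h, inv_one]
          · right; rw [← mul_inv_rev, h, hxi]
        have hww : (a' * a⁻¹) * (a' * a⁻¹) = 1 := by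
          have h2 : z * (a' * a⁻¹) * z⁻¹ = a' * a⁻¹ := by rw [← hwz, mul_inv_cancel_right]
          rw [hzw] at h2
          calc (a' * a⁻¹) * (a' * a⁻¹) = (a' * a⁻¹)⁻¹ * (a' * a⁻¹) := by rw [h2]
            _ = 1 := inv_mul_cancel _
        by_contra hne
        have hne' : a' * a⁻¹ ≠ a⁻¹ * a' := by
          intro h; apply hne
          have := congrArg (fun t => a * t * a) h
          simpa [mul_assoc] using this
        have h3 := hES2.conj_eq ha'' ((Q x).inv_mem ha) hne'
        have haa : a' * a' = a * a := by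
          rw [ha'def]
          have e : z * a * z⁻¹ * (z * a * z⁻¹) = z * (a * a) * z⁻¹ := by group
          rw [e]
          rcases hES2.sq a ha with h | h
          · rw [h]; group
          · rw [h, hzxc, mul_inv_cancel_right]
        have : (a' * a⁻¹) * (a' * a⁻¹) = x := by
          calc (a' * a⁻¹) * (a' * a⁻¹) = (a' * a⁻¹ * a'⁻¹) * (a' * a') * a⁻¹ := by group
            _ = a⁻¹ * x * (a * a) * a⁻¹ := by rw [h3, haa]
            _ = a⁻¹ * (x * a) := by group
            _ = a⁻¹ * (a * x) := by rw [hcomm2 a ha]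
            _ = x := by group
        rw [hww] at this
        exact hx1 this.symm
      have hyz : y * z = z * y := by
        have h2 := h1 y hy
        have hy' : z * y * z⁻¹ ∈ Q x := hnorm2 z hzxc y hy
        have hyne : y ≠ 1 := by rw [hydef]; intro h; exact hx1 (conj_eq_one_iff.mp h)
        have hyx : y ≠ x := by
          rw [hydef]; intro h
          have h3 : g * x * g⁻¹ = g * z * g⁻¹ := h.trans hxdef
          exact hxz (mul_left_cancel (mul_right_cancel h3))
        apply hiia y hy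
        rcases hV2 _ hy' h2.symm with h | h | h | h
        · exfalso; exact hyne (conj_eq_one_iff.mp h)
        · exfalso; apply hyx
          have : y = z⁻¹ * (z * y * z⁻¹) * z := by group
          rw [this, h, hzi, hzxc, mul_assoc, hz2, mul_one]
        · left; rw [h, mul_inv_cancel]
        · right; rw [h, hcomm2 y hy, mul_inv_cancel_right]
      have hiz : ∀ i ∈ Q x, i * y ≠ y * i → i * z = z * i := by
        intro i hi' hiy
        have hi'' : z * i * z⁻¹ ∈ Q x := hnorm2 z hzxc i hi'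
        have h2 := h1 i hi'
        have hv : z * i * z⁻¹ * i⁻¹ ∈ Q x := (Q x).mul_mem hi'' ((Q x).inv_mem hi')
        have hvy : commSign (z * i * z⁻¹ * i⁻¹) y = 1 := by
          rw [hES2.mul _ hi'' i⁻¹ ((Q x).inv_mem hi') y hy, commSign_inv_left]
          have e : y = z * y * z⁻¹ := by rw [← hyz, mul_inv_cancel_right]
          have h3 : commSign (z * i * z⁻¹) y = commSign i y := by
            conv_lhs => rw [e]
            rw [commSign_conj]
          rw [h3]; exact commSign_mul_self i y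
        have hvy' := (commSign_eq_one_iff _ _).mp hvy
        apply hiia i hi'
        have hvi : (z * i * z⁻¹ * i⁻¹) * i = i * (z * i * z⁻¹ * i⁻¹) := by
          calc (z * i * z⁻¹ * i⁻¹) * i = z * i * z⁻¹ := by group
            _ = ((z * i * z⁻¹) * i) * i⁻¹ := by group
            _ = (i * (z * i * z⁻¹)) * i⁻¹ := by rw [h2]
            _ = i * (z * i * z⁻¹ * i⁻¹) := by group
        rcases hV2 _ hv hvy' with h | h | h | h
        · left; exact h
        · right; exact h
        · exfalso; rw [h] at hvi; exact hiy hvi.symm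
        · exfalso; rw [h] at hvi
          apply hiy
          have hxi' := hcomm2 i hi'
          have h4 : y * i * x = i * y * x := by
            calc y * i * x = y * (i * x) := by group
              _ = y * (x * i) := by rw [hxi']
              _ = (y * x) * i := by group
              _ = i * (y * x) := hvi
              _ = i * y * x := by group
          exact (mul_right_cancel h4).symm
      apply hfin
      intro s hs
      left
      have hsz : s * z = z * s := by
        by_cases hsy : s * y = y * s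
        · rcases hV2 s hs hsy with h | h | h | h
          · rw [h]; simp
          · rw [h]; exact hxzc
          · rw [h]; exact hyz
          · rw [h, mul_assoc, hxzc, ← mul_assoc, hyz, mul_assoc]
        · exact hiz s hs hsy
      rw [← hsz]; group
    · -- case (ii-1): `C_{Q z}(x)` is nonabelian
      push Not at hR
      obtain ⟨e, he, hex, e', he', he'x, hne⟩ := hR
      have hee : e * e' = z * (e' * e) := by
        rcases hES.comm e he e' he' with h1 | h1
        · exfalso; apply hne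
          have := congrArg (fun y => y * e' * e) h1
          simpa [mul_assoc] using this
        · have := congrArg (fun y => y * e' * e) h1
          simpa [mul_assoc] using this
      have hEE : ∀ r ∈ Q z, r * x = x * r → ∀ r' ∈ Q z, r' * x = x * r' → ∀ s ∈ Q x, ∀ v ∈ Q x,
          commSign ((r * r') * s * (r * r')⁻¹) v =
            commSign (r' * s * r'⁻¹ * s⁻¹) v * commSign (r * s * r⁻¹ * s⁻¹) v * commSign s v := by
        intro r hr hrx r' hr' hr'x s hs v hv
        have hb : r' * s * r'⁻¹ * s⁻¹ ∈ Q x :=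
          (Q x).mul_mem (hnorm2 r' hr'x s hs) ((Q x).inv_mem hs)
        have ha : r * s * r⁻¹ * s⁻¹ ∈ Q x :=
          (Q x).mul_mem (hnorm2 r hrx s hs) ((Q x).inv_mem hs)
        have e1 : (r * r') * s * (r * r')⁻¹ =
            (r * (r' * s * r'⁻¹ * s⁻¹) * r⁻¹) * ((r * s * r⁻¹ * s⁻¹) * s) := by group
        rw [e1, hES2.mul _ (hnorm2 r hrx _ hb) _ ((Q x).mul_mem ha hs) v hv,
          hX r hr hrx _ hb (hC3 r' hr' hr'x s hs) v hv, hES2.mul _ ha s hs v hv]
        ring
      have hsame : ∀ s ∈ Q x, ∀ v ∈ Q x,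
          commSign ((e * e') * s * (e * e')⁻¹) v = commSign ((e' * e) * s * (e' * e)⁻¹) v := by
        intro s hs v hv
        rw [hEE e he hex e' he' he'x s hs v hv, hEE e' he' he'x e he hex s hs v hv]
        ring
      apply hfin
      intro s' hs'
      have hpx : (e' * e) * x = x * (e' * e) := by
        rw [mul_assoc, hex, ← mul_assoc, he'x, mul_assoc]
      have hs : (e' * e)⁻¹ * s' * (e' * e)⁻¹⁻¹ ∈ Q x := hnorm2 _ (hinvx _ hpx) s' hs'
      have hs'' : z * s' * z⁻¹ ∈ Q x := hnorm2 z hzxc s' hs'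
      have hm : z * s' * z⁻¹ * s'⁻¹ ∈ Q x := (Q x).mul_mem hs'' ((Q x).inv_mem hs')
      have hcen := hES2.central_of_commSign hm ?_
      · exact hcen
      · intro v hv
        have h1 := hsame _ hs v hv
        have e1 : (e' * e) * ((e' * e)⁻¹ * s' * (e' * e)⁻¹⁻¹) * (e' * e)⁻¹ = s' := by group
        have e2 : (e * e') * ((e' * e)⁻¹ * s' * (e' * e)⁻¹⁻¹) * (e * e')⁻¹ = z * s' * z⁻¹ := by
          rw [hee]; group
        rw [e1, e2] at h1
        rw [hES2.mul _ hs'' s'⁻¹ ((Q x).inv_mem hs') v hv, commSign_inv_left, h1]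
        exact commSign_mul_self s' v

end Cfsg.Agent.S5595
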