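import Cfsg.Statements.S5596
import Mathlib
import Cfsg.Agent.Lib.Helper17.LargeES2

set_option autoImplicit false
open Cfsg

namespace Cfsg.Agent.S5596

open Cfsg.Agent.Lib.Helper17 Cfsg.Agent.Lib.Helper11

/-- Every "automorphism" `f` of a singular subgroup `U` is induced by an element of `LU`:
induction on the number of non-fixed points, one transvection at a time. -/
theorem exists_conj_of_auto {G : Type*} [Group G] [Finite G] (U : Subgroup G)
    (hU2 : ∀ u ∈ U, u * u = 1)
    (hES : ∀ u ∈ U, u ≠ 1 → ES (coreCent 2 u) u)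
    (hO : ∀ u ∈ U, ∀ v ∈ U, u ≠ 1 → v ≠ 1 → v ∈ coreCent 2 u) :
    ∀ (k : ℕ) (f : G → G), (∀ u ∈ U, f u ∈ U) → (∀ u ∈ U, ∀ v ∈ U, f (u * v) = f u * f v) →
      (∀ u ∈ U, ∀ v ∈ U, f u = f v → u = v) → ({u | u ∈ U ∧ f u ≠ u} : Set G).ncard = k →
      ∃ g ∈ ⨆ u ∈ ((U : Set G) \ {1}), coreCent 2 u, ∀ u ∈ U, g * u * g⁻¹ = f u := by
  intro k
  induction k using Nat.strong_induction_on with
  | _ k ih =>
    intro f hfU hfmul hfinj hk
    by_cases hall : ∀ u ∈ U, f u = u
    · exact ⟨1, one_mem _, fun u hu => by rw [hall u hu]; group⟩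
    push Not at hall
    obtain ⟨v, hv, hfv⟩ := hall
    have hinvU : ∀ u ∈ U, u⁻¹ = u := fun u hu => inv_eq_of_mul_eq_one_left (hU2 u hu)
    have hcommU : ∀ a ∈ U, ∀ b ∈ U, a * b = b * a := by
      intro a ha b hb
      have h1 := hU2 (a * b) (U.mul_mem ha hb)
      have h2 : a * b = (a * b)⁻¹ := (hinvU _ (U.mul_mem ha hb)).symm
      rw [h2, mul_inv_rev, hinvU a ha, hinvU b hb]
    have hf1 : f 1 = 1 := by
      have h := hfmul 1 U.one_mem 1 U.one_mem
      rw [mul_one] at h
      exact (mul_left_cancel (a := f 1) (b := 1) (c := f 1) (by rw [mul_one]; exact h)).symm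
    obtain ⟨w, hwdef⟩ : ∃ w, w = f v := ⟨_, rfl⟩
    have hw : w ∈ U := hwdef ▸ hfU v hv
    have hwv : w ≠ v := hwdef ▸ hfv
    obtain ⟨d, hddef⟩ : ∃ d, d = v * w := ⟨_, rfl⟩
    have hd : d ∈ U := hddef ▸ U.mul_mem hv hw
    have hd1 : d ≠ 1 := by
      intro h
      apply hwv
      rw [hddef] at h
      have : w = v⁻¹ := (inv_eq_of_mul_eq_one_right h).symm
      rw [this, hinvU v hv]
    have hvd : v * d = w := by
      rw [hddef, ← mul_assoc, hU2 v hv, one_mul]
    have hEd := hES d hd hd1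
    have hUd := singular_le_coreCent U hO hd hd1
    -- the subgroup `W = F ∪ dF`
    let W : Subgroup G :=
      { carrier := {u | u ∈ U ∧ (f u = u ∨ f (u * d) = u * d)}
        one_mem' := ⟨U.one_mem, Or.inl hf1⟩
        mul_mem' := by
          rintro a b ⟨ha, ha'⟩ ⟨hb, hb'⟩
          refine ⟨U.mul_mem ha hb, ?_⟩
          rcases ha' with ha' | ha' <;> rcases hb' with hb' | hb'
          · left; rw [hfmul a ha b hb, ha', hb']
          · right
            rw [mul_assoc, hfmul a ha (b * d) (U.mul_mem hb hd), ha', hb']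
          · right
            have e : a * b * d = (a * d) * b := by
              rw [mul_assoc, hcommU b hb d hd, ← mul_assoc]
            rw [e, hfmul (a * d) (U.mul_mem ha hd) b hb, ha', hb']
          · left
            have e : a * b = (a * d) * (b * d) := by
              rw [mul_assoc a d, ← mul_assoc d b, hcommU d hd b hb, mul_assoc b d, hU2 d hd, mul_one]
            rw [e, hfmul (a * d) (U.mul_mem ha hd) (b * d) (U.mul_mem hb hd), ha', hb']
        inv_mem' := by
          rintro a ⟨ha, ha'⟩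
          rw [hinvU a ha]
          exact ⟨ha, ha'⟩ }
    have hWU : W ≤ U := fun u hu => hu.1
    have hdW : d ∈ W := ⟨hd, Or.inr (by rw [hU2 d hd, hf1])⟩
    have hvW : v ∉ W := by
      rintro ⟨-, h | h⟩
      · exact hfv h
      · rw [hvd] at h
        exact hwv (hfinj w hw v hv (by rw [h, hwdef]))
    have hex : ∃ c ∈ coreCent 2 d, (∀ u ∈ W, c * u = u * c) ∧ c * v ≠ v * c := by
      by_contra hcon
      push Not at hcon
      exact hvW (hEd.dblS W (hWU.trans hUd) hdW v (hUd hv) hcon)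
    obtain ⟨c, hc, hcW, hcv⟩ := hex
    have hcv' : c * v * c⁻¹ = v * d := hEd.conj_eq hc (hUd hv) hcv
    have hcd : c * d * c⁻¹ = d := by rw [coreCent_comm hc, mul_inv_cancel_right]
    have hcw : c * w * c⁻¹ = v := by
      rw [← hvd]
      have e : c * (v * d) * c⁻¹ = (c * v * c⁻¹) * (c * d * c⁻¹) := by group
      rw [e, hcv', hcd, mul_assoc, hU2 d hd, mul_one]
    have hcLU : c ∈ ⨆ u ∈ ((U : Set G) \ {1}), coreCent 2 u :=
      Subgroup.mem_iSup_of_mem d (Subgroup.mem_iSup_of_mem ⟨hd, hd1⟩ hc)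
    have hcU := (singular_LU_action U hES hO hcLU).1
    -- the new map
    have hsub : ({u | u ∈ U ∧ c * f u * c⁻¹ ≠ u} : Set G) ⊂ {u | u ∈ U ∧ f u ≠ u} := by
      rw [Set.ssubset_iff_of_subset]
      · refine ⟨v, ⟨hv, hfv⟩, ?_⟩
        rintro ⟨-, h⟩
        apply h
        rw [← hwdef]; exact hcw
      · rintro u ⟨hu, hne⟩
        refine ⟨hu, ?_⟩
        intro hfu
        apply hne
        rw [hfu]
        have := hcW u ⟨hu, Or.inl hfu⟩
        rw [this, mul_inv_cancel_right]
    have hlt := Set.ncard_lt_ncard hsub (Set.toFinite _)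
    rw [hk] at hlt
    obtain ⟨g', hg', hg'f⟩ := ih _ hlt (fun u => c * f u * c⁻¹)
      (fun u hu => hcU _ (hfU u hu))
      (fun u hu v hv => by
        show c * f (u * v) * c⁻¹ = c * f u * c⁻¹ * (c * f v * c⁻¹)
        rw [hfmul u hu v hv]; group)
      (fun u hu v hv h => by
        apply hfinj u hu v hv
        exact mul_left_cancel (mul_right_cancel h))
      rfl
    refine ⟨c⁻¹ * g', mul_mem (inv_mem hcLU) hg', ?_⟩
    intro u hu
    have e : c⁻¹ * g' * u * (c⁻¹ * g')⁻¹ = c⁻¹ * (g' * u * g'⁻¹) * c := by group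
    rw [e, hg'f u hu]
    group

/-- Setting: `z` is an involution of the finite group `G`; for each element `x`, `Q x` is the largest normal 2-subgroup of the centralizer of `x`; `Q z` is extraspecial and contains its own centralizer in `G`. A subgroup `U` is singular when it is elementary abelian, every non-identity element of `U` is conjugate to `z`, and any two non-identity elements `u`, `v` of `U` are orthogonal (`v ∈ Q u`). Write `QU` for the intersection of the `Q u` and `LU` for the join of the `Q u` over the non-identity `u` in `U`. If `U` is singular of order `2 ^ n` with `n ≥ 2`, then `U ≤ QU ≤ LU`, `LU` normalizes `U`, and `LU` induces on `U` its full automorphism group (the general linear group of dimension `n` over the field with two elements): every automorphism of `U` is conjugation by some element of `LU`. -/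
theorem result {G : Type*} [Group G] [Finite G]
    (Q : G → Subgroup G)
    (hQ : ∀ x : G, Q x = (Cfsg.pCore 2 ↥(Subgroup.centralizer ({x} : Set G))).map (Subgroup.centralizer ({x} : Set G)).subtype)
    (z : G) (hz : orderOf z = 2) (hE : Cfsg.IsExtraspecial 2 ↥(Q z))
    (hC : Subgroup.centralizer ((Q z : Subgroup G) : Set G) ≤ Q z)
    (U : Subgroup G) (hU2 : ∀ u ∈ U, u * u = 1)
    (hS : ∀ u ∈ U, u ≠ 1 → ∃ g : G, g * z * g⁻¹ = u)
    (hO : ∀ u ∈ U, ∀ v ∈ U, u ≠ 1 → v ≠ 1 → v ∈ Q u)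
    (QU LU : Subgroup G) (hQU : QU = ⨅ u ∈ ((U : Set G) \ {1}), Q u) (hLU : LU = ⨆ u ∈ ((U : Set G) \ {1}), Q u)
    (n : ℕ) (hn : 2 ≤ n) (hcard : Nat.card ↥U = 2 ^ n) :
    U ≤ QU ∧ QU ≤ LU ∧ LU ≤ Subgroup.normalizer (U : Set G) ∧
      ∀ φ : ↥U ≃* ↥U, ∃ g ∈ LU, ∀ u : ↥U, g * (u : G) * g⁻¹ = ((φ u : ↥U) : G) := by
  classical
  have : Fact (Nat.Prime 2) := ⟨Nat.prime_two⟩
  have hQ' : Q = coreCent 2 := funext hQ
  subst hQ'
  have hESu : ∀ u ∈ U, u ≠ 1 → ES (coreCent 2 u) u := by
    intro u hu hu1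
    obtain ⟨g, rfl⟩ := hS u hu hu1
    exact es_coreCent hz hE g
  subst hQU hLU
  have hne : ∃ u₀ ∈ U, u₀ ≠ 1 := by
    by_contra hcon
    push Not at hcon
    have hbot : U = ⊥ := (Subgroup.eq_bot_iff_forall U).mpr hcon
    rw [hbot, Subgroup.card_bot] at hcard
    have : 2 ^ n ≥ 2 ^ 2 := Nat.pow_le_pow_right (by norm_num) hn
    omega
  obtain ⟨u₀, hu₀, hu₀1⟩ := hne
  have hLUN : ∀ g ∈ ⨆ u ∈ ((U : Set G) \ {1}), coreCent 2 u, ∀ v ∈ U, g * v * g⁻¹ ∈ U :=
    fun g hg => (singular_LU_action U hESu hO hg).1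
  refine ⟨?_, ?_, ?_, ?_⟩
  · intro u hu
    rw [Subgroup.mem_iInf]
    intro v
    rw [Subgroup.mem_iInf]
    rintro ⟨hv, hv1⟩
    exact singular_le_coreCent U hO hv hv1 hu
  · intro y hy
    have h1 : y ∈ coreCent 2 u₀ := by
      have := (Subgroup.mem_iInf.mp hy) u₀
      exact (Subgroup.mem_iInf.mp this) ⟨hu₀, hu₀1⟩
    exact Subgroup.mem_iSup_of_mem u₀ (Subgroup.mem_iSup_of_mem ⟨hu₀, hu₀1⟩ h1)
  · intro g hg
    rw [Subgroup.mem_normalizer_iff]
    intro h
    constructor
    · exact hLUN g hg h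
    · intro hh
      have := hLUN g⁻¹ (inv_mem hg) _ hh
      have e : g⁻¹ * (g * h * g⁻¹) * g⁻¹⁻¹ = h := by group
      rwa [e] at this
  · intro φ
    obtain ⟨g, hg, hgf⟩ := exists_conj_of_auto U hU2 hESu hO _
      (fun g => if h : g ∈ U then ((φ ⟨g, h⟩ : ↥U) : G) else g)
      (fun u hu => by simp only [hu, dif_pos]; exact (φ ⟨u, hu⟩).2)
      (fun u hu v hv => by
        simp only [hu, hv, U.mul_mem hu hv, dif_pos]
        have : (⟨u * v, U.mul_mem hu hv⟩ : ↥U) = ⟨u, hu⟩ * ⟨v, hv⟩ := rfl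
        rw [this, map_mul]; rfl)
      (fun u hu v hv h => by
        simp only [hu, hv, dif_pos] at h
        have := φ.injective (Subtype.ext h)
        exact congrArg Subtype.val this)
      rfl
    refine ⟨g, hg, ?_⟩
    intro u
    have := hgf u u.2
    simp only [u.2, dif_pos] at this
    exact this

end Cfsg.Agent.S5596
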