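import Cfsg.Statements.S5597
import Mathlib
import Cfsg.Agent.Lib.Helper17.LargeES2

set_option autoImplicit false
open Cfsg

namespace Cfsg.Agent.S5597

open Cfsg.Agent.Lib.Helper17 Cfsg.Agent.Lib.Helper11

/-- Setting: `z` is an involution of the finite group `G`; for each element `x`, `Q x` is the largest normal 2-subgroup of the centralizer of `x`; `Q z` is extraspecial and contains its own centralizer in `G`. A subgroup `U` is singular when it is elementary abelian, every non-identity element of `U` is conjugate to `z`, and any two non-identity elements `u`, `v` of `U` are orthogonal (`v ∈ Q u`). Write `QU` for the intersection of the `Q u` and `LU` for the join of the `Q u` over the non-identity `u` in `U`. If `U` is a non-trivial singular subgroup, then `LU` acts trivially on `QU / U` (every commutator of an element of `LU` with an element of `QU` lies in `U`), and for every `x` in `QU` outside `U` the centralizer of `U` in `LU` permutes the coset `x U` transitively: each `x u` with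 `u ∈ U` is a conjugate of `x` by an element of `LU` centralizing `U`. -/
theorem result {G : Type*} [Group G] [Finite G]
    (Q : G → Subgroup G)
    (hQ : ∀ x : G, Q x = (Cfsg.pCore 2 ↥(Subgroup.centralizer ({x} : Set G))).map (Subgroup.centralizer ({x} : Set G)).subtype)
    (z : G) (hz : orderOf z = 2) (hE : Cfsg.IsExtraspecial 2 ↥(Q z))
    (hC : Subgroup.centralizer ((Q z : Subgroup G) : Set G) ≤ Q z)
    (U : Subgroup G) (hU2 : ∀ u ∈ U, u * u = 1)
    (hS : ∀ u ∈ U, u ≠ 1 → ∃ g : G, g * z * g⁻¹ = u)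
    (hO : ∀ u ∈ U, ∀ v ∈ U, u ≠ 1 → v ≠ 1 → v ∈ Q u)
    (QU LU : Subgroup G) (hQU : QU = ⨅ u ∈ ((U : Set G) \ {1}), Q u) (hLU : LU = ⨆ u ∈ ((U : Set G) \ {1}), Q u)
    (hU : U ≠ ⊥) :
    (∀ g ∈ LU, ∀ x ∈ QU, g * x * g⁻¹ * x⁻¹ ∈ U) ∧
      ∀ x ∈ QU, x ∉ U → ∀ u ∈ U, ∃ g ∈ LU ⊓ Subgroup.centralizer (U : Set G), g * x * g⁻¹ = x * u := by
  classical
  have : Fact (Nat.Prime 2) := ⟨Nat.prime_two⟩
  have hQ' : Q = coreCent 2 := funext hQ
  subst hQ'
  have hESu : ∀ u ∈ U, u ≠ 1 → ES (coreCent 2 u) u := by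
    intro u hu hu1
    obtain ⟨g, rfl⟩ := hS u hu hu1
    exact es_coreCent hz hE g
  subst hQU hLU
  refine ⟨?_, ?_⟩
  · intro g hg x hx
    exact (singular_LU_action U hESu hO hg).2 x hx
  · intro x hx hxU u hu
    by_cases hu1 : u = 1
    · refine ⟨1, one_mem _, ?_⟩
      rw [hu1]; simp
    have hE' := hESu u hu hu1
    have hUle := singular_le_coreCent U hO hu hu1
    have hxu : x ∈ coreCent 2 u := by
      have := (Subgroup.mem_iInf.mp hx) u
      exact (Subgroup.mem_iInf.mp this) ⟨hu, hu1⟩
    have hex : ∃ c ∈ coreCent 2 u, (∀ w ∈ U, c * w = w * c) ∧ c * x ≠ x * c := by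
      by_contra hcon
      push Not at hcon
      exact hxU (hE'.dblS U hUle hu x hxu hcon)
    obtain ⟨c, hc, hcU, hcx⟩ := hex
    refine ⟨c, ⟨?_, ?_⟩, hE'.conj_eq hc hxu hcx⟩
    · exact Subgroup.mem_iSup_of_mem u (Subgroup.mem_iSup_of_mem ⟨hu, hu1⟩ hc)
    · show c ∈ Subgroup.centralizer (U : Set G)
      rw [Subgroup.mem_centralizer_iff]
      intro w hw
      exact (hcU w hw).symm

end Cfsg.Agent.S5597
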