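import Cfsg.Statements.S5598
import Mathlib
import Cfsg.Agent.Lib.Helper17.LargeES2

set_option autoImplicit false
open Cfsg

namespace Cfsg.Agent.S5598

open Cfsg.Agent.Lib.Helper17 Cfsg.Agent.Lib.Helper11

/-- Setting: `z` is an involution of the finite group `G`; for each element `x`, `Q x` is the largest normal 2-subgroup of the centralizer of `x`; `Q z` is extraspecial and contains its own centralizer in `G`. A subgroup `U` is singular when it is elementary abelian, every non-identity element of `U` is conjugate to `z`, and any two non-identity elements `u`, `v` of `U` are orthogonal (`v ∈ Q u`). Write `QU` for the intersection of the `Q u` and `LU` for the join of the `Q u` over the non-identity `u` in `U`. If the singular subgroup `U` is generated by a set `T` of non-identity elements, then `QU` is already the intersection of the `Q t` over `t ∈ T`. -/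
theorem result {G : Type*} [Group G] [Finite G]
    (Q : G → Subgroup G)
    (hQ : ∀ x : G, Q x = (Cfsg.pCore 2 ↥(Subgroup.centralizer ({x} : Set G))).map (Subgroup.centralizer ({x} : Set G)).subtype)
    (z : G) (hz : orderOf z = 2) (hE : Cfsg.IsExtraspecial 2 ↥(Q z))
    (hC : Subgroup.centralizer ((Q z : Subgroup G) : Set G) ≤ Q z)
    (U : Subgroup G) (hU2 : ∀ u ∈ U, u * u = 1)
    (hS : ∀ u ∈ U, u ≠ 1 → ∃ g : G, g * z * g⁻¹ = u)
    (hO : ∀ u ∈ U, ∀ v ∈ U, u ≠ 1 → v ≠ 1 → v ∈ Q u)
    (QU LU : Subgroup G) (hQU : QU = ⨅ u ∈ ((U : Set G) \ {1}), Q u) (hLU : LU = ⨆ u ∈ ((U : Set G) \ {1}), Q u)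
    (T : Set G) (hT : Subgroup.closure T = U) (hT1 : (1 : G) ∉ T) :
    QU = ⨅ t ∈ T, Q t := by
  classical
  have : Fact (Nat.Prime 2) := ⟨Nat.prime_two⟩
  have hQ' : ∀ x, Q x = coreCent 2 x := hQ
  have hE' : Cfsg.IsExtraspecial 2 ↥(coreCent 2 z) := by rw [← hQ']; exact hE
  have hESu : ∀ u ∈ U, u ≠ 1 → ES (coreCent 2 u) u := by
    intro u hu hu1
    obtain ⟨g, rfl⟩ := hS u hu hu1
    exact es_coreCent hz hE' g
  have hTU : T ⊆ U := by rw [← hT]; exact Subgroup.subset_closure
  rw [hQU]
  apply le_antisymm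
  · apply le_iInf₂
    intro t ht
    have htU : t ∈ (U : Set G) \ {1} := ⟨hTU ht, fun h => hT1 (h ▸ ht)⟩
    exact iInf₂_le t htU
  · intro y hy
    have hyT : ∀ t ∈ T, y ∈ Q t := by
      intro t ht
      have := (Subgroup.mem_iInf.mp hy) t
      exact (Subgroup.mem_iInf.mp this) ht
    have key : ∀ u ∈ Subgroup.closure T, u ∈ U ∧ (u ≠ 1 → y ∈ Q u) := by
      intro u hu
      induction hu using Subgroup.closure_induction with
      | mem t ht => exact ⟨hTU ht, fun _ => hyT t ht⟩
      | one => exact ⟨U.one_mem, fun h => absurd rfl h⟩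
      | mul u v _ _ ihu ihv =>
        obtain ⟨huU, hu⟩ := ihu
        obtain ⟨hvU, hv⟩ := ihv
        refine ⟨U.mul_mem huU hvU, ?_⟩
        intro huv1
        by_cases hu1 : u = 1
        · rw [hu1, one_mul] at huv1 ⊢; exact hv huv1
        by_cases hv1 : v = 1
        · rw [hv1, mul_one]; exact hu hu1
        have hvu : v ≠ u := by
          intro h; apply huv1; rw [h]; exact hU2 u huU
        rw [hQ']
        apply mem_coreCent_mul (hESu u huU hu1)
        · rw [← hQ']; exact hO u huU v hvU hu1 hv1
        · exact hv1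
        · exact hvu
        · rw [← hQ']; exact hO v hvU u huU hv1 hu1
        · rw [← hQ']; exact hu hu1
        · rw [← hQ']; exact hv hv1
      | inv u _ ih =>
        obtain ⟨huU, hu⟩ := ih
        have : u⁻¹ = u := inv_eq_of_mul_eq_one_left (hU2 u huU)
        rw [this]
        exact ⟨huU, hu⟩
    rw [Subgroup.mem_iInf]
    intro u
    rw [Subgroup.mem_iInf]
    intro hu
    exact (key u (by rw [hT]; exact hu.1)).2 (fun h => hu.2 h)

end Cfsg.Agent.S5598
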