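import Cfsg.Statements.S5600
import Cfsg.Agent.Lib.Helper3.Golay.M24Trans
import Cfsg.Agent.Lib.Helper28.StabLib

set_option autoImplicit false
open scoped Pointwise
open Cfsg

namespace Cfsg.Agent.S5600
open Cfsg.Agent.Lib.Helper3.Golay Cfsg.Agent.Lib.Helper28.StabLib

theorem β_mem_O0 : ∀ j < 6, β j ∈ bitSet O0 := by decide +kernel

theorem β6_not_mem : β 6 ∉ bitSet O0 := by decide +kernel

/-- the base tuple for six points not in an octad. -/
def bB (j : ℕ) : GolayPt := if j = 5 then β 6 else β j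

theorem fixB_le {k l : ℕ} (h : k ≤ l) : fixB l ≤ fixB k := by
  intro g hg
  rw [mem_fixB] at hg ⊢
  exact fun j hj => hg j (by omega)

/-- six distinct points can be reached from one of the two base tuples. -/
theorem claimT (x : ℕ → GolayPt) (hx : ∀ i < 6, ∀ j < 6, x i = x j → i = j) :
    ∃ g ∈ M24, (∀ j < 5, g (β j) = x j) ∧
      ((x 5 ∈ g • bitSet O0 ∧ g (β 5) = x 5) ∨ (x 5 ∉ g • bitSet O0 ∧ g (β 6) = x 5)) := by
  obtain ⟨g0, hg0, h0⟩ := exists_map_base x 5 le_rfl (fun i hi j hj => hx i (by omega) j (by omega))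
  set y := g0⁻¹ (x 5) with hy
  have hgy : g0 y = x 5 := by rw [hy]; simp
  have hyβ : ∀ j < 5, y ≠ β j := by
    intro j hj h
    have : x 5 = x j := by rw [← h0 j hj, ← h, hgy]
    have := hx 5 (by norm_num) j (by omega) this
    omega
  by_cases hyO : y ∈ bitSet O0
  · have hD : (Dmask 5).testBit (idx y) = true :=
      Dmask_aux 5 (by norm_num) y hyβ (fun _ => by simp [mem_bitSet.mp hyO])
    obtain ⟨u, hu, huf, hux, -⟩ := exists_trans (show 5 < 7 by norm_num) (idx_lt y) hD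
    have huO : u • bitSet O0 = bitSet O0 := smul_O0 (K3_le hu) le_rfl huf
    refine ⟨g0 * u, M24.mul_mem hg0 (K3_le hu), ?_, Or.inl ⟨?_, ?_⟩⟩
    · intro j hj
      rw [Equiv.Perm.mul_apply, mem_fixB.mp huf j hj, h0 j hj]
    · rw [mul_smul, huO, ← hgy]
      exact Finset.smul_mem_smul_finset hyO
    · rw [Equiv.Perm.mul_apply, hux, pt_idx, hgy]
  · have hO : O0.testBit (idx y) = false := by
      rw [mem_bitSet] at hyO
      simpa using hyO
    have hD : (Dmask 6).testBit (idx y) = true := by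
      apply Dmask_aux 6 (by norm_num) y
      · intro j hj
        rcases Nat.lt_succ_iff_lt_or_eq.mp hj with h | rfl
        · exact hyβ j h
        · intro h
          exact hyO (h ▸ β_mem_O0 5 (by norm_num))
      · intro _
        rw [hO]
        simp
    obtain ⟨u, hu, huf, hux, -⟩ := exists_trans (show 6 < 7 by norm_num) (idx_lt y) hD
    have huO : u • bitSet O0 = bitSet O0 := smul_O0 (K3_le hu) (by norm_num) huf
    refine ⟨g0 * u, M24.mul_mem hg0 (K3_le hu), ?_, Or.inr ⟨?_, ?_⟩⟩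
    · intro j hj
      rw [Equiv.Perm.mul_apply, mem_fixB.mp huf j (by omega), h0 j hj]
    · rw [mul_smul, huO, ← hgy]
      intro hmem
      exact hyO ((Finset.smul_mem_smul_finset_iff g0).mp hmem)
    · rw [Equiv.Perm.mul_apply, hux, pt_idx, hgy]

/-- the property of lying in an octad, for an enumerated 6-set. -/
theorem mem_smul_O0_iff (x : ℕ → GolayPt) (hx : ∀ i < 6, ∀ j < 6, x i = x j → i = j)
    (g : Equiv.Perm GolayPt) (hg : g ∈ M24) (h5 : ∀ j < 5, g (β j) = x j) :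
    x 5 ∈ g • bitSet O0 ↔ ∃ o ∈ octads, ∀ j < 6, x j ∈ o := by
  have hmem : ∀ j < 5, x j ∈ g • bitSet O0 := by
    intro j hj
    rw [← h5 j hj]
    exact Finset.smul_mem_smul_finset (β_mem_O0 j (by omega))
  have hoct : g • bitSet O0 ∈ octads := smul_mem_octads hg O0_mem
  constructor
  · intro h
    refine ⟨g • bitSet O0, hoct, ?_⟩
    intro j hj
    rcases Nat.lt_succ_iff_lt_or_eq.mp hj with h' | rfl
    · exact hmem j h'
    · exact h
  · rintro ⟨o, ho, hxo⟩
    have : o = g • bitSet O0 := by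
      by_contra hne
      have hle := octad_inter_le ho hoct hne
      have hsub : (Finset.range 5).image x ⊆ o ∩ (g • bitSet O0) := by
        intro p hp
        rw [Finset.mem_image] at hp
        obtain ⟨j, hj, rfl⟩ := hp
        rw [Finset.mem_range] at hj
        exact Finset.mem_inter.mpr ⟨hxo j (by omega), hmem j hj⟩
      have hc : ((Finset.range 5).image x).card = 5 := by
        rw [Finset.card_image_of_injOn, Finset.card_range]
        intro i hi j hj h
        simp only [Finset.coe_range, Set.mem_Iio] at hi hj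
        exact hx i (by omega) j (by omega) h
      have := Finset.card_le_card hsub
      omega
    rw [← this]
    exact hxo 5 (by norm_num)


theorem exists_map6 (x x' : ℕ → GolayPt) (hx : ∀ i < 6, ∀ j < 6, x i = x j → i = j)
    (hx' : ∀ i < 6, ∀ j < 6, x' i = x' j → i = j)
    (hP : (∃ o ∈ octads, ∀ j < 6, x j ∈ o) ↔ (∃ o ∈ octads, ∀ j < 6, x' j ∈ o)) :
    ∃ h ∈ M24, ∀ j < 6, h (x j) = x' j := by
  obtain ⟨g, hg, h5, hc⟩ := claimT x hx
  obtain ⟨g', hg', h5', hc'⟩ := claimT x' hx'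
  have hi := mem_smul_O0_iff x hx g hg h5
  have hi' := mem_smul_O0_iff x' hx' g' hg' h5'
  refine ⟨g' * g⁻¹, M24.mul_mem hg' (M24.inv_mem hg), ?_⟩
  have hlow : ∀ j < 5, (g' * g⁻¹) (x j) = x' j := by
    intro j hj
    rw [Equiv.Perm.mul_apply, ← h5 j hj, ← h5' j hj]
    simp
  intro j hj
  rcases Nat.lt_succ_iff_lt_or_eq.mp hj with h | rfl
  · exact hlow j h
  · rcases hc with ⟨hA, hA2⟩ | ⟨hB, hB2⟩ <;> rcases hc' with ⟨hA', hA2'⟩ | ⟨hB', hB2'⟩
    · rw [Equiv.Perm.mul_apply, ← hA2, ← hA2']; simp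
    · exact absurd (hi'.mpr (hP.mp (hi.mp hA))) hB'
    · exact absurd (hi.mpr (hP.mpr (hi'.mp hA'))) hB
    · rw [Equiv.Perm.mul_apply, ← hB2, ← hB2']; simp

section
variable (E : Finset GolayPt) (hE : E.card = 6)

/-- an enumeration of the 6-set. -/
noncomputable def enum (e : ↥E ≃ Fin 6) (j : ℕ) : GolayPt :=
  if h : j < 6 then (e.symm ⟨j, h⟩ : GolayPt) else none

theorem enum_inj (e : ↥E ≃ Fin 6) : ∀ i < 6, ∀ j < 6, enum E e i = enum E e j → i = j := by
  intro i hi j hj h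
  simp only [enum, hi, hj, dif_pos] at h
  simpa using e.symm.injective (Subtype.ext h)

theorem enum_mem (e : ↥E ≃ Fin 6) (j : ℕ) (hj : j < 6) : enum E e j ∈ E := by
  simp only [enum, hj, dif_pos]
  exact (e.symm ⟨j, hj⟩).2

theorem enum_surj (e : ↥E ≃ Fin 6) (p : GolayPt) (hp : p ∈ E) : ∃ j < 6, enum E e j = p := by
  refine ⟨(e ⟨p, hp⟩).1, (e ⟨p, hp⟩).2, ?_⟩
  simp only [enum, (e ⟨p, hp⟩).2, dif_pos, Fin.eta, Equiv.symm_apply_apply]

theorem enum_sub_iff (e : ↥E ≃ Fin 6) (o : Finset GolayPt) : (∀ j < 6, enum E e j ∈ o) ↔ E ⊆ o := by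
  constructor
  · intro h p hp
    obtain ⟨j, hj, rfl⟩ := enum_surj E e p hp
    exact h j hj
  · intro h j hj
    exact h (enum_mem E e j hj)

include hE in
theorem part1 (σ : Equiv.Perm ↥E) : ∃ g ∈ M24, ∀ p : ↥E, g p = σ p := by
  let e : ↥E ≃ Fin 6 := E.equivFinOfCardEq hE
  let e' : ↥E ≃ Fin 6 := σ.symm.trans e
  have hP : (∃ o ∈ octads, ∀ j < 6, enum E e j ∈ o) ↔ (∃ o ∈ octads, ∀ j < 6, enum E e' j ∈ o) := by
    constructor
    · rintro ⟨o, ho, h⟩
      exact ⟨o, ho, (enum_sub_iff E e' o).mpr ((enum_sub_iff E e o).mp h)⟩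
    · rintro ⟨o, ho, h⟩
      exact ⟨o, ho, (enum_sub_iff E e o).mpr ((enum_sub_iff E e' o).mp h)⟩
  obtain ⟨g, hg, hmap⟩ := exists_map6 (enum E e) (enum E e') (enum_inj E e) (enum_inj E e') hP
  refine ⟨g, hg, ?_⟩
  intro p
  have hj := (e p).2
  have := hmap (e p).1 hj
  simp only [enum, hj, dif_pos, Fin.eta, Equiv.symm_apply_apply] at this
  rw [this]
  simp [e']

end


/-- conjugation equivalence between subsets of `M24` cut out by properties. -/
def conjEquiv (g : Equiv.Perm GolayPt) (hg : g ∈ M24) (Q Q' : Equiv.Perm GolayPt → Prop)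
    (hQ : ∀ h, Q h ↔ Q' (g⁻¹ * h * g)) :
    {h : Equiv.Perm GolayPt // h ∈ M24 ∧ Q h} ≃ {k : Equiv.Perm GolayPt // k ∈ M24 ∧ Q' k} where
  toFun h := ⟨g⁻¹ * h.1 * g, M24.mul_mem (M24.mul_mem (M24.inv_mem hg) h.2.1) hg, (hQ h.1).mp h.2.2⟩
  invFun k := ⟨g * k.1 * g⁻¹, M24.mul_mem (M24.mul_mem hg k.2.1) (M24.inv_mem hg), (hQ _).mpr (by
    have : g⁻¹ * (g * k.1 * g⁻¹) * g = k.1 := by group
    rw [this]; exact k.2.2)⟩
  left_inv h := by apply Subtype.ext; show g * (g⁻¹ * h.1 * g) * g⁻¹ = h.1; group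
  right_inv k := by apply Subtype.ext; show g⁻¹ * (g * k.1 * g⁻¹) * g = k.1; group

theorem card_fix6 : Nat.card ↥(M24 ⊓ fixB 6) = 16 := by
  rw [card_M24_inf_fixB (by norm_num)]
  decide

theorem card_fix5 : Nat.card ↥(M24 ⊓ fixB 5) = 48 := by
  rw [card_M24_inf_fixB (by norm_num)]
  decide

section
variable (E : Finset GolayPt) (hE : E.card = 6)
include hE

theorem part2 (hP : ∃ o ∈ octads, E ⊆ o) :
    Nat.card {g : Equiv.Perm GolayPt // g ∈ M24 ∧ ∀ p ∈ E, g p = p} = 16 := by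
  let e : ↥E ≃ Fin 6 := E.equivFinOfCardEq hE
  obtain ⟨g, hg, h5, hc⟩ := claimT (enum E e) (enum_inj E e)
  have hi := mem_smul_O0_iff (enum E e) (enum_inj E e) g hg h5
  have hP' : ∃ o ∈ octads, ∀ j < 6, enum E e j ∈ o := by
    obtain ⟨o, ho, h⟩ := hP
    exact ⟨o, ho, (enum_sub_iff E e o).mpr h⟩
  have h6 : ∀ j < 6, g (β j) = enum E e j := by
    intro j hj
    rcases Nat.lt_succ_iff_lt_or_eq.mp hj with h | rfl
    · exact h5 j h
    · rcases hc with ⟨_, h⟩ | ⟨hB, _⟩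
      · exact h
      · exact absurd (hi.mpr hP') hB
  have hQ : ∀ h : Equiv.Perm GolayPt, (∀ p ∈ E, h p = p) ↔ (g⁻¹ * h * g) ∈ fixB 6 := by
    intro h
    rw [mem_fixB]
    constructor
    · intro hfix j hj
      rw [Equiv.Perm.mul_apply, Equiv.Perm.mul_apply, h6 j hj, hfix _ (enum_mem E e j hj), ← h6 j hj]
      simp
    · intro hfix p hp
      obtain ⟨j, hj, rfl⟩ := enum_surj E e p hp
      have := hfix j hj
      rw [Equiv.Perm.mul_apply, Equiv.Perm.mul_apply, h6 j hj] at this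
      have h2 : g (g⁻¹ (h (enum E e j))) = g (β j) := by rw [this]
      rw [h6 j hj] at h2
      simpa using h2
  rw [Nat.card_congr (conjEquiv g hg _ _ hQ), ← card_fix6]
  exact Nat.card_congr (Equiv.subtypeEquivRight (fun k => Subgroup.mem_inf.symm))

end


theorem orbit_β6 : MulAction.orbit ↥(M24 ⊓ fixB 5) (β 6) = ((bitSet (Dmask 6) : Finset GolayPt) : Set GolayPt) := by
  ext y
  rw [mem_orbit_subgroup_iff, Finset.mem_coe]
  constructor
  · rintro ⟨a, ha, rfl⟩
    have haO : a • bitSet O0 = bitSet O0 := smul_O0 ha.1 le_rfl ha.2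
    have hnot : a (β 6) ∉ bitSet O0 := by
      rw [mem_smul_iff_of_smul_eq haO]
      exact β6_not_mem
    rw [Equiv.Perm.smul_def, mem_bitSet]
    apply Dmask_aux 6 (by norm_num)
    · intro j hj
      rcases Nat.lt_succ_iff_lt_or_eq.mp hj with h | rfl
      · intro h'
        have h1 := mem_fixB.mp ha.2 j h
        rw [← h1] at h'
        have := β_injective (show 6 < 7 by norm_num) (by omega) (a.injective h')
        omega
      · intro h'
        exact hnot (h' ▸ β_mem_O0 5 (by norm_num))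
    · intro _
      have : O0.testBit (idx (a (β 6))) = false := by
        rw [mem_bitSet] at hnot
        simpa using hnot
      rw [this]
      simp
  · intro hy
    obtain ⟨u, hu, huy⟩ := hL 6 (by norm_num) y hy
    exact ⟨u, ⟨K3_le hu.1, fixB_le (by norm_num) hu.2⟩, huy⟩

theorem card_stab_β6 :
    Nat.card ↥((M24 ⊓ fixB 5) ⊓ MulAction.stabilizer (Equiv.Perm GolayPt) (β 6)) = 3 := by
  have h := card_orbit_mul_card_inf (G := Equiv.Perm GolayPt) (M24 ⊓ fixB 5) (β 6)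
  rw [orbit_β6, card_fix5, Nat.card_coe_set_eq, Set.ncard_coe_finset, card_Dmask 6 (by norm_num)] at h
  have : ([24, 23, 22, 21, 20, 3, 16] : List ℕ).getD 6 0 = 16 := by decide
  rw [this] at h
  omega

section
variable (E : Finset GolayPt) (hE : E.card = 6)
include hE

theorem part3a (hP : ¬ ∃ o ∈ octads, E ⊆ o) :
    Nat.card {g : Equiv.Perm GolayPt // g ∈ M24 ∧ ∀ p ∈ E, g p = p} = 3 := by
  let e : ↥E ≃ Fin 6 := E.equivFinOfCardEq hE
  obtain ⟨g, hg, h5, hc⟩ := claimT (enum E e) (enum_inj E e)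
  have hi := mem_smul_O0_iff (enum E e) (enum_inj E e) g hg h5
  have hP' : ¬ ∃ o ∈ octads, ∀ j < 6, enum E e j ∈ o := by
    rintro ⟨o, ho, h⟩
    exact hP ⟨o, ho, (enum_sub_iff E e o).mp h⟩
  have h6 : g (β 6) = enum E e 5 := by
    rcases hc with ⟨hA, _⟩ | ⟨_, h⟩
    · exact absurd (hi.mp hA) hP'
    · exact h
  have hQ : ∀ h : Equiv.Perm GolayPt, (∀ p ∈ E, h p = p) ↔
      ((g⁻¹ * h * g) ∈ fixB 5 ∧ (g⁻¹ * h * g) ∈ MulAction.stabilizer (Equiv.Perm GolayPt) (β 6)) := by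
    intro h
    rw [mem_fixB, MulAction.mem_stabilizer_iff, Equiv.Perm.smul_def]
    constructor
    · intro hfix
      refine ⟨?_, ?_⟩
      · intro j hj
        rw [Equiv.Perm.mul_apply, Equiv.Perm.mul_apply, h5 j hj, hfix _ (enum_mem E e j (by omega)), ← h5 j hj]
        simp
      · rw [Equiv.Perm.mul_apply, Equiv.Perm.mul_apply, h6, hfix _ (enum_mem E e 5 (by norm_num)), ← h6]
        simp
    · rintro ⟨hfix, hfix6⟩ p hp
      obtain ⟨j, hj, rfl⟩ := enum_surj E e p hp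
      rcases Nat.lt_succ_iff_lt_or_eq.mp hj with h' | rfl
      · have := hfix j h'
        rw [Equiv.Perm.mul_apply, Equiv.Perm.mul_apply, h5 j h'] at this
        have h2 : g (g⁻¹ (h (enum E e j))) = g (β j) := by rw [this]
        rw [h5 j h'] at h2
        simpa using h2
      · rw [Equiv.Perm.mul_apply, Equiv.Perm.mul_apply, h6] at hfix6
        have h2 : g (g⁻¹ (h (enum E e 5))) = g (β 6) := by rw [hfix6]
        rw [h6] at h2
        simpa using h2
  have e1 := Nat.card_congr (conjEquiv g hg (fun h => ∀ p ∈ E, h p = p)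
    (fun k => k ∈ fixB 5 ∧ k ∈ MulAction.stabilizer (Equiv.Perm GolayPt) (β 6)) hQ)
  have e2 : Nat.card {k : Equiv.Perm GolayPt // k ∈ M24 ∧ (k ∈ fixB 5 ∧
      k ∈ MulAction.stabilizer (Equiv.Perm GolayPt) (β 6))} =
      Nat.card ↥((M24 ⊓ fixB 5) ⊓ MulAction.stabilizer (Equiv.Perm GolayPt) (β 6)) := by
    apply Nat.card_congr
    apply Equiv.subtypeEquivRight
    intro k
    rw [Subgroup.mem_inf, Subgroup.mem_inf]
    exact ⟨fun ⟨a, b, c⟩ => ⟨⟨a, b⟩, c⟩, fun ⟨⟨a, b⟩, c⟩ => ⟨a, b, c⟩⟩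
  exact e1.trans (e2.trans card_stab_β6)

end


section
variable (E : Finset GolayPt)

/-- the set `E` as an invariant subset for its setwise stabiliser. -/
noncomputable def SA : SubMulAction ↥(MulAction.stabilizer M24 E) GolayPt where
  carrier := (E : Set GolayPt)
  smul_mem' := by
    intro h x hx
    have hh : ((h : ↥M24) : Equiv.Perm GolayPt) • E = E := h.2
    show ((h : ↥M24) : Equiv.Perm GolayPt) x ∈ (E : Set GolayPt)
    rw [Finset.mem_coe, mem_smul_iff_of_smul_eq hh]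
    exact hx

theorem mem_SA (x : GolayPt) : x ∈ SA E ↔ x ∈ E := Iff.rfl

theorem card_SA (hE : E.card = 6) : Nat.card ↥(SA E) = 6 := by
  have : Nat.card ↥(SA E) = Nat.card ↥E := Nat.card_congr (Equiv.subtypeEquivRight (fun x => mem_SA E x))
  rw [this, Nat.card_eq_fintype_card, Fintype.card_coe, hE]

theorem toPerm_surjective (hE : E.card = 6) :
    Function.Surjective (MulAction.toPermHom ↥(MulAction.stabilizer M24 E) ↥(SA E)) := by
  intro τ
  let eq : ↥(SA E) ≃ ↥E := Equiv.subtypeEquivRight (fun x => mem_SA E x)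
  let σ : Equiv.Perm ↥E := eq.symm.trans (τ.trans eq)
  obtain ⟨g, hg, hgσ⟩ := part1 E hE σ
  have hgE : g • E = E := by
    apply Finset.eq_of_subset_of_card_le
    · intro y hy
      rw [Finset.mem_smul_finset] at hy
      obtain ⟨x, hx, rfl⟩ := hy
      rw [Equiv.Perm.smul_def, hgσ ⟨x, hx⟩]
      exact (σ ⟨x, hx⟩).2
    · rw [Finset.card_smul_finset]
  have hstab : (⟨g, hg⟩ : ↥M24) ∈ MulAction.stabilizer M24 E := hgE
  refine ⟨⟨⟨g, hg⟩, hstab⟩, ?_⟩
  apply Equiv.ext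
  intro p
  apply Subtype.ext
  show g (p : GolayPt) = ((τ p : ↥(SA E)) : GolayPt)
  have := hgσ (eq p)
  exact this

theorem mem_ker_iff (k : ↥(MulAction.stabilizer M24 E)) :
    k ∈ (MulAction.toPermHom ↥(MulAction.stabilizer M24 E) ↥(SA E)).ker ↔
      ∀ p ∈ E, ((k : ↥M24) : Equiv.Perm GolayPt) p = p := by
  rw [MonoidHom.mem_ker]
  constructor
  · intro h p hp
    have := congrArg (fun f : Equiv.Perm ↥(SA E) => ((f ⟨p, hp⟩ : ↥(SA E)) : GolayPt)) h
    exact this
  · intro h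
    apply Equiv.ext
    intro p
    apply Subtype.ext
    exact h p.1 p.2

noncomputable def kerEquiv :
    ↥(MulAction.toPermHom ↥(MulAction.stabilizer M24 E) ↥(SA E)).ker ≃
      {g : Equiv.Perm GolayPt // g ∈ M24 ∧ ∀ p ∈ E, g p = p} where
  toFun k := ⟨((k.1 : ↥M24) : Equiv.Perm GolayPt), (k.1 : ↥M24).2, (mem_ker_iff E k.1).mp k.2⟩
  invFun h := ⟨⟨⟨h.1, h.2.1⟩, by
      show (⟨h.1, h.2.1⟩ : ↥M24) ∈ MulAction.stabilizer M24 E
      have : h.1 • E = E := by
        apply Finset.eq_of_subset_of_card_le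
        · intro y hy
          rw [Finset.mem_smul_finset] at hy
          obtain ⟨x, hx, rfl⟩ := hy
          rw [Equiv.Perm.smul_def, h.2.2 x hx]
          exact hx
        · rw [Finset.card_smul_finset]
      exact this⟩, (mem_ker_iff E _).mpr h.2.2⟩
  left_inv k := rfl
  right_inv h := rfl

theorem part3b (hE : E.card = 6) (hP : ¬ ∃ o ∈ octads, E ⊆ o) :
    Nat.card ↥(MulAction.stabilizer M24 E) = 2160 := by
  set φ := MulAction.toPermHom ↥(MulAction.stabilizer M24 E) ↥(SA E) with hφ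
  have h1 := Subgroup.card_mul_index φ.ker
  rw [Subgroup.index_ker, MonoidHom.range_eq_top.mpr (toPerm_surjective E hE), Subgroup.card_top,
    Nat.card_perm, card_SA E hE, Nat.card_congr (kerEquiv E), part3a E hE hP] at h1
  rw [← h1]
  decide

end

theorem result (E : Finset Cfsg.GolayPt) (hE : E.card = 6) : (∀ σ : Equiv.Perm ↥E, ∃ g ∈ Cfsg.M24, ∀ p : ↥E, g p = σ p) ∧ ((∃ o ∈ Cfsg.octads, E ⊆ o) → Nat.card {g : Equiv.Perm Cfsg.GolayPt // g ∈ Cfsg.M24 ∧ ∀ p ∈ E, g p = p} = 16) ∧ ((¬ ∃ o ∈ Cfsg.octads, E ⊆ o) → Nat.card {g : Equiv.Perm Cfsg.GolayPt // g ∈ Cfsg.M24 ∧ ∀ p ∈ E, g p = p} = 3 ∧ Nat.card ↥(MulAction.stabilizer Cfsg.M24 E) = 2160) :=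
  ⟨part1 E hE, part2 E hE, fun h => ⟨part3a E hE h, part3b E hE h⟩⟩

end Cfsg.Agent.S5600
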