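import Cfsg.Statements.S5599
import Cfsg.Agent.S5600
import Cfsg.Agent.Lib.Helper28.M24Fix

set_option autoImplicit false
open scoped Pointwise
open Cfsg

namespace Cfsg.Agent.S5599
open Cfsg.Agent.Lib.Helper3.Golay Cfsg.Agent.Lib.Helper28.StabLib
open Cfsg.Agent.Lib.Helper28.GolayCode (bset mem_bset eq_one_of_fixClosure)

theorem β0 : β 0 = (none : GolayPt) := by decide
theorem β1 : β 1 = (some 0 : GolayPt) := by decide

theorem mem_M22 (x : Equiv.Perm GolayPt) :
    x ∈ Spor.M22 ↔ x ∈ M24 ∧ x none = none ∧ x (some 0) = some 0 := by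
  unfold Spor.M22 Spor.M23
  constructor
  · rintro ⟨⟨h1, h2⟩, h3⟩
    exact ⟨h1, h2, h3⟩
  · rintro ⟨h1, h2, h3⟩
    exact ⟨⟨h1, h2⟩, h3⟩

theorem M22_eq : Spor.M22 = M24 ⊓ fixB 2 := by
  ext x
  rw [mem_M22, Subgroup.mem_inf, mem_fixB]
  constructor
  · rintro ⟨h1, h2, h3⟩
    refine ⟨h1, ?_⟩
    intro j hj
    interval_cases j
    · rw [β0]; exact h2
    · rw [β1]; exact h3
  · rintro ⟨h1, h2⟩
    refine ⟨h1, ?_, ?_⟩
    · have := h2 0 (by norm_num); rwa [β0] at this
    · have := h2 1 (by norm_num); rwa [β1] at this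

theorem card_M22 : Nat.card ↥Spor.M22 = 443520 := by
  rw [M22_eq, card_M24_inf_fixB (by norm_num)]
  decide

theorem card_fix4 : Nat.card ↥(M24 ⊓ fixB 4) = 960 := by
  rw [card_M24_inf_fixB (by norm_num)]
  decide

theorem bset_aux : ∀ p : GolayPt, p ≠ none → p ≠ some 0 → p ∈ bset 0x7ffffe := by
  intro p
  rw [mem_bset]
  revert p
  decide +kernel

theorem closure22 : Nat.land (Cfsg.Agent.Lib.Helper28.GolayCode.fixClosure 0x7ffffe
    [(0x149f, 0x3da1), (0x800c75, 0x8018ea)]) 0xffffff = 0xffffff := by decide +kernel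

/-- the pointwise stabiliser of four points has order 960. -/
theorem card_four (p q : GolayPt) (hp1 : p ≠ none) (hp2 : p ≠ some 0) (hq1 : q ≠ none) (hq2 : q ≠ some 0)
    (hpq : p ≠ q) :
    Nat.card {h : Equiv.Perm GolayPt // h ∈ M24 ∧ (h none = none ∧ h (some 0) = some 0 ∧ h p = p ∧ h q = q)} =
      960 := by
  let x : ℕ → GolayPt := fun j => if j = 0 then none else if j = 1 then some 0 else if j = 2 then p else q
  have hx : ∀ i < 4, ∀ j < 4, x i = x j → i = j := by
    intro i hi j hj h
    interval_cases i <;> interval_cases j <;> simp_all [x]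
  obtain ⟨c, hc, hcx⟩ := exists_map_base x 4 (by norm_num) hx
  have c0 : c (β 0) = none := hcx 0 (by norm_num)
  have c1 : c (β 1) = some 0 := hcx 1 (by norm_num)
  have c2 : c (β 2) = p := hcx 2 (by norm_num)
  have c3 : c (β 3) = q := hcx 3 (by norm_num)
  have key : ∀ (h : Equiv.Perm GolayPt) (b y : GolayPt), c b = y → (h y = y ↔ (c⁻¹ * h * c) b = b) := by
    intro h b y hby
    rw [Equiv.Perm.mul_apply, Equiv.Perm.mul_apply, hby]
    constructor
    · intro h1; rw [h1, ← hby]; simp
    · intro h1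
      have : c (c⁻¹ (h y)) = c b := by rw [h1]
      rw [hby] at this
      simpa using this
  have hQ : ∀ h : Equiv.Perm GolayPt, (h none = none ∧ h (some 0) = some 0 ∧ h p = p ∧ h q = q) ↔
      (c⁻¹ * h * c) ∈ fixB 4 := by
    intro h
    rw [mem_fixB, key h _ _ c0, key h _ _ c1, key h _ _ c2, key h _ _ c3]
    constructor
    · rintro ⟨h0, h1, h2, h3⟩ j hj
      interval_cases j
      · exact h0
      · exact h1
      · exact h2
      · exact h3
    · intro hall
      exact ⟨hall 0 (by norm_num), hall 1 (by norm_num), hall 2 (by norm_num), hall 3 (by norm_num)⟩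
  have e1 := Nat.card_congr (S5600.conjEquiv c hc
    (fun h => h none = none ∧ h (some 0) = some 0 ∧ h p = p ∧ h q = q) (fun k => k ∈ fixB 4) hQ)
  rw [e1, ← card_fix4]
  exact Nat.card_congr (Equiv.subtypeEquivRight (fun k => Subgroup.mem_inf.symm))

theorem card_stab_ge (p : GolayPt) (hp1 : p ≠ none) (hp2 : p ≠ some 0) :
    20160 ≤ Nat.card ↥(Spor.M22 ⊓ MulAction.stabilizer (Equiv.Perm GolayPt) p) := by
  have h := card_orbit_mul_card_inf (G := Equiv.Perm GolayPt) Spor.M22 p
  rw [card_M22] at h
  have hle : Nat.card (MulAction.orbit ↥Spor.M22 p) ≤ 22 := by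
    rw [Nat.card_coe_set_eq]
    have hsub : MulAction.orbit ↥Spor.M22 p ⊆
        ((Finset.univ.erase (none : GolayPt)).erase (some 0) : Finset GolayPt) := by
      intro y hy
      rw [mem_orbit_subgroup_iff] at hy
      obtain ⟨x, hx, rfl⟩ := hy
      rw [mem_M22] at hx
      rw [Finset.mem_coe, Finset.mem_erase, Finset.mem_erase]
      refine ⟨?_, ?_, Finset.mem_univ _⟩
      · intro h
        apply hp2
        have : x • p = x (some 0) := by rw [h, hx.2.2]
        exact x.injective this
      · intro h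
        apply hp1
        have : x • p = x none := by rw [h, hx.2.1]
        exact x.injective this
    have := Set.ncard_le_ncard hsub (Finset.finite_toSet _)
    rw [Set.ncard_coe_finset] at this
    have hc : ((Finset.univ.erase (none : GolayPt)).erase (some 0)).card = 22 := by decide
    omega
  by_contra hlt
  push Not at hlt
  have : Nat.card (MulAction.orbit ↥Spor.M22 p) *
      Nat.card ↥(Spor.M22 ⊓ MulAction.stabilizer (Equiv.Perm GolayPt) p) ≤ 22 * 20159 :=
    Nat.mul_le_mul hle (by omega)
  omega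

theorem result (g : Equiv.Perm Cfsg.GolayPt) (hg : g ∈ Cfsg.M24) (h₁ : g none = some 0) (h₂ : g (some 0) = none) : Cfsg.Spor.M22.relIndex (Cfsg.M24 ⊓ MulAction.stabilizer (Equiv.Perm Cfsg.GolayPt) ({none, some 0} : Finset Cfsg.GolayPt)) = 2 ∧ (∀ x ∈ Cfsg.Spor.M22, g * x * g⁻¹ ∈ Cfsg.Spor.M22) ∧ ¬ ∃ h ∈ Cfsg.Spor.M22, ∀ x ∈ Cfsg.Spor.M22, g * x * g⁻¹ = h * x * h⁻¹ := by
  have hginv0 : g⁻¹ (some 0) = none := by rw [← h₁]; simp
  have hginv1 : g⁻¹ none = some 0 := by rw [← h₂]; simp
  refine ⟨?_, ?_, ?_⟩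
  · -- index two
    set K := M24 ⊓ MulAction.stabilizer (Equiv.Perm GolayPt) ({none, some 0} : Finset GolayPt) with hK
    have hcases : ∀ b ∈ K, (b none = none ∧ b (some 0) = some 0) ∨ (b none = some 0 ∧ b (some 0) = none) := by
      intro b hb
      have hs : b • ({none, some 0} : Finset GolayPt) = {none, some 0} := hb.2
      have m1 : b none ∈ ({none, some 0} : Finset GolayPt) := by
        rw [← hs]; exact Finset.smul_mem_smul_finset (by simp)
      have m2 : b (some 0) ∈ ({none, some 0} : Finset GolayPt) := by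
        rw [← hs]; exact Finset.smul_mem_smul_finset (by simp)
      rw [Finset.mem_insert, Finset.mem_singleton] at m1 m2
      have hne : b none ≠ b (some 0) := fun h => by simpa using b.injective h
      rcases m1 with a | a <;> rcases m2 with c | c
      · exact absurd (a.trans c.symm) hne
      · exact Or.inl ⟨a, c⟩
      · exact Or.inr ⟨a, c⟩
      · exact absurd (a.trans c.symm) hne
    have hgK : g ∈ K := by
      refine ⟨hg, ?_⟩
      show g • ({none, some 0} : Finset GolayPt) = {none, some 0}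
      rw [Finset.smul_finset_insert, Finset.smul_finset_singleton,
        Equiv.Perm.smul_def, Equiv.Perm.smul_def, h₁, h₂, Finset.pair_comm]
    unfold Subgroup.relIndex
    rw [Subgroup.index_eq_two_iff]
    refine ⟨⟨g, hgK⟩, ?_⟩
    intro b
    rw [Subgroup.mem_subgroupOf, Subgroup.mem_subgroupOf]
    show Xor ((b : Equiv.Perm GolayPt) * g ∈ Spor.M22) ((b : Equiv.Perm GolayPt) ∈ Spor.M22)
    rw [mem_M22, mem_M22, Equiv.Perm.mul_apply, Equiv.Perm.mul_apply, h₁, h₂]
    rcases hcases b.1 b.2 with ⟨a, c⟩ | ⟨a, c⟩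
    · right
      refine ⟨⟨b.2.1, a, c⟩, ?_⟩
      rintro ⟨_, h, _⟩
      rw [c] at h
      exact absurd h (by simp)
    · left
      refine ⟨⟨M24.mul_mem b.2.1 hg, c, a⟩, ?_⟩
      rintro ⟨_, h, _⟩
      rw [a] at h
      exact absurd h (by simp)
  · intro x hx
    rw [mem_M22] at hx ⊢
    refine ⟨M24.mul_mem (M24.mul_mem hg hx.1) (M24.inv_mem hg), ?_, ?_⟩
    · rw [Equiv.Perm.mul_apply, Equiv.Perm.mul_apply, hginv1, hx.2.2, h₂]
    · rw [Equiv.Perm.mul_apply, Equiv.Perm.mul_apply, hginv0, hx.2.1, h₁]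
  · rintro ⟨h, hh, hconj⟩
    have hh' := (mem_M22 h).mp hh
    set z := h⁻¹ * g with hz
    have hzM : z ∈ M24 := M24.mul_mem (M24.inv_mem hh'.1) hg
    have hcomm : ∀ x ∈ Spor.M22, z * x = x * z := by
      intro x hx
      have := hconj x hx
      have h3 : h⁻¹ * (g * x * g⁻¹) * g = h⁻¹ * (h * x * h⁻¹) * g := by rw [this]
      have h4 : h⁻¹ * (g * x * g⁻¹) * g = z * x := by rw [hz]; group
      have h5 : h⁻¹ * (h * x * h⁻¹) * g = x * z := by rw [hz]; group
      rw [← h4, h3, h5]
    have hhinv0 : h⁻¹ (some 0) = some 0 := by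
      conv_lhs => rw [← hh'.2.2]
      simp
    have hhinv1 : h⁻¹ none = none := by
      conv_lhs => rw [← hh'.2.1]
      simp
    have hz0 : z none = some 0 := by rw [hz, Equiv.Perm.mul_apply, h₁, hhinv0]
    have hz1 : z (some 0) = none := by rw [hz, Equiv.Perm.mul_apply, h₂, hhinv1]
    have hfix : ∀ p : GolayPt, p ≠ none → p ≠ some 0 → z p = p := by
      intro p hp1 hp2
      by_contra hne
      set q := z p with hq
      have hq1 : q ≠ none := by
        intro h'
        apply hp2
        apply z.injective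
        rw [hz1, ← h', hq]
      have hq2 : q ≠ some 0 := by
        intro h'
        apply hp1
        apply z.injective
        rw [hz0, ← h', hq]
      have hinj : Nat.card ↥(Spor.M22 ⊓ MulAction.stabilizer (Equiv.Perm GolayPt) p) ≤
          Nat.card {h : Equiv.Perm GolayPt // h ∈ M24 ∧
            (h none = none ∧ h (some 0) = some 0 ∧ h p = p ∧ h q = q)} := by
        apply Nat.card_le_card_of_injective
          (fun x : ↥(Spor.M22 ⊓ MulAction.stabilizer (Equiv.Perm GolayPt) p) =>
            (⟨x.1, by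
              have hxM : x.1 ∈ Spor.M22 := (Subgroup.mem_inf.mp x.2).1
              have hxp : x.1 p = p := (Subgroup.mem_inf.mp x.2).2
              have hx := (mem_M22 x.1).mp hxM
              refine ⟨hx.1, hx.2.1, hx.2.2, hxp, ?_⟩
              have := hcomm x.1 hxM
              have h6 := congrArg (fun f : Equiv.Perm GolayPt => f p) this
              simp only [Equiv.Perm.mul_apply] at h6
              rw [hxp] at h6
              exact h6.symm⟩ : {h : Equiv.Perm GolayPt // h ∈ M24 ∧
                (h none = none ∧ h (some 0) = some 0 ∧ h p = p ∧ h q = q)}))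
        intro a b hab
        have hv : (a : Equiv.Perm GolayPt) = (b : Equiv.Perm GolayPt) :=
          congrArg (fun t : {h : Equiv.Perm GolayPt // h ∈ M24 ∧
            (h none = none ∧ h (some 0) = some 0 ∧ h p = p ∧ h q = q)} => t.1) hab
        exact Subtype.ext hv
      rw [card_four p q hp1 hp2 hq1 hq2 (fun h' => hne h'.symm)] at hinj
      have := card_stab_ge p hp1 hp2
      omega
    have hz1' : z = 1 := by
      apply eq_one_of_fixClosure hzM 0x7ffffe _ _ closure22
      intro p hp
      apply hfix p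
      · rintro rfl
        have : (none : GolayPt) ∈ bset 0x7ffffe → False := by
          rw [mem_bset]; decide +kernel
        exact this hp
      · rintro rfl
        have : (some 0 : GolayPt) ∈ bset 0x7ffffe → False := by
          rw [mem_bset]; decide +kernel
        exact this hp
    rw [hz1'] at hz0
    simp at hz0

end Cfsg.Agent.S5599
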