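import Cfsg.Statements.S5602
import Cfsg.Agent.S5600
import Cfsg.Agent.Lib.Helper28.M24FixConj
import Cfsg.Agent.Lib.Helper28.M24Count

set_option autoImplicit false
open scoped Pointwise
open Cfsg

namespace Cfsg.Agent.S5602
open Cfsg.Agent.Lib.Helper28.GolayCode Cfsg.Agent.Lib.Helper28.M24Pairs Cfsg.Agent.Lib.Helper28.M24Fam
  Cfsg.Agent.Lib.Helper28.M24OctadFix

/-- an element of order three fixing the points `23, 0, 1, 2, 3, 4`. -/
def tz : ℕ := 0xbc12ba18ad946c79b11553dc418820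

theorem tz_inM24 : inM24 tz = true := by decide +kernel

theorem tz_fix : fixesMask tz 0x80001f = true := by decide +kernel

theorem tz_img : img tz 5 = 14 := by decide +kernel

set_option maxRecDepth 100000 in
theorem tz_counts : (octadList.filter (fixS tz)).length = 21 ∧ (trioData.filter (fixF tz)).length = 15 ∧
    (sextetData.filter (fixF tz)).length = 16 ∧ (dodecadList.filter (fixS tz)).length = 20 := by
  decide +kernel

theorem tz_isPerm : isPerm tz = true := isPerm_of_inM24 _ tz_inM24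

theorem tz_ne_one : permOf tz ≠ 1 := by
  intro h
  have h1 := permOf_apply_dec tz tz_isPerm 5 (by norm_num)
  rw [h, tz_img, Equiv.Perm.one_apply] at h1
  have := congrArg enc h1
  rw [enc_dec 5 (by norm_num), enc_dec 14 (by norm_num)] at this
  norm_num at this

theorem β_mem_mask : ∀ j < 7, j ≠ 5 → Cfsg.Agent.Lib.Helper3.Golay.β j ∈ bset 0x80001f := by
  intro j hj hj5
  rw [mem_bset, ← idx_eq_enc]
  interval_cases j <;> first | decide +kernel | exact absurd rfl hj5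

theorem tz_mem : permOf tz ∈ (M24 ⊓ Cfsg.Agent.Lib.Helper3.Golay.fixB 5) ⊓
    MulAction.stabilizer (Equiv.Perm GolayPt) (Cfsg.Agent.Lib.Helper3.Golay.β 6) := by
  have hfix := fixesMask_spec tz_isPerm tz_fix
  refine Subgroup.mem_inf.mpr ⟨Subgroup.mem_inf.mpr ⟨permOf_mem_M24 _ tz_inM24, ?_⟩, ?_⟩
  · rw [Cfsg.Agent.Lib.Helper3.Golay.mem_fixB]
    intro j hj
    exact hfix _ (β_mem_mask j (by omega) (by omega))
  · rw [MulAction.mem_stabilizer_iff, Equiv.Perm.smul_def]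
    exact hfix _ (β_mem_mask 6 (by norm_num) (by norm_num))

section
variable {G X : Type*} [Group G] [MulAction G X]

theorem smul_eq_of_mem_zpowers {a b : G} (h : a ∈ Subgroup.zpowers b) (x : X) (hb : b • x = x) :
    a • x = x := by
  have : Subgroup.zpowers b ≤ MulAction.stabilizer G x := by
    rw [Subgroup.zpowers_le]; exact hb
  exact this h

end

theorem result (g : Equiv.Perm Cfsg.GolayPt) (hg : g ∈ Cfsg.M24) (h₃ : orderOf g = 3) (h₆ : (Finset.univ.filter fun p => g p = p).card = 6) : {o : Finset Cfsg.GolayPt | o ∈ Cfsg.octads ∧ g • o = o}.ncard = 21 ∧ {T : Finset (Finset Cfsg.GolayPt) | T ∈ Cfsg.trios ∧ g • T = T}.ncard = 15 ∧ {S : Finset (Finset Cfsg.GolayPt) | S ∈ Cfsg.sextets ∧ g • S = S}.ncard = 16 ∧ {d : Finset Cfsg.GolayPt | d ∈ Cfsg.dodecads ∧ g • d = d}.ncard = 20 := by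
  classical
  set F : Finset GolayPt := Finset.univ.filter fun p => g p = p with hFdef
  have hF : ∀ p ∈ F, g p = p := fun p hp => (Finset.mem_filter.mp hp).2
  have hg3 : g ^ 3 ^ 1 = 1 := by
    rw [pow_one, ← h₃]; exact pow_orderOf_eq_one g
  have hg1 : g ≠ 1 := by
    rintro rfl
    rw [orderOf_one] at h₃
    norm_num at h₃
  -- the fixed points do not lie in an octad
  have hno : ¬ ∃ o ∈ octads, F ⊆ o := by
    rintro ⟨o, ho, hFo⟩
    have hoF : o ∩ F = F := Finset.inter_eq_right.mpr hFo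
    have hgo : g • o = o := smul_octad_eq_of_fix hg ho F hF (by rw [hoF, h₆]; norm_num)
    have hmod := @card_filter_fixed_modEq g 3 1 ⟨Nat.prime_three⟩ hg3 o hgo
    have hoF' : o ∩ F = o.filter fun x => g x = x := by
      ext x
      simp [hFdef]
    rw [← hoF', hoF, h₆, ho.2] at hmod
    exact absurd hmod (by decide)
  let e : ↥F ≃ Fin 6 := F.equivFinOfCardEq h₆
  obtain ⟨g0, hg0, h5, hc⟩ := Cfsg.Agent.S5600.claimT (Cfsg.Agent.S5600.enum F e)
    (Cfsg.Agent.S5600.enum_inj F e)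
  have hi := Cfsg.Agent.S5600.mem_smul_O0_iff (Cfsg.Agent.S5600.enum F e)
    (Cfsg.Agent.S5600.enum_inj F e) g0 hg0 h5
  have hP' : ¬ ∃ o ∈ octads, ∀ j < 6, Cfsg.Agent.S5600.enum F e j ∈ o := by
    rintro ⟨o, ho, h⟩
    exact hno ⟨o, ho, (Cfsg.Agent.S5600.enum_sub_iff F e o).mp h⟩
  have h6 : g0 (Cfsg.Agent.Lib.Helper3.Golay.β 6) = Cfsg.Agent.S5600.enum F e 5 := by
    rcases hc with ⟨hA, _⟩ | ⟨_, h⟩
    · exact absurd (hi.mp hA) hP'
    · exact h
  -- the conjugate lies in the group of order three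
  have hk : g0⁻¹ ∈ M24 := M24.inv_mem hg0
  set g' : Equiv.Perm GolayPt := g0⁻¹ * g * g0⁻¹⁻¹ with hg'def
  have hg'M : g' ∈ M24 := M24.mul_mem (M24.mul_mem hk hg) (M24.inv_mem hk)
  have hg'1 : g' ≠ 1 := by
    intro h
    apply hg1
    have := congrArg (fun z => g0 * z * g0⁻¹) h
    simpa [hg'def, mul_assoc] using this
  have hkey : ∀ q p, g0 q = p → g p = p → g' q = q := by
    intro q p hqp hp
    rw [hg'def, inv_inv, Equiv.Perm.mul_apply, Equiv.Perm.mul_apply, hqp, hp, ← hqp]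
    simp
  have hg'Z : g' ∈ (M24 ⊓ Cfsg.Agent.Lib.Helper3.Golay.fixB 5) ⊓
      MulAction.stabilizer (Equiv.Perm GolayPt) (Cfsg.Agent.Lib.Helper3.Golay.β 6) := by
    refine Subgroup.mem_inf.mpr ⟨Subgroup.mem_inf.mpr ⟨hg'M, ?_⟩, ?_⟩
    · rw [Cfsg.Agent.Lib.Helper3.Golay.mem_fixB]
      intro j hj
      exact hkey _ _ (h5 j hj) (hF _ (Cfsg.Agent.S5600.enum_mem F e j (by omega)))
    · rw [MulAction.mem_stabilizer_iff, Equiv.Perm.smul_def]
      exact hkey _ _ h6 (hF _ (Cfsg.Agent.S5600.enum_mem F e 5 (by norm_num)))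
  -- both elements generate the group of order three
  have hcard := Cfsg.Agent.S5600.card_stab_β6
  have : Fact (Nat.Prime 3) := ⟨Nat.prime_three⟩
  set Z := (M24 ⊓ Cfsg.Agent.Lib.Helper3.Golay.fixB 5) ⊓
      MulAction.stabilizer (Equiv.Perm GolayPt) (Cfsg.Agent.Lib.Helper3.Golay.β 6) with hZ
  have ha1 : (⟨g', hg'Z⟩ : ↥Z) ≠ 1 := fun h => hg'1 (congrArg Subtype.val h)
  have hb1 : (⟨permOf tz, tz_mem⟩ : ↥Z) ≠ 1 := fun h => tz_ne_one (congrArg Subtype.val h)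
  have hab : g' ∈ Subgroup.zpowers (permOf tz) := by
    have := mem_zpowers_of_prime_card hcard hb1 (g' := (⟨g', hg'Z⟩ : ↥Z))
    obtain ⟨k, hk⟩ := Subgroup.mem_zpowers_iff.mp this
    exact Subgroup.mem_zpowers_iff.mpr ⟨k, by simpa using congrArg Subtype.val hk⟩
  have hba : permOf tz ∈ Subgroup.zpowers g' := by
    have := mem_zpowers_of_prime_card hcard ha1 (g' := (⟨permOf tz, tz_mem⟩ : ↥Z))
    obtain ⟨k, hk⟩ := Subgroup.mem_zpowers_iff.mp this
    exact Subgroup.mem_zpowers_iff.mpr ⟨k, by simpa using congrArg Subtype.val hk⟩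
  have hsetS : ∀ 𝒳 : Set (Finset GolayPt), {x | x ∈ 𝒳 ∧ g' • x = x} = {x | x ∈ 𝒳 ∧ permOf tz • x = x} := by
    intro 𝒳
    ext x
    exact ⟨fun ⟨h1, h2⟩ => ⟨h1, smul_eq_of_mem_zpowers hba x h2⟩,
      fun ⟨h1, h2⟩ => ⟨h1, smul_eq_of_mem_zpowers hab x h2⟩⟩
  have hsetF : ∀ 𝒳 : Set (Finset (Finset GolayPt)),
      {x | x ∈ 𝒳 ∧ g' • x = x} = {x | x ∈ 𝒳 ∧ permOf tz • x = x} := by
    intro 𝒳
    ext x
    exact ⟨fun ⟨h1, h2⟩ => ⟨h1, smul_eq_of_mem_zpowers hba x h2⟩,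
      fun ⟨h1, h2⟩ => ⟨h1, smul_eq_of_mem_zpowers hab x h2⟩⟩
  obtain ⟨hc1, hc2, hc3, hc4⟩ := tz_counts
  refine ⟨?_, ?_, ?_, ?_⟩
  · rw [← ncard_fixed_conj M24 octads (fun σ hσ x hx => smul_mem_octads hσ hx) g g0⁻¹ hk, ← hg'def,
      hsetS, ncard_fixed_set octadData octadList_lt tz tz_isPerm, hc1]
  · rw [← ncard_fixed_conj M24 trios (fun σ hσ x hx => smul_mem_trios hσ hx) g g0⁻¹ hk, ← hg'def,
      hsetF, ncard_fixed_fam trioFamData trioData_lt tz tz_isPerm, hc2]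
  · rw [← ncard_fixed_conj M24 sextets (fun σ hσ x hx => smul_mem_sextets hσ hx) g g0⁻¹ hk, ← hg'def,
      hsetF, ncard_fixed_fam sextetFamData sextetData_lt tz tz_isPerm, hc3]
  · rw [← ncard_fixed_conj M24 dodecads (fun σ hσ x hx => smul_mem_dodecads hσ hx) g g0⁻¹ hk, ← hg'def,
      hsetS, ncard_fixed_set dodecadData dodecadList_lt tz tz_isPerm, hc4]

end Cfsg.Agent.S5602
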