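import Cfsg.Statements.S5601
import Cfsg.Agent.S5600
import Cfsg.Agent.S5602
import Cfsg.Agent.Lib.Helper28.M24Classes

set_option autoImplicit false
open scoped Pointwise
open Cfsg

namespace Cfsg.Agent.S5601
open Cfsg.Agent.Lib.Helper28.GolayCode Cfsg.Agent.Lib.Helper28.M24Pairs
  Cfsg.Agent.Lib.Helper28.M24OctadFix

/-! ### Packed permutations: products and powers -/

theorem permOf_mul_comm_of_img {k r r' : ℕ} (hk : isPerm k = true) (hr : isPerm r = true)
    (hr' : isPerm r' = true) (h : ∀ i < 24, img k (img r i) = img r' (img k i)) :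
    permOf k * permOf r = permOf r' * permOf k := by
  apply Equiv.ext
  intro p
  rw [Equiv.Perm.mul_apply, Equiv.Perm.mul_apply, ← dec_enc p]
  have hi := enc_lt p
  rw [permOf_apply_dec r hr _ hi, permOf_apply_dec k hk _ (img_lt_of_isPerm r hr _ hi),
    permOf_apply_dec k hk _ hi, permOf_apply_dec r' hr' _ (img_lt_of_isPerm k hk _ hi), h _ hi]

theorem permOf_pow3_of_isCube1 {q : ℕ} (hq : isPerm q = true) (h : isCube1 q = true) :
    permOf q ^ 3 = 1 := by
  apply Equiv.ext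
  intro p
  simp only [pow_succ, pow_zero, one_mul, Equiv.Perm.mul_apply, Equiv.Perm.one_apply]
  rw [← dec_enc p]
  have hi := enc_lt p
  have h1 := img_lt_of_isPerm q hq _ hi
  have h2 := img_lt_of_isPerm q hq _ h1
  rw [permOf_apply_dec q hq _ hi, permOf_apply_dec q hq _ h1, permOf_apply_dec q hq _ h2]
  unfold isCube1 at h
  have := List.all_eq_true.mp h (enc p) (List.mem_range.mpr hi)
  rw [nat_beq_iff] at this
  rw [this]

/-! ### The two standard elements -/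

/-- the standard fixed-point-free element of order three. -/
def r6 : ℕ := 0x8aaf62b6b29ae083d18970de620041

def k16 : ℕ := 0x61e12745e4435569aef44d4a330820

def k18 : ℕ := 0xbd54c48e13934ee8a165a3ec620820

noncomputable def conjOK (r : ℕ) : Bool :=
  [idP, k16, k18].any fun k => inM24 k &&
    (List.range 24).all fun i => Nat.beq (img k (img r i)) (img r6 (img k i))

theorem Rlist_conj : Rlist.all (fun r => !(isFpf3 r) || conjOK r) = true := by decide +kernel

theorem r6_mem : r6 ∈ Rlist := by decide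

theorem r6_props : isCube1 r6 = true ∧ fixCount r6 = 0 ∧ img r6 0 = 1 := by decide +kernel

theorem tz_props : isCube1 Cfsg.Agent.S5602.tz = true ∧ fixCount Cfsg.Agent.S5602.tz = 6 := by
  decide +kernel

/-- every fixed-point-free element of order three is conjugate to `permOf r6`. -/
theorem order3B_conj {g : Equiv.Perm GolayPt} (hg : g ∈ M24) (h3 : g ^ 3 = 1) (h0 : ∀ p, g p ≠ p) :
    ∃ k ∈ M24, k * g * k⁻¹ = permOf r6 := by
  obtain ⟨h, hh, r, hr, hfi, hconj⟩ := fpf_order3_conj hg h3 h0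
  have hc := List.all_eq_true.mp Rlist_conj r hr
  rw [hfi] at hc
  simp only [Bool.not_true, Bool.false_or] at hc
  unfold conjOK at hc
  rw [List.any_eq_true] at hc
  obtain ⟨k, -, hk⟩ := hc
  rw [Bool.and_eq_true, List.all_eq_true] at hk
  obtain ⟨hkM, hk2⟩ := hk
  have hkP := isPerm_of_inM24 _ hkM
  have hrP := isPerm_of_inM24 _ (Rlist_spec hr).1
  have hr6P := isPerm_of_inM24 _ (Rlist_spec r6_mem).1
  have hmul := permOf_mul_comm_of_img hkP hrP hr6P (fun i hi => by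
    have := hk2 i (List.mem_range.mpr hi)
    rwa [nat_beq_iff] at this)
  refine ⟨permOf k * h, M24.mul_mem (permOf_mem_M24 _ hkM) hh, ?_⟩
  have e : permOf k * h * g * (permOf k * h)⁻¹ = permOf k * (h * g * h⁻¹) * (permOf k)⁻¹ := by group
  rw [e, hconj, hmul]
  group

/-- every element of order three with six fixed points is conjugate into the group generated by
`permOf tz`. -/
theorem order3A_conj {g : Equiv.Perm GolayPt} (hg : g ∈ M24) (hg3 : g ^ 3 = 1) (hg1 : g ≠ 1)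
    (h₆ : (Finset.univ.filter fun p => g p = p).card = 6) :
    ∃ k ∈ M24, k * g * k⁻¹ ∈ Subgroup.zpowers (permOf Cfsg.Agent.S5602.tz) ∧
      permOf Cfsg.Agent.S5602.tz ∈ Subgroup.zpowers (k * g * k⁻¹) := by
  classical
  set F : Finset GolayPt := Finset.univ.filter fun p => g p = p with hFdef
  have hF : ∀ p ∈ F, g p = p := fun p hp => (Finset.mem_filter.mp hp).2
  have hno : ¬ ∃ o ∈ octads, F ⊆ o := by
    rintro ⟨o, ho, hFo⟩
    have hoF : o ∩ F = F := Finset.inter_eq_right.mpr hFo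
    have hgo : g • o = o := smul_octad_eq_of_fix hg ho F hF (by rw [hoF, h₆]; norm_num)
    have hmod := @card_filter_fixed_modEq g 3 1 ⟨Nat.prime_three⟩ (by rw [pow_one]; exact hg3) o hgo
    have hoF' : o ∩ F = o.filter fun x => g x = x := by
      ext x
      simp [hFdef]
    rw [← hoF', hoF, h₆, ho.2] at hmod
    exact absurd hmod (by decide)
  let e : ↥F ≃ Fin 6 := F.equivFinOfCardEq h₆
  obtain ⟨g0, hg0, h5, hc⟩ := Cfsg.Agent.S5600.claimT (Cfsg.Agent.S5600.enum F e)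
    (Cfsg.Agent.S5600.enum_inj F e)
  have hi := Cfsg.Agent.S5600.mem_smul_O0_iff (Cfsg.Agent.S5600.enum F e)
    (Cfsg.Agent.S5600.enum_inj F e) g0 hg0 h5
  have hP' : ¬ ∃ o ∈ octads, ∀ j < 6, Cfsg.Agent.S5600.enum F e j ∈ o := by
    rintro ⟨o, ho, h⟩
    exact hno ⟨o, ho, (Cfsg.Agent.S5600.enum_sub_iff F e o).mp h⟩
  have h6 : g0 (Cfsg.Agent.Lib.Helper3.Golay.β 6) = Cfsg.Agent.S5600.enum F e 5 := by
    rcases hc with ⟨hA, _⟩ | ⟨_, h⟩
    · exact absurd (hi.mp hA) hP'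
    · exact h
  have hk : g0⁻¹ ∈ M24 := M24.inv_mem hg0
  set g' : Equiv.Perm GolayPt := g0⁻¹ * g * g0⁻¹⁻¹ with hg'def
  have hg'M : g' ∈ M24 := M24.mul_mem (M24.mul_mem hk hg) (M24.inv_mem hk)
  have hg'1 : g' ≠ 1 := by
    intro h
    apply hg1
    have := congrArg (fun z => g0 * z * g0⁻¹) h
    simpa [hg'def, mul_assoc] using this
  have hkey : ∀ q p, g0 q = p → g p = p → g' q = q := by
    intro q p hqp hp
    rw [hg'def, inv_inv, Equiv.Perm.mul_apply, Equiv.Perm.mul_apply, hqp, hp, ← hqp]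
    simp
  have hg'Z : g' ∈ (M24 ⊓ Cfsg.Agent.Lib.Helper3.Golay.fixB 5) ⊓
      MulAction.stabilizer (Equiv.Perm GolayPt) (Cfsg.Agent.Lib.Helper3.Golay.β 6) := by
    refine Subgroup.mem_inf.mpr ⟨Subgroup.mem_inf.mpr ⟨hg'M, ?_⟩, ?_⟩
    · rw [Cfsg.Agent.Lib.Helper3.Golay.mem_fixB]
      intro j hj
      exact hkey _ _ (h5 j hj) (hF _ (Cfsg.Agent.S5600.enum_mem F e j (by omega)))
    · rw [MulAction.mem_stabilizer_iff, Equiv.Perm.smul_def]
      exact hkey _ _ h6 (hF _ (Cfsg.Agent.S5600.enum_mem F e 5 (by norm_num)))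
  have hcard := Cfsg.Agent.S5600.card_stab_β6
  have : Fact (Nat.Prime 3) := ⟨Nat.prime_three⟩
  set Z := (M24 ⊓ Cfsg.Agent.Lib.Helper3.Golay.fixB 5) ⊓
      MulAction.stabilizer (Equiv.Perm GolayPt) (Cfsg.Agent.Lib.Helper3.Golay.β 6) with hZ
  have ha1 : (⟨g', hg'Z⟩ : ↥Z) ≠ 1 := fun h => hg'1 (congrArg Subtype.val h)
  have hb1 : (⟨permOf Cfsg.Agent.S5602.tz, Cfsg.Agent.S5602.tz_mem⟩ : ↥Z) ≠ 1 :=
    fun h => Cfsg.Agent.S5602.tz_ne_one (congrArg Subtype.val h)
  refine ⟨g0⁻¹, hk, ?_, ?_⟩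
  · show g' ∈ Subgroup.zpowers (permOf Cfsg.Agent.S5602.tz)
    have := mem_zpowers_of_prime_card hcard hb1 (g' := (⟨g', hg'Z⟩ : ↥Z))
    obtain ⟨k, hk⟩ := Subgroup.mem_zpowers_iff.mp this
    refine Subgroup.mem_zpowers_iff.mpr ⟨k, ?_⟩
    have := congrArg Subtype.val hk
    simpa using this
  · show permOf Cfsg.Agent.S5602.tz ∈ Subgroup.zpowers g'
    have := mem_zpowers_of_prime_card hcard ha1
      (g' := (⟨permOf Cfsg.Agent.S5602.tz, Cfsg.Agent.S5602.tz_mem⟩ : ↥Z))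
    obtain ⟨k, hk⟩ := Subgroup.mem_zpowers_iff.mp this
    refine Subgroup.mem_zpowers_iff.mpr ⟨k, ?_⟩
    have := congrArg Subtype.val hk
    simpa using this

/-! ### Subgroups of order three -/

/-- the fixed points of a subgroup. -/
def fixSet (X : Subgroup ↥M24) : Set GolayPt :=
  {p | ∀ x ∈ X, ((x : ↥M24) : Equiv.Perm GolayPt) p = p}

theorem mem_zpowers_coe_iff (a b : ↥M24) :
    a ∈ Subgroup.zpowers b ↔ (a : Equiv.Perm GolayPt) ∈ Subgroup.zpowers (b : Equiv.Perm GolayPt) := by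
  rw [Subgroup.mem_zpowers_iff, Subgroup.mem_zpowers_iff]
  constructor
  · rintro ⟨k, hk⟩
    exact ⟨k, by rw [← hk]; simp⟩
  · rintro ⟨k, hk⟩
    exact ⟨k, Subtype.ext (by rw [← hk]; simp)⟩

theorem zpowers_eq_of_mem {G : Type*} [Group G] {a b : G} (h1 : a ∈ Subgroup.zpowers b)
    (h2 : b ∈ Subgroup.zpowers a) : Subgroup.zpowers a = Subgroup.zpowers b :=
  le_antisymm (Subgroup.zpowers_le.mpr h1) (Subgroup.zpowers_le.mpr h2)

theorem conj_smul_zpowers (k g : ↥M24) :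
    MulAut.conj k • Subgroup.zpowers g = Subgroup.zpowers (k * g * k⁻¹) := by
  ext x
  rw [Subgroup.mem_pointwise_smul_iff_inv_smul_mem, Subgroup.mem_zpowers_iff, Subgroup.mem_zpowers_iff]
  have e : (MulAut.conj k)⁻¹ • x = k⁻¹ * x * k := by
    rw [MulAut.smul_def, MulAut.conj_inv_apply]
  rw [e]
  constructor
  · rintro ⟨n, hn⟩
    refine ⟨n, ?_⟩
    rw [conj_zpow, hn]; group
  · rintro ⟨n, hn⟩
    refine ⟨n, ?_⟩
    rw [← hn, conj_zpow]; group

/-- structure of a subgroup of order three. -/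
theorem exists_gen (X : Subgroup ↥M24) (hX : Nat.card X = 3) :
    ∃ g : ↥M24, g ≠ 1 ∧ g ^ 3 = 1 ∧ X = Subgroup.zpowers g := by
  have hfin : Finite X := Nat.finite_of_card_ne_zero (by rw [hX]; norm_num)
  have hne : X ≠ ⊥ := by
    intro h
    rw [h, Subgroup.card_bot] at hX
    norm_num at hX
  obtain ⟨⟨g, hgX⟩, hg1⟩ := (Subgroup.ne_bot_iff_exists_ne_one).mp hne
  have hg1' : g ≠ 1 := fun h => hg1 (Subtype.ext h)
  have hdvd : orderOf g ∣ 3 := by
    rw [← hX]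
    exact Subgroup.orderOf_dvd_natCard X hgX
  have hord : orderOf g = 3 := by
    rcases (Nat.dvd_prime Nat.prime_three).mp hdvd with h | h
    · exact absurd (orderOf_eq_one_iff.mp h) hg1'
    · exact h
  refine ⟨g, hg1', ?_, ?_⟩
  · rw [← hord]; exact pow_orderOf_eq_one g
  · symm
    apply Subgroup.eq_of_le_of_card_ge (Subgroup.zpowers_le.mpr hgX)
    rw [Nat.card_zpowers, hord, hX]

theorem fixSet_zpowers (g : ↥M24) :
    fixSet (Subgroup.zpowers g) =
      ((Finset.univ.filter fun p => (g : Equiv.Perm GolayPt) p = p : Finset GolayPt) : Set GolayPt) := by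
  ext p
  unfold fixSet
  rw [Set.mem_ofPred_eq, Finset.mem_coe, Finset.mem_filter]
  constructor
  · intro h
    exact ⟨Finset.mem_univ _, h g (Subgroup.mem_zpowers g)⟩
  · rintro ⟨-, h⟩ x hx
    have h1 : (g : Equiv.Perm GolayPt) ∈ MulAction.stabilizer (Equiv.Perm GolayPt) p := h
    have h2 : Subgroup.zpowers (g : Equiv.Perm GolayPt) ≤ MulAction.stabilizer (Equiv.Perm GolayPt) p :=
      Subgroup.zpowers_le.mpr h1
    exact h2 ((mem_zpowers_coe_iff x g).mp hx)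

theorem ncard_fixSet_zpowers (g : ↥M24) :
    (fixSet (Subgroup.zpowers g)).ncard =
      (Finset.univ.filter fun p => (g : Equiv.Perm GolayPt) p = p).card := by
  rw [fixSet_zpowers, Set.ncard_coe_finset]

theorem coe_pow3 (g : ↥M24) (h : g ^ 3 = 1) : (g : Equiv.Perm GolayPt) ^ 3 = 1 := by
  have := congrArg (fun z : ↥M24 => (z : Equiv.Perm GolayPt)) h
  simpa using this

theorem coe_ne_one (g : ↥M24) (h : g ≠ 1) : (g : Equiv.Perm GolayPt) ≠ 1 :=
  fun h' => h (Subtype.ext h')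

theorem tz_M24 : permOf Cfsg.Agent.S5602.tz ∈ M24 := permOf_mem_M24 _ Cfsg.Agent.S5602.tz_inM24

theorem r6_M24 : permOf r6 ∈ M24 := permOf_mem_M24 _ (Rlist_spec r6_mem).1

theorem r6_ne_one : permOf r6 ≠ 1 := by
  intro h
  have hP := isPerm_of_inM24 _ (Rlist_spec r6_mem).1
  have h1 := permOf_apply_dec r6 hP 0 (by norm_num)
  rw [h, r6_props.2.2, Equiv.Perm.one_apply] at h1
  have := congrArg enc h1
  rw [enc_dec 0 (by norm_num), enc_dec 1 (by norm_num)] at this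
  norm_num at this

/-- the standard subgroup to which a subgroup of order three is conjugate. -/
theorem exists_conj_std (g : ↥M24) (hg1 : g ≠ 1) (hg3 : g ^ 3 = 1) :
    ((Finset.univ.filter fun p => (g : Equiv.Perm GolayPt) p = p).card = 6 ∧
      ∃ k : ↥M24, MulAut.conj k • Subgroup.zpowers g =
        Subgroup.zpowers (⟨permOf Cfsg.Agent.S5602.tz, tz_M24⟩ : ↥M24)) ∨
    ((Finset.univ.filter fun p => (g : Equiv.Perm GolayPt) p = p).card = 0 ∧
      ∃ k : ↥M24, MulAut.conj k • Subgroup.zpowers g =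
        Subgroup.zpowers (⟨permOf r6, r6_M24⟩ : ↥M24)) := by
  have h3 := coe_pow3 g hg3
  have h1 := coe_ne_one g hg1
  rcases card_fixed_order3 g.2 h3 h1 with hc | hc
  · left
    refine ⟨hc, ?_⟩
    obtain ⟨k, hk, hab, hba⟩ := order3A_conj g.2 h3 h1 hc
    refine ⟨⟨k, hk⟩, ?_⟩
    rw [conj_smul_zpowers]
    apply zpowers_eq_of_mem
    · rw [mem_zpowers_coe_iff]; exact hab
    · rw [mem_zpowers_coe_iff]; exact hba
  · right
    refine ⟨hc, ?_⟩
    have h0 : ∀ p, (g : Equiv.Perm GolayPt) p ≠ p := by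
      intro p hp
      have : p ∈ (Finset.univ.filter fun p => (g : Equiv.Perm GolayPt) p = p) :=
        Finset.mem_filter.mpr ⟨Finset.mem_univ _, hp⟩
      rw [Finset.card_eq_zero] at hc
      rw [hc] at this
      exact absurd this (Finset.notMem_empty _)
    obtain ⟨k, hk, hconj⟩ := order3B_conj g.2 h3 h0
    refine ⟨⟨k, hk⟩, ?_⟩
    rw [conj_smul_zpowers]
    congr 1
    exact Subtype.ext hconj

theorem result : (∀ X : Subgroup ↥Cfsg.M24, Nat.card X = 3 → {p : Cfsg.GolayPt | ∀ x ∈ X, ((x : ↥Cfsg.M24) : Equiv.Perm Cfsg.GolayPt) p = p}.ncard = 6 ∨ {p : Cfsg.GolayPt | ∀ x ∈ X, ((x : ↥Cfsg.M24) : Equiv.Perm Cfsg.GolayPt) p = p}.ncard = 0) ∧ (∃ X : Subgroup ↥Cfsg.M24, Nat.card X = 3 ∧ {p : Cfsg.GolayPt | ∀ x ∈ X, ((x : ↥Cfsg.M24) : Equiv.Perm Cfsg.GolayPt) p = p}.ncard = 6) ∧ (∃ X : Subgroup ↥Cfsg.M24, Nat.card X = 3 ∧ {p : Cfsg.GolayPt | ∀ x ∈ X, ((x : ↥Cfsg.M24) : Equiv.Perm Cfsg.GolayPt) p = p}.ncard = 0) ∧ ∀ X Y : Subgroup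 ↥Cfsg.M24, Nat.card X = 3 → Nat.card Y = 3 → {p : Cfsg.GolayPt | ∀ x ∈ X, ((x : ↥Cfsg.M24) : Equiv.Perm Cfsg.GolayPt) p = p}.ncard = {p : Cfsg.GolayPt | ∀ x ∈ Y, ((x : ↥Cfsg.M24) : Equiv.Perm Cfsg.GolayPt) p = p}.ncard → ∃ k : ↥Cfsg.M24, MulAut.conj k • X = Y := by
  have htzP := Cfsg.Agent.S5602.tz_isPerm
  have hr6P := isPerm_of_inM24 _ (Rlist_spec r6_mem).1
  have hstd : ∀ (q : ℕ) (hq : isPerm q = true) (hqM : permOf q ∈ M24), isCube1 q = true → permOf q ≠ 1 →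
      Nat.card (Subgroup.zpowers (⟨permOf q, hqM⟩ : ↥M24)) = 3 := by
    intro q hq hqM hc hne
    rw [Nat.card_zpowers]
    have : Fact (Nat.Prime 3) := ⟨Nat.prime_three⟩
    apply orderOf_eq_prime
    · exact Subtype.ext (by simpa using permOf_pow3_of_isCube1 hq hc)
    · exact fun h => hne (congrArg Subtype.val h)
  refine ⟨?_, ?_, ?_, ?_⟩
  · intro X hX
    obtain ⟨g, hg1, hg3, rfl⟩ := exists_gen X hX
    have := ncard_fixSet_zpowers g
    unfold fixSet at this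
    rw [this]
    exact card_fixed_order3 g.2 (coe_pow3 g hg3) (coe_ne_one g hg1)
  · refine ⟨Subgroup.zpowers (⟨permOf Cfsg.Agent.S5602.tz, tz_M24⟩ : ↥M24),
      hstd _ htzP tz_M24 tz_props.1 Cfsg.Agent.S5602.tz_ne_one, ?_⟩
    have := ncard_fixSet_zpowers (⟨permOf Cfsg.Agent.S5602.tz, tz_M24⟩ : ↥M24)
    unfold fixSet at this
    rw [this]
    exact (card_fixed_permOf _ htzP).trans tz_props.2
  · refine ⟨Subgroup.zpowers (⟨permOf r6, r6_M24⟩ : ↥M24),
      hstd _ hr6P r6_M24 r6_props.1 r6_ne_one, ?_⟩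
    have := ncard_fixSet_zpowers (⟨permOf r6, r6_M24⟩ : ↥M24)
    unfold fixSet at this
    rw [this]
    exact (card_fixed_permOf _ hr6P).trans r6_props.2.1
  · intro X Y hX hY hXY
    obtain ⟨g, hg1, hg3, rfl⟩ := exists_gen X hX
    obtain ⟨g', hg1', hg3', rfl⟩ := exists_gen Y hY
    have e1 := ncard_fixSet_zpowers g
    have e2 := ncard_fixSet_zpowers g'
    unfold fixSet at e1 e2
    rw [e1, e2] at hXY
    have hfin : ∀ (k k' : ↥M24) (W : Subgroup ↥M24), MulAut.conj k • Subgroup.zpowers g = W →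
        MulAut.conj k' • Subgroup.zpowers g' = W →
        ∃ k : ↥M24, MulAut.conj k • Subgroup.zpowers g = Subgroup.zpowers g' := by
      intro k k' W h1 h2
      refine ⟨k'⁻¹ * k, ?_⟩
      rw [map_mul, mul_smul, h1, ← h2, map_inv, inv_smul_smul]
    rcases exists_conj_std g hg1 hg3 with ⟨hc, k, hk⟩ | ⟨hc, k, hk⟩ <;>
      rcases exists_conj_std g' hg1' hg3' with ⟨hc', k', hk'⟩ | ⟨hc', k', hk'⟩
    · exact hfin k k' _ hk hk'
    · omega
    · omega
    · exact hfin k k' _ hk hk'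

end Cfsg.Agent.S5601
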