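import Cfsg.Statements.S5605
import Cfsg.Agent.Lib.Helper28.M24FixConj
import Cfsg.Agent.Lib.Helper28.M24Count

set_option autoImplicit false
open scoped Pointwise
open Cfsg

namespace Cfsg.Agent.S5605
open Cfsg.Agent.Lib.Helper28.GolayCode Cfsg.Agent.Lib.Helper28.M24Pairs Cfsg.Agent.Lib.Helper28.M24Fam
  Cfsg.Agent.Lib.Helper28.M24OctadFix

noncomputable def countOK (t : ℕ) : Bool :=
  Nat.beq t idP || (Nat.beq (octadList.filter (fixS t)).length 71 &&
    Nat.beq (trioData.filter (fixF t)).length 99 && Nat.beq (sextetData.filter (fixF t)).length 91)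

set_option maxRecDepth 100000 in
theorem counts_ok : Plist.all countOK = true := by decide +kernel

theorem result (g : Equiv.Perm Cfsg.GolayPt) (hg : g ∈ Cfsg.M24) (h₂ : orderOf g = 2) (h₈ : (Finset.univ.filter fun p => g p = p).card = 8) : {o : Finset Cfsg.GolayPt | o ∈ Cfsg.octads ∧ g • o = o}.ncard = 71 ∧ {T : Finset (Finset Cfsg.GolayPt) | T ∈ Cfsg.trios ∧ g • T = T}.ncard = 99 ∧ {S : Finset (Finset Cfsg.GolayPt) | S ∈ Cfsg.sextets ∧ g • S = S}.ncard = 91 := by
  classical
  set F : Finset GolayPt := Finset.univ.filter fun p => g p = p with hFdef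
  have hF : ∀ p ∈ F, g p = p := fun p hp => (Finset.mem_filter.mp hp).2
  have hg2 : g ^ 2 ^ 1 = 1 := by
    rw [pow_one, ← h₂]; exact pow_orderOf_eq_one g
  have hg1 : g ≠ 1 := by
    rintro rfl
    rw [orderOf_one] at h₂
    norm_num at h₂
  obtain ⟨s5, hs5, h5⟩ := Finset.exists_subset_card_eq (show 5 ≤ F.card by rw [h₈]; norm_num)
  obtain ⟨o, ho, hso⟩ := exists_octad_of_five s5 h5
  have h5' : 5 ≤ (o ∩ F).card := by
    rw [← h5]
    exact Finset.card_le_card (Finset.subset_inter hso hs5)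
  have hgo : g • o = o := smul_octad_eq_of_fix hg ho F hF h5'
  have hmod := @card_filter_fixed_modEq g 2 1 ⟨Nat.prime_two⟩ hg2 o hgo
  have hoF : o ∩ F = o.filter fun x => g x = x := by
    ext x
    simp [hFdef]
  rw [← hoF, ho.2] at hmod
  have h6 : 6 ≤ (o ∩ F).card := by
    have : (o ∩ F).card % 2 = 8 % 2 := hmod
    omega
  obtain ⟨h, hh, -, t, ht, hconj⟩ := exists_conj_Plist hg ho F hF h6
  have htid : t ≠ idP := by
    rintro rfl
    rw [permOf_idP] at hconj
    apply hg1
    have := congrArg (fun z => h⁻¹ * z * h) hconj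
    simpa [mul_assoc] using this
  have hP := isPerm_of_inM24 _ (Plist_inM24 ht)
  have hc := List.all_eq_true.mp counts_ok t ht
  unfold countOK at hc
  rw [Bool.or_eq_true, nat_beq_iff] at hc
  rcases hc with hc | hc
  · exact absurd hc htid
  simp only [Bool.and_eq_true, nat_beq_iff] at hc
  obtain ⟨⟨hc1, hc2⟩, hc3⟩ := hc
  refine ⟨?_, ?_, ?_⟩
  · rw [← ncard_fixed_conj M24 octads (fun σ hσ x hx => smul_mem_octads hσ hx) g h hh, hconj,
      ncard_fixed_set octadData octadList_lt t hP, hc1]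
  · rw [← ncard_fixed_conj M24 trios (fun σ hσ x hx => smul_mem_trios hσ hx) g h hh, hconj,
      ncard_fixed_fam trioFamData trioData_lt t hP, hc2]
  · rw [← ncard_fixed_conj M24 sextets (fun σ hσ x hx => smul_mem_sextets hσ hx) g h hh, hconj,
      ncard_fixed_fam sextetFamData sextetData_lt t hP, hc3]

end Cfsg.Agent.S5605
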