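import Cfsg.Statements.S5606
import Cfsg.Agent.Lib.Helper28.M24Invol
import Cfsg.Agent.Lib.Helper28.M24Count

set_option autoImplicit false
open scoped Pointwise
open Cfsg

namespace Cfsg.Agent.S5606
open Cfsg.Agent.Lib.Helper28.GolayCode Cfsg.Agent.Lib.Helper28.M24Pairs Cfsg.Agent.Lib.Helper28.M24Fam
  Cfsg.Agent.Lib.Helper28.M24OctadFix

noncomputable def countOK (t : ℕ) : Bool :=
  !(isFpfInvol t) || (Nat.beq (octadList.filter (fixS t)).length 15 &&
    Nat.beq (trioData.filter (fixF t)).length 75 && Nat.beq (sextetData.filter (fixF t)).length 51)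

set_option maxRecDepth 100000 in
theorem counts_ok : Qlist.all countOK = true := by decide +kernel

theorem result (g : Equiv.Perm Cfsg.GolayPt) (hg : g ∈ Cfsg.M24) (h₂ : orderOf g = 2) (h₀ : ∀ p, g p ≠ p) : {o : Finset Cfsg.GolayPt | o ∈ Cfsg.octads ∧ g • o = o}.ncard = 15 ∧ {T : Finset (Finset Cfsg.GolayPt) | T ∈ Cfsg.trios ∧ g • T = T}.ncard = 75 ∧ {S : Finset (Finset Cfsg.GolayPt) | S ∈ Cfsg.sextets ∧ g • S = S}.ncard = 51 := by
  have hg2 : g ^ 2 = 1 := by
    rw [← h₂]; exact pow_orderOf_eq_one g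
  obtain ⟨h, hh, t, ht, hfi, hconj⟩ := fpf_invol_conj hg hg2 h₀
  have hP := isPerm_of_inM24 _ (Qlist_inM24 ht)
  have hc := List.all_eq_true.mp counts_ok t ht
  unfold countOK at hc
  rw [hfi] at hc
  simp only [Bool.not_true, Bool.false_or, Bool.and_eq_true, nat_beq_iff] at hc
  obtain ⟨⟨hc1, hc2⟩, hc3⟩ := hc
  refine ⟨?_, ?_, ?_⟩
  · rw [← ncard_fixed_conj M24 octads (fun σ hσ x hx => smul_mem_octads hσ hx) g h hh, hconj,
      ncard_fixed_set octadData octadList_lt t hP, hc1]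
  · rw [← ncard_fixed_conj M24 trios (fun σ hσ x hx => smul_mem_trios hσ hx) g h hh, hconj,
      ncard_fixed_fam trioFamData trioData_lt t hP, hc2]
  · rw [← ncard_fixed_conj M24 sextets (fun σ hσ x hx => smul_mem_sextets hσ hx) g h hh, hconj,
      ncard_fixed_fam sextetFamData sextetData_lt t hP, hc3]

end Cfsg.Agent.S5606
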