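import Cfsg.Statements.S5608
import Cfsg.Agent.S5600
import Cfsg.Agent.S5602
import Cfsg.Agent.Lib.Helper28.M24Classes

set_option autoImplicit false
open scoped Pointwise
open Cfsg

namespace Cfsg.Agent.S5608
open Cfsg.Agent.Lib.Helper28.GolayCode Cfsg.Agent.Lib.Helper28.M24Pairs
  Cfsg.Agent.Lib.Helper28.M24OctadFix

/-- an element of `M24` swapping `23, 0`, `1, 2` and `3, 4`. -/
def τ₂ : ℕ := 0x156941e11535c6abe93932c320457

theorem τ₂_inM24 : inM24 τ₂ = true := by decide +kernel

theorem τ₂_img : img τ₂ 23 = 0 ∧ img τ₂ 0 = 23 ∧ img τ₂ 1 = 2 ∧ img τ₂ 2 = 1 ∧ img τ₂ 3 = 4 ∧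
    img τ₂ 4 = 3 := by decide +kernel

theorem τ₂_noncomm : img Cfsg.Agent.S5602.tz (img τ₂ 5) ≠ img τ₂ (img Cfsg.Agent.S5602.tz 5) := by
  decide +kernel

/-- the indices of the base tuple of six points not in an octad. -/
def cL : List ℕ := [23, 0, 1, 2, 3, 4]

theorem bB_eq : ∀ j < 6, Cfsg.Agent.S5600.bB j = dec (cL.getD j 0) := by
  intro j hj
  interval_cases j <;> rfl

theorem bB_inj : ∀ i < 6, ∀ j < 6, Cfsg.Agent.S5600.bB i = Cfsg.Agent.S5600.bB j → i = j := by
  intro i hi j hj h
  rw [bB_eq i hi, bB_eq j hj] at h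
  have := congrArg enc h
  interval_cases i <;> interval_cases j <;> first | rfl | (exfalso; revert this; decide +kernel)

theorem bB_not_octad : ¬ ∃ o ∈ octads, ∀ j < 6, Cfsg.Agent.S5600.bB j ∈ o := by
  classical
  rintro ⟨o, ho, h⟩
  have hO : Cfsg.Agent.Lib.Helper3.Golay.bitSet Cfsg.Agent.Lib.Helper3.Golay.O0 ∈ octads :=
    Cfsg.Agent.Lib.Helper3.Golay.O0_mem
  have h5 : 5 ≤ (o ∩ Cfsg.Agent.Lib.Helper3.Golay.bitSet Cfsg.Agent.Lib.Helper3.Golay.O0).card := by
    have hsub : (Finset.range 5).image Cfsg.Agent.Lib.Helper3.Golay.β ⊆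
        o ∩ Cfsg.Agent.Lib.Helper3.Golay.bitSet Cfsg.Agent.Lib.Helper3.Golay.O0 := by
      intro p hp
      rw [Finset.mem_image] at hp
      obtain ⟨i, hi, rfl⟩ := hp
      rw [Finset.mem_range] at hi
      rw [Finset.mem_inter]
      refine ⟨?_, Cfsg.Agent.S5600.β_mem_O0 i (by omega)⟩
      have := h i (by omega)
      unfold Cfsg.Agent.S5600.bB at this
      rwa [if_neg (by omega)] at this
    have hcard : ((Finset.range 5).image Cfsg.Agent.Lib.Helper3.Golay.β).card = 5 := by
      rw [Finset.card_image_of_injOn, Finset.card_range]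
      intro i hi j hj hij
      rw [Finset.mem_coe, Finset.mem_range] at hi hj
      exact Cfsg.Agent.Lib.Helper3.Golay.β_injective (by omega) (by omega) hij
    rw [← hcard]
    exact Finset.card_le_card hsub
  have := octad_eq_of_five _ _ ho hO h5
  have h6 := h 5 (by norm_num)
  rw [this] at h6
  exact Cfsg.Agent.S5600.β6_not_mem h6

theorem result (x s : Equiv.Perm Cfsg.GolayPt) (hx : x ∈ Cfsg.M24) (hs : s ∈ Cfsg.M24) (h₃ : orderOf x = 3) (h₂ : orderOf s = 2) (hc : Commute x s) : ((Finset.univ.filter fun p => x p = p).card = 6 ∧ (Finset.univ.filter fun p => s p = p).card = 8) ∨ ((Finset.univ.filter fun p => x p = p).card = 0 ∧ (Finset.univ.filter fun p => s p = p).card = 0) := by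
  classical
  have hx3 : x ^ 3 = 1 := by rw [← h₃]; exact pow_orderOf_eq_one x
  have hs2 : s ^ 2 = 1 := by rw [← h₂]; exact pow_orderOf_eq_one s
  have hx1 : x ≠ 1 := by
    rintro rfl
    rw [orderOf_one] at h₃
    norm_num at h₃
  have hs1 : s ≠ 1 := by
    rintro rfl
    rw [orderOf_one] at h₂
    norm_num at h₂
  have hcomm : ∀ p, x (s p) = s (x p) := by
    intro p
    have := congrArg (fun f : Equiv.Perm GolayPt => f p) hc.eq
    simpa [Equiv.Perm.mul_apply] using this
  have hsinv : ∀ p, s (s p) = p := by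
    intro p
    have := congrArg (fun f : Equiv.Perm GolayPt => f p) hs2
    simpa [pow_two] using this
  rcases card_fixed_order3 hx hx3 hx1 with hcx | hcx <;>
    rcases card_fixed_invol hs hs2 hs1 with hcs | hcs
  · exact Or.inl ⟨hcx, hcs⟩
  · -- six fixed points of `x`, none of `s`: impossible
    exfalso
    have hs0 : ∀ p, s p ≠ p := by
      intro p hp
      have : p ∈ (Finset.univ.filter fun p => s p = p) :=
        Finset.mem_filter.mpr ⟨Finset.mem_univ _, hp⟩
      rw [Finset.card_eq_zero] at hcs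
      rw [hcs] at this
      exact absurd this (Finset.notMem_empty _)
    set F : Finset GolayPt := Finset.univ.filter fun p => x p = p with hFdef
    have hF : ∀ p ∈ F, x p = p := fun p hp => (Finset.mem_filter.mp hp).2
    have hFmem : ∀ p, x p = p → p ∈ F := fun p hp => Finset.mem_filter.mpr ⟨Finset.mem_univ _, hp⟩
    have hsF : ∀ p ∈ F, s p ∈ F := by
      intro p hp
      apply hFmem
      rw [hcomm, hF p hp]
    -- the fixed points do not lie in an octad
    have hno : ¬ ∃ o ∈ octads, F ⊆ o := by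
      rintro ⟨o, ho, hFo⟩
      have hoF : o ∩ F = F := Finset.inter_eq_right.mpr hFo
      have hgo : x • o = o := smul_octad_eq_of_fix hx ho F hF (by rw [hoF, hcx]; norm_num)
      have hmod := @card_filter_fixed_modEq x 3 1 ⟨Nat.prime_three⟩ (by rw [pow_one]; exact hx3) o hgo
      have hoF' : o ∩ F = o.filter fun p => x p = p := by
        ext p
        simp [hFdef]
      rw [← hoF', hoF, hcx, ho.2] at hmod
      exact absurd hmod (by decide)
    -- enumerate the fixed points along the involution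
    obtain ⟨a, haF⟩ : ∃ a, a ∈ F := Finset.card_pos.mp (by rw [hcx]; norm_num)
    obtain ⟨c, hcF, hc'⟩ : ∃ c ∈ F, c ∉ ({a, s a} : Finset GolayPt) := by
      apply Finset.exists_mem_notMem_of_card_lt_card
      have : ({a, s a} : Finset GolayPt).card ≤ 2 := Finset.card_le_two
      rw [hcx]; omega
    rw [Finset.mem_insert, Finset.mem_singleton, not_or] at hc'
    obtain ⟨e, heF, he⟩ : ∃ e ∈ F, e ∉ ({a, s a, c, s c} : Finset GolayPt) := by
      apply Finset.exists_mem_notMem_of_card_lt_card
      have : ({a, s a, c, s c} : Finset GolayPt).card ≤ 4 := Finset.card_le_four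
      rw [hcx]; omega
    simp only [Finset.mem_insert, Finset.mem_singleton, not_or] at he
    have hsw : ∀ p q, s p = q → p = s q := fun p q h => by rw [← h, hsinv]
    set l : List GolayPt := [a, s a, c, s c, e, s e] with hl
    have hnd : l.Nodup := by
      simp only [hl, List.nodup_cons, List.mem_cons, List.not_mem_nil, or_false, not_or,
        List.nodup_nil, not_false_eq_true, and_true]
      refine ⟨⟨fun h => hs0 a h.symm, fun h => hc'.1 h.symm, ?_, fun h => he.1 h.symm, ?_⟩,
        ⟨fun h => hc'.2 h.symm, ?_, fun h => he.2.1 h.symm, ?_⟩,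
        ⟨fun h => hs0 c h.symm, fun h => he.2.2.1 h.symm, ?_⟩, ⟨fun h => he.2.2.2 h.symm, ?_⟩,
        fun h => hs0 e h.symm⟩
      · intro h
        exact hc'.2 (hsw c a h.symm)
      · intro h
        exact he.2.1 (hsw e a h.symm)
      · intro h
        exact hc'.1 (s.injective h).symm
      · intro h
        exact he.1 (s.injective h).symm
      · intro h
        exact he.2.2.2 (hsw e c h.symm)
      · intro h
        exact he.2.2.1 (s.injective h).symm
    set A : ℕ → GolayPt := fun i => l.getD i a with hA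
    have hAF : ∀ i < 6, A i ∈ F := by
      intro i hi
      interval_cases i
      · exact haF
      · exact hsF _ haF
      · exact hcF
      · exact hsF _ hcF
      · exact heF
      · exact hsF _ heF
    have hAinj : ∀ i < 6, ∀ j < 6, A i = A j → i = j := by
      intro i hi j hj h
      simp only [hA] at h
      rw [List.getD_eq_getElem _ _ (by simpa [hl] using hi),
        List.getD_eq_getElem _ _ (by simpa [hl] using hj)] at h
      exact (List.Nodup.getElem_inj_iff hnd).mp h
    have hsA : ∀ i < 6, s (A i) = A (πQ.getD i 0) := by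
      intro i hi
      interval_cases i
      · rfl
      · exact hsinv a
      · rfl
      · exact hsinv c
      · rfl
      · exact hsinv e
    have hFsub : F ⊆ (Finset.range 6).image A := by
      have hsub : (Finset.range 6).image A ⊆ F := by
        intro p hp
        rw [Finset.mem_image] at hp
        obtain ⟨i, hi, rfl⟩ := hp
        exact hAF i (Finset.mem_range.mp hi)
      have hcard : ((Finset.range 6).image A).card = 6 := by
        rw [Finset.card_image_of_injOn, Finset.card_range]
        intro i hi j hj hij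
        rw [Finset.mem_coe, Finset.mem_range] at hi hj
        exact hAinj i hi j hj hij
      rw [Finset.eq_of_subset_of_card_le hsub (by rw [hcard, hcx])]
    have hAno : ¬ ∃ o ∈ octads, ∀ j < 6, A j ∈ o := by
      rintro ⟨o, ho, h⟩
      apply hno ⟨o, ho, ?_⟩
      intro p hp
      have := hFsub hp
      rw [Finset.mem_image] at this
      obtain ⟨i, hi, rfl⟩ := this
      exact h i (Finset.mem_range.mp hi)
    obtain ⟨h, hh, hmap⟩ := Cfsg.Agent.S5600.exists_map6 A Cfsg.Agent.S5600.bB hAinj bB_inj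
      ⟨fun h => absurd h hAno, fun h => absurd h bB_not_octad⟩
    -- the conjugates
    set x' : Equiv.Perm GolayPt := h * x * h⁻¹ with hx'
    set s' : Equiv.Perm GolayPt := h * s * h⁻¹ with hs'
    have hx'M : x' ∈ M24 := M24.mul_mem (M24.mul_mem hh hx) (M24.inv_mem hh)
    have hs'M : s' ∈ M24 := M24.mul_mem (M24.mul_mem hh hs) (M24.inv_mem hh)
    have hkx : ∀ z, x' (h z) = h (x z) := by
      intro z; simp [hx', Equiv.Perm.mul_apply]
    have hks : ∀ z, s' (h z) = h (s z) := by
      intro z; simp [hs', Equiv.Perm.mul_apply]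
    have hx'1 : x' ≠ 1 := by
      intro h'
      apply hx1
      have := congrArg (fun z => h⁻¹ * z * h) h'
      simpa [hx', mul_assoc] using this
    have hcomm' : Commute x' s' := by
      show x' * s' = s' * x'
      rw [hx', hs']
      have e1 : h * x * h⁻¹ * (h * s * h⁻¹) = h * (x * s) * h⁻¹ := by group
      have e2 : h * s * h⁻¹ * (h * x * h⁻¹) = h * (s * x) * h⁻¹ := by group
      rw [e1, e2, hc.eq]
    have hx'b : ∀ j < 6, x' (Cfsg.Agent.S5600.bB j) = Cfsg.Agent.S5600.bB j := by
      intro j hj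
      rw [← hmap j hj, hkx, hF _ (hAF j hj)]
    have hs'b : ∀ j < 6, s' (Cfsg.Agent.S5600.bB j) = Cfsg.Agent.S5600.bB (πQ.getD j 0) := by
      intro j hj
      rw [← hmap j hj, hks, hsA j hj, hmap _ (by interval_cases j <;> decide)]
    -- membership in the group of order three
    have hZmem : ∀ k : Equiv.Perm GolayPt, k ∈ M24 →
        (∀ j < 6, k (Cfsg.Agent.S5600.bB j) = Cfsg.Agent.S5600.bB j) →
        k ∈ (M24 ⊓ Cfsg.Agent.Lib.Helper3.Golay.fixB 5) ⊓
          MulAction.stabilizer (Equiv.Perm GolayPt) (Cfsg.Agent.Lib.Helper3.Golay.β 6) := by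
      intro k hk hfix
      refine Subgroup.mem_inf.mpr ⟨Subgroup.mem_inf.mpr ⟨hk, ?_⟩, ?_⟩
      · rw [Cfsg.Agent.Lib.Helper3.Golay.mem_fixB]
        intro j hj
        have := hfix j (by omega)
        unfold Cfsg.Agent.S5600.bB at this
        rwa [if_neg (by omega)] at this
      · rw [MulAction.mem_stabilizer_iff, Equiv.Perm.smul_def]
        exact hfix 5 (by norm_num)
    set Z := (M24 ⊓ Cfsg.Agent.Lib.Helper3.Golay.fixB 5) ⊓
      MulAction.stabilizer (Equiv.Perm GolayPt) (Cfsg.Agent.Lib.Helper3.Golay.β 6) with hZ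
    have hx'Z : x' ∈ Z := hZmem x' hx'M hx'b
    have hτP := isPerm_of_inM24 _ τ₂_inM24
    have hτM : permOf τ₂ ∈ M24 := permOf_mem_M24 _ τ₂_inM24
    have hτb : ∀ j < 6, permOf τ₂ (Cfsg.Agent.S5600.bB j) = Cfsg.Agent.S5600.bB (πQ.getD j 0) := by
      obtain ⟨i1, i2, i3, i4, i5, i6⟩ := τ₂_img
      intro j hj
      rw [bB_eq j hj, bB_eq _ (by interval_cases j <;> decide)]
      interval_cases j
      · show permOf τ₂ (dec 23) = dec 0
        rw [permOf_apply_dec τ₂ hτP 23 (by norm_num), i1]
      · show permOf τ₂ (dec 0) = dec 23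
        rw [permOf_apply_dec τ₂ hτP 0 (by norm_num), i2]
      · show permOf τ₂ (dec 1) = dec 2
        rw [permOf_apply_dec τ₂ hτP 1 (by norm_num), i3]
      · show permOf τ₂ (dec 2) = dec 1
        rw [permOf_apply_dec τ₂ hτP 2 (by norm_num), i4]
      · show permOf τ₂ (dec 3) = dec 4
        rw [permOf_apply_dec τ₂ hτP 3 (by norm_num), i5]
      · show permOf τ₂ (dec 4) = dec 3
        rw [permOf_apply_dec τ₂ hτP 4 (by norm_num), i6]
    set w : Equiv.Perm GolayPt := (permOf τ₂)⁻¹ * s' with hw
    have hwZ : w ∈ Z := by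
      apply hZmem w (M24.mul_mem (M24.inv_mem hτM) hs'M)
      intro j hj
      rw [hw, Equiv.Perm.mul_apply, hs'b j hj, Equiv.Perm.inv_eq_iff_eq, hτb j hj]
    have hcard := Cfsg.Agent.S5600.card_stab_β6
    have : Fact (Nat.Prime 3) := ⟨Nat.prime_three⟩
    have ha1 : (⟨x', hx'Z⟩ : ↥Z) ≠ 1 := fun h => hx'1 (congrArg Subtype.val h)
    have hwx : w ∈ Subgroup.zpowers x' := by
      have := mem_zpowers_of_prime_card hcard ha1 (g' := (⟨w, hwZ⟩ : ↥Z))
      obtain ⟨k, hk⟩ := Subgroup.mem_zpowers_iff.mp this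
      exact Subgroup.mem_zpowers_iff.mpr ⟨k, by simpa using congrArg Subtype.val hk⟩
    have hzx : permOf Cfsg.Agent.S5602.tz ∈ Subgroup.zpowers x' := by
      have := mem_zpowers_of_prime_card hcard ha1
        (g' := (⟨permOf Cfsg.Agent.S5602.tz, Cfsg.Agent.S5602.tz_mem⟩ : ↥Z))
      obtain ⟨k, hk⟩ := Subgroup.mem_zpowers_iff.mp this
      exact Subgroup.mem_zpowers_iff.mpr ⟨k, by simpa using congrArg Subtype.val hk⟩
    -- `x'` commutes with `permOf τ₂`
    have hcw : Commute x' w := by
      obtain ⟨k, hk⟩ := Subgroup.mem_zpowers_iff.mp hwx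
      rw [← hk]
      exact (Commute.refl x').zpow_right k
    have hτeq : permOf τ₂ = s' * w⁻¹ := by
      rw [hw]; group
    have hcτ : Commute x' (permOf τ₂) := by
      rw [hτeq]
      exact hcomm'.mul_right hcw.inv_right
    have hcz : Commute (permOf Cfsg.Agent.S5602.tz) (permOf τ₂) := by
      obtain ⟨k, hk⟩ := Subgroup.mem_zpowers_iff.mp hzx
      rw [← hk]
      exact hcτ.zpow_left k
    have hpt := congrArg (fun f : Equiv.Perm GolayPt => f (dec 5)) hcz.eq
    simp only [Equiv.Perm.mul_apply] at hpt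
    have htzP := Cfsg.Agent.S5602.tz_isPerm
    rw [permOf_apply_dec τ₂ hτP 5 (by norm_num),
      permOf_apply_dec _ htzP _ (img_lt_of_isPerm τ₂ hτP 5 (by norm_num)),
      permOf_apply_dec _ htzP 5 (by norm_num),
      permOf_apply_dec τ₂ hτP _ (img_lt_of_isPerm _ htzP 5 (by norm_num))] at hpt
    have := congrArg enc hpt
    rw [enc_dec _ (img_lt_of_isPerm _ htzP _ (img_lt_of_isPerm τ₂ hτP 5 (by norm_num))),
      enc_dec _ (img_lt_of_isPerm τ₂ hτP _ (img_lt_of_isPerm _ htzP 5 (by norm_num)))] at this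
    exact τ₂_noncomm this
  · -- no fixed points of `x`, eight of `s`: impossible
    exfalso
    set Fs : Finset GolayPt := Finset.univ.filter fun p => s p = p with hFs
    have hxFs : x • Fs = Fs := by
      apply Finset.eq_of_subset_of_card_le
      · intro p hp
        obtain ⟨q, hq, rfl⟩ := Finset.mem_smul_finset.mp hp
        rw [hFs, Finset.mem_filter] at hq ⊢
        refine ⟨Finset.mem_univ _, ?_⟩
        show s (x q) = x q
        rw [← hcomm, hq.2]
      · rw [Finset.card_smul_finset]
    have hmod := @card_filter_fixed_modEq x 3 1 ⟨Nat.prime_three⟩ (by rw [pow_one]; exact hx3) Fs hxFs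
    rw [hcs] at hmod
    have hpos : 0 < (Fs.filter fun p => x p = p).card := by
      have : (Fs.filter fun p => x p = p).card % 3 = 8 % 3 := hmod
      omega
    obtain ⟨p, hp⟩ := Finset.card_pos.mp hpos
    have hp' : p ∈ (Finset.univ.filter fun p => x p = p) :=
      Finset.mem_filter.mpr ⟨Finset.mem_univ _, (Finset.mem_filter.mp hp).2⟩
    rw [Finset.card_eq_zero] at hcx
    rw [hcx] at hp'
    exact absurd hp' (Finset.notMem_empty _)
  · exact Or.inr ⟨hcx, hcs⟩

end Cfsg.Agent.S5608
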