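import Cfsg.Statements.S5609
import Cfsg.Agent.Lib.Helper28.M24Sextet

set_option autoImplicit false
open scoped Pointwise
open Cfsg

namespace Cfsg.Agent.S5609
open Cfsg.Agent.Lib.Helper28.GolayCode Cfsg.Agent.Lib.Helper28.Steiner

/-- the members of a sextet are pairwise disjoint -/
theorem sextet_disjoint {S : Finset (Finset GolayPt)} (hS : S ∈ sextets) {t u : Finset GolayPt}
    (ht : t ∈ S) (hu : u ∈ S) (hne : t ≠ u) : Disjoint t u := by
  obtain ⟨_, h4, hun⟩ := hS
  rw [Finset.disjoint_iff_inter_eq_empty, ← Finset.card_eq_zero]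
  have := Finset.card_union_add_card_inter t u
  rw [(hun t ht u hu hne).2, h4 t ht, h4 u hu] at this
  omega

/-- two octads meeting in four points have a common disjoint octad. -/
theorem common_disjoint_of_inter_four {o o' : Finset GolayPt} (ho : o ∈ octads) (ho' : o' ∈ octads)
    (h4 : (o ∩ o').card = 4) : ∃ a ∈ octads, Disjoint a o ∧ Disjoint a o' := by
  classical
  set t := o ∩ o' with ht
  have hS := sextetOf_mem_sextets t h4
  have hne : o ≠ o' := by
    intro h; rw [ht, h, Finset.inter_self, ho'.2] at h4; omega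
  have hot : o ∈ blocksThrough octads t :=
    (mem_blocksThrough _ _ _).mpr ⟨ho, Finset.inter_subset_left⟩
  have hot' : o' ∈ blocksThrough octads t :=
    (mem_blocksThrough _ _ _).mpr ⟨ho', Finset.inter_subset_right⟩
  have hu1 : o \ t ∈ sextetOf t := by
    unfold sextetOf; exact Finset.mem_insert_of_mem (Finset.mem_image_of_mem _ hot)
  have hu2 : o' \ t ∈ sextetOf t := by
    unfold sextetOf; exact Finset.mem_insert_of_mem (Finset.mem_image_of_mem _ hot')
  have htS : t ∈ sextetOf t := by unfold sextetOf; exact Finset.mem_insert_self _ _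
  -- the remaining members
  have hne1 : o \ t ≠ t := by
    intro h
    have hne' : t.Nonempty := by rw [← Finset.card_pos]; omega
    obtain ⟨x, hx⟩ := hne'
    have : x ∈ o \ t := by rw [h]; exact hx
    exact (Finset.mem_sdiff.mp this).2 hx
  have hne2 : o' \ t ≠ t := by
    intro h
    have hne' : t.Nonempty := by rw [← Finset.card_pos]; omega
    obtain ⟨x, hx⟩ := hne'
    have : x ∈ o' \ t := by rw [h]; exact hx
    exact (Finset.mem_sdiff.mp this).2 hx
  have hne3 : o' \ t ≠ o \ t := by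
    intro h
    exact hne (sdiff_injOn t hot hot' h.symm)
  have hR : ∃ R : Finset (Finset GolayPt), R.card = 3 ∧
      ∀ u, u ∈ R → u ∈ sextetOf t ∧ u ≠ t ∧ u ≠ o \ t ∧ u ≠ o' \ t := by
    refine ⟨(((sextetOf t).erase t).erase (o \ t)).erase (o' \ t), ?_, ?_⟩
    · rw [Finset.card_erase_of_mem, Finset.card_erase_of_mem, Finset.card_erase_of_mem htS,
        card_sextetOf t h4]
      · exact Finset.mem_erase.mpr ⟨hne1, hu1⟩
      · exact Finset.mem_erase.mpr ⟨hne3, Finset.mem_erase.mpr ⟨hne2, hu2⟩⟩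
    · intro u hu
      rw [Finset.mem_erase, Finset.mem_erase, Finset.mem_erase] at hu
      exact ⟨hu.2.2.2, hu.2.2.1, hu.2.1, hu.1⟩
  obtain ⟨R, hRcard, mem_R⟩ := hR
  obtain ⟨u3, hu3, u4, hu4, h34⟩ := Finset.one_lt_card.mp (by omega : 1 < R.card)
  obtain ⟨m3, n3t, n31, n32⟩ := mem_R u3 hu3
  obtain ⟨m4, n4t, n41, n42⟩ := mem_R u4 hu4
  refine ⟨u3 ∪ u4, hS.2.2 u3 m3 u4 m4 h34, ?_, ?_⟩
  · have e : o = t ∪ (o \ t) := by
      rw [Finset.union_sdiff_of_subset Finset.inter_subset_left]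
    rw [e, Finset.disjoint_union_left, Finset.disjoint_union_right, Finset.disjoint_union_right]
    exact ⟨⟨sextet_disjoint hS m3 htS n3t, sextet_disjoint hS m3 hu1 n31⟩,
      ⟨sextet_disjoint hS m4 htS n4t, sextet_disjoint hS m4 hu1 n41⟩⟩
  · have e : o' = t ∪ (o' \ t) := by
      rw [Finset.union_sdiff_of_subset Finset.inter_subset_right]
    rw [e, Finset.disjoint_union_left, Finset.disjoint_union_right, Finset.disjoint_union_right]
    exact ⟨⟨sextet_disjoint hS m3 htS n3t, sextet_disjoint hS m3 hu2 n32⟩,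
      ⟨sextet_disjoint hS m4 htS n4t, sextet_disjoint hS m4 hu2 n42⟩⟩


/-- two octads meeting in two points have no common disjoint octad. -/
theorem no_common_disjoint_of_inter_two {o o' a : Finset GolayPt} (ho : o ∈ octads)
    (ho' : o' ∈ octads) (ha : a ∈ octads) (h2 : (o ∩ o').card = 2) (h1 : Disjoint a o)
    (h1' : Disjoint a o') : False := by
  have hd := symmDiff_mem_supports o o' ho.1 ho'.1
  have hdc := card_symmDiff_add_two_mul o o'
  rw [ho.2, ho'.2, h2] at hdc
  have hda := symmDiff_mem_supports _ a hd ha.1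
  have hdac := card_symmDiff_add_two_mul (symmDiff o o') a
  have hdisj : symmDiff o o' ∩ a = ∅ := by
    rw [← Finset.disjoint_iff_inter_eq_empty, Finset.disjoint_left]
    intro x hx hxa
    rw [Finset.mem_symmDiff] at hx
    rcases hx with hx | hx
    · exact Finset.disjoint_left.mp h1 hxa hx.1
    · exact Finset.disjoint_left.mp h1' hxa hx.1
  rw [hdisj, Finset.card_empty, ha.2] at hdac
  have := card_of_mem_supports _ hda
  omega

/-- two octads meeting in two points are joined by a path of length three in the disjointness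
graph. -/
theorem path3_of_inter_two {o o' : Finset GolayPt} (ho : o ∈ octads) (ho' : o' ∈ octads)
    (h2 : (o ∩ o').card = 2) :
    ∃ a ∈ octads, ∃ b ∈ octads, Disjoint o a ∧ Disjoint a b ∧ Disjoint b o' := by
  classical
  have h6 : (o' \ o).card = 6 := by
    have := Finset.card_sdiff_add_card_inter o' o
    rw [Finset.inter_comm, h2, ho'.2] at this
    omega
  obtain ⟨t, hto, ht4⟩ := Finset.exists_subset_card_eq (s := o' \ o) (n := 4) (by omega)
  have hto' : t ⊆ o' := hto.trans Finset.sdiff_subset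
  have htdisj : Disjoint t o := by
    rw [Finset.disjoint_left]
    intro x hx hxo
    exact (Finset.mem_sdiff.mp (hto hx)).2 hxo
  have hS := sextetOf_mem_sextets t ht4
  have hot' : o' ∈ blocksThrough octads t := (mem_blocksThrough _ _ _).mpr ⟨ho', hto'⟩
  have hu1 : o' \ t ∈ sextetOf t := by
    unfold sextetOf; exact Finset.mem_insert_of_mem (Finset.mem_image_of_mem _ hot')
  have htS : t ∈ sextetOf t := by unfold sextetOf; exact Finset.mem_insert_self _ _
  have hne1 : o' \ t ≠ t := by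
    intro h
    have hne' : t.Nonempty := by rw [← Finset.card_pos]; omega
    obtain ⟨x, hx⟩ := hne'
    have : x ∈ o' \ t := by rw [h]; exact hx
    exact (Finset.mem_sdiff.mp this).2 hx
  set R := ((sextetOf t).erase t).erase (o' \ t) with hR
  have hRcard : R.card = 4 := by
    rw [hR, Finset.card_erase_of_mem (Finset.mem_erase.mpr ⟨hne1, hu1⟩),
      Finset.card_erase_of_mem htS, card_sextetOf t ht4]
  have mem_R : ∀ u, u ∈ R → u ∈ sextetOf t ∧ u ≠ t ∧ u ≠ o' \ t := by
    intro u hu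
    rw [hR, Finset.mem_erase, Finset.mem_erase] at hu
    exact ⟨hu.2.2, hu.2.1, hu.1⟩
  have disj_o' : ∀ u, u ∈ R → Disjoint u o' := by
    intro u hu
    obtain ⟨m, n1, n2⟩ := mem_R u hu
    have e : o' = t ∪ (o' \ t) := by rw [Finset.union_sdiff_of_subset hto']
    rw [e, Finset.disjoint_union_right]
    exact ⟨sextet_disjoint hS m htS n1, sextet_disjoint hS m hu1 n2⟩
  -- the octads t ∪ u
  have oct : ∀ u, u ∈ R → t ∪ u ∈ octads := by
    intro u hu
    obtain ⟨m, n1, _⟩ := mem_R u hu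
    exact hS.2.2 t htS u m (Ne.symm n1)
  have cases_u : ∀ u, u ∈ R → (u ∩ o).card = 0 ∨ 2 ≤ (u ∩ o).card := by
    intro u hu
    have hne : t ∪ u ≠ o := by
      intro h
      have hne' : t.Nonempty := by rw [← Finset.card_pos]; omega
      obtain ⟨x, hx⟩ := hne'
      have : x ∈ o := by rw [← h]; exact Finset.mem_union_left _ hx
      exact Finset.disjoint_left.mp htdisj hx this
    have hc := inter_card_cases (oct u hu) ho hne
    have e : (t ∪ u) ∩ o = u ∩ o := by
      rw [Finset.union_inter_distrib_right, Finset.disjoint_iff_inter_eq_empty.mp htdisj,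
        Finset.empty_union]
    rw [e] at hc
    omega
  -- counting
  have hsum : ∑ u ∈ R, (u ∩ o).card ≤ 6 := by
    have hpd : (R : Set (Finset GolayPt)).PairwiseDisjoint fun u => u ∩ o := by
      intro u hu v hv huv
      have hu' := mem_R u hu
      have hv' := mem_R v hv
      have := sextet_disjoint hS hu'.1 hv'.1 huv
      exact Finset.disjoint_of_subset_left Finset.inter_subset_left
        (Finset.disjoint_of_subset_right Finset.inter_subset_left this)
    rw [← Finset.card_biUnion hpd]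
    have hsub : R.biUnion (fun u => u ∩ o) ⊆ o \ o' := by
      intro x hx
      rw [Finset.mem_biUnion] at hx
      obtain ⟨u, hu, hxu⟩ := hx
      rw [Finset.mem_inter] at hxu
      rw [Finset.mem_sdiff]
      exact ⟨hxu.2, fun h => Finset.disjoint_left.mp (disj_o' u hu) hxu.1 h⟩
    have h6' : (o \ o').card = 6 := by
      have := Finset.card_sdiff_add_card_inter o o'
      rw [h2, ho.2] at this
      omega
    rw [← h6']
    exact Finset.card_le_card hsub
  have hex : ∃ u ∈ R, (u ∩ o).card = 0 := by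
    by_contra hno
    push Not at hno
    have hge : ∀ u ∈ R, 2 ≤ (u ∩ o).card := by
      intro u hu
      rcases cases_u u hu with h | h
      · exact absurd h (hno u hu)
      · exact h
    have := Finset.card_nsmul_le_sum R (fun u => (u ∩ o).card) 2 hge
    rw [hRcard, smul_eq_mul] at this
    omega
  obtain ⟨u, hu, hu0⟩ := hex
  have hdu : Disjoint u o := by
    rw [Finset.disjoint_iff_inter_eq_empty, ← Finset.card_eq_zero]; exact hu0
  have ha : t ∪ u ∈ octads := oct u hu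
  have hao' : ((t ∪ u) ∩ o').card = 4 := by
    have e : (t ∪ u) ∩ o' = t := by
      rw [Finset.union_inter_distrib_right,
        Finset.disjoint_iff_inter_eq_empty.mp (disj_o' u hu), Finset.union_empty,
        Finset.inter_eq_left.mpr hto']
    rw [e, ht4]
  obtain ⟨b, hb, hb1, hb2⟩ := common_disjoint_of_inter_four ha ho' hao'
  refine ⟨t ∪ u, ha, b, hb, ?_, hb1.symm, hb2⟩
  rw [Finset.disjoint_union_right]
  exact ⟨htdisj.symm, hdu.symm⟩


theorem adj_iff (u v : octads) :
    (blockGraph octads).Adj u v ↔ u ≠ v ∧ Disjoint (u : Finset GolayPt) (v : Finset GolayPt) := by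
  unfold blockGraph
  rw [SimpleGraph.fromRel_adj]
  constructor
  · rintro ⟨h, h1 | h1⟩
    · exact ⟨h, h1⟩
    · exact ⟨h, h1.symm⟩
  · rintro ⟨h, h1⟩
    exact ⟨h, Or.inl h1⟩

theorem ne_of_disjoint_octads {a b : Finset GolayPt} (ha : a ∈ octads) (h : Disjoint a b) : a ≠ b := by
  intro hab
  rw [← hab, disjoint_self, Finset.bot_eq_empty] at h
  rw [h] at ha
  have := ha.2
  simp at this

theorem dist_cases (o o' : Finset GolayPt) (ho : o ∈ octads) (ho' : o' ∈ octads) (hne : o ≠ o') :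
    (blockGraph octads).Reachable ⟨o, ho⟩ ⟨o', ho'⟩ ∧
    (((o ∩ o').card = 0 ∧ (blockGraph octads).dist ⟨o, ho⟩ ⟨o', ho'⟩ = 1) ∨
     ((o ∩ o').card = 4 ∧ (blockGraph octads).dist ⟨o, ho⟩ ⟨o', ho'⟩ = 2) ∨
     ((o ∩ o').card = 2 ∧ (blockGraph octads).dist ⟨o, ho⟩ ⟨o', ho'⟩ = 3)) := by
  have hne' : (⟨o, ho⟩ : octads) ≠ ⟨o', ho'⟩ := fun h => hne (congrArg Subtype.val h)
  rcases inter_card_cases ho ho' hne with h0 | h2 | h4
  · have hadj : (blockGraph octads).Adj ⟨o, ho⟩ ⟨o', ho'⟩ := by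
      rw [adj_iff]
      refine ⟨hne', ?_⟩
      rw [Finset.disjoint_iff_inter_eq_empty, ← Finset.card_eq_zero]; exact h0
    exact ⟨hadj.reachable, Or.inl ⟨h0, SimpleGraph.dist_eq_one_iff_adj.mpr hadj⟩⟩
  · obtain ⟨a, ha, b, hb, h1, h2', h3⟩ := path3_of_inter_two ho ho' h2
    have adj1 : (blockGraph octads).Adj ⟨o, ho⟩ ⟨a, ha⟩ := by
      rw [adj_iff]; exact ⟨fun h => ne_of_disjoint_octads ho h1 (congrArg Subtype.val h), h1⟩
    have adj2 : (blockGraph octads).Adj ⟨a, ha⟩ ⟨b, hb⟩ := by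
      rw [adj_iff]; exact ⟨fun h => ne_of_disjoint_octads ha h2' (congrArg Subtype.val h), h2'⟩
    have adj3 : (blockGraph octads).Adj ⟨b, hb⟩ ⟨o', ho'⟩ := by
      rw [adj_iff]; exact ⟨fun h => ne_of_disjoint_octads hb h3 (congrArg Subtype.val h), h3⟩
    let w : (blockGraph octads).Walk ⟨o, ho⟩ ⟨o', ho'⟩ :=
      SimpleGraph.Walk.cons adj1 (SimpleGraph.Walk.cons adj2 (SimpleGraph.Walk.cons adj3 SimpleGraph.Walk.nil))
    have hr : (blockGraph octads).Reachable ⟨o, ho⟩ ⟨o', ho'⟩ := ⟨w⟩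
    refine ⟨hr, Or.inr (Or.inr ⟨h2, ?_⟩)⟩
    have hle : (blockGraph octads).dist ⟨o, ho⟩ ⟨o', ho'⟩ ≤ 3 := SimpleGraph.dist_le w
    have hnadj : ¬ (blockGraph octads).Adj ⟨o, ho⟩ ⟨o', ho'⟩ := by
      rw [adj_iff]
      rintro ⟨_, hd⟩
      rw [Finset.disjoint_iff_inter_eq_empty] at hd
      rw [hd] at h2; simp at h2
    have h1lt := hr.one_lt_dist_of_ne_of_not_adj hne' hnadj
    have hn2 : (blockGraph octads).dist ⟨o, ho⟩ ⟨o', ho'⟩ ≠ 2 := by
      intro h2d
      have he : (blockGraph octads).edist ⟨o, ho⟩ ⟨o', ho'⟩ = 2 := by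
        rw [← hr.coe_dist_eq_edist, h2d]; rfl
      obtain ⟨_, _, ⟨c, hc⟩⟩ := SimpleGraph.edist_eq_two_iff.mp he
      rw [SimpleGraph.mem_commonNeighbors, adj_iff, adj_iff] at hc
      exact no_common_disjoint_of_inter_two ho ho' c.2 h2 hc.1.2.symm hc.2.2.symm
    omega
  · obtain ⟨a, ha, h1, h2'⟩ := common_disjoint_of_inter_four ho ho' h4
    have adj1 : (blockGraph octads).Adj ⟨o, ho⟩ ⟨a, ha⟩ := by
      rw [adj_iff]
      exact ⟨fun h => ne_of_disjoint_octads ho h1.symm (congrArg Subtype.val h), h1.symm⟩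
    have adj2 : (blockGraph octads).Adj ⟨a, ha⟩ ⟨o', ho'⟩ := by
      rw [adj_iff]; exact ⟨fun h => ne_of_disjoint_octads ha h2' (congrArg Subtype.val h), h2'⟩
    let w : (blockGraph octads).Walk ⟨o, ho⟩ ⟨o', ho'⟩ :=
      SimpleGraph.Walk.cons adj1 (SimpleGraph.Walk.cons adj2 SimpleGraph.Walk.nil)
    have hr : (blockGraph octads).Reachable ⟨o, ho⟩ ⟨o', ho'⟩ := ⟨w⟩
    refine ⟨hr, Or.inr (Or.inl ⟨h4, ?_⟩)⟩
    have hle : (blockGraph octads).dist ⟨o, ho⟩ ⟨o', ho'⟩ ≤ 2 := SimpleGraph.dist_le w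
    have hnadj : ¬ (blockGraph octads).Adj ⟨o, ho⟩ ⟨o', ho'⟩ := by
      rw [adj_iff]
      rintro ⟨_, hd⟩
      rw [Finset.disjoint_iff_inter_eq_empty] at hd
      rw [hd] at h4; simp at h4
    have h1lt := hr.one_lt_dist_of_ne_of_not_adj hne' hnadj
    omega

theorem result (o o' : Finset Cfsg.GolayPt) (ho : o ∈ Cfsg.octads) (ho' : o' ∈ Cfsg.octads) (hne : o ≠ o') : (Cfsg.blockGraph Cfsg.octads).Connected ∧ ((Cfsg.blockGraph Cfsg.octads).dist ⟨o, ho⟩ ⟨o', ho'⟩ = 1 ↔ (o ∩ o').card = 0) ∧ ((Cfsg.blockGraph Cfsg.octads).dist ⟨o, ho⟩ ⟨o', ho'⟩ = 2 ↔ (o ∩ o').card = 4) ∧ ((Cfsg.blockGraph Cfsg.octads).dist ⟨o, ho⟩ ⟨o', ho'⟩ = 3 ↔ (o ∩ o').card = 2) := by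
  refine ⟨?_, ?_⟩
  · haveI : Nonempty octads := ⟨⟨o, ho⟩⟩
    refine ⟨fun u v => ?_⟩
    by_cases huv : u = v
    · rw [huv]
    · exact (dist_cases u.1 v.1 u.2 v.2 (fun h => huv (Subtype.ext h))).1
  · obtain ⟨_, h⟩ := dist_cases o o' ho ho' hne
    rcases h with ⟨hk, hd⟩ | ⟨hk, hd⟩ | ⟨hk, hd⟩ <;> rw [hd, hk] <;> simp

end Cfsg.Agent.S5609
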