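import Cfsg.Statements.S5614
import Cfsg.Agent.Lib.Helper28.M24Pairs

set_option autoImplicit false
open scoped Pointwise
open Cfsg

namespace Cfsg.Agent.S5614
open Cfsg.Agent.Lib.Helper28.GolayCode Cfsg.Agent.Lib.Helper28.StabLib Cfsg.Agent.Lib.Helper28.M24Pairs

/-- the joint stabiliser of the base pair. -/
noncomputable abbrev H0 : Subgroup ↥M24 :=
  MulAction.stabilizer M24 (bset O0) ⊓ MulAction.stabilizer M24 (bset rep2)

theorem mem_H0 (h : M24) : h ∈ H0 ↔
    (h : Equiv.Perm GolayPt) • bset O0 = bset O0 ∧ (h : Equiv.Perm GolayPt) • bset rep2 = bset rep2 := by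
  rw [Subgroup.mem_inf, mem_stabilizer_M24_iff, mem_stabilizer_M24_iff]

theorem apply_mem_iff (σ : Equiv.Perm GolayPt) (s : Finset GolayPt) (hs : σ • s = s) (x : GolayPt) :
    σ x ∈ s ↔ x ∈ s := by
  conv_lhs => rw [← hs]
  exact mem_smul_finset_perm' σ s x

/-- the six points of the base octad outside the second octad, as an invariant subset. -/
noncomputable def SA : SubMulAction ↥H0 GolayPt where
  carrier := {x | x ∈ bset O0 ∧ x ∉ bset rep2}
  smul_mem' := by
    intro h x hx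
    have hh := (mem_H0 h.1).mp h.2
    show ((h : M24) : Equiv.Perm GolayPt) x ∈ bset O0 ∧ ((h : M24) : Equiv.Perm GolayPt) x ∉ bset rep2
    rw [apply_mem_iff _ _ hh.1, apply_mem_iff _ _ hh.2]
    exact hx

def idxOf : Fin 6 → ℕ := ![1, 3, 2, 23, 14, 17]

def pts (i : Fin 6) : GolayPt := dec (idxOf i)

theorem pts_mem (i : Fin 6) : pts i ∈ SA := by
  show pts i ∈ bset O0 ∧ pts i ∉ bset rep2
  rw [mem_bset, mem_bset]
  revert i
  decide +kernel

theorem pts_inj : Function.Injective pts := by decide +kernel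

theorem pts_surj : ∀ x : GolayPt, x ∈ bset O0 ∧ x ∉ bset rep2 → ∃ i, pts i = x := by
  intro x
  rw [mem_bset, mem_bset]
  revert x
  decide +kernel

noncomputable def e6 : Fin 6 ≃ ↥SA :=
  Equiv.ofBijective (fun i => ⟨pts i, pts_mem i⟩)
    ⟨fun i j h => pts_inj (congrArg Subtype.val h), fun ⟨x, hx⟩ => by
      obtain ⟨i, hi⟩ := pts_surj x hx
      exact ⟨i, Subtype.ext hi⟩⟩

/-- the action on the six points. -/
noncomputable def phi : ↥H0 →* Equiv.Perm (Fin 6) :=
  (e6.symm.permCongrHom.toMonoidHom).comp (MulAction.toPermHom ↥H0 ↥SA)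

theorem phi_eq (h : ↥H0) (τ : Equiv.Perm (Fin 6))
    (hτ : ∀ i, ((h : M24) : Equiv.Perm GolayPt) (pts i) = pts (τ i)) : phi h = τ := by
  ext i
  show ((e6.symm.permCongrHom (MulAction.toPermHom ↥H0 ↥SA h)) i : ℕ) = τ i
  congr 1
  show e6.symm.permCongr (MulAction.toPermHom ↥H0 ↥SA h) i = τ i
  rw [Equiv.permCongr_apply, Equiv.symm_symm, Equiv.symm_apply_eq]
  apply Subtype.ext
  exact hτ i

def c1 : ℕ := 0x756929a424845686a8c76580f15c65
def c2 : ℕ := 0xbcea9b3e30938e852e8c6980408865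

theorem c1_ok : (inM24 c1 && Nat.beq (applyMask c1 O0) O0 && Nat.beq (applyMask c1 rep2) rep2) = true := by
  decide +kernel
theorem c2_ok : (inM24 c2 && Nat.beq (applyMask c2 O0) O0 && Nat.beq (applyMask c2 rep2) rep2) = true := by
  decide +kernel

theorem mem_H0_of_ok (c : ℕ)
    (h : (inM24 c && Nat.beq (applyMask c O0) O0 && Nat.beq (applyMask c rep2) rep2) = true) :
    ∃ hm : permOf c ∈ M24, (⟨permOf c, hm⟩ : M24) ∈ H0 := by
  simp only [Bool.and_eq_true, nat_beq_iff] at h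
  obtain ⟨⟨h1, h2⟩, h3⟩ := h
  have hp := isPerm_of_inM24 _ h1
  refine ⟨permOf_mem_M24 _ h1, ?_⟩
  rw [mem_H0]
  constructor
  · show permOf c • bset O0 = bset O0
    rw [permOf_smul_bset _ hp, h2]
  · show permOf c • bset rep2 = bset rep2
    rw [permOf_smul_bset _ hp, h3]

theorem c1_isPerm : isPerm c1 = true := by decide +kernel
theorem c2_isPerm : isPerm c2 = true := by decide +kernel

theorem c1_act : ∀ i : Fin 6, dec (img c1 (idxOf i)) = pts (finRotate 6 i) := by decide +kernel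
theorem c2_act : ∀ i : Fin 6, dec (img c2 (idxOf i)) = pts (Equiv.swap (0 : Fin 6) 1 i) := by decide +kernel

theorem idxOf_lt : ∀ i : Fin 6, idxOf i < 24 := by decide

theorem phi_surjective : Function.Surjective phi := by
  rw [← MonoidHom.range_eq_top, eq_top_iff]
  have hcl : Subgroup.closure ({finRotate 6, Equiv.swap (0 : Fin 6) (finRotate 6 0)} : Set (Equiv.Perm (Fin 6))) = ⊤ :=
    Equiv.Perm.closure_cycle_adjacent_swap (isCycle_finRotate) (by rw [support_finRotate]) 0
  rw [← hcl, Subgroup.closure_le]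
  intro τ hτ
  rw [Set.mem_insert_iff, Set.mem_singleton_iff] at hτ
  rcases hτ with rfl | rfl
  · obtain ⟨hm, hH⟩ := mem_H0_of_ok c1 c1_ok
    refine ⟨⟨⟨permOf c1, hm⟩, hH⟩, ?_⟩
    apply phi_eq
    intro i
    show permOf c1 (pts i) = _
    rw [pts, permOf_apply_dec c1 c1_isPerm _ (idxOf_lt i)]
    exact c1_act i
  · obtain ⟨hm, hH⟩ := mem_H0_of_ok c2 c2_ok
    refine ⟨⟨⟨permOf c2, hm⟩, hH⟩, ?_⟩
    apply phi_eq
    intro i
    show permOf c2 (pts i) = _
    rw [pts, permOf_apply_dec c2 c2_isPerm _ (idxOf_lt i)]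
    have : finRotate 6 (0 : Fin 6) = 1 := by decide
    rw [this]
    exact c2_act i

theorem card_H0 : Nat.card ↥H0 = 720 := card_joint2 _ _ O0_mem
  ((mem_octads_iff_exists _).mpr ⟨rep2, ((mem_classList 2 rep2).mp rep2_mem).1, rfl⟩)
  (by
    rw [← bset_land, card_bset]
    decide +kernel)

noncomputable def iso0 : ↥H0 ≃* Equiv.Perm (Fin 6) :=
  MulEquiv.ofBijective phi (by
    apply Function.Surjective.bijective_of_nat_card_le phi_surjective
    rw [card_H0, Nat.card_perm]
    simp [Nat.factorial])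

theorem result (o o' : Finset Cfsg.GolayPt) (ho : o ∈ Cfsg.octads) (ho' : o' ∈ Cfsg.octads) (h₂ : (o ∩ o').card = 2) : Nonempty (↥(MulAction.stabilizer Cfsg.M24 o ⊓ MulAction.stabilizer Cfsg.M24 o') ≃* Equiv.Perm (Fin 6)) := by
  obtain ⟨g, rfl, rfl⟩ := exists_map_pair2 o o' ho ho' h₂
  have heq : MulAction.stabilizer M24 (g • bset O0) ⊓ MulAction.stabilizer M24 (g • bset rep2) =
      H0.map (MulAut.conj g).toMonoidHom := by
    rw [MulAction.stabilizer_smul_eq_stabilizer_map_conj, MulAction.stabilizer_smul_eq_stabilizer_map_conj,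
      ← Subgroup.map_inf_eq _ _ _ (MulAut.conj g).injective]
  exact ⟨(MulEquiv.subgroupCongr heq).trans
    ((Subgroup.equivMapOfInjective H0 (MulAut.conj g).toMonoidHom (MulAut.conj g).injective).symm.trans iso0)⟩

end Cfsg.Agent.S5614
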