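import Cfsg.Statements.S5615
import Cfsg.Agent.Lib.Helper3.Golay.OctadStab
import Cfsg.Agent.Lib.Helper28.M24FixConj
import Cfsg.Agent.Lib.Helper28.M24Count
import Cfsg.Agent.Lib.Helper28.M24FactsProof

set_option autoImplicit false
open scoped Pointwise
open Cfsg

namespace Cfsg.Agent.S5615
open Cfsg.Agent.Lib.Helper28.GolayCode Cfsg.Agent.Lib.Helper28.M24Pairs Cfsg.Agent.Lib.Helper28.M24Fam
  Cfsg.Agent.Lib.Helper28.M24OctadFix

/-! ### The fifteen trios through the base octad -/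

def L15 : List (List ℕ) := [[0x82402f, 0x527c0, 0x789810],
  [0x82402f, 0x99590, 0x742a40],
  [0x82402f, 0xcb250, 0x710d80],
  [0x82402f, 0x11b8c0, 0x6c0710],
  [0x82402f, 0x149f00, 0x6920d0],
  [0x82402f, 0x182d50, 0x659280],
  [0x82402f, 0x1d0a90, 0x60b540],
  [0x82402f, 0x20ab90, 0x5d1440],
  [0x82402f, 0x258c50, 0x583380],
  [0x82402f, 0x293e00, 0x5481d0],
  [0x82402f, 0x2c19c0, 0x51a610],
  [0x82402f, 0x311350, 0x4cac80],
  [0x82402f, 0x343490, 0x498b40],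
  [0x82402f, 0x3886c0, 0x453910],
  [0x82402f, 0x3da100, 0x401ed0]]

def TA : List ℕ := [0x82402f, 0x527c0, 0x789810]

def TB : List ℕ := [0x82402f, 0x99590, 0x742a40]

def certs1 : List ℕ := [0xbdab49ca307b9ac5a928398a418820, 0x1914c454a6785b03a6565d1d3b8a20, 0x722b05b00d50936a48d379027896e3, 0xb92a9519c798e9642e0f6b03228a20, 0x2d28a3433608ea79ab681232196ee, 0xb9968558b5a0e0d9b12793c040ba22, 0x729a8b2c106449531e724d2ef18825, 0xa1752484a7b8c93d990a4cad882e3, 0x2c0865305658d32acd076d1cfb8221, 0x3ed49403330d482552c5b5c7b9622, 0x9e4c5d84441606aa9eda2473b81d1, 0x13db69d1cc3852b55608310b2bc403, 0xbb144aac0f914d43cd304584d0b871, 0x71a744c0443de55522cb6b02f180b1, 0x2acc5d43320de934114936e771451]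

def certs2 : List ℕ := [0xbdab49ca307b9ac5a928398a418820, 0x28f04ac3390a8d432c47d4a61de2e, 0x74c956280da064bb4107326ef88ca2, 0x4c9561dd2a15abb220a4984f1c437, 0xb9d326bdd33058a82ea4a58a810223, 0x1274ac8ad78e0c5a92831e3670457, 0xaa4644dcb3818d812d57d069bc4a2, 0x19a0a6ac534dea8951ecb10270162e, 0x2a5b0431c490966552767d6e708223, 0x8c1493584b3b8886ce8cabc121dca1, 0xba6069307350a8d43eb65900771621, 0xbadf66180aa890499e0d92634185c5, 0xceaf61aedb1544a48e88262b1804e, 0x1490d4bc243dea68328bb4dca044a3]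

/-- the entry contains the base octad. -/
def hasO (l : List ℕ) : Bool := l.any (Nat.beq O0)

set_option maxRecDepth 100000 in
theorem L15_eq : trioData.filter hasO = L15 := by decide +kernel

noncomputable def cert1OK (l : List ℕ) (P : ℕ) : Bool :=
  inM24 P && Nat.beq (applyMask P O0) O0 && famEq (TA.map (applyMask P)) l

noncomputable def cert2OK (l : List ℕ) (P : ℕ) : Bool :=
  inM24 P && Nat.beq (applyMask P O0) O0 && famEq (TA.map (applyMask P)) TA &&
    famEq (TB.map (applyMask P)) l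

theorem certs1_ok : zipAll cert1OK L15 certs1 = true := by decide +kernel

theorem certs2_ok : zipAll cert2OK L15.tail certs2 = true := by decide +kernel

theorem Plist_fix_trios : Plist.all (fun t => L15.all (fixF t)) = true := by decide +kernel

theorem hasO_iff (l : List ℕ) (hl : l ∈ trioData) : bset O0 ∈ fam l ↔ hasO l = true := by
  unfold hasO
  rw [mem_fam, List.any_eq_true]
  constructor
  · rintro ⟨m, hm, h⟩
    refine ⟨m, hm, ?_⟩
    rw [nat_beq_iff]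
    exact (bset_inj m O0 (trioData_lt l hl m hm) O0_lt h).symm
  · rintro ⟨m, hm, h⟩
    rw [nat_beq_iff] at h
    exact ⟨m, hm, by rw [h]⟩

/-- every trio through the base octad is listed. -/
theorem mem_L15_of {T : Finset (Finset GolayPt)} (hT : T ∈ trios) (hO : bset O0 ∈ T) :
    ∃ l ∈ L15, T = fam l := by
  obtain ⟨l, hl, rfl⟩ := trioFamData.complete T hT
  refine ⟨l, ?_, rfl⟩
  rw [← L15_eq, List.mem_filter]
  exact ⟨hl, (hasO_iff l hl).mp hO⟩

theorem L15_sub {l : List ℕ} (hl : l ∈ L15) : l ∈ trioData := by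
  rw [← L15_eq] at hl
  exact (List.mem_filter.mp hl).1

theorem part1_base : {T : Finset (Finset GolayPt) | T ∈ trios ∧ bset O0 ∈ T}.ncard = 15 := by
  rw [ncard_filter_fam trioFamData (fun T => bset O0 ∈ T) hasO hasO_iff, L15_eq]
  rfl

theorem reach1 {T : Finset (Finset GolayPt)} (hT : T ∈ trios) (hO : bset O0 ∈ T) :
    ∃ σ ∈ M24, σ • bset O0 = bset O0 ∧ σ • fam TA = T := by
  obtain ⟨l, hl, rfl⟩ := mem_L15_of hT hO
  obtain ⟨P, _, hP⟩ := zipAll_spec _ _ _ certs1_ok l hl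
  unfold cert1OK at hP
  simp only [Bool.and_eq_true, nat_beq_iff] at hP
  obtain ⟨⟨h1, h2⟩, h3⟩ := hP
  have hp := isPerm_of_inM24 _ h1
  refine ⟨permOf P, permOf_mem_M24 _ h1, ?_, ?_⟩
  · rw [permOf_smul_bset P hp, h2]
  · rw [smul_fam P hp, fam_eq_of_famEq h3]

theorem TA_mem : TA ∈ L15 := by decide

theorem TB_mem : TB ∈ L15 := by decide

theorem reach2 {T : Finset (Finset GolayPt)} (hT : T ∈ trios) (hO : bset O0 ∈ T) (hne : T ≠ fam TA) :
    ∃ σ ∈ M24, σ • bset O0 = bset O0 ∧ σ • fam TA = fam TA ∧ σ • fam TB = T := by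
  obtain ⟨l, hl, rfl⟩ := mem_L15_of hT hO
  have hl' : l ∈ L15.tail := by
    have : L15 = TA :: L15.tail := rfl
    rw [this, List.mem_cons] at hl
    rcases hl with rfl | h
    · exact absurd rfl hne
    · exact h
  obtain ⟨P, _, hP⟩ := zipAll_spec _ _ _ certs2_ok l hl'
  unfold cert2OK at hP
  simp only [Bool.and_eq_true, nat_beq_iff] at hP
  obtain ⟨⟨⟨h1, h2⟩, h3⟩, h4⟩ := hP
  have hp := isPerm_of_inM24 _ h1
  refine ⟨permOf P, permOf_mem_M24 _ h1, ?_, ?_, ?_⟩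
  · rw [permOf_smul_bset P hp, h2]
  · rw [smul_fam P hp, fam_eq_of_famEq h3]
  · rw [smul_fam P hp, fam_eq_of_famEq h4]

theorem TA_ne_TB : fam TA ≠ fam TB := by
  intro h
  have := trioFamData.inj TA (L15_sub TA_mem) TB (L15_sub TB_mem) h
  revert this
  decide

theorem TA_trio : fam TA ∈ trios := trioFamData.sound TA (L15_sub TA_mem)

theorem TB_trio : fam TB ∈ trios := trioFamData.sound TB (L15_sub TB_mem)

theorem O_mem_TA : bset O0 ∈ fam TA := (hasO_iff TA (L15_sub TA_mem)).mpr (by decide)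

theorem O_mem_TB : bset O0 ∈ fam TB := (hasO_iff TB (L15_sub TB_mem)).mpr (by decide)


/-! ### The three statements for a given octad -/

def P1 (o : Finset GolayPt) : Prop :=
  {T : Finset (Finset GolayPt) | T ∈ trios ∧ o ∈ T}.ncard = 15

def P2 (o : Finset GolayPt) : Prop :=
  ∀ T₁ T₂ T₁' T₂' : Finset (Finset GolayPt), T₁ ∈ trios → T₂ ∈ trios → T₁' ∈ trios → T₂' ∈ trios →
    o ∈ T₁ → o ∈ T₂ → o ∈ T₁' → o ∈ T₂' → T₁ ≠ T₂ → T₁' ≠ T₂' →
    ∃ g ∈ M24, g • o = o ∧ g • T₁ = T₁' ∧ g • T₂ = T₂'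

def P3 (o : Finset GolayPt) : Prop :=
  ∀ g ∈ M24, g • o = o → ((∀ T ∈ trios, o ∈ T → g • T = T) ↔ ∀ p ∈ o, g p = p)

theorem smul_mem_smul_iff (h : Equiv.Perm GolayPt) (o : Finset GolayPt) (T : Finset (Finset GolayPt)) :
    h • o ∈ h • T ↔ o ∈ T := Finset.smul_mem_smul_finset_iff h

theorem mem_inv_smul_of (c : Equiv.Perm GolayPt) (o : Finset GolayPt) (T : Finset (Finset GolayPt))
    (hc : c • o = o) (hO : o ∈ T) : o ∈ c⁻¹ • T := by
  have h1 := (smul_mem_smul_iff c⁻¹ o T).mpr hO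
  have h2 : c⁻¹ • o = o := by rw [inv_smul_eq_iff, hc]
  rwa [h2] at h1

/-- a pair of distinct trios through the base octad comes from the standard pair. -/
theorem reach12 {T₁ T₂ : Finset (Finset GolayPt)} (h1 : T₁ ∈ trios) (h2 : T₂ ∈ trios)
    (hO1 : bset O0 ∈ T₁) (hO2 : bset O0 ∈ T₂) (hne : T₁ ≠ T₂) :
    ∃ g ∈ M24, g • bset O0 = bset O0 ∧ g • fam TA = T₁ ∧ g • fam TB = T₂ := by
  obtain ⟨σ1, hσ1, hσ1O, hσ1A⟩ := reach1 h1 hO1
  have hinvO : σ1⁻¹ • bset O0 = bset O0 := by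
    rw [inv_smul_eq_iff, hσ1O]
  have hU : σ1⁻¹ • T₂ ∈ trios := smul_mem_trios (M24.inv_mem hσ1) h2
  have hUO : bset O0 ∈ σ1⁻¹ • T₂ := by
    rw [← hinvO]
    exact (smul_mem_smul_iff σ1⁻¹ (bset O0) T₂).mpr hO2
  have hUne : σ1⁻¹ • T₂ ≠ fam TA := by
    intro h
    apply hne
    rw [← hσ1A, ← h, smul_inv_smul]
  obtain ⟨σ2, hσ2, hσ2O, hσ2A, hσ2B⟩ := reach2 hU hUO hUne
  refine ⟨σ1 * σ2, M24.mul_mem hσ1 hσ2, ?_, ?_, ?_⟩
  · rw [mul_smul, hσ2O, hσ1O]
  · rw [mul_smul, hσ2A, hσ1A]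
  · rw [mul_smul, hσ2B, smul_inv_smul]

theorem part2_base : P2 (bset O0) := by
  intro T₁ T₂ T₁' T₂' h1 h2 h1' h2' hO1 hO2 hO1' hO2' hne hne'
  obtain ⟨g, hg, hgO, hgA, hgB⟩ := reach12 h1 h2 hO1 hO2 hne
  obtain ⟨g', hg', hgO', hgA', hgB'⟩ := reach12 h1' h2' hO1' hO2' hne'
  refine ⟨g' * g⁻¹, M24.mul_mem hg' (M24.inv_mem hg), ?_, ?_, ?_⟩
  · rw [mul_smul, inv_smul_eq_iff.mpr hgO.symm, hgO']
  · rw [mul_smul, inv_smul_eq_iff.mpr hgA.symm, hgA']
  · rw [mul_smul, inv_smul_eq_iff.mpr hgB.symm, hgB']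

/-- the elements fixing the base octad pointwise fix all trios through it. -/
theorem fix_trios_of_fix {g : Equiv.Perm GolayPt} (hg : g ∈ M24) (hfix : ∀ p ∈ bset O0, g p = p)
    {T : Finset (Finset GolayPt)} (hT : T ∈ trios) (hO : bset O0 ∈ T) : g • T = T := by
  obtain ⟨t, ht, rfl⟩ := mem_Plist_of_fix hg hfix
  obtain ⟨l, hl, rfl⟩ := mem_L15_of hT hO
  have h1 := List.all_eq_true.mp (List.all_eq_true.mp Plist_fix_trios t ht) l hl
  exact (fixF_iff t (isPerm_of_inM24 _ (Plist_inM24 ht)) l (trioData_lt l (L15_sub hl))).mpr h1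

theorem card_octad_ge (o : Finset GolayPt) (ho : o ∈ octads) : 5 ≤ Nat.card ↥o := by
  rw [Nat.card_eq_fintype_card, Fintype.card_coe, ho.2]
  norm_num

theorem part3_base : P3 (bset O0) := by
  intro g hg hgO
  constructor
  swap
  · intro hfix T hT hO
    exact fix_trios_of_fix hg hfix hT hO
  · intro hall
    -- the kernel of the action on the trios, inside the stabiliser of the octad
    set o := bset O0 with ho
    have hoO : Cfsg.Agent.Lib.Helper3.Golay.bitSet Cfsg.Agent.Lib.Helper3.Golay.O0 = o :=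
      bitSet_eq_bset _
    have hoct : o ∈ octads := O0_mem
    let S := ↥(M24 ⊓ MulAction.stabilizer (Equiv.Perm GolayPt) o)
    let K : Subgroup (↥(M24 ⊓ MulAction.stabilizer (Equiv.Perm GolayPt) o)) :=
      { carrier := {s | ∀ T ∈ trios, o ∈ T → (s : Equiv.Perm GolayPt) • T = T}
        one_mem' := by
          intro T _ _
          simp
        mul_mem' := by
          intro a b ha hb T hT hO
          show ((a : Equiv.Perm GolayPt) * (b : Equiv.Perm GolayPt)) • T = T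
          rw [mul_smul, hb T hT hO, ha T hT hO]
        inv_mem' := by
          intro a ha T hT hO
          show ((a : Equiv.Perm GolayPt))⁻¹ • T = T
          rw [inv_smul_eq_iff, ha T hT hO] }
    have hKn : K.Normal := by
      constructor
      intro a ha c T hT hO
      show ((c : Equiv.Perm GolayPt) * (a : Equiv.Perm GolayPt) * (c : Equiv.Perm GolayPt)⁻¹) • T = T
      have hc : (c : Equiv.Perm GolayPt) • o = o := c.2.2
      have hcM : (c : Equiv.Perm GolayPt) ∈ M24 := c.2.1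
      have hT' : (c : Equiv.Perm GolayPt)⁻¹ • T ∈ trios := smul_mem_trios (M24.inv_mem hcM) hT
      have hO' : o ∈ (c : Equiv.Perm GolayPt)⁻¹ • T := mem_inv_smul_of _ o T hc hO
      rw [mul_smul, mul_smul, ha _ hT' hO', smul_inv_smul]
    set f := Cfsg.Agent.Lib.Helper3.Golay.restr o with hf
    have hker : f.ker ≤ K := by
      intro s hs T hT hO
      rw [hf, Cfsg.Agent.Lib.Helper3.Golay.restr_ker, Subgroup.mem_subgroupOf, Subgroup.mem_inf,
        mem_fixingSubgroup_iff] at hs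
      exact fix_trios_of_fix hs.1 (fun p hp => hs.2 p hp) hT hO
    have hsimple : IsSimpleGroup ↥f.range := by
      rw [hf, Cfsg.Agent.Lib.Helper3.Golay.range_restr hoct]
      exact alternatingGroup.isSimpleGroup (card_octad_ge o hoct)
    have hmapn : (K.map f.rangeRestrict).Normal :=
      Subgroup.Normal.map hKn _ f.rangeRestrict_surjective
    have hgS : g ∈ M24 ⊓ MulAction.stabilizer (Equiv.Perm GolayPt) o :=
      Subgroup.mem_inf.mpr ⟨hg, hgO⟩
    have hgK : (⟨g, hgS⟩ : ↥(M24 ⊓ MulAction.stabilizer (Equiv.Perm GolayPt) o)) ∈ K := hall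
    rcases hsimple.eq_bot_or_eq_top_of_normal _ hmapn with hbot | htop
    · have hle : K ≤ f.rangeRestrict.ker := (Subgroup.map_eq_bot_iff _).mp hbot
      rw [MonoidHom.ker_rangeRestrict] at hle
      have := hle hgK
      rw [hf, Cfsg.Agent.Lib.Helper3.Golay.restr_ker, Subgroup.mem_subgroupOf, Subgroup.mem_inf,
        mem_fixingSubgroup_iff] at this
      exact fun p hp => this.2 p hp
    · exfalso
      have hKtop : K = ⊤ := by
        have h1 := Subgroup.comap_map_eq_self (f := f.rangeRestrict) (H := K)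
          (by rw [MonoidHom.ker_rangeRestrict]; exact hker)
        rw [htop, Subgroup.comap_top] at h1
        exact h1.symm
      obtain ⟨σ, hσ, hσO, hσA⟩ := reach1 TB_trio O_mem_TB
      have hσS : σ ∈ M24 ⊓ MulAction.stabilizer (Equiv.Perm GolayPt) o :=
        Subgroup.mem_inf.mpr ⟨hσ, hσO⟩
      have hσK : (⟨σ, hσS⟩ : ↥(M24 ⊓ MulAction.stabilizer (Equiv.Perm GolayPt) o)) ∈ K := by
        rw [hKtop]; exact Subgroup.mem_top _
      have := hσK (fam TA) TA_trio O_mem_TA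
      exact TA_ne_TB (this.symm.trans hσA)

/-! ### Transport to an arbitrary octad -/

theorem transport1 (o : Finset GolayPt) (h : Equiv.Perm GolayPt) (hh : h ∈ M24) (H : P1 o) :
    P1 (h • o) := by
  unfold P1 at H ⊢
  have e : {T : Finset (Finset GolayPt) | T ∈ trios ∧ h • o ∈ T} =
      (fun T => h • T) '' {T : Finset (Finset GolayPt) | T ∈ trios ∧ o ∈ T} := by
    ext T
    constructor
    · rintro ⟨hT, hO⟩
      refine ⟨h⁻¹ • T, ⟨smul_mem_trios (M24.inv_mem hh) hT, ?_⟩, smul_inv_smul h T⟩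
      rw [← smul_mem_smul_iff h, smul_inv_smul]
      exact hO
    · rintro ⟨T0, ⟨hT0, hO0⟩, rfl⟩
      exact ⟨smul_mem_trios hh hT0, (smul_mem_smul_iff h o T0).mpr hO0⟩
  rw [e, Set.ncard_image_of_injective _ (MulAction.injective h), H]

theorem transport2 (o : Finset GolayPt) (h : Equiv.Perm GolayPt) (hh : h ∈ M24) (H : P2 o) :
    P2 (h • o) := by
  intro T₁ T₂ T₁' T₂' h1 h2 h1' h2' hO1 hO2 hO1' hO2' hne hne'
  have hi := M24.inv_mem hh
  have hmem : ∀ T : Finset (Finset GolayPt), h • o ∈ T → o ∈ h⁻¹ • T := by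
    intro T hT
    rw [← smul_mem_smul_iff h, smul_inv_smul]
    exact hT
  obtain ⟨g, hg, hgo, hg1, hg2⟩ := H (h⁻¹ • T₁) (h⁻¹ • T₂) (h⁻¹ • T₁') (h⁻¹ • T₂')
    (smul_mem_trios hi h1) (smul_mem_trios hi h2) (smul_mem_trios hi h1') (smul_mem_trios hi h2')
    (hmem _ hO1) (hmem _ hO2) (hmem _ hO1') (hmem _ hO2')
    (fun e => hne (MulAction.injective h⁻¹ e)) (fun e => hne' (MulAction.injective h⁻¹ e))
  refine ⟨h * g * h⁻¹, M24.mul_mem (M24.mul_mem hh hg) hi, ?_, ?_, ?_⟩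
  · rw [mul_smul, mul_smul, inv_smul_smul, hgo]
  · rw [mul_smul, mul_smul, hg1, smul_inv_smul]
  · rw [mul_smul, mul_smul, hg2, smul_inv_smul]

theorem transport3 (o : Finset GolayPt) (h : Equiv.Perm GolayPt) (hh : h ∈ M24) (H : P3 o) :
    P3 (h • o) := by
  intro g hg hgo
  have hi := M24.inv_mem hh
  have hg0M : h⁻¹ * g * h ∈ M24 := M24.mul_mem (M24.mul_mem hi hg) hh
  have hg0o : (h⁻¹ * g * h) • o = o := by
    rw [mul_smul, mul_smul, hgo, inv_smul_smul]
  have key := H (h⁻¹ * g * h) hg0M hg0o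
  constructor
  · intro hall p hp
    obtain ⟨q, hq, rfl⟩ := Finset.mem_smul_finset.mp hp
    have h1 : ∀ T ∈ trios, o ∈ T → (h⁻¹ * g * h) • T = T := by
      intro T hT hO
      rw [mul_smul, mul_smul, hall (h • T) (smul_mem_trios hh hT) ((smul_mem_smul_iff h o T).mpr hO),
        inv_smul_smul]
    have h2 := key.mp h1 q hq
    rw [Equiv.Perm.mul_apply, Equiv.Perm.mul_apply, Equiv.Perm.inv_eq_iff_eq] at h2
    exact h2
  · intro hfix T hT hO
    have h1 : ∀ q ∈ o, (h⁻¹ * g * h) q = q := by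
      intro q hq
      rw [Equiv.Perm.mul_apply, Equiv.Perm.mul_apply, Equiv.Perm.inv_eq_iff_eq]
      exact hfix (h q) (Finset.smul_mem_smul_finset hq)
    have hO' : o ∈ h⁻¹ • T := by
      rw [← smul_mem_smul_iff h, smul_inv_smul]
      exact hO
    have h2 := key.mpr h1 (h⁻¹ • T) (smul_mem_trios hi hT) hO'
    rw [mul_smul, mul_smul, smul_inv_smul] at h2
    have := congrArg (fun X => h • X) h2
    simpa using this

theorem result (o : Finset Cfsg.GolayPt) (ho : o ∈ Cfsg.octads) : {T : Finset (Finset Cfsg.GolayPt) | T ∈ Cfsg.trios ∧ o ∈ T}.ncard = 15 ∧ (∀ T₁ T₂ T₁' T₂' : Finset (Finset Cfsg.GolayPt), T₁ ∈ Cfsg.trios → T₂ ∈ Cfsg.trios → T₁' ∈ Cfsg.trios → T₂' ∈ Cfsg.trios → o ∈ T₁ → o ∈ T₂ → o ∈ T₁' → o ∈ T₂' → T₁ ≠ T₂ → T₁' ≠ T₂' → ∃ g ∈ Cfsg.M24, g • o = o ∧ g • T₁ = T₁' ∧ g • T₂ = T₂') ∧ ∀ g ∈ Cfsg.M24, g • o = o → ((∀ T ∈ Cfsg.trios, o ∈ T → g • T = T) ↔ ∀ p ∈ o, g p = p) := by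
  obtain ⟨h, hh⟩ := Cfsg.Agent.Lib.Helper28.GolayCode.facts.octad_trans (bset O0) o O0_mem ho
  have hh' : (h : Equiv.Perm GolayPt) • bset O0 = o := hh
  rw [← hh']
  exact ⟨transport1 _ _ h.2 part1_base, transport2 _ _ h.2 part2_base, transport3 _ _ h.2 part3_base⟩

end Cfsg.Agent.S5615
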