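import Cfsg.Statements.S5618
import Cfsg.Agent.S5614

set_option autoImplicit false
open scoped Pointwise
open Cfsg

namespace Cfsg.Agent.S5618
open Cfsg.Agent.Lib.Helper28.GolayCode Cfsg.Agent.Lib.Helper28.StabLib Cfsg.Agent.Lib.Helper28.M24Pairs
open Cfsg.Agent.S5614 (H0 mem_H0 phi phi_eq iso0 pts pts_surj)

/-- an element of the base joint stabiliser fixing the six points pointwise is trivial. -/
theorem eq_one_of_fix (h : ↥M24) (hh : h ∈ H0)
    (hfix : ∀ p ∈ bset O0 \ bset rep2, (h : Equiv.Perm GolayPt) p = p) : h = 1 := by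
  have h1 : phi ⟨h, hh⟩ = 1 := by
    apply phi_eq
    intro i
    have hp : pts i ∈ bset O0 \ bset rep2 := by
      rw [Finset.mem_sdiff]
      exact S5614.pts_mem i
    rw [Equiv.Perm.one_apply]
    exact hfix _ hp
  have h2 : iso0 ⟨h, hh⟩ = iso0 1 := by
    rw [map_one]
    exact h1
  have := iso0.injective h2
  exact congrArg Subtype.val this

/-- the joint stabiliser of two octads meeting in two points acts faithfully on the six points of the first outside
the second. -/
theorem faithful_sdiff (o o' : Finset GolayPt) (ho : o ∈ octads) (ho' : o' ∈ octads) (h₂ : (o ∩ o').card = 2)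
    (g : ↥M24) (hg : g ∈ MulAction.stabilizer M24 o ⊓ MulAction.stabilizer M24 o')
    (hfix : ∀ p ∈ o \ o', (g : Equiv.Perm GolayPt) p = p) : g = 1 := by
  obtain ⟨c, rfl, rfl⟩ := exists_map_pair2 o o' ho ho' h₂
  have hmem : c⁻¹ * g * c ∈ H0 := by
    rw [Subgroup.mem_inf, MulAction.mem_stabilizer_iff, MulAction.mem_stabilizer_iff] at hg ⊢
    constructor
    · rw [mul_smul, mul_smul, hg.1, inv_smul_smul]
    · rw [mul_smul, mul_smul, hg.2, inv_smul_smul]
  have h1 : c⁻¹ * g * c = 1 := by
    apply eq_one_of_fix _ hmem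
    intro p hp
    have hcp : (c : Equiv.Perm GolayPt) p ∈ c • bset O0 \ c • bset rep2 := by
      rw [← Finset.smul_finset_sdiff]
      exact Finset.smul_mem_smul_finset hp
    have := hfix _ hcp
    show ((c⁻¹ * g * c : ↥M24) : Equiv.Perm GolayPt) p = p
    simp only [Subgroup.coe_mul, Subgroup.coe_inv, Equiv.Perm.mul_apply]
    rw [this]
    simp
  calc g = c * (c⁻¹ * g * c) * c⁻¹ := by group
    _ = 1 := by rw [h1]; group

theorem result (d : Finset Cfsg.GolayPt) (hd : d ∈ Cfsg.dodecads) (C : Finset Cfsg.GolayPt) (hC : C ∈ Cfsg.hexadsOn d) : Nonempty (↥(MulAction.stabilizer Cfsg.M24 d ⊓ MulAction.stabilizer Cfsg.M24 C) ≃* Equiv.Perm (Fin 6)) ∧ (∀ g ∈ MulAction.stabilizer Cfsg.M24 d ⊓ MulAction.stabilizer Cfsg.M24 C, (∀ p ∈ C, ((g : ↥Cfsg.M24) : Equiv.Perm Cfsg.GolayPt) p = p) → g = 1) ∧ ∀ g ∈ MulAction.stabilizer Cfsg.M24 d ⊓ MulAction.stabilizer Cfsg.M24 C, (∀ p ∈ d \ C, ((g : ↥Cfsg.M24) : Equiv.Perm Cfsg.GolayPt) p = p) → g = 1 := by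
  obtain ⟨hC6, o, ho, hoC⟩ := hC
  -- the second octad
  have hsup := symmDiff_mem_supports o d ho.1 hd.1
  have hc := card_symmDiff_add_two_mul o d
  rw [ho.2, hd.2, hoC, hC6] at hc
  have ho' : symmDiff o d ∈ octads := ⟨hsup, by omega⟩
  set o' := symmDiff o d with ho'def
  have hCo : C = o \ o' := by
    rw [← hoC, ho'def]
    ext x
    simp only [Finset.mem_inter, Finset.mem_sdiff, Finset.mem_symmDiff]
    tauto
  have hdC : d \ C = o' \ o := by
    rw [← hoC, ho'def]
    ext x
    simp only [Finset.mem_inter, Finset.mem_sdiff, Finset.mem_symmDiff]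
    tauto
  have h2 : (o ∩ o').card = 2 := by
    have : o ∩ o' = o \ d := by
      rw [ho'def]
      ext x
      simp only [Finset.mem_inter, Finset.mem_symmDiff, Finset.mem_sdiff]
      tauto
    rw [this]
    have := Finset.card_sdiff_add_card_inter o d
    rw [ho.2, hoC, hC6] at this
    omega
  have hd_eq : d = symmDiff o o' := by
    rw [ho'def, symmDiff_symmDiff_cancel_left]
  -- the two joint stabilisers agree
  have hstab : MulAction.stabilizer M24 d ⊓ MulAction.stabilizer M24 C =
      MulAction.stabilizer M24 o ⊓ MulAction.stabilizer M24 o' := by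
    ext g
    rw [Subgroup.mem_inf, Subgroup.mem_inf, MulAction.mem_stabilizer_iff, MulAction.mem_stabilizer_iff,
      MulAction.mem_stabilizer_iff, MulAction.mem_stabilizer_iff]
    constructor
    · rintro ⟨h1, h2'⟩
      have hgo : g • o = o := by
        rw [M24_smul_def]
        apply octad_eq_of_five _ _ (smul_mem_octads g.2 ho) ho
        have hsub : C ⊆ (g : Equiv.Perm GolayPt) • o ∩ o := by
          intro x hx
          rw [Finset.mem_inter]
          refine ⟨?_, by rw [← hoC] at hx; exact (Finset.mem_inter.mp hx).1⟩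
          have : x ∈ g • C := by rw [h2']; exact hx
          rw [M24_smul_def] at this
          have hCsub : C ⊆ o := by rw [← hoC]; exact Finset.inter_subset_left
          exact Finset.smul_finset_subset_smul_finset hCsub this
        have := Finset.card_le_card hsub
        omega
      refine ⟨hgo, ?_⟩
      rw [ho'def, Finset.smul_finset_symmDiff, hgo, h1]
    · rintro ⟨h1, h2'⟩
      refine ⟨?_, ?_⟩
      · rw [hd_eq, Finset.smul_finset_symmDiff, h1, h2']
      · rw [hCo, Finset.smul_finset_sdiff, h1, h2']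
  rw [hstab]
  refine ⟨S5614.result o o' ho ho' h2, ?_, ?_⟩
  · intro g hg hfix
    apply faithful_sdiff o o' ho ho' h2 g hg
    rw [← hCo]
    exact hfix
  · intro g hg hfix
    have hg' : g ∈ MulAction.stabilizer M24 o' ⊓ MulAction.stabilizer M24 o := by
      rw [inf_comm]; exact hg
    have h2' : (o' ∩ o).card = 2 := by rw [Finset.inter_comm]; exact h2
    apply faithful_sdiff o' o ho' ho h2' g hg'
    rw [← hdC]
    exact hfix

end Cfsg.Agent.S5618
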