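import Cfsg.Statements.S5619
import Cfsg.Agent.Lib.Helper28.FrobM9
import Cfsg.Agent.Lib.Helper28.M24Dodecad
import Cfsg.Agent.Lib.Helper28.M24Classes
import Cfsg.Agent.Lib.Helper3.Golay.Dodecad3
import Cfsg.Agent.S5601

set_option autoImplicit false
open scoped Pointwise
open Cfsg

namespace Cfsg.Agent.S5619
open Cfsg.Agent.Lib.Helper28.GolayCode Cfsg.Agent.Lib.Helper28.M24Pairs
  Cfsg.Agent.Lib.Helper28.M24OctadFix

/-! ### The seventy-two elements of the base group -/

def L72 : List ℕ := [0xbdab49ca307b9ac5a928398a418820, 0x60124341d32ae286deaa3c9f618834, 0x8c8b3b51004b14dbb9eb392b018826, 0x51120819b22c577722ac3cdf418836, 0x741e601154aa2f162cad3d93318832, 0x699f020196add0b544ae3d13218833, 0x5ccb2a5ae44a98e435f1382a618830, 0x452b694d667b5ca8b1373c0a018824, 0xbd2164c9d57c58d52e674180418825, 0x74809a58e59b56cbc5ea4121518826, 0x6966435629029c765e0b449f418836, 0x8d5e62917681eee6a80c4526918832, 0x59265a99920395789e0d425f618834, 0x52412b52e49adb13b1ee4160618835, 0x619f5215b485cea5b81145a7218829,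 0x3da14925467b22b736774540518824, 0x61260ac1692b911bb4c754a961882f, 0x724b27d9a099d8b8de88510d518830, 0xbd690011963362e3a0ab53e7218829, 0x38264856f22a1cd5c4cc5268f18836, 0x8bcd6925d5a5d674326d540a418820, 0x448a9b3e249b0f76ae8e500d018835, 0x6d8cf4c910a2eec71e71554a018824, 0x5c295200ef345a8638b755a6918832, 0x8cc127d1854a1aa75ec7590d018835, 0x6912585553044eebb0c85cad41882f, 0xbc2d5291b4331d141c0a5bd3218833, 0x73cd494e30b5d483b52c5d40418825, 0x41524ac2f201e2c538cd5cecf18834, 0x650cf9c8f5b2aed8a12e5c00518824, 0x3c813a3dc44b51762ad1594d518830, 0x556d02150f339876c4175d13318832, 0x50244a9a292b6eb43a0764ed41882f, 0x89ad5010ef82dd7534a86524918833, 0x39240355132ddae8ae0a626cf18834, 0x7520f4cee6b450a69e4b654a418820, 0xbcca9a3d60928e8746cd6120618835, 0x5be149a5b5b2227baa4e618a018824, 0x456c6201548396d3dcb163e5318829, 0x6a4b37d1c491d515a2d76021518826, 0x71a902910faaa375b0076da5318829, 0x59644819d3032ea3c6a86a6961882f, 0x8daaf9a6e6a38eb6224a6c00418825, 0x41245340e905d9172aab6ce8f18836, 0xba413b3d4592d078ba8c692a618830,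 0x3c28621576ac54c45c0e6be4918833, 0x53eb64cd90a1dc8bae516980518824, 0x64c097da249216e51e97696b018826, 0x6c2c6282efab1688a8877527218829, 0x548897d1609de2d61ec8716a618830, 0x42492a3d859c6e75b6ca702b018826, 0x63eb44c946b1db74466b7408518820, 0x5d2af92510b34f155e6c7188018825, 0x39ad001634aad8aba08d73e6918832, 0xb8265818e92214b6b2b174acf18834, 0x89660341b22290c3aeb7726d41882f, 0x5c8937d9454ddcc6a2878820618835, 0x65686016ef8354772c888d93218833, 0x6be169c966a21973b92a8d48018825, 0x3cc92b3da04bae85328b8961518826, 0x41a95281d6829abb9c8c8bd3318832, 0x55a0f94cf5a310e5dd2d8988518820, 0xb9520a991321d6a6360e8ca8f18836, 0x701253559222ced42a178ce961882f, 0x458d44cdb57ad4e64647bc08018825, 0x3d0d69a5907a9716ba48bd48518820, 0x5d5f02823431d0d7308abda4918833, 0x541f5015d6320ec8b48bbd25318829, 0x6cc89b50e593a2a42decb80d518830, 0x62493a5900945cb3a9edb94d018835, 0x88245ac1532358859cceba5f418836, 0x7164085569231a7520d1bcdf618834]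

noncomputable def memOK (k : ℕ) : Bool :=
  inM24 k && Nat.beq (applyMask k D0) D0 && Nat.beq (img k 1) 1 && Nat.beq (img k 2) 2 &&
    Nat.beq (img k 3) 3

theorem L72_ok : L72.all memOK = true := by decide +kernel

theorem L72_cover : ∀ i < 24, ∀ j < 24, (0x827d80 : ℕ).testBit i = false ∨
    (0x827d80 : ℕ).testBit j = false ∨ i = j ∨ ∃ k ∈ L72, img k 7 = i ∧ img k 8 = j := by
  decide +kernel

def isPow4 (q : ℕ) : Bool :=
  (List.range 24).all fun i => Nat.beq (img q (img q (img q (img q i)))) i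

def imgC (k k' i : ℕ) : ℕ := img k (img k' i)

def prodCube1 (k k' : ℕ) : Bool :=
  (List.range 24).all fun i => Nat.beq (imgC k k' (imgC k k' (imgC k k' i))) i

def isIdP (k : ℕ) : Bool := (List.range 24).all fun i => Nat.beq (img k i) i

def sameP (k k' : ℕ) : Bool := (List.range 24).all fun i => Nat.beq (img k i) (img k' i)

theorem F2 : L72.all (fun k => isPow4 k || isCube1 k) = true := by decide +kernel

theorem F3 : L72.all (fun k => L72.all fun k' =>
    !(isCube1 k) || !(isCube1 k') || prodCube1 k k') = true := by decide +kernel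

theorem F4 : L72.all (fun k => L72.all fun k' =>
    !(isInvolP k) || !(isInvolP k') || isIdP k || isIdP k' || sameP k k' || prodCube1 k k') = true := by
  decide +kernel

/-! ### Semantics of the packed checks -/

theorem permOf_apply_enc {k : ℕ} (hk : isPerm k = true) (p : GolayPt) :
    permOf k p = dec (img k (enc p)) := by
  conv_lhs => rw [← dec_enc p]
  exact permOf_apply_dec k hk _ (enc_lt p)

theorem pow4_of_isPow4 {q : ℕ} (hq : isPerm q = true) (h : isPow4 q = true) : permOf q ^ 4 = 1 := by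
  apply Equiv.ext
  intro p
  simp only [pow_succ, pow_zero, one_mul, Equiv.Perm.mul_apply, Equiv.Perm.one_apply]
  rw [← dec_enc p]
  have hi := enc_lt p
  have h1 := img_lt_of_isPerm q hq _ hi
  have h2 := img_lt_of_isPerm q hq _ h1
  have h3 := img_lt_of_isPerm q hq _ h2
  rw [permOf_apply_dec q hq _ hi, permOf_apply_dec q hq _ h1, permOf_apply_dec q hq _ h2,
    permOf_apply_dec q hq _ h3]
  unfold isPow4 at h
  have := List.all_eq_true.mp h (enc p) (List.mem_range.mpr hi)
  rw [nat_beq_iff] at this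
  rw [this]

theorem mul_apply_dec {k k' : ℕ} (hk : isPerm k = true) (hk' : isPerm k' = true) (i : ℕ)
    (hi : i < 24) : (permOf k * permOf k') (dec i) = dec (imgC k k' i) := by
  rw [Equiv.Perm.mul_apply, permOf_apply_dec k' hk' i hi,
    permOf_apply_dec k hk _ (img_lt_of_isPerm k' hk' i hi)]
  rfl

theorem imgC_lt {k k' : ℕ} (hk : isPerm k = true) (hk' : isPerm k' = true) (i : ℕ)
    (hi : i < 24) : imgC k k' i < 24 :=
  img_lt_of_isPerm k hk _ (img_lt_of_isPerm k' hk' i hi)

theorem prod_cube_of {k k' : ℕ} (hk : isPerm k = true) (hk' : isPerm k' = true)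
    (h : prodCube1 k k' = true) : (permOf k * permOf k') ^ 3 = 1 := by
  apply Equiv.ext
  intro p
  simp only [pow_succ, pow_zero, one_mul, Equiv.Perm.one_apply]
  rw [Equiv.Perm.mul_apply (permOf k * permOf k' * (permOf k * permOf k')),
    Equiv.Perm.mul_apply (permOf k * permOf k')]
  rw [← dec_enc p]
  have hi := enc_lt p
  have h1 := imgC_lt hk hk' _ hi
  have h2 := imgC_lt hk hk' _ h1
  rw [mul_apply_dec hk hk' _ hi, mul_apply_dec hk hk' _ h1, mul_apply_dec hk hk' _ h2]
  unfold prodCube1 at h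
  have := List.all_eq_true.mp h (enc p) (List.mem_range.mpr hi)
  rw [nat_beq_iff] at this
  rw [this]

theorem eq_one_of_isIdP {k : ℕ} (hk : isPerm k = true) (h : isIdP k = true) : permOf k = 1 := by
  apply Equiv.ext
  intro p
  rw [permOf_apply_enc hk, Equiv.Perm.one_apply]
  unfold isIdP at h
  have := List.all_eq_true.mp h (enc p) (List.mem_range.mpr (enc_lt p))
  rw [nat_beq_iff] at this
  rw [this, dec_enc]

theorem eq_of_sameP {k k' : ℕ} (hk : isPerm k = true) (hk' : isPerm k' = true)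
    (h : sameP k k' = true) : permOf k = permOf k' := by
  apply Equiv.ext
  intro p
  rw [permOf_apply_enc hk, permOf_apply_enc hk']
  unfold sameP at h
  have := List.all_eq_true.mp h (enc p) (List.mem_range.mpr (enc_lt p))
  rw [nat_beq_iff] at this
  rw [this]

/-! ### The base group -/

theorem L72_spec {k : ℕ} (hk : k ∈ L72) : inM24 k = true ∧ permOf k • bset D0 = bset D0 ∧
    permOf k (dec 1) = dec 1 ∧ permOf k (dec 2) = dec 2 ∧ permOf k (dec 3) = dec 3 := by
  have h := List.all_eq_true.mp L72_ok k hk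
  unfold memOK at h
  simp only [Bool.and_eq_true, nat_beq_iff] at h
  obtain ⟨⟨⟨⟨h1, h2⟩, h3⟩, h4⟩, h5⟩ := h
  have hp := isPerm_of_inM24 _ h1
  refine ⟨h1, ?_, ?_, ?_, ?_⟩
  · rw [permOf_smul_bset k hp, h2]
  · rw [permOf_apply_dec k hp 1 (by norm_num), h3]
  · rw [permOf_apply_dec k hp 2 (by norm_num), h4]
  · rw [permOf_apply_dec k hp 3 (by norm_num), h5]

/-- the five base points. -/
def bp (i : ℕ) : GolayPt := dec ([1, 2, 3, 7, 8].getD i 0)

theorem bp_mem : ∀ i < 5, bp i ∈ bset D0 := by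
  intro i hi
  rw [mem_bset]
  interval_cases i <;> decide +kernel

theorem bp_inj : ∀ i < 5, ∀ j < 5, bp i = bp j → i = j := by decide +kernel

theorem rest_of : ∀ i < 24, D0.testBit i = true → i ≠ 1 → i ≠ 2 → i ≠ 3 →
    (0x827d80 : ℕ).testBit i = true := by decide +kernel

theorem dec_inj' {i j : ℕ} (hi : i < 24) (hj : j < 24) (h : dec i = dec j) : i = j := by
  have := congrArg enc h
  rwa [enc_dec i hi, enc_dec j hj] at this

/-- an element of `M24` fixing the base dodecad and the three base points is listed. -/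
theorem mem_L72_of_fix {x : Equiv.Perm GolayPt} (hx : x ∈ M24) (hd : x • bset D0 = bset D0)
    (h1 : x (dec 1) = dec 1) (h2 : x (dec 2) = dec 2) (h3 : x (dec 3) = dec 3) :
    ∃ k ∈ L72, x = permOf k := by
  have hmem : ∀ p, x p ∈ bset D0 ↔ p ∈ bset D0 := by
    intro p
    conv_lhs => rw [← hd]
    exact Finset.smul_mem_smul_finset_iff x
  have hrest : ∀ i, i < 24 → D0.testBit i = true → i ≠ 1 → i ≠ 2 → i ≠ 3 →
      (0x827d80 : ℕ).testBit (enc (x (dec i))) = true := by
    intro i hi hD n1 n2 n3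
    apply rest_of _ (enc_lt _)
    · have : x (dec i) ∈ bset D0 := (hmem _).mpr (by rw [mem_bset, enc_dec i hi]; exact hD)
      rwa [mem_bset] at this
    · intro h
      have : x (dec i) = x (dec 1) := by rw [h1, ← h, dec_enc]
      exact n1 (dec_inj' hi (by norm_num) (x.injective this))
    · intro h
      have : x (dec i) = x (dec 2) := by rw [h2, ← h, dec_enc]
      exact n2 (dec_inj' hi (by norm_num) (x.injective this))
    · intro h
      have : x (dec i) = x (dec 3) := by rw [h3, ← h, dec_enc]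
      exact n3 (dec_inj' hi (by norm_num) (x.injective this))
  have ha := hrest 7 (by norm_num) (by decide) (by norm_num) (by norm_num) (by norm_num)
  have hb := hrest 8 (by norm_num) (by decide) (by norm_num) (by norm_num) (by norm_num)
  have hab : enc (x (dec 7)) ≠ enc (x (dec 8)) := by
    intro h
    have : x (dec 7) = x (dec 8) := by rw [← dec_enc (x (dec 7)), h, dec_enc]
    exact absurd (dec_inj' (by norm_num) (by norm_num) (x.injective this)) (by norm_num)
  rcases L72_cover _ (enc_lt (x (dec 7))) _ (enc_lt (x (dec 8))) with h | h | h | ⟨k, hk, h7, h8⟩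
  · rw [ha] at h; exact absurd h (by simp)
  · rw [hb] at h; exact absurd h (by simp)
  · exact absurd h hab
  · refine ⟨k, hk, ?_⟩
    obtain ⟨hkM, hkd, hk1, hk2, hk3⟩ := L72_spec hk
    have hkP := isPerm_of_inM24 _ hkM
    have hy : (permOf k)⁻¹ * x = 1 := by
      apply Cfsg.Agent.Lib.Helper3.Golay.stab_dodecad_unique D0_mem bp bp_mem bp_inj
      · refine Subgroup.mem_inf.mpr ⟨M24.mul_mem (M24.inv_mem (permOf_mem_M24 _ hkM)) hx, ?_⟩
        rw [MulAction.mem_stabilizer_iff, mul_smul, hd, inv_smul_eq_iff, hkd]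
      · intro i hi
        rw [Equiv.Perm.mul_apply, Equiv.Perm.inv_eq_iff_eq]
        interval_cases i
        · show x (dec 1) = permOf k (dec 1)
          rw [h1, hk1]
        · show x (dec 2) = permOf k (dec 2)
          rw [h2, hk2]
        · show x (dec 3) = permOf k (dec 3)
          rw [h3, hk3]
        · show x (dec 7) = permOf k (dec 7)
          rw [permOf_apply_dec k hkP 7 (by norm_num), h7, dec_enc]
        · show x (dec 8) = permOf k (dec 8)
          rw [permOf_apply_dec k hkP 8 (by norm_num), h8, dec_enc]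
    exact (inv_mul_eq_one.mp hy).symm

/-! ### Transport to a general dodecad and three of its points -/

theorem exists_g {d : Finset GolayPt} (hd : d ∈ dodecads) {p q r : GolayPt} (hp : p ∈ d)
    (hq : q ∈ d) (hr : r ∈ d) (hpq : p ≠ q) (hpr : p ≠ r) (hqr : q ≠ r) :
    ∃ g ∈ M24, g • bset D0 = d ∧ g (dec 1) = p ∧ g (dec 2) = q ∧ g (dec 3) = r := by
  obtain ⟨g1, hg1⟩ := dodecad_trans d hd
  rw [Cfsg.Agent.Lib.Helper28.GolayCode.M24_smul_def] at hg1
  have hmem1 : ∀ i < 5, (g1 : Equiv.Perm GolayPt) (bp i) ∈ d := by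
    intro i hi
    rw [← hg1]
    exact Finset.smul_mem_smul_finset (bp_mem i hi)
  obtain ⟨h, hh, hmap⟩ := Cfsg.Agent.Lib.Helper3.Golay.stab_dodecad_map hd
    (fun i => (g1 : Equiv.Perm GolayPt) (bp i)) (fun i => if i = 0 then p else if i = 1 then q else r)
    3 (by norm_num) (fun i hi => hmem1 i (by omega))
    (by intro i hi; interval_cases i <;> simp [hp, hq, hr])
    (by
      intro i hi j hj hij
      exact bp_inj i (by omega) j (by omega) ((g1 : Equiv.Perm GolayPt).injective hij))
    (by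
      intro i hi j hj hij
      interval_cases i <;> interval_cases j <;> simp_all)
  obtain ⟨hhM, hhd⟩ := Subgroup.mem_inf.mp hh
  rw [MulAction.mem_stabilizer_iff] at hhd
  refine ⟨h * g1, M24.mul_mem hhM g1.2, ?_, ?_, ?_, ?_⟩
  · rw [mul_smul, hg1, hhd]
  · have := hmap 0 (by norm_num)
    simp only [if_true] at this
    exact this
  · have := hmap 1 (by norm_num)
    simp only [one_ne_zero, if_false, if_true] at this
    exact this
  · have := hmap 2 (by norm_num)
    simp only [OfNat.ofNat_ne_zero, OfNat.ofNat_ne_one, if_false] at this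
    exact this

theorem conj_pow_eq_one (g K : Equiv.Perm GolayPt) (n : ℕ) :
    (g * K * g⁻¹) ^ n = 1 ↔ K ^ n = 1 := by
  rw [conj_pow]
  constructor
  · intro h
    have := congrArg (fun x => g⁻¹ * x * g) h
    simpa [mul_assoc] using this
  · intro h
    rw [h]
    simp

section
variable {d : Finset GolayPt} {p q r : GolayPt}

/-- the group of the statement. -/
abbrev Gst (d : Finset GolayPt) (p q r : GolayPt) : Subgroup ↥M24 :=
  MulAction.stabilizer M24 d ⊓ MulAction.stabilizer M24 p ⊓ MulAction.stabilizer M24 q ⊓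
    MulAction.stabilizer M24 r

/-- the coercion to permutations. -/
def φ (d : Finset GolayPt) (p q r : GolayPt) : ↥(Gst d p q r) →* Equiv.Perm GolayPt :=
  (Subgroup.subtype M24).comp (Subgroup.subtype (Gst d p q r))

theorem φ_inj : Function.Injective (φ d p q r) := by
  intro a b h
  exact Subtype.ext (Subtype.ext h)

theorem φ_props (z : ↥(Gst d p q r)) : φ d p q r z ∈ M24 ∧ φ d p q r z • d = d ∧
    φ d p q r z p = p ∧ φ d p q r z q = q ∧ φ d p q r z r = r := by
  have hz := z.2
  simp only [Gst, Subgroup.mem_inf, MulAction.mem_stabilizer_iff] at hz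
  obtain ⟨⟨⟨h1, h2⟩, h3⟩, h4⟩ := hz
  exact ⟨z.1.2, h1, h2, h3, h4⟩

theorem pow_eq_one_iff (z : ↥(Gst d p q r)) (n : ℕ) : z ^ n = 1 ↔ (φ d p q r z) ^ n = 1 := by
  rw [← map_pow]
  constructor
  · intro h; rw [h, map_one]
  · intro h
    apply φ_inj
    rw [h, map_one]

end

theorem rep {d : Finset GolayPt} {p q r : GolayPt} {g : Equiv.Perm GolayPt} (hg : g ∈ M24)
    (hgd : g • bset D0 = d) (hgp : g (dec 1) = p) (hgq : g (dec 2) = q) (hgr : g (dec 3) = r)
    (z : ↥(Gst d p q r)) : ∃ k ∈ L72, φ d p q r z = g * permOf k * g⁻¹ := by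
  obtain ⟨hM, hd, hp, hq, hr⟩ := φ_props z
  set c := φ d p q r z with hc
  have hfix : ∀ (i : ℕ) (y : GolayPt), g (dec i) = y → c y = y → (g⁻¹ * c * g) (dec i) = dec i := by
    intro i y hgy hcy
    rw [Equiv.Perm.mul_apply, Equiv.Perm.mul_apply, hgy, hcy, ← hgy]
    simp
  obtain ⟨k, hk, hkeq⟩ := mem_L72_of_fix (x := g⁻¹ * c * g)
    (M24.mul_mem (M24.mul_mem (M24.inv_mem hg) hM) hg)
    (by rw [mul_smul, mul_smul, hgd, hd, ← hgd, inv_smul_smul])
    (hfix 1 p hgp hp) (hfix 2 q hgq hq) (hfix 3 r hgr hr)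
  refine ⟨k, hk, ?_⟩
  rw [← hkeq]
  group

/-! ### The order of the group -/

theorem card_K3 {d : Finset GolayPt} (hd : d ∈ dodecads) {p q r : GolayPt} (hp : p ∈ d)
    (hq : q ∈ d) (hr : r ∈ d) (hpq : p ≠ q) (hpr : p ≠ r) (hqr : q ≠ r) :
    Nat.card ↥(M24 ⊓ MulAction.stabilizer (Equiv.Perm GolayPt) d ⊓
      MulAction.stabilizer (Equiv.Perm GolayPt) p ⊓ MulAction.stabilizer (Equiv.Perm GolayPt) q ⊓
      MulAction.stabilizer (Equiv.Perm GolayPt) r) = 72 := by
  classical
  have h0 := Cfsg.Agent.Lib.Helper3.Golay.card_stab_dodecad_point hd hp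
  have e1 := Cfsg.Agent.Lib.Helper3.Golay.card_of_orbit_eq
    (M24 ⊓ MulAction.stabilizer (Equiv.Perm GolayPt) d ⊓
      MulAction.stabilizer (Equiv.Perm GolayPt) p) q (d.erase p)
    (by
      intro g hg
      obtain ⟨hg1, hgp⟩ := Subgroup.mem_inf.mp hg
      obtain ⟨hgM, hgd⟩ := Subgroup.mem_inf.mp hg1
      rw [MulAction.mem_stabilizer_iff] at hgd hgp
      rw [Finset.mem_erase]
      constructor
      · intro h
        apply hpq
        have : g • q = g • p := by rw [h, hgp]
        exact (MulAction.injective g this).symm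
      · rw [← hgd]
        exact Finset.smul_mem_smul_finset hq)
    (by
      intro δ hδ
      rw [Finset.mem_erase] at hδ
      obtain ⟨g, hg, hmap⟩ := Cfsg.Agent.Lib.Helper3.Golay.stab_dodecad_map hd
        (fun i => if i = 0 then p else q) (fun i => if i = 0 then p else δ) 2 (by norm_num)
        (by intro i hi; interval_cases i <;> simp [hp, hq])
        (by intro i hi; interval_cases i <;> simp [hp, hδ.2])
        (by intro i hi j hj hij; interval_cases i <;> interval_cases j <;> simp_all)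
        (by
          intro i hi j hj hij
          have := hδ.1
          interval_cases i <;> interval_cases j <;> simp_all)
      have g0 := hmap 0 (by norm_num)
      have g1 := hmap 1 (by norm_num)
      simp only [if_true, one_ne_zero, if_false] at g0 g1
      exact ⟨g, ⟨hg, g0⟩, g1⟩)
  have e2 := Cfsg.Agent.Lib.Helper3.Golay.card_of_orbit_eq
    (M24 ⊓ MulAction.stabilizer (Equiv.Perm GolayPt) d ⊓
      MulAction.stabilizer (Equiv.Perm GolayPt) p ⊓
      MulAction.stabilizer (Equiv.Perm GolayPt) q) r ((d.erase p).erase q)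
    (by
      intro g hg
      obtain ⟨hg2, hgq⟩ := Subgroup.mem_inf.mp hg
      obtain ⟨hg1, hgp⟩ := Subgroup.mem_inf.mp hg2
      obtain ⟨hgM, hgd⟩ := Subgroup.mem_inf.mp hg1
      rw [MulAction.mem_stabilizer_iff] at hgd hgp hgq
      rw [Finset.mem_erase, Finset.mem_erase]
      refine ⟨?_, ?_, ?_⟩
      · intro h
        apply hqr
        have : g • r = g • q := by rw [h, hgq]
        exact (MulAction.injective g this).symm
      · intro h
        apply hpr
        have : g • r = g • p := by rw [h, hgp]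
        exact (MulAction.injective g this).symm
      · rw [← hgd]
        exact Finset.smul_mem_smul_finset hr)
    (by
      intro δ hδ
      rw [Finset.mem_erase, Finset.mem_erase] at hδ
      obtain ⟨g, hg, hmap⟩ := Cfsg.Agent.Lib.Helper3.Golay.stab_dodecad_map hd
        (fun i => if i = 0 then p else if i = 1 then q else r)
        (fun i => if i = 0 then p else if i = 1 then q else δ) 3 (by norm_num)
        (by intro i hi; interval_cases i <;> simp [hp, hq, hr])
        (by intro i hi; interval_cases i <;> simp [hp, hq, hδ.2.2])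
        (by intro i hi j hj hij; interval_cases i <;> interval_cases j <;> simp_all)
        (by
          intro i hi j hj hij
          have h1 := hδ.1
          have h2 := hδ.2.1
          interval_cases i <;> interval_cases j <;> simp_all)
      have g0 := hmap 0 (by norm_num)
      have g1 := hmap 1 (by norm_num)
      have g2 := hmap 2 (by norm_num)
      simp only [if_true, one_ne_zero, if_false, OfNat.ofNat_ne_zero, OfNat.ofNat_ne_one] at g0 g1 g2
      exact ⟨g, ⟨⟨hg, g0⟩, g1⟩, g2⟩)
  have c1 : (d.erase p).card = 11 := by rw [Finset.card_erase_of_mem hp, hd.2]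
  have c2 : ((d.erase p).erase q).card = 10 := by
    rw [Finset.card_erase_of_mem (Finset.mem_erase.mpr ⟨hpq.symm, hq⟩), c1]
  rw [c1] at e1
  rw [c2] at e2
  omega

theorem card_Gst {d : Finset GolayPt} (hd : d ∈ dodecads) {p q r : GolayPt} (hp : p ∈ d)
    (hq : q ∈ d) (hr : r ∈ d) (hpq : p ≠ q) (hpr : p ≠ r) (hqr : q ≠ r) :
    Nat.card ↥(Gst d p q r) = 72 := by
  rw [← card_K3 hd hp hq hr hpq hpr hqr]
  apply Nat.card_congr
  refine Equiv.ofBijective (fun z => ⟨φ d p q r z, ?_⟩) ⟨?_, ?_⟩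
  · obtain ⟨h1, h2, h3, h4, h5⟩ := φ_props z
    exact ⟨⟨⟨⟨h1, h2⟩, h3⟩, h4⟩, h5⟩
  · intro a b h
    have h' : φ d p q r a = φ d p q r b := by
      have := Subtype.ext_iff.mp h
      exact this
    exact φ_inj h'
  · rintro ⟨y, ⟨⟨⟨⟨h1, h2⟩, h3⟩, h4⟩, h5⟩⟩
    refine ⟨⟨⟨y, h1⟩, ?_⟩, rfl⟩
    simp only [Gst, Subgroup.mem_inf, MulAction.mem_stabilizer_iff]
    exact ⟨⟨⟨h2, h3⟩, h4⟩, h5⟩

/-! ### The statement -/

theorem result (d : Finset Cfsg.GolayPt) (hd : d ∈ Cfsg.dodecads) (p q r : Cfsg.GolayPt) (hp : p ∈ d) (hq : q ∈ d) (hr : r ∈ d) (hpq : p ≠ q) (hpr : p ≠ r) (hqr : q ≠ r) : (∀ Q : Sylow 3 ↥(MulAction.stabilizer Cfsg.M24 d ⊓ MulAction.stabilizer Cfsg.M24 p ⊓ MulAction.stabilizer Cfsg.M24 q ⊓ MulAction.stabilizer Cfsg.M24 r), (Q : Subgroup ↥(MulAction.stabilizer Cfsg.M24 d ⊓ MulAction.stabilizer Cfsg.M24 p ⊓ MulAction.stabilizer Cfsg.M24 q ⊓ MulAction.stabilizer Cfsg.M24 r)).Normal ∧ Nat.card ↥Q = 9 ∧ ∀ x ∈ (Q : Subgroup ↥(MulAction.stabilizer Cfsg.M24 d ⊓ MulAction.stabilizer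 Cfsg.M24 p ⊓ MulAction.stabilizer Cfsg.M24 q ⊓ MulAction.stabilizer Cfsg.M24 r)), x ^ 3 = 1) ∧ ∀ P : Sylow 2 ↥(MulAction.stabilizer Cfsg.M24 d ⊓ MulAction.stabilizer Cfsg.M24 p ⊓ MulAction.stabilizer Cfsg.M24 q ⊓ MulAction.stabilizer Cfsg.M24 r), Nonempty (↥P ≃* QuaternionGroup 2) := by
  obtain ⟨g, hg, hgd, hgp, hgq, hgr⟩ := exists_g hd hp hq hr hpq hpr hqr
  have hrep := rep hg hgd hgp hgq hgr
  have hperm : ∀ k ∈ L72, isPerm k = true := fun k hk => isPerm_of_inM24 _ (L72_spec hk).1
  apply Cfsg.Agent.Lib.Helper28.FrobM9.sylow_of_facts (H := ↥(Gst d p q r))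
    (card_Gst hd hp hq hr hpq hpr hqr)
  · -- exponent
    intro z
    obtain ⟨k, hk, hz⟩ := hrep z
    have hkP := hperm k hk
    have := List.all_eq_true.mp F2 k hk
    rw [Bool.or_eq_true] at this
    rcases this with h | h
    · left
      rw [pow_eq_one_iff, hz, conj_pow_eq_one]
      exact pow4_of_isPow4 hkP h
    · right
      rw [pow_eq_one_iff, hz, conj_pow_eq_one]
      exact Cfsg.Agent.S5601.permOf_pow3_of_isCube1 hkP h
  · -- elements of order three multiply
    intro x y hx hy
    obtain ⟨k, hk, hxk⟩ := hrep x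
    obtain ⟨k', hk', hyk⟩ := hrep y
    have hkP := hperm k hk
    have hkP' := hperm k' hk'
    rw [pow_eq_one_iff, hxk, conj_pow_eq_one] at hx
    rw [pow_eq_one_iff, hyk, conj_pow_eq_one] at hy
    have c1 := isCube1_of hkP hx
    have c2 := isCube1_of hkP' hy
    have := List.all_eq_true.mp (List.all_eq_true.mp F3 k hk) k' hk'
    rw [c1, c2] at this
    simp only [Bool.not_true, Bool.false_or] at this
    rw [pow_eq_one_iff, map_mul, hxk, hyk]
    have e : g * permOf k * g⁻¹ * (g * permOf k' * g⁻¹) = g * (permOf k * permOf k') * g⁻¹ := by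
      group
    rw [e, conj_pow_eq_one]
    exact prod_cube_of hkP hkP' this
  · -- products of involutions
    intro u v hu hv hu1 hv1 huv
    obtain ⟨k, hk, huk⟩ := hrep u
    obtain ⟨k', hk', hvk⟩ := hrep v
    have hkP := hperm k hk
    have hkP' := hperm k' hk'
    rw [pow_eq_one_iff, huk, conj_pow_eq_one] at hu
    rw [pow_eq_one_iff, hvk, conj_pow_eq_one] at hv
    have c1 := isInvolP_of hkP hu
    have c2 := isInvolP_of hkP' hv
    have n1 : isIdP k = false := by
      by_contra hcon
      rw [Bool.not_eq_false] at hcon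
      apply hu1
      apply φ_inj
      rw [huk, eq_one_of_isIdP hkP hcon, map_one]
      group
    have n2 : isIdP k' = false := by
      by_contra hcon
      rw [Bool.not_eq_false] at hcon
      apply hv1
      apply φ_inj
      rw [hvk, eq_one_of_isIdP hkP' hcon, map_one]
      group
    have n3 : sameP k k' = false := by
      by_contra hcon
      rw [Bool.not_eq_false] at hcon
      apply huv
      apply φ_inj
      rw [huk, hvk, eq_of_sameP hkP hkP' hcon]
    have := List.all_eq_true.mp (List.all_eq_true.mp F4 k hk) k' hk'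
    rw [c1, c2, n1, n2, n3] at this
    simp only [Bool.not_true, Bool.false_or] at this
    rw [pow_eq_one_iff, map_mul, huk, hvk]
    have e : g * permOf k * g⁻¹ * (g * permOf k' * g⁻¹) = g * (permOf k * permOf k') * g⁻¹ := by
      group
    rw [e, conj_pow_eq_one]
    exact prod_cube_of hkP hkP' this

end Cfsg.Agent.S5619
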