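import Cfsg.Statements.S5622
import Cfsg.Agent.Lib.Helper28.Golay24

set_option autoImplicit false
open Cfsg

namespace Cfsg.Agent.S5622

open Cfsg.Agent.Lib.Helper28.Golay24

theorem result (C : Submodule (ZMod 2) (Fin 24 → ZMod 2)) (hdim : Module.finrank (ZMod 2) C = 12) (horth : ∀ v ∈ C, ∀ w ∈ C, ∑ i, v i * w i = 0) (hmin : ∀ w ∈ C, w ≠ 0 → 8 ≤ hammingNorm w) : (∃ w ∈ C, hammingNorm w = 8) ∧ Cfsg.IsSteinerSystem 5 8 (Cfsg.wordsOfWeight (C : Set (Fin 24 → ZMod 2)) 8) := by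
  have hsupp : ∀ w : Fin 24 → ZMod 2, Cfsg.support₂ w = supp w := fun w => rfl
  constructor
  · obtain ⟨c, hc, h8, -⟩ := octad_exists C hdim hmin (Finset.univ.filter (fun i : Fin 24 => i.val < 5))
      (by decide)
    exact ⟨c, hc, h8⟩
  · refine ⟨fun b hb => hb.2, ?_⟩
    intro s hs
    obtain ⟨c, hc, h8, hsc⟩ := octad_exists C hdim hmin s hs
    refine ⟨supp c, ⟨⟨⟨c, hc, hsupp c⟩, ?_⟩, hsc⟩, ?_⟩
    · rw [← hammingNorm_eq_card_supp]; exact h8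
    · rintro b' ⟨⟨⟨c', hc', rfl⟩, hb'8⟩, hsb'⟩
      rw [hsupp] at hb'8 hsb' ⊢
      have h8' : hammingNorm c' = 8 := by rw [hammingNorm_eq_card_supp]; exact hb'8
      rw [octad_unique C hmin s hs c c' hc hc' h8 h8' hsc hsb']

end Cfsg.Agent.S5622
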