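import Cfsg.Statements.S5623
import Cfsg.Agent.Lib.Helper28.Golay24

set_option autoImplicit false
open Cfsg

namespace Cfsg.Agent.S5623

open Cfsg.Agent.Lib.Helper28.Golay24

theorem result (C : Submodule (ZMod 2) (Fin 24 → ZMod 2)) (hdim : Module.finrank (ZMod 2) C = 12) (horth : ∀ v ∈ C, ∀ w ∈ C, ∑ i, v i * w i = 0) (hmin : ∀ w ∈ C, w ≠ 0 → 8 ≤ hammingNorm w) (w : Fin 24 → ZMod 2) : (∃ u : Fin 24 → ZMod 2, {u : Fin 24 → ZMod 2 | u - w ∈ C ∧ hammingNorm u ≤ 4} = {u} ∧ hammingNorm u ≤ 3) ∨ ({u : Fin 24 → ZMod 2 | u - w ∈ C ∧ hammingNorm u ≤ 4}.ncard = 6 ∧ ∀ u ∈ {u : Fin 24 → ZMod 2 | u - w ∈ C ∧ hammingNorm u ≤ 4}, hammingNorm u = 4 ∧ ∀ u' ∈ {u : Fin 24 → ZMod 2 | u - w ∈ C ∧ hammingNorm u ≤ 4}, u ≠ u' → Disjoint (Finset.univ.filter fun i => u i ≠ 0) (Finset.univ.filter fun i => u' i ≠ 0)) := by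
  have hmem : ∀ u : W24, u - w ∈ C ↔ (Submodule.Quotient.mk u : W24 ⧸ C) = Submodule.Quotient.mk w := by
    intro u; rw [Submodule.Quotient.eq]
  have hsame : ∀ u v : W24, u - w ∈ C → v - w ∈ C → u + v ∈ C := by
    intro u v hu hv
    rw [hmem] at hu hv
    exact (mk_eq_iff C u v).mp (hu.trans hv.symm)
  rcases coset_dichotomy C hdim hmin (Submodule.Quotient.mk w) with ⟨u₀, hu₀3, hu₀q⟩ | h6
  · left
    refine ⟨u₀, ?_, hu₀3⟩
    ext u
    simp only [Set.mem_setOf_eq, Set.mem_singleton_iff]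
    constructor
    · rintro ⟨hu, hu4⟩
      exact same_coset_small C hmin u u₀ (hsame u u₀ hu ((hmem u₀).mpr hu₀q)) (by omega)
    · rintro rfl
      exact ⟨(hmem u).mpr hu₀q, by omega⟩
  · right
    have hne : (fiber4 C (Submodule.Quotient.mk w)).Nonempty := by
      rw [← Finset.card_pos, h6]; norm_num
    obtain ⟨v₀, hv₀⟩ := hne
    rw [mem_fiber4] at hv₀
    have hset : {u : Fin 24 → ZMod 2 | u - w ∈ C ∧ hammingNorm u ≤ 4}
        = ((fiber4 C (Submodule.Quotient.mk w) : Finset W24) : Set W24) := by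
      ext u
      simp only [Set.mem_setOf_eq, Finset.mem_coe, mem_fiber4]
      constructor
      · rintro ⟨hu, hu4⟩
        refine ⟨?_, (hmem u).mp hu⟩
        by_contra h4
        have h3 : hammingNorm u ≤ 3 := by omega
        have huv : u = v₀ := same_coset_small C hmin u v₀
          (hsame u v₀ hu ((hmem v₀).mpr hv₀.2)) (by omega)
        rw [huv] at h3; omega
      · rintro ⟨hu4, hu⟩
        exact ⟨(hmem u).mpr hu, by omega⟩
    rw [hset]
    refine ⟨by rw [Set.ncard_coe_finset]; exact h6, ?_⟩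
    intro u hu
    rw [Finset.mem_coe, mem_fiber4] at hu
    refine ⟨hu.1, ?_⟩
    intro u' hu' hne'
    rw [Finset.mem_coe, mem_fiber4] at hu'
    exact same_coset_disjoint C hmin u u' ((mk_eq_iff C u u').mp (hu.2.trans hu'.2.symm)) hu.1 hu'.1 hne'

end Cfsg.Agent.S5623
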