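import Cfsg.Statements.S5625
import Cfsg.Agent.Lib.Helper28.SteinerCount

set_option autoImplicit false
open Cfsg

namespace Cfsg.Agent.S5625
open Cfsg Cfsg.Agent.Lib.Helper28.Steiner

section
theorem fiber_sum {β : Type*} [DecidableEq β] (ℬ : Finset (Finset β)) (Y : Finset β) (hY : Y.card = 3)
    (i : ℕ) :
    ∑ b ∈ ℬ, Nat.choose (b ∩ Y).card i =
      ∑ j ∈ Finset.range 4, (ℬ.filter fun b => (b ∩ Y).card = j).card * Nat.choose j i := by
  have hmaps : ∀ b ∈ ℬ, (b ∩ Y).card ∈ Finset.range 4 := by
    intro b _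
    rw [Finset.mem_range]
    have := Finset.card_le_card (Finset.inter_subset_right (s₁ := b) (s₂ := Y))
    omega
  rw [← Finset.sum_fiberwise_of_maps_to hmaps]
  apply Finset.sum_congr rfl
  intro j _
  rw [Finset.sum_congr rfl (fun b hb => by rw [(Finset.mem_filter.mp hb).2]), Finset.sum_const,
    smul_eq_mul]
end

theorem result (α : Type*) [Fintype α] [DecidableEq α] (hα : Fintype.card α = 24) (B : Set (Finset α)) (hB : Cfsg.IsSteinerSystem 5 8 B) (Y : Finset α) (hY : Y.card = 3) : {b : Finset α | b ∈ B ∧ (b ∩ Y).card = 3}.ncard = 21 ∧ {b : Finset α | b ∈ B ∧ (b ∩ Y).card = 2}.ncard = 168 ∧ {b : Finset α | b ∈ B ∧ (b ∩ Y).card = 1}.ncard = 360 ∧ {b : Finset α | b ∈ B ∧ (b ∩ Y).card = 0}.ncard = 210 := by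
  classical
  have hset : ∀ j : ℕ, {b : Finset α | b ∈ B ∧ (b ∩ Y).card = j}.ncard =
      ((blocksThrough B ∅).filter fun b => (b ∩ Y).card = j).card := by
    intro j
    have : {b : Finset α | b ∈ B ∧ (b ∩ Y).card = j} =
        (((blocksThrough B ∅).filter fun b => (b ∩ Y).card = j : Finset (Finset α)) :
          Set (Finset α)) := by
      ext b
      simp [mem_blocksThrough]
    rw [this, Set.ncard_coe_finset]
  have lam : ∀ Z : Finset α, Z.card ≤ 5 →
      (blocksThrough B Z).card * Nat.choose (8 - Z.card) (5 - Z.card) =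
        Nat.choose (24 - Z.card) (5 - Z.card) := by
    intro Z hZ
    have := card_blocksThrough_mul 5 8 B hB Z hZ
    rwa [hα] at this
  have lamI : ∀ i : ℕ, ∀ Z ∈ Finset.powersetCard i Y, i ≤ 3 →
      (blocksThrough B Z).card * Nat.choose (8 - i) (5 - i) = Nat.choose (24 - i) (5 - i) := by
    intro i Z hZ hi
    have hc := (Finset.mem_powersetCard.mp hZ).2
    have := lam Z (by omega)
    rwa [hc] at this
  have S : ∀ i : ℕ, i ≤ 3 → ∀ c : ℕ, (∀ Z ∈ Finset.powersetCard i Y, (blocksThrough B Z).card = c) →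
      ∑ j ∈ Finset.range 4, ((blocksThrough B ∅).filter fun b => (b ∩ Y).card = j).card *
        Nat.choose j i = Nat.choose 3 i * c := by
    intro i _ c hc
    rw [← fiber_sum _ Y hY i, sum_choose_inter, Finset.sum_congr rfl hc, Finset.sum_const,
      Finset.card_powersetCard, hY, smul_eq_mul]
  have S0 := S 0 (by norm_num) 759 (by
    intro Z hZ
    have := lamI 0 Z hZ (by norm_num)
    norm_num [Nat.choose] at this
    omega)
  have S1 := S 1 (by norm_num) 253 (by
    intro Z hZ
    have := lamI 1 Z hZ (by norm_num)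
    norm_num [Nat.choose] at this
    omega)
  have S2 := S 2 (by norm_num) 77 (by
    intro Z hZ
    have := lamI 2 Z hZ (by norm_num)
    norm_num [Nat.choose] at this
    omega)
  have S3 := S 3 (by norm_num) 21 (by
    intro Z hZ
    have := lamI 3 Z hZ (by norm_num)
    norm_num [Nat.choose] at this
    omega)
  simp only [Finset.sum_range_succ, Finset.sum_range_zero] at S0 S1 S2 S3
  rw [hset 3, hset 2, hset 1, hset 0]
  generalize ((blocksThrough B ∅).filter fun b => (b ∩ Y).card = 0).card = e0 at *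
  generalize ((blocksThrough B ∅).filter fun b => (b ∩ Y).card = 1).card = e1 at *
  generalize ((blocksThrough B ∅).filter fun b => (b ∩ Y).card = 2).card = e2 at *
  generalize ((blocksThrough B ∅).filter fun b => (b ∩ Y).card = 3).card = e3 at *
  norm_num [Nat.choose] at S0 S1 S2 S3
  omega

end Cfsg.Agent.S5625
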