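import Cfsg.Statements.S5627
import Cfsg.Agent.Lib.Helper28.SteinerCount

set_option autoImplicit false
open Cfsg

namespace Cfsg.Agent.S5627
open Cfsg.Agent.Lib.Helper28.Steiner

section
variable {α : Type*} [Fintype α] [DecidableEq α] {L : Set (Finset α)}

/-- no line meets the set in more than two points -/
def Indep (L : Set (Finset α)) (S : Finset α) : Prop := ∀ l ∈ L, (l ∩ S).card ≤ 2

theorem Indep.mono {S S' : Finset α} (h : Indep L S) (hs : S' ⊆ S) : Indep L S' :=
  fun l hl => (Finset.card_le_card (Finset.inter_subset_inter_left hs)).trans (h l hl)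

theorem exists_line (hL : IsSteinerSystem 2 5 L) {a b : α} (hab : a ≠ b) :
    ∃ l ∈ L, a ∈ l ∧ b ∈ l ∧ ∀ m ∈ L, a ∈ m → b ∈ m → m = l := by
  obtain ⟨l, ⟨hl, hsub⟩, huniq⟩ := hL.2 {a, b} (Finset.card_pair hab)
  refine ⟨l, hl, hsub (by simp), hsub (by simp), fun m hm ha hb => huniq m ⟨hm, ?_⟩⟩
  intro x hx
  simp only [Finset.mem_insert, Finset.mem_singleton] at hx
  rcases hx with rfl | rfl <;> assumption

theorem line_eq (hL : IsSteinerSystem 2 5 L) {l m : Finset α} (hl : l ∈ L) (hm : m ∈ L) {a b : α}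
    (hab : a ≠ b) (ha : a ∈ l) (hb : b ∈ l) (ha' : a ∈ m) (hb' : b ∈ m) : l = m := by
  obtain ⟨k, -, -, -, huniq⟩ := exists_line hL hab
  rw [huniq l hl ha hb, huniq m hm ha' hb']

theorem inter_card_le_one (hL : IsSteinerSystem 2 5 L) {l m : Finset α} (hl : l ∈ L) (hm : m ∈ L)
    (hne : l ≠ m) : (l ∩ m).card ≤ 1 := by
  by_contra h
  push Not at h
  obtain ⟨a, ha, b, hb, hab⟩ := Finset.one_lt_card.mp h
  rw [Finset.mem_inter] at ha hb
  exact hne (line_eq hL hl hm hab ha.1 hb.1 ha.2 hb.2)

open Classical in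
/-- the line through two points -/
noncomputable def ln (L : Set (Finset α)) (a b : α) : Finset α :=
  if h : ∃ l ∈ L, a ∈ l ∧ b ∈ l then Classical.choose h else ∅

theorem ln_spec (hL : IsSteinerSystem 2 5 L) {a b : α} (hab : a ≠ b) :
    ln L a b ∈ L ∧ a ∈ ln L a b ∧ b ∈ ln L a b := by
  have h : ∃ l ∈ L, a ∈ l ∧ b ∈ l := by
    obtain ⟨l, hl, ha, hb, -⟩ := exists_line hL hab
    exact ⟨l, hl, ha, hb⟩
  unfold ln
  rw [dif_pos h]
  exact Classical.choose_spec h

theorem eq_ln (hL : IsSteinerSystem 2 5 L) {a b : α} (hab : a ≠ b) {l : Finset α} (hl : l ∈ L)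
    (ha : a ∈ l) (hb : b ∈ l) : l = ln L a b :=
  line_eq hL hl (ln_spec hL hab).1 hab ha hb (ln_spec hL hab).2.1 (ln_spec hL hab).2.2

/-- three distinct points of an independent set are not collinear -/
theorem Indep.not_mem_ln (hL : IsSteinerSystem 2 5 L) {S : Finset α} (hS : Indep L S) {u v w : α}
    (hu : u ∈ S) (hv : v ∈ S) (hw : w ∈ S) (huv : u ≠ v) (huw : u ≠ w) (hvw : v ≠ w) :
    w ∉ ln L u v := by
  intro h
  obtain ⟨h1, h2, h3⟩ := ln_spec hL huv
  have := hS _ h1
  have hsub : ({u, v, w} : Finset α) ⊆ ln L u v ∩ S := by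
    intro x hx
    simp only [Finset.mem_insert, Finset.mem_singleton] at hx
    rcases hx with rfl | rfl | rfl <;> exact Finset.mem_inter.mpr ⟨‹_›, ‹_›⟩
  have h3c : ({u, v, w} : Finset α).card = 3 := Finset.card_eq_three.mpr ⟨u, v, w, huv, huw, hvw, rfl⟩
  have := Finset.card_le_card hsub
  omega

/-- extending an independent set by a point -/
theorem indep_insert_iff (hL : IsSteinerSystem 2 5 L) {T : Finset α} (hT : Indep L T) {y : α}
    (hy : y ∉ T) :
    Indep L (insert y T) ↔ ∀ u ∈ T, ∀ v ∈ T, u ≠ v → y ∉ ln L u v := by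
  constructor
  · intro h u hu v hv huv
    have hyu : y ≠ u := fun e => hy (e ▸ hu)
    have hyv : y ≠ v := fun e => hy (e ▸ hv)
    exact h.not_mem_ln hL (Finset.mem_insert_of_mem hu) (Finset.mem_insert_of_mem hv)
      (Finset.mem_insert_self _ _) huv hyu.symm hyv.symm
  · intro h l hl
    by_cases hyl : y ∈ l
    · rw [Finset.inter_insert_of_mem hyl]
      have h1 : (l ∩ T).card ≤ 1 := by
        by_contra hc
        push Not at hc
        obtain ⟨u, hu, v, hv, huv⟩ := Finset.one_lt_card.mp hc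
        rw [Finset.mem_inter] at hu hv
        have := eq_ln hL huv hl hu.1 hv.1
        exact h u hu.2 v hv.2 huv (this ▸ hyl)
      have := Finset.card_insert_le y (l ∩ T)
      omega
    · rw [Finset.inter_insert_of_notMem hyl]
      exact hT l hl


/-- five lines through every point -/
theorem card_lines_through (hα : Fintype.card α = 21) (hL : IsSteinerSystem 2 5 L) (a : α) :
    (blocksThrough L {a}).card = 5 := by
  have h := card_blocksThrough_mul 2 5 L hL {a} (by simp)
  rw [Finset.card_singleton, hα] at h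
  norm_num at h
  omega

theorem mem_lines_through {a : α} {l : Finset α} : l ∈ blocksThrough L {a} ↔ l ∈ L ∧ a ∈ l := by
  rw [mem_blocksThrough, Finset.singleton_subset_iff]

/-- any two lines meet -/
theorem lines_meet (hα : Fintype.card α = 21) (hL : IsSteinerSystem 2 5 L) {l m : Finset α}
    (hl : l ∈ L) (hm : m ∈ L) : (l ∩ m).Nonempty := by
  have hm5 : m.card = 5 := hL.1 m hm
  obtain ⟨x, hx⟩ : m.Nonempty := Finset.card_pos.mp (by omega)
  by_cases hxl : x ∈ l
  · exact ⟨x, Finset.mem_inter.mpr ⟨hxl, hx⟩⟩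
  have hne : ∀ y ∈ l, x ≠ y := fun y hy e => hxl (e ▸ hy)
  have hsub : l.image (fun y => ln L x y) ⊆ blocksThrough L {x} := by
    intro k hk
    obtain ⟨y, hy, rfl⟩ := Finset.mem_image.mp hk
    exact mem_lines_through.mpr ⟨(ln_spec hL (hne y hy)).1, (ln_spec hL (hne y hy)).2.1⟩
  have hinj : Set.InjOn (fun y => ln L x y) l := by
    intro y hy y' hy' e
    by_contra hyy
    have e' : ln L x y = ln L x y' := e
    have h1 := (ln_spec hL (hne y hy)).2.2
    have h2 := (ln_spec hL (hne y' hy')).2.2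
    rw [← e'] at h2
    have := line_eq hL hl (ln_spec hL (hne y hy)).1 hyy hy hy' h1 h2
    exact hxl (this ▸ (ln_spec hL (hne y hy)).2.1)
  have hcard : (l.image (fun y => ln L x y)).card = 5 := by
    rw [Finset.card_image_of_injOn hinj, hL.1 l hl]
  have heq := Finset.eq_of_subset_of_card_le hsub (by rw [hcard, card_lines_through hα hL x])
  have : m ∈ l.image (fun y => ln L x y) := by
    rw [heq]; exact mem_lines_through.mpr ⟨hm, hx⟩
  obtain ⟨y, hy, rfl⟩ := Finset.mem_image.mp this
  exact ⟨y, Finset.mem_inter.mpr ⟨hy, (ln_spec hL (hne y hy)).2.2⟩⟩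

theorem inter_card_eq_one (hα : Fintype.card α = 21) (hL : IsSteinerSystem 2 5 L) {l m : Finset α}
    (hl : l ∈ L) (hm : m ∈ L) (hne : l ≠ m) : (l ∩ m).card = 1 := by
  have h1 := inter_card_le_one hL hl hm hne
  have h2 := Finset.card_pos.mpr (lines_meet hα hL hl hm)
  omega


theorem common_pt (hL : IsSteinerSystem 2 5 L) {s s' : Finset α} (hs : s ∈ L) (hs' : s' ∈ L)
    (hne : s ≠ s') {c x : α} (hc : c ∈ s) (hc' : c ∈ s') (hx : x ∈ s) (hx' : x ∈ s') : x = c := by
  have h := inter_card_le_one hL hs hs' hne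
  exact Finset.card_le_one.mp h x (Finset.mem_inter.mpr ⟨hx, hx'⟩) c (Finset.mem_inter.mpr ⟨hc, hc'⟩)

open Classical in
/-- the points extending an independent set -/
noncomputable def W (L : Set (Finset α)) (S : Finset α) : Finset α :=
  Finset.univ.filter fun y => y ∉ S ∧ ∀ l ∈ L, y ∈ l → (l ∩ S).card ≤ 1

theorem mem_W {S : Finset α} {y : α} :
    y ∈ W L S ↔ y ∉ S ∧ ∀ l ∈ L, y ∈ l → (l ∩ S).card ≤ 1 := by
  simp [W]

theorem mem_W_iff_indep {S : Finset α} (hS : Indep L S) {y : α} :
    y ∈ W L S ↔ y ∉ S ∧ Indep L (insert y S) := by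
  rw [mem_W]
  constructor
  · rintro ⟨h1, h2⟩
    refine ⟨h1, fun l hl => ?_⟩
    by_cases hyl : y ∈ l
    · rw [Finset.inter_insert_of_mem hyl]
      have := Finset.card_insert_le y (l ∩ S)
      have := h2 l hl hyl
      omega
    · rw [Finset.inter_insert_of_notMem hyl]
      exact hS l hl
  · rintro ⟨h1, h2⟩
    refine ⟨h1, fun l hl hyl => ?_⟩
    have := h2 l hl
    rw [Finset.inter_insert_of_mem hyl, Finset.card_insert_of_notMem
      (fun h => h1 (Finset.mem_inter.mp h).2)] at this
    omega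

/-- on a line through exactly one vertex of a quadrangle there is exactly one extending point -/
theorem unique_on_line (hα : Fintype.card α = 21) (hL : IsSteinerSystem 2 5 L) {S : Finset α}
    (hS : Indep L S) {a b c d : α} (hSeq : S = {a, b, c, d}) (hab : a ≠ b) (hac : a ≠ c)
    (had : a ≠ d) (hbc : b ≠ c) (hbd : b ≠ d) (hcd : c ≠ d) {m : Finset α} (hm : m ∈ L)
    (ham : a ∈ m) (hbm : b ∉ m) (hcm : c ∉ m) (hdm : d ∉ m) :
    ∃ e, e ∈ m ∧ e ≠ a ∧ e ∈ W L S ∧ ∀ y ∈ m, y ∈ W L S → y = e := by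
  have haS : a ∈ S := by rw [hSeq]; simp
  have hbS : b ∈ S := by rw [hSeq]; simp
  have hcS : c ∈ S := by rw [hSeq]; simp
  have hdS : d ∈ S := by rw [hSeq]; simp
  obtain ⟨bcL, bbc, cbc⟩ := ln_spec hL hbc
  obtain ⟨cdL, ccd, dcd⟩ := ln_spec hL hcd
  obtain ⟨bdL, bbd, dbd⟩ := ln_spec hL hbd
  have a_bc : a ∉ ln L b c := hS.not_mem_ln hL hbS hcS haS hbc hab.symm hac.symm
  have a_cd : a ∉ ln L c d := hS.not_mem_ln hL hcS hdS haS hcd hac.symm had.symm
  have a_bd : a ∉ ln L b d := hS.not_mem_ln hL hbS hdS haS hbd hab.symm had.symm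
  have d_bc : d ∉ ln L b c := hS.not_mem_ln hL hbS hcS hdS hbc hbd hcd
  have b_cd : b ∉ ln L c d := hS.not_mem_ln hL hcS hdS hbS hcd hbc.symm hbd.symm
  have c_bd : c ∉ ln L b d := hS.not_mem_ln hL hbS hdS hcS hbd hbc hcd.symm
  have m_bc : m ≠ ln L b c := fun e => hbm (e ▸ bbc)
  have m_cd : m ≠ ln L c d := fun e => hcm (e ▸ ccd)
  have m_bd : m ≠ ln L b d := fun e => hbm (e ▸ bbd)
  obtain ⟨x1, hx1⟩ := Finset.card_eq_one.mp (inter_card_eq_one hα hL hm bcL m_bc)
  obtain ⟨x2, hx2⟩ := Finset.card_eq_one.mp (inter_card_eq_one hα hL hm cdL m_cd)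
  obtain ⟨x3, hx3⟩ := Finset.card_eq_one.mp (inter_card_eq_one hα hL hm bdL m_bd)
  have x1m : x1 ∈ m ∧ x1 ∈ ln L b c := Finset.mem_inter.mp (hx1 ▸ Finset.mem_singleton_self x1)
  have x2m : x2 ∈ m ∧ x2 ∈ ln L c d := Finset.mem_inter.mp (hx2 ▸ Finset.mem_singleton_self x2)
  have x3m : x3 ∈ m ∧ x3 ∈ ln L b d := Finset.mem_inter.mp (hx3 ▸ Finset.mem_singleton_self x3)
  have bc_cd : ln L b c ≠ ln L c d := fun e => d_bc (e ▸ dcd)
  have bc_bd : ln L b c ≠ ln L b d := fun e => d_bc (e ▸ dbd)
  have cd_bd : ln L c d ≠ ln L b d := fun e => b_cd (e ▸ bbd)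
  have x12 : x1 ≠ x2 := fun e => hcm (by
    have := common_pt hL bcL cdL bc_cd cbc ccd x1m.2 (e ▸ x2m.2)
    exact this ▸ x1m.1)
  have x13 : x1 ≠ x3 := fun e => hbm (by
    have := common_pt hL bcL bdL bc_bd bbc bbd x1m.2 (e ▸ x3m.2)
    exact this ▸ x1m.1)
  have x23 : x2 ≠ x3 := fun e => hdm (by
    have := common_pt hL cdL bdL cd_bd dcd dbd x2m.2 (e ▸ x3m.2)
    exact this ▸ x2m.1)
  have ax1 : a ≠ x1 := fun e => a_bc (e ▸ x1m.2)
  have ax2 : a ≠ x2 := fun e => a_cd (e ▸ x2m.2)
  have ax3 : a ≠ x3 := fun e => a_bd (e ▸ x3m.2)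
  have hR : ({a, x1, x2, x3} : Finset α).card = 4 := by
    rw [Finset.card_insert_of_notMem, Finset.card_insert_of_notMem, Finset.card_pair x23]
    · simp [x12, x13]
    · simp [ax1, ax2, ax3]
  have hRsub : ({a, x1, x2, x3} : Finset α) ⊆ m := by
    intro y hy
    simp only [Finset.mem_insert, Finset.mem_singleton] at hy
    rcases hy with rfl | rfl | rfl | rfl
    · exact ham
    · exact x1m.1
    · exact x2m.1
    · exact x3m.1
  have hdiff : (m \ {a, x1, x2, x3}).card = 1 := by
    rw [Finset.card_sdiff_of_subset hRsub, hR, hL.1 m hm]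
  obtain ⟨e, he⟩ := Finset.card_eq_one.mp hdiff
  have hem : e ∈ m ∧ e ∉ ({a, x1, x2, x3} : Finset α) :=
    Finset.mem_sdiff.mp (he ▸ Finset.mem_singleton_self e)
  have hea : e ≠ a := fun h => hem.2 (by simp [h])
  have hex1 : e ≠ x1 := fun h => hem.2 (by simp [h])
  have hex2 : e ≠ x2 := fun h => hem.2 (by simp [h])
  have hex3 : e ≠ x3 := fun h => hem.2 (by simp [h])
  -- lines through two of b, c, d avoid e
  have e_bc : ∀ l ∈ L, b ∈ l → c ∈ l → e ∉ l := fun l hl hb hc hel => hex1 (by
    have := eq_ln hL hbc hl hb hc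
    have h1 : e ∈ m ∩ ln L b c := Finset.mem_inter.mpr ⟨hem.1, this ▸ hel⟩
    rw [hx1] at h1
    exact Finset.mem_singleton.mp h1)
  have e_cd : ∀ l ∈ L, c ∈ l → d ∈ l → e ∉ l := fun l hl hb hc hel => hex2 (by
    have := eq_ln hL hcd hl hb hc
    have h1 : e ∈ m ∩ ln L c d := Finset.mem_inter.mpr ⟨hem.1, this ▸ hel⟩
    rw [hx2] at h1
    exact Finset.mem_singleton.mp h1)
  have e_bd : ∀ l ∈ L, b ∈ l → d ∈ l → e ∉ l := fun l hl hb hc hel => hex3 (by
    have := eq_ln hL hbd hl hb hc
    have h1 : e ∈ m ∩ ln L b d := Finset.mem_inter.mpr ⟨hem.1, this ▸ hel⟩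
    rw [hx3] at h1
    exact Finset.mem_singleton.mp h1)
  have hmS : ∀ y ∈ m, y ∈ S → y = a := by
    intro y hy hyS
    rw [hSeq] at hyS
    simp only [Finset.mem_insert, Finset.mem_singleton] at hyS
    rcases hyS with rfl | rfl | rfl | rfl
    · rfl
    · exact absurd hy hbm
    · exact absurd hy hcm
    · exact absurd hy hdm
  refine ⟨e, hem.1, hea, ?_, ?_⟩
  · rw [mem_W]
    refine ⟨fun h => hea (hmS e hem.1 h), ?_⟩
    intro l hl hel
    by_contra hc2
    push Not at hc2
    obtain ⟨u, hu, v, hv, huv⟩ := Finset.one_lt_card.mp hc2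
    rw [Finset.mem_inter] at hu hv
    by_cases hal : a ∈ l
    · -- then l = m
      have hlm : l = m := line_eq hL hl hm hea hel hal hem.1 ham
      have e1 := hmS u (hlm ▸ hu.1) hu.2
      have e2 := hmS v (hlm ▸ hv.1) hv.2
      exact huv (e1.trans e2.symm)
    · have hu' := hu.2
      have hv' := hv.2
      rw [hSeq] at hu' hv'
      simp only [Finset.mem_insert, Finset.mem_singleton] at hu' hv'
      have hul := hu.1
      have hvl := hv.1
      rcases hu' with rfl | rfl | rfl | rfl <;> rcases hv' with rfl | rfl | rfl | rfl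
      all_goals first
        | exact absurd rfl huv
        | exact absurd hul hal
        | exact absurd hvl hal
        | exact e_bc l hl hul hvl hel
        | exact e_bc l hl hvl hul hel
        | exact e_cd l hl hul hvl hel
        | exact e_cd l hl hvl hul hel
        | exact e_bd l hl hul hvl hel
        | exact e_bd l hl hvl hul hel
  · intro y hy hyW
    rw [mem_W] at hyW
    have hya : y ≠ a := fun h => hyW.1 (h ▸ haS)
    have h1 : y ∉ ln L b c := fun h => by
      have := hyW.2 _ bcL h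
      have hsub : ({b, c} : Finset α) ⊆ ln L b c ∩ S := by
        intro z hz
        simp only [Finset.mem_insert, Finset.mem_singleton] at hz
        rcases hz with rfl | rfl
        · exact Finset.mem_inter.mpr ⟨bbc, hbS⟩
        · exact Finset.mem_inter.mpr ⟨cbc, hcS⟩
      have := Finset.card_le_card hsub
      rw [Finset.card_pair hbc] at this
      omega
    have h2 : y ∉ ln L c d := fun h => by
      have := hyW.2 _ cdL h
      have hsub : ({c, d} : Finset α) ⊆ ln L c d ∩ S := by
        intro z hz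
        simp only [Finset.mem_insert, Finset.mem_singleton] at hz
        rcases hz with rfl | rfl
        · exact Finset.mem_inter.mpr ⟨ccd, hcS⟩
        · exact Finset.mem_inter.mpr ⟨dcd, hdS⟩
      have := Finset.card_le_card hsub
      rw [Finset.card_pair hcd] at this
      omega
    have h3 : y ∉ ln L b d := fun h => by
      have := hyW.2 _ bdL h
      have hsub : ({b, d} : Finset α) ⊆ ln L b d ∩ S := by
        intro z hz
        simp only [Finset.mem_insert, Finset.mem_singleton] at hz
        rcases hz with rfl | rfl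
        · exact Finset.mem_inter.mpr ⟨bbd, hbS⟩
        · exact Finset.mem_inter.mpr ⟨dbd, hdS⟩
      have := Finset.card_le_card hsub
      rw [Finset.card_pair hbd] at this
      omega
    have hyR : y ∈ m \ {a, x1, x2, x3} := by
      rw [Finset.mem_sdiff]
      refine ⟨hy, ?_⟩
      simp only [Finset.mem_insert, Finset.mem_singleton, not_or]
      exact ⟨hya, fun h => h1 (h ▸ x1m.2), fun h => h2 (h ▸ x2m.2), fun h => h3 (h ▸ x3m.2)⟩
    rw [he] at hyR
    exact Finset.mem_singleton.mp hyR


/-- a secant line contains no extending point -/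
theorem not_mem_of_mem_W {S : Finset α} {y : α} (hy : y ∈ W L S) {l : Finset α} (hl : l ∈ L)
    {u v : α} (hu : u ∈ S) (hv : v ∈ S) (huv : u ≠ v) (hul : u ∈ l) (hvl : v ∈ l) : y ∉ l := by
  intro hyl
  have := (mem_W.mp hy).2 l hl hyl
  have hsub : ({u, v} : Finset α) ⊆ l ∩ S := by
    intro z hz
    simp only [Finset.mem_insert, Finset.mem_singleton] at hz
    rcases hz with rfl | rfl
    · exact Finset.mem_inter.mpr ⟨hul, hu⟩
    · exact Finset.mem_inter.mpr ⟨hvl, hv⟩
  have := Finset.card_le_card hsub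
  rw [Finset.card_pair huv] at this
  omega

/-- an independent 4-set has exactly two extending points, and their join misses the set -/
theorem W_props (hα : Fintype.card α = 21) (hL : IsSteinerSystem 2 5 L) {S : Finset α}
    (hS : Indep L S) (hc : S.card = 4) {a : α} (ha : a ∈ S) :
    (W L S).card = 2 ∧ ∀ l ∈ L, W L S ⊆ l → a ∉ l := by
  have hT : (S.erase a).card = 3 := by rw [Finset.card_erase_of_mem ha, hc]
  obtain ⟨b, c, d, hbc, hbd, hcd, hTeq⟩ := Finset.card_eq_three.mp hT
  have hbT : b ∈ S.erase a := by rw [hTeq]; simp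
  have hcT : c ∈ S.erase a := by rw [hTeq]; simp
  have hdT : d ∈ S.erase a := by rw [hTeq]; simp
  have hab : a ≠ b := (Finset.ne_of_mem_erase hbT).symm
  have hac : a ≠ c := (Finset.ne_of_mem_erase hcT).symm
  have had : a ≠ d := (Finset.ne_of_mem_erase hdT).symm
  have hbS : b ∈ S := Finset.mem_of_mem_erase hbT
  have hcS : c ∈ S := Finset.mem_of_mem_erase hcT
  have hdS : d ∈ S := Finset.mem_of_mem_erase hdT
  have hSeq : S = {a, b, c, d} := by rw [← Finset.insert_erase ha, hTeq]
  obtain ⟨abL, aab, bab⟩ := ln_spec hL hab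
  obtain ⟨acL, aac, cac⟩ := ln_spec hL hac
  obtain ⟨adL, aad, dad⟩ := ln_spec hL had
  have c_ab : c ∉ ln L a b := hS.not_mem_ln hL ha hbS hcS hab hac hbc
  have d_ab : d ∉ ln L a b := hS.not_mem_ln hL ha hbS hdS hab had hbd
  have d_ac : d ∉ ln L a c := hS.not_mem_ln hL ha hcS hdS hac had hcd
  have ab_ac : ln L a b ≠ ln L a c := fun e => c_ab (e ▸ cac)
  have ab_ad : ln L a b ≠ ln L a d := fun e => d_ab (e ▸ dad)
  have ac_ad : ln L a c ≠ ln L a d := fun e => d_ac (e ▸ dad)
  have hSa3 : ({ln L a b, ln L a c, ln L a d} : Finset (Finset α)).card = 3 :=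
    Finset.card_eq_three.mpr ⟨_, _, _, ab_ac, ab_ad, ac_ad, rfl⟩
  have hSasub : ({ln L a b, ln L a c, ln L a d} : Finset (Finset α)) ⊆ blocksThrough L {a} := by
    intro k hk
    simp only [Finset.mem_insert, Finset.mem_singleton] at hk
    rcases hk with rfl | rfl | rfl
    · exact mem_lines_through.mpr ⟨abL, aab⟩
    · exact mem_lines_through.mpr ⟨acL, aac⟩
    · exact mem_lines_through.mpr ⟨adL, aad⟩
  have h2 : (blocksThrough L {a} \ {ln L a b, ln L a c, ln L a d}).card = 2 := by
    rw [Finset.card_sdiff_of_subset hSasub, card_lines_through hα hL, hSa3]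
  obtain ⟨m1, m2, hm12, hmeq⟩ := Finset.card_eq_two.mp h2
  have key : ∀ m, m ∈ blocksThrough L {a} \ {ln L a b, ln L a c, ln L a d} →
      m ∈ L ∧ a ∈ m ∧ b ∉ m ∧ c ∉ m ∧ d ∉ m := by
    intro m hm
    rw [Finset.mem_sdiff, mem_lines_through] at hm
    obtain ⟨⟨mL, am⟩, hnot⟩ := hm
    simp only [Finset.mem_insert, Finset.mem_singleton, not_or] at hnot
    refine ⟨mL, am, fun h => hnot.1 (eq_ln hL hab mL am h), fun h => hnot.2.1 (eq_ln hL hac mL am h),
      fun h => hnot.2.2 (eq_ln hL had mL am h)⟩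
  obtain ⟨m1L, am1, bm1, cm1, dm1⟩ := key m1 (by rw [hmeq]; simp)
  obtain ⟨m2L, am2, bm2, cm2, dm2⟩ := key m2 (by rw [hmeq]; simp)
  obtain ⟨e1, he1m, he1a, he1W, he1u⟩ := unique_on_line hα hL hS hSeq hab hac had hbc hbd hcd
    m1L am1 bm1 cm1 dm1
  obtain ⟨e2, he2m, he2a, he2W, he2u⟩ := unique_on_line hα hL hS hSeq hab hac had hbc hbd hcd
    m2L am2 bm2 cm2 dm2
  have hcover : ∀ y ∈ W L S, y ∈ m1 ∨ y ∈ m2 := by
    intro y hy
    have hya : a ≠ y := fun h => (mem_W.mp hy).1 (h ▸ ha)
    obtain ⟨ayL, aay, yay⟩ := ln_spec hL hya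
    have hmem : ln L a y ∈ blocksThrough L {a} \ {ln L a b, ln L a c, ln L a d} := by
      rw [Finset.mem_sdiff, mem_lines_through]
      refine ⟨⟨ayL, aay⟩, ?_⟩
      simp only [Finset.mem_insert, Finset.mem_singleton, not_or]
      refine ⟨fun h => ?_, fun h => ?_, fun h => ?_⟩
      · exact not_mem_of_mem_W hy abL ha hbS hab aab bab (h ▸ yay)
      · exact not_mem_of_mem_W hy acL ha hcS hac aac cac (h ▸ yay)
      · exact not_mem_of_mem_W hy adL ha hdS had aad dad (h ▸ yay)
    rw [hmeq] at hmem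
    simp only [Finset.mem_insert, Finset.mem_singleton] at hmem
    rcases hmem with h | h
    · left; exact h ▸ yay
    · right; exact h ▸ yay
  have hWeq : W L S = {e1, e2} := by
    ext y
    simp only [Finset.mem_insert, Finset.mem_singleton]
    constructor
    · intro hy
      rcases hcover y hy with h | h
      · left; exact he1u y h hy
      · right; exact he2u y h hy
    · rintro (rfl | rfl)
      · exact he1W
      · exact he2W
  have he12 : e1 ≠ e2 := by
    intro h
    exact he1a (common_pt hL m1L m2L hm12 am1 am2 he1m (h ▸ he2m))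
  refine ⟨by rw [hWeq, Finset.card_pair he12], ?_⟩
  intro l hl hWl hal
  have h1 : l = m1 := line_eq hL hl m1L he1a (hWl he1W) hal he1m am1
  have h2' : l = m2 := line_eq hL hl m2L he2a (hWl he2W) hal he2m am2
  exact hm12 (h1.symm.trans h2')


theorem disjoint_W (S : Finset α) : Disjoint S (W L S) := by
  rw [Finset.disjoint_left]
  intro y hy hyW
  exact (mem_W.mp hyW).1 hy

theorem indep_union_W (hα : Fintype.card α = 21) (hL : IsSteinerSystem 2 5 L) {S : Finset α}
    (hS : Indep L S) (hc : S.card = 4) : Indep L (S ∪ W L S) := by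
  intro l hl
  have hW2 : (W L S).card = 2 := by
    obtain ⟨a, ha⟩ : S.Nonempty := Finset.card_pos.mp (by omega)
    exact (W_props hα hL hS hc ha).1
  have hsplit : (l ∩ (S ∪ W L S)).card = (l ∩ S).card + (l ∩ W L S).card := by
    rw [Finset.inter_union_distrib_left, Finset.card_union_of_disjoint]
    exact Finset.disjoint_of_subset_left Finset.inter_subset_right
      (Finset.disjoint_of_subset_right Finset.inter_subset_right (disjoint_W S))
  rw [hsplit]
  have h1 := hS l hl
  have h2 : (l ∩ W L S).card ≤ 2 := hW2 ▸ Finset.card_le_card Finset.inter_subset_right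
  rcases Nat.eq_zero_or_pos (l ∩ W L S).card with h0 | hpos
  · omega
  · obtain ⟨y, hy⟩ := Finset.card_pos.mp hpos
    rw [Finset.mem_inter] at hy
    have h3 := (mem_W.mp hy.2).2 l hl hy.1
    by_cases h4 : (l ∩ W L S).card ≤ 1
    · omega
    · have h5 : l ∩ W L S = W L S :=
        Finset.eq_of_subset_of_card_le Finset.inter_subset_right (by omega)
      have hsub : W L S ⊆ l := h5 ▸ Finset.inter_subset_left
      have h6 : l ∩ S = ∅ := by
        rw [Finset.eq_empty_iff_forall_notMem]
        intro a ha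
        rw [Finset.mem_inter] at ha
        exact (W_props hα hL hS hc ha.2).2 l hl hsub ha.1
      rw [h6, Finset.card_empty]
      omega

theorem hyperoval_unique (hα : Fintype.card α = 21) (hL : IsSteinerSystem 2 5 L) {S : Finset α}
    (hS : Indep L S) (hc : S.card = 4) :
    ∃! H : Finset α, (H.card = 6 ∧ Indep L H) ∧ S ⊆ H := by
  have hW2 : (W L S).card = 2 := by
    obtain ⟨a, ha⟩ : S.Nonempty := Finset.card_pos.mp (by omega)
    exact (W_props hα hL hS hc ha).1
  refine ⟨S ∪ W L S, ⟨⟨?_, indep_union_W hα hL hS hc⟩, Finset.subset_union_left⟩, ?_⟩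
  · rw [Finset.card_union_of_disjoint (disjoint_W S), hc, hW2]
  · rintro H' ⟨⟨hc', hI'⟩, hsub⟩
    have h1 : H' \ S ⊆ W L S := by
      intro y hy
      rw [Finset.mem_sdiff] at hy
      rw [mem_W_iff_indep hS]
      refine ⟨hy.2, hI'.mono ?_⟩
      intro z hz
      rcases Finset.mem_insert.mp hz with rfl | hz
      · exact hy.1
      · exact hsub hz
    have h2 : (H' \ S).card = 2 := by rw [Finset.card_sdiff_of_subset hsub, hc', hc]
    have h3 : H' \ S = W L S := Finset.eq_of_subset_of_card_le h1 (by omega)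
    rw [← h3, Finset.union_sdiff_of_subset hsub]


/-! ### counting -/

open Classical in
/-- the independent sets of a given size -/
noncomputable def IndepSets (L : Set (Finset α)) (k : ℕ) : Finset (Finset α) :=
  (Finset.powersetCard k Finset.univ).filter (Indep L)

theorem mem_IndepSets {k : ℕ} {S : Finset α} : S ∈ IndepSets L k ↔ S.card = k ∧ Indep L S := by
  simp [IndepSets, Finset.mem_powersetCard]

/-- double counting inclusions between independent sets of two sizes -/
theorem dc {j k m : ℕ}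
    (hup : ∀ s ∈ IndepSets L j, ((IndepSets L k).filter (s ⊆ ·)).card = m) :
    (IndepSets L k).card * (k.choose j) = (IndepSets L j).card * m := by
  have h := Finset.sum_card_bipartiteAbove_eq_sum_card_bipartiteBelow
    (s := IndepSets L j) (t := IndepSets L k) (fun (s t : Finset α) => s ⊆ t)
  unfold Finset.bipartiteAbove Finset.bipartiteBelow at h
  have h2 : ∀ t ∈ IndepSets L k, ((IndepSets L j).filter fun s => s ⊆ t).card = k.choose j := by
    intro t ht
    rw [mem_IndepSets] at ht
    have : ((IndepSets L j).filter fun s => s ⊆ t) = Finset.powersetCard j t := by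
      ext s
      rw [Finset.mem_filter, mem_IndepSets, Finset.mem_powersetCard]
      constructor
      · rintro ⟨⟨h1, -⟩, h3⟩; exact ⟨h3, h1⟩
      · rintro ⟨h3, h1⟩; exact ⟨⟨h1, ht.2.mono h3⟩, h3⟩
    rw [this, Finset.card_powersetCard, ht.1]
  rw [Finset.sum_congr rfl hup, Finset.sum_congr rfl h2, Finset.sum_const, Finset.sum_const,
    smul_eq_mul, smul_eq_mul] at h
  exact h.symm

/-- the independent supersets with one more point correspond to the extending points -/
theorem card_filter_supersets {k : ℕ} {s : Finset α} (hs : s ∈ IndepSets L k) :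
    ((IndepSets L (k + 1)).filter (s ⊆ ·)).card = (W L s).card := by
  rw [mem_IndepSets] at hs
  have himg : (IndepSets L (k + 1)).filter (s ⊆ ·) = (W L s).image (fun y => insert y s) := by
    ext t
    rw [Finset.mem_filter, mem_IndepSets, Finset.mem_image]
    constructor
    · rintro ⟨⟨htc, htI⟩, hst⟩
      have h1 : (t \ s).card = 1 := by rw [Finset.card_sdiff_of_subset hst, htc, hs.1]; omega
      obtain ⟨y, hy⟩ := Finset.card_eq_one.mp h1
      have hy' : y ∈ t ∧ y ∉ s := Finset.mem_sdiff.mp (hy ▸ Finset.mem_singleton_self y)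
      have hteq : insert y s = t := by
        rw [Finset.insert_eq, ← hy, Finset.sdiff_union_of_subset hst]
      refine ⟨y, ?_, hteq⟩
      rw [mem_W_iff_indep hs.2]
      exact ⟨hy'.2, hteq ▸ htI⟩
    · rintro ⟨y, hy, rfl⟩
      rw [mem_W_iff_indep hs.2] at hy
      exact ⟨⟨by rw [Finset.card_insert_of_notMem hy.1, hs.1], hy.2⟩, Finset.subset_insert _ _⟩
  rw [himg, Finset.card_image_of_injOn]
  intro y hy y' hy' e
  have hy1 := (mem_W.mp hy).1
  have : y ∈ insert y' s := by
    have e' : insert y s = insert y' s := e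
    rw [← e']; exact Finset.mem_insert_self _ _
  rcases Finset.mem_insert.mp this with h | h
  · exact h
  · exact absurd h hy1

theorem card_IndepSets_two (hα : Fintype.card α = 21) :
    (IndepSets L 2).card = 210 := by
  have : IndepSets L 2 = Finset.powersetCard 2 Finset.univ := by
    ext S
    rw [mem_IndepSets, Finset.mem_powersetCard]
    constructor
    · rintro ⟨h, -⟩; exact ⟨Finset.subset_univ _, h⟩
    · rintro ⟨-, h⟩
      exact ⟨h, fun l _ => h ▸ Finset.card_le_card Finset.inter_subset_right⟩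
  rw [this, Finset.card_powersetCard, Finset.card_univ, hα]
  rfl


theorem W_pair (hα : Fintype.card α = 21) (hL : IsSteinerSystem 2 5 L) {a b : α} (hab : a ≠ b) :
    (W L {a, b}).card = 16 := by
  obtain ⟨abL, aab, bab⟩ := ln_spec hL hab
  have : W L {a, b} = Finset.univ \ ln L a b := by
    ext y
    rw [Finset.mem_sdiff]
    constructor
    · intro hy
      exact ⟨Finset.mem_univ _, not_mem_of_mem_W hy abL (by simp) (by simp) hab aab bab⟩
    · rintro ⟨-, hy⟩
      rw [mem_W]
      refine ⟨fun h => hy ?_, fun l hl hyl => ?_⟩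
      · simp only [Finset.mem_insert, Finset.mem_singleton] at h
        rcases h with rfl | rfl
        · exact aab
        · exact bab
      · by_contra hc
        push Not at hc
        have h2 : l ∩ {a, b} = {a, b} :=
          Finset.eq_of_subset_of_card_le Finset.inter_subset_right
            (by rw [Finset.card_pair hab]; omega)
        have ha : a ∈ l := (Finset.mem_inter.mp (h2 ▸ (by simp : a ∈ ({a, b} : Finset α)))).1
        have hb : b ∈ l := (Finset.mem_inter.mp (h2 ▸ (by simp : b ∈ ({a, b} : Finset α)))).1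
        exact hy (eq_ln hL hab hl ha hb ▸ hyl)
  rw [this, Finset.card_univ_sdiff, hα, hL.1 _ abL]

theorem W_triple (hα : Fintype.card α = 21) (hL : IsSteinerSystem 2 5 L) {T : Finset α}
    (hT : Indep L T) (hc : T.card = 3) : (W L T).card = 9 := by
  obtain ⟨a, b, c, hab, hac, hbc, rfl⟩ := Finset.card_eq_three.mp hc
  have haT : a ∈ ({a, b, c} : Finset α) := by simp
  have hbT : b ∈ ({a, b, c} : Finset α) := by simp
  have hcT : c ∈ ({a, b, c} : Finset α) := by simp
  obtain ⟨abL, aab, bab⟩ := ln_spec hL hab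
  obtain ⟨acL, aac, cac⟩ := ln_spec hL hac
  obtain ⟨bcL, bbc, cbc⟩ := ln_spec hL hbc
  have c_ab : c ∉ ln L a b := hT.not_mem_ln hL haT hbT hcT hab hac hbc
  have ab_ac : ln L a b ≠ ln L a c := fun e => c_ab (e ▸ cac)
  have ab_bc : ln L a b ≠ ln L b c := fun e => c_ab (e ▸ cbc)
  have ac_bc : ln L a c ≠ ln L b c := fun e => c_ab (by
    have hb : b ∈ ln L a c := e ▸ bbc
    have := eq_ln hL hab acL aac hb
    exact this ▸ cac)
  have hW : W L {a, b, c} = Finset.univ \ (ln L a b ∪ ln L a c ∪ ln L b c) := by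
    ext y
    rw [Finset.mem_sdiff]
    constructor
    · intro hy
      refine ⟨Finset.mem_univ _, ?_⟩
      simp only [Finset.mem_union, not_or]
      exact ⟨⟨not_mem_of_mem_W hy abL haT hbT hab aab bab,
        not_mem_of_mem_W hy acL haT hcT hac aac cac⟩,
        not_mem_of_mem_W hy bcL hbT hcT hbc bbc cbc⟩
    · rintro ⟨-, hy⟩
      simp only [Finset.mem_union, not_or] at hy
      obtain ⟨⟨y1, y2⟩, y3⟩ := hy
      rw [mem_W]
      refine ⟨fun h => ?_, fun l hl hyl => ?_⟩
      · simp only [Finset.mem_insert, Finset.mem_singleton] at h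
        rcases h with rfl | rfl | rfl
        · exact y1 aab
        · exact y1 bab
        · exact y2 cac
      · by_contra hc2
        push Not at hc2
        obtain ⟨u, hu, v, hv, huv⟩ := Finset.one_lt_card.mp hc2
        rw [Finset.mem_inter] at hu hv
        have hul := hu.1
        have hvl := hv.1
        have hu' := hu.2
        have hv' := hv.2
        simp only [Finset.mem_insert, Finset.mem_singleton] at hu' hv'
        have e_ab : a ∈ l → b ∈ l → False := fun h1 h2 => y1 (eq_ln hL hab hl h1 h2 ▸ hyl)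
        have e_ac : a ∈ l → c ∈ l → False := fun h1 h2 => y2 (eq_ln hL hac hl h1 h2 ▸ hyl)
        have e_bc : b ∈ l → c ∈ l → False := fun h1 h2 => y3 (eq_ln hL hbc hl h1 h2 ▸ hyl)
        rcases hu' with rfl | rfl | rfl <;> rcases hv' with rfl | rfl | rfl
        all_goals first
          | exact absurd rfl huv
          | exact e_ab hul hvl
          | exact e_ab hvl hul
          | exact e_ac hul hvl
          | exact e_ac hvl hul
          | exact e_bc hul hvl
          | exact e_bc hvl hul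
  have h1 : (ln L a b ∪ ln L a c).card = 9 := by
    have := Finset.card_union_add_card_inter (ln L a b) (ln L a c)
    rw [inter_card_eq_one hα hL abL acL ab_ac, hL.1 _ abL, hL.1 _ acL] at this
    omega
  have h2 : ((ln L a b ∪ ln L a c) ∩ ln L b c).card = 2 := by
    have e : (ln L a b ∪ ln L a c) ∩ ln L b c = {b, c} := by
      ext y
      simp only [Finset.mem_inter, Finset.mem_union, Finset.mem_insert, Finset.mem_singleton]
      constructor
      · rintro ⟨h | h, h'⟩
        · left; exact common_pt hL abL bcL ab_bc bab bbc h h'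
        · right; exact common_pt hL acL bcL ac_bc cac cbc h h'
      · rintro (rfl | rfl)
        · exact ⟨Or.inl bab, bbc⟩
        · exact ⟨Or.inr cac, cbc⟩
    rw [e, Finset.card_pair hbc]
  have h3 : (ln L a b ∪ ln L a c ∪ ln L b c).card = 12 := by
    have := Finset.card_union_add_card_inter (ln L a b ∪ ln L a c) (ln L b c)
    rw [h1, h2, hL.1 _ bcL] at this
    omega
  rw [hW, Finset.card_univ_sdiff, hα, h3]


theorem card_IndepSets_three (hα : Fintype.card α = 21) (hL : IsSteinerSystem 2 5 L) :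
    (IndepSets L 3).card = 1120 := by
  have h := dc (L := L) (j := 2) (k := 3) (m := 16) (by
    intro s hs
    have h1 := card_filter_supersets (k := 2) hs
    rw [mem_IndepSets] at hs
    obtain ⟨a, b, hab, rfl⟩ := Finset.card_eq_two.mp hs.1
    exact h1.trans (W_pair hα hL hab))
  rw [card_IndepSets_two hα] at h
  have : Nat.choose 3 2 = 3 := by decide
  rw [this] at h
  omega

theorem card_IndepSets_four (hα : Fintype.card α = 21) (hL : IsSteinerSystem 2 5 L) :
    (IndepSets L 4).card = 2520 := by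
  have h := dc (L := L) (j := 3) (k := 4) (m := 9) (by
    intro s hs
    have h1 := card_filter_supersets (k := 3) hs
    rw [mem_IndepSets] at hs
    exact h1.trans (W_triple hα hL hs.2 hs.1))
  rw [card_IndepSets_three hα hL] at h
  have : Nat.choose 4 3 = 4 := by decide
  rw [this] at h
  omega

theorem card_IndepSets_six (hα : Fintype.card α = 21) (hL : IsSteinerSystem 2 5 L) :
    (IndepSets L 6).card = 168 := by
  have h := dc (L := L) (j := 4) (k := 6) (m := 1) (by
    intro s hs
    rw [mem_IndepSets] at hs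
    obtain ⟨H, ⟨⟨hHc, hHI⟩, hsH⟩, huniq⟩ := hyperoval_unique hα hL hs.2 hs.1
    rw [Finset.card_eq_one]
    refine ⟨H, ?_⟩
    ext t
    rw [Finset.mem_filter, mem_IndepSets, Finset.mem_singleton]
    constructor
    · rintro ⟨⟨h1, h2⟩, h3⟩
      exact huniq t ⟨⟨h1, h2⟩, h3⟩
    · rintro rfl
      exact ⟨⟨hHc, hHI⟩, hsH⟩)
  rw [card_IndepSets_four hα hL] at h
  have : Nat.choose 6 4 = 15 := by decide
  rw [this] at h
  omega

theorem ncard_eq (k : ℕ) :
    {S : Finset α | (S.card = k ∧ ∀ l ∈ L, (l ∩ S).card ≤ 2)}.ncard = (IndepSets L k).card := by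
  have : {S : Finset α | (S.card = k ∧ ∀ l ∈ L, (l ∩ S).card ≤ 2)} = ↑(IndepSets L k) := by
    ext S
    rw [Finset.mem_coe, mem_IndepSets]
    rfl
  rw [this, Set.ncard_coe_finset]

end

/-- In a projective plane of order 4 (a Steiner system S(2, 5, 21)), call a set of points independent when no line meets it in more than two points. There are exactly 2520 independent 4-sets and exactly 168 independent 6-sets (hyperovals), and every independent 4-set lies in exactly one hyperoval. -/
theorem result {α : Type*} [Fintype α] [DecidableEq α] (hα : Fintype.card α = 21) (L : Set (Finset α)) (hL : Cfsg.IsSteinerSystem 2 5 L) : {S : Finset α | (S.card = 4 ∧ ∀ l ∈ L, (l ∩ S).card ≤ 2)}.ncard = 2520 ∧ {H : Finset α | (H.card = 6 ∧ ∀ l ∈ L, (l ∩ H).card ≤ 2)}.ncard = 168 ∧ ∀ S : Finset α, (S.card = 4 ∧ ∀ l ∈ L, (l ∩ S).card ≤ 2) → ∃! H : Finset α, (H.card = 6 ∧ ∀ l ∈ L, (l ∩ H).card ≤ 2) ∧ S ⊆ H := by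
  refine ⟨?_, ?_, ?_⟩
  · rw [ncard_eq 4, card_IndepSets_four hα hL]
  · rw [ncard_eq 6, card_IndepSets_six hα hL]
  · rintro S ⟨hc, hS⟩
    exact hyperoval_unique hα hL hS hc

end Cfsg.Agent.S5627
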