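import Cfsg.Statements.S5628
import Cfsg.Agent.Lib.Helper28.Plane4

set_option autoImplicit false
open Cfsg

namespace Cfsg.Agent.S5628
open scoped Pointwise
open Cfsg.Agent.S5627 Cfsg.Agent.Lib.Helper28.Plane4

theorem smul_eq_image {α : Type*} [DecidableEq α] (g : Equiv.Perm α) (L : Set (Finset α)) :
    g • L = (fun b => b.image g) '' L := rfl

theorem mem_aut_iff {α : Type*} [DecidableEq α] (g : Equiv.Perm α) (L : Set (Finset α)) :
    g ∈ Cfsg.setSystemAut L ↔ (fun b => b.image g) '' L = L := by
  rw [← smul_eq_image]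
  exact MulAction.mem_stabilizer_iff

/-- In a projective plane of order 4 (a Steiner system S(2, 5, 21)), every permutation of the six points of a hyperoval (a 6-set met by no line in more than two points) is the restriction of exactly one automorphism of the plane. In particular the stabiliser of a hyperoval in the automorphism group is isomorphic to the symmetric group of degree 6 acting faithfully on the hyperoval. -/
theorem result {α : Type*} [Fintype α] [DecidableEq α] (hα : Fintype.card α = 21) (L : Set (Finset α)) (hL : Cfsg.IsSteinerSystem 2 5 L) (H : Finset α) (hH : (H.card = 6 ∧ ∀ l ∈ L, (l ∩ H).card ≤ 2)) (σ : Equiv.Perm ↥H) : ∃! g : Equiv.Perm α, g ∈ Cfsg.setSystemAut L ∧ ∀ p : ↥H, g p = σ p := by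
  have hH' : IsHyperoval L H := ⟨hH.1, hH.2⟩
  have hs : HBij H H (fun x => if h : x ∈ H then (σ ⟨x, h⟩ : α) else x)
      (fun y => if h : y ∈ H then (σ.symm ⟨y, h⟩ : α) else y) := by
    constructor
    · intro x hx
      simp only [dif_pos hx]
      exact (σ ⟨x, hx⟩).2
    · intro y hy
      simp only [dif_pos hy]
      exact (σ.symm ⟨y, hy⟩).2
    · intro x hx
      simp only [dif_pos hx, Subtype.coe_eta, Equiv.symm_apply_apply]
      rw [dif_pos (σ ⟨x, hx⟩).2]
    · intro y hy
      simp only [dif_pos hy, Subtype.coe_eta, Equiv.apply_symm_apply]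
      rw [dif_pos (σ.symm ⟨y, hy⟩).2]
  obtain ⟨e, hes, he⟩ := exists_iso hα hα hL hL hH' hH' hs
  refine ⟨e, ⟨(mem_aut_iff e L).mpr he, ?_⟩, ?_⟩
  · intro p
    rw [hes p.1 p.2]
    simp only [dif_pos p.2, Subtype.coe_eta]
  · rintro g ⟨hg, hgσ⟩
    rw [mem_aut_iff] at hg
    have hline : ∀ (k : Equiv.Perm α), (fun b => b.image k) '' L = L → ∀ l ∈ L, l.image k ∈ L := by
      intro k hk l hl
      rw [← hk]
      exact ⟨l, hl, rfl⟩
    ext p
    rw [eq_ext hα hα hL hL hH' hH' hs g.injective (hline g hg) (by
        intro x hx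
        simp only [dif_pos hx]
        exact hgσ ⟨x, hx⟩) p,
      eq_ext hα hα hL hL hH' hH' hs e.injective (hline e he) hes p]

end Cfsg.Agent.S5628
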