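import Cfsg.Statements.S5631
import Mathlib
import Cfsg.Agent.Lib.Helper2.SLGen
import Cfsg.Agent.Lib.Helper5.SLStab

set_option autoImplicit false
open Cfsg

namespace Cfsg.Agent.S5631

section Aux
set_option linter.unusedSectionVars false
set_option linter.unusedVariables false
set_option linter.unusedSimpArgs false

namespace S5631aux
open Cfsg Matrix
open Cfsg.Agent.Lib.Helper5.SLStab

section Basic
variable {F : Type*} [Field F] {n : ℕ}

lemma exists_rank_one (s : (Fin n → F) →ₗ[F] F) (a : Fin n → F) (hs : s a = 0) :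
    ∃ g : GL (Fin n) F, g ∈ Cfsg.Geo.specialLinear (Fin n) F ∧
      (∀ v, (g : Matrix (Fin n) (Fin n) F) *ᵥ v = v + s v • a) := by
  set r : Fin n → F := fun j => s (Pi.single j 1) with hr
  have hdot : ∀ x : Fin n → F, r ⬝ᵥ x = s x := by
    intro x
    have hx : x = ∑ i, x i • (Pi.single i (1 : F) : Fin n → F) := by
      ext j
      simp [Finset.sum_apply, Pi.single_apply]
    conv_rhs => rw [hx, map_sum]
    simp only [dotProduct, hr, map_smul, smul_eq_mul]
    apply Finset.sum_congr rfl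
    intro i _
    ring
  set M : Matrix (Fin n) (Fin n) F := 1 + Matrix.vecMulVec a r with hM
  have hdet : M.det = 1 := by
    have h1 : M = 1 + Matrix.replicateCol Unit a * Matrix.replicateRow Unit r := by
      rw [hM]; congr 1
      ext i j; simp [Matrix.vecMulVec_apply, Matrix.mul_apply]
    rw [h1, Matrix.det_one_add_replicateCol_mul_replicateRow, hdot, hs, add_zero]
  have hMx : ∀ x : Fin n → F, M *ᵥ x = x + s x • a := by
    intro x
    rw [hM, Matrix.add_mulVec, Matrix.one_mulVec, Matrix.vecMulVec_mulVec, hdot]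
    congr 1
    ext i
    simp [mul_comm]
  refine ⟨Matrix.GeneralLinearGroup.mkOfDetNeZero M (by rw [hdet]; exact one_ne_zero), ?_, hMx⟩
  change _ ∈ (Matrix.GeneralLinearGroup.det : GL (Fin n) F →* Fˣ).ker
  rw [MonoidHom.mem_ker]
  apply Units.ext
  simp [hdet]

lemma mul_inv_mulVec (g : GL (Fin n) F) (v : Fin n → F) :
    (g : Matrix (Fin n) (Fin n) F) *ᵥ (((g⁻¹ : GL (Fin n) F) : Matrix (Fin n) (Fin n) F) *ᵥ v) = v := by
  rw [Matrix.mulVec_mulVec, ← Units.val_mul, mul_inv_cancel, Units.val_one, Matrix.one_mulVec]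

lemma mat_eq_of_mulVec {A B : Matrix (Fin n) (Fin n) F} (h : ∀ v, A *ᵥ v = B *ᵥ v) : A = B := by
  apply Matrix.toLin'.injective
  apply LinearMap.ext
  intro v
  rw [Matrix.toLin'_apply, Matrix.toLin'_apply, h]

lemma transvection_mulVec (i j : Fin n) (c : F) (v : Fin n → F) :
    Matrix.transvection i j c *ᵥ v = v + (c * v j) • (Pi.single i (1 : F) : Fin n → F) := by
  unfold Matrix.transvection
  rw [Matrix.add_mulVec, Matrix.one_mulVec]
  congr 1
  ext l
  simp only [Matrix.mulVec, dotProduct, Matrix.single_apply, Pi.smul_apply, Pi.single_apply,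
    smul_eq_mul]
  by_cases hl : i = l
  · subst hl
    simp
  · simp [hl, Ne.symm hl]

/-- a rank-one element with centre in `W` stabilises `W` -/
lemma rank_one_mem_stab {W : Submodule F (Fin n → F)} {g : GL (Fin n) F}
    {s : (Fin n → F) →ₗ[F] F} {a : Fin n → F}
    (hg : ∀ v, (g : Matrix (Fin n) (Fin n) F) *ᵥ v = v + s v • a) (ha : a ∈ W) :
    g ∈ Cfsg.Geo.subspaceStabilizer W := by
  rw [mem_stab]
  intro v
  rw [hg, W.add_mem_iff_left (W.smul_mem _ ha)]

/-- the stabiliser of `W` in `SL` is transitive up to scalars on the vectors outside `W` -/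
lemma exists_move {W : Submodule F (Fin n → F)} {a b : Fin n → F} (ha : a ∉ W) (hb : b ∉ W) :
    ∃ h : GL (Fin n) F, h ∈ Cfsg.Geo.subspaceStabilizer W ⊓ Cfsg.Geo.specialLinear (Fin n) F ∧
      ∃ c : F, c ≠ 0 ∧ (h : Matrix (Fin n) (Fin n) F) *ᵥ b = c • a := by
  by_cases hab : a ∈ W ⊔ Submodule.span F {b}
  · obtain ⟨w, hw, y, hy, hsum⟩ := Submodule.mem_sup.mp hab
    obtain ⟨c, rfl⟩ := Submodule.mem_span_singleton.mp hy
    have hc : c ≠ 0 := by
      rintro rfl
      rw [zero_smul, add_zero] at hsum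
      exact ha (hsum ▸ hw)
    obtain ⟨g, hgSL, hgfix, hgb⟩ := exists_transvection W b (c⁻¹ • w) hb (W.smul_mem _ hw)
    refine ⟨g, ⟨mem_stab_of_fix hgfix, hgSL⟩, c⁻¹, inv_ne_zero hc, ?_⟩
    rw [hgb, ← hsum, smul_add, smul_smul, inv_mul_cancel₀ hc, one_smul, add_comm]
  · have hbP : b ∉ W ⊔ Submodule.span F {a - b} := by
      intro h
      obtain ⟨w, hw, y, hy, hsum⟩ := Submodule.mem_sup.mp h
      obtain ⟨t, rfl⟩ := Submodule.mem_span_singleton.mp hy
      by_cases ht : t = 0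
      · subst ht
        rw [zero_smul, add_zero] at hsum
        exact hb (hsum ▸ hw)
      · apply hab
        have h1 : a = (-(t⁻¹)) • w + (t⁻¹ * (1 + t)) • b := by
          funext i
          have h2 := congrFun hsum i
          simp only [Pi.add_apply, Pi.smul_apply, Pi.sub_apply, smul_eq_mul] at h2 ⊢
          field_simp
          linear_combination h2
        rw [h1]
        exact Submodule.add_mem _ (Submodule.mem_sup_left (W.smul_mem _ hw))
          (Submodule.mem_sup_right (Submodule.smul_mem _ _ (Submodule.mem_span_singleton_self b)))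
    obtain ⟨g, hgSL, hgfix, hgb⟩ := exists_transvection (W ⊔ Submodule.span F {a - b}) b (a - b) hbP
      (Submodule.mem_sup_right (Submodule.mem_span_singleton_self _))
    refine ⟨g, ⟨mem_stab_of_fix (fun x hx => hgfix x (Submodule.mem_sup_left hx)), hgSL⟩, 1,
      one_ne_zero, ?_⟩
    rw [hgb, one_smul, add_sub_cancel]

end Basic

section Main
variable {F : Type*} [Field F] {n : ℕ}

lemma transvection_mem {W : Submodule F (Fin n → F)} {M : Subgroup (GL (Fin n) F)}
    (hHM : Cfsg.Geo.subspaceStabilizer W ⊓ Cfsg.Geo.specialLinear (Fin n) F ≤ M)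
    {g : GL (Fin n) F} (hg : g ∈ M) {a₀ : Fin n → F} (ha₀ : a₀ ∈ W)
    (hga : (g : Matrix (Fin n) (Fin n) F) *ᵥ a₀ ∉ W) (i j : Fin n) (hij : i ≠ j) (c : F) :
    ∃ x ∈ M, (x : Matrix (Fin n) (Fin n) F) = Matrix.transvection i j c := by
  by_cases hiW : (Pi.single i 1 : Fin n → F) ∈ W
  · obtain ⟨s, hs⟩ : ∃ s : (Fin n → F) →ₗ[F] F, s = c • LinearMap.proj j := ⟨_, rfl⟩
    have hsv : ∀ v, s v = c * v j := fun v => by rw [hs]; simp
    have hsi : s (Pi.single i 1) = 0 := by
      rw [hsv, Pi.single_apply, if_neg (Ne.symm hij), mul_zero]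
    obtain ⟨t, htSL, ht⟩ := exists_rank_one s (Pi.single i 1) hsi
    refine ⟨t, hHM ⟨rank_one_mem_stab ht hiW, htSL⟩, ?_⟩
    apply mat_eq_of_mulVec
    intro v
    rw [ht, transvection_mulVec, hsv]
  · obtain ⟨h, hhH, c', hc', hhb⟩ := exists_move hiW hga
    obtain ⟨gi, hgi⟩ : ∃ gi : GL (Fin n) F, gi = h * g := ⟨_, rfl⟩
    have hgiM : gi ∈ M := by rw [hgi]; exact M.mul_mem (hHM hhH) hg
    have hgia : (gi : Matrix (Fin n) (Fin n) F) *ᵥ a₀ = c' • Pi.single i 1 := by
      rw [hgi, Units.val_mul, ← Matrix.mulVec_mulVec, hhb]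
    obtain ⟨s, hs⟩ : ∃ s : (Fin n → F) →ₗ[F] F, s = (c / c') • (LinearMap.proj j ∘ₗ
        Matrix.toLin' (gi : Matrix (Fin n) (Fin n) F)) := ⟨_, rfl⟩
    have hsv : ∀ v, s v = (c / c') * ((gi : Matrix (Fin n) (Fin n) F) *ᵥ v) j := fun v => by
      rw [hs]; simp
    have hsa : s a₀ = 0 := by
      rw [hsv, hgia, Pi.smul_apply, Pi.single_apply, if_neg (Ne.symm hij), smul_zero, mul_zero]
    obtain ⟨t, htSL, ht⟩ := exists_rank_one s a₀ hsa
    have htH : t ∈ Cfsg.Geo.subspaceStabilizer W ⊓ Cfsg.Geo.specialLinear (Fin n) F :=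
      ⟨rank_one_mem_stab ht ha₀, htSL⟩
    refine ⟨gi * t * gi⁻¹, M.mul_mem (M.mul_mem hgiM (hHM htH)) (M.inv_mem hgiM), ?_⟩
    apply mat_eq_of_mulVec
    intro v
    rw [Units.val_mul, Units.val_mul, ← Matrix.mulVec_mulVec, ← Matrix.mulVec_mulVec, ht,
      Matrix.mulVec_add, Matrix.mulVec_smul, mul_inv_mulVec, hgia, hsv, mul_inv_mulVec,
      transvection_mulVec, smul_smul]
    congr 2
    field_simp

theorem main (n : ℕ) (hn : 2 ≤ n) (W : Submodule F (Fin n → F)) (hW0 : W ≠ ⊥) (hW1 : W ≠ ⊤) :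
    Cfsg.Geo.IsMaximalIn (Cfsg.Geo.specialLinear (Fin n) F)
      (Cfsg.Geo.subspaceStabilizer W ⊓ Cfsg.Geo.specialLinear (Fin n) F) := by
  obtain ⟨w, hw, hw0⟩ := (Submodule.ne_bot_iff W).mp hW0
  obtain ⟨v, hv⟩ : ∃ v, v ∉ W := by
    by_contra hcon
    push Not at hcon
    exact hW1 (eq_top_iff.mpr fun x _ => hcon x)
  refine ⟨?_, ?_⟩
  · rw [lt_iff_le_and_ne]
    refine ⟨inf_le_right, fun h => ?_⟩
    obtain ⟨g, hg, hgW⟩ := exists_not_stab W w v hw hw0 hv
    rw [← h] at hg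
    exact hgW hg.1
  · intro M hHM hMS
    by_cases hMH : M = Cfsg.Geo.subspaceStabilizer W ⊓ Cfsg.Geo.specialLinear (Fin n) F
    · left; exact hMH
    right
    apply le_antisymm hMS
    obtain ⟨g, hgM, hgH⟩ : ∃ g ∈ M,
        g ∉ Cfsg.Geo.subspaceStabilizer W ⊓ Cfsg.Geo.specialLinear (Fin n) F := by
      by_contra hcon
      push Not at hcon
      exact hMH (le_antisymm hcon hHM)
    have hgS : g ∉ Cfsg.Geo.subspaceStabilizer W := fun h => hgH ⟨h, hMS hgM⟩
    obtain ⟨g', hg'M, a₀, ha₀, hga⟩ : ∃ g' ∈ M, ∃ a₀ ∈ W,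
        (g' : Matrix (Fin n) (Fin n) F) *ᵥ a₀ ∉ W := by
      rw [mem_stab] at hgS
      obtain ⟨v, hv⟩ := not_forall.mp hgS
      by_cases hvW : v ∈ W
      · exact ⟨g, hgM, v, hvW, fun h => hv ⟨fun _ => h, fun _ => hvW⟩⟩
      · have hgv : (g : Matrix (Fin n) (Fin n) F) *ᵥ v ∈ W := by
          by_contra h
          exact hv ⟨fun h' => absurd h' hvW, fun h' => absurd h' h⟩
        refine ⟨g⁻¹, M.inv_mem hgM, (g : Matrix (Fin n) (Fin n) F) *ᵥ v, hgv, ?_⟩
        have : ((g⁻¹ : GL (Fin n) F) : Matrix (Fin n) (Fin n) F) *ᵥ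
            ((g : Matrix (Fin n) (Fin n) F) *ᵥ v) = v := by
          rw [Matrix.mulVec_mulVec, ← Units.val_mul, inv_mul_cancel, Units.val_one,
            Matrix.one_mulVec]
        rw [this]
        exact hvW
    intro x hx
    have hdet : (x : Matrix (Fin n) (Fin n) F).det = 1 := by
      have h1 := congrArg Units.val (MonoidHom.mem_ker.mp hx)
      simpa using h1
    haveI : Nontrivial (Fin n) := Fin.nontrivial_iff_two_le.mpr hn
    have key : ∀ A : Matrix.SpecialLinearGroup (Fin n) F,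
        ∃ y ∈ M, (y : Matrix (Fin n) (Fin n) F) = (A : Matrix (Fin n) (Fin n) F) := by
      intro A
      refine Cfsg.Agent.Lib.Helper2.sl_transvection_induction
        (fun A => ∃ y ∈ M, (y : Matrix (Fin n) (Fin n) F) = (A : Matrix (Fin n) (Fin n) F)) ?_ ?_ A
      · intro i j hij c
        exact transvection_mem hHM hg'M ha₀ hga i j hij c
      · rintro A B ⟨y, hy, hyA⟩ ⟨z, hz, hzB⟩
        refine ⟨y * z, M.mul_mem hy hz, ?_⟩
        rw [Units.val_mul, hyA, hzB]
        rfl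
    obtain ⟨y, hy, hyx⟩ := key ⟨(x : Matrix (Fin n) (Fin n) F), hdet⟩
    have : y = x := Units.ext hyx
    rwa [← this]

end Main

end S5631aux

end Aux

/-- For a finite field F and n ≥ 13, the stabiliser in SL_n(F) of any proper non-zero subspace W of F^n is a maximal subgroup of SL_n(F). Here SL_n(F) is the kernel of the determinant inside GL_n(F) and the stabiliser is the set of elements of determinant one mapping W onto itself. -/
theorem result {F : Type*} [Field F] [Fintype F] (n : ℕ) (hn : 13 ≤ n) (W : Submodule F (Fin n → F)) (hW0 : W ≠ ⊥) (hW1 : W ≠ ⊤) : Cfsg.Geo.IsMaximalIn (Cfsg.Geo.specialLinear (Fin n) F) (Cfsg.Geo.subspaceStabilizer W ⊓ Cfsg.Geo.specialLinear (Fin n) F) := by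
  exact S5631aux.main n (by omega) W hW0 hW1

end Cfsg.Agent.S5631
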