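import Cfsg.Statements.S5635
import Mathlib

set_option autoImplicit false
open Cfsg

namespace Cfsg.Agent.S5635

section Aux
set_option linter.unusedSectionVars false
set_option linter.unusedVariables false
set_option linter.unusedSimpArgs false
namespace S5635aux
open Cfsg Matrix

section Decomp
variable {F V : Type*} [Field F] [AddCommGroup V] [Module F V] {ι : Type*} [Fintype ι] [DecidableEq ι]
  (D : ι → Submodule F V) (hInt : DirectSum.IsInternal D)

/-- the decomposition isomorphism -/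
noncomputable def Φ : (DirectSum ι fun i => D i) ≃ₗ[F] V :=
  LinearEquiv.ofBijective (DirectSum.coeLinearMap D) hInt

/-- components -/
noncomputable def comp (v : V) (i : ι) : V := (((Φ D hInt).symm v) i : V)

lemma comp_mem (v : V) (i : ι) : comp D hInt v i ∈ D i := Subtype.property _

lemma sum_comp (v : V) : ∑ i, comp D hInt v i = v := by
  have h1 : (Φ D hInt) ((Φ D hInt).symm v) = v := LinearEquiv.apply_symm_apply _ _
  conv_rhs => rw [← h1]
  conv_rhs => rw [← DirectSum.sum_univ_of ((Φ D hInt).symm v)]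
  rw [map_sum]
  apply Finset.sum_congr rfl
  intro i _
  change _ = DirectSum.coeLinearMap D _
  rw [DirectSum.coeLinearMap_of]
  rfl

lemma comp_add (u v : V) (i : ι) : comp D hInt (u + v) i = comp D hInt u i + comp D hInt v i := by
  unfold comp
  rw [map_add, DirectSum.add_apply, Submodule.coe_add]

lemma comp_zero (i : ι) : comp D hInt 0 i = 0 := by
  unfold comp
  rw [map_zero, DirectSum.zero_apply, Submodule.coe_zero]

lemma comp_sum {κ : Type*} (s : Finset κ) (g : κ → V) (i : ι) :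
    comp D hInt (∑ k ∈ s, g k) i = ∑ k ∈ s, comp D hInt (g k) i := by
  classical
  induction s using Finset.induction_on with
  | empty => simp [comp_zero]
  | insert a s ha ih => rw [Finset.sum_insert ha, Finset.sum_insert ha, comp_add, ih]

lemma comp_of_mem {x : V} {j : ι} (hx : x ∈ D j) (i : ι) :
    comp D hInt x i = if i = j then x else 0 := by
  have h1 : (Φ D hInt).symm x = DirectSum.of (fun i => D i) j ⟨x, hx⟩ := by
    rw [LinearEquiv.symm_apply_eq]
    change x = DirectSum.coeLinearMap D _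
    rw [DirectSum.coeLinearMap_of]
  unfold comp
  rw [h1]
  by_cases hij : i = j
  · subst hij
    rw [DirectSum.of_eq_same, if_pos rfl]
  · rw [DirectSum.of_eq_of_ne _ _ _ hij, if_neg hij, Submodule.coe_zero]

/-- uniqueness of components -/
lemma comp_eq_of_sum (a : ι → V) (ha : ∀ i, a i ∈ D i) (i : ι) :
    comp D hInt (∑ j, a j) i = a i := by
  rw [comp_sum]
  have : ∀ j ∈ Finset.univ, comp D hInt (a j) i = if i = j then a j else 0 :=
    fun j _ => comp_of_mem D hInt (ha j) i
  rw [Finset.sum_congr rfl this, Finset.sum_ite_eq Finset.univ i a]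
  simp

lemma comp_smul (c : F) (v : V) (i : ι) : comp D hInt (c • v) i = c • comp D hInt v i := by
  unfold comp
  rw [map_smul, DirectSum.smul_apply, Submodule.coe_smul]

/-- components as linear maps -/
noncomputable def compL (i : ι) : V →ₗ[F] V where
  toFun v := comp D hInt v i
  map_add' u v := comp_add D hInt u v i
  map_smul' c v := comp_smul D hInt c v i

lemma compL_apply (i : ι) (v : V) : compL D hInt i v = comp D hInt v i := rfl

end Decomp

section Basic
variable {F : Type*} [Field F] {n : ℕ}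

lemma exists_rank_one (s : (Fin n → F) →ₗ[F] F) (a : Fin n → F) (hs : 1 + s a ≠ 0) :
    ∃ g : GL (Fin n) F, (∀ v, (g : Matrix (Fin n) (Fin n) F) *ᵥ v = v + s v • a) ∧
      (g : Matrix (Fin n) (Fin n) F).det = 1 + s a := by
  set r : Fin n → F := fun j => s (Pi.single j 1) with hr
  have hdot : ∀ x : Fin n → F, r ⬝ᵥ x = s x := by
    intro x
    have hx : x = ∑ i, x i • (Pi.single i (1 : F) : Fin n → F) := by
      ext j
      simp [Finset.sum_apply, Pi.single_apply]
    conv_rhs => rw [hx, map_sum]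
    simp only [dotProduct, hr, map_smul, smul_eq_mul]
    apply Finset.sum_congr rfl
    intro i _
    ring
  set M : Matrix (Fin n) (Fin n) F := 1 + Matrix.vecMulVec a r with hM
  have hdet : M.det = 1 + s a := by
    have h1 : M = 1 + Matrix.replicateCol Unit a * Matrix.replicateRow Unit r := by
      rw [hM]; congr 1
      ext i j; simp [Matrix.vecMulVec_apply, Matrix.mul_apply]
    rw [h1, Matrix.det_one_add_replicateCol_mul_replicateRow, hdot]
  have hMx : ∀ x : Fin n → F, M *ᵥ x = x + s x • a := by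
    intro x
    rw [hM, Matrix.add_mulVec, Matrix.one_mulVec, Matrix.vecMulVec_mulVec, hdot]
    congr 1
    ext i
    simp [mul_comm]
  exact ⟨Matrix.GeneralLinearGroup.mkOfDetNeZero M (by rw [hdet]; exact hs), hMx, hdet⟩

lemma mem_SL_of_det (g : GL (Fin n) F) (h : (g : Matrix (Fin n) (Fin n) F).det = 1) :
    g ∈ Geo.specialLinear (Fin n) F := by
  change g ∈ (Matrix.GeneralLinearGroup.det : GL (Fin n) F →* Fˣ).ker
  rw [MonoidHom.mem_ker]
  apply Units.ext
  simpa using h

lemma exists_dual (P : Submodule F (Fin n → F)) (u : Fin n → F) (hu : u ∉ P) :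
    ∃ φ : (Fin n → F) →ₗ[F] F, φ u = 1 ∧ ∀ x ∈ P, φ x = 0 := by
  obtain ⟨f, hfu, hPf⟩ := Submodule.exists_le_ker_of_notMem hu
  refine ⟨(f u)⁻¹ • f, ?_, ?_⟩
  · simp [inv_mul_cancel₀ hfu]
  · intro x hx
    have : f x = 0 := hPf hx
    simp [this]

lemma mem_span_pair_of_finrank_two {W : Submodule F (Fin n → F)} (hW : Module.finrank F W = 2)
    {u w : Fin n → F} (hu : u ∈ W) (hw : w ∈ W)
    (hli : ∀ s t : F, s • u + t • w = 0 → s = 0 ∧ t = 0) (x : Fin n → F) (hx : x ∈ W) :
    ∃ α β : F, x = α • u + β • w := by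
  have hli' : LinearIndependent F ![u, w] := LinearIndependent.pair_iff.mpr hli
  have hspan : Submodule.span F (Set.range ![u, w]) = W := by
    apply Submodule.eq_of_le_of_finrank_eq
    · rw [Submodule.span_le]
      rintro _ ⟨k, rfl⟩
      fin_cases k
      · exact hu
      · exact hw
    · rw [finrank_span_eq_card hli', hW]
      rfl
  rw [← hspan] at hx
  obtain ⟨c, hc⟩ := (Submodule.mem_span_range_iff_exists_fun F).mp hx
  refine ⟨c 0, c 1, ?_⟩
  rw [← hc, Fin.sum_univ_two]
  rfl

lemma exists_not_smul {W : Submodule F (Fin n → F)} (hW : Module.finrank F W = 2)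
    (u : Fin n → F) : ∃ x ∈ W, ∀ c : F, x ≠ c • u := by
  by_contra h
  push Not at h
  have hle : W ≤ Submodule.span F {u} := by
    intro x hx
    obtain ⟨c, hc⟩ := h x hx
    rw [hc]
    exact Submodule.smul_mem _ _ (Submodule.mem_span_singleton_self u)
  have h1 := Submodule.finrank_mono hle
  have h2 : Module.finrank F (Submodule.span F {u}) ≤ 1 := by
    have := finrank_span_le_card (R := F) ({u} : Set (Fin n → F))
    simpa using this
  omega

lemma mem_smul_of_finrank_one {W : Submodule F (Fin n → F)} (hW : Module.finrank F W = 1)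
    {e : Fin n → F} (he : e ∈ W) (he0 : e ≠ 0) (x : Fin n → F) (hx : x ∈ W) :
    ∃ c : F, x = c • e := by
  have hspan : Submodule.span F {e} = W := by
    apply Submodule.eq_of_le_of_finrank_eq
    · rw [Submodule.span_le]
      simpa using he
    · rw [finrank_span_singleton he0, hW]
  rw [← hspan] at hx
  obtain ⟨c, hc⟩ := Submodule.mem_span_singleton.mp hx
  exact ⟨c, hc.symm⟩

end Basic

section Nu
variable {F : Type*} [Field F] {n t : ℕ} (D : Fin t → Submodule F (Fin n → F))
  (hI : DirectSum.IsInternal D)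

open Classical in
/-- indicator of being non-zero -/
noncomputable def N (x : Fin n → F) : F := if x = 0 then 0 else 1

lemma N_zero : N (0 : Fin n → F) = 0 := if_pos rfl

lemma N_of_ne {x : Fin n → F} (hx : x ≠ 0) : N x = 1 := if_neg hx

/-- the weight function -/
noncomputable def nu (v : Fin n → F) : F := ∑ i, N (comp D hI v i)

/-- the stabilizer of the weight function -/
noncomputable def Knu : Subgroup (GL (Fin n) F) where
  carrier := {g | ∀ v, nu D hI ((g : Matrix (Fin n) (Fin n) F) *ᵥ v) = nu D hI v}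
  mul_mem' := fun {a b} ha hb v => by rw [Units.val_mul, ← Matrix.mulVec_mulVec, ha, hb]
  one_mem' := fun v => by simp
  inv_mem' := fun {a} ha v => by
    have := ha (((a⁻¹ : GL (Fin n) F) : Matrix (Fin n) (Fin n) F) *ᵥ v)
    rw [Matrix.mulVec_mulVec, ← Units.val_mul, mul_inv_cancel, Units.val_one,
      Matrix.one_mulVec] at this
    exact this.symm

lemma mem_Knu {g : GL (Fin n) F} : g ∈ Knu D hI ↔
    ∀ v, nu D hI ((g : Matrix (Fin n) (Fin n) F) *ᵥ v) = nu D hI v := Iff.rfl

lemma gl_mulVec_eq_zero (g : GL (Fin n) F) (x : Fin n → F) :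
    (g : Matrix (Fin n) (Fin n) F) *ᵥ x = 0 ↔ x = 0 := by
  constructor
  · intro h
    have := congrArg (fun y => ((g⁻¹ : GL (Fin n) F) :
      Matrix (Fin n) (Fin n) F) *ᵥ y) h
    simp only [Matrix.mulVec_mulVec, ← Units.val_mul, inv_mul_cancel, Units.val_one,
      Matrix.one_mulVec, Matrix.mulVec_zero] at this
    exact this
  · rintro rfl; exact Matrix.mulVec_zero _

lemma N_gl (g : GL (Fin n) F) (x : Fin n → F) :
    N ((g : Matrix (Fin n) (Fin n) F) *ᵥ x) = N x := by
  classical
  unfold N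
  by_cases hx : x = 0
  · rw [if_pos hx, if_pos ((gl_mulVec_eq_zero g x).mpr hx)]
  · rw [if_neg hx, if_neg (fun h => hx ((gl_mulVec_eq_zero g x).mp h))]

lemma stab_le_Knu : Geo.decompositionStabilizer D ≤ Knu D hI := by
  rintro g ⟨σ, hσ⟩
  rw [mem_Knu]
  intro v
  set M := (g : Matrix (Fin n) (Fin n) F) with hM
  set a : Fin t → (Fin n → F) := fun j => M *ᵥ comp D hI v (σ.symm j) with ha
  have haD : ∀ j, a j ∈ D j := by
    intro j
    have h1 := hσ (σ.symm j)
    rw [Equiv.apply_symm_apply] at h1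
    rw [← h1]
    refine ⟨comp D hI v (σ.symm j), comp_mem D hI v _, ?_⟩
    rw [Matrix.toLin'_apply]
  have hsum : M *ᵥ v = ∑ j, a j := by
    conv_lhs => rw [← sum_comp D hI v]
    rw [← Matrix.toLin'_apply M, map_sum]
    rw [← Equiv.sum_comp σ a]
    apply Finset.sum_congr rfl
    intro i _
    rw [ha]
    simp only [Equiv.symm_apply_apply, Matrix.toLin'_apply]
  unfold nu
  rw [hsum]
  have h2 : ∀ j ∈ Finset.univ, N (comp D hI (∑ j, a j) j) = N (comp D hI v (σ.symm j)) := by
    intro j _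
    rw [comp_eq_of_sum D hI a haD j, ha]
    exact N_gl g _
  rw [Finset.sum_congr rfl h2]
  exact Equiv.sum_comp σ.symm (fun i => N (comp D hI v i))

lemma nu_of_mem {x : Fin n → F} {j : Fin t} (hx : x ∈ D j) : nu D hI x = N x := by
  unfold nu
  rw [Finset.sum_eq_single j]
  · rw [comp_of_mem D hI hx, if_pos rfl]
  · intro i _ hij
    rw [comp_of_mem D hI hx, if_neg hij, N_zero]
  · intro h; exact absurd (Finset.mem_univ j) h

lemma finish (hA : ∃ g : GL (Fin n) F, g ∈ Knu D hI ∧ g ∈ Geo.specialLinear (Fin n) F ∧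
      g ∉ Geo.decompositionStabilizer D)
    (hB : ∃ g : GL (Fin n) F, g ∈ Geo.specialLinear (Fin n) F ∧ g ∉ Knu D hI) :
    ∃ K : Subgroup (Matrix.GeneralLinearGroup (Fin n) F),
      Geo.decompositionStabilizer D ⊓ Geo.specialLinear (Fin n) F < K ∧
        K < Geo.specialLinear (Fin n) F := by
  obtain ⟨g₁, h1K, h1S, h1D⟩ := hA
  obtain ⟨g₂, h2S, h2K⟩ := hB
  refine ⟨Knu D hI ⊓ Geo.specialLinear (Fin n) F, ?_, ?_⟩
  · rw [lt_iff_le_and_ne]
    refine ⟨fun g hg => ⟨stab_le_Knu D hI hg.1, hg.2⟩, fun h => ?_⟩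
    have : g₁ ∈ Knu D hI ⊓ Geo.specialLinear (Fin n) F := ⟨h1K, h1S⟩
    rw [← h] at this
    exact h1D this.1
  · rw [lt_iff_le_and_ne]
    refine ⟨inf_le_right, fun h => ?_⟩
    have : g₂ ∈ Geo.specialLinear (Fin n) F := h2S
    rw [← h] at this
    exact h2K this.1

lemma partB {i1 i2 : Fin t} (h12 : i1 ≠ i2) {e1 e2 : Fin n → F} (he1 : e1 ∈ D i1)
    (he2 : e2 ∈ D i2) (h10 : e1 ≠ 0) (h20 : e2 ≠ 0) :
    ∃ g : GL (Fin n) F, g ∈ Geo.specialLinear (Fin n) F ∧ g ∉ Knu D hI := by
  obtain ⟨φ, hφ1, -⟩ := exists_dual (⊥ : Submodule F (Fin n → F)) e1 (by simpa using h10)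
  set s : (Fin n → F) →ₗ[F] F := φ ∘ₗ compL D hI i1 with hs
  have hs1 : s e1 = 1 := by
    rw [hs, LinearMap.comp_apply, compL_apply, comp_of_mem D hI he1, if_pos rfl, hφ1]
  have hs2 : s e2 = 0 := by
    rw [hs, LinearMap.comp_apply, compL_apply, comp_of_mem D hI he2, if_neg h12, map_zero]
  obtain ⟨g, hg, hdet⟩ := exists_rank_one s e2 (by rw [hs2, add_zero]; exact one_ne_zero)
  refine ⟨g, mem_SL_of_det g (by rw [hdet, hs2, add_zero]), fun hmem => ?_⟩
  have h1 := hmem e1
  rw [hg, hs1, one_smul] at h1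
  have hnu1 : nu D hI e1 = 1 := by rw [nu_of_mem D hI he1, N_of_ne h10]
  have hnu2 : nu D hI (e1 + e2) = 1 + 1 := by
    unfold nu
    have : ∀ i ∈ Finset.univ, N (comp D hI (e1 + e2) i) =
        (if i = i1 then (1 : F) else 0) + (if i = i2 then 1 else 0) := by
      intro i _
      rw [comp_add, comp_of_mem D hI he1, comp_of_mem D hI he2]
      by_cases hi1 : i = i1
      · have hi2 : i ≠ i2 := fun h => h12 (hi1.symm.trans h)
        rw [if_pos hi1, if_neg hi2, add_zero, N_of_ne h10, if_pos hi1, if_neg hi2, add_zero]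
      · by_cases hi2 : i = i2
        · rw [if_neg hi1, if_pos hi2, zero_add, N_of_ne h20, if_neg hi1, if_pos hi2, zero_add]
        · rw [if_neg hi1, if_neg hi2, add_zero, N_zero, if_neg hi1, if_neg hi2, add_zero]
    rw [Finset.sum_congr rfl this, Finset.sum_add_distrib, Finset.sum_ite_eq', Finset.sum_ite_eq']
    simp
  rw [hnu1, hnu2] at h1
  exact one_ne_zero (by linear_combination h1 : (1 : F) = 0)

end Nu

section M1
variable {F : Type*} [Field F] {n t : ℕ} (D : Fin t → Submodule F (Fin n → F))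
  (hI : DirectSum.IsInternal D)
  (e : Fin t → (Fin n → F)) (he : ∀ i, e i ∈ D i) (he0 : ∀ i, e i ≠ 0)
  (hsp : ∀ i, ∀ x ∈ D i, ∃ c : F, x = c • e i)
  (φ : Fin t → (Fin n → F) →ₗ[F] F) (hφ : ∀ i, φ i (e i) = 1)

/-- coordinates -/
noncomputable def xi (i : Fin t) : (Fin n → F) →ₗ[F] F := φ i ∘ₗ compL D hI i

lemma xi_apply (i : Fin t) (v : Fin n → F) : xi D hI φ i v = φ i (comp D hI v i) := rfl

include hsp hφ in
lemma comp_eq_xi (v : Fin n → F) (i : Fin t) : comp D hI v i = xi D hI φ i v • e i := by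
  obtain ⟨c, hc⟩ := hsp i _ (comp_mem D hI v i)
  have : xi D hI φ i v = c := by
    rw [xi_apply, hc, map_smul, hφ, smul_eq_mul, mul_one]
  rw [this, hc]

lemma xi_of_mem {x : Fin n → F} {j : Fin t} (hx : x ∈ D j) (i : Fin t) (hij : i ≠ j) :
    xi D hI φ i x = 0 := by
  rw [xi_apply, comp_of_mem D hI hx, if_neg hij, map_zero]

include he hφ in
lemma xi_e (i j : Fin t) : xi D hI φ i (e j) = if i = j then 1 else 0 := by
  rw [xi_apply, comp_of_mem D hI (he j)]
  by_cases hij : i = j
  · subst hij; rw [if_pos rfl, if_pos rfl, hφ]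
  · rw [if_neg hij, if_neg hij, map_zero]

open Classical in
/-- scalar indicator -/
noncomputable def N' (c : F) : F := if c = 0 then 0 else 1

include he0 in
lemma N_smul (c : F) (i : Fin t) : N (c • e i) = N' c := by
  unfold N N'
  by_cases hc : c = 0
  · rw [if_pos hc, if_pos (by rw [hc, zero_smul])]
  · rw [if_neg hc, if_neg]
    intro h
    rcases smul_eq_zero.mp h with h | h
    · exact hc h
    · exact he0 i h

include he0 hsp hφ in
lemma nu_eq (v : Fin n → F) : nu D hI v = ∑ i, N' (xi D hI φ i v) := by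
  unfold nu
  apply Finset.sum_congr rfl
  intro i _
  rw [comp_eq_xi D hI e hsp φ hφ v i, N_smul e he0]

/-- `s_I` -/
noncomputable def sI (I : Finset (Fin t)) : (Fin n → F) →ₗ[F] F := ∑ i ∈ I, xi D hI φ i

/-- `a_I` -/
def aI (I : Finset (Fin t)) : Fin n → F := ∑ i ∈ I, e i

lemma sI_apply (I : Finset (Fin t)) (v : Fin n → F) :
    sI D hI φ I v = ∑ i ∈ I, xi D hI φ i v := by
  unfold sI
  rw [LinearMap.sum_apply]

include he hφ in
lemma xi_aI (I : Finset (Fin t)) (i : Fin t) :
    xi D hI φ i (aI e I) = if i ∈ I then 1 else 0 := by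
  unfold aI
  rw [map_sum, Finset.sum_congr rfl (fun j _ => xi_e D hI e he φ hφ i j), Finset.sum_ite_eq]

include he hφ in
lemma sI_aI (I : Finset (Fin t)) : sI D hI φ I (aI e I) = (I.card : F) := by
  rw [sI_apply, Finset.sum_congr rfl (fun i hi => by rw [xi_aI D hI e he φ hφ, if_pos hi])]
  simp

include he hφ in
lemma sI_e (I : Finset (Fin t)) (j : Fin t) : sI D hI φ I (e j) = if j ∈ I then 1 else 0 := by
  rw [sI_apply, Finset.sum_congr rfl (fun i _ => xi_e D hI e he φ hφ i j), Finset.sum_ite_eq']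

include he he0 hsp hφ in
lemma nu_rank_one (I : Finset (Fin t)) (k : ℕ) (hN : ∀ c : F, N' c = c ^ k)
    (hpoly : ∀ x : Fin t → F, ∑ i ∈ I, (x i + ∑ j ∈ I, x j) ^ k = ∑ i ∈ I, x i ^ k)
    (g : GL (Fin n) F)
    (hg : ∀ v, (g : Matrix (Fin n) (Fin n) F) *ᵥ v = v + sI D hI φ I v • aI e I) :
    g ∈ Knu D hI := by
  intro v
  rw [nu_eq D hI e he0 hsp φ hφ, nu_eq D hI e he0 hsp φ hφ, hg]
  simp only [map_add, map_smul, xi_aI D hI e he φ hφ, smul_eq_mul, hN]
  rw [← Finset.sum_add_sum_compl I, ← Finset.sum_add_sum_compl I (fun i => xi D hI φ i v ^ k)]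
  congr 1
  · rw [sI_apply]
    rw [← hpoly (fun i => xi D hI φ i v)]
    apply Finset.sum_congr rfl
    intro i hi
    rw [if_pos hi, mul_one]
  · apply Finset.sum_congr rfl
    intro i hi
    rw [if_neg (Finset.mem_compl.mp hi), mul_zero, add_zero]

include hI he hφ in
lemma not_stab (I : Finset (Fin t)) {i1 i2 i3 : Fin t} (h2 : i2 ∈ I) (h3 : i3 ∈ I)
    (h12 : i1 ≠ i2) (h13 : i1 ≠ i3) (h23 : i2 ≠ i3) (h : GL (Fin n) F)
    (hh : (h : Matrix (Fin n) (Fin n) F) *ᵥ e i1 = e i1 + aI e I) :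
    h ∉ Geo.decompositionStabilizer D := by
  rintro ⟨σ, hσ⟩
  have hmem : e i1 + aI e I ∈ D (σ i1) := by
    rw [← hh, ← hσ i1]
    exact ⟨e i1, he i1, by rw [Matrix.toLin'_apply]⟩
  have hx2 : xi D hI φ i2 (e i1 + aI e I) = 1 := by
    rw [map_add, xi_e D hI e he φ hφ, xi_aI D hI e he φ hφ, if_neg (Ne.symm h12), if_pos h2,
      zero_add]
  have hx3 : xi D hI φ i3 (e i1 + aI e I) = 1 := by
    rw [map_add, xi_e D hI e he φ hφ, xi_aI D hI e he φ hφ, if_neg (Ne.symm h13), if_pos h3,
      zero_add]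
  have hj2 : i2 = σ i1 := by
    by_contra hne
    rw [xi_of_mem D hI φ hmem i2 hne] at hx2
    exact zero_ne_one hx2
  have hj3 : i3 = σ i1 := by
    by_contra hne
    rw [xi_of_mem D hI φ hmem i3 hne] at hx3
    exact zero_ne_one hx3
  exact h23 (hj2.trans hj3.symm)

end M1

section M1A
variable {F : Type*} [Field F] [Fintype F] {n t : ℕ} (D : Fin t → Submodule F (Fin n → F))
  (hI : DirectSum.IsInternal D)
  (e : Fin t → (Fin n → F)) (he : ∀ i, e i ∈ D i) (he0 : ∀ i, e i ≠ 0)
  (hsp : ∀ i, ∀ x ∈ D i, ∃ c : F, x = c • e i)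
  (φ : Fin t → (Fin n → F) →ₗ[F] F) (hφ : ∀ i, φ i (e i) = 1)

lemma N'_eq_pow (c : F) : N' c = c ^ (Fintype.card F - 1) := by
  unfold N'
  by_cases hc : c = 0
  · rw [if_pos hc, hc, zero_pow]
    have := Fintype.one_lt_card (α := F)
    omega
  · rw [if_neg hc, FiniteField.pow_card_sub_one_eq_one c hc]

omit [Fintype F] in
lemma sum_four {i1 i2 i3 i4 : Fin t} (h12 : i1 ≠ i2) (h13 : i1 ≠ i3) (h14 : i1 ≠ i4)
    (h23 : i2 ≠ i3) (h24 : i2 ≠ i4) (h34 : i3 ≠ i4) (f : Fin t → F) :
    ∑ i ∈ ({i1, i2, i3, i4} : Finset (Fin t)), f i = f i1 + f i2 + f i3 + f i4 := by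
  rw [Finset.sum_insert, Finset.sum_insert, Finset.sum_insert, Finset.sum_singleton]
  · ring
  · simp [h34]
  · simp [h23, h24]
  · simp [h12, h13, h14]

include he he0 hsp hφ in
theorem m1_partA (hcard : Fintype.card F = 2 ∨ Fintype.card F = 3 ∨ Fintype.card F = 4)
    (ht : 5 ≤ t) :
    ∃ g : GL (Fin n) F, g ∈ Knu D hI ∧ g ∈ Geo.specialLinear (Fin n) F ∧
      g ∉ Geo.decompositionStabilizer D := by
  classical
  set i1 : Fin t := ⟨0, by omega⟩ with hi1
  set i2 : Fin t := ⟨1, by omega⟩ with hi2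
  set i3 : Fin t := ⟨2, by omega⟩ with hi3
  set i4 : Fin t := ⟨3, by omega⟩ with hi4
  set i5 : Fin t := ⟨4, by omega⟩ with hi5
  have h12 : i1 ≠ i2 := by rw [hi1, hi2]; intro h; simp [Fin.ext_iff] at h
  have h13 : i1 ≠ i3 := by rw [hi1, hi3]; intro h; simp [Fin.ext_iff] at h
  have h14 : i1 ≠ i4 := by rw [hi1, hi4]; intro h; simp [Fin.ext_iff] at h
  have h15 : i1 ≠ i5 := by rw [hi1, hi5]; intro h; simp [Fin.ext_iff] at h
  have h23 : i2 ≠ i3 := by rw [hi2, hi3]; intro h; simp [Fin.ext_iff] at h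
  have h24 : i2 ≠ i4 := by rw [hi2, hi4]; intro h; simp [Fin.ext_iff] at h
  have h34 : i3 ≠ i4 := by rw [hi3, hi4]; intro h; simp [Fin.ext_iff] at h
  set I : Finset (Fin t) := {i1, i2, i3, i4} with hIdef
  have hcardI : I.card = 4 := by
    rw [hIdef, Finset.card_insert_of_notMem, Finset.card_insert_of_notMem,
      Finset.card_insert_of_notMem, Finset.card_singleton]
    · simp [h34]
    · simp [h23, h24]
    · simp [h12, h13, h14]
  have hmem1 : i1 ∈ I := by rw [hIdef]; simp
  have hmem2 : i2 ∈ I := by rw [hIdef]; simp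
  have hmem3 : i3 ∈ I := by rw [hIdef]; simp
  have hchar : ((Fintype.card F : ℕ) : F) = 0 := Nat.cast_card_eq_zero F
  have hN := N'_eq_pow (F := F)
  have hs4 : sI D hI φ I (aI e I) = 4 := by
    rw [sI_aI D hI e he φ hφ, hcardI]; norm_num
  rcases hcard with hq | hq | hq
  · -- q = 2
    rw [hq] at hchar hN
    have h2 : (1 : F) + 1 = 0 := by push_cast at hchar; linear_combination hchar
    have hN1 : ∀ c : F, N' c = c ^ 1 := fun c => (hN c).trans (by norm_num)
    have hs : sI D hI φ I (aI e I) = 0 := by rw [hs4]; linear_combination 2 * h2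
    obtain ⟨g, hg, hdet⟩ := exists_rank_one (sI D hI φ I) (aI e I)
      (by rw [hs, add_zero]; exact one_ne_zero)
    refine ⟨g, nu_rank_one D hI e he he0 hsp φ hφ I 1 hN1 ?_ g hg,
      mem_SL_of_det g (by rw [hdet, hs, add_zero]),
      not_stab D hI e he φ hφ I hmem2 hmem3 h12 h13 h23 g ?_⟩
    · intro x
      simp only [hIdef, sum_four h12 h13 h14 h23 h24 h34]
      linear_combination (2 * (x i1 + x i2 + x i3 + x i4)) * h2
    · rw [hg, sI_e D hI e he φ hφ, if_pos hmem1, one_smul]
  · -- q = 3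
    rw [hq] at hchar hN
    have h3 : (1 : F) + 1 + 1 = 0 := by push_cast at hchar; linear_combination hchar
    have hN2 : ∀ c : F, N' c = c ^ 2 := fun c => (hN c).trans (by norm_num)
    have h2ne : (1 : F) + 1 ≠ 0 := by
      intro h
      have : (1 : F) = 0 := by linear_combination h3 - h
      exact one_ne_zero this
    obtain ⟨g, hg, hdet⟩ := exists_rank_one (sI D hI φ I) (aI e I)
      (by rw [hs4]; intro h; apply h2ne; linear_combination h - h3)
    have hs1 : sI D hI φ {i5} (aI e {i5}) = 1 := by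
      rw [sI_aI D hI e he φ hφ]; simp
    obtain ⟨g', hg', hdet'⟩ := exists_rank_one (sI D hI φ {i5}) (aI e {i5})
      (by rw [hs1]; exact h2ne)
    refine ⟨g * g', Subgroup.mul_mem _ (nu_rank_one D hI e he he0 hsp φ hφ I 2 hN2 ?_ g hg)
      (nu_rank_one D hI e he he0 hsp φ hφ {i5} 2 hN2 ?_ g' hg'),
      mem_SL_of_det _ ?_, not_stab D hI e he φ hφ I hmem2 hmem3 h12 h13 h23 _ ?_⟩
    · intro x
      simp only [hIdef, sum_four h12 h13 h14 h23 h24 h34]
      linear_combination (2 * (x i1 + x i2 + x i3 + x i4) ^ 2) * h3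
    · intro x
      simp only [Finset.sum_singleton]
      linear_combination (x i5 ^ 2) * h3
    · rw [Units.val_mul, Matrix.det_mul, hdet, hdet', hs4, hs1]
      linear_combination 3 * h3
    · rw [Units.val_mul, ← Matrix.mulVec_mulVec, hg', sI_e D hI e he φ hφ,
        if_neg (by simp [h15]), zero_smul, add_zero, hg, sI_e D hI e he φ hφ, if_pos hmem1,
        one_smul]
  · -- q = 4
    rw [hq] at hchar hN
    have h2 : (1 : F) + 1 = 0 := by
      have h4 : ((1 : F) + 1) ^ 2 = 0 := by push_cast at hchar; linear_combination hchar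
      exact (pow_eq_zero_iff two_ne_zero).mp h4
    have hN3 : ∀ c : F, N' c = c ^ 3 := fun c => (hN c).trans (by norm_num)
    have hs : sI D hI φ I (aI e I) = 0 := by rw [hs4]; linear_combination 2 * h2
    obtain ⟨g, hg, hdet⟩ := exists_rank_one (sI D hI φ I) (aI e I)
      (by rw [hs, add_zero]; exact one_ne_zero)
    refine ⟨g, nu_rank_one D hI e he he0 hsp φ hφ I 3 hN3 ?_ g hg,
      mem_SL_of_det g (by rw [hdet, hs, add_zero]),
      not_stab D hI e he φ hφ I hmem2 hmem3 h12 h13 h23 g ?_⟩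
    · intro x
      simp only [hIdef, sum_four h12 h13 h14 h23 h24 h34]
      linear_combination (5 * (x i1 + x i2 + x i3 + x i4) ^ 3 - 3 * (x i1 + x i2 + x i3 + x i4) *
        (x i1 * x i2 + x i1 * x i3 + x i1 * x i4 + x i2 * x i3 + x i2 * x i4 + x i3 * x i4)) * h2
    · rw [hg, sI_e D hI e he φ hφ, if_pos hmem1, one_smul]

end M1A

section M2
variable {F : Type*} [Field F] [Fintype F] (hq : Fintype.card F = 2) {n t : ℕ}
  (D : Fin t → Submodule F (Fin n → F)) (hI : DirectSum.IsInternal D)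

include hq in
lemma eq_zero_or_one (c : F) : c = 0 ∨ c = 1 := by
  classical
  by_contra h
  push Not at h
  have h3 : ({0, 1, c} : Finset F).card ≤ Fintype.card F := Finset.card_le_univ _
  rw [hq, Finset.card_insert_of_notMem, Finset.card_insert_of_notMem, Finset.card_singleton] at h3
  · omega
  · simp [Ne.symm h.2]
  · simp [Ne.symm h.1]

include hq in
lemma one_add_one : (1 : F) + 1 = 0 := by
  rcases eq_zero_or_one hq ((1 : F) + 1) with h | h
  · exact h
  · exfalso
    have : (1 : F) = 0 := by linear_combination h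
    exact one_ne_zero this

include hq in
lemma add_self_vec (x : Fin n → F) : x + x = 0 := by
  rw [← two_smul F x]
  have : (2 : F) = 0 := by rw [← one_add_one_eq_two]; exact one_add_one hq
  rw [this, zero_smul]

include hq in
lemma N_add_e {W : Submodule F (Fin n → F)} (hW : Module.finrank F W = 2) {e e' : Fin n → F}
    (he : e ∈ W) (he' : e' ∈ W) (he0 : e ≠ 0) (hne : ∀ c : F, e' ≠ c • e)
    (φ : (Fin n → F) →ₗ[F] F) (hφ' : φ e' = 1) (hφ : φ e = 0) {x : Fin n → F} (hx : x ∈ W) :
    N (x + e) = N x + 1 + φ x := by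
  have hli : ∀ s t : F, s • e + t • e' = 0 → s = 0 ∧ t = 0 := by
    intro s t hst
    have ht : t = 0 := by
      by_contra ht
      apply hne (-(t⁻¹ * s))
      have h1 : t • e' = -(s • e) := by
        rw [eq_neg_iff_add_eq_zero, add_comm]; exact hst
      calc e' = t⁻¹ • (t • e') := by rw [smul_smul, inv_mul_cancel₀ ht, one_smul]
        _ = _ := by rw [h1, smul_neg, smul_smul, neg_smul]
    rw [ht, zero_smul, add_zero] at hst
    rcases smul_eq_zero.mp hst with h | h
    · exact ⟨h, ht⟩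
    · exact absurd h he0
  obtain ⟨α, β, hx'⟩ := mem_span_pair_of_finrank_two hW he he' hli x hx
  have hφx : φ x = β := by
    rw [hx', map_add, map_smul, map_smul, hφ, hφ', smul_eq_mul, smul_eq_mul, mul_zero, mul_one,
      zero_add]
  have h2 := one_add_one hq
  rcases eq_zero_or_one hq β with hβ | hβ
  · rw [hφx, hβ, add_zero]
    rw [hβ, zero_smul, add_zero] at hx'
    rcases eq_zero_or_one hq α with hα | hα
    · rw [hx', hα, zero_smul, zero_add, N_of_ne he0, N_zero, zero_add]
    · rw [hx', hα, one_smul, add_self_vec hq, N_zero, N_of_ne he0, h2]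
  · rw [hφx, hβ]
    have hx0 : x ≠ 0 := by
      intro h
      rw [h, map_zero, hβ] at hφx
      exact zero_ne_one hφx
    have hxe : x + e ≠ 0 := by
      intro h
      have h3 : φ (x + e) = 0 := by rw [h, map_zero]
      rw [map_add, hφx, hφ, hβ, add_zero] at h3
      exact one_ne_zero h3
    rw [N_of_ne hx0, N_of_ne hxe]
    linear_combination (-1 : F) * h2

include hq in
theorem m2_partA (hfin : ∀ i, Module.finrank F (D i) = 2) (ht : 3 ≤ t) :
    ∃ g : GL (Fin n) F, g ∈ Knu D hI ∧ g ∈ Geo.specialLinear (Fin n) F ∧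
      g ∉ Geo.decompositionStabilizer D := by
  classical
  obtain ⟨i1, i2, i3, h12, h13, h23⟩ : ∃ i1 i2 i3 : Fin t, i1 ≠ i2 ∧ i1 ≠ i3 ∧ i2 ≠ i3 :=
    ⟨⟨0, by omega⟩, ⟨1, by omega⟩, ⟨2, by omega⟩, by simp [Fin.ext_iff], by simp [Fin.ext_iff],
      by simp [Fin.ext_iff]⟩
  have hex : ∀ i, ∃ e e' : Fin n → F, e ∈ D i ∧ e' ∈ D i ∧ e ≠ 0 ∧ (∀ c : F, e' ≠ c • e) := by
    intro i
    have hne : D i ≠ ⊥ := by
      intro hb
      have := hfin i
      rw [hb, finrank_bot] at this
      omega
    obtain ⟨e, he, he0⟩ := Submodule.exists_mem_ne_zero_of_ne_bot hne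
    obtain ⟨e', he', hne'⟩ := exists_not_smul (hfin i) e
    exact ⟨e, e', he, he', he0, hne'⟩
  obtain ⟨e1, e1', he1, he1', h10, hn1⟩ := hex i1
  obtain ⟨e2, e2', he2, he2', h20, hn2⟩ := hex i2
  obtain ⟨e3, e3', he3, he3', h30, hn3⟩ := hex i3
  have hdual : ∀ (e e' : Fin n → F), (∀ c : F, e' ≠ c • e) →
      ∃ φ : (Fin n → F) →ₗ[F] F, φ e' = 1 ∧ φ e = 0 := by
    intro e e' hne
    obtain ⟨φ, h1, h2⟩ := exists_dual (Submodule.span F {e}) e' (by
      intro h
      obtain ⟨c, hc⟩ := Submodule.mem_span_singleton.mp h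
      exact hne c hc.symm)
    exact ⟨φ, h1, h2 e (Submodule.mem_span_singleton_self e)⟩
  obtain ⟨φ1, hφ1', hφ1⟩ := hdual e1 e1' hn1
  obtain ⟨φ2, hφ2', hφ2⟩ := hdual e2 e2' hn2
  obtain ⟨φ3, hφ3', hφ3⟩ := hdual e3 e3' hn3
  set β : (Fin n → F) →ₗ[F] F :=
    φ1 ∘ₗ compL D hI i1 + φ2 ∘ₗ compL D hI i2 + φ3 ∘ₗ compL D hI i3 with hβ
  set a := e1 + e2 + e3 with ha
  have hcompa : ∀ i, comp D hI a i = (if i = i1 then e1 else 0) + (if i = i2 then e2 else 0) +
      (if i = i3 then e3 else 0) := by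
    intro i
    rw [ha, comp_add, comp_add, comp_of_mem D hI he1, comp_of_mem D hI he2, comp_of_mem D hI he3]
  have hβapply : ∀ v, β v = φ1 (comp D hI v i1) + φ2 (comp D hI v i2) + φ3 (comp D hI v i3) :=
    fun v => rfl
  have hβa : β a = 0 := by
    rw [hβapply, hcompa, hcompa, hcompa]
    simp [h12, h13, h23, Ne.symm h12, Ne.symm h13, Ne.symm h23, hφ1, hφ2, hφ3]
  have h2 := one_add_one hq
  obtain ⟨g, hg, hdet⟩ := exists_rank_one β a (by rw [hβa, add_zero]; exact one_ne_zero)
  refine ⟨g, ?_, mem_SL_of_det g (by rw [hdet, hβa, add_zero]), ?_⟩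
  · intro v
    rw [hg]
    rcases eq_zero_or_one hq (β v) with hb | hb
    · rw [hb, zero_smul, add_zero]
    · rw [hb, one_smul]
      unfold nu
      have hterm : ∀ i ∈ Finset.univ, N (comp D hI (v + a) i) = N (comp D hI v i) +
          ((if i = i1 then 1 + φ1 (comp D hI v i) else 0) +
           (if i = i2 then 1 + φ2 (comp D hI v i) else 0) +
           (if i = i3 then 1 + φ3 (comp D hI v i) else 0)) := by
        intro i _
        rw [comp_add, hcompa]
        by_cases hi1 : i = i1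
        · rw [hi1]
          simp only [if_pos rfl, if_true, if_neg h12, if_neg h13, add_zero]
          rw [N_add_e hq (hfin i1) he1 he1' h10 hn1 φ1 hφ1' hφ1 (comp_mem D hI v i1), add_assoc]
        · by_cases hi2 : i = i2
          · rw [hi2]
            simp only [if_pos rfl, if_true, if_neg (Ne.symm h12), if_neg h23, add_zero, zero_add]
            rw [N_add_e hq (hfin i2) he2 he2' h20 hn2 φ2 hφ2' hφ2 (comp_mem D hI v i2), add_assoc]
          · by_cases hi3 : i = i3
            · rw [hi3]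
              simp only [if_pos rfl, if_true, if_neg (Ne.symm h13), if_neg (Ne.symm h23), add_zero, zero_add]
              rw [N_add_e hq (hfin i3) he3 he3' h30 hn3 φ3 hφ3' hφ3 (comp_mem D hI v i3),
                add_assoc]
            · simp only [if_neg hi1, if_neg hi2, if_neg hi3, add_zero]
      rw [Finset.sum_congr rfl hterm, Finset.sum_add_distrib, Finset.sum_add_distrib,
        Finset.sum_add_distrib, Finset.sum_ite_eq', Finset.sum_ite_eq', Finset.sum_ite_eq']
      simp only [Finset.mem_univ, if_true]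
      have hb' := hb
      rw [hβapply] at hb'
      linear_combination hb' + 2 * h2
  · rintro ⟨σ, hσ⟩
    have hβe : β e1' = 1 := by
      rw [hβapply, comp_of_mem D hI he1', comp_of_mem D hI he1', comp_of_mem D hI he1',
        if_pos rfl, if_neg (Ne.symm h12), if_neg (Ne.symm h13), map_zero, map_zero, hφ1',
        add_zero, add_zero]
    have hmem : e1' + a ∈ D (σ i1) := by
      have h3 : (g : Matrix (Fin n) (Fin n) F) *ᵥ e1' = e1' + a := by
        rw [hg, hβe, one_smul]
      rw [← h3, ← hσ i1]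
      exact ⟨e1', he1', by rw [Matrix.toLin'_apply]⟩
    have hc2 : comp D hI (e1' + a) i2 = e2 := by
      rw [comp_add, hcompa, comp_of_mem D hI he1']
      simp [h12, h23, Ne.symm h12]
    have hc3 : comp D hI (e1' + a) i3 = e3 := by
      rw [comp_add, hcompa, comp_of_mem D hI he1']
      simp [h13, h23, Ne.symm h13, Ne.symm h23]
    rw [comp_of_mem D hI hmem] at hc2 hc3
    by_cases hj : i2 = σ i1
    · have : i3 ≠ σ i1 := fun h3 => h23 (hj.trans h3.symm)
      rw [if_neg this] at hc3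
      exact h30 hc3.symm
    · rw [if_neg hj] at hc2
      exact h20 hc2.symm

end M2

section Final
variable {F : Type*} [Field F] [Fintype F]

theorem main (n : ℕ) (hn : 13 ≤ n) {t : ℕ} (m : ℕ) (D : Fin t → Submodule F (Fin n → F))
    (hD : Geo.IsMDecomposition m D)
    (h : (m = 1 ∧ Fintype.card F ≤ 4) ∨ (m = 2 ∧ Fintype.card F = 2)) :
    ∃ K : Subgroup (Matrix.GeneralLinearGroup (Fin n) F),
      Geo.decompositionStabilizer D ⊓ Geo.specialLinear (Fin n) F < K ∧
        K < Geo.specialLinear (Fin n) F := by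
  classical
  have hI : DirectSum.IsInternal D :=
    DirectSum.isInternal_submodule_of_iSupIndep_of_iSup_eq_top hD.indep hD.iSup_eq_top
  have hcount : t * m = n := by
    have h1 := (Φ D hI).finrank_eq
    rw [Module.finrank_directSum] at h1
    simp only [hD.finrank_eq, Finset.sum_const, Finset.card_univ, Fintype.card_fin,
      smul_eq_mul, Module.finrank_fintype_fun_eq_card] at h1
    exact h1
  have hex : ∀ i, ∃ e ∈ D i, e ≠ 0 := by
    intro i
    apply Submodule.exists_mem_ne_zero_of_ne_bot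
    intro hb
    have h1 := hD.finrank_eq i
    rw [hb, finrank_bot] at h1
    have h2 := hD.pos
    omega
  apply finish D hI
  · rcases h with ⟨rfl, hq⟩ | ⟨rfl, hq⟩
    · have ht : 5 ≤ t := by omega
      choose e he he0 using hex
      have hsp : ∀ i, ∀ x ∈ D i, ∃ c : F, x = c • e i := fun i x hx =>
        mem_smul_of_finrank_one (hD.finrank_eq i) (he i) (he0 i) x hx
      have hφ : ∀ i, ∃ φ : (Fin n → F) →ₗ[F] F, φ (e i) = 1 := fun i => by
        obtain ⟨φ, h1, -⟩ := exists_dual ⊥ (e i) (by simpa using he0 i)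
        exact ⟨φ, h1⟩
      choose φ hφ using hφ
      have h1 := Fintype.one_lt_card (α := F)
      have hcard : Fintype.card F = 2 ∨ Fintype.card F = 3 ∨ Fintype.card F = 4 := by omega
      exact m1_partA D hI e he he0 hsp φ hφ hcard ht
    · have ht : 3 ≤ t := by omega
      exact m2_partA hq D hI hD.finrank_eq ht
  · have ht : 2 ≤ t := hD.two_le
    obtain ⟨e1, he1, h10⟩ := hex ⟨0, by omega⟩
    obtain ⟨e2, he2, h20⟩ := hex ⟨1, by omega⟩
    exact partB D hI (by intro h; simp [Fin.ext_iff] at h) he1 he2 h10 h20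

end Final

end S5635aux

end Aux

/-- For a finite field F with q elements and n ≥ 13, let D be a decomposition of F^n into t ≥ 2 independent subspaces of equal dimension m spanning F^n, where m = 1 and q ≤ 4, or m = 2 and q = 2. Then the elements of SL_n(F) permuting the members of D form a subgroup that is not maximal: some subgroup lies strictly between it and SL_n(F). -/
theorem result {F : Type*} [Field F] [Fintype F] (n : ℕ) (hn : 13 ≤ n) {t : ℕ} (m : ℕ) (D : Fin t → Submodule F (Fin n → F)) (hD : Cfsg.Geo.IsMDecomposition m D) (h : (m = 1 ∧ Fintype.card F ≤ 4) ∨ (m = 2 ∧ Fintype.card F = 2)) : ∃ K : Subgroup (Matrix.GeneralLinearGroup (Fin n) F), Cfsg.Geo.decompositionStabilizer D ⊓ Cfsg.Geo.specialLinear (Fin n) F < K ∧ K < Cfsg.Geo.specialLinear (Fin n) F := by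
  exact S5635aux.main n hn m D hD h

end Cfsg.Agent.S5635
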