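import Cfsg.Statements.S5638
import Mathlib

set_option autoImplicit false
open Cfsg

namespace Cfsg.Agent.S5638

section Aux
set_option linter.unusedSectionVars false
set_option linter.unusedVariables false
set_option linter.unusedSimpArgs false
namespace S5638aux
open Cfsg Matrix
open scoped Kronecker

section Two
variable {F : Type*} [Field F] [Fintype F] (hq : Fintype.card F = 2)

include hq in
lemma eq_zero_or_one (c : F) : c = 0 ∨ c = 1 := by
  classical
  by_contra h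
  push Not at h
  have h3 : ({0, 1, c} : Finset F).card ≤ Fintype.card F := Finset.card_le_univ _
  rw [hq, Finset.card_insert_of_notMem, Finset.card_insert_of_notMem, Finset.card_singleton] at h3
  · omega
  · simp [Ne.symm h.2]
  · simp [Ne.symm h.1]

include hq in
lemma one_add_one : (1 : F) + 1 = 0 := by
  rcases eq_zero_or_one hq ((1 : F) + 1) with h | h
  · exact h
  · exfalso
    have : (1 : F) = 0 := by linear_combination h
    exact one_ne_zero this

include hq in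
lemma sl_eq_top {ι : Type} [Fintype ι] [DecidableEq ι] : Geo.specialLinear ι F = ⊤ := by
  rw [eq_top_iff]
  intro g _
  change g ∈ (Matrix.GeneralLinearGroup.det : GL ι F →* Fˣ).ker
  rw [MonoidHom.mem_ker]
  apply Units.ext
  rcases eq_zero_or_one hq ((Matrix.GeneralLinearGroup.det g : Fˣ) : F) with h | h
  · exact absurd h (Units.ne_zero _)
  · exact h

end Two

section Kron
variable {F : Type*} [Field F] {n₂ : ℕ}

/-- kronecker product of units -/
def kron (a : GL (Fin 2) F) (b : GL (Fin n₂) F) : GL (Fin 2 × Fin n₂) F :=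
  ⟨(a : Matrix (Fin 2) (Fin 2) F) ⊗ₖ (b : Matrix (Fin n₂) (Fin n₂) F),
   ((a⁻¹ : GL (Fin 2) F) : Matrix (Fin 2) (Fin 2) F) ⊗ₖ
     ((b⁻¹ : GL (Fin n₂) F) : Matrix (Fin n₂) (Fin n₂) F),
   by rw [← Matrix.mul_kronecker_mul, ← Units.val_mul, ← Units.val_mul, mul_inv_cancel,
     mul_inv_cancel, Units.val_one, Units.val_one, Matrix.one_kronecker_one],
   by rw [← Matrix.mul_kronecker_mul, ← Units.val_mul, ← Units.val_mul, inv_mul_cancel,
     inv_mul_cancel, Units.val_one, Units.val_one, Matrix.one_kronecker_one]⟩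

lemma kron_val (a : GL (Fin 2) F) (b : GL (Fin n₂) F) :
    ((kron a b : GL (Fin 2 × Fin n₂) F) : Matrix (Fin 2 × Fin n₂) (Fin 2 × Fin n₂) F) =
      (a : Matrix (Fin 2) (Fin 2) F) ⊗ₖ (b : Matrix (Fin n₂) (Fin n₂) F) := rfl

lemma kron_mul (a c : GL (Fin 2) F) (b d : GL (Fin n₂) F) :
    kron a b * kron c d = kron (a * c) (b * d) := by
  apply Units.ext
  rw [Units.val_mul, kron_val, kron_val, kron_val, Units.val_mul, Units.val_mul,
    Matrix.mul_kronecker_mul]

lemma kron_one : kron (1 : GL (Fin 2) F) (1 : GL (Fin n₂) F) = 1 := by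
  apply Units.ext
  rw [kron_val, Units.val_one, Units.val_one, Units.val_one, Matrix.one_kronecker_one]

lemma kron_inv (a : GL (Fin 2) F) (b : GL (Fin n₂) F) : (kron a b)⁻¹ = kron a⁻¹ b⁻¹ := by
  rw [inv_eq_iff_mul_eq_one, kron_mul, mul_inv_cancel, mul_inv_cancel, kron_one]

/-- `a ↦ a ⊗ 1` -/
def psi : GL (Fin 2) F →* GL (Fin 2 × Fin n₂) F where
  toFun a := kron a 1
  map_one' := kron_one
  map_mul' a c := by rw [kron_mul, mul_one]

lemma psi_apply (a : GL (Fin 2) F) : (psi a : GL (Fin 2 × Fin n₂) F) = kron a 1 := rfl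

lemma mem_T0 (g : GL (Fin 2 × Fin n₂) F) :
    g ∈ Geo.kroneckerSubgroup 2 n₂ F ↔ ∃ a b, g = kron a b := by
  constructor
  · rintro ⟨a, b, h⟩
    exact ⟨a, b, Units.ext h⟩
  · rintro ⟨a, b, rfl⟩
    exact ⟨a, b, rfl⟩

/-- the element of order three -/
def om : GL (Fin 2) F :=
  ⟨!![0, 1; 1, 1], !![-1, 1; 1, 0], by simp [Matrix.mul_fin_two, Matrix.one_fin_two],
    by simp [Matrix.mul_fin_two, Matrix.one_fin_two]⟩

lemma om_val : ((om : GL (Fin 2) F) : Matrix (Fin 2) (Fin 2) F) = !![0, 1; 1, 1] := rfl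

lemma om_ne_one : (om : GL (Fin 2) F) ≠ 1 := by
  intro h
  have := congrArg (fun g : GL (Fin 2) F => (g : Matrix (Fin 2) (Fin 2) F) 0 0) h
  simp [om_val] at this

end Kron

section Order
variable {F : Type*} [Field F] [Fintype F] (hq : Fintype.card F = 2) {n₂ : ℕ}
include hq

lemma om_cube : (om : GL (Fin 2) F) ^ 3 = 1 := by
  have h2 : (1 : F) + 1 = 0 := one_add_one hq
  apply Units.ext
  rw [Units.val_pow_eq_pow_val, om_val, pow_succ, pow_two, Matrix.mul_fin_two, Matrix.mul_fin_two,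
    Units.val_one, Matrix.one_fin_two]
  simp [h2]

lemma orderOf_om : orderOf (om : GL (Fin 2) F) = 3 :=
  orderOf_eq_prime (om_cube hq) om_ne_one

lemma card_GL2 : Nat.card (GL (Fin 2) F) = 6 := by
  classical
  rw [Matrix.card_GL_field, Fin.prod_univ_two, hq]
  norm_num

lemma normal_zpowers_om : (Subgroup.zpowers (om : GL (Fin 2) F)).Normal := by
  apply Subgroup.normal_of_index_eq_two
  have h1 := Subgroup.card_mul_index (Subgroup.zpowers (om : GL (Fin 2) F))
  rw [Nat.card_zpowers, orderOf_om hq, card_GL2 hq] at h1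
  omega

end Order

section Main
variable {F : Type*} [Field F] [Fintype F] (hq : Fintype.card F = 2) {n₂ : ℕ}

/-- `z = ω ⊗ 1` -/
def zz : GL (Fin 2 × Fin n₂) F := psi om

/-- the overgroup: normalizer of `⟨z⟩` -/
def K0 : Subgroup (GL (Fin 2 × Fin n₂) F) :=
  Subgroup.normalizer ((Subgroup.zpowers (zz : GL (Fin 2 × Fin n₂) F)) :
    Set (GL (Fin 2 × Fin n₂) F))

omit [Fintype F] in
lemma zpowers_zz : Subgroup.zpowers (zz : GL (Fin 2 × Fin n₂) F) =
    (Subgroup.zpowers (om : GL (Fin 2) F)).map psi :=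
  (MonoidHom.map_zpowers psi om).symm

omit [Fintype F] in
lemma zz_val : ((zz : GL (Fin 2 × Fin n₂) F) : Matrix (Fin 2 × Fin n₂) (Fin 2 × Fin n₂) F) =
    (!![0, 1; 1, 1] : Matrix (Fin 2) (Fin 2) F) ⊗ₖ (1 : Matrix (Fin n₂) (Fin n₂) F) := rfl

include hq in
lemma conj_mem (a : GL (Fin 2) F) (b : GL (Fin n₂) F) {h : GL (Fin 2 × Fin n₂) F}
    (hh : h ∈ Subgroup.zpowers (zz : GL (Fin 2 × Fin n₂) F)) :
    kron a b * h * (kron a b)⁻¹ ∈ Subgroup.zpowers (zz : GL (Fin 2 × Fin n₂) F) := by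
  rw [zpowers_zz] at hh ⊢
  obtain ⟨w, hw, rfl⟩ := hh
  refine ⟨a * w * a⁻¹, (normal_zpowers_om hq).conj_mem w hw a, ?_⟩
  rw [psi_apply, psi_apply, kron_inv, kron_mul, kron_mul, mul_one, mul_inv_cancel]

include hq in
lemma T0_le_K0 : Geo.kroneckerSubgroup 2 n₂ F ≤ K0 := by
  intro g hg
  obtain ⟨a, b, rfl⟩ := (mem_T0 g).mp hg
  rw [K0, Subgroup.mem_normalizer_iff]
  intro h
  constructor
  · exact conj_mem hq a b
  · intro hh
    have := conj_mem hq a⁻¹ b⁻¹ hh
    rw [← kron_inv] at this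
    simpa [mul_assoc] using this

include hq in
lemma zz_cube : (zz : GL (Fin 2 × Fin n₂) F) ^ 3 = 1 := by
  rw [zz, ← map_pow, om_cube hq, map_one]

include hq in
lemma mem_zpowers_zz {h : GL (Fin 2 × Fin n₂) F}
    (hh : h ∈ Subgroup.zpowers (zz : GL (Fin 2 × Fin n₂) F)) :
    h = 1 ∨ h = zz ∨ h = zz ^ 2 := by
  obtain ⟨k, rfl⟩ := Subgroup.mem_zpowers_iff.mp hh
  have h3 : (zz : GL (Fin 2 × Fin n₂) F) ^ (3 : ℤ) = 1 := by
    have := zz_cube (n₂ := n₂) hq
    exact_mod_cast this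
  have hk : (zz : GL (Fin 2 × Fin n₂) F) ^ k = zz ^ (k % 3) := by
    conv_lhs => rw [← Int.mul_ediv_add_emod k 3]
    rw [_root_.zpow_add, _root_.zpow_mul, h3, _root_.one_zpow, one_mul]
  have h0 := Int.emod_nonneg k (by norm_num : (3 : ℤ) ≠ 0)
  have h1 := Int.emod_lt_of_pos k (by norm_num : (0 : ℤ) < 3)
  rw [hk]
  interval_cases (k % 3)
  · left; simp
  · right; left; simp
  · right; right; rfl

end Main

section Elements
variable {F : Type*} [Field F] [Fintype F] (hq : Fintype.card F = 2) {n₂ : ℕ}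

include hq in
lemma add_self_mat {m : Type*} (X : Matrix m m F) : X + X = 0 := by
  ext i j
  simp only [Matrix.add_apply, Matrix.zero_apply]
  have := one_add_one hq
  linear_combination (X i j) * this

include hq in
lemma one_add_sq {m : Type*} [Fintype m] [DecidableEq m] (X : Matrix m m F) (hX : X * X = 0) :
    (1 + X) * (1 + X) = 1 := by
  rw [add_mul, mul_add, mul_add, one_mul, mul_one, one_mul, hX, add_zero, add_assoc,
    add_self_mat hq, add_zero]

/-- matrix of `g₁` -/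
def g1M (k0 k1 : Fin n₂) : Matrix (Fin 2 × Fin n₂) (Fin 2 × Fin n₂) F :=
  1 + (!![0, 1; 1, 1] : Matrix (Fin 2) (Fin 2) F) ⊗ₖ (Matrix.single k0 k1 (1 : F))

include hq in
lemma g1M_sq (k0 k1 : Fin n₂) (h01 : k0 ≠ k1) : (g1M k0 k1 : Matrix _ _ F) * g1M k0 k1 = 1 := by
  unfold g1M
  apply one_add_sq hq
  rw [← Matrix.mul_kronecker_mul, Matrix.single_mul_single_of_ne _ _ _ _ (Ne.symm h01)]
  simp

/-- `g₁` -/
def g1 (k0 k1 : Fin n₂) (h01 : k0 ≠ k1) : GL (Fin 2 × Fin n₂) F :=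
  ⟨g1M k0 k1, g1M k0 k1, g1M_sq hq k0 k1 h01, g1M_sq hq k0 k1 h01⟩

lemma g1_comm (k0 k1 : Fin n₂) (h01 : k0 ≠ k1) :
    Commute (g1 hq k0 k1 h01) (zz : GL (Fin 2 × Fin n₂) F) := by
  apply Units.ext
  change g1M k0 k1 * _ = _ * g1M k0 k1
  rw [zz_val]
  unfold g1M
  rw [add_mul, mul_add, one_mul, mul_one, ← Matrix.mul_kronecker_mul, ← Matrix.mul_kronecker_mul,
    one_mul, mul_one]

lemma g1_mem_K0 (k0 k1 : Fin n₂) (h01 : k0 ≠ k1) : g1 hq k0 k1 h01 ∈ (K0 : Subgroup (GL (Fin 2 × Fin n₂) F)) := by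
  rw [K0, Subgroup.mem_normalizer_iff]
  intro h
  have key : ∀ h ∈ Subgroup.zpowers (zz : GL (Fin 2 × Fin n₂) F),
      g1 hq k0 k1 h01 * h * (g1 hq k0 k1 h01)⁻¹ = h := by
    intro h hh
    obtain ⟨k, rfl⟩ := Subgroup.mem_zpowers_iff.mp hh
    have := (g1_comm hq k0 k1 h01).zpow_right k
    rw [this.eq, mul_inv_cancel_right]
  constructor
  · intro hh
    rw [key h hh]
    exact hh
  · intro hh
    have := key _ hh
    have h2 : g1 hq k0 k1 h01 * h * (g1 hq k0 k1 h01)⁻¹ = h := by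
      have h3 := congrArg (fun y => (g1 hq k0 k1 h01)⁻¹ * y * g1 hq k0 k1 h01) this
      simp only [mul_assoc, inv_mul_cancel_left, inv_mul_cancel, mul_one] at h3
      simpa [mul_assoc] using h3
    rw [← h2]
    exact hh

lemma g1_notMem_T0 (k0 k1 : Fin n₂) (h01 : k0 ≠ k1) :
    g1 hq k0 k1 h01 ∉ Geo.kroneckerSubgroup 2 n₂ F := by
  rintro ⟨a, b, h⟩
  change g1M k0 k1 = _ at h
  have e1 := congrFun (congrFun h (0, k0)) (0, k0)
  have e2 := congrFun (congrFun h (0, k0)) (1, k0)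
  have e3 := congrFun (congrFun h (0, k0)) (1, k1)
  simp [g1M, Matrix.single_apply, h01, Ne.symm h01] at e1 e2 e3
  rcases e2 with e2 | e2
  · rw [e2, zero_mul] at e3
    exact one_ne_zero e3
  · rw [e2, mul_zero] at e1
    exact one_ne_zero e1

/-- matrix of `g₂` -/
def g2M (k0 k1 : Fin n₂) : Matrix (Fin 2 × Fin n₂) (Fin 2 × Fin n₂) F :=
  1 + Matrix.single ((0 : Fin 2), k1) ((0 : Fin 2), k0) (1 : F)

include hq in
lemma g2M_sq (k0 k1 : Fin n₂) (h01 : k0 ≠ k1) : (g2M k0 k1 : Matrix _ _ F) * g2M k0 k1 = 1 := by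
  unfold g2M
  apply one_add_sq hq
  rw [Matrix.single_mul_single_of_ne]
  intro h
  exact h01 (Prod.ext_iff.mp h).2

/-- `g₂` -/
def g2 (k0 k1 : Fin n₂) (h01 : k0 ≠ k1) : GL (Fin 2 × Fin n₂) F :=
  ⟨g2M k0 k1, g2M k0 k1, g2M_sq hq k0 k1 h01, g2M_sq hq k0 k1 h01⟩

lemma g2_notMem_K0 (k0 k1 : Fin n₂) (h01 : k0 ≠ k1) :
    g2 hq k0 k1 h01 ∉ (K0 : Subgroup (GL (Fin 2 × Fin n₂) F)) := by
  intro hmem
  rw [K0, Subgroup.mem_normalizer_iff] at hmem
  have h1 := (hmem zz).mp (Subgroup.mem_zpowers _)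
  have h2 : (1 : F) + 1 = 0 := one_add_one hq
  rcases mem_zpowers_zz hq h1 with h | h | h
  · -- zz = 1
    have h3 : (zz : GL (Fin 2 × Fin n₂) F) = 1 := by
      have := congrArg (fun y => (g2 hq k0 k1 h01)⁻¹ * y * g2 hq k0 k1 h01) h
      simpa [mul_assoc] using this
    have h4 := congrArg (fun g : GL (Fin 2 × Fin n₂) F =>
      (g : Matrix (Fin 2 × Fin n₂) (Fin 2 × Fin n₂) F) (0, k0) (0, k0)) h3
    simp [zz_val] at h4
  · rw [mul_inv_eq_iff_eq_mul] at h
    have hM : g2M k0 k1 * ((!![0, 1; 1, 1] : Matrix (Fin 2) (Fin 2) F) ⊗ₖ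
        (1 : Matrix (Fin n₂) (Fin n₂) F)) = ((!![0, 1; 1, 1] : Matrix (Fin 2) (Fin 2) F) ⊗ₖ
        (1 : Matrix (Fin n₂) (Fin n₂) F)) * g2M k0 k1 := congrArg Units.val h
    unfold g2M at hM
    rw [add_mul, mul_add, one_mul, mul_one] at hM
    have h3 := congrFun (congrFun hM (1, k1)) (0, k0)
    rw [Matrix.add_apply, Matrix.add_apply,
      Matrix.single_mul_apply_of_ne (h := by simp), Matrix.mul_single_apply_same] at h3
    simp [Matrix.one_apply, h01, Ne.symm h01] at h3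
  · rw [mul_inv_eq_iff_eq_mul] at h
    have hM : g2M k0 k1 * ((!![0, 1; 1, 1] : Matrix (Fin 2) (Fin 2) F) ⊗ₖ
        (1 : Matrix (Fin n₂) (Fin n₂) F)) = (((!![0, 1; 1, 1] : Matrix (Fin 2) (Fin 2) F) *
        (!![0, 1; 1, 1] : Matrix (Fin 2) (Fin 2) F)) ⊗ₖ
        (1 : Matrix (Fin n₂) (Fin n₂) F)) * g2M k0 k1 := by
      have := congrArg Units.val h
      rw [Units.val_mul, Units.val_mul, Units.val_pow_eq_pow_val, zz_val, pow_two,
        ← Matrix.mul_kronecker_mul, mul_one] at this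
      exact this
    unfold g2M at hM
    rw [add_mul, mul_add, one_mul, mul_one] at hM
    have h3 := congrFun (congrFun hM (1, k1)) (0, k0)
    rw [Matrix.add_apply, Matrix.add_apply,
      Matrix.single_mul_apply_of_ne (h := by simp), Matrix.mul_single_apply_same] at h3
    simp [Matrix.one_apply, h01, Ne.symm h01, Matrix.mul_fin_two] at h3

end Elements

section Final
variable {F : Type*} [Field F] [Fintype F] (hq : Fintype.card F = 2)

include hq in
theorem main (n : ℕ) (hn : 13 ≤ n) (n₂ : ℕ) (e : Fin n ≃ Fin 2 × Fin n₂)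
    (P : Matrix.GeneralLinearGroup (Fin n) F) :
    ∃ K : Subgroup (Matrix.GeneralLinearGroup (Fin n) F),
      Geo.tensorProductSubgroup 2 n₂ e P ⊓ Geo.specialLinear (Fin n) F < K ∧
        K < Geo.specialLinear (Fin n) F := by
  have hcard : n = 2 * n₂ := by
    have := Fintype.card_congr e
    simpa using this
  have hn2 : 7 ≤ n₂ := by omega
  set k0 : Fin n₂ := ⟨0, by omega⟩ with hk0
  set k1 : Fin n₂ := ⟨1, by omega⟩ with hk1
  have h01 : k0 ≠ k1 := by rw [hk0, hk1]; intro h; simp [Fin.ext_iff] at h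
  rw [sl_eq_top hq, inf_top_eq]
  have hr : Function.Injective (Geo.glReindex (F := F) e.symm).toMonoidHom :=
    (Geo.glReindex e.symm).injective
  have hc : Function.Injective (MulAut.conj P).toMonoidHom := (MulAut.conj P).injective
  have hlt : Geo.kroneckerSubgroup 2 n₂ F < K0 := by
    rw [lt_iff_le_and_ne]
    refine ⟨T0_le_K0 hq, fun h => ?_⟩
    apply g1_notMem_T0 hq k0 k1 h01
    rw [h]
    exact g1_mem_K0 hq k0 k1 h01
  refine ⟨((K0 : Subgroup (GL (Fin 2 × Fin n₂) F)).map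
    (Geo.glReindex (F := F) e.symm).toMonoidHom).map (MulAut.conj P).toMonoidHom, ?_, ?_⟩
  · unfold Geo.tensorProductSubgroup
    rw [Subgroup.map_lt_map_iff_of_injective hc, Subgroup.map_lt_map_iff_of_injective hr]
    exact hlt
  · rw [lt_top_iff_ne_top]
    intro h
    apply g2_notMem_K0 hq k0 k1 h01
    have h1 : (MulAut.conj P).toMonoidHom ((Geo.glReindex (F := F) e.symm).toMonoidHom
        (g2 hq k0 k1 h01)) ∈ ((K0 : Subgroup (GL (Fin 2 × Fin n₂) F)).map
        (Geo.glReindex (F := F) e.symm).toMonoidHom).map (MulAut.conj P).toMonoidHom := by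
      rw [h]; trivial
    obtain ⟨y, ⟨x, hx, rfl⟩, hy⟩ := h1
    have := hr (hc hy)
    rwa [← this]

end Final

end S5638aux

end Aux

/-- Over the field with 2 elements, for n = 2 n₂ ≥ 13, the stabiliser in SL_n of a tensor decomposition with factors of dimensions 2 and n₂ (the conjugate by any P of the Kronecker-product subgroup transported along any bijection Fin n ≃ Fin 2 × Fin n₂, intersected with SL_n) is not a maximal subgroup: some subgroup lies strictly between it and SL_n. -/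
theorem result {F : Type*} [Field F] [Fintype F] (n : ℕ) (hn : 13 ≤ n) (hq : Fintype.card F = 2) (n₂ : ℕ) (e : Fin n ≃ Fin 2 × Fin n₂) (P : Matrix.GeneralLinearGroup (Fin n) F) : ∃ K : Subgroup (Matrix.GeneralLinearGroup (Fin n) F), Cfsg.Geo.tensorProductSubgroup 2 n₂ e P ⊓ Cfsg.Geo.specialLinear (Fin n) F < K ∧ K < Cfsg.Geo.specialLinear (Fin n) F := by
  exact S5638aux.main hq n hn n₂ e P

end Cfsg.Agent.S5638
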