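import Cfsg.Statements.S5641
import Cfsg.Agent.Lib.Helper8.TW.Main
import Cfsg.Agent.Lib.Helper8.TW.StageI
import Cfsg.Agent.Lib.Helper6.TWQMain
import Cfsg.Agent.Lib.Helper14.TWStageII
import Cfsg.Agent.Lib.Helper19.TWGrow

set_option autoImplicit false
open Cfsg

namespace Cfsg.Agent.S5641

/-- For a finite field F and n = m ^ t ≥ 13 with m ≥ 3 and t ≥ 2, the stabiliser in SL_n(F) of a tensor decomposition of F^n into t factors of dimension m (the conjugate by any P of the standard tensor-wreath subgroup transported along any bijection Fin n ≃ (Fin t → Fin m), intersected with SL_n(F)) is a maximal subgroup of SL_n(F). -/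
theorem result {F : Type*} [Field F] [Fintype F] (n : ℕ) (hn : 13 ≤ n) (m t : ℕ) (hm : 3 ≤ m) (ht : 2 ≤ t) (e : Fin n ≃ (Fin t → Fin m)) (P : Matrix.GeneralLinearGroup (Fin n) F) : Cfsg.Geo.IsMaximalIn (Cfsg.Geo.specialLinear (Fin n) F) (Cfsg.Geo.tensorWreathSubgroup m t e P ⊓ Cfsg.Geo.specialLinear (Fin n) F) := by
  -- the main theorem on the standard model `Idx t m → F`:
  -- Stage I (`NS X ⟹ X ≤ G`, with fusion control = block (Q')), Stage II (`¬ NS X ⟹` a transvection-like `J`),
  -- Stage III (growing to `SL`)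
  have hmain : Cfsg.Agent.Lib.Helper8.TW.MainT t m F :=
    Cfsg.Agent.Lib.Helper8.TW.mainT_of_stages m
      (fun t ht X hHX hNS =>
        Cfsg.Agent.Lib.Helper8.TW.StI.stageI_of_fc hm ht X hHX hNS
          (Cfsg.Agent.Lib.Helper6.TWQFinal.fc_of_ns hm ht X hHX hNS))
      (fun t ht hind X hHX hNS => Cfsg.Agent.Lib.Helper14.TWStageII.stageII hm ht hind X hHX hNS)
      (fun t X hHX J hJ hXT => Cfsg.Agent.Lib.Helper19.TWGrow.stageIII hm X hHX J hJ hXT)
      t (by omega)
  exact Cfsg.Agent.Lib.Helper8.TW.maximal_of_mainT n m t (by omega) ht e P hmain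

end Cfsg.Agent.S5641
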