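import Cfsg.Statements.S5643
import Mathlib
import Cfsg.Agent.Lib.Helper5.TMCalc
import Cfsg.Agent.Lib.Helper5.UForm

set_option autoImplicit false
open Cfsg

namespace Cfsg.Agent.S5643

section Aux
set_option linter.unusedSectionVars false
set_option linter.unusedVariables false
set_option linter.unusedSimpArgs false
namespace S5643aux
open Cfsg Matrix Cfsg.Agent.Lib.Helper5.SpMax Cfsg.Agent.Lib.Helper5.TMCalc
  Cfsg.Agent.Lib.Helper5.UForm

section
variable {F : Type*} [Field F] [Fintype F] {n : ℕ} {σ : F ≃+* F}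
  {f : (Fin n → F) → (Fin n → F) → F} (hf : Cfsg.Geo.IsUnitaryForm σ f)
include hf

abbrev HH (f : (Fin n → F) → (Fin n → F) → F) : Subgroup (GL (Fin n) F) :=
  Cfsg.Geo.similarityGroup f ⊓ Cfsg.Geo.specialLinear (Fin n) F

/-- unitary transvections -/
lemma U_TM {a : Fin n → F} (haa : f a a = 0) {c : F} (hc : σ c = -c) :
    TM (HH f) (c • uL hf a) a := by
  have h0 : (c • uL hf a) a = 0 := by
    rw [LinearMap.smul_apply, uL_apply, haa, smul_zero]
  obtain ⟨t, htSL, ht⟩ := exists_rank_one (c • uL hf a) a h0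
  refine ⟨h0, t, ⟨⟨1, fun u v => ?_⟩, htSL⟩, ht⟩
  rw [ht, ht, Units.val_one, one_mul]
  simp only [LinearMap.smul_apply, uL_apply, smul_eq_mul]
  rw [hf.add_left, u_add_right hf, u_add_right hf, hf.smul_left, hf.smul_left, u_smul_right hf,
    u_smul_right hf, haa, map_mul, hc, hf.herm a v]
  ring

/-- the basic commutator relation -/
lemma R1 {M : Subgroup (GL (Fin n) F)} (hHM : HH f ≤ M) {a w b : Fin n → F}
    (hw : TM M (uL hf w) a) (hbb : f b b = 0) (hba : f b a = 0) {c : F} (hc : σ c = -c) :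
    TM M (uL hf ((c * f w b) • b)) a := by
  have hc' : σ (-c) = -(-c) := by rw [map_neg, hc]
  have h1 : TM M ((-c) • uL hf b) b := TM_mono hHM (U_TM hf hbb hc')
  have h2 := TM_comm hw h1
    (by rw [LinearMap.smul_apply, uL_apply, u_symm_zero hf hba, smul_zero])
  refine TM_of_eq ?_ h2
  intro v
  rw [LinearMap.smul_apply, LinearMap.smul_apply, uL_apply, uL_apply, uL_apply, u_smul_right hf,
    map_mul, hc, ← hf.herm b w]
  simp only [smul_eq_mul]
  ring

lemma W_add {M : Subgroup (GL (Fin n) F)} {a w w' : Fin n → F} (h : TM M (uL hf w) a)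
    (h' : TM M (uL hf w') a) : TM M (uL hf (w + w')) a := by
  rw [uL_add]
  exact TM_add h h'

lemma W_prop {M : Subgroup (GL (Fin n) F)} (hHM : HH f ≤ M) {a b₁ b : Fin n → F}
    (h1 : ∀ l : F, TM M (uL hf (l • b₁)) a) (hbb : f b b = 0) (hba : f b a = 0)
    (hne : f b₁ b ≠ 0) (μ : F) : TM M (uL hf (μ • b)) a := by
  obtain ⟨c, hc0, hc⟩ := exists_skew hf.involutive hf.ne_refl
  have h := R1 hf hHM (h1 (μ / (c * f b₁ b))) hbb hba hc
  have h2 : c * f ((μ / (c * f b₁ b)) • b₁) b = μ := by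
    rw [hf.smul_left]
    field_simp
  rwa [h2] at h

/-- Step 2: one transvection with isotropic centre `a` and axis different from `a^⊥` gives all
transvections with centre `a` -/
lemma all_at {M : Subgroup (GL (Fin n) F)} (hn : 13 ≤ n) (hHM : HH f ≤ M) {a w₀ : Fin n → F}
    (ha0 : a ≠ 0) (haa : f a a = 0) (hw₀ : TM M (uL hf w₀) a)
    (hw₀n : w₀ ∉ Submodule.span F {a}) :
    ∀ s : (Fin n → F) →ₗ[F] F, s a = 0 → TM M s a := by
  obtain ⟨c₀, hc₀0, hc₀⟩ := exists_skew hf.involutive hf.ne_refl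
  have htop : Module.finrank F (⊤ : Submodule F (Fin n → F)) = n := by
    rw [finrank_top, Module.finrank_fin_fun]
  obtain ⟨a', -, ha'a', haa'⟩ := exists_partner hf (ND_top hf) Submodule.mem_top ha0 haa
  have ha'a : f a' a = 1 := by rw [hf.herm, haa', map_one]
  obtain ⟨U, hUdef⟩ : ∃ U : Submodule F (Fin n → F), U = ⊤ ⊓ pp hf a ⊓ pp hf a' := ⟨_, rfl⟩
  have hUND : ND f U := by
    rw [hUdef]
    exact ND_hyp hf (ND_top hf) Submodule.mem_top Submodule.mem_top haa ha'a' haa'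
  have hUdim : n ≤ Module.finrank F U + 2 := by
    have h1 := finrank_inf_pp hf ⊤ a
    have h2 := finrank_inf_pp hf (⊤ ⊓ pp hf a) a'
    rw [hUdef]
    omega
  have hUmem : ∀ x, x ∈ U ↔ f x a = 0 ∧ f x a' = 0 := by
    intro x
    rw [hUdef, Submodule.mem_inf, Submodule.mem_inf, mem_pp, mem_pp]
    simp
  have hw₀a : f w₀ a = 0 := u_symm_zero hf (by have := hw₀.1; rwa [uL_apply] at this)
  obtain ⟨u₀, hu₀def⟩ : ∃ u₀, u₀ = w₀ - f w₀ a' • a := ⟨_, rfl⟩
  have hu₀U : u₀ ∈ U := by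
    rw [hUmem, hu₀def]
    constructor
    · rw [u_sub_left hf, hf.smul_left, hw₀a, haa, mul_zero, sub_zero]
    · rw [u_sub_left hf, hf.smul_left, haa', mul_one, sub_self]
  have hu₀0 : u₀ ≠ 0 := by
    intro h0
    apply hw₀n
    rw [hu₀def, sub_eq_zero] at h0
    rw [h0]
    exact Submodule.smul_mem _ _ (Submodule.mem_span_singleton_self a)
  obtain ⟨b', hb'U, hb'b', hb'u⟩ := exists_iso_ne hf hUND (by omega) u₀ (hUND u₀ hu₀U hu₀0)
  have hb'a : f b' a = 0 := ((hUmem b').mp hb'U).1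
  have hw₀b' : f w₀ b' ≠ 0 := by
    have : f w₀ b' = f u₀ b' := by
      rw [hu₀def, u_sub_left hf, hf.smul_left, u_symm_zero hf hb'a, mul_zero, sub_zero]
    rw [this]
    exact u_symm_ne hf hb'u
  obtain ⟨b₁, hb₁def⟩ : ∃ b₁, b₁ = f w₀ b' • b' := ⟨_, rfl⟩
  have hb₁U : b₁ ∈ U := by rw [hb₁def]; exact U.smul_mem _ hb'U
  have hb₁b₁ : f b₁ b₁ = 0 := by
    rw [hb₁def, hf.smul_left, u_smul_right hf, hb'b', mul_zero, mul_zero]
  have hb₁0 : b₁ ≠ 0 := by
    rw [hb₁def]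
    exact smul_ne_zero hw₀b' (fun h => hb'u (by rw [h, u_zero_left hf]))
  have hb₁a : f b₁ a = 0 := ((hUmem b₁).mp hb₁U).1
  have h4 : ∀ c : F, σ c = -c → TM M (uL hf (c • b₁)) a := by
    intro c hc
    have := R1 hf hHM hw₀ hb'b' hb'a hc
    rwa [mul_smul, ← hb₁def] at this
  obtain ⟨b₂, hb₂U, hb₂b₂, hb₁b₂⟩ := exists_partner hf hUND hb₁U hb₁0 hb₁b₁
  have hb₂b₁ : f b₂ b₁ = 1 := by rw [hf.herm, hb₁b₂, map_one]
  have hb₂a : f b₂ a = 0 := ((hUmem b₂).mp hb₂U).1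
  have hskewdiv : ∀ r : F, σ r = r → σ (r / c₀) = -(r / c₀) := by
    intro r hr
    rw [map_div₀, hr, hc₀, div_neg]
  have h6 : ∀ r : F, σ r = r → TM M (uL hf (r • b₂)) a := by
    intro r hr
    have := R1 hf hHM (h4 c₀ hc₀) hb₂b₂ hb₂a (hskewdiv r hr)
    rwa [hf.smul_left, hb₁b₂, mul_one, div_mul_cancel₀ _ hc₀0] at this
  obtain ⟨U₂, hU₂def⟩ : ∃ U₂ : Submodule F (Fin n → F), U₂ = U ⊓ pp hf b₁ ⊓ pp hf b₂ :=
    ⟨_, rfl⟩
  have hU₂ND : ND f U₂ := by
    rw [hU₂def]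
    exact ND_hyp hf hUND hb₁U hb₂U hb₁b₁ hb₂b₂ hb₁b₂
  have hU₂dim : n ≤ Module.finrank F U₂ + 4 := by
    have h1 := finrank_inf_pp hf U b₁
    have h2 := finrank_inf_pp hf (U ⊓ pp hf b₁) b₂
    rw [hU₂def]
    omega
  obtain ⟨z, hzU₂, hzz⟩ := exists_norm hf hU₂ND (by omega) 1 (map_one σ)
  rw [hU₂def] at hzU₂
  have hzU : z ∈ U := (Submodule.mem_inf.mp (Submodule.mem_inf.mp hzU₂).1).1
  have hzb₁ : f z b₁ = 0 := (mem_pp hf).mp (Submodule.mem_inf.mp (Submodule.mem_inf.mp hzU₂).1).2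
  have hzb₂ : f z b₂ = 0 := (mem_pp hf).mp (Submodule.mem_inf.mp hzU₂).2
  obtain ⟨y, hy⟩ := tr_surj hf.involutive hf.ne_refl (-1) (by rw [map_neg, map_one])
  obtain ⟨p, hpdef⟩ : ∃ p, p = b₁ + y • b₂ := ⟨_, rfl⟩
  have hpU : p ∈ U := by rw [hpdef]; exact U.add_mem hb₁U (U.smul_mem _ hb₂U)
  have hpp : f p p = -1 := by
    rw [hpdef, u_expand hf, hb₁b₁, hb₂b₂, hb₁b₂, hb₂b₁]
    linear_combination hy
  have hzp : f z p = 0 := by
    rw [hpdef, u_add_right hf, u_smul_right hf, hzb₁, hzb₂, mul_zero, add_zero]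
  have hb₂p : f b₂ p = 1 := by
    rw [hpdef, u_add_right hf, u_smul_right hf, hb₂b₁, hb₂b₂, mul_zero, add_zero]
  have hpb₁ : f p b₁ = y := by
    rw [hpdef, hf.add_left, hf.smul_left, hb₁b₁, hb₂b₁, mul_one, zero_add]
  obtain ⟨b₃, hb₃def⟩ : ∃ b₃, b₃ = p + z := ⟨_, rfl⟩
  have hb₃U : b₃ ∈ U := by rw [hb₃def]; exact U.add_mem hpU hzU
  have hb₃a : f b₃ a = 0 := ((hUmem b₃).mp hb₃U).1
  have hb₃b₃ : f b₃ b₃ = 0 := by
    rw [hb₃def, hf.add_left, u_add_right hf, u_add_right hf, hpp, hzp, u_symm_zero hf hzp, hzz]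
    ring
  have hb₂b₃ : f b₂ b₃ = 1 := by
    rw [hb₃def, u_add_right hf, hb₂p, u_symm_zero hf hzb₂, add_zero]
  have hb₃b₁ : f b₃ b₁ = y := by
    rw [hb₃def, hf.add_left, hpb₁, hzb₁, add_zero]
  have h8 : ∀ c : F, σ c = -c → TM M (uL hf (c • b₃)) a := by
    intro c hc
    have := R1 hf hHM (h6 1 (map_one σ)) hb₃b₃ hb₃a hc
    rwa [one_smul, hb₂b₃, mul_one] at this
  have h9 : ∀ r : F, σ r = r → TM M (uL hf ((r * y) • b₁)) a := by
    intro r hr
    have := R1 hf hHM (h8 c₀ hc₀) hb₁b₁ hb₁a (hskewdiv r hr)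
    rw [hf.smul_left, hb₃b₁] at this
    have h' : r / c₀ * (c₀ * y) = r * y := by field_simp
    rwa [h'] at this
  have hy' : y + σ y ≠ 0 := by rw [hy]; exact neg_ne_zero.mpr one_ne_zero
  have h10 : ∀ l : F, TM M (uL hf (l • b₁)) a := by
    intro l
    obtain ⟨s, r, hs, hr, hl⟩ := decomp_skew_fixed hf.involutive hy' l
    rw [hl, add_smul]
    exact W_add hf (h4 s hs) (h9 r hr)
  have h12 : ∀ b ∈ U, f b b = 0 → ∀ μ : F, TM M (uL hf (μ • b)) a := by
    intro b hbU hbb μ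
    have hba : f b a = 0 := ((hUmem b).mp hbU).1
    by_cases hb0 : b = 0
    · rw [hb0, smul_zero]
      exact TM_of_eq (fun v => by rw [uL_apply, u_zero_right hf]; rfl) (TM_zero_fun M a)
    by_cases hne : f b₁ b ≠ 0
    · exact W_prop hf hHM h10 hbb hba hne μ
    · obtain ⟨w, hwU, hww, hwb₁, hwb⟩ := exists_iso_ne2 hf hUND (by omega) b₁ b
        (hUND b₁ hb₁U hb₁0) (hUND b hbU hb0)
      have hwa : f w a = 0 := ((hUmem w).mp hwU).1
      have hw : ∀ l : F, TM M (uL hf (l • w)) a :=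
        fun l => W_prop hf hHM h10 hww hwa (u_symm_ne hf hwb₁) l
      exact W_prop hf hHM hw hbb hba hwb μ
  have h13 : ∀ u ∈ U, ∀ μ : F, TM M (uL hf (μ • u)) a := by
    intro u huU μ
    obtain ⟨x₁, h1U, x₂, h2U, x₃, h3U, h1, h2, h3, hsum⟩ :=
      exists_iso_decomp hf hUND (by omega) huU
    rw [hsum, smul_add, smul_add]
    exact W_add hf (W_add hf (h12 x₁ h1U h1 μ) (h12 x₂ h2U h2 μ)) (h12 x₃ h3U h3 μ)
  have h14 : ∀ μ : F, TM M (uL hf (μ • a)) a := by
    intro μ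
    obtain ⟨e, heU, he0, hee⟩ := exists_iso hf hUND (by omega)
    obtain ⟨e', he'U, he'e', hee'⟩ := exists_partner hf hUND heU he0 hee
    have hea : f e a = 0 := ((hUmem e).mp heU).1
    have he'a : f e' a = 0 := ((hUmem e').mp he'U).1
    have hsum_iso : f (a + e) (a + e) = 0 := by
      rw [hf.add_left, u_add_right hf, u_add_right hf, haa, hee, hea, u_symm_zero hf hea]
      ring
    have hsum_a : f (a + e) a = 0 := by rw [hf.add_left, haa, hea, add_zero]
    have hne : f e' (a + e) ≠ 0 := by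
      rw [u_add_right hf, he'a, zero_add, hf.herm, hee', map_one]
      exact one_ne_zero
    have h1 : TM M (uL hf (μ • (a + e))) a :=
      W_prop hf hHM (fun l => h12 e' he'U he'e' l) hsum_iso hsum_a hne μ
    have h2 : TM M (uL hf ((-μ) • e)) a := h12 e heU hee (-μ)
    have h3 := W_add hf h1 h2
    have hv : μ • (a + e) + (-μ) • e = μ • a := by
      rw [smul_add, neg_smul]; abel
    rwa [hv] at h3
  intro s hs
  obtain ⟨w, hw⟩ := exists_repr hf s
  have hwa' : f a w = 0 := by rw [← hw]; exact hs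
  have hwa : f w a = 0 := u_symm_zero hf hwa'
  have hdecomp : w = f w a' • a + (w - f w a' • a) := by abel
  have hrest : w - f w a' • a ∈ U := by
    rw [hUmem]
    constructor
    · rw [u_sub_left hf, hf.smul_left, hwa, haa, mul_zero, sub_zero]
    · rw [u_sub_left hf, hf.smul_left, haa', mul_one, sub_self]
  have h1 := h14 (f w a')
  have h2 := h13 _ hrest 1
  rw [one_smul] at h2
  have h3 := W_add hf h1 h2
  rw [← hdecomp] at h3
  exact TM_of_eq (fun v => by rw [uL_apply, hw]) h3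


/-- Step 3: all transvections with one centre give all transvections -/
lemma all_of_one {M : Subgroup (GL (Fin n) F)} (hn : 13 ≤ n) (hHM : HH f ≤ M) {a₀ : Fin n → F}
    (ha₀ : a₀ ≠ 0) (h : ∀ s : (Fin n → F) →ₗ[F] F, s a₀ = 0 → TM M s a₀) :
    ∀ (a : Fin n → F) (s : (Fin n → F) →ₗ[F] F), s a = 0 → TM M s a := by
  have hC0 : ∀ s : (Fin n → F) →ₗ[F] F, s (0 : Fin n → F) = 0 → TM M s 0 :=
    fun s _ => TM_zero_center M s
  have hCsmul : ∀ (l : F) (x : Fin n → F),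
      (∀ s : (Fin n → F) →ₗ[F] F, s x = 0 → TM M s x) →
      (∀ s : (Fin n → F) →ₗ[F] F, s (l • x) = 0 → TM M s (l • x)) := by
    intro l x hx s hs
    apply TM_smul_center
    apply hx
    rw [map_smul] at hs
    rw [LinearMap.smul_apply]
    exact hs
  have hCM : ∀ g ∈ M, ∀ x : Fin n → F,
      (∀ s : (Fin n → F) →ₗ[F] F, s x = 0 → TM M s x) →
      (∀ s : (Fin n → F) →ₗ[F] F, s ((g : Matrix (Fin n) (Fin n) F) *ᵥ x) = 0 →
        TM M s ((g : Matrix (Fin n) (Fin n) F) *ᵥ x)) := by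
    intro g hg x hx s hs
    have h1 := hx (s ∘ₗ Matrix.toLin' (g : Matrix (Fin n) (Fin n) F))
      (by rw [LinearMap.comp_apply, Matrix.toLin'_apply]; exact hs)
    have h2 := TM_conj hg h1
    refine TM_of_eq ?_ h2
    intro v
    rw [LinearMap.comp_apply, LinearMap.comp_apply, Matrix.toLin'_apply, Matrix.toLin'_apply,
      mul_inv_mulVec]
  have hCadd : ∀ x y : Fin n → F,
      (∀ s : (Fin n → F) →ₗ[F] F, s x = 0 → TM M s x) →
      (∀ s : (Fin n → F) →ₗ[F] F, s y = 0 → TM M s y) →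
      (∀ s : (Fin n → F) →ₗ[F] F, s (x + y) = 0 → TM M s (x + y)) := by
    intro x y hx hy
    by_cases hx0 : x = 0
    · rw [hx0, zero_add]; exact hy
    by_cases hdep : y ∈ Submodule.span F {x}
    · obtain ⟨μ, hμ⟩ := Submodule.mem_span_singleton.mp hdep
      have : x + y = (1 + μ) • x := by rw [add_smul, one_smul, hμ]
      rw [this]
      exact hCsmul _ _ hx
    · obtain ⟨p, hxp, hyp⟩ := exists_sep hf hx0 hdep
      obtain ⟨-, t, htM, htv⟩ := hx ((f y p)⁻¹ • uL hf p)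
        (by rw [LinearMap.smul_apply, uL_apply, hxp, smul_zero])
      have hty : (t : Matrix (Fin n) (Fin n) F) *ᵥ y = x + y := by
        rw [htv, LinearMap.smul_apply, uL_apply, smul_eq_mul, inv_mul_cancel₀ hyp, one_smul,
          add_comm]
      rw [← hty]
      exact hCM t htM y hy
  obtain ⟨c, hc0, hc⟩ := exists_skew hf.involutive hf.ne_refl
  have hCneg : ∀ x : Fin n → F,
      (∀ s : (Fin n → F) →ₗ[F] F, s x = 0 → TM M s x) →
      (∀ s : (Fin n → F) →ₗ[F] F, s (-x) = 0 → TM M s (-x)) := by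
    intro x hx
    have := hCsmul (-1) x hx
    rwa [neg_one_smul] at this
  have hnb : ∀ x b : Fin n → F, (∀ s : (Fin n → F) →ₗ[F] F, s x = 0 → TM M s x) →
      f b b = 0 → f x b ≠ 0 → (∀ s : (Fin n → F) →ₗ[F] F, s b = 0 → TM M s b) := by
    intro x b hx hbb hxb
    obtain ⟨-, t, htH, htv⟩ := U_TM hf hbb hc
    have h1 := hCM t (hHM htH) x hx
    rw [htv, LinearMap.smul_apply, uL_apply, smul_eq_mul] at h1
    have h2 : ∀ s : (Fin n → F) →ₗ[F] F, s ((c * f x b) • b) = 0 →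
        TM M s ((c * f x b) • b) := by
      have := hCadd _ _ h1 (hCneg x hx)
      rwa [add_comm x, add_neg_cancel_right] at this
    have h3 := hCsmul (c * f x b)⁻¹ _ h2
    rwa [smul_smul, inv_mul_cancel₀ (mul_ne_zero hc0 hxb), one_smul] at h3
  have htop : Module.finrank F (⊤ : Submodule F (Fin n → F)) = n := by
    rw [finrank_top, Module.finrank_fin_fun]
  have hiso : ∀ b : Fin n → F, f b b = 0 →
      (∀ s : (Fin n → F) →ₗ[F] F, s b = 0 → TM M s b) := by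
    intro b hbb
    by_cases hb0 : b = 0
    · rw [hb0]; exact hC0
    obtain ⟨w, -, hww, hwa, hwb⟩ := exists_iso_ne2 hf (ND_top hf) (by omega) a₀ b
      ((hf.nondegenerate a₀ ha₀).1.imp fun x hx => ⟨Submodule.mem_top, hx⟩)
      ((hf.nondegenerate b hb0).1.imp fun x hx => ⟨Submodule.mem_top, hx⟩)
    have hw := hnb a₀ w h hww (u_symm_ne hf hwa)
    exact hnb w b hw hbb hwb
  intro a
  obtain ⟨x₁, -, x₂, -, x₃, -, h1, h2, h3, hsum⟩ :=
    exists_iso_decomp hf (ND_top hf) (by omega) (Submodule.mem_top : a ∈ ⊤)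
  rw [hsum]
  exact hCadd _ _ (hCadd _ _ (hiso x₁ h1) (hiso x₂ h2)) (hiso x₃ h3)

/-- local proportionality on isotropic vectors implies similarity -/
lemma sim_of_local (hn : 13 ≤ n) (g : GL (Fin n) F)
    (h : ∀ b : Fin n → F, b ≠ 0 → f b b = 0 → ∃ κ : F, ∀ x,
      f ((g : Matrix (Fin n) (Fin n) F) *ᵥ x) ((g : Matrix (Fin n) (Fin n) F) *ᵥ b) = κ * f x b) :
    g ∈ Cfsg.Geo.similarityGroup f := by
  have htop : Module.finrank F (⊤ : Submodule F (Fin n → F)) = n := by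
    rw [finrank_top, Module.finrank_fin_fun]
  obtain ⟨e, -, he0, hee⟩ := exists_iso hf (ND_top hf) (by omega)
  obtain ⟨κ, hκ⟩ := h e he0 hee
  have hiso : ∀ b : Fin n → F, f b b = 0 → ∀ x,
      f ((g : Matrix (Fin n) (Fin n) F) *ᵥ x) ((g : Matrix (Fin n) (Fin n) F) *ᵥ b)
        = κ * f x b := by
    intro b hbb x
    by_cases hdep : b ∈ Submodule.span F {e}
    · obtain ⟨μ, hμ⟩ := Submodule.mem_span_singleton.mp hdep
      rw [← hμ, Matrix.mulVec_smul, u_smul_right hf, u_smul_right hf, hκ]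
      ring
    · have hb0 : b ≠ 0 := fun h0 => hdep (by rw [h0]; exact Submodule.zero_mem _)
      obtain ⟨l, hl0, hl⟩ := exists_iso_comb hf hee hbb
      have hd0 : e + l • b ≠ 0 := by
        intro h0
        have := (coeff_zero he0 hdep (ν₁ := 1) (ν₂ := l) (by rw [one_smul]; exact h0)).1
        exact one_ne_zero this
      obtain ⟨κb, hκb⟩ := h b hb0 hbb
      obtain ⟨κd, hκd⟩ := h (e + l • b) hd0 hl
      have hvec : σ (κ - κd) • e + (l * σ (κb - κd)) • b = 0 := by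
        apply u_eq_zero_of_forall_left hf
        intro x'
        have h1 := hκd x'
        rw [Matrix.mulVec_add, Matrix.mulVec_smul, u_add_right hf, u_smul_right hf, hκ, hκb,
          u_add_right hf, u_smul_right hf] at h1
        rw [u_add_right hf, u_smul_right hf, u_smul_right hf, hf.involutive, map_mul,
          hf.involutive]
        linear_combination h1
      obtain ⟨hz1, hz2⟩ := coeff_zero he0 hdep hvec
      have h1 : κ = κd := by
        have := (map_eq_zero σ).mp hz1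
        exact sub_eq_zero.mp this
      have h2 : κb = κd := by
        rcases mul_eq_zero.mp hz2 with h' | h'
        · exact absurd h' hl0
        · exact sub_eq_zero.mp ((map_eq_zero σ).mp h')
      rw [hκb, h2, ← h1]
  have hall : ∀ y x : Fin n → F,
      f ((g : Matrix (Fin n) (Fin n) F) *ᵥ x) ((g : Matrix (Fin n) (Fin n) F) *ᵥ y)
        = κ * f x y := by
    intro y x
    obtain ⟨x₁, -, x₂, -, x₃, -, h1, h2, h3, hsum⟩ :=
      exists_iso_decomp hf (ND_top hf) (by omega) (Submodule.mem_top : y ∈ ⊤)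
    rw [hsum, Matrix.mulVec_add, Matrix.mulVec_add, u_add_right hf, u_add_right hf,
      u_add_right hf, u_add_right hf, hiso x₁ h1, hiso x₂ h2, hiso x₃ h3]
    ring
  have hκ0 : κ ≠ 0 := by
    rintro rfl
    apply he0
    have h0 : (g : Matrix (Fin n) (Fin n) F) *ᵥ e = 0 := by
      apply u_eq_zero_of_forall_left hf
      intro y
      have := hall e (((g⁻¹ : GL (Fin n) F) : Matrix (Fin n) (Fin n) F) *ᵥ y)
      rwa [mul_inv_mulVec, zero_mul] at this
    have h2 := congrArg (fun v => ((g⁻¹ : GL (Fin n) F) : Matrix (Fin n) (Fin n) F) *ᵥ v) h0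
    simp only [inv_mul_mulVec, Matrix.mulVec_zero] at h2
    exact h2
  exact ⟨Units.mk0 κ hκ0, fun u v => hall v u⟩

/-- Step 1: a transvection in `M` with isotropic centre and wrong axis -/
lemma exists_bad {M : Subgroup (GL (Fin n) F)} (hn : 13 ≤ n) (hHM : HH f ≤ M)
    {g : GL (Fin n) F} (hgM : g ∈ M) (hgS : g ∉ Cfsg.Geo.similarityGroup f) :
    ∃ a : Fin n → F, a ≠ 0 ∧ f a a = 0 ∧ ∃ s : (Fin n → F) →ₗ[F] F, TM M s a ∧
      ¬ ∃ μ : F, ∀ x, s x = μ * f x a := by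
  obtain ⟨c₀, hc₀0, hc₀⟩ := exists_skew hf.involutive hf.ne_refl
  have htop : Module.finrank F (⊤ : Submodule F (Fin n → F)) = n := by
    rw [finrank_top, Module.finrank_fin_fun]
  -- the conjugated transvections
  have hconj : ∀ a₁ : Fin n → F, f a₁ a₁ = 0 →
      TM M ((c₀ • uL hf a₁) ∘ₗ
        Matrix.toLin' ((g⁻¹ : GL (Fin n) F) : Matrix (Fin n) (Fin n) F))
        ((g : Matrix (Fin n) (Fin n) F) *ᵥ a₁) :=
    fun a₁ ha₁ => TM_conj hgM (TM_mono hHM (U_TM hf ha₁ hc₀))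
  have hs₁ : ∀ a₁ x : Fin n → F, ((c₀ • uL hf a₁) ∘ₗ
        Matrix.toLin' ((g⁻¹ : GL (Fin n) F) : Matrix (Fin n) (Fin n) F)) x
        = c₀ * f (((g⁻¹ : GL (Fin n) F) : Matrix (Fin n) (Fin n) F) *ᵥ x) a₁ := by
    intro a₁ x
    rw [LinearMap.comp_apply, Matrix.toLin'_apply, LinearMap.smul_apply, uL_apply, smul_eq_mul]
  have hs₁ne : ∀ a₁ : Fin n → F, a₁ ≠ 0 → ∃ x, ((c₀ • uL hf a₁) ∘ₗ
        Matrix.toLin' ((g⁻¹ : GL (Fin n) F) : Matrix (Fin n) (Fin n) F)) x ≠ 0 := by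
    intro a₁ ha₁
    obtain ⟨y, hy⟩ := (hf.nondegenerate a₁ ha₁).1
    refine ⟨(g : Matrix (Fin n) (Fin n) F) *ᵥ y, ?_⟩
    rw [hs₁, inv_mul_mulVec]
    exact mul_ne_zero hc₀0 hy
  have hgne : ∀ a₁ : Fin n → F, a₁ ≠ 0 → (g : Matrix (Fin n) (Fin n) F) *ᵥ a₁ ≠ 0 := by
    intro a₁ ha₁ h0
    apply ha₁
    have h2 := congrArg (fun v => ((g⁻¹ : GL (Fin n) F) : Matrix (Fin n) (Fin n) F) *ᵥ v) h0
    simp only [inv_mul_mulVec, Matrix.mulVec_zero] at h2
    exact h2
  by_cases hA : ∃ a₁ : Fin n → F, a₁ ≠ 0 ∧ f a₁ a₁ = 0 ∧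
      f ((g : Matrix (Fin n) (Fin n) F) *ᵥ a₁) ((g : Matrix (Fin n) (Fin n) F) *ᵥ a₁) ≠ 0
  · -- Case A
    obtain ⟨a₁, ha₁0, ha₁, hβ⟩ := hA
    obtain ⟨b, hbdef⟩ : ∃ b, b = (g : Matrix (Fin n) (Fin n) F) *ᵥ a₁ := ⟨_, rfl⟩
    obtain ⟨s₁, hs₁def⟩ : ∃ s₁ : (Fin n → F) →ₗ[F] F, s₁ = (c₀ • uL hf a₁) ∘ₗ
        Matrix.toLin' ((g⁻¹ : GL (Fin n) F) : Matrix (Fin n) (Fin n) F) := ⟨_, rfl⟩
    have hT : TM M s₁ b := by rw [hs₁def, hbdef]; exact hconj a₁ ha₁
    rw [← hbdef] at hβ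
    obtain ⟨x₀, hx₀⟩ : ∃ x, s₁ x ≠ 0 := by rw [hs₁def]; exact hs₁ne a₁ ha₁0
    obtain ⟨p, hp⟩ := exists_repr hf s₁
    have hbp : f b p = 0 := by rw [← hp]; exact hT.1
    have hp0 : p ≠ 0 := by
      rintro rfl
      apply hx₀
      rw [hp, u_zero_right hf]
    -- a non-degenerate subspace orthogonal to b and p
    obtain ⟨U', hU'ND, hU'dim, hU'b, hU'p⟩ : ∃ U' : Submodule F (Fin n → F), ND f U' ∧
        2 ≤ Module.finrank F U' ∧ (∀ u ∈ U', f u b = 0) ∧ (∀ u ∈ U', f u p = 0) := by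
      have hUb := ND_noniso hf (ND_top hf) (Submodule.mem_top : b ∈ ⊤) hβ
      have hd1 := finrank_inf_pp hf ⊤ b
      have hpUb : p ∈ (⊤ : Submodule F (Fin n → F)) ⊓ pp hf b :=
        Submodule.mem_inf.mpr ⟨Submodule.mem_top, (mem_pp hf).mpr (u_symm_zero hf hbp)⟩
      by_cases hpp : f p p = 0
      · obtain ⟨p', hp'Ub, hp'p', hpp'⟩ := exists_partner hf hUb hpUb hp0 hpp
        have hd2 := finrank_inf_pp hf (⊤ ⊓ pp hf b) p
        have hd3 := finrank_inf_pp hf (⊤ ⊓ pp hf b ⊓ pp hf p) p'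
        refine ⟨⊤ ⊓ pp hf b ⊓ pp hf p ⊓ pp hf p', ND_hyp hf hUb hpUb hp'Ub hpp hp'p' hpp',
          by omega, ?_, ?_⟩
        · intro u hu
          exact (mem_pp hf).mp
            (Submodule.mem_inf.mp (Submodule.mem_inf.mp (Submodule.mem_inf.mp hu).1).1).2
        · intro u hu
          exact (mem_pp hf).mp (Submodule.mem_inf.mp (Submodule.mem_inf.mp hu).1).2
      · have hd2 := finrank_inf_pp hf (⊤ ⊓ pp hf b) p
        refine ⟨⊤ ⊓ pp hf b ⊓ pp hf p, ND_noniso hf hUb hpUb hpp, by omega, ?_, ?_⟩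
        · intro u hu
          exact (mem_pp hf).mp (Submodule.mem_inf.mp (Submodule.mem_inf.mp hu).1).2
        · intro u hu
          exact (mem_pp hf).mp (Submodule.mem_inf.mp hu).2
    obtain ⟨u, huU', huu⟩ := exists_norm hf hU'ND hU'dim (-(f b b))
      (by rw [map_neg, u_self_fixed hf])
    have hub : f u b = 0 := hU'b u huU'
    have hup : f u p = 0 := hU'p u huU'
    obtain ⟨a', ha'def⟩ : ∃ a', a' = b + u := ⟨_, rfl⟩
    have ha'a' : f a' a' = 0 := by
      rw [ha'def, hf.add_left, u_add_right hf, u_add_right hf, hub, u_symm_zero hf hub, huu]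
      ring
    have hs₁a' : s₁ a' = 0 := by
      rw [hp, ha'def, hf.add_left, hbp, hup, add_zero]
    have hba' : f b a' ≠ 0 := by
      rw [ha'def, u_add_right hf, u_symm_zero hf hub, add_zero]
      exact hβ
    have ha'0 : a' ≠ 0 := by
      rintro rfl
      exact hba' (u_zero_right hf b)
    have hT2 := TM_comm (TM_mono hHM (U_TM hf ha'a' hc₀)) hT hs₁a'
    refine ⟨a', ha'0, ha'a', _, hT2, ?_⟩
    rintro ⟨μ, hμ⟩
    have hk : (c₀ • uL hf a') b ≠ 0 := by
      rw [LinearMap.smul_apply, uL_apply, smul_eq_mul]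
      exact mul_ne_zero hc₀0 hba'
    have h1 := hμ b
    rw [LinearMap.smul_apply, hT.1, smul_zero] at h1
    have hμ0 : μ = 0 := by
      rcases mul_eq_zero.mp h1.symm with h' | h'
      · exact h'
      · exact absurd h' hba'
    have h2 := hμ x₀
    rw [hμ0, zero_mul, LinearMap.smul_apply, smul_eq_mul] at h2
    rcases mul_eq_zero.mp h2 with h' | h'
    · exact hk h'
    · exact hx₀ h'
  · -- Case B
    push Not at hA
    by_contra hcon
    push Not at hcon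
    apply hgS
    apply sim_of_local hf hn
    intro b hb0 hbb
    have hgb0 := hgne b hb0
    have hgbb := hA b hb0 hbb
    obtain ⟨μ, hμ⟩ := hcon _ hgb0 hgbb _ (hconj b hbb)
    have hμ0 : μ ≠ 0 := by
      rintro rfl
      obtain ⟨x, hx⟩ := hs₁ne b hb0
      apply hx
      rw [hμ, zero_mul]
    refine ⟨c₀ / μ, fun x => ?_⟩
    have h1 := hμ ((g : Matrix (Fin n) (Fin n) F) *ᵥ x)
    rw [hs₁, inv_mul_mulVec] at h1
    field_simp
    linear_combination -h1

/-- strictness -/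
lemma exists_not_sim (hn : 13 ≤ n) :
    ∃ t ∈ Cfsg.Geo.specialLinear (Fin n) F, t ∉ Cfsg.Geo.similarityGroup f := by
  have htop : Module.finrank F (⊤ : Submodule F (Fin n → F)) = n := by
    rw [finrank_top, Module.finrank_fin_fun]
  obtain ⟨e, -, e', -, hee, he'e', h1⟩ := exists_hyp hf (ND_top hf) (by omega)
  have hU := ND_hyp hf (ND_top hf) (Submodule.mem_top : e ∈ ⊤) (Submodule.mem_top : e' ∈ ⊤)
    hee he'e' h1
  have hd1 := finrank_inf_pp hf ⊤ e
  have hd2 := finrank_inf_pp hf (⊤ ⊓ pp hf e) e'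
  obtain ⟨z, hzU, hz0⟩ := exists_mem_ne_zero (U := ⊤ ⊓ pp hf e ⊓ pp hf e') (by omega)
  obtain ⟨z', hz'U, hz'z⟩ := hU z hzU hz0
  have hze : f z e = 0 := (mem_pp hf).mp (Submodule.mem_inf.mp (Submodule.mem_inf.mp hzU).1).2
  have hze' : f z e' = 0 := (mem_pp hf).mp (Submodule.mem_inf.mp hzU).2
  have hz'e' : f z' e' = 0 := (mem_pp hf).mp (Submodule.mem_inf.mp hz'U).2
  obtain ⟨t, htSL, htv⟩ := exists_rank_one (uL hf z) e
    (by rw [uL_apply]; exact u_symm_zero hf hze)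
  refine ⟨t, htSL, ?_⟩
  rintro ⟨c, hc⟩
  have hte : (t : Matrix (Fin n) (Fin n) F) *ᵥ e = e := by
    rw [htv, uL_apply, u_symm_zero hf hze, zero_smul, add_zero]
  have hte' : (t : Matrix (Fin n) (Fin n) F) *ᵥ e' = e' := by
    rw [htv, uL_apply, u_symm_zero hf hze', zero_smul, add_zero]
  have hc1 : (c : F) = 1 := by
    have := hc e e'
    rw [hte, hte', h1, mul_one] at this
    exact this.symm
  have h2 := hc z' e'
  rw [hte', htv, uL_apply, hf.add_left, hf.smul_left, h1, hz'e', hc1] at h2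
  apply hz'z
  simpa using h2

theorem main (hn : 13 ≤ n) :
    Cfsg.Geo.IsMaximalIn (Cfsg.Geo.specialLinear (Fin n) F)
      (Cfsg.Geo.similarityGroup f ⊓ Cfsg.Geo.specialLinear (Fin n) F) := by
  refine ⟨?_, ?_⟩
  · rw [lt_iff_le_and_ne]
    refine ⟨inf_le_right, fun h => ?_⟩
    obtain ⟨t, htSL, ht⟩ := exists_not_sim hf hn
    rw [← h] at htSL
    exact ht htSL.1
  · intro M hHM hMS
    by_cases hMH : M = Cfsg.Geo.similarityGroup f ⊓ Cfsg.Geo.specialLinear (Fin n) F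
    · left; exact hMH
    right
    apply le_antisymm hMS
    obtain ⟨g, hgM, hgH⟩ : ∃ g ∈ M,
        g ∉ Cfsg.Geo.similarityGroup f ⊓ Cfsg.Geo.specialLinear (Fin n) F := by
      by_contra hcon
      push Not at hcon
      exact hMH (le_antisymm hcon hHM)
    have hgS : g ∉ Cfsg.Geo.similarityGroup f := fun h => hgH ⟨h, hMS hgM⟩
    obtain ⟨a, ha0, haa, s, hs, hnp⟩ := exists_bad hf hn hHM hgM hgS
    obtain ⟨w₀, hw₀⟩ := exists_repr hf s
    have hw₀T : TM M (uL hf w₀) a :=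
      TM_of_eq (fun v => by rw [uL_apply]; exact hw₀ v) hs
    have hw₀n : w₀ ∉ Submodule.span F {a} := by
      intro hmem
      obtain ⟨μ, hμ⟩ := Submodule.mem_span_singleton.mp hmem
      apply hnp
      refine ⟨σ μ, fun x => ?_⟩
      rw [hw₀, ← hμ, u_smul_right hf]
    have h4 := all_at hf hn hHM ha0 haa hw₀T hw₀n
    have h5 := all_of_one hf hn hHM ha0 h4
    exact le_of_all_TM (by omega) h5

end
end S5643aux
end Aux

/-- For a finite field F and n ≥ 13, let σ be a field automorphism of F of order two and f a non-degenerate unitary form on F^n with respect to σ. Then the elements of SL_n(F) that are similarities of f form a maximal subgroup of SL_n(F). -/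
theorem result {F : Type*} [Field F] [Fintype F] (n : ℕ) (hn : 13 ≤ n) (σ : F ≃+* F) (f : (Fin n → F) → (Fin n → F) → F) (hf : Cfsg.Geo.IsUnitaryForm σ f) : Cfsg.Geo.IsMaximalIn (Cfsg.Geo.specialLinear (Fin n) F) (Cfsg.Geo.similarityGroup f ⊓ Cfsg.Geo.specialLinear (Fin n) F) := by
  exact S5643aux.main hf hn

end Cfsg.Agent.S5643
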