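import Cfsg.Statements.S5644
import Mathlib
import Cfsg.Agent.Lib.Helper9.QuadBridge
import Cfsg.Agent.Lib.Helper5.OSLTrans

set_option autoImplicit false
open Cfsg

namespace Cfsg.Agent.S5644

section Aux
set_option linter.unusedSectionVars false
set_option linter.unusedVariables false
set_option linter.unusedSimpArgs false
namespace S5644aux
open Cfsg Matrix QuadraticMap Module Cfsg.Agent.Lib.Helper5 Cfsg.Agent.Lib.Helper5.SpMax
  Cfsg.Agent.Lib.Helper5.TMCalc Cfsg.Agent.Lib.Helper5.OSL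

variable {F : Type*} [Field F] {n : ℕ}
variable (Qf : QuadraticForm F (Fin n → F))

/-- strictness: a transvection which is not a similitude -/
lemma exists_not_sim (hnd : (polarBilin Qf).Nondegenerate) (h2 : (2 : F) ≠ 0) (hn : 5 ≤ n) :
    ∃ t ∈ Cfsg.Geo.specialLinear (Fin n) F, t ∉ Cfsg.Geo.quadSimilarityGroup (⇑Qf) := by
  obtain ⟨z, hz, -⟩ := exists_ns Qf hnd (![] : Fin 0 → ((Fin n → F) →ₗ[F] F)) (by omega)
  obtain ⟨w, hw, hlw⟩ := exists_ns Qf hnd ![bL Qf z] (by omega)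
  have hzw : polar Qf z w = 0 := by simpa using hlw 0
  obtain ⟨t, htSL, htv⟩ := exists_rank_one (bL Qf z) w (by simpa using hzw)
  refine ⟨t, htSL, ?_⟩
  rintro ⟨c, hc⟩
  have htw : (t : Matrix (Fin n) (Fin n) F) *ᵥ w = w := by
    rw [htv, bL_apply, hzw, zero_smul, add_zero]
  have hc1 : (c : F) = 1 := by
    have h3 := hc w
    rw [htw] at h3
    have h4 : (1 : F) * Qf w = (c : F) * Qf w := by rw [one_mul]; exact h3
    exact (mul_right_cancel₀ hw h4).symm
  have h3 := hc z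
  rw [htv, bL_apply, pself, hc1, one_mul, Q_add, Q_smul, polar_smul_right, hzw, smul_zero,
    add_zero] at h3
  have h5 : 2 * Qf z * (2 * Qf z) * Qf w = 0 := by linear_combination h3
  have h6 : (2 : F) * Qf z ≠ 0 := mul_ne_zero h2 hz
  exact (mul_ne_zero (mul_ne_zero h6 h6) hw) h5

theorem main [Fintype F] (hodd : Odd (Fintype.card F)) (hnd : (polarBilin Qf).Nondegenerate)
    (hn : 13 ≤ n) :
    Cfsg.Geo.IsMaximalIn (Cfsg.Geo.specialLinear (Fin n) F)
      (Cfsg.Geo.quadSimilarityGroup (⇑Qf) ⊓ Cfsg.Geo.specialLinear (Fin n) F) := by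
  have h2 : (2 : F) ≠ 0 := two_ne_zero_of_odd hodd
  refine ⟨?_, ?_⟩
  · rw [lt_iff_le_and_ne]
    refine ⟨inf_le_right, fun h => ?_⟩
    obtain ⟨t, htSL, ht⟩ := exists_not_sim Qf hnd h2 (by omega)
    rw [← h] at htSL
    exact ht htSL.1
  · intro M hHM hMS
    by_cases hMH : M = Cfsg.Geo.quadSimilarityGroup (⇑Qf) ⊓ Cfsg.Geo.specialLinear (Fin n) F
    · left; exact hMH
    right
    apply le_antisymm hMS
    obtain ⟨g, hgM, hgH⟩ : ∃ g ∈ M,
        g ∉ Cfsg.Geo.quadSimilarityGroup (⇑Qf) ⊓ Cfsg.Geo.specialLinear (Fin n) F := by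
      by_contra hcon
      push Not at hcon
      exact hMH (le_antisymm hcon hHM)
    have hgS : g ∉ Cfsg.Geo.quadSimilarityGroup (⇑Qf) := fun h => hgH ⟨h, hMS hgM⟩
    obtain ⟨a₀, c₀, ha₀, hc₀, hT⟩ := exists_first Qf hnd h2 hn hHM hgM hgS
    exact le_of_all_TM (by omega) (all_TM Qf hodd hnd h2 hn hHM ha₀ hc₀ hT)

end S5644aux
end Aux

/-- For a finite field F of odd order and n ≥ 13, let Q be a non-degenerate quadratic form on F^n (its polar form is non-degenerate). Then the elements of SL_n(F) that are similarities of Q (Q(gv) = c Q(v) for a non-zero scalar c depending on g) form a maximal subgroup of SL_n(F). -/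
theorem result {F : Type*} [Field F] [Fintype F] (n : ℕ) (hn : 13 ≤ n) (hodd : Odd (Fintype.card F)) (Q : (Fin n → F) → F) (hQ : Cfsg.Geo.IsNondegenerateQuadraticForm Q) : Cfsg.Geo.IsMaximalIn (Cfsg.Geo.specialLinear (Fin n) F) (Cfsg.Geo.quadSimilarityGroup Q ⊓ Cfsg.Geo.specialLinear (Fin n) F) := by
  exact S5644aux.main (Cfsg.Agent.Lib.Helper9.QuadBridge.ofFun Q hQ) hodd
    (Cfsg.Agent.Lib.Helper9.QuadBridge.ofFun_nondeg Q hQ) hn

end Cfsg.Agent.S5644
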