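import Cfsg.Statements.S5653
import Mathlib
import Cfsg.Agent.Lib.Helper5.SUMax

set_option autoImplicit false
open Cfsg

namespace Cfsg.Agent.S5653

section Aux
set_option linter.unusedSectionVars false
set_option linter.unusedVariables false
set_option linter.unusedSimpArgs false
namespace S5653aux
open Cfsg Matrix Cfsg.Agent.Lib.Helper14 Cfsg.Agent.Lib.Helper5.SpMax
  Cfsg.Agent.Lib.Helper5.UForm Cfsg.Agent.Lib.Helper5.UEichler Cfsg.Agent.Lib.Helper5.HermBridge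
  Cfsg.Agent.Lib.Helper5.SUGen Cfsg.Agent.Lib.Helper5.SUMax

variable {F : Type*} [Field F] [Fintype F] {q n : ℕ}

lemma all_mem (hF : Fintype.card F = q ^ 2) {W : Submodule F (Fin n → F)}
    (hW : Cfsg.Geo.IsTotallySingularFor (Cfsg.hermForm n F q) W)
    {M : Subgroup (GL (Fin n) F)}
    (hHM : Cfsg.Geo.subspaceStabilizer W ⊓
      (Cfsg.GU n F q ⊓ Cfsg.Geo.specialLinear (Fin n) F) ≤ M)
    {s₀ : Fin n → F} (hs₀ : s₀ ∈ Sset hF M) (hs₀s₀ : Cfsg.hermForm n F q s₀ s₀ = 0)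
    (hs₀W : ∃ w ∈ W, Cfsg.hermForm n F q w s₀ ≠ 0) {v : Fin n → F}
    (hvv : Cfsg.hermForm n F q v v = 0) : v ∈ Sset hF M := by
  have hf := herm_unitary (n := n) hF
  by_cases hvW : ∀ w ∈ W, Cfsg.hermForm n F q w v = 0
  · exact mem_Sset_of_perp hF hHM hvW hvv
  push Not at hvW
  obtain ⟨wa, hwaW, hwa⟩ := hvW
  obtain ⟨wb, hwbW, hwb⟩ := hs₀W
  obtain ⟨w, hwW, hwv, hws⟩ : ∃ w ∈ W, Cfsg.hermForm n F q w v ≠ 0 ∧
      Cfsg.hermForm n F q w s₀ ≠ 0 := by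
    by_cases h1 : Cfsg.hermForm n F q wa s₀ ≠ 0
    · exact ⟨wa, hwaW, hwa, h1⟩
    rw [not_not] at h1
    by_cases h2 : Cfsg.hermForm n F q wb v ≠ 0
    · exact ⟨wb, hwbW, h2, hwb⟩
    rw [not_not] at h2
    refine ⟨wa + wb, W.add_mem hwaW hwbW, ?_, ?_⟩
    · rw [hf.add_left, h2, add_zero]; exact hwa
    · rw [hf.add_left, h1, zero_add]; exact hwb
  obtain ⟨w₁, hw₁def⟩ : ∃ w₁, w₁ = (Cfsg.hermForm n F q w v)⁻¹ • w := ⟨_, rfl⟩
  have hw₁W : w₁ ∈ W := by rw [hw₁def]; exact W.smul_mem _ hwW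
  have hw₁v : Cfsg.hermForm n F q w₁ v = 1 := by
    rw [hw₁def, hf.smul_left, inv_mul_cancel₀ hwv]
  have hw₁s : Cfsg.hermForm n F q w₁ s₀ ≠ 0 := by
    rw [hw₁def, hf.smul_left]
    exact mul_ne_zero (inv_ne_zero hwv) hws
  have hw₁w₁ : Cfsg.hermForm n F q w₁ w₁ = 0 := hW w₁ hw₁W w₁ hw₁W
  obtain ⟨γ, hγdef⟩ : ∃ γ, γ = Cfsg.hermForm n F q w₁ s₀ := ⟨_, rfl⟩
  rw [← hγdef] at hw₁s
  have hγ' : frobQ hF γ ≠ 0 := by rwa [Ne, map_eq_zero]
  obtain ⟨s', hs'def⟩ : ∃ s', s' = (frobQ hF γ)⁻¹ • s₀ := ⟨_, rfl⟩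
  have hs'S : s' ∈ Sset hF M := by rw [hs'def]; exact Sset_smul hF hs₀ _
  have hs's' : Cfsg.hermForm n F q s' s' = 0 := by
    rw [hs'def, hf.smul_left, u_smul_right hf, hs₀s₀, mul_zero, mul_zero]
  have hw₁s' : Cfsg.hermForm n F q w₁ s' = 1 := by
    rw [hs'def, u_smul_right hf, ← hγdef, map_inv₀, hf.involutive, inv_mul_cancel₀ hw₁s]
  have hs'w₁ : Cfsg.hermForm n F q s' w₁ = 1 := by rw [hf.herm, hw₁s', map_one]
  have hvw₁ : Cfsg.hermForm n F q v w₁ = 1 := by rw [hf.herm, hw₁v, map_one]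
  have hwE : Cfsg.hermForm n F q (s' - v) w₁ = 0 := by
    rw [u_sub_left hf, hs'w₁, hvw₁, sub_self]
  obtain ⟨E, hES, hE⟩ := exists_E hf hw₁w₁ hwE (-(Cfsg.hermForm n F q s' v))
  have hκ : -(Cfsg.hermForm n F q s' v) + frobQ hF (-(Cfsg.hermForm n F q s' v)) =
      Cfsg.hermForm n F q (s' - v) (s' - v) := by
    rw [u_sub_left hf, u_sub_right hf, u_sub_right hf, hs's', hvv, map_neg, ← hf.herm v s']
    ring
  have hEU : E ∈ Cfsg.GU n F q := mem_GU.mpr (E_isometry hf hw₁w₁ hwE hκ hE)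
  have hEW : E ∈ Cfsg.Geo.subspaceStabilizer W := by
    apply mem_stab_of_maps_le
    intro x hx
    rw [hE, hW x hx w₁ hw₁W, zero_smul, mul_zero, zero_smul, sub_zero, sub_zero]
    exact W.add_mem hx (W.smul_mem _ hw₁W)
  have hEM : E ∈ M := hHM ⟨hEW, hEU, hES⟩
  have hEs : (E : Matrix (Fin n) (Fin n) F) *ᵥ s' = v := by
    rw [hE, hs'w₁, u_sub_right hf, hs's']
    module
  rw [← hEs]
  exact Sset_mulVec_mem hF hEM hEU hs'S

theorem main (hF : Fintype.card F = q ^ 2) (hn : 13 ≤ n) (W : Submodule F (Fin n → F))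
    (hW0 : W ≠ ⊥) (hW : Cfsg.Geo.IsTotallySingularFor (Cfsg.hermForm n F q) W) :
    Cfsg.Geo.IsMaximalIn (Cfsg.GU n F q ⊓ Cfsg.Geo.specialLinear (Fin n) F)
      (Cfsg.Geo.subspaceStabilizer W ⊓ (Cfsg.GU n F q ⊓ Cfsg.Geo.specialLinear (Fin n) F)) := by
  have hf := herm_unitary (n := n) hF
  refine ⟨?_, ?_⟩
  · rw [lt_iff_le_and_ne]
    refine ⟨inf_le_right, fun heq => ?_⟩
    obtain ⟨w, hwW, hw0⟩ := (Submodule.ne_bot_iff W).mp hW0
    have hww := hW w hwW w hwW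
    obtain ⟨z, -, hzz, hwz⟩ := exists_partner hf (ND_top hf)
      (Submodule.mem_top : w ∈ (⊤ : Submodule F (Fin n → F))) hw0 hww
    obtain ⟨c, hc0, hc⟩ := exists_skew hf.involutive hf.ne_refl
    obtain ⟨g, hgG, hg⟩ := exists_tvg hF hzz hc
    have hgH : g ∈ Cfsg.Geo.subspaceStabilizer W ⊓
        (Cfsg.GU n F q ⊓ Cfsg.Geo.specialLinear (Fin n) F) := by rw [heq]; exact hgG
    have h1 := (mem_stab.mp hgH.1 w).mp hwW
    rw [hg, hwz, mul_one, W.add_mem_iff_right hwW] at h1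
    have h3 : z ∈ W := by
      have := W.smul_mem c⁻¹ h1
      rwa [smul_smul, inv_mul_cancel₀ hc0, one_smul] at this
    have h4 := hW w hwW z h3
    rw [hwz] at h4
    exact one_ne_zero h4
  · intro M hHM hMG
    by_cases hMH : M = Cfsg.Geo.subspaceStabilizer W ⊓
        (Cfsg.GU n F q ⊓ Cfsg.Geo.specialLinear (Fin n) F)
    · left; exact hMH
    right
    apply le_antisymm hMG
    obtain ⟨g, hgM, hgH⟩ : ∃ g ∈ M, g ∉ Cfsg.Geo.subspaceStabilizer W ⊓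
        (Cfsg.GU n F q ⊓ Cfsg.Geo.specialLinear (Fin n) F) := by
      by_contra hcon
      push Not at hcon
      exact hMH (le_antisymm hcon hHM)
    have hgS : g ∉ Cfsg.Geo.subspaceStabilizer W := fun h => hgH ⟨h, hMG hgM⟩
    have hgU : g ∈ Cfsg.GU n F q := (hMG hgM).1
    obtain ⟨a, haW, hga⟩ : ∃ a ∈ W, (g : Matrix (Fin n) (Fin n) F) *ᵥ a ∉ W := by
      by_contra hcon
      push Not at hcon
      exact hgS (mem_stab_of_maps_le hcon)
    have haa := hW a haW a haW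
    have haS : a ∈ Sset hF M := mem_Sset_of_mem hF hHM haW haa
    have hsS := Sset_mulVec_mem hF hgM hgU haS
    have hss : Cfsg.hermForm n F q ((g : Matrix (Fin n) (Fin n) F) *ᵥ a)
        ((g : Matrix (Fin n) (Fin n) F) *ᵥ a) = 0 := by rw [mem_GU.mp hgU]; exact haa
    obtain ⟨s₀, hs₀S, hs₀s₀, hs₀W⟩ : ∃ s₀ ∈ Sset hF M, Cfsg.hermForm n F q s₀ s₀ = 0 ∧
        ∃ w ∈ W, Cfsg.hermForm n F q w s₀ ≠ 0 := by
      by_cases hsW : ∃ w ∈ W, Cfsg.hermForm n F q w ((g : Matrix (Fin n) (Fin n) F) *ᵥ a) ≠ 0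
      · exact ⟨_, hsS, hss, hsW⟩
      push Not at hsW
      have hsp : (g : Matrix (Fin n) (Fin n) F) *ᵥ a ∈ uperp hf W :=
        fun w hw => u_symm_zero hf (hsW w hw)
      obtain ⟨z, -, hzW, hzs⟩ := exists_rad hf _ ⊤ W _ (ND_top hf) le_top hW rfl
        Submodule.mem_top hsp hga
      obtain ⟨l, hl⟩ := exists_iso_add hf hss hzs 0 (map_zero _)
      have hyW : ∀ w ∈ W, Cfsg.hermForm n F q w
          (z + l • (g : Matrix (Fin n) (Fin n) F) *ᵥ a) = 0 := by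
        intro w hw
        rw [u_add_right hf, u_smul_right hf, uperp_symm hf hzW hw, hsW w hw]
        ring
      have hyS : z + l • (g : Matrix (Fin n) (Fin n) F) *ᵥ a ∈ Sset hF M :=
        mem_Sset_of_perp hF hHM hyW hl
      have hys : Cfsg.hermForm n F q (z + l • (g : Matrix (Fin n) (Fin n) F) *ᵥ a)
          ((g : Matrix (Fin n) (Fin n) F) *ᵥ a) ≠ 0 := by
        rw [hf.add_left, hf.smul_left, hss, mul_zero, add_zero]
        exact hzs
      have hgU' : g⁻¹ ∈ Cfsg.GU n F q := inv_mem hgU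
      refine ⟨((g⁻¹ : GL (Fin n) F) : Matrix (Fin n) (Fin n) F) *ᵥ
        (z + l • (g : Matrix (Fin n) (Fin n) F) *ᵥ a),
        Sset_mulVec_mem hF (M.inv_mem hgM) hgU' hyS, ?_, a, haW, ?_⟩
      · rw [mem_GU.mp hgU']
        exact hl
      · have h5 : Cfsg.hermForm n F q a (((g⁻¹ : GL (Fin n) F) : Matrix (Fin n) (Fin n) F) *ᵥ
            (z + l • (g : Matrix (Fin n) (Fin n) F) *ᵥ a)) =
            Cfsg.hermForm n F q ((g : Matrix (Fin n) (Fin n) F) *ᵥ a)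
              (z + l • (g : Matrix (Fin n) (Fin n) F) *ᵥ a) := by
          rw [← mem_GU.mp hgU a, mul_inv_mulVec]
        rw [h5]
        exact u_symm_ne hf hys
    apply Cfsg.Agent.Lib.Helper5.SUMax.le_of_forall_mem_Sset hF (by omega) (by omega)
    intro v hvv
    exact all_mem hF hW hHM hs₀S hs₀s₀ hs₀W hvv

end S5653aux
end Aux

/-- Let F be the field with q² elements and n ≥ 13, and let SU_n(q) be the group of matrices of determinant one preserving the standard unitary form Σ u_i v_i^q on F^n (the intersection of the unitary group GU_n with the kernel of the determinant). The elements of SU_n(q) stabilising a non-zero subspace on which the form vanishes identically form a maximal subgroup of SU_n(q). -/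
theorem result {F : Type*} [Field F] [Fintype F] (n q : ℕ) (hF : Fintype.card F = q ^ 2) (hn : 13 ≤ n) (W : Submodule F (Fin n → F)) (hW0 : W ≠ ⊥) (hW : Cfsg.Geo.IsTotallySingularFor (Cfsg.hermForm n F q) W) : Cfsg.Geo.IsMaximalIn (Cfsg.GU n F q ⊓ Cfsg.Geo.specialLinear (Fin n) F) (Cfsg.Geo.subspaceStabilizer W ⊓ (Cfsg.GU n F q ⊓ Cfsg.Geo.specialLinear (Fin n) F)) := by
  exact S5653aux.main hF hn W hW0 hW

end Cfsg.Agent.S5653
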