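import Cfsg.Statements.S5654
import Mathlib
import Cfsg.Agent.Lib.Helper5.SUMax

set_option autoImplicit false
open Cfsg

namespace Cfsg.Agent.S5654

section Aux
set_option linter.unusedSectionVars false
set_option linter.unusedVariables false
set_option linter.unusedSimpArgs false
namespace S5654aux
open Cfsg Matrix Cfsg.Agent.Lib.Helper14 Cfsg.Agent.Lib.Helper5.SpMax
  Cfsg.Agent.Lib.Helper5.UForm Cfsg.Agent.Lib.Helper5.UEichler Cfsg.Agent.Lib.Helper5.HermBridge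
  Cfsg.Agent.Lib.Helper5.SUGen Cfsg.Agent.Lib.Helper5.SUMax

section Abs
variable {F : Type*} [Field F] [Fintype F] {n : ℕ} {σ : F ≃+* F}
  {f : (Fin n → F) → (Fin n → F) → F} (hf : Cfsg.Geo.IsUnitaryForm σ f)
include hf

lemma finrank_add {W : Submodule F (Fin n → F)} (hWnd : ND f W) :
    Module.finrank F W + Module.finrank F (uperp hf W) = n := by
  have hc : IsCompl W (uperp hf W) := by
    refine IsCompl.of_eq ?_ ?_
    · rw [eq_bot_iff]
      intro x hx
      rw [Submodule.mem_inf] at hx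
      rw [Submodule.mem_bot]
      exact inf_uperp hf hWnd hx.1 hx.2
    · rw [eq_top_iff]
      intro v _
      obtain ⟨a, ha, hva⟩ := exists_decomp hf hWnd v
      have : v = a + (v - a) := by abel
      rw [this]
      exact Submodule.add_mem_sup ha hva
  have := Submodule.finrank_add_eq_of_isCompl hc
  rw [this, Module.finrank_fin_fun]

end Abs

variable {F : Type*} [Field F] [Fintype F] {q n : ℕ}

/-- the growth step -/
lemma grow (hF : Fintype.card F = q ^ 2) {M : Subgroup (GL (Fin n) F)}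
    {W' : Submodule F (Fin n → F)} (hW' : ND (Cfsg.hermForm n F q) W')
    (hd : 4 ≤ Module.finrank F (uperp (herm_unitary (n := n) hF) W'))
    (hIU : ∀ x, Cfsg.hermForm n F q x x = 0 → x ∈ uperp (herm_unitary (n := n) hF) W' →
      x ∈ Sset hF M)
    {a' : Fin n → F} (ha'W : a' ∈ W') (ha'a' : Cfsg.hermForm n F q a' a' ≠ 0)
    {u₀ : Fin n → F} (hu₀ : u₀ ∈ uperp (herm_unitary (n := n) hF) W')
    (hs : a' + u₀ ∈ Sset hF M)
    (hss : Cfsg.hermForm n F q (a' + u₀) (a' + u₀) = 0) :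
    ∀ x, Cfsg.hermForm n F q x x = 0 →
      x ∈ uperp (herm_unitary (n := n) hF) (W' ⊓ pp (herm_unitary (n := n) hF) a') →
      x ∈ Sset hF M := by
  have hf := herm_unitary (n := n) hF
  intro x hxx hx
  obtain ⟨r, hrdef⟩ : ∃ r, r = Cfsg.hermForm n F q a' a' := ⟨_, rfl⟩
  have hr0 : r ≠ 0 := by rw [hrdef]; exact ha'a'
  obtain ⟨l, hldef⟩ : ∃ l, l = Cfsg.hermForm n F q x a' / r := ⟨_, rfl⟩
  obtain ⟨u, hudef⟩ : ∃ u, u = x - l • a' := ⟨_, rfl⟩
  have hua' : Cfsg.hermForm n F q u a' = 0 := by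
    rw [hudef, u_sub_left hf, hf.smul_left, hldef, ← hrdef, div_mul_cancel₀ _ hr0, sub_self]
  have huU : u ∈ uperp hf W' := by
    intro w hw
    have hw'' : w - (Cfsg.hermForm n F q w a' / r) • a' ∈ W' ⊓ pp hf a' := by
      refine Submodule.mem_inf.mpr ⟨W'.sub_mem hw (W'.smul_mem _ ha'W), ?_⟩
      rw [mem_pp, u_sub_left hf, hf.smul_left, ← hrdef, div_mul_cancel₀ _ hr0, sub_self]
    have h1 : Cfsg.hermForm n F q x (w - (Cfsg.hermForm n F q w a' / r) • a') = 0 := hx _ hw''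
    have h2 : Cfsg.hermForm n F q a' (w - (Cfsg.hermForm n F q w a' / r) • a') = 0 :=
      u_symm_zero hf ((mem_pp hf).mp (Submodule.mem_inf.mp hw'').2)
    have h3 : w = (w - (Cfsg.hermForm n F q w a' / r) • a') +
        (Cfsg.hermForm n F q w a' / r) • a' := by abel
    rw [h3, u_add_right hf, u_smul_right hf, hua', mul_zero, add_zero, hudef, u_sub_left hf,
      hf.smul_left, h1, h2]
    ring
  have hxdec : x = l • a' + u := by rw [hudef]; abel
  have ha'U : ∀ y ∈ uperp hf W', Cfsg.hermForm n F q a' y = 0 :=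
    fun y hy => uperp_symm hf hy ha'W
  by_cases hl0 : l = 0
  · have hux : u = x := by rw [hudef, hl0, zero_smul, sub_zero]
    rw [hux] at huU
    exact hIU x hxx huU
  have hl0' : frobQ hF l ≠ 0 := by rwa [Ne, map_eq_zero]
  have hu₀n : Cfsg.hermForm n F q u₀ u₀ = -r := by
    rw [hf.add_left, u_add_right hf, u_add_right hf, ha'U u₀ hu₀,
      u_symm_zero hf (ha'U u₀ hu₀)] at hss
    rw [hrdef]
    linear_combination hss
  have hun : Cfsg.hermForm n F q u u = -(l * frobQ hF l) * r := by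
    have h4 := hxx
    rw [hxdec, hf.add_left, u_add_right hf, u_add_right hf, hf.smul_left, hf.smul_left,
      u_smul_right hf, u_smul_right hf, ha'U u huU, u_symm_zero hf (ha'U u huU)] at h4
    rw [hrdef]
    linear_combination h4
  have hu'n : Cfsg.hermForm n F q (l⁻¹ • u) (l⁻¹ • u) = -r := by
    rw [hf.smul_left, u_smul_right hf, hun, map_inv₀]
    field_simp
  obtain ⟨t, ht, htu⟩ := Tr hF (ND_uperp hf hW') hd hu₀ ((uperp hf W').smul_mem l⁻¹ huU)
    (by rw [hu₀n, hu'n]) (by rw [hu₀n]; exact neg_ne_zero.mpr hr0)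
  have hta' : av t a' = a' := TU_fix ht ha'U
  have h5 : av t (a' + u₀) = a' + l⁻¹ • u := by rw [av_add, hta', htu]
  have h6 := Sset_of_TU hF (fun y hy hyy => hIU y hyy hy) ht hs
  rw [h5] at h6
  have h7 := Sset_smul hF h6 l
  rw [smul_add, smul_smul, mul_inv_cancel₀ hl0, one_smul] at h7
  rw [hxdec]
  exact h7

/-- the induction over a shrinking non-degenerate subspace of `W` -/
lemma induct (hF : Fintype.card F = q ^ 2) {M : Subgroup (GL (Fin n) F)}
    {W : Submodule F (Fin n → F)}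
    (hPd : 4 ≤ Module.finrank F (uperp (herm_unitary (n := n) hF) W))
    (hIW : ∀ x ∈ W, Cfsg.hermForm n F q x x = 0 → x ∈ Sset hF M) :
    ∀ m : ℕ, ∀ W' : Submodule F (Fin n → F), W' ≤ W → ND (Cfsg.hermForm n F q) W' →
      Module.finrank F W' = m →
      (∃ a ∈ W, a ∈ uperp (herm_unitary (n := n) hF) W' ∧ Cfsg.hermForm n F q a a ≠ 0) →
      (∀ x, Cfsg.hermForm n F q x x = 0 → x ∈ uperp (herm_unitary (n := n) hF) W' →
        x ∈ Sset hF M) →
      ∀ x, Cfsg.hermForm n F q x x = 0 → x ∈ Sset hF M := by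
  have hf := herm_unitary (n := n) hF
  intro m
  induction m using Nat.strong_induction_on with
  | _ m ih =>
    intro W' hW'W hW' hm ha hIU x hxx
    by_cases hbot : W' = ⊥
    · apply hIU x hxx
      intro w hw
      rw [hbot, Submodule.mem_bot] at hw
      rw [hw, u_zero_right hf]
    obtain ⟨z, hzW', hz0⟩ := (Submodule.ne_bot_iff W').mp hbot
    obtain ⟨a', ha'W', ha'a'⟩ := exists_noniso hf hW' ⟨z, hzW', hz0⟩
    obtain ⟨a, haW, haU, haa⟩ := ha
    have hd : 4 ≤ Module.finrank F (uperp hf W') :=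
      le_trans hPd (Submodule.finrank_mono (uperp_anti hf hW'W))
    obtain ⟨μ, hμ⟩ := norm_surj hf.involutive hf.ne_refl
      (-(Cfsg.hermForm n F q a' a') / Cfsg.hermForm n F q a a)
      (div_ne_zero (neg_ne_zero.mpr ha'a') haa)
      (by rw [map_div₀, map_neg, u_self_fixed hf, u_self_fixed hf])
    have ha'a : Cfsg.hermForm n F q a' a = 0 := uperp_symm hf haU ha'W'
    have hss : Cfsg.hermForm n F q (a' + μ • a) (a' + μ • a) = 0 := by
      rw [u_expand hf, ha'a, u_symm_zero hf ha'a, hμ, div_mul_cancel₀ _ haa]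
      ring
    have hs : a' + μ • a ∈ Sset hF M :=
      hIW _ (W.add_mem (hW'W ha'W') (W.smul_mem _ haW)) hss
    have hIU' := grow hF hW' hd hIU ha'W' ha'a' ((uperp hf W').smul_mem μ haU) hs hss
    have hlt : Module.finrank F ↥(W' ⊓ pp hf a') < Module.finrank F W' := by
      apply Submodule.finrank_lt_finrank_of_lt
      refine lt_of_le_of_ne inf_le_left (fun h => ?_)
      have h1 : a' ∈ W' ⊓ pp hf a' := by rw [h]; exact ha'W'
      exact ha'a' ((mem_pp hf).mp (Submodule.mem_inf.mp h1).2)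
    exact ih _ (by rw [← hm]; exact hlt) (W' ⊓ pp hf a') (le_trans inf_le_left hW'W)
      (ND_noniso hf hW' ha'W' ha'a') rfl
      ⟨a', hW'W ha'W', fun w hw => u_symm_zero hf ((mem_pp hf).mp (Submodule.mem_inf.mp hw).2),
        ha'a'⟩ hIU' x hxx

/-- from a mixed vector with isotropic components to one with anisotropic components -/
lemma type1 (hF : Fintype.card F = q ^ 2) {M : Subgroup (GL (Fin n) F)}
    {W : Submodule F (Fin n → F)} (hWnd : ND (Cfsg.hermForm n F q) W)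
    (hPd : 3 ≤ Module.finrank F (uperp (herm_unitary (n := n) hF) W))
    (hIW : ∀ x ∈ W, Cfsg.hermForm n F q x x = 0 → x ∈ Sset hF M)
    (hIP : ∀ x ∈ uperp (herm_unitary (n := n) hF) W, Cfsg.hermForm n F q x x = 0 →
      x ∈ Sset hF M)
    {a b : Fin n → F} (haW : a ∈ W) (hbP : b ∈ uperp (herm_unitary (n := n) hF) W)
    (ha0 : a ≠ 0) (hb0 : b ≠ 0) (haa : Cfsg.hermForm n F q a a = 0)
    (hbb : Cfsg.hermForm n F q b b = 0) (hs : a + b ∈ Sset hF M) :
    ∃ a' ∈ W, ∃ b' ∈ uperp (herm_unitary (n := n) hF) W, Cfsg.hermForm n F q a' a' ≠ 0 ∧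
      Cfsg.hermForm n F q (a' + b') (a' + b') = 0 ∧ a' + b' ∈ Sset hF M := by
  have hf := herm_unitary (n := n) hF
  have hPnd := ND_uperp hf hWnd
  have hWP : ∀ w ∈ W, ∀ p ∈ uperp hf W, Cfsg.hermForm n F q w p = 0 :=
    fun w hw p hp => uperp_symm hf hp hw
  have hPW : ∀ p ∈ uperp hf W, ∀ w ∈ W, Cfsg.hermForm n F q p w = 0 := fun p hp w hw => hp w hw
  obtain ⟨a₁, ha₁W, ha₁a₁, haa₁⟩ := exists_partner hf hWnd haW ha0 haa
  obtain ⟨b₁, hb₁P, hb₁b₁, hbb₁⟩ := exists_partner hf hPnd hbP hb0 hbb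
  obtain ⟨c, hc0, hc⟩ := exists_skew hf.involutive hf.ne_refl
  obtain ⟨τ, hτ⟩ := exists_tr_ne hf.involutive hf.ne_refl
  have hy₀ := Sset_tv hF hs (hIW a₁ ha₁W ha₁a₁) ha₁a₁ hc
  have h1 : Cfsg.hermForm n F q (a + b) a₁ = 1 := by
    rw [hf.add_left, haa₁, hPW b hbP a₁ ha₁W, add_zero]
  rw [h1, mul_one] at hy₀
  obtain ⟨a₂, ha₂def⟩ : ∃ a₂, a₂ = a + c • a₁ := ⟨_, rfl⟩
  have ha₂W : a₂ ∈ W := by rw [ha₂def]; exact W.add_mem haW (W.smul_mem _ ha₁W)
  have ha₂a₂ : Cfsg.hermForm n F q a₂ a₂ = 0 := by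
    rw [ha₂def, u_expand hf, haa, ha₁a₁, haa₁, hf.herm a₁ a, haa₁, map_one, hc]
    ring
  have haa₂ : Cfsg.hermForm n F q a a₂ = -c := by
    rw [ha₂def, u_add_right hf, u_smul_right hf, haa, haa₁, hc]
    ring
  obtain ⟨b₂, hb₂def⟩ : ∃ b₂, b₂ = frobQ hF τ • b₁ := ⟨_, rfl⟩
  have hτ0 : τ ≠ 0 := by
    rintro rfl
    apply hτ
    rw [map_zero, add_zero]
  have hb₁0 : b₁ ≠ 0 := by
    rintro rfl
    rw [u_zero_right hf] at hbb₁
    exact zero_ne_one hbb₁
  have hb₂0 : b₂ ≠ 0 := by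
    rw [hb₂def]
    exact smul_ne_zero ((map_ne_zero _).mpr hτ0) hb₁0
  have hb₂P : b₂ ∈ uperp hf W := by rw [hb₂def]; exact (uperp hf W).smul_mem _ hb₁P
  have hb₂b₂ : Cfsg.hermForm n F q b₂ b₂ = 0 := by
    rw [hb₂def, hf.smul_left, u_smul_right hf, hb₁b₁]
    ring
  have hbb₂ : Cfsg.hermForm n F q b b₂ = τ := by
    rw [hb₂def, u_smul_right hf, hf.involutive, hbb₁, mul_one]
  obtain ⟨t, ht, htb⟩ := T0 hF hPnd hPd hbP hb₂P hb0 hb₂0 hbb hb₂b₂
  have hta₂ : av t a₂ = a₂ := TU_fix ht (fun u hu => hWP a₂ ha₂W u hu)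
  have hy : a₂ + b₂ ∈ Sset hF M := by
    have h2 := Sset_of_TU hF hIP ht hy₀
    have h3 : a + b + c • a₁ = a₂ + b := by rw [ha₂def]; abel
    rw [h3, av_add, hta₂, htb] at h2
    exact h2
  have hyy : Cfsg.hermForm n F q (a₂ + b₂) (a₂ + b₂) = 0 := by
    rw [hf.add_left, u_add_right hf, u_add_right hf, ha₂a₂, hb₂b₂, hWP a₂ ha₂W b₂ hb₂P,
      hPW b₂ hb₂P a₂ ha₂W]
    ring
  have hxx : Cfsg.hermForm n F q (a + b) (a + b) = 0 := by
    rw [hf.add_left, u_add_right hf, u_add_right hf, haa, hbb, hWP a haW b hbP, hPW b hbP a haW]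
    ring
  have hxy : Cfsg.hermForm n F q (a + b) (a₂ + b₂) = -c + τ := by
    rw [hf.add_left, u_add_right hf, u_add_right hf, haa₂, hbb₂, hWP a haW b₂ hb₂P,
      hPW b hbP a₂ ha₂W]
    ring
  have hs' := Sset_tv hF hs hy hyy hc
  rw [hxy] at hs'
  obtain ⟨l, hldef⟩ : ∃ l, l = c * (-c + τ) := ⟨_, rfl⟩
  rw [← hldef] at hs'
  have hσl : frobQ hF l = -c * (c + frobQ hF τ) := by
    rw [hldef, map_mul, map_add, map_neg, hc]
    ring
  have hrew : a + l • a₂ + (b + l • b₂) = (a + b) + l • (a₂ + b₂) := by module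
  refine ⟨a + l • a₂, W.add_mem haW (W.smul_mem _ ha₂W), b + l • b₂,
    (uperp hf W).add_mem hbP ((uperp hf W).smul_mem _ hb₂P), ?_, ?_, ?_⟩
  · have hnorm : Cfsg.hermForm n F q (a + l • a₂) (a + l • a₂) =
        c * c * (τ + frobQ hF τ) := by
      rw [u_expand hf, haa, ha₂a₂, hf.herm a₂ a, haa₂, map_neg, hc, hσl, hldef]
      ring
    rw [hnorm]
    exact mul_ne_zero (mul_ne_zero hc0 hc0) hτ
  · rw [hrew, u_expand hf, hxx, hyy, hf.herm (a₂ + b₂) (a + b), hxy, hσl, hldef, map_add,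
      map_neg, hc]
    ring
  · rw [hrew]
    exact hs'

/-- an isotropic vector of the complement moved to a mixed vector -/
lemma exists_mixed (hF : Fintype.card F = q ^ 2) {W : Submodule F (Fin n → F)}
    (hWnd : ND (Cfsg.hermForm n F q) W)
    (hdim : Module.finrank F W < Module.finrank F (uperp (herm_unitary (n := n) hF) W))
    (hPd : 3 ≤ Module.finrank F (uperp (herm_unitary (n := n) hF) W))
    {g : GL (Fin n) F} (hgU : g ∈ Cfsg.GU n F q)
    (hg : g ∉ Cfsg.Geo.subspaceStabilizer W) :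
    ∃ s ∈ uperp (herm_unitary (n := n) hF) W, Cfsg.hermForm n F q s s = 0 ∧
      (g : Matrix (Fin n) (Fin n) F) *ᵥ s ∉ W ∧
      (g : Matrix (Fin n) (Fin n) F) *ᵥ s ∉ uperp (herm_unitary (n := n) hF) W := by
  have hf := herm_unitary (n := n) hF
  have hPnd := ND_uperp hf hWnd
  by_contra hcon
  have hU : ∀ s ∈ uperp hf W, Cfsg.hermForm n F q s s = 0 →
      ((g : Matrix (Fin n) (Fin n) F) *ᵥ s ∈ W ∨
        (g : Matrix (Fin n) (Fin n) F) *ᵥ s ∈ uperp hf W) := by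
    intro s hs hss
    by_contra h
    push Not at h
    exact hcon ⟨s, hs, hss, h.1, h.2⟩
  have hcl : (∀ s ∈ uperp hf W, Cfsg.hermForm n F q s s = 0 →
      (g : Matrix (Fin n) (Fin n) F) *ᵥ s ∈ W) ∨
      (∀ s ∈ uperp hf W, Cfsg.hermForm n F q s s = 0 →
        (g : Matrix (Fin n) (Fin n) F) *ᵥ s ∈ uperp hf W) := by
    by_contra h'
    push Not at h'
    obtain ⟨⟨s₁, hs₁P, hs₁s₁, h1⟩, ⟨s₂, hs₂P, hs₂s₂, h2⟩⟩ := h'
    have h1' := (hU s₁ hs₁P hs₁s₁).resolve_left h1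
    have h2' := (hU s₂ hs₂P hs₂s₂).resolve_right h2
    obtain ⟨l, hl0, hl⟩ := exists_iso_comb hf hs₁s₁ hs₂s₂
    rcases hU (s₁ + l • s₂) ((uperp hf W).add_mem hs₁P ((uperp hf W).smul_mem _ hs₂P)) hl
      with h3 | h3
    · rw [Matrix.mulVec_add, Matrix.mulVec_smul] at h3
      exact h1 ((W.add_mem_iff_left (W.smul_mem _ h2')).mp h3)
    · rw [Matrix.mulVec_add, Matrix.mulVec_smul] at h3
      have h4 := ((uperp hf W).add_mem_iff_right h1').mp h3
      apply h2
      have h5 := (uperp hf W).smul_mem l⁻¹ h4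
      rwa [smul_smul, inv_mul_cancel₀ hl0, one_smul] at h5
  have hspan : ∀ (X : Submodule F (Fin n → F)),
      (∀ s ∈ uperp hf W, Cfsg.hermForm n F q s s = 0 →
        (g : Matrix (Fin n) (Fin n) F) *ᵥ s ∈ X) →
      ∀ x ∈ uperp hf W, (g : Matrix (Fin n) (Fin n) F) *ᵥ x ∈ X := by
    intro X hX x hx
    obtain ⟨b₁, h1U, b₂, h2U, b₃, h3U, h1, h2, h3, hsum⟩ := exists_iso_decomp hf hPnd hPd hx
    rw [hsum, Matrix.mulVec_add, Matrix.mulVec_add]
    exact X.add_mem (X.add_mem (hX b₁ h1U h1) (hX b₂ h2U h2)) (hX b₃ h3U h3)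
  rcases hcl with h1 | h1
  · have h2 := finrank_le_of_maps (hspan W h1)
    omega
  · have hgP : g ∈ Cfsg.Geo.subspaceStabilizer (uperp hf W) :=
      mem_stab_of_maps_le (hspan _ h1)
    apply hg
    apply mem_stab_of_maps_le
    intro w hw
    rw [← uperp_uperp hf hWnd]
    intro p hp
    have hp' : ((g⁻¹ : GL (Fin n) F) : Matrix (Fin n) (Fin n) F) *ᵥ p ∈ uperp hf W :=
      (mem_stab.mp (inv_mem hgP) p).mp hp
    have h3 : Cfsg.hermForm n F q ((g : Matrix (Fin n) (Fin n) F) *ᵥ w) p =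
        Cfsg.hermForm n F q w (((g⁻¹ : GL (Fin n) F) : Matrix (Fin n) (Fin n) F) *ᵥ p) := by
      rw [← mem_GU.mp hgU w, mul_inv_mulVec]
    rw [h3]
    exact uperp_symm hf hp' hw

theorem main (hF : Fintype.card F = q ^ 2) (hn : 13 ≤ n) (W : Submodule F (Fin n → F))
    (hW0 : W ≠ ⊥) (hW : Cfsg.Geo.IsNondegenerateOn (Cfsg.hermForm n F q) W)
    (hdim : 2 * Module.finrank F W < n) :
    Cfsg.Geo.IsMaximalIn (Cfsg.GU n F q ⊓ Cfsg.Geo.specialLinear (Fin n) F)
      (Cfsg.Geo.subspaceStabilizer W ⊓ (Cfsg.GU n F q ⊓ Cfsg.Geo.specialLinear (Fin n) F)) := by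
  have hf := herm_unitary (n := n) hF
  have hWnd : ND (Cfsg.hermForm n F q) W := fun u hu hu0 => (hW u hu hu0).1
  have hPnd := ND_uperp hf hWnd
  have hfr := finrank_add hf hWnd
  have hPd : 7 ≤ Module.finrank F (uperp hf W) := by omega
  have hWP : ∀ w ∈ W, ∀ p ∈ uperp hf W, Cfsg.hermForm n F q w p = 0 :=
    fun w hw p hp => uperp_symm hf hp hw
  have hPW : ∀ p ∈ uperp hf W, ∀ w ∈ W, Cfsg.hermForm n F q p w = 0 := fun p hp w hw => hp w hw
  refine ⟨?_, ?_⟩
  · rw [lt_iff_le_and_ne]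
    refine ⟨inf_le_right, fun heq => ?_⟩
    obtain ⟨a, haW, ha0⟩ := (Submodule.ne_bot_iff W).mp hW0
    obtain ⟨b, hbP, hb0, hbb⟩ : ∃ b ∈ uperp hf W, b ≠ 0 ∧
        Cfsg.hermForm n F q b b = -(Cfsg.hermForm n F q a a) := by
      by_cases haa : Cfsg.hermForm n F q a a = 0
      · obtain ⟨e, heP, he0, hee⟩ := exists_iso hf hPnd (by omega)
        exact ⟨e, heP, he0, by rw [hee, haa, neg_zero]⟩
      · obtain ⟨u, huP, huu⟩ := exists_norm hf hPnd (by omega) (-(Cfsg.hermForm n F q a a))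
          (by rw [map_neg, u_self_fixed hf])
        refine ⟨u, huP, ?_, huu⟩
        rintro rfl
        rw [u_zero_left hf] at huu
        exact haa (by linear_combination huu)
    have hss : Cfsg.hermForm n F q (a + b) (a + b) = 0 := by
      rw [hf.add_left, u_add_right hf, u_add_right hf, hbb, hWP a haW b hbP, hPW b hbP a haW]
      ring
    obtain ⟨c, hc0, hc⟩ := exists_skew hf.involutive hf.ne_refl
    obtain ⟨g, hgG, hg⟩ := exists_tvg hF hss hc
    have hgH : g ∈ Cfsg.Geo.subspaceStabilizer W ⊓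
        (Cfsg.GU n F q ⊓ Cfsg.Geo.specialLinear (Fin n) F) := by rw [heq]; exact hgG
    obtain ⟨x, hxW, hxa⟩ := hWnd a haW ha0
    have h1 := (mem_stab.mp hgH.1 x).mp hxW
    have h2 : Cfsg.hermForm n F q x (a + b) = Cfsg.hermForm n F q x a := by
      rw [u_add_right hf, hWP x hxW b hbP, add_zero]
    rw [hg, h2, W.add_mem_iff_right hxW] at h1
    have h3 : a + b ∈ W := by
      have h4 := W.smul_mem (c * Cfsg.hermForm n F q x a)⁻¹ h1
      rwa [smul_smul, inv_mul_cancel₀ (mul_ne_zero hc0 hxa), one_smul] at h4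
    have h5 : b ∈ W := (W.add_mem_iff_right haW).mp h3
    exact hb0 (inf_uperp hf hWnd h5 hbP)
  · intro M hHM hMG
    by_cases hMH : M = Cfsg.Geo.subspaceStabilizer W ⊓
        (Cfsg.GU n F q ⊓ Cfsg.Geo.specialLinear (Fin n) F)
    · left; exact hMH
    right
    apply le_antisymm hMG
    obtain ⟨g, hgM, hgH⟩ : ∃ g ∈ M, g ∉ Cfsg.Geo.subspaceStabilizer W ⊓
        (Cfsg.GU n F q ⊓ Cfsg.Geo.specialLinear (Fin n) F) := by
      by_contra hcon
      push Not at hcon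
      exact hMH (le_antisymm hcon hHM)
    have hgS : g ∉ Cfsg.Geo.subspaceStabilizer W := fun h => hgH ⟨h, hMG hgM⟩
    have hgU : g ∈ Cfsg.GU n F q := (hMG hgM).1
    have hIW : ∀ x ∈ W, Cfsg.hermForm n F q x x = 0 → x ∈ Sset hF M :=
      fun x hx hxx => mem_Sset_of_mem hF hHM hx hxx
    have hIP : ∀ x ∈ uperp hf W, Cfsg.hermForm n F q x x = 0 → x ∈ Sset hF M :=
      fun x hx hxx => mem_Sset_of_perp hF hHM (fun w hw => uperp_symm hf hx hw) hxx
    obtain ⟨s, hsP, hss, hgsW, hgsP⟩ := exists_mixed hF hWnd (by omega) (by omega) hgU hgS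
    have hgsS := Sset_mulVec_mem hF hgM hgU (hIP s hsP hss)
    have hgss : Cfsg.hermForm n F q ((g : Matrix (Fin n) (Fin n) F) *ᵥ s)
        ((g : Matrix (Fin n) (Fin n) F) *ᵥ s) = 0 := by rw [mem_GU.mp hgU]; exact hss
    obtain ⟨a, haW, hbP⟩ := exists_decomp hf hWnd ((g : Matrix (Fin n) (Fin n) F) *ᵥ s)
    obtain ⟨b, hbdef⟩ : ∃ b, b = (g : Matrix (Fin n) (Fin n) F) *ᵥ s - a := ⟨_, rfl⟩
    rw [← hbdef] at hbP
    have hdec : (g : Matrix (Fin n) (Fin n) F) *ᵥ s = a + b := by rw [hbdef]; abel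
    rw [hdec] at hgsS hgss hgsW hgsP
    have ha0 : a ≠ 0 := by
      rintro rfl
      apply hgsP
      rw [zero_add]
      exact hbP
    have hb0 : b ≠ 0 := by
      rintro rfl
      apply hgsW
      rw [add_zero]
      exact haW
    obtain ⟨a', ha'W, b', hb'P, ha'a', hs's', hs'S⟩ : ∃ a' ∈ W, ∃ b' ∈ uperp hf W,
        Cfsg.hermForm n F q a' a' ≠ 0 ∧ Cfsg.hermForm n F q (a' + b') (a' + b') = 0 ∧
        a' + b' ∈ Sset hF M := by
      by_cases haa : Cfsg.hermForm n F q a a = 0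
      · have hbb : Cfsg.hermForm n F q b b = 0 := by
          have h4 := hgss
          rw [hf.add_left, u_add_right hf, u_add_right hf, haa, hWP a haW b hbP,
            hPW b hbP a haW] at h4
          linear_combination h4
        exact type1 hF hWnd (by omega) hIW hIP haW hbP ha0 hb0 haa hbb hgsS
      · exact ⟨a, haW, b, hbP, haa, hgss, hgsS⟩
    have hIU₁ := grow hF hWnd (by omega) (fun x hxx hx => hIP x hx hxx) ha'W ha'a' hb'P hs'S hs's'
    apply Cfsg.Agent.Lib.Helper5.SUMax.le_of_forall_mem_Sset hF (by omega) (by omega)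
    intro v hvv
    exact induct hF (by omega) hIW _ (W ⊓ pp hf a') inf_le_left
      (ND_noniso hf hWnd ha'W ha'a') rfl
      ⟨a', ha'W, fun w hw => u_symm_zero hf ((mem_pp hf).mp (Submodule.mem_inf.mp hw).2),
        ha'a'⟩ hIU₁ v hvv

end S5654aux
end Aux

/-- Let F be the field with q² elements and n ≥ 13. In SU_n(q) (determinant-one isometries of the standard unitary form on F^n) the stabiliser of a non-zero subspace W on which the form is non-degenerate and with 2 dim W < n is a maximal subgroup. -/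
theorem result {F : Type*} [Field F] [Fintype F] (n q : ℕ) (hF : Fintype.card F = q ^ 2) (hn : 13 ≤ n) (W : Submodule F (Fin n → F)) (hW0 : W ≠ ⊥) (hW : Cfsg.Geo.IsNondegenerateOn (Cfsg.hermForm n F q) W) (hdim : 2 * Module.finrank F W < n) : Cfsg.Geo.IsMaximalIn (Cfsg.GU n F q ⊓ Cfsg.Geo.specialLinear (Fin n) F) (Cfsg.Geo.subspaceStabilizer W ⊓ (Cfsg.GU n F q ⊓ Cfsg.Geo.specialLinear (Fin n) F)) := by
  exact S5654aux.main hF hn W hW0 hW hdim

end Cfsg.Agent.S5654
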