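import Cfsg.Statements.S5656
import Mathlib
import Cfsg.Agent.Lib.Helper14.Unitary

set_option autoImplicit false
open Cfsg

namespace Cfsg.Agent.S5656

section Aux
set_option linter.unusedSectionVars false
set_option linter.unusedVariables false
namespace S5656aux
open Cfsg Matrix Cfsg.Agent.Lib.Helper14

section Decomp
variable {F V : Type*} [Field F] [AddCommGroup V] [Module F V] {ι : Type*} [Fintype ι] [DecidableEq ι]
  (D : ι → Submodule F V) (hInt : DirectSum.IsInternal D)

/-- the decomposition isomorphism -/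
noncomputable def Φ : (DirectSum ι fun i => D i) ≃ₗ[F] V :=
  LinearEquiv.ofBijective (DirectSum.coeLinearMap D) hInt

/-- components -/
noncomputable def comp (v : V) (i : ι) : V := (((Φ D hInt).symm v) i : V)

lemma comp_mem (v : V) (i : ι) : comp D hInt v i ∈ D i := Subtype.property _

lemma sum_comp (v : V) : ∑ i, comp D hInt v i = v := by
  have h1 : (Φ D hInt) ((Φ D hInt).symm v) = v := LinearEquiv.apply_symm_apply _ _
  conv_rhs => rw [← h1]
  conv_rhs => rw [← DirectSum.sum_univ_of ((Φ D hInt).symm v)]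
  rw [map_sum]
  apply Finset.sum_congr rfl
  intro i _
  change _ = DirectSum.coeLinearMap D _
  rw [DirectSum.coeLinearMap_of]
  rfl

lemma comp_add (u v : V) (i : ι) : comp D hInt (u + v) i = comp D hInt u i + comp D hInt v i := by
  unfold comp
  rw [map_add, DirectSum.add_apply, Submodule.coe_add]

lemma comp_zero (i : ι) : comp D hInt 0 i = 0 := by
  unfold comp
  rw [map_zero, DirectSum.zero_apply, Submodule.coe_zero]

lemma comp_sum {κ : Type*} (s : Finset κ) (g : κ → V) (i : ι) :
    comp D hInt (∑ k ∈ s, g k) i = ∑ k ∈ s, comp D hInt (g k) i := by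
  classical
  induction s using Finset.induction_on with
  | empty => simp [comp_zero]
  | insert a s ha ih => rw [Finset.sum_insert ha, Finset.sum_insert ha, comp_add, ih]

lemma comp_of_mem {x : V} {j : ι} (hx : x ∈ D j) (i : ι) :
    comp D hInt x i = if i = j then x else 0 := by
  have h1 : (Φ D hInt).symm x = DirectSum.of (fun i => D i) j ⟨x, hx⟩ := by
    rw [LinearEquiv.symm_apply_eq]
    change x = DirectSum.coeLinearMap D _
    rw [DirectSum.coeLinearMap_of]
  unfold comp
  rw [h1]
  by_cases hij : i = j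
  · subst hij
    rw [DirectSum.of_eq_same, if_pos rfl]
  · rw [DirectSum.of_eq_of_ne _ _ _ hij, if_neg hij, Submodule.coe_zero]

/-- uniqueness of components -/
lemma comp_eq_of_sum (a : ι → V) (ha : ∀ i, a i ∈ D i) (i : ι) :
    comp D hInt (∑ j, a j) i = a i := by
  rw [comp_sum]
  have : ∀ j ∈ Finset.univ, comp D hInt (a j) i = if i = j then a j else 0 :=
    fun j _ => comp_of_mem D hInt (ha j) i
  rw [Finset.sum_congr rfl this, Finset.sum_ite_eq Finset.univ i a]
  simp

end Decomp

section F4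
variable {F : Type*} [Field F] [Fintype F] (hF : Fintype.card F = 4)

include hF in
lemma one_add_one : (1 : F) + 1 = 0 := by
  have h4 : ((Fintype.card F : ℕ) : F) = 0 := Nat.cast_card_eq_zero F
  rw [hF] at h4
  have h5 : ((1 : F) + 1) ^ 2 = 0 := by
    have h6 : ((4 : ℕ) : F) = (1 + 1) ^ 2 := by push_cast; ring
    rw [← h6]; exact h4
  exact (pow_eq_zero_iff two_ne_zero).mp h5

include hF in
lemma add_self (x : F) : x + x = 0 := by
  have := one_add_one hF
  linear_combination x * this

include hF in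
lemma add_self_vec {V : Type*} [AddCommGroup V] [Module F V] (x : V) : x + x = 0 := by
  rw [← two_smul F x]
  have : (2 : F) = 0 := by rw [← one_add_one_eq_two]; exact one_add_one hF
  rw [this, zero_smul]

include hF in
lemma cube_eq_one {x : F} (hx : x ≠ 0) : x ^ 3 = 1 := by
  have := FiniteField.pow_card_sub_one_eq_one x hx
  rwa [hF] at this

include hF in
lemma exists_omega : ∃ ω : F, ω ≠ 0 ∧ ω ≠ 1 := by
  classical
  have h : ({0, 1} : Finset F).card < (Finset.univ : Finset F).card := by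
    rw [Finset.card_univ, hF]
    calc _ ≤ 2 := Finset.card_le_two
    _ < 4 := by norm_num
  obtain ⟨x, _, hx⟩ := Finset.exists_mem_notMem_of_card_lt_card h
  simp only [Finset.mem_insert, Finset.mem_singleton, not_or] at hx
  exact ⟨x, hx.1, hx.2⟩

omit [Fintype F] in
lemma eq_zero_or_one_of_sq {z : F} (h : z ^ 2 = z) : z = 0 ∨ z = 1 := by
  have h1 : z * (z - 1) = 0 := by rw [mul_sub, mul_one, ← pow_two, h, sub_self]
  rcases mul_eq_zero.mp h1 with h2 | h2
  · exact Or.inl h2
  · exact Or.inr (sub_eq_zero.mp h2)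

end F4

section Form
variable {F : Type*} [Field F] [Fintype F] {n : ℕ}

/-- the hermitian form -/
def hf (u v : Fin n → F) : F := hermForm n F 2 u v

omit [Fintype F] in
lemma hf_add_left (u u' v : Fin n → F) : hf (u + u') v = hf u v + hf u' v :=
  hermForm_add_left u u' v

omit [Fintype F] in
lemma hf_smul_left (a : F) (u v : Fin n → F) : hf (a • u) v = a * hf u v :=
  hermForm_smul_left a u v

omit [Fintype F] in
lemma hf_zero_left (v : Fin n → F) : hf (0 : Fin n → F) v = 0 := hermForm_zero_left v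

omit [Fintype F] in
lemma hf_smul_right (a : F) (u v : Fin n → F) : hf u (a • v) = a ^ 2 * hf u v :=
  hermForm_smul_right a u v

variable (hF : Fintype.card F = 4)
include hF

omit [Field F] in
lemma card_eq : Fintype.card F = 2 ^ 2 := by rw [hF]; norm_num

lemma hf_add_right (u v v' : Fin n → F) : hf u (v + v') = hf u v + hf u v' := by
  classical
  exact hermForm_add_right (card_eq hF) u v v'

lemma hf_conj (u v : Fin n → F) : hf u v ^ 2 = hf v u := by
  classical
  exact hermForm_conj (card_eq hF) u v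

lemma hf_zero_right (u : Fin n → F) : hf u (0 : Fin n → F) = 0 := by
  classical
  exact hermForm_zero_right (card_eq hF) u

lemma hf_self_01 (u : Fin n → F) : hf u u = 0 ∨ hf u u = 1 :=
  eq_zero_or_one_of_sq (hf_conj hF u u)

lemma hf_symm_zero {u v : Fin n → F} (h : hf u v = 0) : hf v u = 0 := by
  rw [← hf_conj hF, h]; ring

end Form

section Transv
variable {F : Type*} [Field F] [Fintype F] {n : ℕ}

/-- matrix of the unitary transvection -/
def tvM (a : Fin n → F) : Matrix (Fin n) (Fin n) F :=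
  1 + Matrix.vecMulVec a (fun j => a j ^ 2)

omit [Fintype F] in
lemma tvM_mulVec (a v : Fin n → F) : tvM a *ᵥ v = v + hf v a • a := by
  unfold tvM
  rw [Matrix.add_mulVec, Matrix.one_mulVec, Matrix.vecMulVec_mulVec]
  congr 1
  ext i
  have : (fun j => a j ^ 2) ⬝ᵥ v = hf v a := by
    simp only [dotProduct, hf, hermForm]
    apply Finset.sum_congr rfl
    intro j _
    ring
  simp [this, mul_comm]

omit [Fintype F] in
lemma tvM_det (a : Fin n → F) (ha : hf a a = 0) : (tvM a).det = 1 := by
  have h1 : tvM a = 1 + Matrix.replicateCol Unit a * Matrix.replicateRow Unit (fun j => a j ^ 2) := by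
    unfold tvM; congr 1
    ext i j; simp [Matrix.vecMulVec_apply, Matrix.mul_apply]
  have h2 : (fun j => a j ^ 2) ⬝ᵥ a = hf a a := by
    simp only [dotProduct, hf, hermForm]
    apply Finset.sum_congr rfl
    intro j _
    ring
  rw [h1, Matrix.det_one_add_replicateCol_mul_replicateRow, h2, ha, add_zero]

/-- the unitary transvection as an element of GL -/
noncomputable def tv (a : Fin n → F) (ha : hf a a = 0) : GL (Fin n) F :=
  Matrix.GeneralLinearGroup.mkOfDetNeZero (tvM a) (by rw [tvM_det a ha]; exact one_ne_zero)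

omit [Fintype F] in
lemma tv_mulVec (a : Fin n → F) (ha : hf a a = 0) (v : Fin n → F) :
    ((tv a ha : GL (Fin n) F) : Matrix (Fin n) (Fin n) F) *ᵥ v = v + hf v a • a := by
  change tvM a *ᵥ v = _
  exact tvM_mulVec a v

omit [Fintype F] in
lemma tv_mem_SL (a : Fin n → F) (ha : hf a a = 0) : tv a ha ∈ Geo.specialLinear (Fin n) F := by
  change _ ∈ (Matrix.GeneralLinearGroup.det : GL (Fin n) F →* Fˣ).ker
  rw [MonoidHom.mem_ker]
  apply Units.ext
  simp [tv, tvM_det a ha]

variable (hF : Fintype.card F = 4)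
include hF

lemma tv_mem_GU (a : Fin n → F) (ha : hf a a = 0) : tv a ha ∈ GU n F 2 := by
  classical
  rw [mem_GU_iff]
  intro u v
  rw [tv_mulVec, tv_mulVec]
  change hf (u + hf u a • a) (v + hf v a • a) = hf u v
  rw [hf_add_left, hf_add_right hF, hf_add_right hF, hf_smul_left, hf_smul_left, hf_smul_right,
    hf_smul_right, ha, ← hf_conj hF v a]
  linear_combination (hf u a * hf v a ^ 2) * one_add_one hF

lemma tv_tv (a : Fin n → F) (ha : hf a a = 0) (v : Fin n → F) :
    ((tv a ha : GL (Fin n) F) : Matrix (Fin n) (Fin n) F) *ᵥ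
      (((tv a ha : GL (Fin n) F) : Matrix (Fin n) (Fin n) F) *ᵥ v) = v := by
  rw [tv_mulVec, tv_mulVec, hf_add_left, hf_smul_left, ha, mul_zero, add_zero, add_assoc,
    add_self_vec hF, add_zero]

end Transv

section Span
variable {F : Type*} [Field F] {n : ℕ}

lemma mem_span_pair_of_finrank_two {W : Submodule F (Fin n → F)} (hW : Module.finrank F W = 2)
    {u w : Fin n → F} (hu : u ∈ W) (hw : w ∈ W)
    (hli : ∀ s t : F, s • u + t • w = 0 → s = 0 ∧ t = 0) (x : Fin n → F) (hx : x ∈ W) :
    ∃ α β : F, x = α • u + β • w := by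
  have hli' : LinearIndependent F ![u, w] := LinearIndependent.pair_iff.mpr hli
  have hspan : Submodule.span F (Set.range ![u, w]) = W := by
    apply Submodule.eq_of_le_of_finrank_eq
    · rw [Submodule.span_le]
      rintro _ ⟨k, rfl⟩
      fin_cases k
      · exact hu
      · exact hw
    · rw [finrank_span_eq_card hli', hW]
      rfl
  rw [← hspan] at hx
  obtain ⟨c, hc⟩ := (Submodule.mem_span_range_iff_exists_fun F).mp hx
  refine ⟨c 0, c 1, ?_⟩
  rw [← hc, Fin.sum_univ_two]
  rfl

lemma exists_not_smul {W : Submodule F (Fin n → F)} (hW : Module.finrank F W = 2)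
    (u : Fin n → F) : ∃ x ∈ W, ∀ c : F, x ≠ c • u := by
  by_contra h
  push Not at h
  have hle : W ≤ Submodule.span F {u} := by
    intro x hx
    obtain ⟨c, hc⟩ := h x hx
    rw [hc]
    exact Submodule.smul_mem _ _ (Submodule.mem_span_singleton_self u)
  have h1 := Submodule.finrank_mono hle
  have h2 : Module.finrank F (Submodule.span F {u}) ≤ 1 := by
    have := finrank_span_le_card (R := F) ({u} : Set (Fin n → F))
    simpa using this
  omega

end Span

section Main
variable {F : Type*} [Field F] [Fintype F] {n t : ℕ} (D : Fin t → Submodule F (Fin n → F))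

/-- non-isotropic vectors in the blocks -/
def S : Set (Fin n → F) := {v | (∃ i, v ∈ D i) ∧ hf v v ≠ 0}

/-- the stabilizer of `S` -/
def KS : Subgroup (GL (Fin n) F) where
  carrier := {g | ∀ v, (g : Matrix (Fin n) (Fin n) F) *ᵥ v ∈ S D ↔ v ∈ S D}
  mul_mem' := fun {a b} ha hb v => by rw [Units.val_mul, ← Matrix.mulVec_mulVec, ha, hb]
  one_mem' := fun v => by simp
  inv_mem' := fun {a} ha v => by
    have := ha (((a⁻¹ : GL (Fin n) F) : Matrix (Fin n) (Fin n) F) *ᵥ v)
    rw [Matrix.mulVec_mulVec, ← Units.val_mul, mul_inv_cancel, Units.val_one,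
      Matrix.one_mulVec] at this
    exact this.symm

lemma stab_fwd {g : GL (Fin n) F} (hg : g ∈ Geo.decompositionStabilizer D) (hgU : g ∈ GU n F 2)
    {v : Fin n → F} (hv : v ∈ S D) : (g : Matrix (Fin n) (Fin n) F) *ᵥ v ∈ S D := by
  classical
  obtain ⟨σ, hσ⟩ := hg
  obtain ⟨⟨i, hi⟩, hne⟩ := hv
  refine ⟨⟨σ i, ?_⟩, ?_⟩
  · rw [← hσ i]
    exact ⟨v, hi, by rw [Matrix.toLin'_apply]⟩
  · have := (mem_GU_iff g).mp hgU v v
    change hermForm n F 2 _ _ ≠ 0
    rw [this]
    exact hne

lemma stab_le_KS {g : GL (Fin n) F} (hg : g ∈ Geo.decompositionStabilizer D ⊓ GU n F 2) :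
    g ∈ KS D := by
  intro v
  constructor
  · intro h
    have hinv : g⁻¹ ∈ Geo.decompositionStabilizer D ⊓ GU n F 2 := Subgroup.inv_mem _ hg
    have := stab_fwd D hinv.1 hinv.2 h
    rwa [Matrix.mulVec_mulVec, ← Units.val_mul, inv_mul_cancel, Units.val_one,
      Matrix.one_mulVec] at this
  · exact stab_fwd D hg.1 hg.2

variable (hF : Fintype.card F = 4)
  (hD : Geo.IsNondegenerateMDecomposition (hermForm n F 2) 2 D)
include hF hD

lemma orth {i j : Fin t} (hij : i ≠ j) {u v : Fin n → F} (hu : u ∈ D i) (hv : v ∈ D j) :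
    hf u v = 0 := hD.orthogonal i j hij u hu v hv

lemma exists_unit_vec (i : Fin t) : ∃ u ∈ D i, hf u u = 1 := by
  by_contra hcon
  push Not at hcon
  have h0 : ∀ u ∈ D i, hf u u = 0 := by
    intro u hu
    rcases hf_self_01 hF u with h | h
    · exact h
    · exact absurd h (hcon u hu)
  have hne : D i ≠ ⊥ := by
    intro h
    have := hD.decomp.finrank_eq i
    rw [h, finrank_bot] at this
    omega
  obtain ⟨e, he, he0⟩ := Submodule.exists_mem_ne_zero_of_ne_bot hne
  obtain ⟨x, hx, hxe⟩ := (hD.nondegenerate i e he he0).1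
  change hf x e ≠ 0 at hxe
  obtain ⟨ω, hω0, hω1⟩ := exists_omega hF
  set x' := (ω * (hf x e)⁻¹) • x with hx'
  have hx'D : x' ∈ D i := Submodule.smul_mem _ _ hx
  have h1 : hf x' e = ω := by
    rw [hx', hf_smul_left, mul_assoc, inv_mul_cancel₀ hxe, mul_one]
  have h2 : hf e x' = ω ^ 2 := by rw [← hf_conj hF, h1]
  have h3 := h0 (x' + e) (Submodule.add_mem _ hx'D he)
  rw [hf_add_left, hf_add_right hF, hf_add_right hF, h0 x' hx'D, h0 e he, h1, h2, zero_add,
    add_zero] at h3
  have h4 : ω * (1 + ω) = 0 := by linear_combination h3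
  rcases mul_eq_zero.mp h4 with h5 | h5
  · exact hω0 h5
  · apply hω1
    have := one_add_one hF
    linear_combination h5 - this

lemma unique_of_ne (i : Fin t) {u v : Fin n → F} (hu : u ∈ D i) (hu1 : hf u u = 1)
    (hv : v ∈ D i) (hv1 : hf v v ≠ 0) (hc : hf v u ≠ 0) : v = hf v u • u := by
  set c := hf v u with hcdef
  set w := v + c • u with hw
  have hwD : w ∈ D i := Submodule.add_mem _ hv (Submodule.smul_mem _ _ hu)
  have hwu : hf w u = 0 := by
    rw [hw, hf_add_left, hf_smul_left, hu1, mul_one, ← hcdef]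
    exact add_self hF c
  have huw : hf u w = 0 := hf_symm_zero hF hwu
  have hvv : hf v v = 1 := by
    rcases hf_self_01 hF v with h | h
    · exact absurd h hv1
    · exact h
  have huv : hf u v = c ^ 2 := by rw [← hf_conj hF]
  have hww : hf w w = 0 := by
    rw [hw, hf_add_left, hf_add_right hF, hf_add_right hF, hf_smul_left, hf_smul_left,
      hf_smul_right, hf_smul_right, hu1, hvv, huv, ← hcdef]
    have h3 := cube_eq_one hF hc
    have h11 := one_add_one hF
    linear_combination (1 + c ^ 3) * h11 + h3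
  by_contra hne
  have hw0 : w ≠ 0 := by
    intro h0
    apply hne
    have : v + c • u + c • u = c • u := by rw [← hw, h0, zero_add]
    rwa [add_assoc, add_self_vec hF, add_zero] at this
  obtain ⟨x, hx, hxw⟩ := (hD.nondegenerate i w hwD hw0).1
  change hf x w ≠ 0 at hxw
  have hli : ∀ s t : F, s • u + t • w = 0 → s = 0 ∧ t = 0 := by
    intro s t hst
    have h1 := congrArg (fun y => hf y u) hst
    simp only [hf_add_left, hf_smul_left, hu1, hwu, hf_zero_left, mul_one, mul_zero,
      add_zero] at h1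
    refine ⟨h1, ?_⟩
    rw [h1, zero_smul, zero_add] at hst
    rcases smul_eq_zero.mp hst with h | h
    · exact h
    · exact absurd h hw0
  obtain ⟨α, β, hαβ⟩ := mem_span_pair_of_finrank_two (hD.decomp.finrank_eq i) hu hwD hli x hx
  apply hxw
  rw [hαβ, hf_add_left, hf_smul_left, hf_smul_left, huw, hww, mul_zero, mul_zero, add_zero]

lemma block_move {i j : Fin t} (hij : i ≠ j) {u u' : Fin n → F} (hu : u ∈ D i) (hu' : u' ∈ D j)
    (hn : hf u u = 1) (hn' : hf u' u' = 1) {v : Fin n → F} (hv : v ∈ D i) (hne : hf v v ≠ 0) :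
    v + hf v u • (u + u') ∈ S D := by
  by_cases hc : hf v u = 0
  · rw [hc, zero_smul, add_zero]
    exact ⟨⟨i, hv⟩, hne⟩
  · have hvu := unique_of_ne D hF hD i hu hn hv hne hc
    have h1 : v + hf v u • (u + u') = hf v u • u' := by
      rw [smul_add, ← add_assoc]
      nth_rewrite 1 [hvu]
      rw [add_self_vec hF, zero_add]
    rw [h1]
    refine ⟨⟨j, Submodule.smul_mem _ _ hu'⟩, ?_⟩
    rw [hf_smul_left, hf_smul_right, hn', mul_one, ← pow_succ', cube_eq_one hF hc]
    exact one_ne_zero

lemma tv_mem_KS {i1 i2 : Fin t} (h12 : i1 ≠ i2) {u1 u2 : Fin n → F} (hu1 : u1 ∈ D i1)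
    (hu2 : u2 ∈ D i2) (hn1 : hf u1 u1 = 1) (hn2 : hf u2 u2 = 1)
    (ha : hf (u1 + u2) (u1 + u2) = 0) : tv (u1 + u2) ha ∈ KS D := by
  have key : ∀ v ∈ S D, ((tv (u1 + u2) ha : GL (Fin n) F) : Matrix (Fin n) (Fin n) F) *ᵥ v
      ∈ S D := by
    rintro v ⟨⟨i, hi⟩, hne⟩
    rw [tv_mulVec, hf_add_right hF]
    by_cases hi1 : i = i1
    · subst hi1
      rw [orth D hF hD h12 hi hu2, add_zero]
      exact block_move D hF hD h12 hu1 hu2 hn1 hn2 hi hne
    · by_cases hi2 : i = i2
      · subst hi2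
        rw [orth D hF hD (Ne.symm h12) hi hu1, zero_add, add_comm u1 u2]
        exact block_move D hF hD (Ne.symm h12) hu2 hu1 hn2 hn1 hi hne
      · rw [orth D hF hD hi1 hi hu1, orth D hF hD hi2 hi hu2, add_zero, zero_smul, add_zero]
        exact ⟨⟨i, hi⟩, hne⟩
  intro v
  constructor
  · intro h
    have := key _ h
    rwa [tv_tv hF] at this
  · exact key v

end Main

section Final
variable {F : Type*} [Field F] [Fintype F] {n t : ℕ} (D : Fin t → Submodule F (Fin n → F))
  (hF : Fintype.card F = 4) (hD : Geo.IsNondegenerateMDecomposition (hermForm n F 2) 2 D)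

include hD in
omit [Fintype F] in
lemma two_t (hI : DirectSum.IsInternal D) : 2 * t = n := by
  have h1 := (Φ D hI).finrank_eq
  rw [Module.finrank_directSum] at h1
  simp only [hD.decomp.finrank_eq, Finset.sum_const, Finset.card_univ, Fintype.card_fin,
    smul_eq_mul, Module.finrank_fintype_fun_eq_card] at h1
  omega

include hF hD in
theorem main (hn : 13 ≤ n) :
    ∃ K : Subgroup (Matrix.GeneralLinearGroup (Fin n) F),
      Geo.decompositionStabilizer D ⊓ (GU n F 2 ⊓ Geo.specialLinear (Fin n) F) < K ∧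
        K < GU n F 2 ⊓ Geo.specialLinear (Fin n) F := by
  classical
  have hI : DirectSum.IsInternal D :=
    DirectSum.isInternal_submodule_of_iSupIndep_of_iSup_eq_top hD.decomp.indep
      hD.decomp.iSup_eq_top
  have h2t := two_t D hD hI
  have ht : 7 ≤ t := by omega
  set i1 : Fin t := ⟨0, by omega⟩ with hi1
  set i2 : Fin t := ⟨1, by omega⟩ with hi2
  set i3 : Fin t := ⟨2, by omega⟩ with hi3
  set i4 : Fin t := ⟨3, by omega⟩ with hi4
  have h12 : i1 ≠ i2 := by rw [hi1, hi2]; intro h; simp [Fin.ext_iff] at h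
  have h13 : i1 ≠ i3 := by rw [hi1, hi3]; intro h; simp [Fin.ext_iff] at h
  have h14 : i1 ≠ i4 := by rw [hi1, hi4]; intro h; simp [Fin.ext_iff] at h
  have h23 : i2 ≠ i3 := by rw [hi2, hi3]; intro h; simp [Fin.ext_iff] at h
  have h24 : i2 ≠ i4 := by rw [hi2, hi4]; intro h; simp [Fin.ext_iff] at h
  have h34 : i3 ≠ i4 := by rw [hi3, hi4]; intro h; simp [Fin.ext_iff] at h
  obtain ⟨u1, hu1, hn1⟩ := exists_unit_vec D hF hD i1
  obtain ⟨u2, hu2, hn2⟩ := exists_unit_vec D hF hD i2
  obtain ⟨u3, hu3, hn3⟩ := exists_unit_vec D hF hD i3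
  obtain ⟨u4, hu4, hn4⟩ := exists_unit_vec D hF hD i4
  have hne_of : ∀ {u : Fin n → F}, hf u u = 1 → u ≠ 0 := by
    intro u h h0
    rw [h0, hf_zero_left] at h
    exact zero_ne_one h
  have iso2 : ∀ {i j : Fin t} (_ : i ≠ j) {u v : Fin n → F}, u ∈ D i → v ∈ D j → hf u u = 1 →
      hf v v = 1 → hf (u + v) (u + v) = 0 := by
    intro i j hij u v hu hv h1 h2
    rw [hf_add_left, hf_add_right hF, hf_add_right hF, h1, h2, orth D hF hD hij hu hv,
      orth D hF hD (Ne.symm hij) hv hu, add_zero, zero_add]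
    exact one_add_one hF
  have ha : hf (u1 + u2) (u1 + u2) = 0 := iso2 h12 hu1 hu2 hn1 hn2
  have hb : hf (u3 + u4) (u3 + u4) = 0 := iso2 h34 hu3 hu4 hn3 hn4
  have hab : hf (u1 + u2) (u3 + u4) = 0 := by
    rw [hf_add_left, hf_add_right hF, hf_add_right hF, orth D hF hD h13 hu1 hu3,
      orth D hF hD h14 hu1 hu4, orth D hF hD h23 hu2 hu3, orth D hF hD h24 hu2 hu4]
    simp
  have gen : ∀ A B : Fin n → F, hf A A = 0 → hf B B = 0 → hf A B = 0 →
      hf (A + B) (A + B) = 0 := by
    intro A B hA hB hAB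
    rw [hf_add_left, hf_add_right hF, hf_add_right hF, hA, hB, hAB, hf_symm_zero hF hAB]
    simp
  have ha' : hf (u1 + u2 + (u3 + u4)) (u1 + u2 + (u3 + u4)) = 0 := gen _ _ ha hb hab
  refine ⟨KS D ⊓ (GU n F 2 ⊓ Geo.specialLinear (Fin n) F), ?_, ?_⟩
  · rw [lt_iff_le_and_ne]
    refine ⟨fun g hg => ⟨stab_le_KS D ⟨hg.1, hg.2.1⟩, hg.2⟩, fun h => ?_⟩
    have hmem : tv (u1 + u2) ha ∈ KS D ⊓ (GU n F 2 ⊓ Geo.specialLinear (Fin n) F) :=
      ⟨tv_mem_KS D hF hD h12 hu1 hu2 hn1 hn2 ha, tv_mem_GU hF _ ha, tv_mem_SL _ ha⟩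
    rw [← h] at hmem
    obtain ⟨σ, hσ⟩ := hmem.1
    have himg : ∀ y ∈ D i1, ((tv (u1 + u2) ha : GL (Fin n) F) : Matrix (Fin n) (Fin n) F) *ᵥ y
        ∈ D (σ i1) := by
      intro y hy
      rw [← hσ i1]
      exact ⟨y, hy, by rw [Matrix.toLin'_apply]⟩
    -- image of u1 is u2
    have h1 := himg u1 hu1
    rw [tv_mulVec, hf_add_right hF, hn1, orth D hF hD h12 hu1 hu2, add_zero, one_smul,
      ← add_assoc, add_self_vec hF, zero_add] at h1
    have hσ1 : i2 = σ i1 := by
      by_contra hne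
      have h2 := comp_of_mem D hI hu2 i2
      rw [comp_of_mem D hI h1, if_neg hne, if_pos rfl] at h2
      exact hne_of hn2 h2.symm
    obtain ⟨x, hx, hxne⟩ := exists_not_smul (hD.decomp.finrank_eq i1) u1
    have h3 := himg x hx
    rw [← hσ1, tv_mulVec] at h3
    set c := hf x (u1 + u2) with hc
    have h4 : comp D hI (x + c • (u1 + u2)) i1 = x + c • u1 := by
      rw [smul_add, comp_add, comp_add, comp_of_mem D hI hx,
        comp_of_mem D hI (Submodule.smul_mem _ c hu1),
        comp_of_mem D hI (Submodule.smul_mem _ c hu2), if_pos rfl, if_pos rfl, if_neg h12,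
        add_zero]
    rw [comp_of_mem D hI h3, if_neg h12] at h4
    apply hxne c
    have : x + c • u1 + c • u1 = c • u1 := by rw [← h4, zero_add]
    rwa [add_assoc, add_self_vec hF, add_zero] at this
  · rw [lt_iff_le_and_ne]
    refine ⟨inf_le_right, fun h => ?_⟩
    have hmem : tv (u1 + u2 + (u3 + u4)) ha' ∈ GU n F 2 ⊓ Geo.specialLinear (Fin n) F :=
      ⟨tv_mem_GU hF _ ha', tv_mem_SL _ ha'⟩
    rw [← h] at hmem
    have hu1S : u1 ∈ S D := ⟨⟨i1, hu1⟩, by rw [hn1]; exact one_ne_zero⟩
    have h1 := (hmem.1 u1).mpr hu1S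
    have hval : hf u1 (u1 + u2 + (u3 + u4)) = 1 := by
      rw [hf_add_right hF, hf_add_right hF, hf_add_right hF, hn1, orth D hF hD h12 hu1 hu2,
        orth D hF hD h13 hu1 hu3, orth D hF hD h14 hu1 hu4]
      simp
    have hsum : u1 + (u1 + u2 + (u3 + u4)) = u2 + (u3 + u4) := by
      rw [add_assoc u1 u2, ← add_assoc u1 u1, add_self_vec hF, zero_add]
    rw [tv_mulVec, hval, one_smul, hsum] at h1
    obtain ⟨⟨j, hj⟩, -⟩ := h1
    have hc2 : comp D hI (u2 + (u3 + u4)) i2 = u2 := by
      rw [comp_add, comp_add, comp_of_mem D hI hu2, comp_of_mem D hI hu3, comp_of_mem D hI hu4,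
        if_pos rfl, if_neg h23, if_neg h24]
      simp
    have hc3 : comp D hI (u2 + (u3 + u4)) i3 = u3 := by
      rw [comp_add, comp_add, comp_of_mem D hI hu2, comp_of_mem D hI hu3, comp_of_mem D hI hu4,
        if_neg (Ne.symm h23), if_pos rfl, if_neg h34]
      simp
    rw [comp_of_mem D hI hj] at hc2 hc3
    by_cases hj2 : i2 = j
    · have : i3 ≠ j := fun h3 => h23 (hj2.trans h3.symm)
      rw [if_neg this] at hc3
      exact hne_of hn3 hc3.symm
    · rw [if_neg hj2] at hc2
      exact hne_of hn2 hc2.symm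

end Final

end S5656aux

end Aux

/-- Let F be the field with 4 elements (q = 2) and n ≥ 13. Let D be a decomposition of F^n into t pairwise orthogonal 2-dimensional subspaces, each non-degenerate for the standard unitary form Σ u_i v_i². Then the elements of SU_n(2) permuting the members of D form a subgroup that is not maximal: some subgroup lies strictly between it and SU_n(2). -/
theorem result {F : Type*} [Field F] [Fintype F] (n : ℕ) (hF : Fintype.card F = 4) (hn : 13 ≤ n) {t : ℕ} (D : Fin t → Submodule F (Fin n → F)) (hD : Cfsg.Geo.IsNondegenerateMDecomposition (Cfsg.hermForm n F 2) 2 D) : ∃ K : Subgroup (Matrix.GeneralLinearGroup (Fin n) F), Cfsg.Geo.decompositionStabilizer D ⊓ (Cfsg.GU n F 2 ⊓ Cfsg.Geo.specialLinear (Fin n) F) < K ∧ K < (Cfsg.GU n F 2 ⊓ Cfsg.Geo.specialLinear (Fin n) F) := by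
  exact S5656aux.main D hF hD hn

end Cfsg.Agent.S5656
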