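import Cfsg.Statements.S5664
-- import your own Cfsg.Agent.* helpers here
import Cfsg.Agent.Lib.Helper22.C3sTool
import Cfsg.Agent.Lib.Helper22.C3sD3
import Cfsg.Agent.Lib.Helper1.C3sP
import Cfsg.Agent.Lib.Helper23.C3sE
import Cfsg.Agent.Lib.Helper24.C3sB
import Cfsg.Agent.Lib.Helper7.C3sL0
import Cfsg.Agent.Lib.Helper7.C3sA
import Cfsg.Agent.Lib.Helper26.C3sC
import Cfsg.Agent.Lib.Helper26.C3sD2a
import Cfsg.Agent.Lib.Helper26.C3sD2b

set_option autoImplicit false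
open Cfsg

namespace Cfsg.Agent.S5664
open Matrix Module Cfsg.Agent.Lib.Helper5 Cfsg.Agent.Lib.Helper5.SpMax Cfsg.Agent.Lib.Helper22.C3
  Cfsg.Agent.Lib.Helper22.C3s

/-- For a finite field F and m ≥ 7, let K be a subfield of the algebra of 2m × 2m matrices over F containing the scalars, of prime degree r over F, whose elements k are self-adjoint for the standard alternating form f on F^(2m) (f(k u, v) = f(u, k v)) and satisfy f(k v, v) = 0 for all v. Then the elements of Sp_2m(F) normalising K form a maximal subgroup of Sp_2m(F). -/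
theorem result {F : Type*} [Field F] [Fintype F] (m : ℕ) (hm : 7 ≤ m) (r : ℕ) (hr : r.Prime) (K : Subalgebra F (Matrix (Fin m ⊕ Fin m) (Fin m ⊕ Fin m) F)) (hK : Cfsg.Geo.IsFieldSubalgebra r K) (hsa : Cfsg.Geo.IsSelfAdjointFor (Cfsg.sympForm m F) K) (halt : ∀ k ∈ K, ∀ v : (Fin m ⊕ Fin m → F), Cfsg.sympForm m F (Matrix.mulVec k v) v = 0) : Cfsg.Geo.IsMaximalIn (Cfsg.spGL m F) (Cfsg.Geo.subalgebraNormalizer K ⊓ Cfsg.spGL m F) := by
  classical
  obtain ⟨E, instE, instA, S, hρ, hfr⟩ := Cfsg.Agent.Lib.Helper7.C3sLeaf.exists_KS (by omega : 0 < m) r K hK hsa halt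
  have hrE : (finrank F E).Prime := by rw [hfr]; exact hr
  have h2E : 2 ≤ finrank F E := hrE.two_le
  -- a non-zero vector
  obtain ⟨v₀, hv₀⟩ : ∃ v₀ : Fin m ⊕ Fin m → F, v₀ ≠ 0 := by
    refine ⟨Pi.single (Sum.inl ⟨0, by omega⟩) 1, ?_⟩
    intro h
    have := congrFun h (Sum.inl ⟨0, by omega⟩)
    simp at this
  -- elements of Sp commuting with E lie in the normaliser
  have hcomm : ∀ g ∈ spGL m F,
      (∀ e : E, (g : Matrix (Fin m ⊕ Fin m) (Fin m ⊕ Fin m) F) * S.ρ e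
        = S.ρ e * (g : Matrix (Fin m ⊕ Fin m) (Fin m ⊕ Fin m) F)) →
      g ∈ Cfsg.Geo.subalgebraNormalizer K ⊓ spGL m F := by
    intro g hg hc
    refine ⟨?_, hg⟩
    have key : ∀ k ∈ K, (g : Matrix (Fin m ⊕ Fin m) (Fin m ⊕ Fin m) F) * k *
        ((g⁻¹ : GL (Fin m ⊕ Fin m) F) : Matrix (Fin m ⊕ Fin m) (Fin m ⊕ Fin m) F) = k := by
      intro k hk
      rw [← hρ] at hk
      obtain ⟨e, rfl⟩ := hk
      change (g : Matrix (Fin m ⊕ Fin m) (Fin m ⊕ Fin m) F) * S.ρ e * _ = S.ρ e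
      rw [hc e, mul_assoc, ← Units.val_mul, mul_inv_cancel, Units.val_one, mul_one]
    intro k
    constructor
    · intro hk
      rw [key k hk]; exact hk
    · intro hk
      have hk' := hk
      rw [← hρ] at hk'
      obtain ⟨e, he⟩ := hk'
      have e1 : ((g⁻¹ : GL (Fin m ⊕ Fin m) F) : Matrix (Fin m ⊕ Fin m) (Fin m ⊕ Fin m) F) *
          (g : Matrix (Fin m ⊕ Fin m) (Fin m ⊕ Fin m) F) = 1 := by
        rw [← Units.val_mul, inv_mul_cancel, Units.val_one]
      have h2 : k = S.ρ e := by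
        have h3 : S.ρ e = (g : Matrix (Fin m ⊕ Fin m) (Fin m ⊕ Fin m) F) * k *
            ((g⁻¹ : GL (Fin m ⊕ Fin m) F) : Matrix (Fin m ⊕ Fin m) (Fin m ⊕ Fin m) F) := he
        calc k = ((g⁻¹ : GL (Fin m ⊕ Fin m) F) : Matrix (Fin m ⊕ Fin m) (Fin m ⊕ Fin m) F) *
              ((g : Matrix (Fin m ⊕ Fin m) (Fin m ⊕ Fin m) F) * k *
                ((g⁻¹ : GL (Fin m ⊕ Fin m) F) : Matrix (Fin m ⊕ Fin m) (Fin m ⊕ Fin m) F)) *
              (g : Matrix (Fin m ⊕ Fin m) (Fin m ⊕ Fin m) F) := by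
              simp only [mul_assoc, e1, mul_one]
              simp only [← mul_assoc, e1, one_mul]
          _ = ((g⁻¹ : GL (Fin m ⊕ Fin m) F) : Matrix (Fin m ⊕ Fin m) (Fin m ⊕ Fin m) F) *
              S.ρ e * (g : Matrix (Fin m ⊕ Fin m) (Fin m ⊕ Fin m) F) := by rw [h3]
          _ = S.ρ e := by rw [mul_assoc, ← hc e, ← mul_assoc, e1, one_mul]
      rw [h2, ← hρ]
      exact ⟨e, rfl⟩
  refine ⟨?_, ?_⟩
  · -- proper
    refine lt_of_le_of_ne inf_le_right ?_
    intro heq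
    have h1 : tvc v₀ 1 ∈ Cfsg.Geo.subalgebraNormalizer K ⊓ spGL m F := by
      rw [heq]; exact tvc_mem v₀ 1
    have h2 := Cfsg.Agent.Lib.Helper1.C3sLeaf.tvc_not_mem_normalizer S (by omega) h2E hv₀
    rw [hρ] at h2
    exact h2 h1.1
  · intro M hNM hMS
    by_cases hMN : M ≤ Cfsg.Geo.subalgebraNormalizer K
    · left
      exact le_antisymm (le_inf hMN hMS) hNM
    · right
      have hM : ∀ g ∈ spGL m F,
          (∀ e : E, (g : Matrix (Fin m ⊕ Fin m) (Fin m ⊕ Fin m) F) * S.ρ e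
            = S.ρ e * (g : Matrix (Fin m ⊕ Fin m) (Fin m ⊕ Fin m) F)) → g ∈ M :=
        fun g hg hc => hNM (hcomm g hg hc)
      have hnot : ¬ M ≤ Cfsg.Geo.subalgebraNormalizer S.ρ.range := by rw [hρ]; exact hMN
      obtain ⟨g, hg, h1, h2⟩ := Cfsg.Agent.Lib.Helper7.C3sLeaf.exists_nonperp S M hMS hM hnot hv₀
      have htv : ∃ v : Fin m ⊕ Fin m → F, v ≠ 0 ∧ ∃ c : F, c ≠ 0 ∧ tvc v c ∈ M := by
        by_cases hch : (2 : F) = 0
        · by_cases hr2 : finrank F E = 2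
          · exact Cfsg.Agent.Lib.Helper22.C3sLeaf.tvc_mem_of_deg_two S hr2 hch (by omega) M hMS hM hv₀ hg h1 h2
          · have h3 : 3 ≤ finrank F E := by omega
            obtain ⟨g', hg', hadj, hnp⟩ := Cfsg.Agent.Lib.Helper24.C3sLeaf.exists_adjacent S hrE M hMS hM hv₀ hg h1 h2
            have hS := Cfsg.Agent.Lib.Helper26.C3sLeaf.siegel_mem S M hMS hM hv₀ hg' hadj hnp
            have hS' := Cfsg.Agent.Lib.Helper26.C3sLeaf.siegel_mem_line S h3 M hMS hM hv₀ _ inf_le_left hadj hS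
            exact Cfsg.Agent.Lib.Helper26.C3sLeaf.tvc_mem_of_siegel S h2E M hMS hM hv₀ hg' hadj hnp hS'
        · obtain ⟨g', hg', hadj, hnp⟩ := Cfsg.Agent.Lib.Helper24.C3sLeaf.exists_adjacent S hrE M hMS hM hv₀ hg h1 h2
          have hS := Cfsg.Agent.Lib.Helper26.C3sLeaf.siegel_mem S M hMS hM hv₀ hg' hadj hnp
          -- a non-zero vector of the common hyperplane
          have hpos : 0 < finrank F ↥(S.line v₀ ⊓ img g' (S.line v₀)) := by omega
          obtain ⟨⟨p, hp⟩, hp0⟩ := (Module.finrank_pos_iff_exists_ne_zero).mp hpos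
          have hp0' : p ≠ 0 := fun h => hp0 (Subtype.ext h)
          obtain ⟨y, hy, hyv⟩ := hS p hp p hp 1
          refine ⟨p, hp0', 2, hch, ?_⟩
          have : y = tvc p 2 := by
            apply Units.ext
            rw [hyv]
            apply mat_eq_of_mulVec
            intro x
            rw [rhoMat_mulVec, tvc_mulVec, one_smul, ← two_smul F (sympForm m F x p • p), smul_smul]
          rwa [← this]
      obtain ⟨v, hv, c, hc, hvc⟩ := htv
      exact le_antisymm hMS (Cfsg.Agent.Lib.Helper23.C3sLeaf.le_of_tvc_mem S M hMS hM hv hc hvc)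

end Cfsg.Agent.S5664
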