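import Cfsg.Statements.S5666
import Cfsg.Agent.Lib.Helper2.SOTDefs
import Cfsg.Agent.Lib.Helper2.SOTGA
import Cfsg.Agent.Lib.Helper13.SOTGMain
import Cfsg.Agent.Lib.Helper28.SOTBMain
import Cfsg.Agent.Lib.Helper7.SOTT
import Cfsg.Agent.Lib.Helper27.SOTLAMain

set_option autoImplicit false
open Cfsg

namespace Cfsg.Agent.S5666
open Matrix
open Cfsg.Agent.Lib.Helper25.Tens Cfsg.Agent.Lib.Helper25.SpT Cfsg.Agent.Lib.Helper19.OSub
open Cfsg.Agent.Lib.Helper2.SOT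

/-- the model theorem -/
theorem model_main {F : Type*} [Field F] [Fintype F] {a b : ℕ} {G : Matrix (Fin b) (Fin b) F}
    {M : Subgroup (GL (Idx a b) F)} (h : MCtx a b G M) :
    M = KG a b F ⊓ SpV G ∨ M = SpV G := by
  by_cases ht : HasTv G M
  · right
    exact le_antisymm h.le_sp (Cfsg.Agent.Lib.Helper13.SOTGMain.growth h ht)
  · left
    have hK : M ≤ KG a b F := by
      obtain ⟨k, hk⟩ := h.ea
      have ha := h.ha
      rcases Nat.lt_or_ge a 4 with h4 | h4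
      · exact Cfsg.Agent.Lib.Helper28.SOTBMain.partII h (by omega) ht
      · exact Cfsg.Agent.Lib.Helper2.SOTLeaf.globalA h h4 (Cfsg.Agent.Lib.Helper27.SOTLAMain.local_L1 h h4 ht)
          (Cfsg.Agent.Lib.Helper27.SOTLAMain.local_L2 h h4 ht)
    exact le_antisymm (le_inf hK h.le_sp) h.le

theorem result {F : Type*} [Field F] [Fintype F] (m : ℕ) (hm : 7 ≤ m) (hodd : Odd (Fintype.card F)) (n₁ n₂ : ℕ) (hn₂ : 3 ≤ n₂) (hex : ¬ (Fintype.card F = 3 ∧ n₂ = 3)) (e : (Fin m ⊕ Fin m) ≃ Fin n₁ × Fin n₂) (P : Matrix.GeneralLinearGroup (Fin m ⊕ Fin m) F) (f₁ : (Fin n₁ → F) → (Fin n₁ → F) → F) (f₂ : (Fin n₂ → F) → (Fin n₂ → F) → F) (hf₁ : Cfsg.Geo.IsSymplecticForm f₁) (hf₂ : Cfsg.Geo.IsSymmetricForm f₂) (hT : Cfsg.Geo.IsTensorFormStructure id (Cfsg.sympForm m F) f₁ f₂ e P) : Cfsg.Geo.IsMaximalIn (Cfsg.spGL m F) (Cfsg.Geo.tensorProductSubgroup n₁ n₂ e P ⊓ Cfsg.spGL m F) :=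
  Cfsg.Agent.Lib.Helper7.SOTLeaf.frozen_of_model (fun a b G M h => model_main h) m hm hodd n₁ n₂ hn₂ hex
    e P f₁ f₂ hf₁ hf₂ hT

end Cfsg.Agent.S5666
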