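import Cfsg.Statements.S5671
import Mathlib
import Cfsg.Agent.Lib.Helper14.Unitary

set_option autoImplicit false
open Cfsg

namespace Cfsg.Agent.S5671

section Aux
set_option linter.unusedSectionVars false
set_option linter.unusedVariables false
set_option linter.unusedSimpArgs false
namespace S5671aux
open Cfsg Matrix Cfsg.Agent.Lib.Helper14
open scoped Kronecker

section F4
variable {F : Type*} [Field F] [Fintype F] (hF : Fintype.card F = 4)

include hF in
lemma one_add_one : (1 : F) + 1 = 0 := by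
  have h4 : ((Fintype.card F : ℕ) : F) = 0 := Nat.cast_card_eq_zero F
  rw [hF] at h4
  have h5 : ((1 : F) + 1) ^ 2 = 0 := by
    have h6 : ((4 : ℕ) : F) = (1 + 1) ^ 2 := by push_cast; ring
    rw [← h6]; exact h4
  exact (pow_eq_zero_iff two_ne_zero).mp h5

include hF in
lemma add_self (x : F) : x + x = 0 := by
  have := one_add_one hF
  linear_combination x * this

include hF in
lemma add_self_vec {V : Type*} [AddCommGroup V] [Module F V] (x : V) : x + x = 0 := by
  rw [← two_smul F x]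
  have : (2 : F) = 0 := by rw [← one_add_one_eq_two]; exact one_add_one hF
  rw [this, zero_smul]

include hF in
lemma cube_eq_one {x : F} (hx : x ≠ 0) : x ^ 3 = 1 := by
  have := FiniteField.pow_card_sub_one_eq_one x hx
  rwa [hF] at this

include hF in
lemma exists_omega : ∃ ω : F, ω ≠ 0 ∧ ω ≠ 1 := by
  classical
  have h : ({0, 1} : Finset F).card < (Finset.univ : Finset F).card := by
    rw [Finset.card_univ, hF]
    calc _ ≤ 2 := Finset.card_le_two
    _ < 4 := by norm_num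
  obtain ⟨x, _, hx⟩ := Finset.exists_mem_notMem_of_card_lt_card h
  simp only [Finset.mem_insert, Finset.mem_singleton, not_or] at hx
  exact ⟨x, hx.1, hx.2⟩

omit [Fintype F] in
lemma eq_zero_or_one_of_sq {z : F} (h : z ^ 2 = z) : z = 0 ∨ z = 1 := by
  have h1 : z * (z - 1) = 0 := by rw [mul_sub, mul_one, ← pow_two, h, sub_self]
  rcases mul_eq_zero.mp h1 with h2 | h2
  · exact Or.inl h2
  · exact Or.inr (sub_eq_zero.mp h2)

end F4

section Form
variable {F : Type*} [Field F] [Fintype F] {n : ℕ}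

/-- the hermitian form -/
def hf (u v : Fin n → F) : F := hermForm n F 2 u v

omit [Fintype F] in
lemma hf_add_left (u u' v : Fin n → F) : hf (u + u') v = hf u v + hf u' v :=
  hermForm_add_left u u' v

omit [Fintype F] in
lemma hf_smul_left (a : F) (u v : Fin n → F) : hf (a • u) v = a * hf u v :=
  hermForm_smul_left a u v

omit [Fintype F] in
lemma hf_zero_left (v : Fin n → F) : hf (0 : Fin n → F) v = 0 := hermForm_zero_left v

omit [Fintype F] in
lemma hf_smul_right (a : F) (u v : Fin n → F) : hf u (a • v) = a ^ 2 * hf u v :=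
  hermForm_smul_right a u v

variable (hF : Fintype.card F = 4)
include hF

omit [Field F] in
lemma card_eq : Fintype.card F = 2 ^ 2 := by rw [hF]; norm_num

lemma hf_add_right (u v v' : Fin n → F) : hf u (v + v') = hf u v + hf u v' := by
  classical
  exact hermForm_add_right (card_eq hF) u v v'

lemma hf_conj (u v : Fin n → F) : hf u v ^ 2 = hf v u := by
  classical
  exact hermForm_conj (card_eq hF) u v

lemma hf_zero_right (u : Fin n → F) : hf u (0 : Fin n → F) = 0 := by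
  classical
  exact hermForm_zero_right (card_eq hF) u

lemma hf_self_01 (u : Fin n → F) : hf u u = 0 ∨ hf u u = 1 :=
  eq_zero_or_one_of_sq (hf_conj hF u u)

lemma hf_symm_zero {u v : Fin n → F} (h : hf u v = 0) : hf v u = 0 := by
  rw [← hf_conj hF, h]; ring

end Form

section Transv
variable {F : Type*} [Field F] [Fintype F] {n : ℕ}

/-- matrix of the unitary transvection -/
def tvM (a : Fin n → F) : Matrix (Fin n) (Fin n) F :=
  1 + Matrix.vecMulVec a (fun j => a j ^ 2)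

omit [Fintype F] in
lemma tvM_mulVec (a v : Fin n → F) : tvM a *ᵥ v = v + hf v a • a := by
  unfold tvM
  rw [Matrix.add_mulVec, Matrix.one_mulVec, Matrix.vecMulVec_mulVec]
  congr 1
  ext i
  have : (fun j => a j ^ 2) ⬝ᵥ v = hf v a := by
    simp only [dotProduct, hf, hermForm]
    apply Finset.sum_congr rfl
    intro j _
    ring
  simp [this, mul_comm]

omit [Fintype F] in
lemma tvM_det (a : Fin n → F) (ha : hf a a = 0) : (tvM a).det = 1 := by
  have h1 : tvM a = 1 + Matrix.replicateCol Unit a * Matrix.replicateRow Unit (fun j => a j ^ 2) := by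
    unfold tvM; congr 1
    ext i j; simp [Matrix.vecMulVec_apply, Matrix.mul_apply]
  have h2 : (fun j => a j ^ 2) ⬝ᵥ a = hf a a := by
    simp only [dotProduct, hf, hermForm]
    apply Finset.sum_congr rfl
    intro j _
    ring
  rw [h1, Matrix.det_one_add_replicateCol_mul_replicateRow, h2, ha, add_zero]

/-- the unitary transvection as an element of GL -/
noncomputable def tv (a : Fin n → F) (ha : hf a a = 0) : GL (Fin n) F :=
  Matrix.GeneralLinearGroup.mkOfDetNeZero (tvM a) (by rw [tvM_det a ha]; exact one_ne_zero)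

omit [Fintype F] in
lemma tv_mulVec (a : Fin n → F) (ha : hf a a = 0) (v : Fin n → F) :
    ((tv a ha : GL (Fin n) F) : Matrix (Fin n) (Fin n) F) *ᵥ v = v + hf v a • a := by
  change tvM a *ᵥ v = _
  exact tvM_mulVec a v

omit [Fintype F] in
lemma tv_mem_SL (a : Fin n → F) (ha : hf a a = 0) : tv a ha ∈ Geo.specialLinear (Fin n) F := by
  change _ ∈ (Matrix.GeneralLinearGroup.det : GL (Fin n) F →* Fˣ).ker
  rw [MonoidHom.mem_ker]
  apply Units.ext
  simp [tv, tvM_det a ha]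

variable (hF : Fintype.card F = 4)
include hF

lemma tv_mem_GU (a : Fin n → F) (ha : hf a a = 0) : tv a ha ∈ GU n F 2 := by
  classical
  rw [mem_GU_iff]
  intro u v
  rw [tv_mulVec, tv_mulVec]
  change hf (u + hf u a • a) (v + hf v a • a) = hf u v
  rw [hf_add_left, hf_add_right hF, hf_add_right hF, hf_smul_left, hf_smul_left, hf_smul_right,
    hf_smul_right, ha, ← hf_conj hF v a]
  linear_combination (hf u a * hf v a ^ 2) * one_add_one hF

lemma tv_tv (a : Fin n → F) (ha : hf a a = 0) (v : Fin n → F) :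
    ((tv a ha : GL (Fin n) F) : Matrix (Fin n) (Fin n) F) *ᵥ
      (((tv a ha : GL (Fin n) F) : Matrix (Fin n) (Fin n) F) *ᵥ v) = v := by
  rw [tv_mulVec, tv_mulVec, hf_add_left, hf_smul_left, ha, mul_zero, add_zero, add_assoc,
    add_self_vec hF, add_zero]

end Transv

section Span
variable {F : Type*} [Field F] {n : ℕ}

lemma mem_span_pair_of_finrank_two {W : Submodule F (Fin n → F)} (hW : Module.finrank F W = 2)
    {u w : Fin n → F} (hu : u ∈ W) (hw : w ∈ W)
    (hli : ∀ s t : F, s • u + t • w = 0 → s = 0 ∧ t = 0) (x : Fin n → F) (hx : x ∈ W) :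
    ∃ α β : F, x = α • u + β • w := by
  have hli' : LinearIndependent F ![u, w] := LinearIndependent.pair_iff.mpr hli
  have hspan : Submodule.span F (Set.range ![u, w]) = W := by
    apply Submodule.eq_of_le_of_finrank_eq
    · rw [Submodule.span_le]
      rintro _ ⟨k, rfl⟩
      fin_cases k
      · exact hu
      · exact hw
    · rw [finrank_span_eq_card hli', hW]
      rfl
  rw [← hspan] at hx
  obtain ⟨c, hc⟩ := (Submodule.mem_span_range_iff_exists_fun F).mp hx
  refine ⟨c 0, c 1, ?_⟩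
  rw [← hc, Fin.sum_univ_two]
  rfl

lemma exists_not_smul {W : Submodule F (Fin n → F)} (hW : Module.finrank F W = 2)
    (u : Fin n → F) : ∃ x ∈ W, ∀ c : F, x ≠ c • u := by
  by_contra h
  push Not at h
  have hle : W ≤ Submodule.span F {u} := by
    intro x hx
    obtain ⟨c, hc⟩ := h x hx
    rw [hc]
    exact Submodule.smul_mem _ _ (Submodule.mem_span_singleton_self u)
  have h1 := Submodule.finrank_mono hle
  have h2 : Module.finrank F (Submodule.span F {u}) ≤ 1 := by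
    have := finrank_span_le_card (R := F) ({u} : Set (Fin n → F))
    simpa using this
  omega

end Span

section UForm
variable {F : Type*} [Field F] [Fintype F] (hF : Fintype.card F = 4) {κ : Type} [Fintype κ]
  [DecidableEq κ] (f : (κ → F) → (κ → F) → F) (hU : Geo.IsUnitaryFormPow 2 f)
include hF hU

lemma uf_add_right (v x y : κ → F) : f v (x + y) = f v x + f v y := by
  rw [hU.herm v (x + y), hU.add_left, hU.herm v x, hU.herm v y]
  linear_combination (f x v * f y v) * one_add_one hF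

omit hF in
lemma uf_smul_right (c : F) (v x : κ → F) : f v (c • x) = c ^ 2 * f v x := by
  rw [hU.herm v (c • x), hU.smul_left, hU.herm v x, mul_pow]

omit hF in
lemma uf_zero_left (v : κ → F) : f 0 v = 0 := by
  have := hU.smul_left 0 0 v
  simpa using this

omit hF in
lemma uf_zero_right (v : κ → F) : f v 0 = 0 := by
  rw [hU.herm, uf_zero_left f hU]; ring

omit hF in
lemma uf_conj (u v : κ → F) : f u v ^ 2 = f v u := (hU.herm v u).symm

omit hF in
lemma uf_self_01 (u : κ → F) : f u u = 0 ∨ f u u = 1 :=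
  eq_zero_or_one_of_sq (uf_conj f hU u u)

omit hF in
lemma uf_symm_zero {u v : κ → F} (h : f u v = 0) : f v u = 0 := by
  rw [hU.herm, h]; ring

omit hF in
lemma uf_nondeg_left {x : κ → F} (h : ∀ y, f x y = 0) : x = 0 := by
  by_contra hx
  obtain ⟨-, ⟨y, hy⟩⟩ := hU.nondegenerate x hx
  exact hy (h y)

omit hF in
lemma uf_sum_left {ι : Type*} (s : Finset ι) (g : ι → κ → F) (v : κ → F) :
    f (∑ i ∈ s, g i) v = ∑ i ∈ s, f (g i) v := by
  classical
  induction s using Finset.induction_on with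
  | empty => simp [uf_zero_left f hU]
  | insert a s ha ih => rw [Finset.sum_insert ha, Finset.sum_insert ha, hU.add_left, ih]

lemma uf_sum_right {ι : Type*} (s : Finset ι) (g : ι → κ → F) (v : κ → F) :
    f v (∑ i ∈ s, g i) = ∑ i ∈ s, f v (g i) := by
  classical
  induction s using Finset.induction_on with
  | empty => simp [uf_zero_right f hU]
  | insert a s ha ih =>
    rw [Finset.sum_insert ha, Finset.sum_insert ha, uf_add_right hF f hU, ih]

/-- a pair with non-zero product in a subspace gives a unit vector in it -/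
lemma uf_unit_of_pair (W : Submodule F (κ → F)) {x y : κ → F} (hx : x ∈ W) (hy : y ∈ W)
    (hxy : f x y ≠ 0) : ∃ p ∈ W, f p p = 1 := by
  by_contra hcon
  push Not at hcon
  have h0 : ∀ u ∈ W, f u u = 0 := fun u hu =>
    (uf_self_01 f hU u).resolve_right (hcon u hu)
  obtain ⟨ω, hω0, hω1⟩ := exists_omega hF
  set x' := (ω * (f x y)⁻¹) • x with hx'
  have hx'W : x' ∈ W := Submodule.smul_mem _ _ hx
  have h1 : f x' y = ω := by
    rw [hx', hU.smul_left, mul_assoc, inv_mul_cancel₀ hxy, mul_one]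
  have h2 : f y x' = ω ^ 2 := by rw [hU.herm, h1]
  have h3 := h0 (x' + y) (Submodule.add_mem _ hx'W hy)
  rw [hU.add_left, uf_add_right hF f hU, uf_add_right hF f hU, h0 x' hx'W, h0 y hy, h1, h2,
    zero_add, add_zero] at h3
  have h4 : ω * (1 + ω) = 0 := by linear_combination h3
  rcases mul_eq_zero.mp h4 with h5 | h5
  · exact hω0 h5
  · apply hω1
    have := one_add_one hF
    linear_combination h5 - this

end UForm

section UFormFin
variable {F : Type*} [Field F] [Fintype F] (hF : Fintype.card F = 4) {k : ℕ}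
  (f : (Fin k → F) → (Fin k → F) → F) (hU : Geo.IsUnitaryFormPow 2 f)
include hF hU

lemma uf_exists_unit (hk : 1 ≤ k) : ∃ p : Fin k → F, f p p = 1 := by
  set e : Fin k → F := Pi.single ⟨0, by omega⟩ 1 with he
  have he0 : e ≠ 0 := by
    intro h
    have := congrFun h ⟨0, by omega⟩
    simp [he] at this
  obtain ⟨⟨x, hxe⟩, -⟩ := hU.nondegenerate e he0
  obtain ⟨p, -, hp⟩ := uf_unit_of_pair hF f hU ⊤ (Submodule.mem_top (x := x))
    (Submodule.mem_top (x := e)) hxe
  exact ⟨p, hp⟩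

/-- the orthogonal complement of a vector -/
def perpSub (p : Fin k → F) : Submodule F (Fin k → F) where
  carrier := {x | f x p = 0}
  add_mem' := fun {a b} ha hb => by
    change f (a + b) p = 0
    rw [hU.add_left, ha, hb, add_zero]
  zero_mem' := uf_zero_left f hU p
  smul_mem' := fun c x hx => by
    change f (c • x) p = 0
    rw [hU.smul_left, hx, mul_zero]

lemma uf_exists_unit_perp (hk : 2 ≤ k) (p : Fin k → F) (hp : f p p = 1) :
    ∃ p' : Fin k → F, f p' p' = 1 ∧ f p' p = 0 ∧ f p p' = 0 := by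
  set e0 : Fin k → F := Pi.single ⟨0, by omega⟩ 1 with he0
  set e1 : Fin k → F := Pi.single ⟨1, by omega⟩ 1 with he1
  -- a non-zero vector orthogonal to p
  obtain ⟨x₀, hx₀p, hx₀⟩ : ∃ x₀ : Fin k → F, f x₀ p = 0 ∧ x₀ ≠ 0 := by
    by_cases h0 : f e0 p = 0
    · refine ⟨e0, h0, ?_⟩
      intro h
      have := congrFun h ⟨0, by omega⟩
      simp [he0] at this
    · refine ⟨f e1 p • e0 + f e0 p • e1, ?_, ?_⟩
      · rw [hU.add_left, hU.smul_left, hU.smul_left, mul_comm]
        exact add_self hF _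
      · intro h
        have := congrFun h ⟨1, by omega⟩
        simp [he0, he1, Fin.ext_iff] at this
        exact h0 this
  obtain ⟨⟨z, hz⟩, -⟩ := hU.nondegenerate x₀ hx₀
  set z' := z + f z p • p with hz'
  have hz'p : f z' p = 0 := by
    rw [hz', hU.add_left, hU.smul_left, hp, mul_one]
    exact add_self hF _
  have hz'x : f z' x₀ ≠ 0 := by
    rw [hz', hU.add_left, hU.smul_left, uf_symm_zero f hU hx₀p, mul_zero, add_zero]
    exact hz
  obtain ⟨p', hp'W, hp'⟩ := uf_unit_of_pair hF f hU (perpSub f hU p) (x := z') (y := x₀)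
    hz'p hx₀p hz'x
  exact ⟨p', hp', hp'W, uf_symm_zero f hU hp'W⟩

end UFormFin

section UFormTwo
variable {F : Type*} [Field F] [Fintype F] (hF : Fintype.card F = 4)
  (f : (Fin 2 → F) → (Fin 2 → F) → F) (hU : Geo.IsUnitaryFormPow 2 f)
include hF hU

lemma uf_unique_of_ne {u v : Fin 2 → F} (hu1 : f u u = 1) (hv1 : f v v ≠ 0) (hc : f v u ≠ 0) :
    v = f v u • u := by
  set c := f v u with hcdef
  set w := v + c • u with hw
  have hwu : f w u = 0 := by
    rw [hw, hU.add_left, hU.smul_left, hu1, mul_one, ← hcdef]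
    exact add_self hF c
  have huw : f u w = 0 := uf_symm_zero f hU hwu
  have hvv : f v v = 1 := (uf_self_01 f hU v).resolve_left hv1
  have huv : f u v = c ^ 2 := by rw [← uf_conj f hU]
  have hww : f w w = 0 := by
    rw [hw, hU.add_left, uf_add_right hF f hU, uf_add_right hF f hU, hU.smul_left, hU.smul_left,
      uf_smul_right f hU, uf_smul_right f hU, hu1, hvv, huv, ← hcdef]
    have h3 := cube_eq_one hF hc
    have h11 := one_add_one hF
    linear_combination (1 + c ^ 3) * h11 + h3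
  by_contra hne
  have hw0 : w ≠ 0 := by
    intro h0
    apply hne
    have : v + c • u + c • u = c • u := by rw [← hw, h0, zero_add]
    rwa [add_assoc, add_self_vec hF, add_zero] at this
  obtain ⟨⟨x, hxw⟩, -⟩ := hU.nondegenerate w hw0
  have hli : ∀ s t : F, s • u + t • w = 0 → s = 0 ∧ t = 0 := by
    intro s t hst
    have h1 := congrArg (fun y => f y u) hst
    simp only [hU.add_left, hU.smul_left, hu1, hwu, uf_zero_left f hU, mul_one, mul_zero,
      add_zero] at h1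
    refine ⟨h1, ?_⟩
    rw [h1, zero_smul, zero_add] at hst
    rcases smul_eq_zero.mp hst with h | h
    · exact h
    · exact absurd h hw0
  obtain ⟨α, β, hαβ⟩ := mem_span_pair_of_finrank_two (W := (⊤ : Submodule F (Fin 2 → F)))
    (by rw [finrank_top, Module.finrank_fin_fun]) (Submodule.mem_top (x := u))
    (Submodule.mem_top (x := w)) hli x Submodule.mem_top
  apply hxw
  rw [hαβ, hU.add_left, hU.smul_left, hU.smul_left, huw, hww, mul_zero, mul_zero, add_zero]

end UFormTwo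

section Tensor
variable {F : Type*} [Field F] {n n₂ : ℕ} (e : Fin n ≃ Fin 2 × Fin n₂) (P : GL (Fin n) F)

/-- pure tensors in coordinates -/
def pt (u : Fin 2 → F) (v : Fin n₂ → F) : Fin 2 × Fin n₂ → F := fun p => u p.1 * v p.2

/-- pure tensors in `F^n` -/
def tau (u : Fin 2 → F) (v : Fin n₂ → F) : Fin n → F :=
  (P : Matrix (Fin n) (Fin n) F) *ᵥ (pt u v ∘ e)

lemma pt_add_left (u u' : Fin 2 → F) (v : Fin n₂ → F) : pt (u + u') v = pt u v + pt u' v := by
  ext p; simp [pt, add_mul]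

lemma pt_add_right (u : Fin 2 → F) (v v' : Fin n₂ → F) : pt u (v + v') = pt u v + pt u v' := by
  ext p; simp [pt, mul_add]

lemma pt_smul_left (c : F) (u : Fin 2 → F) (v : Fin n₂ → F) : pt (c • u) v = c • pt u v := by
  ext p; simp [pt, mul_assoc]

lemma pt_smul_right (c : F) (u : Fin 2 → F) (v : Fin n₂ → F) : pt u (c • v) = c • pt u v := by
  ext p; simp [pt, mul_left_comm]

lemma tau_add_left (u u' : Fin 2 → F) (v : Fin n₂ → F) :
    tau e P (u + u') v = tau e P u v + tau e P u' v := by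
  unfold tau; rw [pt_add_left, ← Matrix.mulVec_add]; rfl

lemma tau_add_right (u : Fin 2 → F) (v v' : Fin n₂ → F) :
    tau e P u (v + v') = tau e P u v + tau e P u v' := by
  unfold tau; rw [pt_add_right, ← Matrix.mulVec_add]; rfl

lemma tau_smul_left (c : F) (u : Fin 2 → F) (v : Fin n₂ → F) :
    tau e P (c • u) v = c • tau e P u v := by
  unfold tau; rw [pt_smul_left, ← Matrix.mulVec_smul]; rfl

lemma tau_smul_right (c : F) (u : Fin 2 → F) (v : Fin n₂ → F) :
    tau e P u (c • v) = c • tau e P u v := by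
  unfold tau; rw [pt_smul_right, ← Matrix.mulVec_smul]; rfl

lemma formOfGram_pt (σ : F → F) (hσ : ∀ a b, σ (a * b) = σ a * σ b)
    (G₁ : Matrix (Fin 2) (Fin 2) F) (G₂ : Matrix (Fin n₂) (Fin n₂) F)
    (u u' : Fin 2 → F) (v v' : Fin n₂ → F) :
    Geo.formOfGram σ (G₁ ⊗ₖ G₂) (pt u v) (pt u' v') =
      Geo.formOfGram σ G₁ u u' * Geo.formOfGram σ G₂ v v' := by
  unfold Geo.formOfGram pt
  simp only [Fintype.sum_prod_type, Matrix.kroneckerMap_apply, hσ]
  rw [Finset.sum_mul_sum]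
  apply Finset.sum_congr rfl; intro i _
  apply Finset.sum_congr rfl; intro k _
  rw [Finset.sum_mul_sum]
  apply Finset.sum_congr rfl; intro j _
  apply Finset.sum_congr rfl; intro l _
  ring

lemma kron_mulVec_pt (a : Matrix (Fin 2) (Fin 2) F) (b : Matrix (Fin n₂) (Fin n₂) F)
    (u : Fin 2 → F) (v : Fin n₂ → F) : (a ⊗ₖ b) *ᵥ pt u v = pt (a *ᵥ u) (b *ᵥ v) := by
  ext ⟨i, k⟩
  simp only [Matrix.mulVec, dotProduct, pt, Fintype.sum_prod_type, Matrix.kroneckerMap_apply]
  rw [Finset.sum_mul_sum]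
  apply Finset.sum_congr rfl; intro j _
  apply Finset.sum_congr rfl; intro l _
  ring

lemma T_act {g : GL (Fin n) F} (hg : g ∈ Geo.tensorProductSubgroup 2 n₂ e P) :
    ∃ (a : GL (Fin 2) F) (b : GL (Fin n₂) F), ∀ u v,
      (g : Matrix (Fin n) (Fin n) F) *ᵥ tau e P u v =
        tau e P ((a : Matrix (Fin 2) (Fin 2) F) *ᵥ u) ((b : Matrix (Fin n₂) (Fin n₂) F) *ᵥ v) := by
  obtain ⟨y, ⟨k, ⟨a, b, hk⟩, rfl⟩, rfl⟩ := hg
  refine ⟨a, b, fun u v => ?_⟩
  have h1 : (((MulAut.conj P).toMonoidHom ((Geo.glReindex (F := F) e.symm).toMonoidHom k) :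
      GL (Fin n) F) : Matrix (Fin n) (Fin n) F) =
      (P : Matrix (Fin n) (Fin n) F) *
        ((k : Matrix (Fin 2 × Fin n₂) (Fin 2 × Fin n₂) F).submatrix e e) *
        ((P⁻¹ : GL (Fin n) F) : Matrix (Fin n) (Fin n) F) := rfl
  unfold tau
  rw [h1, Matrix.mulVec_mulVec, mul_assoc, ← Units.val_mul, inv_mul_cancel, Units.val_one, mul_one,
    ← Matrix.mulVec_mulVec, Matrix.submatrix_mulVec_equiv, Function.comp_assoc,
    Equiv.self_comp_symm, Function.comp_id, hk, kron_mulVec_pt]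

end Tensor

section GramExp
variable {F : Type*} [Field F] [Fintype F] (hF : Fintype.card F = 4) {κ : Type} [Fintype κ]
  [DecidableEq κ] (f : (κ → F) → (κ → F) → F) (hU : Geo.IsUnitaryFormPow 2 f)
include hF hU

lemma uf_eq_formOfGram (x y : κ → F) :
    f x y = Geo.formOfGram (fun a : F => a ^ 2) (Geo.gramMatrix f) x y := by
  have hx : x = ∑ a, x a • (Pi.single a (1 : F) : κ → F) := by
    ext j; simp [Finset.sum_apply, Pi.single_apply]
  have hy : y = ∑ b, y b • (Pi.single b (1 : F) : κ → F) := by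
    ext j; simp [Finset.sum_apply, Pi.single_apply]
  calc f x y = f (∑ a, x a • (Pi.single a (1 : F) : κ → F))
        (∑ b, y b • (Pi.single b (1 : F) : κ → F)) := by rw [← hx, ← hy]
    _ = _ := by
      rw [uf_sum_left f hU]
      unfold Geo.formOfGram Geo.gramMatrix
      apply Finset.sum_congr rfl; intro a _
      rw [uf_sum_right hF f hU]
      apply Finset.sum_congr rfl; intro b _
      rw [hU.smul_left, uf_smul_right f hU]; ring

end GramExp

section HermTau
variable {F : Type*} [Field F] [Fintype F] (hF : Fintype.card F = 4) {n n₂ : ℕ}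
  (e : Fin n ≃ Fin 2 × Fin n₂) (P : GL (Fin n) F)
  (f₁ : (Fin 2 → F) → (Fin 2 → F) → F) (hU₁ : Geo.IsUnitaryFormPow 2 f₁)
  (f₂ : (Fin n₂ → F) → (Fin n₂ → F) → F) (hU₂ : Geo.IsUnitaryFormPow 2 f₂)
  (c₀ : F)
  (hT : ∀ x y : Fin 2 × Fin n₂ → F,
    hermForm n F 2 ((P : Matrix (Fin n) (Fin n) F) *ᵥ (x ∘ e))
      ((P : Matrix (Fin n) (Fin n) F) *ᵥ (y ∘ e)) =
      c₀ * Geo.formOfGram (fun a : F => a ^ 2) (Geo.gramMatrix f₁ ⊗ₖ Geo.gramMatrix f₂) x y)
include hF hU₁ hU₂ hT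

lemma herm_tau (u u' : Fin 2 → F) (v v' : Fin n₂ → F) :
    hf (tau e P u v) (tau e P u' v') = c₀ * (f₁ u u' * f₂ v v') := by
  unfold tau hf
  rw [hT, formOfGram_pt _ (fun a b => mul_pow a b 2), ← uf_eq_formOfGram hF f₁ hU₁,
    ← uf_eq_formOfGram hF f₂ hU₂]

end HermTau

section Main
variable {F : Type*} [Field F] [Fintype F] (hF : Fintype.card F = 4) {n n₂ : ℕ}
  (e : Fin n ≃ Fin 2 × Fin n₂) (P : GL (Fin n) F)
  (f₁ : (Fin 2 → F) → (Fin 2 → F) → F) (hU₁ : Geo.IsUnitaryFormPow 2 f₁)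
  (f₂ : (Fin n₂ → F) → (Fin n₂ → F) → F) (hU₂ : Geo.IsUnitaryFormPow 2 f₂)
  (c₀ : F) (hc₀ : c₀ ≠ 0)
  (hH : ∀ (u u' : Fin 2 → F) (v v' : Fin n₂ → F),
    hf (tau e P u v) (tau e P u' v') = c₀ * (f₁ u u' * f₂ v v'))

/-- pure tensors with non-isotropic first factor -/
def S' : Set (Fin n → F) := {z | ∃ u v, f₁ u u ≠ 0 ∧ z = tau e P u v}

/-- the stabilizer of `S'` -/
def KS : Subgroup (GL (Fin n) F) where
  carrier := {g | ∀ z, (g : Matrix (Fin n) (Fin n) F) *ᵥ z ∈ S' e P f₁ ↔ z ∈ S' e P f₁}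
  mul_mem' := fun {a b} ha hb v => by rw [Units.val_mul, ← Matrix.mulVec_mulVec, ha, hb]
  one_mem' := fun v => by simp
  inv_mem' := fun {a} ha v => by
    have := ha (((a⁻¹ : GL (Fin n) F) : Matrix (Fin n) (Fin n) F) *ᵥ v)
    rw [Matrix.mulVec_mulVec, ← Units.val_mul, mul_inv_cancel, Units.val_one,
      Matrix.one_mulVec] at this
    exact this.symm

include hc₀ hH in
lemma stab_fwd {p₁ : Fin n₂ → F} (hp₁ : f₂ p₁ p₁ = 1) {g : GL (Fin n) F}
    (hg : g ∈ Geo.tensorProductSubgroup 2 n₂ e P) (hgU : g ∈ GU n F 2) {z : Fin n → F}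
    (hz : z ∈ S' e P f₁) : (g : Matrix (Fin n) (Fin n) F) *ᵥ z ∈ S' e P f₁ := by
  classical
  obtain ⟨a, b, hab⟩ := T_act e P hg
  obtain ⟨u, v, hu, rfl⟩ := hz
  refine ⟨_, _, ?_, hab u v⟩
  have h1 := (mem_GU_iff g).mp hgU (tau e P u p₁) (tau e P u p₁)
  change hf _ _ = hf _ _ at h1
  rw [hab, hH, hH, hp₁, mul_one] at h1
  intro h0
  rw [h0, zero_mul, mul_zero] at h1
  exact (mul_ne_zero hc₀ hu) h1.symm

include hc₀ hH in
lemma stab_le_KS {p₁ : Fin n₂ → F} (hp₁ : f₂ p₁ p₁ = 1) {g : GL (Fin n) F}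
    (hg : g ∈ Geo.tensorProductSubgroup 2 n₂ e P ⊓ GU n F 2) : g ∈ KS e P f₁ := by
  intro v
  constructor
  · intro h
    have hinv : g⁻¹ ∈ Geo.tensorProductSubgroup 2 n₂ e P ⊓ GU n F 2 := Subgroup.inv_mem _ hg
    have := stab_fwd e P f₁ f₂ c₀ hc₀ hH hp₁ hinv.1 hinv.2 h
    rwa [Matrix.mulVec_mulVec, ← Units.val_mul, inv_mul_cancel, Units.val_one,
      Matrix.one_mulVec] at this
  · exact stab_fwd e P f₁ f₂ c₀ hc₀ hH hp₁ hg.1 hg.2

include hF hU₂ hc₀ in
lemma contract {A x : Fin 2 → F} {B r : Fin n₂ → F}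
    (h : ∀ y, c₀ * (f₁ A x * f₂ B y) = c₀ * f₂ r y) : f₁ A x • B = r := by
  have h1 : ∀ y, f₂ (f₁ A x • B + r) y = 0 := by
    intro y
    rw [hU₂.add_left, hU₂.smul_left, mul_left_cancel₀ hc₀ (h y)]
    exact add_self hF _
  have h0 := uf_nondeg_left f₂ hU₂ h1
  calc f₁ A x • B = f₁ A x • B + (r + r) := by rw [add_self_vec hF, add_zero]
    _ = (f₁ A x • B + r) + r := by rw [add_assoc]
    _ = r := by rw [h0, zero_add]

include hF hU₁ hH in
lemma g1_mem_KS {u₀ : Fin 2 → F} (hu₀ : f₁ u₀ u₀ = 1) (y₀ : Fin n₂ → F)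
    (hc : hf (tau e P u₀ y₀) (tau e P u₀ y₀) = 0) : tv (tau e P u₀ y₀) hc ∈ KS e P f₁ := by
  have key : ∀ z ∈ S' e P f₁, ((tv (tau e P u₀ y₀) hc : GL (Fin n) F) :
      Matrix (Fin n) (Fin n) F) *ᵥ z ∈ S' e P f₁ := by
    rintro z ⟨u, v, hu, rfl⟩
    rw [tv_mulVec, hH]
    by_cases hcu : f₁ u u₀ = 0
    · rw [hcu, zero_mul, mul_zero, zero_smul, add_zero]
      exact ⟨u, v, hu, rfl⟩
    · have huu := uf_unique_of_ne hF f₁ hU₁ hu₀ hu hcu
      have htu : tau e P u v = f₁ u u₀ • tau e P u₀ v := by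
        rw [← tau_smul_left, ← huu]
      refine ⟨u₀, f₁ u u₀ • v + (c₀ * (f₁ u u₀ * f₂ v y₀)) • y₀,
        by rw [hu₀]; exact one_ne_zero, ?_⟩
      rw [tau_add_right, tau_smul_right, tau_smul_right, htu]
  intro z
  constructor
  · intro hz
    have := key _ hz
    rwa [tv_tv hF] at this
  · exact key z

end Main

section Final
variable {F : Type*} [Field F] [Fintype F] (hF : Fintype.card F = 4)

include hF in
theorem main (n : ℕ) (hn : 13 ≤ n) (n₂ : ℕ) (e : Fin n ≃ Fin 2 × Fin n₂) (P : GL (Fin n) F)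
    (f₁ : (Fin 2 → F) → (Fin 2 → F) → F) (f₂ : (Fin n₂ → F) → (Fin n₂ → F) → F)
    (hU₁ : Geo.IsUnitaryFormPow 2 f₁) (hU₂ : Geo.IsUnitaryFormPow 2 f₂)
    (hT : Geo.IsTensorFormStructure (fun x : F => x ^ 2) (hermForm n F 2) f₁ f₂ e P) :
    ∃ K : Subgroup (GL (Fin n) F),
      Geo.tensorProductSubgroup 2 n₂ e P ⊓ (GU n F 2 ⊓ Geo.specialLinear (Fin n) F) < K ∧
        K < GU n F 2 ⊓ Geo.specialLinear (Fin n) F := by
  classical
  obtain ⟨c₀, hc₀, hT'⟩ := hT
  have hcard : n = 2 * n₂ := by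
    have := Fintype.card_congr e
    simpa using this
  have hn2 : 7 ≤ n₂ := by omega
  have hH := herm_tau hF e P f₁ hU₁ f₂ hU₂ c₀ hT'
  obtain ⟨u₀, hu₀⟩ := uf_exists_unit hF f₁ hU₁ (by norm_num)
  obtain ⟨w₀, hw₀, hwu, huw⟩ := uf_exists_unit_perp hF f₁ hU₁ (le_refl 2) u₀ hu₀
  obtain ⟨p₁, hp₁⟩ := uf_exists_unit hF f₂ hU₂ (by omega)
  obtain ⟨p₂, hp₂, hp21, hp12⟩ := uf_exists_unit_perp hF f₂ hU₂ (by omega) p₁ hp₁
  have h11 := one_add_one hF
  obtain ⟨y₀, hy₀def⟩ : ∃ y₀, y₀ = p₁ + p₂ := ⟨_, rfl⟩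
  have hy₀ : f₂ y₀ y₀ = 0 := by
    rw [hy₀def, hU₂.add_left, uf_add_right hF f₂ hU₂, uf_add_right hF f₂ hU₂, hp₁, hp₂, hp12,
      hp21]
    linear_combination h11
  have hp1y : f₂ p₁ y₀ = 1 := by rw [hy₀def, uf_add_right hF f₂ hU₂, hp₁, hp12, add_zero]
  have hy₀p2 : f₂ y₀ p₂ = 1 := by rw [hy₀def, hU₂.add_left, hp12, hp₂, zero_add]
  have hy₀p1 : f₂ y₀ p₁ = 1 := by rw [hy₀def, hU₂.add_left, hp₁, hp21, add_zero]
  have huw0 : f₁ (u₀ + w₀) u₀ = 1 := by rw [hU₁.add_left, hu₀, hwu, add_zero]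
  have huw1 : f₁ (u₀ + w₀) w₀ = 1 := by rw [hU₁.add_left, huw, hw₀, zero_add]
  have hu0uw : f₁ u₀ (u₀ + w₀) = 1 := by rw [uf_add_right hF f₁ hU₁, hu₀, huw, add_zero]
  have hc : hf (tau e P u₀ y₀) (tau e P u₀ y₀) = 0 := by rw [hH, hy₀]; ring
  have hc' : hf (tau e P (u₀ + w₀) y₀) (tau e P (u₀ + w₀) y₀) = 0 := by rw [hH, hy₀]; ring
  have hp10 : p₁ ≠ 0 := by
    intro h
    rw [h, uf_zero_left f₂ hU₂] at hp₁
    exact zero_ne_one hp₁
  refine ⟨KS e P f₁ ⊓ (GU n F 2 ⊓ Geo.specialLinear (Fin n) F), ?_, ?_⟩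
  · rw [lt_iff_le_and_ne]
    refine ⟨fun g hg => ⟨stab_le_KS e P f₁ f₂ c₀ hc₀ hH hp₁ ⟨hg.1, hg.2.1⟩, hg.2⟩, fun h => ?_⟩
    have hmem : tv (tau e P u₀ y₀) hc ∈
        KS e P f₁ ⊓ (GU n F 2 ⊓ Geo.specialLinear (Fin n) F) :=
      ⟨g1_mem_KS hF e P f₁ hU₁ f₂ c₀ hH hu₀ y₀ hc, tv_mem_GU hF _ hc, tv_mem_SL _ hc⟩
    rw [← h] at hmem
    obtain ⟨a, b, hab⟩ := T_act e P hmem.1
    have h1 := hab (u₀ + w₀) p₁
    rw [tv_mulVec, hH, huw0, hp1y, mul_one, mul_one] at h1
    obtain ⟨A, hA⟩ : ∃ A, A = (a : Matrix (Fin 2) (Fin 2) F) *ᵥ (u₀ + w₀) := ⟨_, rfl⟩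
    obtain ⟨B, hB⟩ : ∃ B, B = (b : Matrix (Fin n₂) (Fin n₂) F) *ᵥ p₁ := ⟨_, rfl⟩
    rw [← hA, ← hB] at h1
    have e1 : f₁ A w₀ • B = p₁ := by
      apply contract hF f₁ f₂ hU₂ c₀ hc₀
      intro y
      rw [← hH, ← h1, hf_add_left, hf_smul_left, hH, hH, huw1, huw, one_mul, zero_mul, mul_zero,
        mul_zero, add_zero]
    have e2 : f₁ A u₀ • B = p₁ + c₀ • y₀ := by
      apply contract hF f₁ f₂ hU₂ c₀ hc₀
      intro y
      rw [← hH, ← h1, hf_add_left, hf_smul_left, hH, hH, huw0, hu₀, one_mul, one_mul,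
        hU₂.add_left, hU₂.smul_left]
      ring
    have hα : f₁ A w₀ ≠ 0 := by
      intro h0
      rw [h0, zero_smul] at e1
      exact hp10 e1.symm
    have hBeq : B = (f₁ A w₀)⁻¹ • p₁ := by
      rw [← e1, smul_smul, inv_mul_cancel₀ hα, one_smul]
    rw [hBeq, smul_smul] at e2
    have e3 := congrArg (fun x => f₂ x p₂) e2
    simp only [hU₂.add_left, hU₂.smul_left, hp12, hy₀p2, mul_zero, mul_one, zero_add] at e3
    exact hc₀ e3.symm
  · rw [lt_iff_le_and_ne]
    refine ⟨inf_le_right, fun h => ?_⟩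
    have hmem : tv (tau e P (u₀ + w₀) y₀) hc' ∈ GU n F 2 ⊓ Geo.specialLinear (Fin n) F :=
      ⟨tv_mem_GU hF _ hc', tv_mem_SL _ hc'⟩
    rw [← h] at hmem
    have hzS : tau e P u₀ p₁ ∈ S' e P f₁ := ⟨u₀, p₁, by rw [hu₀]; exact one_ne_zero, rfl⟩
    have h1 := (hmem.1 (tau e P u₀ p₁)).mpr hzS
    rw [tv_mulVec, hH, hu0uw, hp1y, mul_one, mul_one] at h1
    obtain ⟨A, B, hAA, hAB⟩ := h1
    have e1 : f₁ A w₀ • B = c₀ • y₀ := by
      apply contract hF f₁ f₂ hU₂ c₀ hc₀
      intro y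
      rw [← hH, ← hAB, hf_add_left, hf_smul_left, hH, hH, huw, huw1, zero_mul, mul_zero, zero_add,
        one_mul, hU₂.smul_left]
    have e2 : f₁ A u₀ • B = p₁ + c₀ • y₀ := by
      apply contract hF f₁ f₂ hU₂ c₀ hc₀
      intro y
      rw [← hH, ← hAB, hf_add_left, hf_smul_left, hH, hH, hu₀, huw0, one_mul, one_mul,
        hU₂.add_left, hU₂.smul_left]
      ring
    have hy₀0 : c₀ • y₀ ≠ 0 := by
      intro h0
      have := congrArg (fun x => f₂ x p₂) h0
      simp only [hU₂.smul_left, hy₀p2, mul_one, uf_zero_left f₂ hU₂] at this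
      exact hc₀ this
    have hα : f₁ A w₀ ≠ 0 := by
      intro h0
      rw [h0, zero_smul] at e1
      exact hy₀0 e1.symm
    have hBeq : B = (f₁ A w₀)⁻¹ • (c₀ • y₀) := by
      rw [← e1, smul_smul, inv_mul_cancel₀ hα, one_smul]
    rw [hBeq, smul_smul, smul_smul] at e2
    have e3 := congrArg (fun x => f₂ x p₂) e2
    simp only [hU₂.add_left, hU₂.smul_left, hp12, hy₀p2, mul_zero, mul_one, zero_add] at e3
    have e4 := congrArg (fun x => f₂ x p₁) e2
    simp only [hU₂.add_left, hU₂.smul_left, hp₁, hy₀p1, mul_one] at e4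
    rw [e3] at e4
    exact one_ne_zero (by linear_combination (-1 : F) * e4 : (1 : F) = 0)

end Final

end S5671aux

end Aux

/-- Let F be the field with 4 elements (q = 2) and n = 2 n₂ ≥ 13. Suppose the standard unitary form Σ u_i v_i² on F^n is similar, through P and e, to the tensor product of non-degenerate unitary forms f₁ on F^2 and f₂ on F^(n₂). Then the elements of SU_n(2) in the stabiliser of this tensor decomposition form a subgroup that is not maximal: some subgroup lies strictly between it and SU_n(2). -/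
theorem result {F : Type*} [Field F] [Fintype F] (n : ℕ) (hF : Fintype.card F = 4) (hn : 13 ≤ n) (n₂ : ℕ) (e : Fin n ≃ Fin 2 × Fin n₂) (P : Matrix.GeneralLinearGroup (Fin n) F) (f₁ : (Fin 2 → F) → (Fin 2 → F) → F) (f₂ : (Fin n₂ → F) → (Fin n₂ → F) → F) (hf₁ : Cfsg.Geo.IsUnitaryFormPow 2 f₁) (hf₂ : Cfsg.Geo.IsUnitaryFormPow 2 f₂) (hT : Cfsg.Geo.IsTensorFormStructure (fun x : F => x ^ 2) (Cfsg.hermForm n F 2) f₁ f₂ e P) : ∃ K : Subgroup (Matrix.GeneralLinearGroup (Fin n) F), Cfsg.Geo.tensorProductSubgroup 2 n₂ e P ⊓ (Cfsg.GU n F 2 ⊓ Cfsg.Geo.specialLinear (Fin n) F) < K ∧ K < (Cfsg.GU n F 2 ⊓ Cfsg.Geo.specialLinear (Fin n) F) := by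
  exact S5671aux.main hF n hn n₂ e P f₁ f₂ hf₁ hf₂ hT

end Cfsg.Agent.S5671
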