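import Cfsg.Statements.S5675
import Cfsg.Agent.Lib.Helper5.NDGlue
import Cfsg.Agent.Lib.Helper25.SpinForms
import Cfsg.Agent.Lib.Helper14.OrthOdd

set_option autoImplicit false
open Cfsg

namespace Cfsg.Agent.S5675

/-- Let F be a finite field of odd order q, m ≥ 6, Q the standard quadratic form on F^(2m+1) and Ω the commutator subgroup of its isometry group. Let W be a non-zero subspace of even dimension on which the polar form of Q is non-degenerate; exclude the case q = 3, dim W = 2 with Q vanishing on some line of W (a plus-type plane). Then the elements of Ω stabilising W (equivalently, stabilising its orthogonal complement, of odd dimension) form a maximal subgroup of Ω. -/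
theorem result {F : Type*} [Field F] [Fintype F] (hodd : Odd (Fintype.card F)) (m : ℕ) (hm : 6 ≤ m) (W : Submodule F (Unit ⊕ (Fin m ⊕ Fin m) → F)) (hW0 : W ≠ ⊥) (hev : Even (Module.finrank F W)) (hW : Cfsg.Geo.IsNondegenerateOn (QuadraticMap.polar (Cfsg.quadFormOdd m F)) W) (hex : ¬ (Fintype.card F = 3 ∧ Module.finrank F W = 2 ∧ Cfsg.Geo.IsPlusTypeOn (Cfsg.quadFormOdd m F) W)) : Cfsg.Geo.IsMaximalIn (Cfsg.Geo.omegaGL (Cfsg.quadFormOdd m F)) (Cfsg.Geo.subspaceStabilizer W ⊓ Cfsg.Geo.omegaGL (Cfsg.quadFormOdd m F)) := by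
  have h2 : (2 : F) ≠ 0 := Cfsg.Agent.Lib.Helper25.Spin.two_ne_zero_of_odd_card hodd
  have hι : Fintype.card (Unit ⊕ (Fin m ⊕ Fin m)) = 2 * m + 1 := by
    simp only [Fintype.card_sum, Fintype.card_fin, Fintype.card_unit]
    omega
  obtain ⟨Qf, hQfe, hnd⟩ : ∃ Qf : QuadraticForm F (Unit ⊕ (Fin m ⊕ Fin m) → F),
      ⇑Qf = Cfsg.quadFormOdd m F ∧ (QuadraticMap.polarBilin Qf).Nondegenerate :=
    ⟨Cfsg.Agent.Lib.Helper25.Spin.qfOf (Cfsg.Agent.Lib.Helper14.isQF_odd (m := m) h2), rfl,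
      Cfsg.Agent.Lib.Helper25.Spin.qfOf_nondeg _⟩
  rw [← hQfe] at hW hex ⊢
  have hWnd := Cfsg.Agent.Lib.Helper5.NDMax.ndOn_of_isNondegenerateOn Qf hW
  have hfr := Cfsg.Agent.Lib.Helper25.MaxTS.finrank_perp hnd W
  rw [Module.finrank_fintype_fun_eq_card, hι] at hfr
  have hle : Module.finrank F W ≤ 2 * m + 1 := by
    have h := Submodule.finrank_le W
    rwa [Module.finrank_fintype_fun_eq_card, hι] at h
  obtain ⟨r, hr⟩ := hev
  have hW1 : W ≠ ⊤ := by
    intro h
    rw [h, finrank_top, Module.finrank_fintype_fun_eq_card, hι] at hr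
    omega
  apply Cfsg.Agent.Lib.Helper5.NDMax.isMaximalIn_nd' Qf hnd (by rw [hι]; omega) hWnd hW0 hW1
    (by rw [hι]; omega)
  rintro U hU ⟨hq, hU2, e, heU, he0, hQe⟩
  rcases hU with hU | hU
  · apply hex
    rw [hU] at hU2 heU
    refine ⟨?_, hU2, Cfsg.Agent.Lib.Helper5.NDMax.plus_of_sing Qf hU2 heU he0 hQe⟩
    have h1 := Fintype.one_lt_card (α := F)
    obtain ⟨s, hs⟩ := hodd
    omega
  · rw [hU] at hU2
    omega

end Cfsg.Agent.S5675
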