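import Cfsg.Statements.S5677
import Cfsg.Agent.Lib.Helper17.OC2Main
import Cfsg.Agent.Lib.Helper17.OC2Glue
import Cfsg.Agent.Lib.Helper25.SpinForms
import Cfsg.Agent.Lib.Helper14.OrthOdd

set_option autoImplicit false
open Cfsg

namespace Cfsg.Agent.S5677

/-- Let F be a finite field of odd order q, m ≥ 6, Q the standard quadratic form on F^(2m+1) and Ω the commutator subgroup of its isometry group. Let D be a decomposition of F^(2m+1) into t ≥ 2 pairwise orthogonal, pairwise Q-isometric subspaces of equal dimension k > 1 on which the polar form is non-degenerate. Unless q = 3 and k = 3, the elements of Ω permuting the members of D form a maximal subgroup of Ω. -/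
theorem result {F : Type*} [Field F] [Fintype F] (hodd : Odd (Fintype.card F)) (m : ℕ) (hm : 6 ≤ m) {t : ℕ} (k : ℕ) (hk : 1 < k) (D : Fin t → Submodule F (Unit ⊕ (Fin m ⊕ Fin m) → F)) (hD : Cfsg.Geo.IsOrthogonalMDecomposition (Cfsg.quadFormOdd m F) k D) (hex : ¬ (Fintype.card F = 3 ∧ k = 3)) : Cfsg.Geo.IsMaximalIn (Cfsg.Geo.omegaGL (Cfsg.quadFormOdd m F)) (Cfsg.Geo.decompositionStabilizer D ⊓ Cfsg.Geo.omegaGL (Cfsg.quadFormOdd m F)) := by
  have h2 : (2 : F) ≠ 0 := Cfsg.Agent.Lib.Helper25.Spin.two_ne_zero_of_odd_card hodd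
  obtain ⟨Qf, hQfe, hnd⟩ : ∃ Qf : QuadraticForm F (Unit ⊕ (Fin m ⊕ Fin m) → F),
      ⇑Qf = Cfsg.quadFormOdd m F ∧ (QuadraticMap.polarBilin Qf).Nondegenerate :=
    ⟨Cfsg.Agent.Lib.Helper25.Spin.qfOf (Cfsg.Agent.Lib.Helper14.isQF_odd (m := m) h2), rfl,
      Cfsg.Agent.Lib.Helper25.Spin.qfOf_nondeg _⟩
  rw [← hQfe] at hD ⊢
  exact Cfsg.Agent.Lib.Helper17.OC2Main.isMaximalIn_dec
    (Cfsg.Agent.Lib.Helper17.OC2Glue.geo hodd m hm k hk D Qf hnd hD hex)

end Cfsg.Agent.S5677
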