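-- Statement S5679 (row 5679): the frame stabilizer (orthogonal decomposition into lines) is maximal in Ω_{2m+1}(p).
-- Proof: helper29's glue `Fr2Main.result_of_base_odd` (dense exclusion + reduction to 13 coordinates) fed with
-- CORE13 = `FrCMain.coreProp` (helper17's plan notes/S5679_core_plan.md; leaves by helper1, 4, 6, 9, 11, 12, 15, 23,
-- 24, 27, 28, 29).
import Cfsg.Statements.S5679
import Cfsg.Agent.Lib.Helper29.Fr2MainG
import Cfsg.Agent.Lib.Helper17.FrCMain

set_option autoImplicit false
open Cfsg

namespace Cfsg.Agent.S5679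

/-- Let F be a field of odd prime order p, m ≥ 6, Q the standard quadratic form on F^(2m+1) and Ω the commutator subgroup of its isometry group. Let D be a decomposition of F^(2m+1) into pairwise orthogonal lines on which Q takes non-zero values lying in one square class (pairwise Q-isometric non-degenerate 1-spaces). Then the elements of Ω permuting these lines form a maximal subgroup of Ω. -/
theorem result {F : Type*} [Field F] [Fintype F] (hodd : Odd (Fintype.card F)) (m : ℕ) (hm : 6 ≤ m) (hprime : (Fintype.card F).Prime) {t : ℕ} (D : Fin t → Submodule F (Unit ⊕ (Fin m ⊕ Fin m) → F)) (hD : Cfsg.Geo.IsOrthogonalMDecomposition (Cfsg.quadFormOdd m F) 1 D) : Cfsg.Geo.IsMaximalIn (Cfsg.Geo.omegaGL (Cfsg.quadFormOdd m F)) (Cfsg.Geo.decompositionStabilizer D ⊓ Cfsg.Geo.omegaGL (Cfsg.quadFormOdd m F)) := by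
  exact Cfsg.Agent.Lib.Helper29.Fr2Main.result_of_base_odd hodd m hm
    (fun c hc κ _ _ hκ => Cfsg.Agent.Lib.Helper17.FrCMain.coreProp hprime hodd hc hκ) D hD

end Cfsg.Agent.S5679
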