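import Cfsg.Statements.S5683
import Cfsg.Agent.Lib.Helper25.SpinForms
import Cfsg.Agent.Lib.Helper14.OrthOdd
import Cfsg.Agent.Lib.Helper5.LSubC
import Cfsg.Agent.Lib.Helper18.OSubR2
import Cfsg.Agent.Lib.Helper19.OSubMain

set_option autoImplicit false
open Cfsg

namespace Cfsg.Agent.S5683

/-- Let F be a finite field of odd order, m ≥ 6, Q the standard quadratic form on F^(2m+1) and Ω the commutator subgroup of its isometry group. Let F₀ be a subfield with |F| = |F₀| ^ r for a prime r and P an invertible matrix such that Q takes values in F₀ on the F₀-span of the columns of P. Then the elements of Ω lying in the subfield group of P (the conjugate by P of the product of GL_(2m+1)(F₀) with the scalars) form a maximal subgroup of Ω. -/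
theorem result {F : Type*} [Field F] [Fintype F] (hodd : Odd (Fintype.card F)) (m : ℕ) (hm : 6 ≤ m) (F₀ : Subfield F) (r : ℕ) (hr : r.Prime) (hcard : Fintype.card F = Nat.card F₀ ^ r) (P : Matrix.GeneralLinearGroup (Unit ⊕ (Fin m ⊕ Fin m)) F) (hP : Cfsg.Geo.IsQuadFormRationalStructure (Cfsg.quadFormOdd m F) F₀ P) : Cfsg.Geo.IsMaximalIn (Cfsg.Geo.omegaGL (Cfsg.quadFormOdd m F)) (Cfsg.Geo.subfieldSubgroup F₀ P ⊓ Cfsg.Geo.omegaGL (Cfsg.quadFormOdd m F)) := by
  have h2 : (2 : F) ≠ 0 := Cfsg.Agent.Lib.Helper25.Spin.two_ne_zero_of_odd_card hodd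
  have hfr : Module.finrank F₀ F = r := Cfsg.Agent.Lib.Helper5.LSub.finrank_eq_of_card F₀ hcard
  have hp : (Module.finrank F₀ F).Prime := by rw [hfr]; exact hr
  have hι : Fintype.card (Unit ⊕ (Fin m ⊕ Fin m)) = 2 * m + 1 := by
    simp only [Fintype.card_sum, Fintype.card_fin, Fintype.card_unit]
    omega
  obtain ⟨Qf, hQf⟩ : ∃ Qf : QuadraticForm F (Unit ⊕ (Fin m ⊕ Fin m) → F), Qf =
    Cfsg.Agent.Lib.Helper25.Spin.qfOf (Cfsg.Agent.Lib.Helper14.isQF_odd (m := m) h2) := ⟨_, rfl⟩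
  have hnd : (QuadraticMap.polarBilin Qf).Nondegenerate := by
    rw [hQf]; exact Cfsg.Agent.Lib.Helper25.Spin.qfOf_nondeg _
  have hctx : Cfsg.Agent.Lib.Helper19.OSub.QCtx F₀ (Qf.comp (Matrix.toLin'
      (P : Matrix (Unit ⊕ (Fin m ⊕ Fin m)) (Unit ⊕ (Fin m ⊕ Fin m)) F))) := by
    refine ⟨Cfsg.Agent.Lib.Helper18.OSubLeaf.comp_nondeg Qf P hnd, by rw [hι]; omega, ?_⟩
    intro x hx
    rw [QuadraticMap.comp_apply, Matrix.toLin'_apply, hQf]
    exact hP x hx
  have := Cfsg.Agent.Lib.Helper18.OSubLeaf.maximal_transfer Qf F₀ P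
    (Cfsg.Agent.Lib.Helper19.OSub.maximal_std hctx h2 hp)
  rw [hQf] at this
  exact this

end Cfsg.Agent.S5683
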