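import Cfsg.Statements.S5688
import Cfsg.Agent.Lib.Helper5.NDGlue

set_option autoImplicit false
open Cfsg

namespace Cfsg.Agent.S5688

/-- Let F be a finite field with q elements, n ≥ 13 even, Q a non-degenerate quadratic form on F^n of plus type (some subspace of dimension n/2 is totally singular), and Ω the commutator subgroup of the isometry group of Q, viewed inside GL_n(F). Let W be a non-zero proper subspace with dim W ≠ n/2 on which the polar form of Q is non-degenerate. Exclude the case q ≤ 3 in which W, or its orthogonal complement, is a plane containing a line on which Q vanishes. Then the elements of Ω stabilising W form a maximal subgroup of Ω. -/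
theorem result {F : Type*} [Field F] [Fintype F] {n : ℕ} (hn : 13 ≤ n) (heven : Even n) (Q : (Fin n → F) → F) (hQ : Cfsg.Geo.IsNondegenerateQuadraticForm Q) (hplus : Cfsg.Geo.IsPlusTypeOn Q ⊤) (W : Submodule F (Fin n → F)) (hW0 : W ≠ ⊥) (hW1 : W ≠ ⊤) (hdim : 2 * Module.finrank F W ≠ n) (hW : Cfsg.Geo.IsNondegenerateOn (QuadraticMap.polar Q) W) (hex : ¬ (Fintype.card F ≤ 3 ∧ (∃ U : Submodule F (Fin n → F), Module.finrank F U = 2 ∧ Cfsg.Geo.IsNondegenerateOn (QuadraticMap.polar Q) U ∧ Cfsg.Geo.IsPlusTypeOn Q U ∧ (U = W ∨ (Cfsg.Geo.AreOrthogonalFor (QuadraticMap.polar Q) U W ∧ Module.finrank F U + Module.finrank F W = n))))) : Cfsg.Geo.IsMaximalIn (Cfsg.Geo.omegaGL Q) (Cfsg.Geo.subspaceStabilizer W ⊓ Cfsg.Geo.omegaGL Q) := by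
  obtain ⟨Qf, rfl, hnd⟩ := Cfsg.Agent.Lib.Helper25.Fam.exists_qf hQ
  have hcard : Fintype.card (Fin n) = n := Fintype.card_fin n
  have hWnd := Cfsg.Agent.Lib.Helper5.NDMax.ndOn_of_isNondegenerateOn Qf hW
  have hfr := Cfsg.Agent.Lib.Helper25.MaxTS.finrank_perp hnd W
  rw [Module.finrank_fintype_fun_eq_card, hcard] at hfr
  have hle : Module.finrank F W ≤ n := by
    have h := Submodule.finrank_le W
    rwa [Module.finrank_fintype_fun_eq_card, hcard] at h
  apply Cfsg.Agent.Lib.Helper5.NDMax.isMaximalIn_nd' Qf hnd (by rw [hcard]; exact hn) hWnd hW0 hW1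
    (by rw [hcard]; exact hdim)
  rintro U hU ⟨hq, hU2, e, heU, he0, hQe⟩
  apply hex
  refine ⟨hq, U, hU2, ?_, Cfsg.Agent.Lib.Helper5.NDMax.plus_of_sing Qf hU2 heU he0 hQe, ?_⟩
  · rcases hU with hU | hU
    · rw [hU]
      exact hW
    · rw [hU]
      exact Cfsg.Agent.Lib.Helper5.NDMax.isNondegenerateOn_of_ndOn Qf
        (Cfsg.Agent.Lib.Helper5.NDMax.ndOn_perp Qf hnd hWnd)
  · rcases hU with hU | hU
    · exact Or.inl hU
    · right
      rw [hU]
      refine ⟨fun u hu v hv => ?_, by omega⟩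
      rw [QuadraticMap.polar_comm]
      exact Cfsg.Agent.Lib.Helper5.NDMax.perp_orth Qf W v hv u hu

end Cfsg.Agent.S5688
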