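import Cfsg.Statements.S5689
import Cfsg.Agent.Lib.Helper5.NDMinus

set_option autoImplicit false
open Cfsg

namespace Cfsg.Agent.S5689

/-- Let F be a finite field with q elements, n ≥ 13 even, Q a non-degenerate quadratic form on F^n of minus type (no subspace of dimension n/2 is totally singular), and Ω the commutator subgroup of the isometry group of Q, viewed inside GL_n(F). Let W be a non-zero proper subspace on which the polar form of Q is non-degenerate, not of odd dimension n/2. Exclude the case q ≤ 3 in which W, or its orthogonal complement, is a plane containing a line on which Q vanishes. Then the elements of Ω stabilising W form a maximal subgroup of Ω. -/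
theorem result {F : Type*} [Field F] [Fintype F] {n : ℕ} (hn : 13 ≤ n) (heven : Even n) (Q : (Fin n → F) → F) (hQ : Cfsg.Geo.IsNondegenerateQuadraticForm Q) (hminus : ¬ Cfsg.Geo.IsPlusTypeOn Q ⊤) (W : Submodule F (Fin n → F)) (hW0 : W ≠ ⊥) (hW1 : W ≠ ⊤) (hdim : ¬ (2 * Module.finrank F W = n ∧ Odd (Module.finrank F W))) (hW : Cfsg.Geo.IsNondegenerateOn (QuadraticMap.polar Q) W) (hex : ¬ (Fintype.card F ≤ 3 ∧ (∃ U : Submodule F (Fin n → F), Module.finrank F U = 2 ∧ Cfsg.Geo.IsNondegenerateOn (QuadraticMap.polar Q) U ∧ Cfsg.Geo.IsPlusTypeOn Q U ∧ (U = W ∨ (Cfsg.Geo.AreOrthogonalFor (QuadraticMap.polar Q) U W ∧ Module.finrank F U + Module.finrank F W = n))))) : Cfsg.Geo.IsMaximalIn (Cfsg.Geo.omegaGL Q) (Cfsg.Geo.subspaceStabilizer W ⊓ Cfsg.Geo.omegaGL Q) := by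
  obtain ⟨Qf, rfl, hnd⟩ := Cfsg.Agent.Lib.Helper25.Fam.exists_qf hQ
  have hcard : Fintype.card (Fin n) = n := Fintype.card_fin n
  have hWnd := Cfsg.Agent.Lib.Helper5.NDMax.ndOn_of_isNondegenerateOn Qf hW
  have hfr := Cfsg.Agent.Lib.Helper25.MaxTS.finrank_perp hnd W
  rw [Module.finrank_fintype_fun_eq_card, hcard] at hfr
  have hle : Module.finrank F W ≤ n := by
    have h := Submodule.finrank_le W
    rwa [Module.finrank_fintype_fun_eq_card, hcard] at h
  have hexc' : ∀ U : Submodule F (Fin n → F),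
      (U = W ∨ U = Cfsg.Agent.Lib.Helper25.MaxTS.perp Qf W) →
      ¬ (Fintype.card F ≤ 3 ∧ Module.finrank F U = 2 ∧ ∃ e ∈ U, e ≠ 0 ∧ Qf e = 0) := by
    rintro U hU ⟨hq, hU2, e, heU, he0, hQe⟩
    apply hex
    refine ⟨hq, U, hU2, ?_, Cfsg.Agent.Lib.Helper5.NDMax.plus_of_sing Qf hU2 heU he0 hQe, ?_⟩
    · rcases hU with hU | hU
      · rw [hU]
        exact hW
      · rw [hU]
        exact Cfsg.Agent.Lib.Helper5.NDMax.isNondegenerateOn_of_ndOn Qf
          (Cfsg.Agent.Lib.Helper5.NDMax.ndOn_perp Qf hnd hWnd)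
    · rcases hU with hU | hU
      · exact Or.inl hU
      · right
        rw [hU]
        refine ⟨fun u hu v hv => ?_, by omega⟩
        rw [QuadraticMap.polar_comm]
        exact Cfsg.Agent.Lib.Helper5.NDMax.perp_orth Qf W v hv u hu
  by_cases hhalf : 2 * Module.finrank F W = n
  · have hev : ¬ Odd (Module.finrank F W) := fun h => hdim ⟨hhalf, h⟩
    rw [Nat.not_odd_iff_even] at hev
    obtain ⟨m, hm⟩ := hev
    apply Cfsg.Agent.Lib.Helper5.NDMax.isMaximalIn_nd Qf hnd (by rw [hcard]; omega)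
      (Cfsg.Agent.Lib.Helper5.NDMax.perp_orth Qf W) (Cfsg.Agent.Lib.Helper5.NDMax.perp_disj Qf hWnd)
      (Cfsg.Agent.Lib.Helper5.NDMax.perp_sup Qf hnd hWnd) (by omega) ?_ (hexc' _ (Or.inr rfl)) ?_
    · intro h
      rw [h, finrank_bot] at hfr
      omega
    · intro g _ hg
      exact hminus (Cfsg.Agent.Lib.Helper5.NDMax.plus_of_map_perp Qf hWnd (m := m) (by omega)
        (by rw [hcard]; exact hhalf) g hg)
  · exact Cfsg.Agent.Lib.Helper5.NDMax.isMaximalIn_nd' Qf hnd (by rw [hcard]; exact hn) hWnd hW0 hW1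
      (by rw [hcard]; exact hhalf) hexc'

end Cfsg.Agent.S5689
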