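import Cfsg.Statements.S5693
import Cfsg.Agent.Lib.Helper5.DecompNM2
import Cfsg.Agent.Lib.Helper9.QuadBridge

set_option autoImplicit false
open Cfsg

namespace Cfsg.Agent.S5693

namespace S5693aux

open Module QuadraticMap Matrix Cfsg.Agent.Lib.Helper5.DecompNM Cfsg.Agent.Lib.Helper9.PlusPlane
open Cfsg.Agent.Lib.Helper9.FrameF3

variable {ι : Type} [Fintype ι] [DecidableEq ι] {F : Type*} [Field F] [Fintype F]

theorem main_bundled (Q : QuadraticForm F (ι → F)) (hQ : (polarBilin Q).Nondegenerate)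
    (hn : 13 ≤ Fintype.card ι) {t : ℕ} (k : ℕ) (D : Fin t → Submodule F (ι → F))
    (hD : Cfsg.Geo.IsOrthogonalMDecomposition ⇑Q k D)
    (hcase : ((k = 2 ∧ (Fintype.card F = 3 ∨ ((∀ i, Cfsg.Geo.IsPlusTypeOn ⇑Q (D i)) ∧
      (Fintype.card F = 2 ∨ Fintype.card F = 4 ∨ Fintype.card F = 5)))) ∨
      (k = 3 ∧ Fintype.card F = 3) ∨
      (k = 4 ∧ Fintype.card F = 2 ∧ ∀ i, Cfsg.Geo.IsPlusTypeOn ⇑Q (D i)))) :
    ∃ K : Subgroup (GL ι F), Cfsg.Geo.decompositionStabilizer D ⊓ Cfsg.Geo.omegaGL ⇑Q < K ∧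
      K < Cfsg.Geo.omegaGL ⇑Q := by
  have hdim := dim_eq hD.decomp.decomp
  have horth := hD.decomp.orthogonal
  have hfr := hD.decomp.decomp.finrank_eq
  have planes : k = 2 → (∀ i, Cfsg.Geo.IsPlusTypeOn ⇑Q (D i)) →
      ∃ e f : Fin t → ι → F, HypCoords Q D e f := by
    intro hk hpl
    have hex : ∀ i, ∃ e f : ι → F, e ∈ D i ∧ f ∈ D i ∧ HP Q e f ∧
        ∀ v ∈ D i, ∃ x y : F, v = x • e + y • f := by
      intro i
      obtain ⟨U, hUW, hU, hUd⟩ := hpl i
      rw [hfr i, hk] at hUd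
      exact exists_hp (Q := Q) (D i) (by rw [hfr i, hk])
        (fun w hw hw0 => (hD.decomp.nondegenerate i w hw hw0).1) U hUW hU (by omega)
    choose e f he hf hp hspan using hex
    exact ⟨e, f, ⟨he, hf, hp, hspan, horth⟩⟩
  rcases hcase with ⟨hk, h3 | ⟨hpl, hq⟩⟩ | ⟨hk, h3⟩ | ⟨hk, hq, hpl⟩
  · -- planes over the field with three elements
    by_cases hex : ∃ i, Cfsg.Geo.IsPlusTypeOn ⇑Q (D i)
    · obtain ⟨i₀, hi₀⟩ := hex
      have hpl : ∀ i, Cfsg.Geo.IsPlusTypeOn ⇑Q (D i) :=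
        fun i => plusType_of_isometric Q (hD.isometric i₀ i) hi₀
      obtain ⟨e, f, hc⟩ := planes hk hpl
      have ht : 6 ≤ t := by rw [hk] at hdim; omega
      exact hc.mainA hQ (by omega) (hZ2_of_card (Or.inr (Or.inl h3)))
        (Or.inr (three_eq_zero h3)) (Fin.castLE ht) (Fin.castLE_injective ht)
    · exact main_of_decomp Q hQ h3 (by omega) D k (Or.inl hk) hD
        (fun _ i hi => hex ⟨i, hi⟩)
  · -- hyperbolic planes over the fields with two, four or five elements
    obtain ⟨e, f, hc⟩ := planes hk hpl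
    have ht : 6 ≤ t := by rw [hk] at hdim; omega
    rcases hq with hq | hq | hq
    · exact hc.mainA hQ (by omega) (hZ2_of_card (Or.inl hq))
        (Or.inl (two_eq_zero_of_card hq)) (Fin.castLE ht) (Fin.castLE_injective ht)
    · exact hc.mainA hQ (by omega) (hZ2_of_card (Or.inr (Or.inr hq)))
        (Or.inl (two_eq_zero_of_card4 hq)) (Fin.castLE ht) (Fin.castLE_injective ht)
    · have ht4 : 4 ≤ t := by omega
      exact hc.mainB hQ (by omega) (five_eq_zero_of_card hq) (pow_four_of_card hq)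
        (Fin.castLE ht4) (Fin.castLE_injective ht4)
  · -- three-dimensional members over the field with three elements
    exact main_of_decomp Q hQ h3 (by omega) D k (Or.inr hk) hD (fun h2 => by omega)
  · -- four-dimensional members of plus type over the field with two elements
    have h2 := two_eq_zero_of_card hq
    have hF := eq_zero_or_one_of_card hq
    have hex : ∀ i, ∃ a b c d : ι → F, a ∈ D i ∧ b ∈ D i ∧ c ∈ D i ∧ d ∈ D i ∧
        Q a = 1 ∧ Q b = 1 ∧ Q c = 1 ∧ Q d = 1 ∧ polar Q a b = 1 ∧ polar Q c d = 1 ∧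
        polar Q a c = 0 ∧ polar Q a d = 0 ∧ polar Q b c = 0 ∧ polar Q b d = 0 ∧
        ∀ v ∈ D i, ∃ α β γ δ : F, v = (α • a + β • b) + (γ • c + δ • d) := by
      intro i
      obtain ⟨U, hUW, hU, hUd⟩ := hpl i
      rw [hfr i, hk] at hUd
      obtain ⟨e, f, e', f', heW, hfW, he'W, hf'W, hp, hp', h1, h2', h3, h4, hspan⟩ :=
        exists_hyp4 Q (D i) (by rw [hfr i, hk])
          (ndOn_of_nondegenerateOn Q (hD.decomp.nondegenerate i)) U hUW hU (by omega)
      exact ell_of_hyp Q h2 heW hfW he'W hf'W hp hp' h1 h2' h3 h4 hspan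
    choose a b c d ha hb hc hd qa qb qc qd ab cd ac ad bc bd hspan using hex
    have hell : EllCoords Q D a b c d :=
      ⟨ha, hb, hc, hd, qa, qb, qc, qd, ab, cd, ac, ad, bc, bd, hspan, horth⟩
    have ht := hD.decomp.decomp.two_le
    exact hell.mainG hQ (by omega) h2 hF ⟨0, by omega⟩ ⟨1, by omega⟩
      (by intro h; simp [Fin.ext_iff] at h)

end S5693aux

/-- Let F be a finite field with q elements, n ≥ 13 even, Q a non-degenerate quadratic form on F^n of plus type (some subspace of dimension n/2 is totally singular), and Ω the commutator subgroup of the isometry group of Q, viewed inside GL_n(F). Let D be a decomposition of F^n into t ≥ 2 pairwise orthogonal, pairwise Q-isometric subspaces of equal dimension k on which the polar form is non-degenerate (with, for even k, all members of plus type or t even; for odd k, q odd and square discriminant), in one of the cases: k = 2 with q = 3; k = 2 with plus-type members and q ∈ {2, 4, 5}; k = 3 with q = 3;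 k = 4 with plus-type members and q = 2. Then the elements of Ω permuting the members of D form a subgroup that is not maximal: some subgroup lies strictly between it and Ω. -/
theorem result {F : Type*} [Field F] [Fintype F] {n : ℕ} (hn : 13 ≤ n) (heven : Even n) (Q : (Fin n → F) → F) (hQ : Cfsg.Geo.IsNondegenerateQuadraticForm Q) (hplus : Cfsg.Geo.IsPlusTypeOn Q ⊤) {t : ℕ} (k : ℕ) (D : Fin t → Submodule F (Fin n → F)) (hD : Cfsg.Geo.IsOrthogonalMDecomposition Q k D) (hke : Even k → ((∀ i, Cfsg.Geo.IsPlusTypeOn Q (D i)) ∨ Even t)) (hko : Odd k → (Odd (Fintype.card F) ∧ Cfsg.Geo.HasSquareDiscriminant Q)) (hcase : ((k = 2 ∧ (Fintype.card F = 3 ∨ ((∀ i, Cfsg.Geo.IsPlusTypeOn Q (D i)) ∧ (Fintype.card F = 2 ∨ Fintype.card F = 4 ∨ Fintype.card F = 5)))) ∨ (k = 3 ∧ Fintype.card F = 3) ∨ (k = 4 ∧ Fintype.card F = 2 ∧ ∀ i, Cfsg.Geo.IsPlusTypeOn Q (D i)))) : ∃ K : Subgroup (Matrix.GeneralLinearGroup (Fin n) F), Cfsg.Geo.decompositionStabilizer D ⊓ Cfsg.Geo.omegaGL Q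 < K ∧ K < Cfsg.Geo.omegaGL Q := by
  have h := S5693aux.main_bundled (Cfsg.Agent.Lib.Helper9.QuadBridge.ofFun Q hQ)
    (Cfsg.Agent.Lib.Helper9.QuadBridge.ofFun_nondeg Q hQ)
    (by rw [Fintype.card_fin]; exact hn) k D hD hcase
  exact h

end Cfsg.Agent.S5693
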