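-- Statement S5696 (row 5696): the frame stabilizer (orthogonal decomposition into lines) is maximal in Ω^±_n(p), n ≥ 13 even.
-- Proof: helper29's glue `Fr2Main.result_of_base` (dense exclusion + reduction to 13 coordinates) fed with
-- CORE13 = `FrCMain.coreProp` (helper17's plan notes/S5679_core_plan.md; leaves by helper1, 4, 6, 9, 11, 12, 15, 22, 23,
-- 24, 27, 28, 29).  The hypotheses `heven`, `hdisc` are not needed.
import Cfsg.Statements.S5696
import Cfsg.Agent.Lib.Helper29.Fr2Main
import Cfsg.Agent.Lib.Helper17.FrCMain

set_option autoImplicit false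
open Cfsg

namespace Cfsg.Agent.S5696

/-- Let F be a finite field with q elements, n ≥ 13 even, Q a non-degenerate quadratic form on F^n (of either type), and Ω the commutator subgroup of the isometry group of Q, viewed inside GL_n(F). Suppose q = p is an odd prime and the discriminant of Q is a square, and let D be a decomposition of F^n into pairwise orthogonal lines on which Q takes non-zero values in one square class (pairwise Q-isometric non-degenerate 1-spaces). Then the elements of Ω permuting these lines form a maximal subgroup of Ω. -/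
theorem result {F : Type*} [Field F] [Fintype F] {n : ℕ} (hn : 13 ≤ n) (heven : Even n) (Q : (Fin n → F) → F) (hQ : Cfsg.Geo.IsNondegenerateQuadraticForm Q) (hprime : (Fintype.card F).Prime) (hodd : Odd (Fintype.card F)) (hdisc : Cfsg.Geo.HasSquareDiscriminant Q) {t : ℕ} (D : Fin t → Submodule F (Fin n → F)) (hD : Cfsg.Geo.IsOrthogonalMDecomposition Q 1 D) : Cfsg.Geo.IsMaximalIn (Cfsg.Geo.omegaGL Q) (Cfsg.Geo.decompositionStabilizer D ⊓ Cfsg.Geo.omegaGL Q) := by
  exact Cfsg.Agent.Lib.Helper29.Fr2Main.result_of_base hn Q hQ hodd
    (fun c hc κ _ _ hκ => Cfsg.Agent.Lib.Helper17.FrCMain.coreProp hprime hodd hc hκ) D hD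

end Cfsg.Agent.S5696
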