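import Cfsg.Statements.S5698
import Cfsg.Agent.Lib.Helper25.OmegaNonMax
-- import your own Cfsg.Agent.* helpers here

set_option autoImplicit false
open Cfsg

namespace Cfsg.Agent.S5698

open Cfsg.Agent.Lib.Helper25.Fam

/-- Let F be a finite field with q elements, n ≥ 13 even, Q a non-degenerate quadratic form on F^n of plus type (some subspace of dimension n/2 is totally singular), and Ω the commutator subgroup of the isometry group of Q, viewed inside GL_n(F). Suppose n/2 is odd and let D be a decomposition of F^n into two complementary subspaces of dimension n/2 on each of which Q vanishes. Then the elements of Ω preserving or interchanging the two subspaces form a subgroup that is not maximal: some subgroup lies strictly between it and Ω. -/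
theorem result {F : Type*} [Field F] [Fintype F] {n : ℕ} (hn : 13 ≤ n) (heven : Even n) (Q : (Fin n → F) → F) (hQ : Cfsg.Geo.IsNondegenerateQuadraticForm Q) (hplus : Cfsg.Geo.IsPlusTypeOn Q ⊤) (k : ℕ) (hk : 2 * k = n) (hko : Odd k) (D : Fin 2 → Submodule F (Fin n → F)) (hD : Cfsg.Geo.IsMDecomposition k D) (hts : ∀ i, Cfsg.Geo.IsTotallySingularQuad Q (D i)) : ∃ K : Subgroup (Matrix.GeneralLinearGroup (Fin n) F), Cfsg.Geo.decompositionStabilizer D ⊓ Cfsg.Geo.omegaGL Q < K ∧ K < Cfsg.Geo.omegaGL Q := by
  obtain ⟨Qf, rfl, hnd⟩ := exists_qf hQ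
  have hk7 : 7 ≤ k := by omega
  have hdim : Module.finrank F (Fin n → F) = k + k := by
    rw [Module.finrank_fintype_fun_eq_card, Fintype.card_fin]
    omega
  have hex : Fintype.card F ≠ 2 ∨ Fintype.card (Fin n) ≠ 4 := by
    right
    rw [Fintype.card_fin]
    omega
  have hdisj : D 0 ⊓ D 1 = ⊥ := by
    have h01 : (0 : Fin 2) ≠ 1 := by decide
    exact disjoint_iff.1 (hD.indep.pairwiseDisjoint h01)
  have hsup : D 0 ⊔ D 1 = ⊤ := by
    rw [eq_top_iff, ← hD.iSup_eq_top]
    apply iSup_le
    intro i
    fin_cases i
    · exact le_sup_left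
    · exact le_sup_right
  exact not_maximal_pair Qf hnd hex hdim (by omega) hko D hD.finrank_eq hdisj hsup hts

end Cfsg.Agent.S5698
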