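import Cfsg.Statements.S5699
import Cfsg.Agent.Lib.Helper5.NDGlue

set_option autoImplicit false
open Cfsg

namespace Cfsg.Agent.S5699

/-- Let F be a finite field with q elements, n ≥ 13 even, Q a non-degenerate quadratic form on F^n (of either type), and Ω the commutator subgroup of the isometry group of Q, viewed inside GL_n(F). Let D be a decomposition of F^n into two orthogonal subspaces of odd dimension n/2 on which the polar form is non-degenerate and which are not Q-isometric to each other. Then the elements of Ω permuting (necessarily fixing) the two subspaces form a maximal subgroup of Ω. -/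
theorem result {F : Type*} [Field F] [Fintype F] {n : ℕ} (hn : 13 ≤ n) (heven : Even n) (Q : (Fin n → F) → F) (hQ : Cfsg.Geo.IsNondegenerateQuadraticForm Q) (k : ℕ) (hk : 2 * k = n) (hko : Odd k) (D : Fin 2 → Submodule F (Fin n → F)) (hD : Cfsg.Geo.IsNondegenerateMDecomposition (QuadraticMap.polar Q) k D) (hni : ¬ Cfsg.Geo.AreIsometricFor Q (D 0) (D 1)) : Cfsg.Geo.IsMaximalIn (Cfsg.Geo.omegaGL Q) (Cfsg.Geo.decompositionStabilizer D ⊓ Cfsg.Geo.omegaGL Q) := by
  obtain ⟨Qf, rfl, hnd⟩ := Cfsg.Agent.Lib.Helper25.Fam.exists_qf hQ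
  have hcard : Fintype.card (Fin n) = n := Fintype.card_fin n
  have hdec := hD.decomp
  have hfr0 := hdec.finrank_eq 0
  have hfr1 := hdec.finrank_eq 1
  have hdisj : D 0 ⊓ D 1 = ⊥ :=
    ((iSupIndep_pair (i := (0 : Fin 2)) (j := 1) (by decide) (by decide)).1 hdec.indep).eq_bot
  have hsup : D 0 ⊔ D 1 = ⊤ := by
    rw [← hdec.iSup_eq_top]
    apply le_antisymm
    · exact sup_le (le_iSup D 0) (le_iSup D 1)
    · apply iSup_le
      intro i
      fin_cases i
      · exact le_sup_left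
      · exact le_sup_right
  have horth : ∀ x ∈ D 0, ∀ y ∈ D 1, QuadraticMap.polar Qf x y = 0 :=
    hD.orthogonal 0 1 (by decide)
  have hns : ∀ g ∈ Cfsg.Omega F ⇑Qf,
      ¬ ∀ x ∈ D 0, Cfsg.Agent.Lib.Helper25.CD.toOG Qf g x ∈ D 1 := by
    intro g _ hmap
    apply hni
    obtain ⟨φ, hφ⟩ : ∃ φ : D 0 →ₗ[F] D 1,
        ∀ w : D 0, (φ w : Fin n → F) = Cfsg.Agent.Lib.Helper25.CD.toOG Qf g (w : Fin n → F) :=
      ⟨(Cfsg.Agent.Lib.Helper25.PS.lm Qf g).restrict hmap, fun w => rfl⟩
    have hinj : Function.Injective φ := by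
      intro a b hab
      apply Subtype.ext
      apply (Cfsg.Agent.Lib.Helper25.CD.toOG Qf g).injective
      rw [← hφ, ← hφ, hab]
    have hbij : Function.Bijective φ :=
      ⟨hinj, (LinearMap.injective_iff_surjective_of_finrank_eq_finrank
        (hfr0.trans hfr1.symm)).1 hinj⟩
    refine ⟨LinearEquiv.ofBijective φ hbij, fun w => ?_⟩
    rw [LinearEquiv.ofBijective_apply, hφ]
    exact Cfsg.Agent.Lib.Helper25.PS.Q_toOG Qf g (w : Fin n → F)
  have hmax := Cfsg.Agent.Lib.Helper5.NDMax.isMaximalIn_nd Qf hnd (by rw [hcard]; omega) horth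
    hdisj hsup (by rw [hfr0]; omega) (by
      intro h
      rw [h, finrank_bot] at hfr1
      omega) (by
      rintro ⟨-, h, -⟩
      rw [hfr1] at h
      omega) hns
  have hlin : ∀ g : ↥(Cfsg.isometryGroup F ⇑Qf),
      Matrix.toLin' ((g : Matrix.GeneralLinearGroup (Fin n) F) : Matrix (Fin n) (Fin n) F) =
        Cfsg.Agent.Lib.Helper25.PS.lm Qf g := fun g =>
    LinearMap.ext fun v => by
      rw [Matrix.toLin'_apply]
      rfl
  have hD1 : D 1 = Cfsg.Agent.Lib.Helper25.MaxTS.perp Qf (D 0) := by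
    apply Submodule.eq_of_le_of_finrank_eq
    · intro y hy
      exact Cfsg.Agent.Lib.Helper25.MaxTS.mem_perp.2 (fun u hu => horth u hu y hy)
    · rw [Cfsg.Agent.Lib.Helper25.MaxTS.finrank_perp hnd, Module.finrank_fintype_fun_eq_card,
        hcard, hfr0, hfr1]
      omega
  have heq : Cfsg.Geo.decompositionStabilizer D ⊓ Cfsg.Geo.omegaGL ⇑Qf =
      Cfsg.Geo.subspaceStabilizer (D 0) ⊓ Cfsg.Geo.omegaGL ⇑Qf := by
    ext x
    constructor
    · rintro ⟨hx1, g, hg, rfl⟩
      refine ⟨?_, g, hg, rfl⟩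
      show g ∈ Cfsg.Agent.Lib.Helper25.Fam.stabSub Qf (D 0)
      rw [Cfsg.Agent.Lib.Helper25.Fam.mem_stabSub]
      have hx2 := (Cfsg.Agent.Lib.Helper5.PairMax.mem_dec_iff D _).1 hx1
      rw [show ((Cfsg.isometryGroup F ⇑Qf).subtype g : Matrix.GeneralLinearGroup (Fin n) F) =
        (g : Matrix.GeneralLinearGroup (Fin n) F) from rfl, hlin] at hx2
      rcases hx2 with ⟨h0, -⟩ | ⟨h0, -⟩
      · exact h0
      · exfalso
        apply hns g hg
        intro y hy
        rw [← h0]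
        exact Submodule.mem_map_of_mem hy
    · rintro ⟨hx1, g, hg, rfl⟩
      have hg0 : g ∈ Cfsg.Agent.Lib.Helper25.Fam.stabSub Qf (D 0) := hx1
      have hg1 : g ∈ Cfsg.Agent.Lib.Helper25.Fam.stabSub Qf (D 1) := by
        rw [hD1]
        exact Cfsg.Agent.Lib.Helper5.NDMax.stabSub_perp_le Qf (D 0) hg0
      rw [Cfsg.Agent.Lib.Helper25.Fam.mem_stabSub] at hg0 hg1
      refine ⟨(Cfsg.Agent.Lib.Helper5.PairMax.mem_dec_iff D _).2 ?_, g, hg, rfl⟩
      rw [show ((Cfsg.isometryGroup F ⇑Qf).subtype g : Matrix.GeneralLinearGroup (Fin n) F) =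
        (g : Matrix.GeneralLinearGroup (Fin n) F) from rfl, hlin]
      exact Or.inl ⟨hg0, hg1⟩
  rw [heq]
  exact hmax

end Cfsg.Agent.S5699
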