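import Cfsg.Statements.S5702
import Cfsg.Agent.Lib.Helper5.LSubC
import Cfsg.Agent.Lib.Helper9.QuadBridge
import Cfsg.Agent.Lib.Helper8.OSubBR
import Cfsg.Agent.Lib.Helper18.OSubR2
import Cfsg.Agent.Lib.Helper19.OSubMain2

set_option autoImplicit false
open Cfsg

namespace Cfsg.Agent.S5702

/-- Let F be a finite field with q elements, n ≥ 13 even, Q a non-degenerate quadratic form on F^n (of either type), and Ω the commutator subgroup of the isometry group of Q, viewed inside GL_n(F). Let F₀ be a subfield with |F| = |F₀| ^ r for a prime r, ζ a non-zero scalar and P an invertible matrix such that ζ·Q takes values in F₀ on the F₀-span of the columns of P. Then the elements of Ω lying in the subfield group of P (the conjugate by P of the product of GL_n(F₀) with the scalars) form a maximal subgroup of Ω. -/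
theorem result {F : Type*} [Field F] [Fintype F] {n : ℕ} (hn : 13 ≤ n) (heven : Even n) (Q : (Fin n → F) → F) (hQ : Cfsg.Geo.IsNondegenerateQuadraticForm Q) (F₀ : Subfield F) (r : ℕ) (hr : r.Prime) (hcard : Fintype.card F = Nat.card F₀ ^ r) (P : Matrix.GeneralLinearGroup (Fin n) F) (ζ : F) (hζ : ζ ≠ 0) (hP : Cfsg.Geo.IsQuadFormRationalStructure (fun v : Fin n → F => ζ * Q v) F₀ P) : Cfsg.Geo.IsMaximalIn (Cfsg.Geo.omegaGL Q) (Cfsg.Geo.subfieldSubgroup F₀ P ⊓ Cfsg.Geo.omegaGL Q) := by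
  have hfr : Module.finrank F₀ F = r := Cfsg.Agent.Lib.Helper5.LSub.finrank_eq_of_card F₀ hcard
  have hp : (Module.finrank F₀ F).Prime := by rw [hfr]; exact hr
  obtain ⟨Qf, hQf⟩ : ∃ Qf : QuadraticForm F (Fin n → F), Qf =
    Cfsg.Agent.Lib.Helper9.QuadBridge.ofFun Q hQ := ⟨_, rfl⟩
  have hcoe : ⇑Qf = Q := by rw [hQf]; rfl
  have hnd : (QuadraticMap.polarBilin Qf).Nondegenerate := by
    rw [hQf]; exact Cfsg.Agent.Lib.Helper9.QuadBridge.ofFun_nondeg Q hQ
  have hnd₁ : (QuadraticMap.polarBilin (ζ • Qf)).Nondegenerate :=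
    Cfsg.Agent.Lib.Helper8.OSubLeaf19.smul_nondeg Qf hζ hnd
  have hctx : Cfsg.Agent.Lib.Helper19.OSub.QCtx F₀ ((ζ • Qf).comp (Matrix.toLin'
      (P : Matrix (Fin n) (Fin n) F))) := by
    refine ⟨Cfsg.Agent.Lib.Helper18.OSubLeaf.comp_nondeg (ζ • Qf) P hnd₁, by
      rw [Fintype.card_fin]; exact hn, ?_⟩
    intro x hx
    rw [QuadraticMap.comp_apply, Matrix.toLin'_apply, _root_.smul_apply, smul_eq_mul, hcoe]
    exact hP x hx
  have := Cfsg.Agent.Lib.Helper18.OSubLeaf.maximal_transfer (ζ • Qf) F₀ P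
    (Cfsg.Agent.Lib.Helper19.OSub.maximal_std_all hctx hp)
  rw [Cfsg.Agent.Lib.Helper8.OSubLeaf19.omegaGL_smul Qf hζ, hcoe] at this
  exact this

end Cfsg.Agent.S5702
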