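import Cfsg.Statements.S5709
import Cfsg.Agent.Lib.Helper7.OTT
import Cfsg.Agent.Lib.Helper9.TensSwap
import Cfsg.Agent.Lib.Helper9.OTLA4Minus
import Cfsg.Agent.Lib.Helper25.OTMain4

set_option autoImplicit false
open Cfsg

namespace Cfsg.Agent.S5709

/-- Let F be a finite field with q elements, n ≥ 13 even, Q a non-degenerate quadratic form on F^n of minus type (no subspace of dimension n/2 is totally singular), and Ω the commutator subgroup of the isometry group of Q, viewed inside GL_n(F). Suppose q is odd and that, through a change of basis P and a bijection of index sets e, the polar form of Q is similar to the tensor product of non-degenerate symmetric bilinear forms f₁ on F^(n₁), n₁ odd and at least 3, and f₂ on F^(n₂), n₂ even and at least 4 with no totally isotropic subspace of dimension n₂/2 (minus type). Unless q = 3 and n₁ = 3, the elements of Ω in the stabiliser of this tensor decomposition form a maximal subgroup of Ω. -/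
theorem result {F : Type*} [Field F] [Fintype F] {n : ℕ} (hn : 13 ≤ n) (heven : Even n) (Q : (Fin n → F) → F) (hQ : Cfsg.Geo.IsNondegenerateQuadraticForm Q) (hminus : ¬ Cfsg.Geo.IsPlusTypeOn Q ⊤) (hodd : Odd (Fintype.card F)) (n₁ n₂ : ℕ) (h1 : 3 ≤ n₁) (h1o : Odd n₁) (h2 : 4 ≤ n₂) (h2e : Even n₂) (hex : ¬ (Fintype.card F = 3 ∧ n₁ = 3)) (e : (Fin n) ≃ Fin n₁ × Fin n₂) (P : Matrix.GeneralLinearGroup (Fin n) F) (f₁ : (Fin n₁ → F) → (Fin n₁ → F) → F) (f₂ : (Fin n₂ → F) → (Fin n₂ → F) → F) (hf₁ : Cfsg.Geo.IsSymmetricForm f₁) (hf₂ : Cfsg.Geo.IsSymmetricForm f₂) (hf₂m : ¬ Cfsg.Geo.IsPlusTypeOn (fun v : Fin n₂ → F => f₂ v v) ⊤) (hT : Cfsg.Geo.IsTensorFormStructure id (QuadraticMap.polar Q) f₁ f₂ e P) : Cfsg.Geo.IsMaximalIn (Cfsg.Geo.omegaGL Q) (Cfsg.Geo.tensorProductSubgroup n₁ n₂ e P ⊓ Cfsg.Geo.omegaGL Q) := by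
  have htwo : (2 : F) ≠ 0 := Cfsg.Agent.Lib.Helper7.OTT.two_ne_zero_of_odd hodd
  obtain ⟨Qf, hQf⟩ : ∃ Qf : QuadraticForm F (Fin n → F), Qf =
    Cfsg.Agent.Lib.Helper9.QuadBridge.ofFun Q hQ := ⟨_, rfl⟩
  have hcoe : ⇑Qf = Q := by rw [hQf]; rfl
  have hnd : (QuadraticMap.polarBilin Qf).Nondegenerate := by
    rw [hQf]; exact Cfsg.Agent.Lib.Helper9.QuadBridge.ofFun_nondeg Q hQ
  have hcard : n = n₁ * n₂ := by
    have := Fintype.card_congr e
    simpa using this
  rw [← hcoe] at hT ⊢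
  by_cases h4 : n₂ = 4
  · -- the swapped case: `A = F^4` (minus type) is the coefficient side, `B = F^{n₁}` the root side
    subst h4
    rw [Cfsg.Agent.Lib.Helper9.TensSwap.tensorProductSubgroup_swap e P]
    have hT' := Cfsg.Agent.Lib.Helper9.TensSwap.isTensorFormStructure_swap hT
    apply Cfsg.Agent.Lib.Helper7.OTT.transportG htwo Qf hnd 4 n₁ _ P f₂ f₁ hf₂.bilinear
      hf₁.bilinear hT'
    have hn5 : 5 ≤ n₁ := by
      obtain ⟨k, hk⟩ := h1o
      omega
    refine Cfsg.Agent.Lib.Helper25.OT.model_max4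
      { oab := Or.inr h1o, ha := by norm_num, hb := hn5,
        ndvd := fun hdvd => by
          have := Nat.le_of_dvd (by norm_num) hdvd
          omega,
        symm1 := Cfsg.Agent.Lib.Helper7.OTT.gram_symm hf₂
        symm2 := Cfsg.Agent.Lib.Helper7.OTT.gram_symm hf₁
        nd1 := Cfsg.Agent.Lib.Helper7.OTT.gram_det_ne_zero hf₂
        nd2 := Cfsg.Agent.Lib.Helper7.OTT.gram_det_ne_zero hf₁
        two := htwo, hex := fun h => by omega }
      (Cfsg.Agent.Lib.Helper9.OTLA4.minus4_of_not_plus (Cfsg.Agent.Lib.Helper7.OTT.gram_symm hf₂)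
        (fun v => ?_) hf₂m)
    show f₂ v v = Cfsg.Agent.Lib.Helper2.SOT.fB (Cfsg.Geo.gramMatrix f₂) v v
    rw [Cfsg.Agent.Lib.Helper7.SOTLeaf.bil_eq_dot f₂ hf₂.bilinear]
    rfl
  · apply Cfsg.Agent.Lib.Helper7.OTT.transportG htwo Qf hnd n₁ n₂ e P f₁ f₂ hf₁.bilinear
      hf₂.bilinear hT
    have hn6 : 6 ≤ n₂ := by
      obtain ⟨k, hk⟩ := h2e
      omega
    exact Cfsg.Agent.Lib.Helper25.OT.model_max
      { oab := Or.inl h1o, ha := h1, hb := by omega,
        ndvd := fun hdvd => by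
          obtain ⟨k, hk⟩ := h2e
          obtain ⟨c, hc⟩ := hdvd
          obtain ⟨j, hj⟩ := h1o
          rw [hk, hj] at hc
          have : (2 * j + 1) % 2 = ((k + k) * c) % 2 := by rw [hc]
          have e2 : (k + k) * c = 2 * (k * c) := by ring
          rw [e2] at this
          omega,
        symm1 := Cfsg.Agent.Lib.Helper7.OTT.gram_symm hf₁
        symm2 := Cfsg.Agent.Lib.Helper7.OTT.gram_symm hf₂
        nd1 := Cfsg.Agent.Lib.Helper7.OTT.gram_det_ne_zero hf₁
        nd2 := Cfsg.Agent.Lib.Helper7.OTT.gram_det_ne_zero hf₂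
        two := htwo, hex := hex } h1o

end Cfsg.Agent.S5709
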