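import Cfsg.Statements.S5726
-- import your own Cfsg.Agent.* helpers here

set_option autoImplicit false
open Cfsg

namespace Cfsg.Agent.S5726

open MulAction in
theorem sylow_transitive {G Ω : Type*} [Group G] [Finite G] [MulAction G Ω] [Fintype Ω]
    (htr : MulAction.IsPretransitive G Ω) (p k : ℕ) [hp : Fact p.Prime]
    (hΩ : Fintype.card Ω = p ^ k) (P : Sylow p G) (ω : Ω) :
    MulAction.orbit (P : Subgroup G) ω = Set.univ := by
  classical
  have hG : Nat.card G = p ^ k * Nat.card (stabilizer G ω) := by
    have h1 := MulAction.index_stabilizer_of_transitive G ω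
    have h2 := (stabilizer G ω).index_mul_card
    rw [h1, Nat.card_eq_fintype_card, hΩ] at h2
    exact h2.symm
  -- stabilizer in P
  have hstab : Nat.card (stabilizer (P : Subgroup G) ω) ∣ Nat.card (stabilizer G ω) := by
    let f : stabilizer (P : Subgroup G) ω →* stabilizer G ω :=
      { toFun := fun x => ⟨x.1.1, x.2⟩
        map_one' := rfl
        map_mul' := fun _ _ => rfl }
    apply Subgroup.card_dvd_of_injective f
    intro x y hxy
    apply Subtype.ext; apply Subtype.ext
    exact congrArg (fun z : stabilizer G ω => (z : G)) hxy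
  have hpos : 0 < Nat.card (stabilizer G ω) := Nat.card_pos
  -- stabilizer in P is a p-group
  have hPg : IsPGroup p (stabilizer (P : Subgroup G) ω) := P.isPGroup'.to_subgroup _
  obtain ⟨j, hj⟩ := IsPGroup.iff_card.mp hPg
  have hPcard : Nat.card (P : Subgroup G) = p ^ (Nat.card G).factorization p := P.card_eq_multiplicity
  have hos : (orbit (P : Subgroup G) ω).ncard * Nat.card (stabilizer (P : Subgroup G) ω)
      = Nat.card (P : Subgroup G) := by
    rw [← MulAction.index_stabilizer]
    exact (stabilizer (P : Subgroup G) ω).index_mul_card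
  -- factorization
  have hfac : (Nat.card G).factorization p = k + (Nat.card (stabilizer G ω)).factorization p := by
    rw [hG, Nat.factorization_mul (pow_ne_zero _ hp.out.ne_zero) hpos.ne', Nat.factorization_pow]
    simp [hp.out.factorization_self]
  have hjle : j ≤ (Nat.card (stabilizer G ω)).factorization p := by
    rw [hj] at hstab
    exact (hp.out.pow_dvd_iff_le_factorization hpos.ne').mp hstab
  -- orbit card
  have horb : p ^ k ≤ (orbit (P : Subgroup G) ω).ncard := by
    rw [hPcard, hfac, hj] at hos
    have hpj : 0 < p ^ j := pow_pos hp.out.pos _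
    have : p ^ k * p ^ j ≤ (orbit (P : Subgroup G) ω).ncard * p ^ j := by
      rw [hos, ← pow_add]
      exact Nat.pow_le_pow_right hp.out.pos (by omega)
    exact Nat.le_of_mul_le_mul_right this hpj
  rw [Set.eq_univ_iff_ncard, Nat.card_eq_fintype_card, hΩ]
  apply le_antisymm _ horb
  rw [← hΩ, ← Nat.card_eq_fintype_card, ← Set.ncard_univ]
  exact Set.ncard_le_ncard (Set.subset_univ _)

theorem result {G Ω : Type*} [Group G] [Finite G] [MulAction G Ω] [FaithfulSMul G Ω] [Fintype Ω] (htr : MulAction.IsPretransitive G Ω)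
    (p k : ℕ) (hp : p.Prime) (hk : 1 ≤ k) (hΩ : Fintype.card Ω = p ^ k) :
    ∃ g : G, orderOf g = p ∧ ∀ ω : Ω, g • ω ≠ ω := by
  classical
  have : Fact p.Prime := ⟨hp⟩
  obtain ⟨P⟩ : Nonempty (Sylow p G) := inferInstance
  -- Ω nonempty
  have hΩpos : 0 < Fintype.card Ω := by rw [hΩ]; exact pow_pos hp.pos _
  obtain ⟨ω₀⟩ : Nonempty Ω := Fintype.card_pos_iff.mp hΩpos
  -- P nontrivial
  have hPnt : Nontrivial (P : Subgroup G) := by
    have h := sylow_transitive htr p k hΩ P ω₀
    by_contra hnt
    rw [not_nontrivial_iff_subsingleton] at hnt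
    have : MulAction.orbit (P : Subgroup G) ω₀ = {ω₀} := by
      ext x; constructor
      · rintro ⟨g, rfl⟩
        have : g = 1 := Subsingleton.elim _ _
        simp [this]
      · rintro rfl; exact MulAction.mem_orbit_self _
    rw [this] at h
    have h2 : ({ω₀} : Set Ω).ncard = Nat.card Ω := by rw [h, Set.ncard_univ]
    rw [Set.ncard_singleton, Nat.card_eq_fintype_card, hΩ] at h2
    have h3 : p ^ 1 ≤ p ^ k := Nat.pow_le_pow_right hp.pos hk
    rw [pow_one] at h3
    have := hp.two_le
    omega
  -- center of P nontrivial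
  have hZ : Nontrivial (Subgroup.center (P : Subgroup G)) := P.isPGroup'.center_nontrivial
  have hZp : IsPGroup p (Subgroup.center (P : Subgroup G)) := P.isPGroup'.to_subgroup _
  have hdvd : p ∣ Nat.card (Subgroup.center (P : Subgroup G)) := by
    obtain ⟨n, hn⟩ := IsPGroup.iff_card.mp hZp
    rw [hn]
    have : n ≠ 0 := by
      rintro rfl
      rw [pow_zero] at hn
      have := Finite.one_lt_card_iff_nontrivial.mpr hZ
      omega
    exact dvd_pow_self p this
  obtain ⟨z, hz⟩ := exists_prime_orderOf_dvd_card' p hdvd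
  refine ⟨((z : (P : Subgroup G)) : G), ?_, ?_⟩
  · rw [Subgroup.orderOf_coe, Subgroup.orderOf_coe]; exact hz
  · intro ω hω
    -- z fixes every point
    have hall : ∀ x : Ω, ((z : (P : Subgroup G)) : G) • x = x := by
      intro x
      have hx : x ∈ MulAction.orbit (P : Subgroup G) ω := by
        rw [sylow_transitive htr p k hΩ P ω]; trivial
      obtain ⟨g, rfl⟩ := hx
      have hcomm : (z : (P : Subgroup G)) * g = g * (z : (P : Subgroup G)) :=
        (Subgroup.mem_center_iff.mp z.2 g).symm
      change ((z : (P : Subgroup G)) : G) • ((g : G) • ω) = (g : G) • ω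
      rw [smul_smul, ← Subgroup.coe_mul, hcomm, Subgroup.coe_mul, ← smul_smul, hω]
    have h1 : ((z : (P : Subgroup G)) : G) = 1 := by
      apply FaithfulSMul.eq_of_smul_eq_smul (α := Ω)
      intro x; rw [hall x, one_smul]
    have : orderOf z = 1 := by
      rw [← Subgroup.orderOf_coe, ← Subgroup.orderOf_coe, h1, orderOf_one]
    rw [hz] at this
    exact hp.one_lt.ne' this

end Cfsg.Agent.S5726
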