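import Cfsg.Statements.S5727
import Cfsg.Agent.S5726

set_option autoImplicit false
open Cfsg

namespace Cfsg.Agent.S5727

open MulAction

/-- Orbit-stabilizer data for a Sylow `p`-subgroup when `|Ω| = m p`, `m < p`. -/
theorem sylow_stab_index {G Ω : Type*} [Group G] [Finite G] [MulAction G Ω] [Fintype Ω]
    (htr : MulAction.IsPretransitive G Ω) (p m : ℕ) [hp : Fact p.Prime] (hm : 1 ≤ m) (hmp : m < p)
    (hΩ : Fintype.card Ω = m * p) (P : Sylow p G) (ω : Ω) :
    (stabilizer (P : Subgroup G) ω).index = p ∧ (orbit (P : Subgroup G) ω).ncard = p := by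
  classical
  have hG : Nat.card G = (m * p) * Nat.card (stabilizer G ω) := by
    have h1 := MulAction.index_stabilizer_of_transitive G ω
    have h2 := (stabilizer G ω).index_mul_card
    rw [h1, Nat.card_eq_fintype_card, hΩ] at h2
    exact h2.symm
  have hstab : Nat.card (stabilizer (P : Subgroup G) ω) ∣ Nat.card (stabilizer G ω) := by
    let f : stabilizer (P : Subgroup G) ω →* stabilizer G ω :=
      { toFun := fun x => ⟨x.1.1, x.2⟩
        map_one' := rfl
        map_mul' := fun _ _ => rfl }
    apply Subgroup.card_dvd_of_injective f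
    intro x y hxy
    apply Subtype.ext; apply Subtype.ext
    exact congrArg (fun z : stabilizer G ω => (z : G)) hxy
  have hpos : 0 < Nat.card (stabilizer G ω) := Nat.card_pos
  have hPg : IsPGroup p (stabilizer (P : Subgroup G) ω) := P.isPGroup'.to_subgroup _
  obtain ⟨j, hj⟩ := IsPGroup.iff_card.mp hPg
  have hPcard : Nat.card (P : Subgroup G) = p ^ (Nat.card G).factorization p := P.card_eq_multiplicity
  have hos : (orbit (P : Subgroup G) ω).ncard * Nat.card (stabilizer (P : Subgroup G) ω)
      = Nat.card (P : Subgroup G) := by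
    rw [← MulAction.index_stabilizer]
    exact (stabilizer (P : Subgroup G) ω).index_mul_card
  have hmfac : m.factorization p = 0 := by
    apply Nat.factorization_eq_zero_of_not_dvd
    intro hd
    have := Nat.le_of_dvd (by omega) hd
    omega
  have hfac : (Nat.card G).factorization p = 1 + (Nat.card (stabilizer G ω)).factorization p := by
    rw [hG, Nat.factorization_mul (by have := hp.out.pos; positivity) hpos.ne',
      Nat.factorization_mul (by omega) hp.out.ne_zero]
    simp [hp.out.factorization_self, hmfac]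
  have hjle : j ≤ (Nat.card (stabilizer G ω)).factorization p := by
    rw [hj] at hstab
    exact (hp.out.pow_dvd_iff_le_factorization hpos.ne').mp hstab
  set v := (Nat.card (stabilizer G ω)).factorization p with hv
  -- orbit size is p^(1+v-j)
  have horb : (orbit (P : Subgroup G) ω).ncard = p ^ (1 + v - j) := by
    rw [hPcard, hfac, hj] at hos
    have hpj : 0 < p ^ j := pow_pos hp.out.pos _
    have h2 : p ^ (1 + v - j) * p ^ j = p ^ (1 + v) := by
      rw [← pow_add]; congr 1; omega
    rw [← h2] at hos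
    exact Nat.eq_of_mul_eq_mul_right hpj hos
  have hle : (orbit (P : Subgroup G) ω).ncard ≤ m * p := by
    rw [← hΩ, ← Nat.card_eq_fintype_card, ← Set.ncard_univ]
    exact Set.ncard_le_ncard (Set.subset_univ _)
  have hlt : p ^ (1 + v - j) < p ^ 2 := by
    rw [← horb]
    calc (orbit (P : Subgroup G) ω).ncard ≤ m * p := hle
      _ < p * p := Nat.mul_lt_mul_of_pos_right hmp hp.out.pos
      _ = p ^ 2 := (sq p).symm
  have hexp : 1 + v - j < 2 := (Nat.pow_lt_pow_iff_right hp.out.one_lt).mp hlt
  have hexp1 : 1 + v - j = 1 := by omega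
  rw [hexp1, pow_one] at horb
  refine ⟨?_, horb⟩
  rw [MulAction.index_stabilizer]; exact horb

theorem result {G Ω : Type*} [Group G] [Finite G] [MulAction G Ω] [FaithfulSMul G Ω] [Fintype Ω] (htr : MulAction.IsPretransitive G Ω)
    (p m : ℕ) (hp : p.Prime) (hm : 1 ≤ m) (hmp : m ≤ p) (hΩ : Fintype.card Ω = m * p) :
    ∃ g : G, orderOf g = p ∧ ∀ ω : Ω, g • ω ≠ ω := by
  classical
  rcases eq_or_lt_of_le hmp with rfl | hlt
  · exact Cfsg.Agent.S5726.result htr m 2 hp (by norm_num) (by rw [hΩ, sq])
  have : Fact p.Prime := ⟨hp⟩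
  obtain ⟨P⟩ : Nonempty (Sylow p G) := inferInstance
  have hΩpos : 0 < Fintype.card Ω := by rw [hΩ]; exact Nat.mul_pos hm hp.pos
  obtain ⟨ω₀⟩ : Nonempty Ω := Fintype.card_pos_iff.mp hΩpos
  have key := fun ω : Ω => sylow_stab_index htr p m hm hlt hΩ P ω
  -- card P
  have hPcard : ∃ a, Nat.card (P : Subgroup G) = p ^ (a + 1) := by
    obtain ⟨a, ha⟩ := IsPGroup.iff_card.mp P.isPGroup'
    have h1 := (stabilizer (P : Subgroup G) ω₀).index_mul_card
    rw [(key ω₀).1, ha] at h1
    cases a with
    | zero =>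
      exfalso
      rw [pow_zero] at h1
      have := Nat.eq_one_of_mul_eq_one_right h1  
      exact hp.one_lt.ne' this
    | succ a => exact ⟨a, ha⟩
  obtain ⟨a, ha⟩ := hPcard
  -- normality of stabilizers
  have hnorm : ∀ ω : Ω, (stabilizer (P : Subgroup G) ω).Normal := by
    intro ω
    apply Subgroup.normal_of_index_eq_minFac_card
    rw [(key ω).1, ha, hp.pow_minFac (Nat.succ_ne_zero a)]
  -- an element fixing a point fixes its whole P-orbit
  have hfix : ∀ (g : (P : Subgroup G)) (ω : Ω), g • ω = ω → ∀ h : (P : Subgroup G), g • (h • ω) = h • ω := by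
    intro g ω hg h
    have h1 : h⁻¹ * g * h⁻¹⁻¹ ∈ stabilizer (P : Subgroup G) ω := (hnorm ω).conj_mem g hg h⁻¹
    rw [inv_inv, mem_stabilizer_iff, mul_smul, mul_smul] at h1
    have h2 := congrArg (fun x => h • x) h1
    simpa using h2
  -- exponent p
  have hpow : ∀ g : (P : Subgroup G), g ^ p = 1 := by
    intro g
    have hmem : ∀ ω : Ω, g ^ p ∈ stabilizer (P : Subgroup G) ω := by
      intro ω
      have := hnorm ω
      have hc : Nat.card ((P : Subgroup G) ⧸ stabilizer (P : Subgroup G) ω) = p := (key ω).1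
      have h1 : ((g : (P : Subgroup G)) : (P : Subgroup G) ⧸ stabilizer (P : Subgroup G) ω) ^ p = 1 := by
        have h0 := pow_card_eq_one' (G := (P : Subgroup G) ⧸ stabilizer (P : Subgroup G) ω)
          (x := ((g : (P : Subgroup G)) : (P : Subgroup G) ⧸ stabilizer (P : Subgroup G) ω))
        rwa [hc] at h0
      rw [← QuotientGroup.mk_pow] at h1
      exact (QuotientGroup.eq_one_iff _).mp h1
    have h1 : (((g ^ p : (P : Subgroup G)) : G)) = 1 := by
      apply FaithfulSMul.eq_of_smul_eq_smul (α := Ω)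
      intro x
      rw [one_smul]
      exact hmem x
    exact Subtype.ext h1
  -- now find a fixed point free element
  by_contra hcon
  push Not at hcon
  have hall : ∀ g : (P : Subgroup G), g ≠ 1 → ∃ ω : Ω, g • ω = ω := by
    intro g hg
    have hord : orderOf (g : G) = p := by
      rw [Subgroup.orderOf_coe]
      have h1 : orderOf g ∣ p := orderOf_dvd_of_pow_eq_one (hpow g)
      rcases (Nat.dvd_prime hp).mp h1 with h | h
      · exact absurd (orderOf_eq_one_iff.mp h) hg
      · exact h
    obtain ⟨ω, hω⟩ := hcon (g : G) hord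
    exact ⟨ω, hω⟩
  haveI : Fintype (P : Subgroup G) := Fintype.ofFinite _
  -- double counting
  have hdc : ∑ g : (P : Subgroup G), (Finset.univ.filter (fun ω : Ω => g • ω = ω)).card
      = ∑ ω : Ω, (Finset.univ.filter (fun g : (P : Subgroup G) => g • ω = ω)).card := by
    simp only [Finset.card_filter]
    exact Finset.sum_comm
  have hstabcard : ∀ ω : Ω, (Finset.univ.filter (fun g : (P : Subgroup G) => g • ω = ω)).card = p ^ a := by
    intro ω
    have h1 := (stabilizer (P : Subgroup G) ω).index_mul_card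
    rw [(key ω).1, ha, pow_succ, mul_comm] at h1
    have h2 : Nat.card (stabilizer (P : Subgroup G) ω) = p ^ a :=
      Nat.eq_of_mul_eq_mul_right hp.pos h1
    rw [← h2, Nat.card_eq_fintype_card, Fintype.card_subtype]
    rfl
  have hfixcard : ∀ g : (P : Subgroup G), g ≠ 1 → p ≤ (Finset.univ.filter (fun ω : Ω => g • ω = ω)).card := by
    intro g hg
    obtain ⟨ω, hω⟩ := hall g hg
    have h1 : (orbit (P : Subgroup G) ω).ncard = p := (key ω).2
    refine h1.symm.le.trans ?_
    rw [Set.ncard_eq_toFinset_card']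
    apply Finset.card_le_card
    intro x hx
    rw [Set.mem_toFinset] at hx
    obtain ⟨h, rfl⟩ := hx
    simp only [Finset.mem_filter, Finset.mem_univ, true_and]
    exact hfix g ω hω h
  have hone : (Finset.univ.filter (fun ω : Ω => (1 : (P : Subgroup G)) • ω = ω)).card = m * p := by
    simp [hΩ]
  have hsum_lower : m * p + (p ^ (a + 1) - 1) * p ≤ ∑ g : (P : Subgroup G), (Finset.univ.filter (fun ω : Ω => g • ω = ω)).card := by
    rw [← Finset.add_sum_erase Finset.univ _ (Finset.mem_univ (1 : (P : Subgroup G))), hone]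
    apply Nat.add_le_add_left
    have hcard : (Finset.univ.erase (1 : (P : Subgroup G))).card = p ^ (a + 1) - 1 := by
      rw [Finset.card_erase_of_mem (Finset.mem_univ _), Finset.card_univ, ← Nat.card_eq_fintype_card, ha]
    rw [← hcard, ← smul_eq_mul]
    apply Finset.card_nsmul_le_sum
    intro g hg
    exact hfixcard g (Finset.ne_of_mem_erase hg)
  rw [hdc] at hsum_lower
  simp only [hstabcard, Finset.sum_const, Finset.card_univ, hΩ, smul_eq_mul] at hsum_lower
  -- arithmetic contradiction
  have hp2 := hp.two_le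
  have hpa : 1 ≤ p ^ a := Nat.one_le_pow _ _ hp.pos
  have h1 : p ^ (a + 1) = p ^ a * p := pow_succ p a
  have h2 : (p ^ (a + 1) - 1) * p = p ^ a * p * p - p := by
    rw [h1, Nat.sub_mul, one_mul]
  have h3 : m * p * p ^ a ≤ (p - 1) * p * p ^ a := by
    apply Nat.mul_le_mul_right; apply Nat.mul_le_mul_right; omega
  have h4 : (p - 1) * p * p ^ a = p ^ a * p * p - p ^ a * p := by
    rw [Nat.sub_mul, Nat.sub_mul, one_mul]; ring_nf
  have h5 : p ≤ p ^ a * p := Nat.le_mul_of_pos_left p hpa
  have h6 : p ^ a * p ≤ p ^ a * p * p := Nat.le_mul_of_pos_right _ hp.pos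
  have h7 : p ≤ m * p := Nat.le_mul_of_pos_left p hm
  omega

end Cfsg.Agent.S5727
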