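import Cfsg.Statements.S5728
import Mathlib

set_option autoImplicit false
open Cfsg

namespace Cfsg.Agent.S5728

section Aux
open Cfsg

variable {p : ℕ} [hp : Fact p.Prime] {K : Type} [Field K] [Finite K] [Algebra (ZMod p) K]

/-- elements of `Kˣ` killed by `p - 1` come from the prime field -/
lemma mem_prime_field (a : Kˣ) (ha : a ^ (p - 1) = 1) :
    ∃ a₀ : ZMod p, a₀ ≠ 0 ∧ algebraMap (ZMod p) K a₀ = (a : K) := by
  classical
  cases nonempty_fintype K
  set φ : (ZMod p)ˣ →* Kˣ := Units.map (algebraMap (ZMod p) K : ZMod p →* K) with hφ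
  have hφinj : Function.Injective φ := by
    apply Units.map_injective
    exact (algebraMap (ZMod p) K).injective
  have hp1 : 0 < p - 1 := by have := hp.out.two_le; omega
  have hsub : Finset.univ.image φ ⊆ Finset.univ.filter (fun x : Kˣ => x ^ (p - 1) = 1) := by
    intro x hx
    obtain ⟨a₀, -, rfl⟩ := Finset.mem_image.mp hx
    rw [Finset.mem_filter]
    refine ⟨Finset.mem_univ _, ?_⟩
    rw [← map_pow, ZMod.units_pow_card_sub_one_eq_one, map_one]
  have hcard : (Finset.univ.filter (fun x : Kˣ => x ^ (p - 1) = 1)).card ≤ (Finset.univ.image φ).card := by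
    rw [Finset.card_image_of_injective _ hφinj, Finset.card_univ, ZMod.card_units]
    exact IsCyclic.card_pow_eq_one_le hp1
  have heq := Finset.eq_of_subset_of_card_le hsub hcard
  have hmem : a ∈ Finset.univ.image φ := by
    rw [heq, Finset.mem_filter]
    exact ⟨Finset.mem_univ _, ha⟩
  obtain ⟨a₀, -, ha₀⟩ := Finset.mem_image.mp hmem
  refine ⟨a₀, a₀.ne_zero, ?_⟩
  rw [← ha₀]
  rfl

variable (g : Equiv.Perm K) (a : Kˣ) (b : K) (hg : ∀ y, g y = (a : K) * y + b)

include hg in
lemma conj_fix (ha : a ≠ 1) :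
    ∃ x ∈ affineGroup K, ∀ y, (x * g * x⁻¹) y = (a : K) * y := by
  have h1a : (1 : K) - a ≠ 0 := by
    intro h
    apply ha
    apply Units.ext
    rw [Units.val_one]
    exact (sub_eq_zero.mp h).symm
  set y₀ : K := b / (1 - a) with hy₀
  refine ⟨Equiv.addRight (-y₀), ⟨1, -y₀, fun y => by simp⟩, fun y => ?_⟩
  have hinv : (Equiv.addRight (-y₀) : Equiv.Perm K)⁻¹ y = y + y₀ := by
    rw [Equiv.Perm.inv_eq_iff_eq]
    simp
  rw [Equiv.Perm.mul_apply, Equiv.Perm.mul_apply, hinv, hg]
  simp only [Equiv.coe_addRight]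
  rw [hy₀]
  field_simp
  ring

include hg in
lemma conj_trans (ha : a = 1) (hb : b ≠ 0) :
    ∃ x ∈ affineGroup K, ∀ y, (x * g * x⁻¹) y = y + 1 := by
  refine ⟨Equiv.mulLeft₀ b⁻¹ (inv_ne_zero hb), ⟨Units.mk0 b⁻¹ (inv_ne_zero hb), 0, fun y => by simp⟩,
    fun y => ?_⟩
  have hinv : (Equiv.mulLeft₀ b⁻¹ (inv_ne_zero hb) : Equiv.Perm K)⁻¹ y = b * y := by
    rw [Equiv.Perm.inv_eq_iff_eq]
    simp [hb]
  rw [Equiv.Perm.mul_apply, Equiv.Perm.mul_apply, hinv, hg, ha]
  simp only [Equiv.mulLeft₀_apply, Units.val_one, one_mul]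
  field_simp


omit [Finite K] in
lemma pow_apply_of_mul (h : Equiv.Perm K) (a : K) (hh : ∀ y, h y = a * y) (k : ℕ) (y : K) :
    (h ^ k) y = a ^ k * y := by
  induction k generalizing y with
  | zero => simp
  | succ k ih => rw [pow_succ, Equiv.Perm.mul_apply, hh, ih]; ring

include hg in
theorem main (s : ℕ) (hs : p = 2 ^ s - 1) (hK : Nat.card K = p ^ 2) (hord : (orderOf g).Prime) :
    ∃ x ∈ affineGroup K, ∃ a₀ b₀ : ZMod p, a₀ ≠ 0 ∧
      ∀ y : K, (x * g * x⁻¹) y = algebraMap (ZMod p) K a₀ * y + algebraMap (ZMod p) K b₀ := by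
  classical
  cases nonempty_fintype K
  by_cases ha : a = 1
  · have hb : b ≠ 0 := by
      rintro rfl
      have : g = 1 := by
        ext y
        rw [hg, ha]; simp
      rw [this, orderOf_one] at hord
      exact Nat.not_prime_one hord
    obtain ⟨x, hx, hxg⟩ := conj_trans g a b hg ha hb
    refine ⟨x, hx, 1, 1, one_ne_zero, fun y => ?_⟩
    rw [hxg, map_one, one_mul]
  · obtain ⟨x, hx, hxg⟩ := conj_fix g a b hg ha
    have hp2 := hp.out.two_le
    set r := orderOf g with hr
    haveI : Fact r.Prime := ⟨hord⟩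
    have hgr : g ^ r = 1 := pow_orderOf_eq_one g
    have hhr : (x * g * x⁻¹) ^ r = 1 := by rw [conj_pow, hgr, mul_one, mul_inv_cancel]
    have har : a ^ r = 1 := by
      apply Units.ext
      have h1 := pow_apply_of_mul (x * g * x⁻¹) (a : K) hxg r 1
      rw [hhr, Equiv.Perm.one_apply, mul_one] at h1
      rw [Units.val_pow_eq_pow_val, ← h1, Units.val_one]
    have hoa : orderOf a = r := orderOf_eq_prime har ha
    have hdvd : r ∣ p ^ 2 - 1 := by
      rw [← hoa]
      have h1 : Fintype.card Kˣ = p ^ 2 - 1 := by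
        rw [Fintype.card_units, ← Nat.card_eq_fintype_card, hK]
      rw [← h1]
      exact orderOf_dvd_card
    have hs2 : 2 ≤ s := by
      by_contra h
      have : s = 0 ∨ s = 1 := by omega
      rcases this with rfl | rfl <;> simp at hs <;> omega
    have hp1 : p + 1 = 2 ^ s := by
      have : 1 ≤ 2 ^ s := Nat.one_le_two_pow
      omega
    have hfac : p ^ 2 - 1 = (p - 1) * 2 ^ s := by
      rw [← hp1]
      obtain ⟨q, rfl⟩ : ∃ q, p = q + 1 := ⟨p - 1, by omega⟩
      simp only [Nat.add_sub_cancel]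
      have : (q + 1) ^ 2 = q * (q + 1 + 1) + 1 := by ring
      rw [this, Nat.add_sub_cancel]
    have hrp : r ∣ p - 1 := by
      rw [hfac] at hdvd
      rcases (Nat.Prime.dvd_mul hord).mp hdvd with h | h
      · exact h
      · have h2 := (Nat.prime_dvd_prime_iff_eq hord Nat.prime_two).mp (hord.dvd_of_dvd_pow h)
        rw [h2]
        obtain ⟨k, hk⟩ : 4 ∣ 2 ^ s := by
          have : (2 : ℕ) ^ s = 2 ^ 2 * 2 ^ (s - 2) := by rw [← pow_add]; congr 1; omega
          exact ⟨2 ^ (s - 2), by rw [this]; norm_num⟩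
        omega
    have hap : a ^ (p - 1) = 1 := by
      rw [← orderOf_dvd_iff_pow_eq_one, hoa]; exact hrp
    obtain ⟨a₀, ha₀, haa⟩ := mem_prime_field a hap
    refine ⟨x, hx, a₀, 0, ha₀, fun y => ?_⟩
    rw [hxg, haa, map_zero, add_zero]


end Aux

/-- An elusive transitive action. Let p = 2^s − 1 be a prime and let F be the field with p² elements. Inside the group of affine maps x ↦ a·x + b of F (a ≠ 0), consider the subgroup of maps with both coefficients in the prime field. Then every element of prime order of the affine group is conjugate, within the affine group, to an element of that subgroup; equivalently, in the transitive action of the affine group on the cosets of that subgroup (of degree p(p + 1)) every element of prime order fixes a point. -/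
theorem result (p s : ℕ) [Fact p.Prime] (hs : p = 2 ^ s - 1)
    (g : Equiv.Perm (GaloisField p 2)) (hg : g ∈ Cfsg.affineGroup (GaloisField p 2)) (hord : (orderOf g).Prime) :
    ∃ x ∈ Cfsg.affineGroup (GaloisField p 2), ∃ a b : ZMod p, a ≠ 0 ∧
      ∀ y : GaloisField p 2, (x * g * x⁻¹) y = algebraMap (ZMod p) (GaloisField p 2) a * y + algebraMap (ZMod p) (GaloisField p 2) b := by
  obtain ⟨a, b, hab⟩ := hg
  exact main g a b hab s hs (GaloisField.card p 2 two_ne_zero) hord

end Cfsg.Agent.S5728
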