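import Cfsg.Statements.S5729
-- import your own Cfsg.Agent.* helpers here

set_option autoImplicit false
open Cfsg

namespace Cfsg.Agent.S5729

open MulAction

/-- Burnside's lemma with `Finset.filter` fixed-point counts. -/
theorem burnside_filter (H X : Type*) [Group H] [Fintype H] [MulAction H X] [Fintype X] [DecidableEq X]
    [Fintype (Quotient (orbitRel H X))] :
    ∑ h : H, (Finset.univ.filter (fun x : X => h • x = x)).card
      = Fintype.card (Quotient (orbitRel H X)) * Fintype.card H := by
  classical
  rw [← MulAction.sum_card_fixedBy_eq_card_orbits_mul_card_group H X]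
  apply Finset.sum_congr rfl
  intro h _
  rw [Fintype.card_subtype]
  rfl

/-- Fubini for fixed points. -/
theorem fubini_fix (H X : Type*) [Group H] [Fintype H] [MulAction H X] [Fintype X] [DecidableEq X]
    (w : H → ℕ) :
    ∑ h : H, (Finset.univ.filter (fun x : X => h • x = x)).card * w h
      = ∑ x : X, ∑ h ∈ Finset.univ.filter (fun h : H => h • x = x), w h := by
  classical
  simp only [Finset.card_filter, Finset.sum_mul, Finset.sum_filter]
  rw [Finset.sum_comm]
  apply Finset.sum_congr rfl; intro x _
  apply Finset.sum_congr rfl; intro h _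
  split_ifs <;> simp


theorem result {G Ω : Type*} [Group G] [Finite G] [MulAction G Ω] [FaithfulSMul G Ω] [Fintype Ω] (htr : MulAction.IsPretransitive G Ω) (hn : 3 ≤ Fintype.card Ω) :
    ((MulAction.IsPretransitive G Ω ∧ (∃ g : G, g ≠ 1 ∧ ∃ ω : Ω, g • ω = ω) ∧ ∀ g : G, g ≠ 1 → Nat.card (MulAction.fixedBy Ω g) ≤ 1) ∧ Nat.card G = Fintype.card Ω * (Fintype.card Ω - 1) ∧ Fintype.card Ω * Nat.card {g : G // ∀ ω : Ω, g • ω ≠ ω} = Nat.card G) ∨
    Nat.card G < Fintype.card Ω * Nat.card {g : G // ∀ ω : Ω, g • ω ≠ ω} := by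
  classical
  have : Fintype G := Fintype.ofFinite G
  set n := Fintype.card Ω with hn_def
  obtain ⟨ω₀⟩ : Nonempty Ω := Fintype.card_pos_iff.mp (by omega)
  let f : G → ℕ := fun g => (Finset.univ.filter (fun ω : Ω => g • ω = ω)).card
  -- F1
  have hq1 : Fintype.card (Quotient (orbitRel G Ω)) = 1 := by
    have : Subsingleton (Quotient (orbitRel G Ω)) :=
      (MulAction.pretransitive_iff_subsingleton_quotient G Ω).mp htr
    exact Fintype.card_eq_one_iff.mpr ⟨Quotient.mk _ ω₀, fun y => Subsingleton.elim _ _⟩
  have F1 : ∑ g : G, f g = Fintype.card G := by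
    have := burnside_filter G Ω
    rw [hq1, one_mul] at this
    exact this
  -- stabilizer sizes
  have hstab : ∀ ω : Ω, (Finset.univ.filter (fun g : G => g • ω = ω)).card = Fintype.card (stabilizer G ω) := by
    intro ω
    rw [Fintype.card_subtype]; rfl
  have hsumstab : ∑ ω : Ω, Fintype.card (stabilizer G ω) = Fintype.card G := by
    have h := fubini_fix G Ω (fun _ => 1)
    simp only [mul_one, Finset.sum_const, smul_eq_mul] at h
    rw [← F1]
    rw [show (∑ g : G, f g) = ∑ g : G, (Finset.univ.filter (fun ω : Ω => g • ω = ω)).card from rfl, h]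
    apply Finset.sum_congr rfl
    intro ω _
    rw [hstab]
  -- F2
  have F2 : 2 * Fintype.card G ≤ ∑ g : G, f g * f g := by
    rw [show (∑ g : G, f g * f g) = ∑ g : G, (Finset.univ.filter (fun ω : Ω => g • ω = ω)).card * f g from rfl,
      fubini_fix G Ω f, ← hsumstab, Finset.mul_sum]
    apply Finset.sum_le_sum
    intro ω _
    -- sum over stabilizer
    have h1 : ∑ g ∈ Finset.univ.filter (fun g : G => g • ω = ω), f g = ∑ h : stabilizer G ω, f (h : G) := by
      rw [← Finset.sum_subtype (Finset.univ.filter (fun g : G => g • ω = ω)) (p := fun g => g ∈ stabilizer G ω)]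
      intro x; simp [mem_stabilizer_iff]
    rw [h1]
    have h2 := burnside_filter (stabilizer G ω) Ω
    have h3 : ∑ h : stabilizer G ω, f (h : G) = ∑ h : stabilizer G ω, (Finset.univ.filter (fun x : Ω => h • x = x)).card := rfl
    rw [h3, h2]
    apply Nat.mul_le_mul_right
    -- at least two orbits
    obtain ⟨ω', hω'⟩ : ∃ ω' : Ω, ω' ≠ ω := by
      by_contra hcon
      push Not at hcon
      have : Fintype.card Ω ≤ 1 := Fintype.card_le_one_iff.mpr (fun a b => by rw [hcon a, hcon b])
      omega
    apply Fintype.one_lt_card_iff.mpr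
    refine ⟨Quotient.mk _ ω, Quotient.mk _ ω', ?_⟩
    intro heq
    have h4 : ω ∈ orbit (stabilizer G ω) ω' := (Quotient.exact heq)
    obtain ⟨h, hh⟩ := h4
    have h5 : h • ω = ω := h.2
    have : ω' = ω := by
      have hh' : h • ω' = ω := hh
      have h6 : h • ω' = h • ω := by rw [hh', h5]
      exact smul_left_cancel h h6
    exact hω' this
  have hfle : ∀ g : G, f g ≤ n := fun g => Finset.card_le_univ _
  have hf0 : ∀ g : G, f g = 0 ↔ ∀ ω : Ω, g • ω ≠ ω := by
    intro g
    simp only [f, Finset.card_eq_zero, Finset.filter_eq_empty_iff, Finset.mem_univ, true_implies]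
  have hA : Nat.card {g : G // ∀ ω : Ω, g • ω ≠ ω} = (Finset.univ.filter (fun g : G => f g = 0)).card := by
    rw [Nat.card_eq_fintype_card, Fintype.card_subtype]
    congr 1
    apply Finset.filter_congr
    intro g _
    exact (hf0 g).symm
  have hGc : Nat.card G = Fintype.card G := Nat.card_eq_fintype_card
  rw [hA, hGc]
  set a := (Finset.univ.filter (fun g : G => f g = 0)).card with ha_def
  -- the key integer inequality
  let d : G → ℤ := fun g => ((n : ℤ) + 1) * (f g : ℤ) + (if f g = 0 then (n : ℤ) else 0) - (f g : ℤ) ^ 2 - n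
  have hd : ∀ g, 0 ≤ d g := by
    intro g
    simp only [d]
    by_cases h0 : f g = 0
    · simp [h0]
    · have h1 : (1 : ℤ) ≤ (f g : ℤ) := by exact_mod_cast Nat.one_le_iff_ne_zero.mpr h0
      have h2 : (f g : ℤ) ≤ n := by exact_mod_cast hfle g
      simp only [h0, if_false]
      nlinarith
  have hsumd : ∑ g : G, d g = ((n : ℤ) + 1) * (Fintype.card G : ℤ) + (n : ℤ) * a
      - (∑ g : G, ((f g * f g : ℕ) : ℤ)) - n * (Fintype.card G : ℤ) := by
    simp only [d, Finset.sum_sub_distrib, Finset.sum_add_distrib, ← Finset.mul_sum]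
    have e1 : ∑ g : G, (f g : ℤ) = (Fintype.card G : ℤ) := by exact_mod_cast F1
    have e2 : ∑ g : G, (if f g = 0 then (n : ℤ) else 0) = (n : ℤ) * a := by
      rw [← Finset.sum_filter, Finset.sum_const, ha_def]; simp [mul_comm]
    have e3 : ∑ g : G, (f g : ℤ) ^ 2 = ∑ g : G, ((f g * f g : ℕ) : ℤ) := by
      apply Finset.sum_congr rfl; intro g _; push_cast; ring
    have e4 : ∑ _g : G, (n : ℤ) = n * (Fintype.card G : ℤ) := by
      rw [Finset.sum_const, Finset.card_univ]; simp [mul_comm]
    rw [e1, e2, e3, e4]
  have hF2' : (2 : ℤ) * (Fintype.card G : ℤ) ≤ ∑ g : G, ((f g * f g : ℕ) : ℤ) := by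
    exact_mod_cast F2
  have hsum_nonneg : 0 ≤ ∑ g : G, d g := Finset.sum_nonneg (fun g _ => hd g)
  have hmain : (Fintype.card G : ℤ) ≤ (n : ℤ) * a := by
    rw [hsumd] at hsum_nonneg; linarith
  by_cases hlt : Fintype.card G < n * a
  · right; exact hlt
  left
  have heq : Fintype.card G = n * a := by
    have : Fintype.card G ≤ n * a := by exact_mod_cast hmain
    omega
  -- all d g = 0
  have hsum0 : ∑ g : G, d g = 0 := by
    apply le_antisymm _ hsum_nonneg
    rw [hsumd]
    have : (Fintype.card G : ℤ) = (n : ℤ) * a := by exact_mod_cast heq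
    linarith
  have hd0 : ∀ g, d g = 0 := by
    intro g
    exact (Finset.sum_eq_zero_iff_of_nonneg (fun g _ => hd g)).mp hsum0 g (Finset.mem_univ g)
  -- trichotomy for f
  have htri : ∀ g : G, f g = 0 ∨ f g = 1 ∨ f g = n := by
    intro g
    by_cases h0 : f g = 0
    · left; exact h0
    right
    have h := hd0 g
    simp only [d, h0, if_false] at h
    have h1 : ((f g : ℤ) - 1) * ((n : ℤ) - f g) = 0 := by linarith [h]
    rcases mul_eq_zero.mp h1 with h2 | h2
    · left; have : (f g : ℤ) = 1 := by linarith
      exact_mod_cast this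
    · right; have : (f g : ℤ) = n := by linarith
      exact_mod_cast this
  have hfn : ∀ g : G, f g = n ↔ g = 1 := by
    intro g
    constructor
    · intro h
      have h1 : Finset.univ.filter (fun ω : Ω => g • ω = ω) = Finset.univ :=
        Finset.eq_univ_of_card _ h
      apply FaithfulSMul.eq_of_smul_eq_smul (α := Ω)
      intro ω
      have : ω ∈ Finset.univ.filter (fun ω : Ω => g • ω = ω) := by rw [h1]; exact Finset.mem_univ _
      rw [one_smul]
      exact (Finset.mem_filter.mp this).2
    · rintro rfl
      simp [f, hn_def]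
  -- counting
  set b := (Finset.univ.filter (fun g : G => f g = 1)).card with hb_def
  have hf_decomp : ∀ g : G, f g = (if f g = 1 then 1 else 0) + (if g = 1 then n else 0) := by
    intro g
    rcases htri g with h | h | h
    · have hg : g ≠ 1 := fun hg => by rw [(hfn g).mpr hg] at h; omega
      simp [h, hg]
    · have hg : g ≠ 1 := fun hg => by rw [(hfn g).mpr hg] at h; omega
      simp [h, hg]
    · have hg : g = 1 := (hfn g).mp h
      have hn1 : n ≠ 1 := by omega
      subst hg
      simp [h, hn1]
  have hone_decomp : ∀ g : G, 1 = (if f g = 0 then 1 else 0) + (if f g = 1 then 1 else 0) + (if g = 1 then 1 else 0) := by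
    intro g
    rcases htri g with h | h | h
    · have hg : g ≠ 1 := fun hg => by rw [(hfn g).mpr hg] at h; omega
      simp [h, hg]
    · have hg : g ≠ 1 := fun hg => by rw [(hfn g).mpr hg] at h; omega
      simp [h, hg]
    · have hg : g = 1 := (hfn g).mp h
      have hn1 : n ≠ 1 := by omega
      have hn0 : n ≠ 0 := by omega
      subst hg
      simp [h, hn1, hn0]
  have hS1 : Fintype.card G = b + n := by
    rw [← F1, Finset.sum_congr rfl (fun g _ => hf_decomp g), Finset.sum_add_distrib]
    simp [hb_def]
  have hS2 : Fintype.card G = a + b + 1 := by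
    have : ∑ _g : G, 1 = Fintype.card G := by simp
    rw [← this, Finset.sum_congr rfl (fun g _ => hone_decomp g), Finset.sum_add_distrib, Finset.sum_add_distrib]
    simp [hb_def, ha_def]
  have ha_eq : a = n - 1 := by omega
  have hcardG : Fintype.card G = n * (n - 1) := by rw [heq, ha_eq]
  refine ⟨⟨htr, ?_, ?_⟩, hcardG, heq.symm⟩
  · -- exists nontrivial element with a fixed point
    have hbpos : 0 < b := by
      have h3 : n * (n - 1) = b + n := by rw [← hcardG]; exact hS1
      by_contra hb0
      have hb0' : b = 0 := by omega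
      rw [hb0', zero_add] at h3
      have h4 : n - 1 = 1 := by
        have hnpos : 0 < n := by omega
        have : n * (n - 1) = n * 1 := by rw [mul_one]; exact h3
        exact Nat.eq_of_mul_eq_mul_left hnpos this
      omega
    obtain ⟨g, hg⟩ := Finset.card_pos.mp hbpos
    have hg1 : f g = 1 := (Finset.mem_filter.mp hg).2
    have hgne : g ≠ 1 := fun h => by rw [(hfn g).mpr h] at hg1; omega
    obtain ⟨ω, hω⟩ := Finset.card_pos.mp (by rw [show (Finset.univ.filter (fun ω : Ω => g • ω = ω)).card = 1 from hg1]; exact Nat.one_pos)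
    exact ⟨g, hgne, ω, (Finset.mem_filter.mp hω).2⟩
  · intro g hg
    have h1 : Nat.card (MulAction.fixedBy Ω g) = f g := by
      rw [Nat.card_eq_fintype_card, Fintype.card_subtype]; rfl
    rw [h1]
    rcases htri g with h | h | h
    · omega
    · omega
    · exact absurd ((hfn g).mp h) hg

end Cfsg.Agent.S5729
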