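import Cfsg.Statements.S5739
-- import your own Cfsg.Agent.* helpers here

set_option autoImplicit false
open Cfsg

namespace Cfsg.Agent.S5739

section
variable {F K : Type*} [Field F] [Fintype F] [Field K] [Fintype K] [Algebra F K]

/-- multiplication map as a monoid hom -/
noncomputable abbrev lm : K →* Module.End F K := ((Algebra.lmul F K : K →ₐ[F] Module.End F K) : K →* Module.End F K)

theorem lm_apply (x y : K) : (lm (F := F) x) y = x * y := rfl

theorem lm_injective : Function.Injective (lm (F := F) (K := K)) := by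
  intro x y h
  have := congrArg (fun T : Module.End F K => T 1) h
  simpa [lm_apply] using this

/-- the elements of `K` whose multiplication map is a `g`-conjugate of a multiplication map. -/
noncomputable def L0 (g : (Module.End F K)ˣ) : IntermediateField F K where
  carrier := {x | ∃ y : K, lm (F := F) x = (g : Module.End F K) * lm y * ((g⁻¹ : (Module.End F K)ˣ) : Module.End F K)}
  mul_mem' := by
    rintro a b ⟨y, hy⟩ ⟨z, hz⟩
    refine ⟨y * z, ?_⟩
    rw [map_mul, map_mul, hy, hz]
    simp only [mul_assoc]
    congr 2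
    rw [← mul_assoc, ← mul_assoc, Units.inv_mul, one_mul]
  one_mem' := ⟨1, by rw [map_one, mul_one, Units.mul_inv]⟩
  add_mem' := by
    rintro a b ⟨y, hy⟩ ⟨z, hz⟩
    refine ⟨y + z, ?_⟩
    have h1 : lm (F := F) (a + b) = lm a + lm b := map_add (Algebra.lmul F K) a b
    have h2 : lm (F := F) (y + z) = lm y + lm z := map_add (Algebra.lmul F K) y z
    rw [h1, h2, hy, hz, mul_add, add_mul]
  zero_mem' := ⟨0, by
    have h0 : lm (F := F) (0 : K) = 0 := map_zero (Algebra.lmul F K)
    rw [h0, mul_zero, zero_mul]⟩
  algebraMap_mem' := by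
    intro c
    refine ⟨algebraMap F K c, ?_⟩
    have hc : lm (F := F) (algebraMap F K c) = algebraMap F (Module.End F K) c :=
      AlgHom.commutes (Algebra.lmul F K) c
    rw [hc, ← Algebra.commutes c ((g : Module.End F K)), mul_assoc, Units.mul_inv, mul_one]
  inv_mem' := by
    rintro a ⟨y, hy⟩
    by_cases ha : a = 0
    · refine ⟨0, ?_⟩
      have h0 : lm (F := F) (0 : K) = 0 := map_zero (Algebra.lmul F K)
      rw [ha, inv_zero, h0, mul_zero, zero_mul]
    · have hy0 : y ≠ 0 := by
        rintro rfl
        have h0 : lm (F := F) (0 : K) = 0 := map_zero (Algebra.lmul F K)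
        rw [h0, mul_zero, zero_mul] at hy
        rw [← h0] at hy
        exact ha (lm_injective hy)
      refine ⟨y⁻¹, ?_⟩
      -- lm a⁻¹ is the inverse of lm a
      have h1 : lm (F := F) a * lm a⁻¹ = 1 := by rw [← map_mul, mul_inv_cancel₀ ha, map_one]
      have h2 : lm (F := F) y * lm y⁻¹ = 1 := by rw [← map_mul, mul_inv_cancel₀ hy0, map_one]
      have h3 : lm (F := F) a * ((g : Module.End F K) * lm y⁻¹ * ((g⁻¹ : (Module.End F K)ˣ) : Module.End F K)) = 1 := by
        rw [hy]
        calc (g : Module.End F K) * lm y * ((g⁻¹ : (Module.End F K)ˣ) : Module.End F K) *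
              ((g : Module.End F K) * lm y⁻¹ * ((g⁻¹ : (Module.End F K)ˣ) : Module.End F K))
            = (g : Module.End F K) * (lm y * ((((g⁻¹ : (Module.End F K)ˣ) : Module.End F K) *
                (g : Module.End F K)) * (lm y⁻¹ * ((g⁻¹ : (Module.End F K)ˣ) : Module.End F K)))) := by
              simp only [mul_assoc]
          _ = 1 := by
              rw [Units.inv_mul, one_mul, ← mul_assoc (lm y), h2, one_mul, Units.mul_inv]
      have h4 : lm (F := F) a⁻¹ * lm a = 1 := by rw [← map_mul, inv_mul_cancel₀ ha, map_one]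
      calc lm (F := F) a⁻¹ = lm a⁻¹ * (lm a * ((g : Module.End F K) * lm y⁻¹ * ((g⁻¹ : (Module.End F K)ˣ) : Module.End F K))) := by
            rw [h3, mul_one]
        _ = (g : Module.End F K) * lm y⁻¹ * ((g⁻¹ : (Module.End F K)ˣ) : Module.End F K) := by
            rw [← mul_assoc, h4, one_mul]

theorem mem_L0 (g : (Module.End F K)ˣ) (x : K) :
    x ∈ L0 g ↔ ∃ y : K, lm (F := F) x = (g : Module.End F K) * lm y * ((g⁻¹ : (Module.End F K)ˣ) : Module.End F K) :=
  Iff.rfl

/-- a nonzero element of an intermediate field of order `q ^ r` satisfies `x ^ (q ^ r - 1) = 1`. -/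
theorem pow_eq_one_of_mem (L : IntermediateField F K) (x : K) (hx : x ∈ L) (hx0 : x ≠ 0) :
    x ^ (Fintype.card F ^ Module.finrank F L - 1) = 1 := by
  classical
  have h1 : Fintype.card L = Fintype.card F ^ Module.finrank F L := Module.card_eq_pow_finrank
  have h2 : (⟨x, hx⟩ : L) ≠ 0 := by
    intro h
    exact hx0 (congrArg Subtype.val h)
  have h3 := FiniteField.pow_card_sub_one_eq_one (⟨x, hx⟩ : L) h2
  rw [h1] at h3
  have := congrArg (Subtype.val : L → K) h3
  simpa using this

end

theorem result {F K : Type*} [Field F] [Fintype F] [Field K] [Fintype K] [Algebra F K] (n : ℕ) (hn : 2 ≤ n) (hdim : Module.finrank F K = n)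
    (g : (Module.End F K)ˣ) (hg : ((Units.map ((Algebra.lmul F K : K →ₐ[F] Module.End F K) : K →* Module.End F K)).range).map (MulAut.conj g).toMonoidHom ≠ (Units.map ((Algebra.lmul F K : K →ₐ[F] Module.End F K) : K →* Module.End F K)).range) :
    ∃ r : ℕ, 1 ≤ r ∧ r ∣ n ∧ r < n ∧ Nat.card ↥(((Units.map ((Algebra.lmul F K : K →ₐ[F] Module.End F K) : K →* Module.End F K)).range).map (MulAut.conj g).toMonoidHom ⊓ (Units.map ((Algebra.lmul F K : K →ₐ[F] Module.End F K) : K →* Module.End F K)).range) ∣ Fintype.card F ^ r - 1 := by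
  classical
  haveI : Finite (Module.End F K) := Finite.of_injective (fun T => (T : K → K)) DFunLike.coe_injective
  set f : Kˣ →* (Module.End F K)ˣ := Units.map (lm (F := F) (K := K)) with hf
  have hfinj : Function.Injective f := Units.map_injective lm_injective
  set M : Subgroup (Module.End F K)ˣ := f.range with hM
  set A : Subgroup (Module.End F K)ˣ := M.map (MulAut.conj g).toMonoidHom ⊓ M with hA
  -- membership of the conjugate
  have hmemconj : ∀ u : Kˣ, f u ∈ M.map (MulAut.conj g).toMonoidHom → (u : K) ∈ L0 (F := F) g := by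
    intro u hu
    obtain ⟨m, ⟨v, rfl⟩, hv⟩ := hu
    refine ⟨(v : K), ?_⟩
    have := congrArg (fun w : (Module.End F K)ˣ => (w : Module.End F K)) hv
    simp only [MulEquiv.coe_toMonoidHom, MulAut.conj_apply, Units.val_mul] at this
    exact this.symm
  refine ⟨Module.finrank F (L0 (F := F) g), Module.finrank_pos, ?_, ?_, ?_⟩
  · rw [← hdim, ← Module.finrank_mul_finrank F (L0 (F := F) g) K]
    exact Dvd.intro _ rfl
  · -- proper
    have hle : Module.finrank F (L0 (F := F) g) ≤ n := by
      rw [← hdim]; exact Submodule.finrank_le (L0 (F := F) g).toSubalgebra.toSubmodule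
    rcases Nat.lt_or_ge (Module.finrank F (L0 (F := F) g)) n with h | h
    · exact h
    · exfalso
      have heq : Module.finrank F (L0 (F := F) g) = Module.finrank F K := by omega
      have htop' := Submodule.eq_top_of_finrank_eq (S := (L0 (F := F) g).toSubalgebra.toSubmodule) heq
      have hall : ∀ x : K, x ∈ L0 (F := F) g := by
        intro x
        have : x ∈ (L0 (F := F) g).toSubalgebra.toSubmodule := by rw [htop']; trivial
        exact this
      -- then M ≤ conj M
      have hsub : M ≤ M.map (MulAut.conj g).toMonoidHom := by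
        rintro _ ⟨u, rfl⟩
        have hu : (u : K) ∈ L0 (F := F) g := hall _
        obtain ⟨y, hy⟩ := hu
        have hy0 : y ≠ 0 := by
          rintro rfl
          have h0 : lm (F := F) (0 : K) = 0 := map_zero (Algebra.lmul F K)
          rw [h0, mul_zero, zero_mul, ← h0] at hy
          exact u.ne_zero (lm_injective hy)
        refine ⟨f (Units.mk0 y hy0), ⟨_, rfl⟩, ?_⟩
        apply Units.ext
        simp only [MulEquiv.coe_toMonoidHom, MulAut.conj_apply, Units.val_mul]
        exact hy.symm
      have hcard : Nat.card ↥(M.map (MulAut.conj g).toMonoidHom) = Nat.card M :=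
        Subgroup.card_map_of_injective (MulAut.conj g).injective
      have := Subgroup.eq_of_le_of_card_ge hsub (le_of_eq hcard)
      exact hg this.symm
  · -- cardinality
    set B : Subgroup Kˣ := A.comap f with hB
    have hAB : A = B.map f := by
      rw [hB, Subgroup.map_comap_eq, inf_eq_right.mpr]
      exact inf_le_right
    have hcardAB : Nat.card A = Nat.card B := by
      rw [hAB]; exact Subgroup.card_map_of_injective hfinj
    rw [hcardAB]
    obtain ⟨b, hb⟩ := IsCyclic.exists_generator (α := B)
    have hord : orderOf b = Nat.card B := orderOf_eq_card_of_forall_mem_zpowers hb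
    rw [← hord]
    apply orderOf_dvd_of_pow_eq_one
    have hbA : f (b : Kˣ) ∈ A := b.2
    have hbL : ((b : Kˣ) : K) ∈ L0 (F := F) g := hmemconj _ hbA.1
    have hpow := pow_eq_one_of_mem (L0 (F := F) g) _ hbL (b : Kˣ).ne_zero
    apply Subtype.ext
    apply Units.ext
    simpa using hpow

end Cfsg.Agent.S5739
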