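import Cfsg.Statements.S5738
import Cfsg.Agent.S5739

set_option autoImplicit false
open Cfsg

namespace Cfsg.Agent.S5738
open Cfsg.Agent.S5739 (lm lm_apply lm_injective)

section
variable {F K : Type*} [Field F] [Fintype F] [Field K] [Fintype K] [Algebra F K]

/-- the unit of `End F K` given by a field automorphism. -/
noncomputable def autUnit (σ : K ≃ₐ[F] K) : (Module.End F K)ˣ :=
  ⟨σ.toLinearMap, σ.symm.toLinearMap, by ext x; simp, by ext x; simp⟩

theorem autUnit_apply (σ : K ≃ₐ[F] K) (x : K) : ((autUnit σ : (Module.End F K)ˣ) : Module.End F K) x = σ x := rfl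

/-- the Singer embedding. -/
noncomputable abbrev sg : Kˣ →* (Module.End F K)ˣ := Units.map (lm (F := F) (K := K))

theorem sg_apply (u : Kˣ) (x : K) : ((sg (F := F) u : (Module.End F K)ˣ) : Module.End F K) x = u * x := rfl

/-- the candidate element of the normaliser. -/
noncomputable def nEl (p : Kˣ × (K ≃ₐ[F] K)) : (Module.End F K)ˣ := sg p.1 * autUnit p.2

theorem nEl_apply (p : Kˣ × (K ≃ₐ[F] K)) (x : K) :
    ((nEl p : (Module.End F K)ˣ) : Module.End F K) x = p.1 * p.2 x := rfl

theorem nEl_comm (p : Kˣ × (K ≃ₐ[F] K)) (u : Kˣ) :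
    nEl p * sg u = sg (Units.map (p.2 : K →* K) u) * nEl p := by
  apply Units.ext
  ext x
  show ((nEl p : (Module.End F K)ˣ) : Module.End F K) (u * x) = (p.2 u) * ((nEl p : (Module.End F K)ˣ) : Module.End F K) x
  rw [nEl_apply, nEl_apply, map_mul]
  ring

theorem nEl_comm' (p : Kˣ × (K ≃ₐ[F] K)) (v : Kˣ) :
    nEl p * sg (Units.map (p.2.symm : K →* K) v) = sg v * nEl p := by
  rw [nEl_comm]
  congr 2
  apply Units.ext
  simp

theorem nEl_mem (p : Kˣ × (K ≃ₐ[F] K)) :
    nEl p ∈ Subgroup.normalizer (((sg (F := F) (K := K)).range : Subgroup (Module.End F K)ˣ) : Set (Module.End F K)ˣ) := by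
  rw [Subgroup.mem_normalizer_iff]
  intro h
  constructor
  · rintro ⟨u, rfl⟩
    rw [nEl_comm, mul_inv_cancel_right]
    exact ⟨_, rfl⟩
  · rintro ⟨v, hv⟩
    have h1 : h = (nEl p)⁻¹ * sg v * nEl p := by
      rw [hv]; group
    rw [h1, mul_assoc, ← nEl_comm', inv_mul_cancel_left]
    exact ⟨_, rfl⟩

theorem nEl_injective : Function.Injective (nEl (F := F) (K := K)) := by
  rintro ⟨a, σ⟩ ⟨b, τ⟩ h
  have h1 : ∀ x : K, (a : K) * σ x = b * τ x := by
    intro x
    have := congrArg (fun w : (Module.End F K)ˣ => (w : Module.End F K) x) h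
    simpa [nEl_apply] using this
  have hab : a = b := by
    apply Units.ext
    have := h1 1
    simpa using this
  subst hab
  congr 1
  ext x
  exact mul_left_cancel₀ a.ne_zero (h1 x)

theorem nEl_surj (g : (Module.End F K)ˣ)
    (hg : g ∈ Subgroup.normalizer (((sg (F := F) (K := K)).range : Subgroup (Module.End F K)ˣ) : Set (Module.End F K)ˣ)) :
    ∃ p, nEl p = g := by
  rw [Subgroup.mem_normalizer_iff] at hg
  -- evaluation identities
  have hginv : ∀ x : K, (g : Module.End F K) (((g⁻¹ : (Module.End F K)ˣ) : Module.End F K) x) = x := by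
    intro x
    have : (g : Module.End F K) * ((g⁻¹ : (Module.End F K)ˣ) : Module.End F K) = 1 := Units.mul_inv g
    exact congrArg (fun T : Module.End F K => T x) this
  have hinvg : ∀ x : K, ((g⁻¹ : (Module.End F K)ˣ) : Module.End F K) ((g : Module.End F K) x) = x := by
    intro x
    have : ((g⁻¹ : (Module.End F K)ˣ) : Module.End F K) * (g : Module.End F K) = 1 := Units.inv_mul g
    exact congrArg (fun T : Module.End F K => T x) this
  have hinj : Function.Injective (g : Module.End F K) := by
    intro x y h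
    rw [← hinvg x, ← hinvg y, h]
  have hsurj : Function.Surjective (g : Module.End F K) := fun y => ⟨_, hginv y⟩
  set a : K := (g : Module.End F K) 1 with ha
  have ha0 : a ≠ 0 := by
    intro h0
    have : (g : Module.End F K) 1 = (g : Module.End F K) 0 := by rw [← ha, h0, map_zero]
    exact one_ne_zero (hinj this)
  -- key identity
  have key : ∀ (u : Kˣ) (x : K), (g : Module.End F K) (u * x) * a = (g : Module.End F K) u * (g : Module.End F K) x := by
    intro u x
    obtain ⟨v, hv⟩ := (hg (sg u)).mp ⟨u, rfl⟩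
    have h2 : ∀ y : K, (v : K) * (g : Module.End F K) y = (g : Module.End F K) (u * y) := by
      intro y
      have := congrArg (fun w : (Module.End F K)ˣ => (w : Module.End F K) ((g : Module.End F K) y)) hv
      simp only [Units.val_mul] at this
      rw [sg_apply] at this
      rw [this]
      show (g : Module.End F K) ((sg (F := F) u : Module.End F K) (((g⁻¹ : (Module.End F K)ˣ) : Module.End F K) ((g : Module.End F K) y))) = _
      rw [hinvg, sg_apply]
    have h3 := h2 1
    rw [mul_one, ← ha] at h3
    rw [← h2 x, ← h3]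
    ring
  -- the normalised map
  let h : K →ₗ[F] K := (lm (F := F) a⁻¹) * (g : Module.End F K)
  have h_apply : ∀ x, h x = a⁻¹ * (g : Module.End F K) x := fun x => rfl
  have h_one : h 1 = 1 := by rw [h_apply, ← ha, inv_mul_cancel₀ ha0]
  have h_mul : ∀ x y, h (x * y) = h x * h y := by
    intro x y
    by_cases hx : x = 0
    · subst hx
      simp [h_apply]
    · have := key (Units.mk0 x hx) y
      simp only [Units.val_mk0] at this
      rw [h_apply, h_apply, h_apply]
      field_simp
      rw [mul_comm a, this]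
  let hA : K →ₐ[F] K := AlgHom.ofLinearMap h h_one h_mul
  have hbij : Function.Bijective hA := by
    constructor
    · intro x y hxy
      have : a⁻¹ * (g : Module.End F K) x = a⁻¹ * (g : Module.End F K) y := hxy
      exact hinj (mul_left_cancel₀ (inv_ne_zero ha0) this)
    · intro y
      obtain ⟨x, hx⟩ := hsurj (a * y)
      refine ⟨x, ?_⟩
      show a⁻¹ * (g : Module.End F K) x = y
      rw [hx, inv_mul_cancel_left₀ ha0]
  refine ⟨(Units.mk0 a ha0, AlgEquiv.ofBijective hA hbij), ?_⟩
  apply Units.ext
  ext x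
  rw [nEl_apply]
  show a * (a⁻¹ * (g : Module.End F K) x) = _
  rw [mul_inv_cancel_left₀ ha0]

end

theorem result {F K : Type*} [Field F] [Fintype F] [Field K] [Fintype K] [Algebra F K] (n : ℕ) (hn : 2 ≤ n) (hdim : Module.finrank F K = n) :
    Nat.card (Subgroup.normalizer (((Units.map ((Algebra.lmul F K : K →ₐ[F] Module.End F K) : K →* Module.End F K)).range : Subgroup (Module.End F K)ˣ) : Set (Module.End F K)ˣ)) = n * (Fintype.card K - 1) := by
  classical
  have e : (Kˣ × (K ≃ₐ[F] K)) ≃ Subgroup.normalizer (((sg (F := F) (K := K)).range : Subgroup (Module.End F K)ˣ) : Set (Module.End F K)ˣ) :=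
    Equiv.ofBijective (fun p => ⟨nEl p, nEl_mem p⟩) ⟨fun p q h => nEl_injective (congrArg Subtype.val h),
      fun ⟨g, hg⟩ => by
        obtain ⟨p, hp⟩ := nEl_surj g hg
        exact ⟨p, Subtype.ext hp⟩⟩
  show Nat.card (Subgroup.normalizer (((sg (F := F) (K := K)).range : Subgroup (Module.End F K)ˣ) : Set (Module.End F K)ˣ)) = _
  rw [← Nat.card_congr e, Nat.card_prod, Nat.card_units, IsGalois.card_aut_eq_finrank, hdim, Nat.card_eq_fintype_card,
    mul_comm]

end Cfsg.Agent.S5738
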