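import Cfsg.Statements.S5747
-- import your own Cfsg.Agent.* helpers here

set_option autoImplicit false
open Cfsg

namespace Cfsg.Agent.S5747

section
variable (G : Type*) {Ω : Type*} [Group G] [MulAction G Ω]

/-- irredundant list of points. -/
def RL (l : List Ω) : Prop :=
  ∀ i (hi : i < l.length), ∃ g : G, (∀ j (hj : j < i), g • l[j] = l[j]) ∧ g • l[i] ≠ l[i]

/-- the list is a base. -/
def IsB (l : List Ω) : Prop := ∀ g : G, (∀ x ∈ l, g • x = x) → g = 1

theorem RL_nil : RL G ([] : List Ω) := by
  intro i hi
  simp at hi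

theorem RL_concat (l : List Ω) (x : Ω) :
    RL G (l ++ [x]) ↔ RL G l ∧ ∃ g : G, (∀ y ∈ l, g • y = y) ∧ g • x ≠ x := by
  constructor
  · intro h
    constructor
    · intro i hi
      have hi' : i < (l ++ [x]).length := by simp; omega
      obtain ⟨g, hg1, hg2⟩ := h i hi'
      refine ⟨g, ?_, ?_⟩
      · intro j hj
        have := hg1 j hj
        rwa [List.getElem_append_left (by omega)] at this
      · rwa [List.getElem_append_left hi] at hg2
    · have hi' : l.length < (l ++ [x]).length := by simp
      obtain ⟨g, hg1, hg2⟩ := h l.length hi'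
      refine ⟨g, ?_, ?_⟩
      · intro y hy
        obtain ⟨j, hj, rfl⟩ := List.mem_iff_getElem.mp hy
        have := hg1 j hj
        rwa [List.getElem_append_left hj] at this
      · simpa using hg2
  · rintro ⟨h1, g, hg1, hg2⟩
    intro i hi
    have hi' : i < l.length + 1 := by simpa using hi
    rcases Nat.lt_or_ge i l.length with h | h
    · obtain ⟨g', hg1', hg2'⟩ := h1 i h
      refine ⟨g', ?_, ?_⟩
      · intro j hj
        rw [List.getElem_append_left (by omega)]
        exact hg1' j hj
      · rw [List.getElem_append_left h]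
        exact hg2'
    · have hil : i = l.length := by omega
      subst hil
      refine ⟨g, ?_, ?_⟩
      · intro j hj
        rw [List.getElem_append_left hj]
        exact hg1 _ (List.getElem_mem hj)
      · simpa using hg2

theorem RL_nodup (l : List Ω) (h : RL G l) : l.Nodup := by
  induction l using List.reverseRecOn with
  | nil => exact List.nodup_nil
  | append_singleton l x ih =>
    rw [RL_concat] at h
    obtain ⟨h1, g, hg1, hg2⟩ := h
    rw [List.nodup_append]
    refine ⟨ih h1, List.nodup_singleton x, ?_⟩
    intro a ha b hb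
    rw [List.mem_singleton] at hb
    subst hb
    intro hab
    subst hab
    exact hg2 (hg1 _ ha)

/-- pruning: after an irredundant list `D`, a sublist of `C` can be chosen keeping irredundance and the stabiliser. -/
theorem prune (D : List Ω) (hD : RL G D) (C : List Ω) :
    ∃ C' : List Ω, C'.Sublist C ∧ RL G (D ++ C') ∧
      ∀ g : G, (∀ x ∈ D ++ C', g • x = x) → ∀ x ∈ D ++ C, g • x = x := by
  induction C using List.reverseRecOn with
  | nil => exact ⟨[], List.Sublist.refl _, by simpa using hD, fun g hg => hg⟩
  | append_singleton C c ih =>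
    obtain ⟨C', hsub, hR, hst⟩ := ih
    by_cases hc : ∃ g : G, (∀ y ∈ D ++ C', g • y = y) ∧ g • c ≠ c
    · refine ⟨C' ++ [c], ?_, ?_, ?_⟩
      · exact List.Sublist.append hsub (List.Sublist.refl _)
      · rw [← List.append_assoc, RL_concat]
        exact ⟨hR, hc⟩
      · intro g hg x hx
        rw [← List.append_assoc, List.mem_append] at hx
        rcases hx with hx | hx
        · apply hst g _ x hx
          intro y hy
          apply hg
          rw [← List.append_assoc, List.mem_append]
          exact Or.inl hy
        · apply hg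
          rw [← List.append_assoc, List.mem_append]
          exact Or.inr hx
    · push Not at hc
      refine ⟨C', ?_, hR, ?_⟩
      · exact hsub.trans (List.sublist_append_left _ _)
      · intro g hg x hx
        rw [← List.append_assoc, List.mem_append] at hx
        rcases hx with hx | hx
        · exact hst g hg x hx
        · rw [List.mem_singleton] at hx
          subst hx
          exact hc g hg

/-- the set form of reorder-invariance. -/
def SetInv : Prop :=
  ∀ l : List Ω, RL G l → IsB G l → ∀ x ∈ l, ∃ g : G, (∀ y ∈ l, y ≠ x → g • y = y) ∧ g • x ≠ x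

theorem steinitz (hI : SetInv G (Ω := Ω)) (B : List Ω) (hB : RL G B) (hBb : IsB G B) (A : List Ω) (hA : RL G A) :
    ∃ C : List Ω, RL G (A ++ C) ∧ IsB G (A ++ C) ∧ (A ++ C).length ≤ B.length := by
  induction A using List.reverseRecOn with
  | nil => exact ⟨B, by simpa using hB, by simpa using hBb, by simp⟩
  | append_singleton A x ih =>
    have hA' := hA
    rw [RL_concat] at hA'
    obtain ⟨C, hC1, hC2, hC3⟩ := ih hA'.1
    obtain ⟨C', hsub, hR, hst⟩ := prune G (A ++ [x]) hA C
    have hbase : IsB G (A ++ [x] ++ C') := by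
      intro g hg
      apply hC2
      intro y hy
      apply hst g hg
      rw [List.mem_append] at hy
      simp only [List.mem_append, List.mem_singleton]
      tauto
    refine ⟨C', hR, hbase, ?_⟩
    have hlt : C'.length < C.length := by
      rcases Nat.lt_or_ge C'.length C.length with h | h
      · exact h
      · exfalso
        have heq : C' = C := hsub.eq_of_length_le h
        subst heq
        have hnd := RL_nodup G _ hR
        obtain ⟨g, hg1, hg2⟩ := hI _ hR hbase x (by simp)
        have : g = 1 := by
          apply hC2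
          intro y hy
          apply hg1 y
          · rw [List.mem_append] at hy
            simp only [List.mem_append, List.mem_singleton]
            tauto
          · rintro rfl
            rw [List.append_assoc, List.nodup_append] at hnd
            rw [List.mem_append] at hy
            rcases hy with hy | hy
            · exact hnd.2.2 y hy y (by simp) rfl
            · have h2 := hnd.2.1
              rw [List.singleton_append, List.nodup_cons] at h2
              exact h2.1 hy
        rw [this, one_smul] at hg2
        exact hg2 rfl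
    simp only [List.length_append, List.length_singleton] at hC3 ⊢
    omega

theorem length_le (hI : SetInv G (Ω := Ω)) (A B : List Ω) (hA : RL G A) (hB : RL G B) (hBb : IsB G B) :
    A.length ≤ B.length := by
  obtain ⟨C, _, _, h⟩ := steinitz G hI B hB hBb A hA
  rw [List.length_append] at h
  omega

end

section
variable {G Ω : Type*} [Group G] [MulAction G Ω]

/-- the Fin form of irredundant base. -/
def FB {t : ℕ} (f : Fin t → Ω) : Prop :=
  (∀ g : G, (∀ i : Fin t, g • f i = f i) → g = 1) ∧
    ∀ i : Fin t, ∃ g : G, (∀ j : Fin t, j < i → g • f j = f j) ∧ g • f i ≠ f i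

theorem FB_ofList (l : List Ω) :
    FB (G := G) (fun k : Fin l.length => l[k]) ↔ (IsB G l ∧ RL G l) := by
  unfold FB IsB RL
  constructor
  · rintro ⟨h1, h2⟩
    refine ⟨?_, ?_⟩
    · intro g hg
      apply h1
      intro i
      exact hg _ (List.getElem_mem i.2)
    · intro i hi
      obtain ⟨g, hg1, hg2⟩ := h2 ⟨i, hi⟩
      exact ⟨g, fun j hj => hg1 ⟨j, by omega⟩ hj, hg2⟩
  · rintro ⟨h1, h2⟩
    refine ⟨?_, ?_⟩
    · intro g hg
      apply h1
      intro x hx
      obtain ⟨j, hj, rfl⟩ := List.mem_iff_getElem.mp hx
      exact hg ⟨j, hj⟩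
    · intro i
      obtain ⟨g, hg1, hg2⟩ := h2 i i.2
      exact ⟨g, fun j hj => hg1 j hj, hg2⟩

theorem FB_ofFn {t : ℕ} (f : Fin t → Ω) :
    FB (G := G) f ↔ (IsB G (List.ofFn f) ∧ RL G (List.ofFn f)) := by
  unfold FB IsB RL
  constructor
  · rintro ⟨h1, h2⟩
    refine ⟨?_, ?_⟩
    · intro g hg
      apply h1
      intro i
      exact hg _ (List.mem_ofFn.mpr ⟨i, rfl⟩)
    · intro i hi
      have hi' : i < t := by simpa using hi
      obtain ⟨g, hg1, hg2⟩ := h2 ⟨i, hi'⟩
      refine ⟨g, ?_, ?_⟩
      · intro j hj
        rw [List.getElem_ofFn]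
        exact hg1 ⟨j, by omega⟩ hj
      · rw [List.getElem_ofFn]
        exact hg2
  · rintro ⟨h1, h2⟩
    refine ⟨?_, ?_⟩
    · intro g hg
      apply h1
      intro x hx
      rw [List.mem_ofFn] at hx
      obtain ⟨i, rfl⟩ := hx
      exact hg i
    · intro i
      obtain ⟨g, hg1, hg2⟩ := h2 i (by simp)
      refine ⟨g, ?_, ?_⟩
      · intro j hj
        have := hg1 j hj
        rwa [List.getElem_ofFn] at this
      · rwa [List.getElem_ofFn] at hg2

end

theorem result {G Ω : Type*} [Group G] [Finite G] [MulAction G Ω] [Fintype Ω] :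
    (∀ (t t' : ℕ) (f : Fin t → Ω) (f' : Fin t' → Ω), ((∀ g : G, (∀ i : Fin t, g • f i = f i) → g = 1) ∧ ∀ i : Fin t, ∃ g : G, (∀ j : Fin t, j < i → g • f j = f j) ∧ g • f i ≠ f i) → ((∀ g : G, (∀ i : Fin t', g • f' i = f' i) → g = 1) ∧ ∀ i : Fin t', ∃ g : G, (∀ j : Fin t', j < i → g • f' j = f' j) ∧ g • f' i ≠ f' i) → t = t') ↔
    (∀ (t : ℕ) (f : Fin t → Ω) (σ : Equiv.Perm (Fin t)), ((∀ g : G, (∀ i : Fin t, g • f i = f i) → g = 1) ∧ ∀ i : Fin t, ∃ g : G, (∀ j : Fin t, j < i → g • f j = f j) ∧ g • f i ≠ f i) → ((∀ g : G, (∀ i : Fin t, g • (f ∘ σ) i = (f ∘ σ) i) → g = 1) ∧ ∀ i : Fin t, ∃ g : G, (∀ j : Fin t, j < i → g • (f ∘ σ) j = (f ∘ σ) j) ∧ g • (f ∘ σ) i ≠ (f ∘ σ) i)) := by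
  constructor
  · -- (a) ⇒ (b)
    intro ha t f σ hf
    change FB (G := G) (f ∘ σ)
    have hf' : FB (G := G) f := hf
    -- f ∘ σ is a base
    have hbase : IsB G (List.ofFn (f ∘ σ)) := by
      intro g hg
      apply hf.1
      intro i
      have := hg (f i) (by
        rw [List.mem_ofFn]
        exact ⟨σ.symm i, by simp⟩)
      exact this
    obtain ⟨C', hsub, hR, hst⟩ := prune G ([] : List Ω) (RL_nil G) (List.ofFn (f ∘ σ))
    simp only [List.nil_append] at hR hst
    have hb' : IsB G C' := fun g hg => hbase g (hst g hg)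
    have h1 : FB (G := G) (fun k : Fin C'.length => C'[k]) := (FB_ofList C').mpr ⟨hb', hR⟩
    have hlen : t = C'.length := ha t C'.length f _ hf h1
    have heq : C' = List.ofFn (f ∘ σ) := hsub.eq_of_length_le (by simp [← hlen])
    rw [FB_ofFn]
    rw [heq] at hR
    exact ⟨hbase, hR⟩
  · -- (b) ⇒ (a)
    intro hb
    -- set form
    have hI : SetInv G (Ω := Ω) := by
      intro l hR hB x hx
      obtain ⟨i, hi, rfl⟩ := List.mem_iff_getElem.mp hx
      have hpos : 0 < l.length := by omega
      set t := l.length with ht
      let last : Fin t := ⟨t - 1, by omega⟩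
      let σ : Equiv.Perm (Fin t) := Equiv.swap ⟨i, hi⟩ last
      have hfb : FB (G := G) (fun k : Fin l.length => l[k]) := (FB_ofList l).mpr ⟨hB, hR⟩
      have h2 := (hb t (fun k : Fin l.length => l[k]) σ hfb).2 last
      obtain ⟨g, hg1, hg2⟩ := h2
      have hσl : σ last = ⟨i, hi⟩ := Equiv.swap_apply_right _ _
      refine ⟨g, ?_, ?_⟩
      · intro y hy hne
        obtain ⟨k, hk, rfl⟩ := List.mem_iff_getElem.mp hy
        have hki : (⟨k, hk⟩ : Fin t) ≠ ⟨i, hi⟩ := by
          intro h
          apply hne
          have : k = i := by simpa using congrArg Fin.val h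
          subst this
          rfl
        have hj : σ ⟨k, hk⟩ < last := by
          have hne' : σ ⟨k, hk⟩ ≠ last := by
            intro h
            have : σ (σ ⟨k, hk⟩) = σ last := by rw [h]
            rw [Equiv.swap_apply_self, hσl] at this
            exact hki this
          have hle : (σ ⟨k, hk⟩ : ℕ) ≤ t - 1 := by
            have := (σ ⟨k, hk⟩).2
            omega
          rw [Fin.lt_def]
          have : (σ ⟨k, hk⟩ : ℕ) ≠ t - 1 := fun h => hne' (Fin.ext h)
          show (σ ⟨k, hk⟩ : ℕ) < t - 1
          omega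
        have := hg1 _ hj
        simp only [Function.comp] at this
        rw [Equiv.swap_apply_self] at this
        exact this
      · simp only [Function.comp] at hg2
        rw [hσl] at hg2
        exact hg2
    intro t t' f f' hf hf'
    have h1 := (FB_ofFn (G := G) f).mp hf
    have h2 := (FB_ofFn (G := G) f').mp hf'
    have l1 := length_le G hI _ _ h1.2 h2.2 h2.1
    have l2 := length_le G hI _ _ h2.2 h1.2 h1.1
    simp only [List.length_ofFn] at l1 l2
    omega

end Cfsg.Agent.S5747
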