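import Cfsg.Statements.S5748
import Cfsg.Agent.S0182
import Cfsg.Agent.S0219
import Cfsg.Agent.Lib.Helper8.AbInvO
import Cfsg.Agent.Lib.Helper13.CAGroup
import Cfsg.Agent.Lib.Helper19.Sharp2Even

set_option autoImplicit false
open Cfsg

namespace Cfsg.Agent.S5748

open Cfsg.Agent.Lib.Helper8.AbInv

/-- commuting-transitivity gives abelian centralisers of non-identity elements -/
theorem ca_of_ct {G : Type*} [Group G]
    (h : ∀ a b c : G, a ≠ 1 → b ≠ 1 → c ≠ 1 → Commute a b → Commute b c → Commute a c)
    (x : G) (hx : x ≠ 1) (a b : G) (ha : a * x = x * a) (hb : b * x = x * b) : a * b = b * a := by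
  by_cases ha1 : a = 1
  · rw [ha1, one_mul, mul_one]
  by_cases hb1 : b = 1
  · rw [hb1, one_mul, mul_one]
  exact h a x b ha1 hx hb1 ha hb.symm

/-- a non-commutative simple group has no normal subgroup besides `⊥` and `⊤`; a proper normal
subgroup is trivial -/
theorem not_comm_of_index_two {G : Type*} [Group G] [Finite G] [IsSimpleGroup G]
    (hG : ¬ IsMulCommutative G) (H : Subgroup G) (hH : H.index = 2) : False := by
  haveI : H.Normal := Subgroup.normal_of_index_eq_two hH
  rcases Subgroup.Normal.eq_bot_or_eq_top (H := H) inferInstance with h | h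
  · rw [h, Subgroup.index_bot] at hH
    apply hG
    haveI : Fact (Nat.Prime 2) := ⟨Nat.prime_two⟩
    haveI : IsCyclic G := isCyclic_of_prime_card hH
    exact ⟨⟨fun a b => IsCyclic.commGroup.mul_comm a b⟩⟩
  · rw [h, Subgroup.index_top] at hH
    omega

/-- A finite non-abelian simple group in which commuting is a transitive relation on the non-identity elements (equivalently, every non-identity element has abelian centraliser) is isomorphic to PSL₂ over a field with 2^f elements for some f ≥ 2; conversely these groups have that property. -/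
theorem result {G : Type*} [Group G] [Finite G] [IsSimpleGroup G] (hG : ¬ IsMulCommutative G) :
    (∀ a b c : G, a ≠ 1 → b ≠ 1 → c ≠ 1 → Commute a b → Commute b c → Commute a c) ↔
    ∃ (F : Type) (_ : Field F) (_ : Fintype F) (f : ℕ), 2 ≤ f ∧ Fintype.card F = 2 ^ f ∧ Nonempty (G ≃* Matrix.ProjectiveSpecialLinearGroup (Fin 2) F) := by
  haveI : Fact (Nat.Prime 2) := ⟨Nat.prime_two⟩
  have hnsolv : ¬ Group.IsSolvable G := by
    intro hs
    apply hG
    exact ⟨⟨fun a b => (IsSimpleGroup.comm_iff_isSolvable.mpr hs) a b⟩⟩
  constructor
  · intro hct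
    have hca := ca_of_ct hct
    -- even order
    have heven : Even (Nat.card G) := by
      by_contra hne
      rw [Nat.not_even_iff_odd] at hne
      apply hnsolv
      apply Cfsg.Agent.S0182.result hne
      intro x hx a ha b hb
      exact hca x hx a b (Subgroup.mem_centralizer_singleton_iff.mp ha)
        (Subgroup.mem_centralizer_singleton_iff.mp hb)
    have hab : AbHyp G := by
      intro t ht x y hx hy
      apply hca t _ x y hx hy
      intro h1
      rw [h1, orderOf_one] at ht
      omega
    rcases abInv_main (Nat.card G) G rfl hab heven with hcyc | hnor | hS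
    · exfalso
      obtain ⟨P⟩ : Nonempty (Sylow 2 G) := inferInstance
      obtain ⟨H, hH⟩ := Cfsg.Agent.S0219.result heven P (hcyc P)
      exact not_comm_of_index_two hG H hH
    · exfalso
      obtain ⟨P⟩ : Nonempty (Sylow 2 G) := inferInstance
      haveI := hnor P
      rcases Subgroup.Normal.eq_bot_or_eq_top (H := (P : Subgroup G)) inferInstance with h | h
      · have h2 : 2 ∣ Nat.card (P : Subgroup G) := by
          have := P.card_eq_multiplicity
          rw [this]
          have hpos : 0 < (Nat.card G).factorization 2 := by
            apply Nat.Prime.factorization_pos_of_dvd Nat.prime_two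
            · exact Nat.card_pos.ne'
            · exact heven.two_dvd
          exact dvd_pow_self 2 hpos.ne'
        rw [h, Subgroup.card_bot] at h2
        omega
      · apply hnsolv
        have hp : IsPGroup 2 G := by
          have := P.isPGroup'
          rw [h] at this
          exact IsPGroup.of_equiv this Subgroup.topEquiv
        haveI := hp.isNilpotent
        infer_instance
    · obtain ⟨-, F, hF1, hF2, hchar, h4, L, A, hAc, hinf, hsup, hAodd, -, ⟨e⟩⟩ := hS
      have hcen : Subgroup.center G = ⊥ := by
        rcases Subgroup.Normal.eq_bot_or_eq_top (H := Subgroup.center G) inferInstance with h | h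
        · exact h
        · exfalso
          apply hG
          refine ⟨⟨fun a b => ?_⟩⟩
          have : b ∈ Subgroup.center G := by rw [h]; trivial
          exact (Subgroup.mem_center_iff.mp this a)
      have hA : A = ⊥ := by
        rw [eq_bot_iff, ← hcen]; exact hAc
      have hL : L = ⊤ := by
        rw [hA, sup_bot_eq] at hsup
        exact hsup
      obtain ⟨n, hn, hcard⟩ := FiniteField.card F 2
      refine ⟨F, hF1, hF2, (n : ℕ), ?_, hcard, ?_⟩
      · by_contra hlt
        have hn1 : (n : ℕ) = 1 := by
          have := n.pos
          omega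
        rw [hcard, hn1] at h4
        omega
      · have e1 : G ≃* ↥L := by
          rw [hL]; exact Subgroup.topEquiv.symm
        exact ⟨(e1.trans e).trans
          (Cfsg.Agent.Lib.Helper19.Sharp2Even.pslEquivSl (F := F)).symm⟩
  · rintro ⟨F, hF1, hF2, f, hf, hcard, ⟨e⟩⟩ a b c ha hb hc hab hbc
    haveI : CharP F 2 := Cfsg.Agent.Lib.Helper19.Sharp2Even.charP_two_of_card hcard
    apply e.injective
    rw [map_mul, map_mul]
    apply Cfsg.Agent.Lib.Helper13.PSL2_even_CA (e b)
    · intro h
      apply hb
      apply e.injective
      rw [h, map_one]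
    · rw [← map_mul, ← map_mul, hab.eq]
    · rw [← map_mul, ← map_mul, hbc.eq]

end Cfsg.Agent.S5748
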