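import Cfsg.Statements.S5754
import Mathlib

set_option autoImplicit false
open Cfsg

namespace Cfsg.Agent.S5754

section Aux
set_option linter.unusedSectionVars false
set_option linter.unusedVariables false
set_option linter.unusedSimpArgs false
namespace S5754aux
open QuadraticMap

variable {F V : Type*} [Field F] [AddCommGroup V] [Module F V] (Q : QuadraticForm F V)

/-- the reflection in the hyperplane orthogonal to `a`, as a linear map -/
noncomputable def reflLin (a : V) : V →ₗ[F] V where
  toFun x := x - (polar Q x a / Q a) • a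
  map_add' x y := by
    rw [polar_add_left, add_div, add_smul]; abel
  map_smul' c x := by
    rw [RingHom.id_apply, polar_smul_left, smul_eq_mul, mul_div_assoc, mul_smul, smul_sub]

lemma reflLin_apply (a x : V) : reflLin Q a x = x - (polar Q x a / Q a) • a := rfl

lemma polar_self' (a : V) : polar Q a a = 2 * Q a := by
  rw [polar_self]; simp [two_smul, two_mul]

lemma reflLin_invol (a : V) (ha : Q a ≠ 0) (x : V) : reflLin Q a (reflLin Q a x) = x := by
  rw [reflLin_apply, reflLin_apply]
  have h1 : polar Q (x - (polar Q x a / Q a) • a) a = - polar Q x a := by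
    rw [sub_eq_add_neg, polar_add_left, ← neg_smul, polar_smul_left, polar_self', smul_eq_mul]
    field_simp
    ring
  rw [h1, neg_div, neg_smul]
  abel

lemma Q_sub (x y : V) : Q (x - y) = Q x + Q y - polar Q x y := by
  rw [sub_eq_add_neg, QuadraticMap.map_add (⇑Q), QuadraticMap.map_neg, polar_neg_right]
  ring

lemma reflLin_Q (a : V) (ha : Q a ≠ 0) (x : V) : Q (reflLin Q a x) = Q x := by
  rw [reflLin_apply, Q_sub, QuadraticMap.map_smul, polar_smul_right, smul_eq_mul, smul_eq_mul]
  field_simp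
  ring

/-- the reflection as a linear equivalence -/
noncomputable def reflEquiv (a : V) (ha : Q a ≠ 0) : V ≃ₗ[F] V :=
  LinearEquiv.ofInvolutive (reflLin Q a) (reflLin_invol Q a ha)

/-- the reflection as an isometry -/
noncomputable def refl (a : V) (ha : Q a ≠ 0) : Q.IsometryEquiv Q :=
  { reflEquiv Q a ha with
    map_app' := fun x => reflLin_Q Q a ha x }

lemma refl_apply (a : V) (ha : Q a ≠ 0) (x : V) :
    refl Q a ha x = x - (polar Q x a / Q a) • a := rfl

lemma iso_polar (τ : Q.IsometryEquiv Q) (x y : V) : polar Q (τ x) (τ y) = polar Q x y := by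
  unfold polar
  rw [← map_add, τ.map_app, τ.map_app, τ.map_app]

lemma exists_iso (hQ : Q.Anisotropic) (n : ℕ) (v v' : Fin n → V)
    (hq : ∀ i, Q (v i) = Q (v' i))
    (hB : ∀ i j, polar Q (v i) (v j) = polar Q (v' i) (v' j)) :
    ∀ k, k ≤ n → ∃ τ : Q.IsometryEquiv Q, ∀ i : Fin n, (i : ℕ) < k → τ (v i) = v' i := by
  intro k
  induction k with
  | zero =>
    intro _
    exact ⟨QuadraticMap.IsometryEquiv.refl Q, fun i hi => absurd hi (Nat.not_lt_zero _)⟩
  | succ k ih =>
    intro hk
    obtain ⟨τ, hτ⟩ := ih (by omega)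
    obtain ⟨ik, hik⟩ : ∃ ik : Fin n, ik = ⟨k, by omega⟩ := ⟨_, rfl⟩
    by_cases hw : τ (v ik) = v' ik
    · refine ⟨τ, fun i hi => ?_⟩
      by_cases h : (i : ℕ) < k
      · exact hτ i h
      · have : i = ik := by
          rw [hik]; apply Fin.ext; simp; omega
        rw [this]; exact hw
    · have ha0 : τ (v ik) - v' ik ≠ 0 := sub_ne_zero.mpr hw
      have ha : Q (τ (v ik) - v' ik) ≠ 0 := fun h => ha0 (hQ _ h)
      refine ⟨τ.trans (refl Q _ ha), fun i hi => ?_⟩
      change refl Q _ ha (τ (v i)) = v' i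
      by_cases h : (i : ℕ) < k
      · rw [hτ i h, refl_apply, polar_sub_right]
        have h1 : polar Q (v' i) (τ (v ik)) = polar Q (v' i) (v' ik) := by
          have h3 := iso_polar Q τ (v i) (v ik)
          rw [hτ i h] at h3
          rw [h3, hB]
        rw [h1, sub_self, zero_div, zero_smul, sub_zero]
      · have : i = ik := by
          rw [hik]; apply Fin.ext; simp; omega
        rw [this, refl_apply]
        have hQw : Q (v' ik) = Q (τ (v ik)) := by rw [τ.map_app, hq]
        have h1 : polar Q (τ (v ik)) (τ (v ik) - v' ik) = Q (τ (v ik) - v' ik) := by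
          rw [polar_sub_right, polar_self', Q_sub, hQw]
          ring
        rw [h1, div_self ha, one_smul]
        abel

theorem main (hQ : Q.Anisotropic) (n : ℕ) (hn : 2 ≤ n) (u u' : Fin n → V)
    (h2 : ∀ i j : Fin n, i ≠ j → ∃ (φ : Q.IsometryEquiv Q) (c : V),
      φ (u i) + c = u' i ∧ φ (u j) + c = u' j) :
    ∃ (φ : Q.IsometryEquiv Q) (c : V), ∀ i, φ (u i) + c = u' i := by
  obtain ⟨i₀, hi₀⟩ : ∃ i₀ : Fin n, i₀ = ⟨0, by omega⟩ := ⟨_, rfl⟩
  have hsub : ∀ i j : Fin n, Q (u i - u j) = Q (u' i - u' j) := by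
    intro i j
    by_cases hij : i = j
    · rw [hij, sub_self, sub_self]
    · obtain ⟨φ, c, h1, h2'⟩ := h2 i j hij
      rw [← h1, ← h2', add_sub_add_right_eq_sub, ← map_sub, φ.map_app]
  obtain ⟨v, hv⟩ : ∃ v : Fin n → V, v = fun i => u i - u i₀ := ⟨_, rfl⟩
  obtain ⟨v', hv'⟩ : ∃ v' : Fin n → V, v' = fun i => u' i - u' i₀ := ⟨_, rfl⟩
  have hv_eq : ∀ i, v i = u i - u i₀ := fun i => by rw [hv]
  have hv'_eq : ∀ i, v' i = u' i - u' i₀ := fun i => by rw [hv']
  have hq : ∀ i, Q (v i) = Q (v' i) := fun i => by rw [hv_eq, hv'_eq, hsub]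
  have hB : ∀ i j, polar Q (v i) (v j) = polar Q (v' i) (v' j) := by
    intro i j
    have e1 : Q (v i - v j) = Q (v' i - v' j) := by
      rw [hv_eq, hv_eq, hv'_eq, hv'_eq, sub_sub_sub_cancel_right, sub_sub_sub_cancel_right, hsub]
    rw [Q_sub, Q_sub, hq i, hq j] at e1
    linear_combination -e1
  obtain ⟨τ, hτ⟩ := exists_iso Q hQ n v v' hq hB n le_rfl
  refine ⟨τ, u' i₀ - τ (u i₀), fun i => ?_⟩
  have h := hτ i i.2
  rw [hv_eq, hv'_eq, map_sub] at h
  rw [sub_eq_iff_eq_add] at h
  rw [h]
  abel

end S5754aux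
end Aux

/-- Let V be a finite-dimensional vector space over a finite field F carrying an anisotropic quadratic form Q (Q(v) = 0 only for v = 0). Then the group of all maps v ↦ φ(v) + c, with φ an isometry of Q and c ∈ V, acts on V as a binary permutation group: given n ≥ 2 and two n-tuples u, u' of vectors such that every pair of corresponding entries of u is carried to that of u' by such a map, one such map carries u to u'. -/
theorem result {F V : Type*} [Field F] [Finite F] [AddCommGroup V] [Module F V] [Module.Finite F V]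
    (Q : QuadraticForm F V) (hQ : Q.Anisotropic) (n : ℕ) (hn : 2 ≤ n) (u u' : Fin n → V)
    (h2 : ∀ i j : Fin n, i ≠ j → ∃ (φ : Q.IsometryEquiv Q) (c : V), φ (u i) + c = u' i ∧ φ (u j) + c = u' j) :
    ∃ (φ : Q.IsometryEquiv Q) (c : V), ∀ i, φ (u i) + c = u' i := by
  exact S5754aux.main Q hQ n hn u u' h2

end Cfsg.Agent.S5754
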