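-- Statement S5775 (row 5775): every maximal subgroup of SL_3(q) is geometric (with the side conditions of the tables) or residual.
-- Proof: Aschbacher's theorem S5630 (helper20) + the refined theorem `SLMMain.concl_of_asch` (helper17; plan notes/SLnMax_plan.md).
import Cfsg.Statements.S5775
import Cfsg.Agent.Lib.Helper20.AschMain
import Cfsg.Agent.Lib.Helper17.SLMMain3

set_option autoImplicit false
open Cfsg
open Cfsg.Geo Cfsg.Agent.Lib.Helper17.SLM Cfsg.Agent.Lib.Helper17.SLMRows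
open Cfsg.Agent.Lib.Helper1.SLMLeaf (c6_eleven c6_five c6_seven c6_three c6_two)
open Cfsg.Agent.Lib.Helper27.SLMLeaf (field_dvd mdec_card)
open Cfsg.Agent.Lib.Lead.SLMLeaf (c6_pow)
open Cfsg.Agent.Lib.Helper17.SLMMain3

namespace Cfsg.Agent.S5775

/-- Every maximal subgroup of SL_3(q) is of one of the listed geometric types or lies in the residual class. Let F be a finite field with q elements and H a maximal subgroup of SL_3(F) (viewed inside GL_3(F)). Then H is the intersection with SL_3(F) of one of: the stabiliser of a proper non-zero subspace; for q ≥ 5, the stabiliser of a decomposition of F^3 into three independent lines; for q ≠ 4, the normaliser of a degree-3 subfield of the matrix algebra; a subfield group for a subfield F₀ with |F| = |F₀|^r, r prime; for q = p ≡ 1 mod 3 prime, the normaliser of an absolutely irreducible 3-subgroup R of exponent 3 with centre of order 3, all of whose characteristic abelian subgroups are cyclic, of order 3^(1+2m) for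 some m ≥ 1, with F the smallest field of characteristic p containing the cube roots of unity (so R is extraspecial of order 27); for q odd, the similarity group of a non-degenerate quadratic form; the similarity group of a non-degenerate unitary form — or else H lies in the residual class of the linear case (modulo scalars H is almost simple, with absolutely irreducible perfect socle preimage realisable over no proper subfield and fixing no non-degenerate quadratic, symplectic or unitary form). -/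
theorem result {F : Type*} [Field F] [Fintype F] (H : Subgroup (Matrix.GeneralLinearGroup (Fin 3) F)) (hH : Cfsg.Geo.IsMaximalIn (Cfsg.Geo.specialLinear (Fin 3) F) H) :
    (∃ W : Submodule F (Fin 3 → F), W ≠ ⊥ ∧ W ≠ ⊤ ∧ H = Cfsg.Geo.subspaceStabilizer W ⊓ Cfsg.Geo.specialLinear (Fin 3) F) ∨
    (5 ≤ Fintype.card F ∧ ∃ D : Fin 3 → Submodule F (Fin 3 → F), Cfsg.Geo.IsMDecomposition 1 D ∧ H = Cfsg.Geo.decompositionStabilizer D ⊓ Cfsg.Geo.specialLinear (Fin 3) F) ∨
    (Fintype.card F ≠ 4 ∧ ∃ K : Subalgebra F (Matrix (Fin 3) (Fin 3) F), Cfsg.Geo.IsFieldSubalgebra 3 K ∧ H = Cfsg.Geo.subalgebraNormalizer K ⊓ Cfsg.Geo.specialLinear (Fin 3) F) ∨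
    (∃ (F₀ : Subfield F) (r : ℕ) (P : Matrix.GeneralLinearGroup (Fin 3) F), r.Prime ∧ Fintype.card F = Nat.card F₀ ^ r ∧ H = Cfsg.Geo.subfieldSubgroup F₀ P ⊓ Cfsg.Geo.specialLinear (Fin 3) F) ∨
    (∃ (p : ℕ) (R : Subgroup (Matrix.GeneralLinearGroup (Fin 3) F)), p.Prime ∧ Fintype.card F = p ∧ p % 3 = 1 ∧ Cfsg.Geo.IsLinearSymplecticTypeData 3 R ∧ H = Cfsg.Geo.subgroupNormalizer R ⊓ Cfsg.Geo.specialLinear (Fin 3) F) ∨
    (Odd (Fintype.card F) ∧ ∃ Q : (Fin 3 → F) → F, Cfsg.Geo.IsNondegenerateQuadraticForm Q ∧ H = Cfsg.Geo.quadSimilarityGroup Q ⊓ Cfsg.Geo.specialLinear (Fin 3) F) ∨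
    (∃ (σ : F ≃+* F) (f : (Fin 3 → F) → (Fin 3 → F) → F), Cfsg.Geo.IsUnitaryForm σ f ∧ H = Cfsg.Geo.similarityGroup f ⊓ Cfsg.Geo.specialLinear (Fin 3) F) ∨
    Cfsg.Geo.InLinearResidualClass H := by
  rcases concl3 (fun H hH hp => Cfsg.Agent.Lib.Helper20.AschLeaf.asch_final 3 (by norm_num) H hH hp) hH with ⟨M, hM, rfl⟩ | hres
  swap
  · exact Or.inr (Or.inr (Or.inr (Or.inr (Or.inr (Or.inr (Or.inr (hres)))))))
  rcases hM with ⟨W, h0, h1, rfl⟩ | ⟨t, m, D, hD, hc1, hc2, rfl⟩ | ⟨r, K, hr, hK, hK34, rfl⟩ |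
    ⟨n₁, n₂, e, P, h1, h2, hc, rfl⟩ | ⟨F₀, r, P, hr, hc, rfl⟩ | ⟨r, R, hR, rfl⟩ | ⟨m, t, e, P, hm, ht, rfl⟩ |
    ⟨f, hf, he, h4, rfl⟩ | ⟨σ, f, hf, -, rfl⟩ | ⟨Q, hQ, hodd, -, rfl⟩
  · exact Or.inl ⟨W, h0, h1, rfl⟩
  · have htm := mdec_card hD
    have ht2 := hD.two_le
    have hm0 := hD.pos
    have hcases : (t = 3 ∧ m = 1) := by
      have ht : t ≤ 3 := by nlinarith
      interval_cases t <;> omega
    rcases hcases with ⟨rfl, rfl⟩
    · exact Or.inr (Or.inl ⟨(hc1 rfl).1, D, hD, rfl⟩)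
  · have hdvd := field_dvd (by norm_num) hK
    have hcases : r = 3 := by
      have hle : r ≤ 3 := Nat.le_of_dvd (by norm_num) hdvd
      interval_cases r <;> first | omega | (exfalso; revert hr hdvd; norm_num)
    rcases hcases with rfl
    · exact Or.inr (Or.inr (Or.inl ⟨fun h => hK34 ⟨rfl, h⟩, K, hK, rfl⟩))
  · have hcard := card_tensor e
    exfalso
    have hn1 : n₁ ≤ 3 := by nlinarith
    interval_cases n₁ <;> omega
  · exact Or.inr (Or.inr (Or.inr (Or.inl ⟨F₀, r, P, hr, hc, rfl⟩)))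
  · obtain ⟨k, hk⟩ := c6_pow (by norm_num) hR
    have hr' : r = 3 := prime_of_pow_eq (p := 3) (a := 1) hR.symplecticType.prime (by norm_num) (by norm_num) (by rw [← hk]; norm_num)
    subst hr'
    obtain ⟨p, hp, hcard, hmod⟩ := c6_three (by norm_num) hR
    exact Or.inr (Or.inr (Or.inr (Or.inr (Or.inl ⟨p, R, hp, hcard, hmod, hR, rfl⟩))))
  · obtain ⟨hm3, ht2', hn9⟩ := wreath_small hm ht (card_wreath e) (by norm_num)
    omega
  · exact absurd he (by decide)
  · exact Or.inr (Or.inr (Or.inr (Or.inr (Or.inr (Or.inr (Or.inl ⟨σ, f, hf, rfl⟩))))))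
  · exact Or.inr (Or.inr (Or.inr (Or.inr (Or.inr (Or.inl ⟨hodd, Q, hQ, rfl⟩)))))

end Cfsg.Agent.S5775
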