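-- Statement S5781 (row 5781): every maximal subgroup of SL_4(q) is geometric (with the side conditions of the tables) or residual.
-- Proof: Aschbacher's theorem S5630 (helper20) + the refined theorem `SLMMain.concl_of_asch` (helper17; plan notes/SLnMax_plan.md).
import Cfsg.Statements.S5781
import Cfsg.Agent.Lib.Helper20.AschMain
import Cfsg.Agent.Lib.Helper17.SLMMain4

set_option autoImplicit false
open Cfsg
open Cfsg.Geo Cfsg.Agent.Lib.Helper17.SLM Cfsg.Agent.Lib.Helper17.SLMRows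
open Cfsg.Agent.Lib.Helper1.SLMLeaf (c6_eleven c6_five c6_seven c6_three c6_two)
open Cfsg.Agent.Lib.Helper27.SLMLeaf (field_dvd mdec_card)
open Cfsg.Agent.Lib.Lead.SLMLeaf (c6_pow)
open Cfsg.Agent.Lib.Helper17.SLMMain4

namespace Cfsg.Agent.S5781

/-- Every maximal subgroup of SL_4(q) is of one of the listed geometric types or lies in the residual class. Let F be a finite field with q elements and H a maximal subgroup of SL_4(F) (inside GL_4(F)). Then H is the intersection with SL_4(F) of one of: the stabiliser of a proper non-zero subspace; for q ≥ 7, the stabiliser of a decomposition into four independent lines; for q ≥ 4, the stabiliser of a decomposition into two independent planes; the normaliser of a degree-2 subfield of the matrix algebra; a subfield group for a subfield F₀ with |F| = |F₀|^r, r prime; for q = p ≡ 1 mod 4 prime, the normaliser of an absolutely irreducible 2-subgroup R of exponent 4 with centre of order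 4, all of whose characteristic abelian subgroups are cyclic, of order 2^(2+2m) for some m (here |R| = 64), with 4 dividing p − 1; for q odd, the similarity group of a non-degenerate quadratic form; the similarity group of a non-degenerate symplectic form; the similarity group of a non-degenerate unitary form — or else H lies in the residual class of the linear case. -/
theorem result {F : Type*} [Field F] [Fintype F] (H : Subgroup (Matrix.GeneralLinearGroup (Fin 4) F)) (hH : Cfsg.Geo.IsMaximalIn (Cfsg.Geo.specialLinear (Fin 4) F) H) :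
    (∃ W : Submodule F (Fin 4 → F), W ≠ ⊥ ∧ W ≠ ⊤ ∧ H = Cfsg.Geo.subspaceStabilizer W ⊓ Cfsg.Geo.specialLinear (Fin 4) F) ∨
    (7 ≤ Fintype.card F ∧ ∃ D : Fin 4 → Submodule F (Fin 4 → F), Cfsg.Geo.IsMDecomposition 1 D ∧ H = Cfsg.Geo.decompositionStabilizer D ⊓ Cfsg.Geo.specialLinear (Fin 4) F) ∨
    (4 ≤ Fintype.card F ∧ ∃ D : Fin 2 → Submodule F (Fin 4 → F), Cfsg.Geo.IsMDecomposition 2 D ∧ H = Cfsg.Geo.decompositionStabilizer D ⊓ Cfsg.Geo.specialLinear (Fin 4) F) ∨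
    (∃ K : Subalgebra F (Matrix (Fin 4) (Fin 4) F), Cfsg.Geo.IsFieldSubalgebra 2 K ∧ H = Cfsg.Geo.subalgebraNormalizer K ⊓ Cfsg.Geo.specialLinear (Fin 4) F) ∨
    (∃ (F₀ : Subfield F) (r : ℕ) (P : Matrix.GeneralLinearGroup (Fin 4) F), r.Prime ∧ Fintype.card F = Nat.card F₀ ^ r ∧ H = Cfsg.Geo.subfieldSubgroup F₀ P ⊓ Cfsg.Geo.specialLinear (Fin 4) F) ∨
    (∃ (p : ℕ) (R : Subgroup (Matrix.GeneralLinearGroup (Fin 4) F)), p.Prime ∧ Fintype.card F = p ∧ p % 4 = 1 ∧ Cfsg.Geo.IsLinearSymplecticTypeData 2 R ∧ H = Cfsg.Geo.subgroupNormalizer R ⊓ Cfsg.Geo.specialLinear (Fin 4) F) ∨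
    (Odd (Fintype.card F) ∧ ∃ Q : (Fin 4 → F) → F, Cfsg.Geo.IsNondegenerateQuadraticForm Q ∧ H = Cfsg.Geo.quadSimilarityGroup Q ⊓ Cfsg.Geo.specialLinear (Fin 4) F) ∨
    (∃ f : (Fin 4 → F) → (Fin 4 → F) → F, Cfsg.Geo.IsSymplecticForm f ∧ H = Cfsg.Geo.similarityGroup f ⊓ Cfsg.Geo.specialLinear (Fin 4) F) ∨
    (∃ (σ : F ≃+* F) (f : (Fin 4 → F) → (Fin 4 → F) → F), Cfsg.Geo.IsUnitaryForm σ f ∧ H = Cfsg.Geo.similarityGroup f ⊓ Cfsg.Geo.specialLinear (Fin 4) F) ∨
    Cfsg.Geo.InLinearResidualClass H := by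
  rcases concl4 (fun H hH hp => Cfsg.Agent.Lib.Helper20.AschLeaf.asch_final 4 (by norm_num) H hH hp) hH with ⟨M, hM, rfl⟩ | hres
  swap
  · exact Or.inr (Or.inr (Or.inr (Or.inr (Or.inr (Or.inr (Or.inr (Or.inr (Or.inr (hres)))))))))
  rcases hM with ⟨W, h0, h1, rfl⟩ | ⟨t, m, D, hD, hc1, hc2, rfl⟩ | ⟨r, K, hr, hK, hK34, rfl⟩ |
    ⟨n₁, n₂, e, P, h1, h2, hc, rfl⟩ | ⟨F₀, r, P, hr, hc, rfl⟩ | ⟨r, R, hR, rfl⟩ | ⟨m, t, e, P, hm, ht, rfl⟩ |
    ⟨f, hf, he, h4, rfl⟩ | ⟨σ, f, hf, -, rfl⟩ | ⟨Q, hQ, hodd, -, rfl⟩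
  · exact Or.inl ⟨W, h0, h1, rfl⟩
  · have htm := mdec_card hD
    have ht2 := hD.two_le
    have hm0 := hD.pos
    have hcases : (t = 4 ∧ m = 1) ∨ (t = 2 ∧ m = 2) := by
      have ht : t ≤ 4 := by nlinarith
      interval_cases t <;> omega
    rcases hcases with ⟨rfl, rfl⟩ | ⟨rfl, rfl⟩
    · exact Or.inr (Or.inl ⟨(hc1 rfl).2 rfl, D, hD, rfl⟩)
    · exact Or.inr (Or.inr (Or.inl ⟨(hc2 rfl).2 rfl, D, hD, rfl⟩))
  · have hdvd := field_dvd (by norm_num) hK
    have hcases : r = 2 := by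
      have hle : r ≤ 4 := Nat.le_of_dvd (by norm_num) hdvd
      interval_cases r <;> first | omega | (exfalso; revert hr hdvd; norm_num)
    rcases hcases with rfl
    · exact Or.inr (Or.inr (Or.inr (Or.inl ⟨K, hK, rfl⟩)))
  · have hcard := card_tensor e
    exfalso
    have hn1 : n₁ ≤ 4 := by nlinarith
    interval_cases n₁ <;> omega
  · exact Or.inr (Or.inr (Or.inr (Or.inr (Or.inl ⟨F₀, r, P, hr, hc, rfl⟩))))
  · obtain ⟨k, hk⟩ := c6_pow (by norm_num) hR
    have hr' : r = 2 := prime_of_pow_eq (p := 2) (a := 2) hR.symplecticType.prime (by norm_num) (by norm_num) (by rw [← hk]; norm_num)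
    subst hr'
    obtain ⟨p, hp, hcard, hmod⟩ := c6_two (by norm_num) hR
    exact Or.inr (Or.inr (Or.inr (Or.inr (Or.inr (Or.inl ⟨p, R, hp, hcard, hmod, hR, rfl⟩)))))
  · obtain ⟨hm3, ht2', hn9⟩ := wreath_small hm ht (card_wreath e) (by norm_num)
    omega
  · exact Or.inr (Or.inr (Or.inr (Or.inr (Or.inr (Or.inr (Or.inr (Or.inl ⟨f, hf, rfl⟩)))))))
  · exact Or.inr (Or.inr (Or.inr (Or.inr (Or.inr (Or.inr (Or.inr (Or.inr (Or.inl ⟨σ, f, hf, rfl⟩))))))))
  · exact Or.inr (Or.inr (Or.inr (Or.inr (Or.inr (Or.inr (Or.inl ⟨hodd, Q, hQ, rfl⟩))))))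

end Cfsg.Agent.S5781
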