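-- Statement S5808 (row 5808): every maximal subgroup of SL_7(q) is geometric (with the side conditions of the tables) or residual.
-- Proof: Aschbacher's theorem S5630 (helper20) + the refined theorem `SLMMain.concl_of_asch` (helper17; plan notes/SLnMax_plan.md).
import Cfsg.Statements.S5808
import Cfsg.Agent.Lib.Helper20.AschMain
import Cfsg.Agent.Lib.Helper17.SLMRows

set_option autoImplicit false
open Cfsg
open Cfsg.Geo Cfsg.Agent.Lib.Helper17.SLM Cfsg.Agent.Lib.Helper17.SLMRows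
open Cfsg.Agent.Lib.Helper1.SLMLeaf (c6_eleven c6_five c6_seven c6_three c6_two)
open Cfsg.Agent.Lib.Helper27.SLMLeaf (field_dvd mdec_card)
open Cfsg.Agent.Lib.Lead.SLMLeaf (c6_pow)

namespace Cfsg.Agent.S5808

/-- Every maximal subgroup of SL_7(q) is of one of the listed geometric types or lies in the residual class. Let F be a finite field with q elements (p its characteristic) and H a maximal subgroup of SL_7(F) (inside GL_7(F)). Then H is the intersection with SL_7(F) of one of: the stabiliser of a proper non-zero subspace; for q ≥ 5, the stabiliser of a decomposition into 7 independent 1-spaces; the normaliser of a degree-7 subfield of the matrix algebra; a subfield group for a subfield F₀ with |F| = |F₀|^r, r prime; for q = p prime with p ≡ 1 mod 7, or q = p³ with p ≡ 2 or 4 mod 7, the normaliser of an absolutely irreducible 7-subgroup R of exponent 7 and order 7^(1+2m) with centre of order 7, all of whose characteristic abelian subgroups are cyclic, F being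 the smallest field of characteristic p containing the seventh roots of unity (here R is extraspecial of order 343); for q odd, the similarity group of a non-degenerate quadratic form; the similarity group of a non-degenerate unitary form — or else H lies in the residual class of the linear case (modulo scalars H is almost simple, with absolutely irreducible perfect socle preimage realisable over no proper subfield and fixing no non-degenerate quadratic, symplectic or unitary form). -/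
theorem result {F : Type*} [Field F] [Fintype F] (H : Subgroup (Matrix.GeneralLinearGroup (Fin 7) F)) (hH : Cfsg.Geo.IsMaximalIn (Cfsg.Geo.specialLinear (Fin 7) F) H) :
    (∃ W : Submodule F (Fin 7 → F), W ≠ ⊥ ∧ W ≠ ⊤ ∧ H = Cfsg.Geo.subspaceStabilizer W ⊓ Cfsg.Geo.specialLinear (Fin 7) F) ∨
    (5 ≤ Fintype.card F ∧ ∃ D : Fin 7 → Submodule F (Fin 7 → F), Cfsg.Geo.IsMDecomposition 1 D ∧ H = Cfsg.Geo.decompositionStabilizer D ⊓ Cfsg.Geo.specialLinear (Fin 7) F) ∨
    (∃ K : Subalgebra F (Matrix (Fin 7) (Fin 7) F), Cfsg.Geo.IsFieldSubalgebra 7 K ∧ H = Cfsg.Geo.subalgebraNormalizer K ⊓ Cfsg.Geo.specialLinear (Fin 7) F) ∨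
    (∃ (F₀ : Subfield F) (r : ℕ) (P : Matrix.GeneralLinearGroup (Fin 7) F), r.Prime ∧ Fintype.card F = Nat.card F₀ ^ r ∧ H = Cfsg.Geo.subfieldSubgroup F₀ P ⊓ Cfsg.Geo.specialLinear (Fin 7) F) ∨
    ((∃ p : ℕ, p.Prime ∧ CharP F p ∧ ((Fintype.card F = p ∧ p % 7 = 1) ∨ (Fintype.card F = p ^ 3 ∧ (p % 7 = 2 ∨ p % 7 = 4)))) ∧ ∃ R : Subgroup (Matrix.GeneralLinearGroup (Fin 7) F), Cfsg.Geo.IsLinearSymplecticTypeData 7 R ∧ H = Cfsg.Geo.subgroupNormalizer R ⊓ Cfsg.Geo.specialLinear (Fin 7) F) ∨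
    (Odd (Fintype.card F) ∧ ∃ Q : (Fin 7 → F) → F, Cfsg.Geo.IsNondegenerateQuadraticForm Q ∧ H = Cfsg.Geo.quadSimilarityGroup Q ⊓ Cfsg.Geo.specialLinear (Fin 7) F) ∨
    (∃ (σ : F ≃+* F) (f : (Fin 7 → F) → (Fin 7 → F) → F), Cfsg.Geo.IsUnitaryForm σ f ∧ H = Cfsg.Geo.similarityGroup f ⊓ Cfsg.Geo.specialLinear (Fin 7) F) ∨
    Cfsg.Geo.InLinearResidualClass H := by
  rcases concl (by norm_num) (fun H hH hp => Cfsg.Agent.Lib.Helper20.AschLeaf.asch_final 7 (by norm_num) H hH hp) hH with ⟨M, hM, rfl⟩ | hres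
  swap
  · exact Or.inr (Or.inr (Or.inr (Or.inr (Or.inr (Or.inr (Or.inr (hres)))))))
  rcases hM with ⟨W, h0, h1, rfl⟩ | ⟨t, m, D, hD, hc1, hc2, rfl⟩ | ⟨r, K, hr, hK, hK34, rfl⟩ |
    ⟨n₁, n₂, e, P, h1, h2, hc, rfl⟩ | ⟨F₀, r, P, hr, hc, rfl⟩ | ⟨r, R, hR, rfl⟩ | ⟨m, t, e, P, hm, ht, rfl⟩ |
    ⟨f, hf, he, h4, rfl⟩ | ⟨σ, f, hf, -, rfl⟩ | ⟨Q, hQ, hodd, -, rfl⟩
  · exact Or.inl ⟨W, h0, h1, rfl⟩
  · have htm := mdec_card hD
    have ht2 := hD.two_le
    have hm0 := hD.pos
    have hcases : (t = 7 ∧ m = 1) := by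
      have ht : t ≤ 7 := by nlinarith
      interval_cases t <;> omega
    rcases hcases with ⟨rfl, rfl⟩
    · exact Or.inr (Or.inl ⟨(hc1 rfl).1, D, hD, rfl⟩)
  · have hdvd := field_dvd (by norm_num) hK
    have hcases : r = 7 := by
      have hle : r ≤ 7 := Nat.le_of_dvd (by norm_num) hdvd
      interval_cases r <;> first | omega | (exfalso; revert hr hdvd; norm_num)
    rcases hcases with rfl
    · exact Or.inr (Or.inr (Or.inl ⟨K, hK, rfl⟩))
  · have hcard := card_tensor e
    exfalso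
    have hn1 : n₁ ≤ 7 := by nlinarith
    interval_cases n₁ <;> omega
  · exact Or.inr (Or.inr (Or.inr (Or.inl ⟨F₀, r, P, hr, hc, rfl⟩)))
  · obtain ⟨k, hk⟩ := c6_pow (by norm_num) hR
    have hr' : r = 7 := prime_of_pow_eq (p := 7) (a := 1) hR.symplecticType.prime (by norm_num) (by norm_num) (by rw [← hk]; norm_num)
    subst hr'
    exact Or.inr (Or.inr (Or.inr (Or.inr (Or.inl ⟨c6_seven (by norm_num) hR, R, hR, rfl⟩))))
  · obtain ⟨hm3, ht2', hn9⟩ := wreath_small hm ht (card_wreath e) (by norm_num)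
    omega
  · exact absurd he (by decide)
  · exact Or.inr (Or.inr (Or.inr (Or.inr (Or.inr (Or.inr (Or.inl ⟨σ, f, hf, rfl⟩))))))
  · exact Or.inr (Or.inr (Or.inr (Or.inr (Or.inr (Or.inl ⟨hodd, Q, hQ, rfl⟩)))))

end Cfsg.Agent.S5808
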