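import Cfsg.Statements.S5825
import Cfsg.Agent.Lib.Helper5.TSMax
import Cfsg.Agent.Lib.Helper25.SpinForms
import Cfsg.Agent.Lib.Helper5.NSMax
import Cfsg.Agent.Lib.Helper5.NDGlue
import Cfsg.Agent.Lib.Helper5.NDMinus
import Cfsg.Agent.Lib.Helper10.NDGlue4
import Cfsg.Agent.Lib.Helper29.ND44Main
import Cfsg.Agent.Lib.Helper2.Om8mND2
import Cfsg.Agent.Lib.Helper25.C3O2Main
import Cfsg.Agent.Lib.Helper20.Om7S.MainE

set_option autoImplicit false
open Cfsg

namespace Cfsg.Agent.S5825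

/-- Maximal subgroups of Ω_8^-(q) of geometric type (any q). Let F be a finite field with q elements, Q a non-degenerate quadratic form on F^8 (non-degenerate polar form) of minus type (Witt index 3: no totally singular 4-space), and Ω = Ω_8^-(q) the commutator subgroup of the isometry group of Q, inside GL_8(F). Each of the following, intersected with Ω, is a maximal subgroup of Ω: (1) the stabiliser of any non-zero subspace on which Q vanishes identically (totally singular 1-, 2- and 3-spaces); (2) for q odd, the stabiliser of any proper subspace of odd dimension (1, 3, 5 or 7) on which the polar form of Q is non-degenerate; (3) the stabiliser of any non-degenerate 2-space of minus type (containing no non-zero singular vector); (4) for q ≥ 4, the stabiliser of any non-degenerate 2-space of plus type (containing a non-zero singular vector); (5) the stabiliser of any non-degenerate 4-space (its orthogonal complement is then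 a non-degenerate 4-space of the opposite type); (6) for q even, the stabiliser of the 1-space spanned by any non-singular vector v (Q(v) ≠ 0); (7) for q odd, the normaliser of any degree-2 subfield K of the matrix algebra whose elements are self-adjoint for the polar form of Q (Q is then the trace of a quadratic form over K); (8) every subfield group for a subfield F₀ of odd prime index r in F whose F₀-structure carries a non-zero scalar multiple of Q. -/
theorem result {F : Type*} [Field F] [Fintype F] (Q : (Fin 8 → F) → F) (hQ : Cfsg.Geo.IsNondegenerateQuadraticForm Q) (hminus : ¬ Cfsg.Geo.IsPlusTypeOn Q ⊤) :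
    (∀ W : Submodule F (Fin 8 → F), W ≠ ⊥ → Cfsg.Geo.IsTotallySingularQuad Q W → Cfsg.Geo.IsMaximalIn (Cfsg.Geo.omegaGL Q) (Cfsg.Geo.subspaceStabilizer W ⊓ Cfsg.Geo.omegaGL Q)) ∧
    (Odd (Fintype.card F) → ∀ W : Submodule F (Fin 8 → F), W ≠ ⊥ → W ≠ ⊤ → Odd (Module.finrank F W) → Cfsg.Geo.IsNondegenerateOn (QuadraticMap.polar Q) W → Cfsg.Geo.IsMaximalIn (Cfsg.Geo.omegaGL Q) (Cfsg.Geo.subspaceStabilizer W ⊓ Cfsg.Geo.omegaGL Q)) ∧
    (∀ W : Submodule F (Fin 8 → F), Module.finrank F W = 2 → Cfsg.Geo.IsNondegenerateOn (QuadraticMap.polar Q) W → ¬ Cfsg.Geo.IsPlusTypeOn Q W → Cfsg.Geo.IsMaximalIn (Cfsg.Geo.omegaGL Q) (Cfsg.Geo.subspaceStabilizer W ⊓ Cfsg.Geo.omegaGL Q)) ∧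
    (4 ≤ Fintype.card F → ∀ W : Submodule F (Fin 8 → F), Module.finrank F W = 2 → Cfsg.Geo.IsNondegenerateOn (QuadraticMap.polar Q) W → Cfsg.Geo.IsPlusTypeOn Q W → Cfsg.Geo.IsMaximalIn (Cfsg.Geo.omegaGL Q) (Cfsg.Geo.subspaceStabilizer W ⊓ Cfsg.Geo.omegaGL Q)) ∧
    (∀ W : Submodule F (Fin 8 → F), Module.finrank F W = 4 → Cfsg.Geo.IsNondegenerateOn (QuadraticMap.polar Q) W → Cfsg.Geo.IsMaximalIn (Cfsg.Geo.omegaGL Q) (Cfsg.Geo.subspaceStabilizer W ⊓ Cfsg.Geo.omegaGL Q)) ∧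
    (¬ Odd (Fintype.card F) → ∀ v : (Fin 8 → F), Q v ≠ 0 → Cfsg.Geo.IsMaximalIn (Cfsg.Geo.omegaGL Q) (Cfsg.Geo.subspaceStabilizer (Submodule.span F {v}) ⊓ Cfsg.Geo.omegaGL Q)) ∧
    (Odd (Fintype.card F) → ∀ K : Subalgebra F (Matrix (Fin 8) (Fin 8) F), Cfsg.Geo.IsFieldSubalgebra 2 K → Cfsg.Geo.IsSelfAdjointFor (QuadraticMap.polar Q) K → Cfsg.Geo.IsMaximalIn (Cfsg.Geo.omegaGL Q) (Cfsg.Geo.subalgebraNormalizer K ⊓ Cfsg.Geo.omegaGL Q)) ∧
    (∀ (F₀ : Subfield F) (r : ℕ) (P : Matrix.GeneralLinearGroup (Fin 8) F) (ζ : F), r.Prime → Odd r → Fintype.card F = Nat.card F₀ ^ r → ζ ≠ 0 → Cfsg.Geo.IsQuadFormRationalStructure (fun v : Fin 8 → F => ζ * Q v) F₀ P → Cfsg.Geo.IsMaximalIn (Cfsg.Geo.omegaGL Q) (Cfsg.Geo.subfieldSubgroup F₀ P ⊓ Cfsg.Geo.omegaGL Q)) := by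
  -- conjuncts (7) and (8) are stated for `Q` as a function
  have h7 : Odd (Fintype.card F) → ∀ K : Subalgebra F (Matrix (Fin 8) (Fin 8) F),
      Cfsg.Geo.IsFieldSubalgebra 2 K → Cfsg.Geo.IsSelfAdjointFor (QuadraticMap.polar Q) K →
      Cfsg.Geo.IsMaximalIn (Cfsg.Geo.omegaGL Q) (Cfsg.Geo.subalgebraNormalizer K ⊓ Cfsg.Geo.omegaGL Q) :=
    fun hodd K hK hsa => Cfsg.Agent.Lib.Helper25.C3O2.Asm.c3_max8 Q hQ hminus hodd K hK hsa
  have h8 : ∀ (F₀ : Subfield F) (r : ℕ) (P : Matrix.GeneralLinearGroup (Fin 8) F) (ζ : F), r.Prime →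
      Odd r → Fintype.card F = Nat.card F₀ ^ r → ζ ≠ 0 →
      Cfsg.Geo.IsQuadFormRationalStructure (fun v : Fin 8 → F => ζ * Q v) F₀ P →
      Cfsg.Geo.IsMaximalIn (Cfsg.Geo.omegaGL Q) (Cfsg.Geo.subfieldSubgroup F₀ P ⊓ Cfsg.Geo.omegaGL Q) :=
    fun F₀ r P ζ hr _ hcardF hζ hP =>
      Cfsg.Agent.Lib.Helper20.Om7S.subfield_max_low (by norm_num) Q hQ F₀ r hr hcardF P ζ hζ hP
  obtain ⟨Qf, rfl, hnd⟩ := Cfsg.Agent.Lib.Helper25.Fam.exists_qf hQ
  have hcard : Fintype.card (Fin 8) = 8 := Fintype.card_fin 8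
  refine ⟨?_, ?_, ?_, ?_, ?_, ?_, h7, h8⟩
  · -- (1) totally singular
    intro W hW0 hW
    apply Cfsg.Agent.Lib.Helper5.TSMax.isMaximalIn_ts Qf hnd (by rw [hcard]; omega) hW hW0
    rintro ⟨h1, U, hU, hUfr⟩
    apply hminus
    refine ⟨U, le_top, hU, ?_⟩
    rw [finrank_top, Module.finrank_fintype_fun_eq_card, h1, hUfr]
  · -- (2) odd-dimensional nondegenerate, q odd
    intro hodd W hW0 hW1 hWodd hW
    have h2 : (2 : F) ≠ 0 := Cfsg.Agent.Lib.Helper25.Spin.two_ne_zero_of_odd_card hodd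
    have hWnd := Cfsg.Agent.Lib.Helper5.NDMax.ndOn_of_isNondegenerateOn Qf hW
    have hfr := Cfsg.Agent.Lib.Helper25.MaxTS.finrank_perp hnd W
    rw [Module.finrank_fintype_fun_eq_card, hcard] at hfr
    obtain ⟨j, hj⟩ := hWodd
    apply Cfsg.Agent.Lib.Helper10.NDMax4.isMaximalIn_nd7 Qf hnd (by rw [hcard]; omega) h2 hWnd hW0 hW1
      (by rw [hcard]; omega)
    rintro U hU ⟨-, hU2, -⟩
    rcases hU with hU | hU
    · rw [hU] at hU2
      omega
    · rw [hU] at hU2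
      omega
  · -- (3) minus 2-spaces
    intro W hdim hW hWminus
    apply Cfsg.Agent.Lib.Helper2.Om8m.nd2_max Qf hnd hdim hW
    rintro ⟨-, e, he, he0, hQe⟩
    exact hWminus (Cfsg.Agent.Lib.Helper5.NDMax.plus_of_sing Qf hdim he he0 hQe)
  · -- (4) plus 2-spaces, q ≥ 4
    intro hq W hdim hW _
    apply Cfsg.Agent.Lib.Helper2.Om8m.nd2_max Qf hnd hdim hW
    rintro ⟨hq3, -⟩
    omega
  · -- (5) nondegenerate 4-spaces
    intro W hdim hW
    exact Cfsg.Agent.Lib.Helper29.ND44Main.nd44_max Qf hnd hcard hminus hdim hW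
  · -- (6) nonsingular vectors, q even
    intro _ v hv
    exact Cfsg.Agent.Lib.Helper5.NSMax.isMaximalIn_ns Qf hnd (by rw [hcard]; omega) hv

end Cfsg.Agent.S5825
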