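import Cfsg.Statements.S5858
import Cfsg.Agent.Lib.Helper5.TSMax
import Cfsg.Agent.Lib.Helper25.SpinForms
import Cfsg.Agent.Lib.Helper14.OrthOdd
import Cfsg.Agent.Lib.Helper5.F11.Om11Nd
import Cfsg.Agent.Lib.Helper5.F11.Om11Fr
import Cfsg.Agent.Lib.Helper5.LSubC
import Cfsg.Agent.Lib.Helper11.Om11S.H18_OSubR2
import Cfsg.Agent.Lib.Helper5.F11.S11Main

set_option autoImplicit false
open Cfsg

namespace Cfsg.Agent.S5858

/-- Maximal subgroups of Ω_11(q) of geometric type, q odd. Let F be a finite field of odd order q, Q the standard quadratic form x₀² + Σ x_i y_i on F^11 (coordinates Unit ⊕ (Fin 5 ⊕ Fin 5)), and Ω = Ω_11(q) the commutator subgroup of its isometry group, inside GL_11(F). Each of the following, intersected with Ω, is a maximal subgroup of Ω: (1) the stabiliser of any non-zero subspace on which Q vanishes identically (totally singular 1- to 5-spaces); (2) the stabiliser of any non-zero even-dimensional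 subspace W (dimension 2 to 10) on which the polar form of Q is non-degenerate (equivalently of its odd-dimensional orthogonal complement), except when q = 3 and W is a 2-space containing a non-zero singular vector (a plus-type plane); (3) for q = p prime, the stabiliser of any decomposition of F^11 into eleven pairwise orthogonal, pairwise Q-isometric non-degenerate 1-spaces; (4) every subfield group for a subfield F₀ with |F| = |F₀|^r, r prime, whose F₀-structure carries Q. -/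
theorem result {F : Type*} [Field F] [Fintype F] (hodd : Odd (Fintype.card F)) :
    (∀ W : Submodule F (Unit ⊕ (Fin 5 ⊕ Fin 5) → F), W ≠ ⊥ → Cfsg.Geo.IsTotallySingularQuad (Cfsg.quadFormOdd 5 F) W → Cfsg.Geo.IsMaximalIn (Cfsg.Geo.omegaGL (Cfsg.quadFormOdd 5 F)) (Cfsg.Geo.subspaceStabilizer W ⊓ Cfsg.Geo.omegaGL (Cfsg.quadFormOdd 5 F))) ∧
    (∀ W : Submodule F (Unit ⊕ (Fin 5 ⊕ Fin 5) → F), W ≠ ⊥ → Even (Module.finrank F W) → Cfsg.Geo.IsNondegenerateOn (QuadraticMap.polar (Cfsg.quadFormOdd 5 F)) W → ¬ (Fintype.card F = 3 ∧ Module.finrank F W = 2 ∧ Cfsg.Geo.IsPlusTypeOn (Cfsg.quadFormOdd 5 F) W) → Cfsg.Geo.IsMaximalIn (Cfsg.Geo.omegaGL (Cfsg.quadFormOdd 5 F)) (Cfsg.Geo.subspaceStabilizer W ⊓ Cfsg.Geo.omegaGL (Cfsg.quadFormOdd 5 F))) ∧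
    ((Fintype.card F).Prime → ∀ D : Fin 11 → Submodule F (Unit ⊕ (Fin 5 ⊕ Fin 5) → F), Cfsg.Geo.IsOrthogonalMDecomposition (Cfsg.quadFormOdd 5 F) 1 D → Cfsg.Geo.IsMaximalIn (Cfsg.Geo.omegaGL (Cfsg.quadFormOdd 5 F)) (Cfsg.Geo.decompositionStabilizer D ⊓ Cfsg.Geo.omegaGL (Cfsg.quadFormOdd 5 F))) ∧
    (∀ (F₀ : Subfield F) (r : ℕ) (P : Matrix.GeneralLinearGroup (Unit ⊕ (Fin 5 ⊕ Fin 5)) F), r.Prime → Fintype.card F = Nat.card F₀ ^ r → Cfsg.Geo.IsQuadFormRationalStructure (Cfsg.quadFormOdd 5 F) F₀ P → Cfsg.Geo.IsMaximalIn (Cfsg.Geo.omegaGL (Cfsg.quadFormOdd 5 F)) (Cfsg.Geo.subfieldSubgroup F₀ P ⊓ Cfsg.Geo.omegaGL (Cfsg.quadFormOdd 5 F))) := by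
  have h2 : (2 : F) ≠ 0 := Cfsg.Agent.Lib.Helper25.Spin.two_ne_zero_of_odd_card hodd
  have hι : Fintype.card (Unit ⊕ (Fin 5 ⊕ Fin 5)) = 11 := by
    simp only [Fintype.card_sum, Fintype.card_fin, Fintype.card_unit]
  refine ⟨?_, ?_, ?_, ?_⟩
  · -- totally singular subspaces
    intro W hW0 hW
    have h := Cfsg.Agent.Lib.Helper5.TSMax.isMaximalIn_ts
      (Cfsg.Agent.Lib.Helper25.Spin.qfOf (Cfsg.Agent.Lib.Helper14.isQF_odd (m := 5) h2))
      (Cfsg.Agent.Lib.Helper25.Spin.qfOf_nondeg _) (by rw [hι]; norm_num) (W := W) hW hW0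
      (by
        rintro ⟨h1, -⟩
        rw [hι] at h1
        omega)
    exact h
  · -- nondegenerate subspaces
    intro W hW0 hev hW hex
    obtain ⟨Qf, hQfe, hnd⟩ : ∃ Qf : QuadraticForm F (Unit ⊕ (Fin 5 ⊕ Fin 5) → F),
        ⇑Qf = Cfsg.quadFormOdd 5 F ∧ (QuadraticMap.polarBilin Qf).Nondegenerate :=
      ⟨Cfsg.Agent.Lib.Helper25.Spin.qfOf (Cfsg.Agent.Lib.Helper14.isQF_odd (m := 5) h2), rfl,
        Cfsg.Agent.Lib.Helper25.Spin.qfOf_nondeg _⟩
    rw [← hQfe] at hW hex ⊢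
    have hWnd := Cfsg.Agent.Lib.Helper5.NDMax.ndOn_of_isNondegenerateOn Qf hW
    have hfr := Cfsg.Agent.Lib.Helper25.MaxTS.finrank_perp hnd W
    rw [Module.finrank_fintype_fun_eq_card, hι] at hfr
    have hle : Module.finrank F W ≤ 11 := by
      have h := Submodule.finrank_le W
      rwa [Module.finrank_fintype_fun_eq_card, hι] at h
    obtain ⟨r, hr⟩ := hev
    have hW1 : W ≠ ⊤ := by
      intro h
      rw [h, finrank_top, Module.finrank_fintype_fun_eq_card, hι] at hr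
      omega
    apply Cfsg.Agent.Lib.Helper5.F11.Nd.isMaximalIn_nd11 Qf hnd (by rw [hι]) hWnd hW0 hW1
      (by rw [hι]; omega)
    rintro U hU ⟨hq, hU2, e, heU, he0, hQe⟩
    rcases hU with hU | hU
    · apply hex
      rw [hU] at hU2 heU
      refine ⟨?_, hU2, Cfsg.Agent.Lib.Helper5.NDMax.plus_of_sing Qf hU2 heU he0 hQe⟩
      have h1 := Fintype.one_lt_card (α := F)
      obtain ⟨s, hs⟩ := hodd
      omega
    · rw [hU] at hU2
      omega
  · -- frames
    intro hprime D hD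
    exact Cfsg.Agent.Lib.Helper5.F11.Fr.frame_odd11 hodd hprime D hD
  · -- subfields
    intro F₀ r P hr hcard hP
    have hfr : Module.finrank F₀ F = r := Cfsg.Agent.Lib.Helper5.LSub.finrank_eq_of_card F₀ hcard
    have hp : (Module.finrank F₀ F).Prime := by rw [hfr]; exact hr
    obtain ⟨Qf, hQf⟩ : ∃ Qf : QuadraticForm F (Unit ⊕ (Fin 5 ⊕ Fin 5) → F), Qf =
      Cfsg.Agent.Lib.Helper25.Spin.qfOf (Cfsg.Agent.Lib.Helper14.isQF_odd (m := 5) h2) := ⟨_, rfl⟩
    have hnd : (QuadraticMap.polarBilin Qf).Nondegenerate := by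
      rw [hQf]; exact Cfsg.Agent.Lib.Helper25.Spin.qfOf_nondeg _
    have hctx : Cfsg.Agent.Lib.Helper11.Om11S.Cfsg.Agent.Lib.Helper19.OSub.QCtx F₀ (Qf.comp (Matrix.toLin'
        (P : Matrix (Unit ⊕ (Fin 5 ⊕ Fin 5)) (Unit ⊕ (Fin 5 ⊕ Fin 5)) F))) := by
      refine ⟨Cfsg.Agent.Lib.Helper11.Om11S.Cfsg.Agent.Lib.Helper18.OSubLeaf.comp_nondeg Qf P hnd,
        by rw [hι], ?_⟩
      intro x hx
      rw [QuadraticMap.comp_apply, Matrix.toLin'_apply, hQf]
      exact hP x hx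
    have := Cfsg.Agent.Lib.Helper11.Om11S.Cfsg.Agent.Lib.Helper18.OSubLeaf.maximal_transfer Qf F₀ P
      (Cfsg.Agent.Lib.Helper5.F11.S11.maximal_std11 hctx h2 hp hι)
    rw [hQf] at this
    exact this

end Cfsg.Agent.S5858
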