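import Cfsg.Statements.S5877
-- import your own Cfsg.Agent.* helpers here
import Cfsg.Agent.Lib.Helper22.ExtraEigGL

set_option autoImplicit false
open Cfsg

namespace Cfsg.Agent.S5877

/-- Eigenspaces of elements normalising an absolutely irreducible extraspecial group. Let F be a finite field, r a prime, and R ≤ GL_n(F) an absolutely irreducible extraspecial r-group (an r-group whose centre equals its derived subgroup and has order r) of exponent r or 4. Let g ∈ GL_n(F) normalise the product of R with the scalar matrices, have prime order ϖ and not be scalar, and let W be the eigenspace of g for any c ∈ F (W may be the zero subspace). Then dim W ≤ 3n/4 if ϖ = 2, dim W ≤ 2n/3 if ϖ = 3, and dim W ≤ n/2 if ϖ > 3; moreover if ϖ = 3 and 3 does not divide n then dim W ≤ n/2. -/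
theorem result {F : Type*} [Field F] [Fintype F] {n r ϖ : ℕ} (R : Subgroup (Matrix.GeneralLinearGroup (Fin n) F)) (hr : r.Prime) (hR : IsPGroup r R) (hZ : Nat.card (Subgroup.center R) = r) (hext : commutator R = Subgroup.center R) (hexp : Monoid.exponent R = r ∨ Monoid.exponent R = 4) (hirr : Cfsg.Geo.ActsAbsolutelyIrreducibly (Cfsg.Geo.matrixSet R)) (g : Matrix.GeneralLinearGroup (Fin n) F) (hg : g ∈ Cfsg.Geo.subgroupNormalizer (R ⊔ Cfsg.Geo.scalars (Fin n) F)) (hϖ : ϖ.Prime) (hord : orderOf g = ϖ) (hns : g ∉ Cfsg.Geo.scalars (Fin n) F) (c : F) :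
    (ϖ = 2 → 4 * Module.finrank F (Module.End.eigenspace (Matrix.toLin' (g : Matrix (Fin n) (Fin n) F)) c) ≤ 3 * n) ∧
    (ϖ = 3 → 3 * Module.finrank F (Module.End.eigenspace (Matrix.toLin' (g : Matrix (Fin n) (Fin n) F)) c) ≤ 2 * n) ∧
    (3 < ϖ → 2 * Module.finrank F (Module.End.eigenspace (Matrix.toLin' (g : Matrix (Fin n) (Fin n) F)) c) ≤ n) ∧
    (ϖ = 3 → ¬ 3 ∣ n → 2 * Module.finrank F (Module.End.eigenspace (Matrix.toLin' (g : Matrix (Fin n) (Fin n) F)) c) ≤ n) := by
  classical
  rcases Nat.eq_zero_or_pos n with hn0 | hn0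
  · subst hn0
    have h0 : Module.finrank F (Module.End.eigenspace
        (Matrix.toLin' (g : Matrix (Fin 0) (Fin 0) F)) c) = 0 := by
      have h1 := Submodule.finrank_le (Module.End.eigenspace
        (Matrix.toLin' (g : Matrix (Fin 0) (Fin 0) F)) c)
      have h2 : Module.finrank F (Fin 0 → F) = 0 := by simp
      omega
    rw [h0]
    simp
  have hne : NeZero n := ⟨hn0.ne'⟩
  have hS := Cfsg.Agent.Lib.Helper22.ExtraEig.Setup.of_hyps R hr hZ hext hirr
  have hgQ : ∀ q ∈ R ⊔ Cfsg.Geo.scalars (Fin n) F,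
      g * q * g⁻¹ ∈ R ⊔ Cfsg.Geo.scalars (Fin n) F :=
    fun q hq => (Subgroup.mem_normalizer_iff.mp hg q).mp hq
  have hgQ' : ∀ q ∈ R ⊔ Cfsg.Geo.scalars (Fin n) F,
      g⁻¹ * q * g ∈ R ⊔ Cfsg.Geo.scalars (Fin n) F := by
    intro q hq
    have hg' : g⁻¹ ∈ Cfsg.Geo.subgroupNormalizer (R ⊔ Cfsg.Geo.scalars (Fin n) F) := inv_mem hg
    have := (Subgroup.mem_normalizer_iff.mp hg' q).mp hq
    rwa [inv_inv] at this
  have hgϖ : g ^ ϖ = 1 := by
    rw [← hord]
    exact pow_orderOf_eq_one g
  have hLg : Matrix.toLin' (g : Matrix (Fin n) (Fin n) F) = Cfsg.Agent.Lib.Helper22.ExtraEig.L g := rfl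
  rw [hLg]
  have hI := hS.general_bound g hgQ hns c
  have hII : Odd ϖ → ϖ ≠ r →
      2 * Module.finrank F (Module.End.eigenspace (Cfsg.Agent.Lib.Helper22.ExtraEig.L g) c) ≤ n := by
    intro hodd hne'
    exact hS.coprime_bound g ϖ hgQ hgQ' hns hgϖ hodd ((Nat.coprime_primes hϖ hr).mpr hne') c
  have hr2 := hr.two_le
  refine ⟨?_, ?_, ?_, ?_⟩
  · intro _
    nlinarith
  · intro h3
    by_cases hr3 : r = 3
    · subst hr3
      omega
    · have := hII (by rw [h3]; decide) (by omega)
      omega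
  · intro h3lt
    by_cases hrϖ : ϖ = r
    · have hr2' : r ≠ 2 := by omega
      have hpow := Cfsg.Agent.Lib.Helper22.ExtraEig.pow_eq_one_of_exponent hr hr2' hR hexp
      have := hS.eq_prime_bound hR hZ hpow g hgQ hgQ' hns (hrϖ ▸ hgϖ) c
      have h4 : 4 ≤ r := by omega
      nlinarith
    · have hodd : Odd ϖ := hϖ.odd_of_ne_two (by omega)
      exact hII hodd hrϖ
  · intro h3 hn3
    have hr3 : r ≠ 3 := by
      rintro rfl
      apply hn3
      have hpow := Cfsg.Agent.Lib.Helper22.ExtraEig.pow_eq_one_of_exponent hr (by norm_num) hR hexp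
      apply hS.dvd_dim hpow
      by_contra hcon
      push Not at hcon
      have hbot : commutator R = ⊥ := by
        rw [commutator_def, Subgroup.commutator_eq_bot_iff_le_centralizer]
        intro x _
        rw [Subgroup.mem_centralizer_iff]
        intro y _
        apply Subtype.ext
        have := Subgroup.mem_center_iff.mp (Cfsg.Agent.Lib.Helper22.ExtraEig.scalars_le_center (hcon x x.2))
        simpa using this y
      rw [hbot] at hext
      rw [← hext, Subgroup.card_bot] at hZ
      omega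
    exact hII (by rw [h3]; decide) (by omega)

end Cfsg.Agent.S5877
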