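import Cfsg.Statements.S5885
-- import your own Cfsg.Agent.* helpers here

set_option autoImplicit false
open Cfsg
open scoped Pointwise

namespace Cfsg.Agent.S5885

variable {G : Type*} [Group G]

theorem preprimitive_quotient [Finite G] (M : Subgroup G) (hM : IsCoatom M) :
    MulAction.IsPreprimitive G (G ⧸ M) := by
  have hnt : Nontrivial (G ⧸ M) := by
    rw [← Finite.one_lt_card_iff_nontrivial]
    have h1 : M.index ≠ 1 := fun h => hM.1 (Subgroup.index_eq_one.mp h)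
    have h0 : M.index ≠ 0 := Subgroup.index_ne_zero_of_finite
    have : Nat.card (G ⧸ M) = M.index := rfl
    omega
  rw [← MulAction.isCoatom_stabilizer_iff_preprimitive (G := G) ((1 : G) : G ⧸ M),
    MulAction.stabilizer_quotient]
  exact hM

theorem alt_le_range [Finite G] (n : ℕ)
    (hA : ∀ P : Subgroup (Equiv.Perm (Fin n)), MulAction.IsPreprimitive P (Fin n) →
      alternatingGroup (Fin n) ≤ P)
    (M : Subgroup G) (hM : IsCoatom M) (hn : M.index = n)
    [Fintype (G ⧸ M)] [DecidableEq (G ⧸ M)] :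
    alternatingGroup (G ⧸ M) ≤ (MulAction.toPermHom G (G ⧸ M)).range := by
  have hprim := preprimitive_quotient M hM
  have hcard : Nat.card (G ⧸ M) = n := hn
  let e : (G ⧸ M) ≃ Fin n := Finite.equivFinOfCardEq hcard
  let ψ : G →* Equiv.Perm (Fin n) := e.permCongrHom.toMonoidHom.comp (MulAction.toPermHom G (G ⧸ M))
  let σ : G → ψ.range := fun g => ⟨ψ g, g, rfl⟩
  let f : (G ⧸ M) →ₑ[σ] Fin n :=
    { toFun := e
      map_smul' := by
        intro g ω
        change e (g • ω) = (ψ g) (e ω)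
        simp [ψ] }
  have hP : MulAction.IsPreprimitive ψ.range (Fin n) :=
    MulAction.IsPreprimitive.of_surjective (f := f) e.surjective
  have hle := hA ψ.range hP
  intro c hc
  have hc' : e.permCongrHom c ∈ alternatingGroup (Fin n) := by
    rw [Equiv.Perm.mem_alternatingGroup] at hc ⊢
    rw [Equiv.permCongrHom_coe, Equiv.Perm.sign_permCongr]
    exact hc
  obtain ⟨g, hg⟩ := hle hc'
  refine ⟨g, ?_⟩
  apply e.permCongrHom.injective
  exact hg

/-- lifting 3-cycles -/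
theorem lift3 [Finite G] (n : ℕ)
    (hA : ∀ P : Subgroup (Equiv.Perm (Fin n)), MulAction.IsPreprimitive P (Fin n) →
      alternatingGroup (Fin n) ≤ P)
    (M : Subgroup G) (hM : IsCoatom M) (hn : M.index = n)
    {a b c : G ⧸ M} (hab : a ≠ b) (hbc : b ≠ c) (hac : a ≠ c) :
    ∃ g : G, g • a = b ∧ g • b = c ∧ g • c = a ∧ ∀ ω, ω ≠ a → ω ≠ b → ω ≠ c → g • ω = ω := by
  classical
  have : Fintype (G ⧸ M) := Fintype.ofFinite _
  have hmem : Equiv.swap a b * Equiv.swap b c ∈ alternatingGroup (G ⧸ M) := by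
    rw [Equiv.Perm.mem_alternatingGroup, map_mul, Equiv.Perm.sign_swap hab, Equiv.Perm.sign_swap hbc]
    rfl
  obtain ⟨g, hg⟩ := alt_le_range n hA M hM hn hmem
  have hg' : ∀ ω, g • ω = (Equiv.swap a b * Equiv.swap b c) ω := by
    intro ω
    rw [← hg]; rfl
  refine ⟨g, ?_, ?_, ?_, ?_⟩
  · rw [hg', Equiv.Perm.mul_apply, Equiv.swap_apply_of_ne_of_ne hab hac, Equiv.swap_apply_left]
  · rw [hg', Equiv.Perm.mul_apply, Equiv.swap_apply_left,
      Equiv.swap_apply_of_ne_of_ne hac.symm hbc.symm]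
  · rw [hg', Equiv.Perm.mul_apply, Equiv.swap_apply_right, Equiv.swap_apply_right]
  · intro ω h1 h2 h3
    rw [hg', Equiv.Perm.mul_apply, Equiv.swap_apply_of_ne_of_ne h2 h3,
      Equiv.swap_apply_of_ne_of_ne h1 h2]


theorem coatom_subgroupOf_iff {H K : Subgroup G} (hHK : H ≤ K) :
    IsCoatom (H.subgroupOf K) ↔ H ≠ K ∧ ∀ L : Subgroup G, H < L → L ≤ K → L = K := by
  constructor
  · intro hco
    refine ⟨fun h => hco.1 (by rw [h]; exact Subgroup.subgroupOf_self K), ?_⟩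
    intro L hHL hLK
    obtain ⟨x, hxL, hxH⟩ := SetLike.exists_of_lt hHL
    have hlt : H.subgroupOf K < L.subgroupOf K := by
      refine lt_of_le_of_ne (fun y hy => hHL.le hy) ?_
      intro heq
      have : (⟨x, hLK hxL⟩ : K) ∈ L.subgroupOf K := hxL
      rw [← heq] at this
      exact hxH this
    have := hco.2 _ hlt
    rw [Subgroup.subgroupOf_eq_top] at this
    exact le_antisymm hLK this
  · rintro ⟨hne, h⟩
    constructor
    · intro htop
      rw [Subgroup.subgroupOf_eq_top] at htop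
      exact hne (le_antisymm hHK htop)
    · intro L' hL'
      obtain ⟨y, hyL, hyH⟩ := SetLike.exists_of_lt hL'
      have hHL : H < L'.map K.subtype := by
        refine lt_of_le_of_ne ?_ ?_
        · intro x hx
          have hx' : (⟨x, hHK hx⟩ : K) ∈ H.subgroupOf K := hx
          exact ⟨⟨x, hHK hx⟩, hL'.le hx', rfl⟩
        · intro heq
          apply hyH
          change (y : G) ∈ H
          rw [heq]
          exact ⟨y, hyL, rfl⟩
      have := h _ hHL (Subgroup.map_subtype_le L')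
      rw [eq_top_iff]
      intro z _
      have hz : (z : G) ∈ L'.map K.subtype := by rw [this]; exact z.2
      obtain ⟨w, hw, hwz⟩ := hz
      have : w = z := Subtype.ext hwz
      rw [← this]; exact hw


/-- Let n be an odd positive integer such that every primitive permutation group of degree n contains the alternating group (so the symmetric and alternating groups are the only primitive groups of degree n). Let G be a finite group, M a maximal subgroup of G of index n, and H a maximal subgroup of M. Then H is a second maximal subgroup of G: H is maximal in every maximal subgroup K of G containing H. -/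
theorem result {G : Type*} [Group G]
    [Finite G] (n : ℕ) (hodd : Odd n)
    (hA : ∀ P : Subgroup (Equiv.Perm (Fin n)), MulAction.IsPreprimitive P (Fin n) → alternatingGroup (Fin n) ≤ P)
    (M : Subgroup G) (hM : IsCoatom M) (hn : M.index = n) (H : Subgroup G) (hHM : H ≤ M)
    (hmax : IsCoatom (H.subgroupOf M)) (K : Subgroup G) (hK : IsCoatom K) (hHK : H ≤ K) :
    IsCoatom (H.subgroupOf K) := by
  classical
  rw [coatom_subgroupOf_iff hHK]
  obtain ⟨hHM_ne, hmaxM⟩ := (coatom_subgroupOf_iff hHM).mp hmax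
  by_cases hKM : K = M
  · subst hKM; exact ⟨hHM_ne, hmaxM⟩
  have hMK : ¬ M ≤ K := by
    intro h
    rcases eq_or_lt_of_le h with h | h
    · exact hKM h.symm
    · exact hK.1 (hM.2 K h)
  have hKMH : K ⊓ M = H := by
    by_contra hne
    have hlt : H < K ⊓ M := lt_of_le_of_ne (le_inf hHK hHM) (Ne.symm hne)
    have := hmaxM _ hlt inf_le_right
    exact hMK (this ▸ inf_le_left)
  refine ⟨?_, ?_⟩
  · intro h
    have hKleM : K ≤ M := h ▸ hHM
    rcases eq_or_lt_of_le hKleM with h' | h'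
    · exact hKM h'
    · exact hM.1 (hK.2 M h')
  intro L hHL hLK
  by_contra hLK_ne
  have maxH : ∀ S : Subgroup G, H ≤ S → S ≤ M → S ≠ M → S = H := by
    intro S h1 h2 h3
    by_contra h4
    exact h3 (hmaxM S (lt_of_le_of_ne h1 (Ne.symm h4)) h2)
  set α : G ⧸ M := ((1 : G) : G ⧸ M) with hα
  have hstab : ∀ g : G, g • α = α ↔ g ∈ M := by
    intro g
    rw [← MulAction.mem_stabilizer_iff, MulAction.stabilizer_quotient]
  have hcardΩ : Nat.card (G ⧸ M) = n := hn
  set Δ : Set (G ⧸ M) := {ω | ∃ l ∈ L, l • α = ω} with hΔ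
  set Γ : Set (G ⧸ M) := {ω | ∃ k ∈ K, k • α = ω} with hΓdef
  have F2K : ∀ k ∈ K, k • α = α → k ∈ H := by
    intro k hk hkα
    rw [← hKMH]
    exact ⟨hk, (hstab k).mp hkα⟩
  have F3 : ∀ l ∈ L, ∀ δ ∈ Δ, l • δ ∈ Δ := by
    rintro l hl _ ⟨l', hl', rfl⟩
    exact ⟨l * l', mul_mem hl hl', mul_smul _ _ _⟩
  have F5 : ∀ k ∈ K, ∀ γ ∈ Γ, k • γ ∈ Γ := by
    rintro l hl _ ⟨l', hl', rfl⟩
    exact ⟨l * l', mul_mem hl hl', mul_smul _ _ _⟩
  have F4 : ∀ k ∈ K, ∀ δ ∈ Δ, k • δ ∈ Δ → k ∈ L := by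
    rintro k hk _ ⟨l₁, hl₁, rfl⟩ ⟨l₂, hl₂, h⟩
    have h1 : (l₂⁻¹ * k * l₁) • α = α := by
      rw [mul_smul, mul_smul, ← h, inv_smul_smul]
    have hmem : l₂⁻¹ * k * l₁ ∈ H :=
      F2K _ (mul_mem (mul_mem (inv_mem (hLK hl₂)) hk) (hLK hl₁)) h1
    have : k = l₂ * (l₂⁻¹ * k * l₁) * l₁⁻¹ := by group
    rw [this]
    exact L.mul_mem (L.mul_mem hl₂ (hHL.le hmem)) (L.inv_mem hl₁)
  obtain ⟨l, hlL, hlH⟩ := SetLike.exists_of_lt hHL
  set β : G ⧸ M := l • α with hβ
  have hβα : β ≠ α := fun h => hlH (F2K l (hLK hlL) h)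
  have hβΔ : β ∈ Δ := ⟨l, hlL, rfl⟩
  have hαΔ : α ∈ Δ := ⟨1, one_mem _, one_smul _ _⟩
  obtain ⟨k, hkK, hkL⟩ : ∃ k ∈ K, k ∉ L := by
    by_contra hcon
    push Not at hcon
    exact hLK_ne (le_antisymm hLK hcon)
  set x : G ⧸ M := k • α with hx
  set y : G ⧸ M := k • β with hy
  have hxΔ : x ∉ Δ := fun h => hkL (F4 k hkK α hαΔ h)
  have hyΔ : y ∉ Δ := fun h => hkL (F4 k hkK β hβΔ h)
  have hxy : x ≠ y := fun h => hβα (MulAction.injective k h).symm
  have hΔΓ : Δ ⊆ Γ := by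
    rintro _ ⟨l', hl', rfl⟩
    exact ⟨l', hLK hl', rfl⟩
  have hxΓ : x ∈ Γ := ⟨k, hkK, rfl⟩
  have hyΓ : y ∈ Γ := F5 k hkK β (hΔΓ hβΔ)
  have hαx : α ≠ x := fun h => hxΔ (h ▸ hαΔ)
  have hαy : α ≠ y := fun h => hyΔ (h ▸ hαΔ)
  have hβx : β ≠ x := fun h => hxΔ (h ▸ hβΔ)
  have hβy : β ≠ y := fun h => hyΔ (h ▸ hβΔ)
  by_cases hΓ : Γ = Set.univ
  · -- transitive case
    have htrans : MulAction.IsPretransitive K (G ⧸ M) := by
      rw [MulAction.isPretransitive_iff_base α]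
      intro ω
      have : ω ∈ Γ := hΓ ▸ Set.mem_univ ω
      obtain ⟨k', hk', rfl⟩ := this
      exact ⟨⟨k', hk'⟩, rfl⟩
    have hLΔ : ∀ l' ∈ L, l' • Δ = Δ := by
      intro l' hl'
      apply Set.Subset.antisymm
      · rintro _ ⟨δ, hδ, rfl⟩
        exact F3 l' hl' δ hδ
      · intro δ hδ
        exact ⟨l'⁻¹ • δ, F3 _ (inv_mem hl') δ hδ, smul_inv_smul _ _⟩
    have hblock : MulAction.IsBlock K Δ := by
      rw [MulAction.isBlock_iff_smul_eq_or_disjoint]
      rintro ⟨k', hk'⟩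
      by_cases hk'L : k' ∈ L
      · left
        exact hLΔ k' hk'L
      · right
        rw [Set.disjoint_left]
        rintro _ ⟨δ, hδ, rfl⟩ h'
        exact hk'L (F4 k' hk' δ hδ h')
    have h2a : 2 * Δ.ncard < n := by
      have h1 : ¬ (Nat.card (G ⧸ M) < Δ.ncard * 2) := by
        intro h
        have := hblock.eq_univ_of_card_lt h
        exact hxΔ (this ▸ Set.mem_univ x)
      rw [hcardΩ] at h1
      obtain ⟨m, hm⟩ := hodd
      omega
    have : ∃ z, z ∉ Δ ∧ z ∉ k • Δ := by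
      by_contra hcon
      push Not at hcon
      have huniv : Δ ∪ k • Δ = Set.univ := by
        ext z
        simp only [Set.mem_union, Set.mem_univ, iff_true]
        by_cases hz : z ∈ Δ
        · exact Or.inl hz
        · exact Or.inr (hcon z hz)
      have h1 := Set.ncard_union_le Δ (k • Δ)
      rw [huniv, Set.ncard_univ, Set.ncard_smul_set, hcardΩ] at h1
      omega
    obtain ⟨z, hzΔ, hzk⟩ := this
    have hxk : x ∈ k • Δ := Set.smul_mem_smul_set hαΔ
    have hyk : y ∈ k • Δ := Set.smul_mem_smul_set hβΔ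
    have hyz : y ≠ z := fun h => hzk (h ▸ hyk)
    have hxz : x ≠ z := fun h => hzk (h ▸ hxk)
    obtain ⟨g, h1, h2, h3, h4⟩ := lift3 n hA M hM hn hxy hyz hxz
    have hfix : ∀ δ ∈ Δ, g • δ = δ := fun δ hδ =>
      h4 δ (fun h => hxΔ (h ▸ hδ)) (fun h => hyΔ (h ▸ hδ)) (fun h => hzΔ (h ▸ hδ))
    have hgM : g ∈ M := (hstab g).mp (hfix α hαΔ)
    have hgΔ : g ∈ MulAction.stabilizer G Δ :=
      (MulAction.mem_stabilizer_set' Δ.toFinite).mpr (fun δ hδ => by rw [hfix δ hδ]; exact hδ)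
    have hH_S : H ≤ M ⊓ MulAction.stabilizer G Δ := fun h hh =>
      ⟨hHM hh, (MulAction.mem_stabilizer_set' Δ.toFinite).mpr (fun δ hδ => F3 h (hHL.le hh) δ hδ)⟩
    have hS_ne : M ⊓ MulAction.stabilizer G Δ ≠ M := by
      intro heq
      obtain ⟨g', e1, e2, e3, e4⟩ := lift3 n hA M hM hn hβx hxy hβy
      have hg'M : g' ∈ M := (hstab g').mp (e4 α hβα.symm hαx hαy)
      rw [← heq] at hg'M
      have := (MulAction.mem_stabilizer_set' Δ.toFinite).mp hg'M.2 hβΔ
      rw [e1] at this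
      exact hxΔ this
    have hS := maxH _ hH_S inf_le_left hS_ne
    have hgH : g ∈ H := by rw [← hS]; exact ⟨hgM, hgΔ⟩
    have hgK : g ∈ K := hHK hgH
    have hk'K : k⁻¹ * g * k ∈ K := mul_mem (mul_mem (inv_mem hkK) hgK) hkK
    have e1 : (k⁻¹ * g * k) • α = β := by
      rw [mul_smul, mul_smul]
      change k⁻¹ • g • x = β
      rw [h1]
      exact inv_smul_smul k β
    have hk'L : k⁻¹ * g * k ∈ L := F4 _ hk'K α hαΔ (e1 ▸ hβΔ)
    have e2 : (k⁻¹ * g * k) • β = k⁻¹ • z := by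
      rw [mul_smul, mul_smul]
      change k⁻¹ • g • y = _
      rw [h2]
    have := F3 _ hk'L β hβΔ
    rw [e2] at this
    exact hzk ⟨k⁻¹ • z, this, smul_inv_smul k z⟩
  · -- intransitive case
    obtain ⟨ω, hω⟩ := (Set.ne_univ_iff_exists_notMem Γ).mp hΓ
    have hαΓ : α ∈ Γ := hΔΓ hαΔ
    have hβΓ : β ∈ Γ := hΔΓ hβΔ
    have hαω : α ≠ ω := fun h => hω (h ▸ hαΓ)
    have hβω : β ≠ ω := fun h => hω (h ▸ hβΓ)
    have hωx : ω ≠ x := fun h => hω (h ▸ hxΓ)
    have hH_S : H ≤ M ⊓ MulAction.stabilizer G Γ := fun h hh =>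
      ⟨hHM hh, (MulAction.mem_stabilizer_set' Γ.toFinite).mpr (fun γ hγ => F5 h (hHK hh) γ hγ)⟩
    have hS_ne : M ⊓ MulAction.stabilizer G Γ ≠ M := by
      intro heq
      obtain ⟨g', e1, e2, e3, e4⟩ := lift3 n hA M hM hn hβω hωx hβx
      have hg'M : g' ∈ M := (hstab g').mp (e4 α hβα.symm hαω hαx)
      rw [← heq] at hg'M
      have := (MulAction.mem_stabilizer_set' Γ.toFinite).mp hg'M.2 hβΓ
      rw [e1] at this
      exact hω this
    have hS := maxH _ hH_S inf_le_left hS_ne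
    obtain ⟨g, h1, h2, h3, h4⟩ := lift3 n hA M hM hn hβx hxy hβy
    have hgM : g ∈ M := (hstab g).mp (h4 α hβα.symm hαx hαy)
    have hgΓ : g ∈ MulAction.stabilizer G Γ := by
      rw [MulAction.mem_stabilizer_set' Γ.toFinite]
      intro γ hγ
      by_cases c1 : γ = β
      · rw [c1, h1]; exact hxΓ
      by_cases c2 : γ = x
      · rw [c2, h2]; exact hyΓ
      by_cases c3 : γ = y
      · rw [c3, h3]; exact hβΓ
      rw [h4 γ c1 c2 c3]; exact hγ
    have hgH : g ∈ H := by rw [← hS]; exact ⟨hgM, hgΓ⟩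
    have := F3 g (hHL.le hgH) β hβΔ
    rw [h1] at this
    exact hxΔ this

end Cfsg.Agent.S5885
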