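import Cfsg.Statements.S5904
-- import your own Cfsg.Agent.* helpers here

set_option autoImplicit false
open scoped Pointwise
open Cfsg

namespace Cfsg.Agent.S5904


/-- The stabiliser of the partition `{O, Oᶜ}` as a subgroup of the symmetric group. -/
def partStab {Ω : Type*} (O : Set Ω) : Subgroup (Equiv.Perm Ω) where
  carrier := {g | g • O = O ∨ g • O = Oᶜ}
  one_mem' := Or.inl (one_smul _ _)
  mul_mem' := by
    rintro g h hg hh
    rw [Set.mem_ofPred_eq, mul_smul]
    rcases hh with hh | hh
    · rw [hh]; exact hg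
    · rw [hh, Set.smul_set_compl]
      rcases hg with hg | hg
      · rw [hg]; exact Or.inr rfl
      · rw [hg, compl_compl]; exact Or.inl rfl
  inv_mem' := by
    rintro g hg
    rw [Set.mem_ofPred_eq]
    rcases hg with hg | hg
    · left
      rw [inv_smul_eq_iff, hg]
    · right
      rw [inv_smul_eq_iff, Set.smul_set_compl, hg, compl_compl]

/-- General form: the stabiliser of a half-size subset lies strictly below a proper subgroup. -/
theorem exists_between {Ω : Type*} [Fintype Ω] [DecidableEq Ω] (hΩ : 2 < Fintype.card Ω)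
    (O : Set Ω) (hO : Nat.card O = Nat.card ↥Oᶜ) :
    ∃ K : Subgroup (Equiv.Perm Ω), MulAction.stabilizer (Equiv.Perm Ω) O < K ∧ K ≠ ⊤ := by
  classical
  have hcard : O.ncard + Oᶜ.ncard = Fintype.card Ω := by
    rw [Set.ncard_add_ncard_compl, Nat.card_eq_fintype_card]
  rw [Nat.card_coe_set_eq, Nat.card_coe_set_eq] at hO
  have h2 : 1 < O.ncard := by omega
  have h2' : 0 < Oᶜ.ncard := by omega
  obtain ⟨a, a', ha, ha', haa'⟩ := (Set.one_lt_ncard_iff (Set.toFinite O)).mp h2
  obtain ⟨b, hb⟩ := (Set.ncard_pos (Set.toFinite _)).mp h2'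
  -- a permutation exchanging O and its complement
  have hO' : Fintype.card {x // x ∈ O} = Fintype.card {x // x ∈ Oᶜ} := by
    rw [← Nat.card_eq_fintype_card, ← Nat.card_eq_fintype_card]
    exact (Nat.card_coe_set_eq O).trans (hO.trans (Nat.card_coe_set_eq Oᶜ).symm)
  obtain ⟨e⟩ := Fintype.card_eq.mp hO'
  set σ : Equiv.Perm Ω := e.extendSubtype with hσ
  have hσO : σ • O = Oᶜ := by
    ext y
    constructor
    · rintro ⟨x, hx, rfl⟩
      exact e.extendSubtype_mem x hx
    · intro hy
      refine ⟨σ⁻¹ y, ?_, by simp⟩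
      by_contra hx
      have := e.extendSubtype_not_mem (σ⁻¹ y) hx
      apply this
      rw [← hσ]
      simpa using hy
  refine ⟨partStab O, ?_, ?_⟩
  · refine lt_of_le_of_ne ?_ ?_
    · intro g hg
      exact Or.inl (MulAction.mem_stabilizer_iff.mp hg)
    · intro heq
      have hσK : σ ∈ partStab O := Or.inr hσO
      rw [← heq, MulAction.mem_stabilizer_iff, hσO] at hσK
      have : a ∈ Oᶜ := by rw [hσK]; exact ha
      exact this ha
  · intro htop
    have hs : Equiv.swap a b ∈ partStab O := by rw [htop]; trivial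
    have hbmem : b ∈ Equiv.swap a b • O := ⟨a, ha, by simp⟩
    have ha'mem : a' ∈ Equiv.swap a b • O := by
      refine ⟨a', ha', ?_⟩
      have hne : a' ≠ b := fun h => hb (h ▸ ha')
      simp [Equiv.swap_apply_of_ne_of_ne haa'.symm hne]
    rcases hs with hs | hs
    · rw [hs] at hbmem
      exact hb hbmem
    · rw [hs] at ha'mem
      exact ha'mem ha'

/-- Let Ω be a finite set with more than two elements and O ⊆ Ω a subset with exactly as many elements as its complement. Then the setwise stabilizer of O in the symmetric group on Ω is not a maximal subgroup (it is properly contained in the stabilizer of the partition {O, Ω ∖ O}, which is proper). -/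
theorem result {Ω : Type*} [Fintype Ω] [DecidableEq Ω] (hΩ : 2 < Fintype.card Ω)
    (O : Set Ω) (hO : Nat.card O = Nat.card ↥Oᶜ) :
    ¬ IsCoatom (MulAction.stabilizer (Equiv.Perm Ω) O) := by
  intro hco
  obtain ⟨K, hlt, hne⟩ := exists_between hΩ O hO
  exact hne (hco.2 K hlt)

end Cfsg.Agent.S5904
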