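import Cfsg.Statements.S5894
import Cfsg.Agent.S5904

set_option autoImplicit false
open scoped Pointwise
open Cfsg

namespace Cfsg.Agent.S5894


/-- The general construction, for an arbitrary finite set with `2 * m` elements. -/
theorem general {Ω : Type*} [Fintype Ω] [DecidableEq Ω] (m : ℕ) (hm : 2 ≤ m)
    (hcard : Fintype.card Ω = 2 * m) :
    ∃ M H K : Subgroup (Equiv.Perm Ω), IsCoatom M ∧ M.index = 2 * m ∧ H ≤ M ∧ IsCoatom (H.subgroupOf M) ∧
      IsCoatom K ∧ H ≤ K ∧ ¬ IsCoatom (H.subgroupOf K) := by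
  classical
  have hne : Nonempty Ω := by
    rw [← Fintype.card_pos_iff]; omega
  obtain ⟨a⟩ := hne
  have hnt : Nontrivial Ω := by
    rw [← Fintype.one_lt_card_iff_nontrivial]; omega
  -- an `m`-subset containing `a`
  obtain ⟨Of, haOf, -, hOfc⟩ := Finset.exists_subsuperset_card_eq (s := {a}) (t := Finset.univ) (n := m)
    (Finset.subset_univ _) (by simp; omega) (by rw [Finset.card_univ]; omega)
  set O : Set Ω := (Of : Set Ω) with hOdef
  have haO : a ∈ O := by
    have : a ∈ Of := haOf (Finset.mem_singleton_self a)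
    exact this
  have hOn : O.ncard = m := by rw [hOdef, Set.ncard_coe_finset, hOfc]
  have hOcn : Oᶜ.ncard = m := by
    have := Set.ncard_add_ncard_compl O
    rw [Nat.card_eq_fintype_card, hcard] at this
    omega
  obtain ⟨a', ha'O, ha'a⟩ : ∃ a' ∈ O, a' ≠ a := by
    have h1 : 1 < O.ncard := by omega
    obtain ⟨x, y, hx, hy, hxy⟩ := (Set.one_lt_ncard_iff (Set.toFinite O)).mp h1
    by_cases hxa : x = a
    · exact ⟨y, hy, fun h => hxy (hxa.trans h.symm)⟩
    · exact ⟨x, hx, hxa⟩
  obtain ⟨b, hbO⟩ : ∃ b, b ∈ Oᶜ := by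
    have h1 : 0 < Oᶜ.ncard := by omega
    exact (Set.ncard_pos (Set.toFinite _)).mp h1
  have hba : b ≠ a := fun h => hbO (h ▸ haO)
  -- the point stabiliser and its identification with `Perm {x // x ≠ a}`
  set M : Subgroup (Equiv.Perm Ω) := MulAction.stabilizer (Equiv.Perm Ω) a with hMdef
  let ι : Equiv.Perm {x : Ω // x ≠ a} →* Equiv.Perm Ω := Equiv.Perm.ofSubtype
  have hιa : ∀ g, ι g a = a := fun g => Equiv.Perm.ofSubtype_apply_of_not_mem g (by simp)
  have hιM : ∀ g, ι g ∈ M := fun g => MulAction.mem_stabilizer_iff.mpr (hιa g)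
  have hMι : ∀ h ∈ M, ∃ g, ι g = h := by
    intro h hh
    have hha : h a = a := MulAction.mem_stabilizer_iff.mp hh
    have h₁ : ∀ x, h x ≠ a ↔ x ≠ a := by
      intro x
      constructor
      · intro hx hxa; exact hx (hxa ▸ hha)
      · intro hx hxa; exact hx (h.injective (hxa.trans hha.symm))
    refine ⟨h.subtypePerm h₁, Equiv.Perm.ofSubtype_subtypePerm h₁ ?_⟩
    intro x hx hxa
    exact hx (hxa ▸ hha)
  let e : Equiv.Perm {x : Ω // x ≠ a} ≃* M :=
    MulEquiv.ofBijective (ι.codRestrict M hιM) ⟨by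
      intro g₁ g₂ h
      apply Equiv.Perm.ofSubtype_injective
      exact congrArg Subtype.val h, by
      rintro ⟨h, hh⟩
      obtain ⟨g, hg⟩ := hMι h hh
      exact ⟨g, Subtype.ext hg⟩⟩
  -- the subset of the complement of `a`
  set O' : Set {x : Ω // x ≠ a} := {x | (x : Ω) ∈ O} with hO'def
  have hS' : IsCoatom (MulAction.stabilizer (Equiv.Perm {x : Ω // x ≠ a}) O') := by
    apply Equiv.Perm.isCoatom_stabilizer
    · exact ⟨⟨a', ha'a⟩, ha'O⟩
    · exact ⟨⟨b, hba⟩, hbO⟩
    · have h1 : Nat.card {x : Ω // x ≠ a} = 2 * m - 1 := by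
        rw [Nat.card_eq_fintype_card, ← hcard]
        convert Set.card_ne_eq a
      rw [h1]
      omega
  set S' := MulAction.stabilizer (Equiv.Perm {x : Ω // x ≠ a}) O' with hS'def
  set H : Subgroup (Equiv.Perm Ω) := S'.map ι with hHdef
  have hHM : H ≤ M := by
    rintro _ ⟨g, -, rfl⟩
    exact hιM g
  have hHsub : H.subgroupOf M = MulEquiv.mapSubgroup e S' := by
    ext ⟨h, hh⟩
    rw [Subgroup.mem_subgroupOf]
    constructor
    · rintro ⟨g, hg, hgh⟩
      exact ⟨g, hg, Subtype.ext hgh⟩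
    · rintro ⟨g, hg, hgh⟩
      exact ⟨g, hg, congrArg Subtype.val hgh⟩
  -- the set stabiliser of `O`
  set L : Subgroup (Equiv.Perm Ω) := MulAction.stabilizer (Equiv.Perm Ω) O with hLdef
  have hmapO : ∀ g ∈ S', ∀ x ∈ O, ι g x ∈ O := by
    intro g hg x hx
    by_cases hxa : x = a
    · rw [hxa, hιa]; exact haO
    · have h1 : ι g x = (g ⟨x, hxa⟩ : Ω) := Equiv.Perm.ofSubtype_apply_of_mem g hxa
      rw [h1]
      have h2 : g • O' = O' := MulAction.mem_stabilizer_iff.mp hg
      have h3 : g ⟨x, hxa⟩ ∈ g • O' := ⟨⟨x, hxa⟩, hx, rfl⟩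
      rw [h2] at h3
      exact h3
  have hHL : H ≤ L := by
    rintro _ ⟨g, hg, rfl⟩
    rw [hLdef, MulAction.mem_stabilizer_iff]
    apply Set.Subset.antisymm
    · rintro _ ⟨x, hx, rfl⟩
      exact hmapO g hg x hx
    · intro y hy
      refine ⟨ι g⁻¹ y, hmapO g⁻¹ (inv_mem hg) y hy, ?_⟩
      rw [map_inv]
      simp
  have hswapL : Equiv.swap a a' ∈ L := by
    rw [hLdef, MulAction.mem_stabilizer_iff]
    have key : ∀ x ∈ O, Equiv.swap a a' x ∈ O := by
      intro x hx
      by_cases h1 : x = a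
      · rw [h1, Equiv.swap_apply_left]; exact ha'O
      · by_cases h2 : x = a'
        · rw [h2, Equiv.swap_apply_right]; exact haO
        · rw [Equiv.swap_apply_of_ne_of_ne h1 h2]; exact hx
    apply Set.Subset.antisymm
    · rintro _ ⟨x, hx, rfl⟩
      exact key x hx
    · intro y hy
      exact ⟨Equiv.swap a a' y, key y hy, by simp⟩
  have hswapM : Equiv.swap a a' ∉ M := by
    rw [hMdef, MulAction.mem_stabilizer_iff]
    simp [Equiv.Perm.smul_def, ha'a]
  have hswapH : Equiv.swap a a' ∉ H := fun h => hswapM (hHM h)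
  -- a maximal subgroup above `L`
  obtain ⟨K₀, hLK₀, hK₀top⟩ := Cfsg.Agent.S5904.exists_between (by omega) O
    (by rw [Nat.card_coe_set_eq, Nat.card_coe_set_eq, hOn, hOcn])
  obtain ⟨K, hK, hK₀K⟩ := (eq_top_or_exists_le_coatom K₀).resolve_left hK₀top
  have hLK : L ≤ K := hLK₀.le.trans hK₀K
  refine ⟨M, H, K, ?_, ?_, hHM, ?_, hK, hHL.trans hLK, ?_⟩
  · exact MulAction.IsPreprimitive.isCoatom_stabilizer_of_isPreprimitive (Equiv.Perm Ω) a
  · rw [hMdef, MulAction.index_stabilizer_of_transitive, Nat.card_eq_fintype_card, hcard]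
  · rw [hHsub, OrderIso.isCoatom_iff]
    exact hS'
  · intro hco
    have hlt : H.subgroupOf K < L.subgroupOf K := by
      refine lt_of_le_of_ne (Subgroup.subgroupOf_mono K hHL) ?_
      intro heq
      have h1 : (⟨Equiv.swap a a', hLK hswapL⟩ : K) ∈ L.subgroupOf K := Subgroup.mem_subgroupOf.mpr hswapL
      rw [← heq] at h1
      exact hswapH (Subgroup.mem_subgroupOf.mp h1)
    have htop := hco.2 _ hlt
    rw [Subgroup.subgroupOf_eq_top] at htop
    exact absurd (hK₀K.trans htop) (not_le_of_gt hLK₀)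

/-- For every m ≥ 2 the symmetric group on 2m letters has a maximal subgroup M of index 2m together with a maximal subgroup H of M that is not second maximal: some maximal subgroup K of the symmetric group contains H without H being maximal in K. (One may take M the stabiliser of a letter, H ≅ S_m × S_{m−1} inside it, and K ≅ S_m ≀ S₂ the stabiliser of a partition into two m-sets, with H < S_m × S_m < K.) So the prime-index hypothesis in the second-maximality criterion cannot be relaxed to any even index ≥ 4. -/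
theorem result (m : ℕ) (hm : 2 ≤ m) :
    ∃ M H K : Subgroup (Equiv.Perm (Fin (2 * m))), IsCoatom M ∧ M.index = 2 * m ∧ H ≤ M ∧ IsCoatom (H.subgroupOf M) ∧
      IsCoatom K ∧ H ≤ K ∧ ¬ IsCoatom (H.subgroupOf K) := by
  exact general m hm (by simp)

end Cfsg.Agent.S5894
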