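import Cfsg.Statements.S5895
-- import your own Cfsg.Agent.* helpers here

set_option autoImplicit false
open Cfsg
open scoped LinearAlgebra.Projectivization

namespace Cfsg.Agent.S5895

variable {K V : Type*} [Field K] [AddCommGroup V] [Module K V]

/-- action of the affine group on points -/
instance affMulAction : MulAction (V ≃ᵃ[K] V) V where
  smul g v := g v
  one_smul _ := rfl
  mul_smul _ _ _ := rfl

theorem aff_smul_def (g : V ≃ᵃ[K] V) (v : V) : g • v = g v := rfl

theorem aff_apply (g : V ≃ᵃ[K] V) (x : V) : g x = g.linear x + g 0 := by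
  have := g.map_vadd 0 x
  simpa using this

theorem linearHom_surjective :
    Function.Surjective (AffineEquiv.linearHom : (V ≃ᵃ[K] V) →* (V ≃ₗ[K] V)) := by
  intro L
  exact ⟨L.toAffineEquiv, rfl⟩

/-- GL is transitive on nonzero vectors -/
theorem exists_linearEquiv_apply_eq {v w : V} (hv : v ≠ 0) (hw : w ≠ 0) :
    ∃ L : V ≃ₗ[K] V, L v = w := by
  have h2 := Projectivization.linearEquiv_is_two_pretransitive K V
  have h1 : MulAction.IsPretransitive (V ≃ₗ[K] V) (ℙ K V) :=
    MulAction.isPretransitive_of_is_two_pretransitive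
  obtain ⟨g, hg⟩ := MulAction.exists_smul_eq (V ≃ₗ[K] V) (Projectivization.mk K v hv)
    (Projectivization.mk K w hw)
  rw [Projectivization.smul_mk, Projectivization.mk_eq_mk_iff] at hg
  obtain ⟨a, ha⟩ := hg
  refine ⟨g.trans (LinearEquiv.smulOfUnit a⁻¹), ?_⟩
  rw [LinearEquiv.trans_apply]
  rw [LinearEquiv.smul_def] at ha
  rw [← ha]
  simp [LinearEquiv.smulOfUnit]

instance aff_pretransitive : MulAction.IsPretransitive (V ≃ᵃ[K] V) V where
  exists_smul_eq x y := ⟨AffineEquiv.constVAdd K V (y - x), by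
    rw [aff_smul_def, AffineEquiv.constVAdd_apply]; simp⟩

variable (K V) in
theorem stab_zero_isCoatom [Nontrivial V] :
    IsCoatom (MulAction.stabilizer (V ≃ᵃ[K] V) (0 : V)) := by
  constructor
  · intro htop
    obtain ⟨v, hv⟩ := exists_ne (0 : V)
    have : AffineEquiv.constVAdd K V v ∈ MulAction.stabilizer (V ≃ᵃ[K] V) (0 : V) := by
      rw [htop]; trivial
    rw [MulAction.mem_stabilizer_iff, aff_smul_def, AffineEquiv.constVAdd_apply] at this
    apply hv
    simpa using this
  · intro X hX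
    obtain ⟨hle, hne⟩ := lt_iff_le_not_ge.mp hX
    have : ∃ x ∈ X, x ∉ MulAction.stabilizer (V ≃ᵃ[K] V) (0 : V) := by
      by_contra hcon
      push Not at hcon
      exact hne hcon
    obtain ⟨x, hxX, hxM⟩ := this
    rw [MulAction.mem_stabilizer_iff, aff_smul_def] at hxM
    rw [eq_top_iff]
    intro g _
    by_cases hg : g 0 = 0
    · exact hle (by rw [MulAction.mem_stabilizer_iff, aff_smul_def]; exact hg)
    obtain ⟨L, hL⟩ := exists_linearEquiv_apply_eq (K := K) hxM hg
    have hLM : L.toAffineEquiv ∈ MulAction.stabilizer (V ≃ᵃ[K] V) (0 : V) := by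
      rw [MulAction.mem_stabilizer_iff, aff_smul_def]
      simp
    have hy : (L.toAffineEquiv * x)⁻¹ * g ∈ MulAction.stabilizer (V ≃ᵃ[K] V) (0 : V) := by
      rw [MulAction.mem_stabilizer_iff, mul_smul, inv_smul_eq_iff, mul_smul, aff_smul_def,
        aff_smul_def, aff_smul_def]
      simp [hL]
    have : g = (L.toAffineEquiv * x) * ((L.toAffineEquiv * x)⁻¹ * g) := by group
    rw [this]
    exact X.mul_mem (X.mul_mem (hle hLM) hxX) (hle hy)


/-- the stabiliser of the line through `e` in `GL(V)` -/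
def lineStab (K : Type*) {V : Type*} [Field K] [AddCommGroup V] [Module K V] (e : V) (he : e ≠ 0) :
    Subgroup (V ≃ₗ[K] V) :=
  MulAction.stabilizer (V ≃ₗ[K] V) (Projectivization.mk K e he)

theorem mem_lineStab_iff {e : V} (he : e ≠ 0) (L : V ≃ₗ[K] V) :
    L ∈ lineStab K e he ↔ ∃ a : Kˣ, a • e = L e := by
  unfold lineStab
  rw [MulAction.mem_stabilizer_iff, Projectivization.smul_mk, Projectivization.mk_eq_mk_iff]
  rfl

theorem lineStab_isCoatom {e e' : V} (he : e ≠ 0) (he' : e' ∉ Submodule.span K {e}) :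
    IsCoatom (lineStab K e he) := by
  have he'0 : e' ≠ 0 := fun h => he' (h ▸ Submodule.zero_mem _)
  have : Nontrivial (ℙ K V) := by
    refine ⟨⟨Projectivization.mk K e he, Projectivization.mk K e' he'0, ?_⟩⟩
    rw [Ne, Projectivization.mk_eq_mk_iff]
    rintro ⟨a, ha⟩
    apply he'
    rw [Submodule.mem_span_singleton]
    refine ⟨(a⁻¹ : Kˣ), ?_⟩
    rw [← ha]
    simp [Units.smul_def, smul_smul]
  have h2 := Projectivization.linearEquiv_is_two_pretransitive K V
  have : MulAction.IsPreprimitive (V ≃ₗ[K] V) (ℙ K V) :=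
    MulAction.isPreprimitive_of_is_two_pretransitive h2
  unfold lineStab
  exact MulAction.IsPreprimitive.isCoatom_stabilizer_of_isPreprimitive (G := V ≃ₗ[K] V) (X := ℙ K V) _

theorem lineStab_apply_mem {e : V} (he : e ≠ 0) {L : V ≃ₗ[K] V} (hL : L ∈ lineStab K e he)
    {x : V} (hx : x ∈ Submodule.span K {e}) : L x ∈ Submodule.span K {e} := by
  rw [mem_lineStab_iff] at hL
  obtain ⟨a, ha⟩ := hL
  rw [Submodule.mem_span_singleton] at hx
  obtain ⟨c, rfl⟩ := hx
  rw [map_smul, ← ha]
  exact Submodule.smul_mem _ _ (Submodule.smul_mem _ _ (Submodule.mem_span_singleton_self e))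

/-- the intermediate subgroup -/
def midGroup (K : Type*) {V : Type*} [Field K] [AddCommGroup V] [Module K V] (e : V) (he : e ≠ 0) :
    Subgroup (V ≃ᵃ[K] V) where
  carrier := {g | AffineEquiv.linearHom g ∈ lineStab K e he ∧ g 0 ∈ Submodule.span K {e}}
  one_mem' := ⟨by rw [map_one]; exact Subgroup.one_mem _, by simp⟩
  mul_mem' := by
    rintro g h ⟨hg1, hg2⟩ ⟨hh1, hh2⟩
    refine ⟨by rw [map_mul]; exact Subgroup.mul_mem _ hg1 hh1, ?_⟩
    rw [AffineEquiv.coe_mul, Function.comp_apply, aff_apply]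
    exact Submodule.add_mem _ (lineStab_apply_mem he hg1 hh2) hg2
  inv_mem' := by
    rintro g ⟨hg1, hg2⟩
    have hinv : AffineEquiv.linearHom g⁻¹ ∈ lineStab K e he := by
      rw [map_inv]; exact Subgroup.inv_mem _ hg1
    refine ⟨hinv, ?_⟩
    have h1 : g (g⁻¹ 0) = 0 := by
      rw [← aff_smul_def, ← aff_smul_def, smul_inv_smul]
    rw [aff_apply] at h1
    have h2 : g.linear (g⁻¹ 0) ∈ Submodule.span K {e} := by
      rw [eq_neg_of_add_eq_zero_left h1]
      exact Submodule.neg_mem _ hg2
    have h3 := lineStab_apply_mem he hinv h2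
    have h4 : (AffineEquiv.linearHom g⁻¹) (g.linear (g⁻¹ 0)) = g⁻¹ 0 := by
      rw [map_inv]
      change (AffineEquiv.linearHom g)⁻¹ ((AffineEquiv.linearHom g) (g⁻¹ 0)) = _
      rw [← LinearEquiv.smul_def, ← LinearEquiv.smul_def, inv_smul_smul]
    rw [h4] at h3
    exact h3



/-- For every prime p and every d ≥ 2 there is a finite group G with a maximal subgroup M of index p^d and a maximal subgroup H of M that is not second maximal in G: some maximal subgroup K of G contains H without H being maximal in K. (One may take G the affine group V ⋊ GL(V) of V = 𝔽_p^d, M = GL(V), H the stabiliser in M of a line W of V, and K = V ⋊ H, with H < W ⋊ H < K.) So the prime-index hypothesis in the second-maximality criterion cannot be relaxed to prime-power index. -/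
theorem result (p d : ℕ) (hp : p.Prime)
    (hd : 2 ≤ d) :
    ∃ (G : Type) (_ : Group G) (_ : Finite G) (M H K : Subgroup G), IsCoatom M ∧ M.index = p ^ d ∧ H ≤ M ∧
      IsCoatom (H.subgroupOf M) ∧ IsCoatom K ∧ H ≤ K ∧ ¬ IsCoatom (H.subgroupOf K) := by
  have : Fact p.Prime := ⟨hp⟩
  let i0 : Fin d := ⟨0, by omega⟩
  let i1 : Fin d := ⟨1, by omega⟩
  have hi : i0 ≠ i1 := by
    intro h
    have := congrArg Fin.val h
    simp [i0, i1] at this
  let e₀ : Fin d → ZMod p := Pi.single i0 1
  let e₁ : Fin d → ZMod p := Pi.single i1 1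
  have he₀ : e₀ ≠ 0 := by
    intro h
    have := congrFun h i0
    simp [e₀] at this
  have he₁ : e₁ ∉ Submodule.span (ZMod p) {e₀} := by
    intro h
    rw [Submodule.mem_span_singleton] at h
    obtain ⟨c, hc⟩ := h
    have := congrFun hc i1
    simp [e₀, e₁, hi.symm] at this
  have : Nontrivial (Fin d → ZMod p) := ⟨⟨e₀, 0, he₀⟩⟩
  have : Finite ((Fin d → ZMod p) ≃ᵃ[ZMod p] (Fin d → ZMod p)) :=
    Finite.of_injective (fun g => (g : (Fin d → ZMod p) → (Fin d → ZMod p))) DFunLike.coe_injective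
  let π : ((Fin d → ZMod p) ≃ᵃ[ZMod p] (Fin d → ZMod p)) →*
      ((Fin d → ZMod p) ≃ₗ[ZMod p] (Fin d → ZMod p)) := AffineEquiv.linearHom
  have hπ : Function.Surjective π := linearHom_surjective
  let S := lineStab (ZMod p) e₀ he₀
  have hS : IsCoatom S := lineStab_isCoatom he₀ he₁
  let M := MulAction.stabilizer ((Fin d → ZMod p) ≃ᵃ[ZMod p] (Fin d → ZMod p)) (0 : Fin d → ZMod p)
  let Kk := S.comap π
  let H := Kk ⊓ M
  let Lm := midGroup (ZMod p) e₀ he₀
  refine ⟨(Fin d → ZMod p) ≃ᵃ[ZMod p] (Fin d → ZMod p), inferInstance, inferInstance, M, H, Kk,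
    ?_, ?_, inf_le_right, ?_, ?_, inf_le_left, ?_⟩
  · exact stab_zero_isCoatom (ZMod p) (Fin d → ZMod p)
  · rw [MulAction.index_stabilizer_of_transitive]
    simp [Nat.card_eq_fintype_card]
  · have : H.subgroupOf M = S.comap (π.comp M.subtype) := by
      ext ⟨g, hg⟩
      simp only [Subgroup.mem_subgroupOf, Subgroup.mem_comap, MonoidHom.comp_apply,
        Subgroup.coe_subtype, H, Kk, Subgroup.mem_inf]
      exact ⟨fun h => h.1, fun h => ⟨h, hg⟩⟩
    rw [this]
    apply Subgroup.isCoatom_comap_of_surjective _ hS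
    intro L
    refine ⟨⟨L.toAffineEquiv, ?_⟩, rfl⟩
    rw [MulAction.mem_stabilizer_iff, aff_smul_def]
    simp
  · exact Subgroup.isCoatom_comap_of_surjective hπ hS
  · intro hco
    -- translations
    let t0 : (Fin d → ZMod p) ≃ᵃ[ZMod p] (Fin d → ZMod p) :=
      AffineEquiv.constVAdd (ZMod p) (Fin d → ZMod p) e₀
    let t1 : (Fin d → ZMod p) ≃ᵃ[ZMod p] (Fin d → ZMod p) :=
      AffineEquiv.constVAdd (ZMod p) (Fin d → ZMod p) e₁
    have ht0K : t0 ∈ Kk := by
      change π t0 ∈ S
      have : π t0 = 1 := rfl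
      rw [this]; exact Subgroup.one_mem _
    have ht1K : t1 ∈ Kk := by
      change π t1 ∈ S
      have : π t1 = 1 := rfl
      rw [this]; exact Subgroup.one_mem _
    have ht0L : t0 ∈ Lm := by
      refine ⟨ht0K, ?_⟩
      simp only [t0, AffineEquiv.constVAdd_apply, vadd_eq_add, add_zero]
      exact Submodule.mem_span_singleton_self e₀
    have ht0M : t0 ∉ M := by
      intro h
      rw [MulAction.mem_stabilizer_iff, aff_smul_def] at h
      simp only [t0, AffineEquiv.constVAdd_apply, vadd_eq_add, add_zero] at h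
      exact he₀ h
    have ht1L : t1 ∉ Lm := by
      rintro ⟨_, h⟩
      simp only [t1, AffineEquiv.constVAdd_apply, vadd_eq_add, add_zero] at h
      exact he₁ h
    have hHL : H ≤ Lm := by
      rintro g ⟨hg1, hg2⟩
      refine ⟨hg1, ?_⟩
      have hg2' : g ∈ M := hg2
      rw [MulAction.mem_stabilizer_iff, aff_smul_def] at hg2'
      rw [hg2']
      exact Submodule.zero_mem _
    have hlt : H.subgroupOf Kk < Lm.subgroupOf Kk := by
      refine lt_of_le_of_ne (fun x hx => hHL hx) ?_
      intro heq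
      have : (⟨t0, ht0K⟩ : Kk) ∈ Lm.subgroupOf Kk := ht0L
      rw [← heq] at this
      exact ht0M this.2
    have htop := hco.2 _ hlt
    rw [Subgroup.subgroupOf_eq_top] at htop
    exact ht1L (htop ht1K)

end Cfsg.Agent.S5895
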