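import Cfsg.Statements.S5902
import Cfsg.Agent.S5901

set_option autoImplicit false
open Cfsg

namespace Cfsg.Agent.S5902


/-- From a complemented subgroup lattice of `X` to relative complements inside `X`. -/
theorem interval_of_complemented {G : Type*} [Group G] (X : Subgroup G)
    (hK : ComplementedLattice (Subgroup X)) (Y : Subgroup G) (hY : Y ≤ X) :
    ∃ C : Subgroup G, C ≤ X ∧ Y ⊔ C = X ∧ Y ⊓ C = ⊥ := by
  obtain ⟨C', hC'⟩ := hK.exists_isCompl (Y.subgroupOf X)
  refine ⟨C'.map X.subtype, ?_, ?_, ?_⟩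
  · exact (Subgroup.map_le_range _ _).trans (by simp)
  · have h1 : Y = (Y.subgroupOf X).map X.subtype := by
      rw [Subgroup.map_subgroupOf_eq_of_le hY]
    rw [h1, ← Subgroup.map_sup, hC'.sup_eq_top, ← MonoidHom.range_eq_map, Subgroup.range_subtype]
  · have h1 : Y = (Y.subgroupOf X).map X.subtype := by
      rw [Subgroup.map_subgroupOf_eq_of_le hY]
    rw [h1, ← Subgroup.map_inf _ _ _ X.subtype_injective, hC'.inf_eq_bot, Subgroup.map_bot]

/-- Complements can be transported along conjugation. -/
theorem compl_of_conj_compl {G : Type*} [Group G] (H : Subgroup G) (b : G)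
    (h : ∃ C : Subgroup G, H.map (MulAut.conj b).toMonoidHom ⊔ C = ⊤ ∧ H.map (MulAut.conj b).toMonoidHom ⊓ C = ⊥) :
    ∃ C : Subgroup G, H ⊔ C = ⊤ ∧ H ⊓ C = ⊥ := by
  obtain ⟨C, h1, h2⟩ := h
  have hinj : Function.Injective (MulAut.conj b).toMonoidHom := (MulAut.conj b).injective
  refine ⟨C.comap (MulAut.conj b).toMonoidHom, ?_, ?_⟩
  · apply Subgroup.map_injective hinj
    rw [Subgroup.map_sup, Subgroup.map_comap_eq_self_of_surjective (MulAut.conj b).surjective, h1]
    rw [← MonoidHom.range_eq_map, eq_comm, MonoidHom.range_eq_top]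
    exact (MulAut.conj b).surjective
  · apply Subgroup.map_injective hinj
    rw [Subgroup.map_inf _ _ _ hinj, Subgroup.map_comap_eq_self_of_surjective (MulAut.conj b).surjective, h2,
      Subgroup.map_bot]

/-- The first half of the statement, isolated for reuse. -/
theorem compl_of_not_le_core {G : Type*} [Group G] [Finite G] (X M : Subgroup G)
    (hK : ComplementedLattice (Subgroup X))
    (hM : IsCoatom M) (hXM : X ≤ M) (huniq : ∀ M' : Subgroup G, IsCoatom M' → X ≤ M' → M' = M)
    (H : Subgroup G) (hH : ¬ H ≤ M.normalCore) : ∃ C : Subgroup G, H ⊔ C = ⊤ ∧ H ⊓ C = ⊥ := by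
  have : ∃ a ∈ H, ∃ b : G, b * a * b⁻¹ ∉ M := by
    by_contra hcon
    push Not at hcon
    exact hH (fun a ha b => hcon a ha b)
  obtain ⟨a, ha, b, hab⟩ := this
  apply compl_of_conj_compl H b
  apply Cfsg.Agent.S5901.result ⊥ X M bot_le ?_ ?_ hM hXM huniq
  · intro hle
    apply hab
    apply hle
    exact ⟨a, ha, by simp [MulAut.conj_apply]⟩
  · simp
  · intro hX
    rw [hX, top_le_iff] at hXM
    exact hM.1 hXM
  · intro Y _ hYX
    obtain ⟨C, hC1, hC2, hC3⟩ := interval_of_complemented X hK Y hYX
    exact ⟨C, bot_le, hC1, hC2, hC3⟩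

/-- Let G be a finite group, X a subgroup whose own subgroup lattice is complemented, and suppose X lies in exactly one maximal subgroup M of G. Then every subgroup H of G not contained in the normal core of M has a complement in the subgroup lattice of G (some C with H ⊔ C = G and H ⊓ C = 1); in particular the subgroup lattice of G modulo the normal core of M is complemented. -/
theorem result {G : Type*} [Group G] [Finite G] (X M : Subgroup G)
    (hK : ComplementedLattice (Subgroup X))
    (hM : IsCoatom M) (hXM : X ≤ M) (huniq : ∀ M' : Subgroup G, IsCoatom M' → X ≤ M' → M' = M) :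
    (∀ H : Subgroup G, ¬ H ≤ M.normalCore → ∃ C : Subgroup G, H ⊔ C = ⊤ ∧ H ⊓ C = ⊥) ∧
    ComplementedLattice (Subgroup (G ⧸ M.normalCore)) := by
  classical
  refine ⟨fun H hH => compl_of_not_le_core X M hK hM hXM huniq H hH, ⟨fun Hbar => ?_⟩⟩
  by_cases hle : Hbar.comap (QuotientGroup.mk' M.normalCore) ≤ M.normalCore
  · have : Hbar = ⊥ := by
      rw [eq_bot_iff]
      intro x hx
      obtain ⟨g, rfl⟩ := QuotientGroup.mk'_surjective M.normalCore x
      have hg : g ∈ M.normalCore := hle hx
      rw [Subgroup.mem_bot]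
      exact (QuotientGroup.eq_one_iff g).mpr hg
    rw [this]
    exact ⟨⊤, isCompl_bot_top⟩
  · obtain ⟨C, h1, h2⟩ := compl_of_not_le_core X M hK hM hXM huniq _ hle
    refine ⟨C.map (QuotientGroup.mk' M.normalCore), ?_⟩
    rw [isCompl_iff, disjoint_iff, codisjoint_iff]
    constructor
    · rw [eq_bot_iff]
      rintro x ⟨hx1, c, hc, rfl⟩
      have : c ∈ Hbar.comap (QuotientGroup.mk' M.normalCore) ⊓ C := ⟨hx1, hc⟩
      rw [h2, Subgroup.mem_bot] at this
      rw [this]
      simp
    · have hs : Function.Surjective (QuotientGroup.mk' M.normalCore) := QuotientGroup.mk'_surjective _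
      have : Hbar = (Hbar.comap (QuotientGroup.mk' M.normalCore)).map (QuotientGroup.mk' M.normalCore) :=
        (Subgroup.map_comap_eq_self_of_surjective hs Hbar).symm
      rw [this, ← Subgroup.map_sup, h1, ← MonoidHom.range_eq_map, MonoidHom.range_eq_top]
      exact hs

end Cfsg.Agent.S5902
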