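import Cfsg.Statements.S5903
import Cfsg.Agent.S5901
import Cfsg.Agent.S5902

set_option autoImplicit false
open Cfsg

namespace Cfsg.Agent.S5903


/-- From a complemented subgroup lattice of `X ⧸ N` to relative complements in the interval `[N, X]`. -/
theorem interval_of_quotient_complemented {G : Type*} [Group G] (X N : Subgroup G) (hNX : N ≤ X)
    [(N.subgroupOf X).Normal] (hK : ComplementedLattice (Subgroup (X ⧸ N.subgroupOf X)))
    (Y : Subgroup G) (hNY : N ≤ Y) (hYX : Y ≤ X) :
    ∃ C : Subgroup G, N ≤ C ∧ C ≤ X ∧ Y ⊔ C = X ∧ Y ⊓ C = N := by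
  set π := QuotientGroup.mk' (N.subgroupOf X) with hπ
  have hπs : Function.Surjective π := QuotientGroup.mk'_surjective _
  have hker : π.ker = N.subgroupOf X := QuotientGroup.ker_mk' _
  obtain ⟨Cb, hCb⟩ := hK.exists_isCompl ((Y.subgroupOf X).map π)
  have hY0 : ((Y.subgroupOf X).map π).comap π = Y.subgroupOf X := by
    apply Subgroup.comap_map_eq_self
    rw [hker]
    exact Subgroup.subgroupOf_mono X hNY
  have hsup : Y.subgroupOf X ⊔ Cb.comap π = ⊤ := by
    rw [← hY0, Subgroup.comap_sup_eq _ _ _ hπs, hCb.sup_eq_top, Subgroup.comap_top]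
  have hinf : Y.subgroupOf X ⊓ Cb.comap π = N.subgroupOf X := by
    rw [← hY0, ← Subgroup.comap_inf, hCb.inf_eq_bot, MonoidHom.comap_bot]
    exact hker
  have hYm : Y = (Y.subgroupOf X).map X.subtype := by
    rw [Subgroup.map_subgroupOf_eq_of_le hYX]
  have hNm : N = (N.subgroupOf X).map X.subtype := by
    rw [Subgroup.map_subgroupOf_eq_of_le hNX]
  refine ⟨(Cb.comap π).map X.subtype, ?_, ?_, ?_, ?_⟩
  · refine hNm.le.trans ?_
    apply Subgroup.map_mono
    exact hker.symm.le.trans (Subgroup.ker_le_comap _ _)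
  · exact (Subgroup.map_le_range _ _).trans (by simp)
  · rw [hYm, ← Subgroup.map_sup, hsup, ← MonoidHom.range_eq_map, Subgroup.range_subtype]
  · rw [hYm, ← Subgroup.map_inf _ _ _ X.subtype_injective, hinf, ← hNm]

/-- Let G be a finite simple group, X a subgroup lying in exactly one maximal subgroup M of G, and N a subgroup of prime order with N ≤ X that is central in M. If the subgroup lattice of X/N is complemented, then the subgroup lattice of G is complemented. -/
theorem result {G : Type*} [Group G] [Finite G] [IsSimpleGroup G] (X M N : Subgroup G)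
    (hM : IsCoatom M) (hXM : X ≤ M) (huniq : ∀ M' : Subgroup G, IsCoatom M' → X ≤ M' → M' = M)
    (hNX : N ≤ X) (hN : (Nat.card N).Prime) (hcen : ∀ n ∈ N, ∀ m ∈ M, m * n = n * m)
    [(N.subgroupOf X).Normal] (hK : ComplementedLattice (Subgroup (X ⧸ N.subgroupOf X))) :
    ComplementedLattice (Subgroup G) := by
  classical
  have hMtop : M ≠ ⊤ := hM.1
  have hNbot : N ≠ ⊥ := by
    intro h
    rw [h] at hN
    simp at hN
    exact Nat.not_prime_one hN
  have hfact : Fact (Nat.card N).Prime := ⟨hN⟩
  have hXtop : X ≠ ⊤ := by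
    intro hX
    rw [hX, top_le_iff] at hXM
    exact hMtop hXM
  have hcore : M.normalCore = ⊥ := by
    rcases (M.normalCore_normal).eq_bot_or_eq_top with h | h
    · exact h
    · exact absurd (top_le_iff.mp (h ▸ M.normalCore_le)) hMtop
  refine ⟨fun H => ?_⟩
  by_cases hHbot : H = ⊥
  · rw [hHbot]; exact ⟨⊤, isCompl_bot_top⟩
  by_cases hHtop : H = ⊤
  · rw [hHtop]; exact ⟨⊥, isCompl_top_bot⟩
  -- key claim: some conjugate configuration is in general position
  have key : ∃ c : G, (∃ h ∈ H, c⁻¹ * h * c ∉ M) ∧ (∃ n ∈ N, c * n * c⁻¹ ∉ H) := by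
    by_contra hcon
    push Not at hcon
    -- K generated by the conjugates of N inside H
    set K : Subgroup G := Subgroup.closure {x | ∃ c : G, (∀ n ∈ N, c * n * c⁻¹ ∈ H) ∧ ∃ n ∈ N, x = c * n * c⁻¹} with hKdef
    have hKH : K ≤ H := by
      rw [hKdef, Subgroup.closure_le]
      rintro x ⟨c, hc, n, hn, rfl⟩
      exact hc n hn
    have hnorm : Subgroup.normalizer (K : Set G) = ⊤ := by
      rw [eq_top_iff]
      have htop : Subgroup.normalClosure (N : Set G) = ⊤ := by
        rcases (Subgroup.normalClosure_normal (s := (N : Set G))).eq_bot_or_eq_top with h | h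
        · exfalso
          apply hNbot
          rw [eq_bot_iff, ← h]
          exact Subgroup.subset_normalClosure
        · exact h
      rw [← htop, Subgroup.normalClosure, Subgroup.closure_le]
      intro y hy
      rw [Group.mem_conjugatesOfSet_iff] at hy
      obtain ⟨n, hn, hconj⟩ := hy
      rw [isConj_iff] at hconj
      obtain ⟨c, rfl⟩ := hconj
      by_cases hc : ∀ h ∈ H, c⁻¹ * h * c ∈ M
      · -- c n c⁻¹ centralizes H, hence K
        have hcent : ∀ h ∈ H, (c * n * c⁻¹) * h = h * (c * n * c⁻¹) := by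
          intro h hh
          have := hcen n hn (c⁻¹ * h * c) (hc h hh)
          have h2 : c * ((c⁻¹ * h * c) * n) * c⁻¹ = c * (n * (c⁻¹ * h * c)) * c⁻¹ := by rw [this]
          simp only [mul_assoc, mul_inv_cancel_left, mul_inv_cancel, mul_one] at h2
          simp only [mul_assoc]
          exact h2.symm
        rw [SetLike.mem_coe, Subgroup.mem_set_normalizer_iff]
        intro k
        constructor
        · intro hk
          have := hcent k (hKH hk)
          rw [this, mul_inv_cancel_right]
          exact hk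
        · intro hk
          have := hcent _ (hKH hk)
          have h3 : k = c * n * c⁻¹ * k * (c * n * c⁻¹)⁻¹ := by
            have h4 : (c * n * c⁻¹) * k = (c * n * c⁻¹ * k * (c * n * c⁻¹)⁻¹) * (c * n * c⁻¹) := by
              simp only [inv_mul_cancel_right]
            rw [← this] at h4
            exact mul_left_cancel h4
          rw [h3]
          exact hk
      · push Not at hc
        have hNc : ∀ n ∈ N, c * n * c⁻¹ ∈ H := hcon c hc
        apply Subgroup.le_normalizer
        apply Subgroup.subset_closure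
        exact ⟨c, hNc, n, hn, rfl⟩
    have hKn : K.Normal := Subgroup.normalizer_eq_top_iff.mp hnorm
    rcases hKn.eq_bot_or_eq_top with hK | hK
    · -- no conjugate of N inside H, so H ≤ core M = ⊥
      apply hHbot
      rw [eq_bot_iff, ← hcore]
      intro h hh b
      by_contra hb
      have hNc : ∀ n ∈ N, b⁻¹ * n * b⁻¹⁻¹ ∈ H := by
        apply hcon b⁻¹ ⟨h, hh, ?_⟩
        simpa using hb
      obtain ⟨n, hn, hn1⟩ : ∃ n ∈ N, n ≠ 1 := by
        by_contra hall
        push Not at hall
        exact hNbot ((Subgroup.eq_bot_iff_forall _).mpr hall)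
      have : b⁻¹ * n * b⁻¹⁻¹ ∈ K := Subgroup.subset_closure ⟨b⁻¹, hNc, n, hn, rfl⟩
      rw [hK, Subgroup.mem_bot] at this
      apply hn1
      have h5 := congrArg (fun x => b * x * b⁻¹) this
      simpa [mul_assoc] using h5
    · apply hHtop
      rw [eq_top_iff, ← hK]
      exact hKH
  obtain ⟨c, ⟨h, hh, hhM⟩, ⟨n, hn, hnH⟩⟩ := key
  have hcompl : ∃ C : Subgroup G, H ⊔ C = ⊤ ∧ H ⊓ C = ⊥ := by
    apply Cfsg.Agent.S5902.compl_of_conj_compl H c⁻¹
    apply Cfsg.Agent.S5901.result N X M hNX hXtop ?_ hM hXM huniq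
    · intro hle
      apply hhM
      apply hle
      exact ⟨h, hh, by simp [MulAut.conj_apply]⟩
    · -- intersection with N is trivial
      have hsub := ((H.map (MulAut.conj c⁻¹).toMonoidHom ⊓ N).subgroupOf N).eq_bot_or_eq_top_of_prime_card
      rcases hsub with hs | hs
      · rw [Subgroup.subgroupOf_eq_bot] at hs
        rw [disjoint_iff] at hs
        rw [← hs]
        simp [inf_assoc]
      · exfalso
        rw [Subgroup.subgroupOf_eq_top] at hs
        have hn' : n ∈ H.map (MulAut.conj c⁻¹).toMonoidHom := (hs hn).1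
        obtain ⟨h', hh', hh'n⟩ := hn'
        apply hnH
        have : c * n * c⁻¹ = h' := by
          rw [← hh'n]
          simp [MulAut.conj_apply, mul_assoc]
        rw [this]
        exact hh'
    · intro Y hNY hYX
      exact interval_of_quotient_complemented X N hNX hK Y hNY hYX
  obtain ⟨C, h1, h2⟩ := hcompl
  exact ⟨C, isCompl_iff.mpr ⟨disjoint_iff.mpr h2, codisjoint_iff.mpr h1⟩⟩

end Cfsg.Agent.S5903
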