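import Cfsg.Statements.S5905
-- import your own Cfsg.Agent.* helpers here

set_option autoImplicit false
open Cfsg

namespace Cfsg.Agent.S5905

/-- The partition stabiliser as a subgroup. -/
def partW {Ω : Type*} {β : Type*} (f : Ω → β) : Subgroup (Equiv.Perm Ω) where
  carrier := {g | ∀ x y : Ω, f x = f y ↔ f (g x) = f (g y)}
  one_mem' := fun x y => Iff.rfl
  mul_mem' := by
    intro g h hg hh x y
    rw [Equiv.Perm.mul_apply, Equiv.Perm.mul_apply]
    exact (hh x y).trans (hg (h x) (h y))
  inv_mem' := by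
    intro g hg x y
    have := hg (g⁻¹ x) (g⁻¹ y)
    simp only [Equiv.Perm.coe_inv, Equiv.apply_symm_apply] at this
    exact this.symm

theorem mem_partW {Ω : Type*} {β : Type*} (f : Ω → β) (g : Equiv.Perm Ω) :
    g ∈ partW f ↔ ∀ x y : Ω, f x = f y ↔ f (g x) = f (g y) := Iff.rfl

theorem mem_partW_of_perm {Ω : Type*} {β : Type*} (f : Ω → β) (g : Equiv.Perm Ω)
    (π : Equiv.Perm β) (h : ∀ x, f (g x) = π (f x)) : g ∈ partW f := by
  intro x y
  rw [h x, h y]
  exact π.injective.eq_iff.symm

theorem swap_mem_partW {Ω : Type*} [DecidableEq Ω] {β : Type*} (f : Ω → β) (x y : Ω)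
    (hxy : f x = f y) : Equiv.swap x y ∈ partW f := by
  apply mem_partW_of_perm f _ 1
  intro z
  rw [Equiv.Perm.one_apply]
  by_cases hzx : z = x
  · subst hzx; rw [Equiv.swap_apply_left]; exact hxy.symm
  by_cases hzy : z = y
  · subst hzy; rw [Equiv.swap_apply_right]; exact hxy
  rw [Equiv.swap_apply_of_ne_of_ne hzx hzy]


/-- Let Ω be a finite set and f : Ω → Fin b a map onto b ≥ 2 labels whose fibres all have the same size a ≥ 2 (a partition of Ω into b blocks of size a, so |Ω| = ab). Then the stabilizer of this partition in the symmetric group on Ω — the permutations g such that x and y lie in the same block exactly when g x and g y do, a group isomorphic to the imprimitive wreath product S_a ≀ S_b — is a maximal subgroup of the symmetric group. -/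
theorem result {Ω : Type*} [Fintype Ω] [DecidableEq Ω] (a b : ℕ) (ha : 2 ≤ a) (hb : 2 ≤ b)
    (f : Ω → Fin b) (hf : ∀ i : Fin b, Nat.card {x : Ω // f x = i} = a) :
    IsCoatom (Subgroup.closure {g : Equiv.Perm Ω | ∀ x y : Ω, f x = f y ↔ f (g x) = f (g y)}) := by
  classical
  have hcl : Subgroup.closure {g : Equiv.Perm Ω | ∀ x y : Ω, f x = f y ↔ f (g x) = f (g y)}
      = partW f := Subgroup.closure_eq (partW f)
  rw [hcl]
  -- coordinates
  let φ : Ω ≃ Fin b × Fin a :=
    (Equiv.sigmaFiberEquiv f).symm.trans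
      ((Equiv.sigmaCongrRight (fun i => Finite.equivFinOfCardEq (hf i))).trans
        (Equiv.sigmaEquivProd _ _))
  have hφ : ∀ x, (φ x).1 = f x := by
    intro x
    simp [φ]
  -- lifting a permutation of the labels
  have lift : ∀ π : Equiv.Perm (Fin b), ∃ w ∈ partW f, ∀ x, f (w x) = π (f x) := by
    intro π
    let w : Equiv.Perm Ω := φ.trans ((Equiv.prodCongr π (Equiv.refl _)).trans φ.symm)
    have hw : ∀ x, f (w x) = π (f x) := by
      intro x
      rw [← hφ, ← hφ]
      simp [w]
    exact ⟨w, mem_partW_of_perm f w π hw, hw⟩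
  constructor
  · -- proper
    intro htop
    have h0 : 0 < b := by omega
    have h1 : 1 < b := by omega
    have hc0 := hf ⟨0, h0⟩
    have hc1 := hf ⟨1, h1⟩
    have : 1 < Nat.card {x : Ω // f x = ⟨0, h0⟩} := by omega
    rw [Nat.card_eq_fintype_card, Fintype.one_lt_card_iff] at this
    obtain ⟨⟨x, hx⟩, ⟨y, hy⟩, hxy⟩ := this
    have hxy' : x ≠ y := fun h => hxy (Subtype.ext h)
    have : 0 < Nat.card {x : Ω // f x = ⟨1, h1⟩} := by omega
    rw [Nat.card_eq_fintype_card, Fintype.card_pos_iff] at this
    obtain ⟨⟨z, hz⟩⟩ := this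
    have hfz : f z ≠ f x := by
      rw [hx, hz]
      intro h
      have := congrArg Fin.val h
      simp at this
    have hmem : Equiv.swap y z ∈ partW f := by rw [htop]; trivial
    have := (hmem x y).mp (hx.trans hy.symm)
    rw [Equiv.swap_apply_left, Equiv.swap_apply_of_ne_of_ne hxy' (fun h => hfz (h ▸ rfl))] at this
    exact hfz this.symm
  · intro G hG
    obtain ⟨hWG, hne⟩ := lt_iff_le_not_ge.mp hG
    -- move one end of a cross swap inside its block
    have move : ∀ p q p' : Ω, Equiv.swap p q ∈ G → f p = f p' → f q ≠ f p →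
        Equiv.swap p' q ∈ G := by
      intro p q p' hpq hpp' hqp
      by_cases h : p = p'
      · rw [← h]; exact hpq
      have hs : Equiv.swap p p' ∈ G := hWG (swap_mem_partW f p p' hpp')
      have := G.mul_mem (G.mul_mem hs hpq) (G.inv_mem hs)
      have hq1 : q ≠ p := fun h => hqp (by rw [h])
      have hq2 : q ≠ p' := fun h => hqp (by rw [h, hpp'])
      rw [← Equiv.swap_apply_apply, Equiv.swap_apply_left,
        Equiv.swap_apply_of_ne_of_ne hq1 hq2] at this
      exact this
    -- a cross swap in G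
    have cross : ∃ u v : Ω, f u ≠ f v ∧ Equiv.swap u v ∈ G := by
      have : ∃ g ∈ G, g ∉ partW f := by
        by_contra hcon
        push Not at hcon
        exact hne hcon
      obtain ⟨g, hgG, hgW⟩ := this
      rw [mem_partW] at hgW
      push Not at hgW
      obtain ⟨x, y, hxy⟩ := hgW
      rcases hxy with ⟨h1, h2⟩ | ⟨h1, h2⟩
      · refine ⟨g x, g y, h2, ?_⟩
        rw [Equiv.swap_apply_apply]
        exact G.mul_mem (G.mul_mem hgG (hWG (swap_mem_partW f x y h1))) (G.inv_mem hgG)
      · refine ⟨x, y, h1, ?_⟩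
        have hs : Equiv.swap (g x) (g y) ∈ G := hWG (swap_mem_partW f _ _ h2)
        have := G.mul_mem (G.mul_mem (G.inv_mem hgG) hs) (G.inv_mem (G.inv_mem hgG))
        rw [← Equiv.swap_apply_apply] at this
        simpa using this
    obtain ⟨u, v, huv, hsuv⟩ := cross
    -- all swaps are in G
    rw [eq_top_iff, ← Equiv.Perm.closure_isSwap, Subgroup.closure_le]
    rintro σ ⟨x, y, hxy, rfl⟩
    by_cases hfxy : f x = f y
    · exact hWG (swap_mem_partW f x y hfxy)
    -- a label permutation sending f u to f x and f v to f y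
    obtain ⟨π, hπu, hπv⟩ : ∃ π : Equiv.Perm (Fin b), π (f u) = f x ∧ π (f v) = f y := by
      refine ⟨Equiv.swap (Equiv.swap (f u) (f x) (f v)) (f y) * Equiv.swap (f u) (f x), ?_, ?_⟩
      · rw [Equiv.Perm.mul_apply, Equiv.swap_apply_left]
        apply Equiv.swap_apply_of_ne_of_ne
        · intro h
          have h' : Equiv.swap (f u) (f x) (f u) = Equiv.swap (f u) (f x) (f v) := by
            rw [Equiv.swap_apply_left]; exact h
          exact huv ((Equiv.swap (f u) (f x)).injective h')
        · exact hfxy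
      · rw [Equiv.Perm.mul_apply, Equiv.swap_apply_left]
    obtain ⟨w, hwW, hw⟩ := lift π
    have h1 : Equiv.swap (w u) (w v) ∈ G := by
      rw [Equiv.swap_apply_apply]
      exact G.mul_mem (G.mul_mem (hWG hwW) hsuv) (G.inv_mem (hWG hwW))
    have hfu : f (w u) = f x := by rw [hw, hπu]
    have hfv : f (w v) = f y := by rw [hw, hπv]
    have h2 : Equiv.swap x (w v) ∈ G :=
      move (w u) (w v) x h1 hfu (by rw [hfu, hfv]; exact fun h => hfxy h.symm)
    rw [Equiv.swap_comm] at h2
    have h3 : Equiv.swap y x ∈ G :=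
      move (w v) x y h2 hfv (by rw [hfv]; exact hfxy)
    rw [Equiv.swap_comm] at h3
    exact h3

end Cfsg.Agent.S5905
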