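import Cfsg.Statements.S5908
import Mathlib
import Cfsg.Agent.S0827

set_option autoImplicit false
open Cfsg

namespace Cfsg.Agent.S5908

theorem q8_fact : ∀ q : QuaternionGroup 2, q ∉ Subgroup.center (QuaternionGroup 2) →
    q ^ 2 ∈ Subgroup.center (QuaternionGroup 2) ∧ q ^ 2 ≠ 1 := by
  decide

theorem q8_fact2 : QuaternionGroup.a (1 : ZMod (2 * 2)) ∉ Subgroup.center (QuaternionGroup 2) := by
  decide

/-- The subgroup lattice of PSU₃(2) (the solvable group of order 72, realised over the field with 4 elements) is not complemented: some subgroup H has no subgroup X with H ⊔ X = ⊤ and H ⊓ X = ⊥. -/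
theorem result {F : Type*} [Field F] [Fintype F] (hF : Fintype.card F = 4) :
    ¬ ComplementedLattice (Subgroup (Cfsg.PSU 3 F 2)) := by
  classical
  obtain ⟨N, hN, _, _, ⟨e⟩⟩ := Cfsg.Agent.S0827.result hF
  intro hcl
  let π : Cfsg.PSU 3 F 2 →* QuaternionGroup 2 := e.toMonoidHom.comp (QuotientGroup.mk' N)
  have hπ : Function.Surjective π := e.surjective.comp (QuotientGroup.mk'_surjective N)
  let H : Subgroup (Cfsg.PSU 3 F 2) := (Subgroup.center (QuaternionGroup 2)).comap π
  obtain ⟨K, hK⟩ := hcl.exists_isCompl H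
  have hinf : H ⊓ K = ⊥ := hK.inf_eq_bot
  have hsup : H ⊔ K = ⊤ := hK.sup_eq_top
  have hone : ∀ k ∈ K, k ∈ H → k = 1 := by
    intro k hk hkH
    have : k ∈ H ⊓ K := ⟨hkH, hk⟩
    rwa [hinf, Subgroup.mem_bot] at this
  have hKH : K ≤ H := by
    intro k hk
    by_contra hkH
    have h1 : π k ∉ Subgroup.center (QuaternionGroup 2) := hkH
    obtain ⟨h2, h3⟩ := q8_fact (π k) h1
    have h4 : k ^ 2 ∈ H := by
      show π (k ^ 2) ∈ Subgroup.center (QuaternionGroup 2)
      rw [map_pow]; exact h2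
    have h5 := hone (k ^ 2) (K.pow_mem hk 2) h4
    apply h3
    rw [← map_pow, h5, map_one]
  have hH : H = ⊤ := by rw [← hsup]; exact (sup_eq_left.mpr hKH).symm
  obtain ⟨g, hg⟩ := hπ (QuaternionGroup.a (1 : ZMod (2 * 2)))
  have : g ∈ H := hH ▸ Subgroup.mem_top g
  have h6 : π g ∈ Subgroup.center (QuaternionGroup 2) := this
  rw [hg] at h6
  exact q8_fact2 h6

end Cfsg.Agent.S5908
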