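import Cfsg.Statements.S5910
import Mathlib

set_option autoImplicit false
open Cfsg

namespace Cfsg.Agent.S5910

section Aux
open Equiv

abbrev B := Fin 2 × Fin 2
abbrev T := Fin 2
abbrev X := B × T

lemma fin2_ne (u v : T) (h : u ≠ v) : u = v + 1 := by
  revert u v; decide

lemma sign_addRight (c : T) : Perm.sign (Equiv.addRight c : Perm T) = if c = 0 then 1 else -1 := by
  revert c; decide

lemma gamma_sum (γ : B → T) (h : (∏ b, (if γ b = 0 then (1 : ℤˣ) else -1)) = 1) : ∑ b, γ b = 0 := by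
  revert γ; decide

lemma gamma_quad (γ : B → T) (h : ∑ b, γ b = 0) (b₁ b₂ b₃ b₄ : B) (hb : b₁ + b₂ + b₃ + b₄ = 0) :
    γ b₁ + γ b₂ + γ b₃ + γ b₄ = 0 := by
  revert b₁ b₂ b₃ b₄; revert γ; decide


/-- Lemma A: an even block-preserving permutation preserves 4-term zero sums. -/
lemma lemmaA (g : Perm X) (hblk : ∀ x y : X, x.1 = y.1 ↔ (g x).1 = (g y).1)
    (hsign : Perm.sign g = 1) (x y z w : X) (h : x + y + z + w = 0) :
    g x + g y + g z + g w = 0 := by
  set σ : B → B := fun b => (g (b, 0)).1 with hσ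
  set γ : B → T := fun b => (g (b, 0)).2 with hγ
  have h1 : ∀ b t, (g (b, t)).1 = σ b := by
    intro b t
    exact (hblk (b, t) (b, 0)).mp rfl
  have h2 : ∀ b, (g (b, 1)).2 = γ b + 1 := by
    intro b
    apply fin2_ne
    intro h
    have : g (b, 1) = g (b, 0) := Prod.ext ((h1 b 1).trans (h1 b 0).symm) h
    have := g.injective this
    simp at this
  have h3 : ∀ b t, (g (b, t)).2 = γ b + t := by
    intro b t
    fin_cases t
    · simp [hγ]
    · exact h2 b
  have hσinj : Function.Injective σ := by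
    intro b b' hbb
    exact (hblk (b, 0) (b', 0)).mpr hbb
  set σ' : Perm B := Equiv.ofBijective σ (Finite.injective_iff_bijective.mp hσinj) with hσ'
  have hg : g = (prodCongrLeft (fun _ : T => σ')) * (prodCongrRight (fun b : B => (Equiv.addRight (γ b) : Perm T))) := by
    ext1 ⟨b, t⟩
    rw [Perm.mul_apply, prodCongrRight_apply, prodCongrLeft_apply]
    apply Prod.ext
    · rw [h1]; rfl
    · rw [h3]; simp [add_comm]
  have hsg : (∏ b, (if γ b = 0 then (1 : ℤˣ) else -1)) = 1 := by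
    rw [hg, map_mul, Perm.sign_prodCongrLeft, Perm.sign_prodCongrRight] at hsign
    simp only [sign_addRight] at hsign
    rw [Finset.prod_const, Finset.card_univ, Fintype.card_fin, Int.units_sq, one_mul] at hsign
    exact hsign
  have hγ0 := gamma_sum γ hsg
  have hb : x.1 + y.1 + z.1 + w.1 = 0 := by
    have := congrArg Prod.fst h
    simpa using this
  have hgx : ∀ u : X, g u = (σ u.1, γ u.1 + u.2) := by
    rintro ⟨b, t⟩
    exact Prod.ext (h1 b t) (h3 b t)
  have hσsum1 : ∑ b, (σ b).1 = 0 := by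
    have : ∑ b, (σ' b).1 = ∑ b : B, b.1 := Equiv.sum_comp σ' (fun b => b.1)
    rw [show (∑ b, (σ b).1) = ∑ b, (σ' b).1 from rfl, this]
    decide
  have hσsum2 : ∑ b, (σ b).2 = 0 := by
    have : ∑ b, (σ' b).2 = ∑ b : B, b.2 := Equiv.sum_comp σ' (fun b => b.2)
    rw [show (∑ b, (σ b).2) = ∑ b, (σ' b).2 from rfl, this]
    decide
  have q1 := gamma_quad (fun b => (σ b).1) hσsum1 x.1 y.1 z.1 w.1 hb
  have q2 := gamma_quad (fun b => (σ b).2) hσsum2 x.1 y.1 z.1 w.1 hb
  have q3 := gamma_quad γ hγ0 x.1 y.1 z.1 w.1 hb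
  have ht : x.2 + y.2 + z.2 + w.2 = 0 := by
    have := congrArg Prod.snd h
    simpa using this
  rw [hgx x, hgx y, hgx z, hgx w]
  apply Prod.ext
  · apply Prod.ext
    · simpa using q1
    · simpa using q2
  · simp only [Prod.snd_add, Prod.snd_zero]
    have : γ x.1 + x.2 + (γ y.1 + y.2) + (γ z.1 + z.2) + (γ w.1 + w.2)
        = (γ x.1 + γ y.1 + γ z.1 + γ w.1) + (x.2 + y.2 + z.2 + w.2) := by abel
    rw [this, q3, ht, add_zero]


/-- preservation of 4-term zero sums -/
def Rel (g : Perm X) : Prop := ∀ x y z w : X, x + y + z + w = 0 ↔ g x + g y + g z + g w = 0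

def RelSub : Subgroup (Perm X) where
  carrier := {g | Rel g}
  one_mem' := fun x y z w => Iff.rfl
  mul_mem' := by
    intro g h hg hh x y z w
    exact (hh x y z w).trans (hg (h x) (h y) (h z) (h w))
  inv_mem' := by
    intro g hg x y z w
    have := hg (g⁻¹ x) (g⁻¹ y) (g⁻¹ z) (g⁻¹ w)
    have hgg : ∀ u : X, g (g⁻¹ u) = u := fun u => by
      rw [← Perm.mul_apply, mul_inv_cancel, Perm.one_apply]
    rw [hgg, hgg, hgg, hgg] at this
    exact this.symm

lemma mem_RelSub {g : Perm X} : g ∈ RelSub ↔ Rel g := Iff.rfl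

/-- the coordinate swap -/
def cswap : Perm X where
  toFun x := ((x.2, x.1.2), x.1.1)
  invFun x := ((x.2, x.1.2), x.1.1)
  left_inv := by rintro ⟨⟨_, _⟩, _⟩; rfl
  right_inv := by rintro ⟨⟨_, _⟩, _⟩; rfl

lemma cswap_rel : Rel cswap := by
  unfold Rel; decide

lemma cswap_sign : Perm.sign cswap = 1 := by decide

lemma cswap_blk : ¬ (∀ x y : X, x.1 = y.1 ↔ (cswap x).1 = (cswap y).1) := by decide

/-- a 3-cycle -/
def dcyc : Perm X := Equiv.swap ((0, 0), 0) ((0, 0), 1) * Equiv.swap ((0, 0), 1) ((0, 1), 0)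

lemma dcyc_sign : Perm.sign dcyc = 1 := by decide

lemma dcyc_not_rel : ¬ Rel dcyc := by
  unfold Rel; decide


section transport
variable {Ω : Type*} [Fintype Ω] [DecidableEq Ω] (f : Ω → Fin 4)

/-- coordinates adapted to the partition -/
lemma exists_coords (hf : ∀ i : Fin 4, Nat.card {x : Ω // f x = i} = 2) :
    ∃ e : Ω ≃ X, ∀ x y : Ω, f x = f y ↔ (e x).1 = (e y).1 := by
  let φ : Fin 4 ≃ B := (finProdFinEquiv : Fin 2 × Fin 2 ≃ Fin 4).symm
  let fib : ∀ i : Fin 4, {x : Ω // f x = i} ≃ Fin 2 := fun i => Finite.equivFinOfCardEq (hf i)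
  let e : Ω ≃ X := (Equiv.sigmaFiberEquiv f).symm.trans ((Equiv.sigmaCongrRight fib).trans
    ((Equiv.sigmaEquivProd (Fin 4) (Fin 2)).trans (Equiv.prodCongr φ (Equiv.refl _))))
  have he : ∀ x : Ω, (e x).1 = φ (f x) := fun x => rfl
  refine ⟨e, fun x y => ?_⟩
  rw [he, he]
  exact φ.injective.eq_iff.symm

variable (e : Ω ≃ X) (hfe : ∀ x y : Ω, f x = f y ↔ (e x).1 = (e y).1)

/-- block preserving permutations -/
def Blk (g : Perm Ω) : Prop := ∀ x y : Ω, f x = f y ↔ f (g x) = f (g y)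

lemma blk_of_mem_closure (g : Perm Ω)
    (hg : g ∈ Subgroup.closure {g : Perm Ω | ∀ x y : Ω, f x = f y ↔ f (g x) = f (g y)}) :
    Blk f g := by
  induction hg using Subgroup.closure_induction with
  | mem g hg => exact hg
  | one => intro x y; rfl
  | mul g h _ _ ihg ihh =>
    intro x y
    exact (ihh x y).trans (ihg (h x) (h y))
  | inv g _ ih =>
    intro x y
    have := ih (g⁻¹ x) (g⁻¹ y)
    have hgg : ∀ u : Ω, g (g⁻¹ u) = u := fun u => by
      rw [← Perm.mul_apply, mul_inv_cancel, Perm.one_apply]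
    rw [hgg, hgg] at this
    exact this.symm

include hfe in
lemma rel_half (g : Perm Ω) (hb : Blk f g) (hs : Perm.sign g = 1) (x y z w : X)
    (h : x + y + z + w = 0) :
    (e.permCongr g) x + (e.permCongr g) y + (e.permCongr g) z + (e.permCongr g) w = 0 := by
  apply lemmaA (e.permCongr g) _ _ x y z w h
  · intro u v
    simp only [Equiv.permCongr_apply]
    rw [← hfe, ← hb, hfe, Equiv.apply_symm_apply, Equiv.apply_symm_apply]
  · rw [Perm.sign_permCongr, hs]

include hfe in
lemma rel_of_blk (g : Perm Ω) (hb : Blk f g) (hs : Perm.sign g = 1) : Rel (e.permCongr g) := by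
  intro x y z w
  refine ⟨rel_half f e hfe g hb hs x y z w, fun h => ?_⟩
  have hb' : Blk f g⁻¹ := by
    intro u v
    have := hb (g⁻¹ u) (g⁻¹ v)
    have hgg : ∀ u : Ω, g (g⁻¹ u) = u := fun u => by
      rw [← Perm.mul_apply, mul_inv_cancel, Perm.one_apply]
    rw [hgg, hgg] at this
    exact this.symm
  have hs' : Perm.sign g⁻¹ = 1 := by rw [map_inv, hs, inv_one]
  have := rel_half f e hfe g⁻¹ hb' hs' _ _ _ _ h
  have hgg : ∀ u : X, (e.permCongr g⁻¹) ((e.permCongr g) u) = u := fun u => by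
    simp only [Equiv.permCongr_apply, Equiv.symm_apply_apply]
    rw [← Perm.mul_apply, inv_mul_cancel, Perm.one_apply, Equiv.apply_symm_apply]
  rw [hgg, hgg, hgg, hgg] at this
  exact this

end transport


theorem main {Ω : Type*} [Fintype Ω] [DecidableEq Ω] (f : Ω → Fin 4)
    (hf : ∀ i : Fin 4, Nat.card {x : Ω // f x = i} = 2) :
    ¬ IsCoatom ((Subgroup.closure {g : Equiv.Perm Ω | ∀ x y : Ω, f x = f y ↔ f (g x) = f (g y)} ⊓
      alternatingGroup Ω).subgroupOf (alternatingGroup Ω)) := by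
  obtain ⟨e, hfe⟩ := exists_coords f hf
  set M : Subgroup (Perm Ω) := RelSub.comap (e.permCongrHom).toMonoidHom with hM
  have hmemM : ∀ g : Perm Ω, g ∈ M ↔ Rel (e.permCongr g) := fun g => Iff.rfl
  rintro ⟨-, hmax⟩
  set H' := (Subgroup.closure {g : Equiv.Perm Ω | ∀ x y : Ω, f x = f y ↔ f (g x) = f (g y)} ⊓
      alternatingGroup Ω).subgroupOf (alternatingGroup Ω) with hH'
  set K := (M ⊓ alternatingGroup Ω).subgroupOf (alternatingGroup Ω) with hK
  have hle : H' ≤ K := by
    rintro ⟨g, hgA⟩ hg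
    rw [hH', Subgroup.mem_subgroupOf] at hg
    rw [hK, Subgroup.mem_subgroupOf]
    refine ⟨?_, hg.2⟩
    exact (hmemM g).mpr (rel_of_blk f e hfe g (blk_of_mem_closure f g hg.1)
      (Perm.mem_alternatingGroup.mp hgA))
  have hconj : ∀ c : Perm X, e.permCongr (e.symm.permCongr c) = c := by
    intro c; apply Equiv.ext; intro x; simp
  -- an element of K outside H'
  set cΩ : Perm Ω := e.symm.permCongr cswap with hcΩ
  have hcA : cΩ ∈ alternatingGroup Ω := by
    rw [Perm.mem_alternatingGroup, Perm.sign_permCongr]; exact cswap_sign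
  have hcK : (⟨cΩ, hcA⟩ : alternatingGroup Ω) ∈ K := by
    rw [hK, Subgroup.mem_subgroupOf]
    refine ⟨(hmemM _).mpr ?_, hcA⟩
    change Rel (e.permCongr (e.symm.permCongr cswap))
    rw [hconj]; exact cswap_rel
  have hcH : (⟨cΩ, hcA⟩ : alternatingGroup Ω) ∉ H' := by
    rw [hH', Subgroup.mem_subgroupOf]
    rintro ⟨h1, -⟩
    have hb := blk_of_mem_closure f cΩ h1
    apply cswap_blk
    intro x y
    have := hb (e.symm x) (e.symm y)
    rw [hfe, hfe (cΩ _), e.apply_symm_apply, e.apply_symm_apply] at this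
    have h2 : ∀ u : X, e (cΩ (e.symm u)) = cswap u := by
      intro u; simp [hcΩ]
    rw [h2, h2] at this
    exact this
  have hlt : H' < K := lt_of_le_of_ne hle (fun h => hcH (h ▸ hcK))
  have hKtop := hmax K hlt
  -- an even permutation outside K
  set dΩ : Perm Ω := e.symm.permCongr dcyc with hdΩ
  have hdA : dΩ ∈ alternatingGroup Ω := by
    rw [Perm.mem_alternatingGroup, Perm.sign_permCongr]; exact dcyc_sign
  have hdK : (⟨dΩ, hdA⟩ : alternatingGroup Ω) ∈ K := by rw [hKtop]; trivial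
  rw [hK, Subgroup.mem_subgroupOf] at hdK
  have h3 := (hmemM _).mp hdK.1
  change Rel (e.permCongr (e.symm.permCongr dcyc)) at h3
  rw [hconj] at h3
  exact dcyc_not_rel h3


end Aux

/-- Let Ω be a set with 8 elements and f : Ω → Fin 4 a labelling whose four fibres all have size 2 (a partition of the 8 points into 4 pairs). Then the group of even permutations preserving this partition, (S₂ ≀ S₄) ∩ A₈, is not a maximal subgroup of the alternating group A₈ (it lies in a subgroup isomorphic to the affine group AGL₃(2)). -/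
theorem result {Ω : Type*} [Fintype Ω] [DecidableEq Ω] (h8 : Fintype.card Ω = 8)
    (f : Ω → Fin 4) (hf : ∀ i : Fin 4, Nat.card {x : Ω // f x = i} = 2) :
    ¬ IsCoatom ((Subgroup.closure {g : Equiv.Perm Ω | ∀ x y : Ω, f x = f y ↔ f (g x) = f (g y)} ⊓ alternatingGroup Ω).subgroupOf (alternatingGroup Ω)) := by
  exact main f hf

end Cfsg.Agent.S5910
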