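import Cfsg.Statements.S5913
-- import your own Cfsg.Agent.* helpers here

set_option autoImplicit false
open Cfsg

namespace Cfsg.Agent.S5913

/-- Let S be a non-abelian simple group and n a natural number. Every normal subgroup N of the direct power S^n (functions Fin n → S) is a subproduct: there is a set T of coordinates such that N consists exactly of the elements whose coordinates outside T are trivial. In particular the minimal normal subgroups of S^n are its n factors. -/
theorem result {S : Type*} [Group S] [IsSimpleGroup S] (hS : ¬ IsMulCommutative S) (n : ℕ)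
    (N : Subgroup (Fin n → S)) [N.Normal] :
    ∃ T : Finset (Fin n), ∀ x : Fin n → S, x ∈ N ↔ ∀ i, i ∉ T → x i = 1 := by
  classical
  -- the centre of `S` is trivial
  have hcenter : Subgroup.center S = ⊥ := by
    rcases (inferInstance : (Subgroup.center S).Normal).eq_bot_or_eq_top with h | h
    · exact h
    · exfalso
      apply hS
      refine ⟨⟨fun a b => ?_⟩⟩
      have hb : b ∈ Subgroup.center S := by rw [h]; trivial
      exact Subgroup.mem_center_iff.mp hb a
  -- for each coordinate, the normal subgroup of `S` cut out by `N`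
  let A : Fin n → Subgroup S := fun i =>
    { carrier := {s | Pi.mulSingle i s ∈ N}
      one_mem' := by simp
      mul_mem' := by
        intro a b ha hb
        simp only [Set.mem_ofPred_eq] at ha hb ⊢
        rw [Pi.mulSingle_mul]
        exact N.mul_mem ha hb
      inv_mem' := by
        intro a ha
        simp only [Set.mem_ofPred_eq] at ha ⊢
        rw [Pi.mulSingle_inv]
        exact N.inv_mem ha }
  have hAn : ∀ i, (A i).Normal := by
    intro i
    refine ⟨fun s hs t => ?_⟩
    change Pi.mulSingle i (t * s * t⁻¹) ∈ N
    rw [Pi.mulSingle_mul, Pi.mulSingle_mul, Pi.mulSingle_inv]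
    exact ‹N.Normal›.conj_mem _ hs _
  have hkey : ∀ i, (∃ x ∈ N, x i ≠ 1) → ∀ s : S, Pi.mulSingle i s ∈ N := by
    rintro i ⟨x, hx, hxi⟩ s
    have hnc : x i ∉ Subgroup.center S := by
      rw [hcenter, Subgroup.mem_bot]; exact hxi
    rw [Subgroup.mem_center_iff] at hnc
    push Not at hnc
    obtain ⟨g, hg⟩ := hnc
    -- the commutator of `x` with `mulSingle i g`
    have hcomm : Pi.mulSingle i g * x * (Pi.mulSingle i g)⁻¹ * x⁻¹ ∈ N :=
      N.mul_mem (‹N.Normal›.conj_mem x hx _) (N.inv_mem hx)
    have heq : Pi.mulSingle i g * x * (Pi.mulSingle i g)⁻¹ * x⁻¹ = Pi.mulSingle i (g * x i * g⁻¹ * (x i)⁻¹) := by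
      ext j
      by_cases hj : j = i
      · subst hj
        simp
      · simp [Pi.mulSingle_apply, hj]
    rw [heq] at hcomm
    have hne : g * x i * g⁻¹ * (x i)⁻¹ ≠ 1 := by
      intro h
      apply hg
      have := mul_inv_eq_one.mp h
      rw [mul_inv_eq_iff_eq_mul] at this
      exact this
    have hAtop : A i = ⊤ := by
      rcases (hAn i).eq_bot_or_eq_top with h | h
      · exfalso
        apply hne
        have : g * x i * g⁻¹ * (x i)⁻¹ ∈ A i := hcomm
        rw [h, Subgroup.mem_bot] at this
        exact this
      · exact h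
    have : s ∈ A i := by rw [hAtop]; trivial
    exact this
  refine ⟨Finset.univ.filter (fun i => ∃ x ∈ N, x i ≠ 1), fun x => ⟨fun hx i hi => ?_, fun hx => ?_⟩⟩
  · by_contra hxi
    exact hi (Finset.mem_filter.mpr ⟨Finset.mem_univ _, x, hx, hxi⟩)
  · rw [← Finset.noncommProd_mulSingle x]
    apply Subgroup.noncommProd_mem
    intro i _
    by_cases hi : i ∈ Finset.univ.filter (fun i => ∃ x ∈ N, x i ≠ 1)
    · exact hkey i (Finset.mem_filter.mp hi).2 (x i)
    · rw [hx i hi]
      simp

end Cfsg.Agent.S5913
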