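import Cfsg.Statements.S5914
import Cfsg.Agent.Lib.Helper19.CharSimple

set_option autoImplicit false
open Cfsg

namespace Cfsg.Agent.S5914

/-- A non-trivial finite group G is characteristically simple (its only characteristic subgroups are 1 and G) if and only if G is isomorphic to a direct power S^n (n ≥ 1) of some simple group S (possibly cyclic of prime order). -/
theorem result {G : Type*} [Group G] [Finite G] [Nontrivial G] :
    (∀ H : Subgroup G, H.Characteristic → H = ⊥ ∨ H = ⊤) ↔
    ∃ (S : Type) (_ : Group S) (_ : IsSimpleGroup S) (n : ℕ), 1 ≤ n ∧ Nonempty (G ≃* (Fin n → S)) := by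
  constructor
  · intro h
    obtain ⟨S, inst, m, hs, hm, he⟩ := Cfsg.Agent.Lib.Helper19.exists_pi_equiv_of_charSimple h
    exact ⟨S, inst, hs, m, hm, he⟩
  · rintro ⟨S, inst, hs, n, -, ⟨e⟩⟩
    apply Cfsg.Agent.Lib.Helper19.charSimple_of_mulEquiv e
    intro K hK
    exact Cfsg.Agent.Lib.Helper19.characteristic_pi_eq_bot_or_top K

end Cfsg.Agent.S5914
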