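import Cfsg.Statements.S5938
import Cfsg.Agent.Lib.Helper13.DkMax
import Cfsg.Agent.S0803

set_option autoImplicit false
open Cfsg
open Cfsg.Agent.Lib.Helper13.Dk
open scoped commutatorElement

namespace Cfsg.Agent.S5938

/-- Let p be a prime with p ≡ ±1 (mod 8) and F a field with p elements. Then PSL_2(F) has a maximal subgroup isomorphic to the symmetric group S_4. -/
theorem result {F : Type*} [Field F] [Fintype F] (p : ℕ) [Fact p.Prime] (hF : Fintype.card F = p) (hp : p % 8 = 1 ∨ p % 8 = 7) : ∃ H : Subgroup (Matrix.ProjectiveSpecialLinearGroup (Fin 2) F), IsCoatom H ∧ Nonempty (H ≃* Equiv.Perm (Fin 4)) := by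
  classical
  have hpp : p.Prime := Fact.out
  have hch : CharP F p := charP_of_card_eq_prime hF
  have hp7 : 7 ≤ p := by
    have h2 := hpp.two_le
    rcases hp with h | h
    · by_contra hcon
      have : p = 1 := by omega
      omega
    · omega
  have hsq : p ^ 2 % 16 = 1 := by
    have h16 : p % 16 = 1 ∨ p % 16 = 9 ∨ p % 16 = 7 ∨ p % 16 = 15 := by omega
    rw [Nat.pow_mod]
    rcases h16 with h | h | h | h <;> rw [h]
  obtain ⟨H, ⟨f⟩⟩ := (Cfsg.Agent.S0803.result hF).mpr hsq
  refine ⟨H, ?_, ⟨f⟩⟩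
  have hH24 : Nat.card H = 24 := by
    rw [Nat.card_congr f.toEquiv, Nat.card_eq_fintype_card, Fintype.card_perm, Fintype.card_fin]
    rfl
  have hG := card_PSL2_mul_gcd (K := F)
  rw [hF] at hG
  have hgcd : Nat.gcd 2 (p - 1) = 2 := by
    have : 2 ∣ p - 1 := by omega
    exact Nat.gcd_eq_left this
  rw [hgcd] at hG
  have hGbig : 168 ≤ Nat.card (Matrix.ProjectiveSpecialLinearGroup (Fin 2) F) := by
    have h1 : 7 * (7 ^ 2 - 1) ≤ p * (p ^ 2 - 1) := by
      apply Nat.mul_le_mul hp7
      apply Nat.sub_le_sub_right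
      exact Nat.pow_le_pow_left hp7 2
    omega
  have hord : ∀ h : H, orderOf h ≤ 4 := by
    intro h
    rw [← MulEquiv.orderOf_eq f h]
    exact s4_orderOf_le _
  constructor
  · intro htop
    rw [htop, Subgroup.card_top] at hH24
    omega
  · intro M hHM
    by_contra hM
    have hlt := card_lt_of_lt hHM
    have hdvd := card_dvd_of_lt hHM
    have h2le := two_mul_card_le_of_lt hHM
    rw [hH24] at hlt hdvd h2le
    have hD := dickson_subgroup' p M
    rw [hF] at hD
    rcases hD with ⟨k, hk, hc⟩ | hN | ⟨⟨e⟩⟩ | ⟨⟨e⟩⟩ | ⟨⟨e⟩⟩ | ⟨K, hKf, hKt, m, hm, hiso⟩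
    · have hk0 : k ≠ 0 := by
        rintro rfl
        rw [hgcd] at hk
        rcases hk with hk | hk
        · have := Nat.eq_zero_of_zero_dvd hk
          omega
        · have := Nat.eq_zero_of_zero_dvd hk
          omega
      rcases hc with ⟨hcyc, -⟩ | ⟨⟨e⟩⟩
      · obtain ⟨h, hh, hcard⟩ := exists_orderOf_of_cyclic M H hHM.le
        have := hord ⟨h, hh⟩
        rw [Subgroup.orderOf_mk] at this
        omega
      · obtain ⟨h, hh, hcard⟩ := exists_orderOf_of_dihedral M H hHM.le hk0 e
        have := hord ⟨h, hh⟩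
        rw [Subgroup.orderOf_mk] at this
        omega
    · obtain ⟨n, hn⟩ := orderOf_commutator_dvd M H hHM.le hN.2.2 f (Equiv.swap 0 1) (Equiv.swap 1 2)
      have h3 : orderOf ⁅(Equiv.swap 0 1 : Equiv.Perm (Fin 4)), (Equiv.swap 1 2 : Equiv.Perm (Fin 4))⁆ = 3 := by
        have : Fact (Nat.Prime 3) := ⟨Nat.prime_three⟩
        exact orderOf_eq_prime (p := 3) (by decide) (by decide)
      rw [h3] at hn
      have := (Nat.prime_dvd_prime_iff_eq Nat.prime_three hpp).mp (Nat.Prime.dvd_of_dvd_pow Nat.prime_three hn)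
      omega
    · have h12 : Nat.card M = 12 := by
        rw [Nat.card_congr e.toEquiv, Nat.card_eq_fintype_card]
        rfl
      omega
    · have h24 : Nat.card M = 24 := by
        rw [Nat.card_congr e.toEquiv, Nat.card_eq_fintype_card, Fintype.card_perm, Fintype.card_fin]
        rfl
      omega
    · have h60 : Nat.card M = 60 := by
        rw [Nat.card_congr e.toEquiv, Nat.card_eq_fintype_card]
        rfl
      rw [h60] at hdvd
      omega
    · exact hM (eq_top_of_prime_field hpp hF M K m hm hiso)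

end Cfsg.Agent.S5938
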