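import Cfsg.Statements.S5939
import Cfsg.Agent.Lib.Helper13.DkMax
import Cfsg.Agent.S0804

set_option autoImplicit false
open Cfsg
open Cfsg.Agent.Lib.Helper13.Dk
open scoped commutatorElement

namespace Cfsg.Agent.S5939

theorem pow_eq_prime_sq {r m p : ℕ} (hp : p.Prime) (h : r ^ m = p ^ 2) :
    (r = p ^ 2 ∧ m = 1) ∨ (r = p ∧ m = 2) := by
  have hm0 : m ≠ 0 := by
    rintro rfl
    rw [pow_zero] at h
    have := hp.two_le
    have : 4 ≤ p ^ 2 := by nlinarith
    omega
  have hdvd : r ∣ p ^ 2 := by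
    rw [← h]; exact dvd_pow_self r hm0
  obtain ⟨a, ha, rfl⟩ := (Nat.dvd_prime_pow hp).mp hdvd
  rw [← pow_mul] at h
  have ham : a * m = 2 := Nat.pow_right_injective hp.two_le h
  have ha3 : a = 0 ∨ a = 1 ∨ a = 2 := by omega
  rcases ha3 with rfl | rfl | rfl
  · omega
  · right; exact ⟨pow_one p, by omega⟩
  · left; exact ⟨rfl, by omega⟩

/-- Let p be a prime and F a finite field of characteristic p such that either F has p elements and p ≡ ±1 (mod 10), or F has p² elements and p ≡ ±3 (mod 10). Then PSL_2(F) has a maximal subgroup isomorphic to the alternating group A_5. -/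
theorem result {F : Type*} [Field F] [Fintype F] (p : ℕ) [Fact p.Prime] [CharP F p] (h : (Fintype.card F = p ∧ (p % 10 = 1 ∨ p % 10 = 9)) ∨ (Fintype.card F = p ^ 2 ∧ (p % 10 = 3 ∨ p % 10 = 7))) : ∃ H : Subgroup (Matrix.ProjectiveSpecialLinearGroup (Fin 2) F), IsCoatom H ∧ Nonempty (H ≃* alternatingGroup (Fin 5)) := by
  classical
  have hpp : p.Prime := Fact.out
  set q := Fintype.card F with hq
  have hF : Fintype.card F = q := rfl
  have hpodd : p % 2 = 1 := by
    rcases h with ⟨-, h⟩ | ⟨-, h⟩ <;> omega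
  have hp3 : 3 ≤ p := by
    have := hpp.two_le
    by_contra hcon
    have : p = 2 := by omega
    omega
  -- `5 ∤ p (p² - 1)` in the second case
  have hno5 : (p % 10 = 3 ∨ p % 10 = 7) → ¬ 5 ∣ p * (p ^ 2 - 1) := by
    intro h37 h5
    rcases (Nat.Prime.dvd_mul Nat.prime_five).mp h5 with h' | h'
    · have hp5 : p = 5 := ((Nat.prime_dvd_prime_iff_eq Nat.prime_five hpp).mp h').symm
      omega
    · have h1 : p ^ 2 % 5 = 1 := by
        have hp2 : 1 ≤ p ^ 2 := Nat.one_le_pow _ _ (by omega)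
        omega
      have h5 : p % 5 = 2 ∨ p % 5 = 3 := by omega
      rw [Nat.pow_mod] at h1
      rcases h5 with h | h <;> rw [h] at h1 <;> norm_num at h1
  have hq5 : 5 ∣ q * (q ^ 2 - 1) := by
    rcases h with ⟨hFp, h19⟩ | ⟨hFp, h37⟩
    · rw [hFp]
      apply Dvd.dvd.mul_left
      have h1 : p ^ 2 % 5 = 1 := by
        have h5 : p % 5 = 1 ∨ p % 5 = 4 := by omega
        rw [Nat.pow_mod]
        rcases h5 with h | h <;> rw [h]
      have hp2 : 1 ≤ p ^ 2 := Nat.one_le_pow _ _ (by omega)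
      omega
    · rw [hFp]
      apply Dvd.dvd.mul_left
      have h1 : (p ^ 2) ^ 2 % 5 = 1 := by
        have h5 : p % 5 = 2 ∨ p % 5 = 3 := by omega
        rw [← pow_mul, Nat.pow_mod]
        rcases h5 with h | h <;> rw [h]
      have hp2 : 1 ≤ (p ^ 2) ^ 2 := Nat.one_le_pow _ _ (Nat.one_le_pow _ _ (by omega))
      omega
  have hq9 : 9 ≤ q := by
    rcases h with ⟨hFp, h19⟩ | ⟨hFp, h37⟩
    · rw [hFp]
      by_contra hcon
      have : p = 1 := by omega
      omega
    · rw [hFp]
      nlinarith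
  have hqodd : q % 2 = 1 := by
    rcases h with ⟨hFp, h19⟩ | ⟨hFp, h37⟩
    · rw [hFp]; exact hpodd
    · rw [hFp, Nat.pow_mod, hpodd]
  obtain ⟨H, ⟨f⟩⟩ := (Cfsg.Agent.S0804.result hF).mpr hq5
  refine ⟨H, ?_, ⟨f⟩⟩
  have hA5 : Nat.card (alternatingGroup (Fin 5)) = 60 := by
    rw [Nat.card_eq_fintype_card]; rfl
  have hH60 : Nat.card H = 60 := by
    rw [Nat.card_congr f.toEquiv, hA5]
  have hG := card_PSL2_mul_gcd (K := F)
  rw [hF] at hG
  have hgcd : Nat.gcd 2 (q - 1) = 2 := by
    have : 2 ∣ q - 1 := by omega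
    exact Nat.gcd_eq_left this
  rw [hgcd] at hG
  have hGbig : 360 ≤ Nat.card (Matrix.ProjectiveSpecialLinearGroup (Fin 2) F) := by
    have h1 : 9 * (9 ^ 2 - 1) ≤ q * (q ^ 2 - 1) := by
      apply Nat.mul_le_mul hq9
      apply Nat.sub_le_sub_right
      exact Nat.pow_le_pow_left hq9 2
    omega
  have hord : ∀ h : H, orderOf h ≤ 5 := by
    intro h
    rw [← MulEquiv.orderOf_eq f h]
    exact a5_orderOf_le _
  constructor
  · intro htop
    rw [htop, Subgroup.card_top] at hH60
    omega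
  · intro M hHM
    by_contra hM
    have hlt := card_lt_of_lt hHM
    have hdvd := card_dvd_of_lt hHM
    have h2le := two_mul_card_le_of_lt hHM
    rw [hH60] at hlt hdvd h2le
    have hD := dickson_subgroup' p M
    rw [hF] at hD
    rcases hD with ⟨k, hk, hc⟩ | hN | ⟨⟨e⟩⟩ | ⟨⟨e⟩⟩ | ⟨⟨e⟩⟩ | ⟨K, hKf, hKt, m, hm, hiso⟩
    · have hk0 : k ≠ 0 := by
        rintro rfl
        rw [hgcd] at hk
        rcases hk with hk | hk
        · have := Nat.eq_zero_of_zero_dvd hk
          omega
        · have := Nat.eq_zero_of_zero_dvd hk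
          omega
      rcases hc with ⟨hcyc, -⟩ | ⟨⟨e⟩⟩
      · obtain ⟨h, hh, hcard⟩ := exists_orderOf_of_cyclic M H hHM.le
        have := hord ⟨h, hh⟩
        rw [Subgroup.orderOf_mk] at this
        omega
      · obtain ⟨h, hh, hcard⟩ := exists_orderOf_of_dihedral M H hHM.le hk0 e
        have := hord ⟨h, hh⟩
        rw [Subgroup.orderOf_mk] at this
        omega
    · let x : alternatingGroup (Fin 5) :=
        ⟨Equiv.swap 0 1 * Equiv.swap 1 2, Equiv.Perm.mem_alternatingGroup.mpr (by decide)⟩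
      let y : alternatingGroup (Fin 5) :=
        ⟨Equiv.swap 0 1 * Equiv.swap 2 3, Equiv.Perm.mem_alternatingGroup.mpr (by decide)⟩
      obtain ⟨n, hn⟩ := orderOf_commutator_dvd M H hHM.le hN.2.2 f x y
      have h2 : orderOf ⁅x, y⁆ = 2 := by
        rw [← Subgroup.orderOf_coe]
        exact orderOf_eq_prime (p := 2) (by decide) (by decide)
      rw [h2] at hn
      have := (Nat.prime_dvd_prime_iff_eq Nat.prime_two hpp).mp (Nat.Prime.dvd_of_dvd_pow Nat.prime_two hn)
      omega
    · have h12 : Nat.card M = 12 := by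
        rw [Nat.card_congr e.toEquiv, Nat.card_eq_fintype_card]; rfl
      omega
    · have h24 : Nat.card M = 24 := by
        rw [Nat.card_congr e.toEquiv, Nat.card_eq_fintype_card, Fintype.card_perm, Fintype.card_fin]
        rfl
      omega
    · have h60 : Nat.card M = 60 := by
        rw [Nat.card_congr e.toEquiv, hA5]
      omega
    · rcases h with ⟨hFp, h19⟩ | ⟨hFp, h37⟩
      · exact hM (eq_top_of_prime_field hpp hFp M K m (hm.trans hFp) hiso)
      · rcases pow_eq_prime_sq hpp (hm.trans hFp) with ⟨hK, -⟩ | ⟨hK, -⟩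
        · exact hM (eq_top_of_card_field_eq M K (hK.trans hFp.symm) hiso)
        · apply hno5 h37
          rcases hiso with ⟨⟨e⟩⟩ | ⟨⟨e⟩⟩
          · have h1 := card_PSL2_mul_gcd (K := K)
            rw [← Nat.card_congr e.toEquiv, hK] at h1
            rw [← h1]
            exact Dvd.dvd.mul_right ((by norm_num : 5 ∣ 60).trans hdvd) _
          · have h1 := card_PGL2 (K := K)
            rw [← Nat.card_congr e.toEquiv, hK] at h1
            rw [← h1]
            exact (by norm_num : 5 ∣ 60).trans hdvd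

end Cfsg.Agent.S5939
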