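import Cfsg.Statements.S5940
import Cfsg.Agent.Lib.Helper13.DkMax
import Cfsg.Agent.S0802
import Cfsg.Agent.S0803
import Cfsg.Agent.S0804

set_option autoImplicit false
open Cfsg
open Cfsg.Agent.Lib.Helper13.Dk
open scoped commutatorElement

namespace Cfsg.Agent.S5940

/-- Let p ≥ 5 be a prime with p ≡ ±3 (mod 8) and p ≢ ±1 (mod 10), and F a field with p elements. Then PSL_2(F) has a maximal subgroup isomorphic to the alternating group A_4. -/
theorem result {F : Type*} [Field F] [Fintype F] (p : ℕ) [Fact p.Prime] (hF : Fintype.card F = p) (h5 : 5 ≤ p) (h8 : p % 8 = 3 ∨ p % 8 = 5) (h10 : p % 10 ≠ 1 ∧ p % 10 ≠ 9) : ∃ H : Subgroup (Matrix.ProjectiveSpecialLinearGroup (Fin 2) F), IsCoatom H ∧ Nonempty (H ≃* alternatingGroup (Fin 4)) := by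
  classical
  have hpp : p.Prime := Fact.out
  have hch : CharP F p := charP_of_card_eq_prime hF
  have hF1 : Fintype.card F = p ^ 1 := by rw [pow_one]; exact hF
  obtain ⟨H, ⟨f⟩⟩ := (Cfsg.Agent.S0802.result p 1 hF1).mpr (by rintro ⟨h2, -⟩; omega)
  refine ⟨H, ?_, ⟨f⟩⟩
  have hA4 : Nat.card (alternatingGroup (Fin 4)) = 12 := by
    rw [Nat.card_eq_fintype_card]; rfl
  have hH12 : Nat.card H = 12 := by
    rw [Nat.card_congr f.toEquiv, hA4]
  have hG := card_PSL2_mul_gcd (K := F)
  rw [hF] at hG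
  have hgcd : Nat.gcd 2 (p - 1) = 2 := by
    have : 2 ∣ p - 1 := by omega
    exact Nat.gcd_eq_left this
  rw [hgcd] at hG
  have hGbig : 60 ≤ Nat.card (Matrix.ProjectiveSpecialLinearGroup (Fin 2) F) := by
    have h1 : 5 * (5 ^ 2 - 1) ≤ p * (p ^ 2 - 1) := by
      apply Nat.mul_le_mul h5
      apply Nat.sub_le_sub_right
      exact Nat.pow_le_pow_left h5 2
    omega
  have hord : ∀ h : H, orderOf h ≤ 3 := by
    intro h
    rw [← MulEquiv.orderOf_eq f h]
    exact a4_orderOf_le _
  constructor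
  · intro htop
    rw [htop, Subgroup.card_top] at hH12
    omega
  · intro M hHM
    by_contra hM
    have hlt := card_lt_of_lt hHM
    have hdvd := card_dvd_of_lt hHM
    have h2le := two_mul_card_le_of_lt hHM
    rw [hH12] at hlt hdvd h2le
    have hD := dickson_subgroup' p M
    rw [hF] at hD
    rcases hD with ⟨k, hk, hc⟩ | hN | ⟨⟨e⟩⟩ | ⟨⟨e⟩⟩ | ⟨⟨e⟩⟩ | ⟨K, hKf, hKt, m, hm, hiso⟩
    · have hk0 : k ≠ 0 := by
        rintro rfl
        rw [hgcd] at hk
        rcases hk with hk | hk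
        · have := Nat.eq_zero_of_zero_dvd hk
          omega
        · have := Nat.eq_zero_of_zero_dvd hk
          omega
      rcases hc with ⟨hcyc, -⟩ | ⟨⟨e⟩⟩
      · obtain ⟨h, hh, hcard⟩ := exists_orderOf_of_cyclic M H hHM.le
        have := hord ⟨h, hh⟩
        rw [Subgroup.orderOf_mk] at this
        omega
      · obtain ⟨h, hh, hcard⟩ := exists_orderOf_of_dihedral M H hHM.le hk0 e
        have := hord ⟨h, hh⟩
        rw [Subgroup.orderOf_mk] at this
        omega
    · let x : alternatingGroup (Fin 4) :=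
        ⟨Equiv.swap 0 1 * Equiv.swap 1 2, Equiv.Perm.mem_alternatingGroup.mpr (by decide)⟩
      let y : alternatingGroup (Fin 4) :=
        ⟨Equiv.swap 0 1 * Equiv.swap 2 3, Equiv.Perm.mem_alternatingGroup.mpr (by decide)⟩
      obtain ⟨n, hn⟩ := orderOf_commutator_dvd M H hHM.le hN.2.2 f x y
      have h2 : orderOf ⁅x, y⁆ = 2 := by
        rw [← Subgroup.orderOf_coe]
        exact orderOf_eq_prime (p := 2) (by decide) (by decide)
      rw [h2] at hn
      have := (Nat.prime_dvd_prime_iff_eq Nat.prime_two hpp).mp (Nat.Prime.dvd_of_dvd_pow Nat.prime_two hn)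
      omega
    · have h12 : Nat.card M = 12 := by
        rw [Nat.card_congr e.toEquiv, hA4]
      omega
    · have hsq := (Cfsg.Agent.S0803.result hF).mp ⟨M, ⟨e⟩⟩
      have h16 : p % 16 = 3 ∨ p % 16 = 11 ∨ p % 16 = 5 ∨ p % 16 = 13 := by omega
      rw [Nat.pow_mod] at hsq
      rcases h16 with h | h | h | h <;> rw [h] at hsq <;> norm_num at hsq
    · have h5dvd := (Cfsg.Agent.S0804.result hF).mp ⟨M, ⟨e⟩⟩
      have h60 : Nat.card M = 60 := by
        rw [Nat.card_congr e.toEquiv, Nat.card_eq_fintype_card]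
        rfl
      rcases (Nat.Prime.dvd_mul Nat.prime_five).mp h5dvd with h | h
      · have hp5 : p = 5 := ((Nat.prime_dvd_prime_iff_eq Nat.prime_five hpp).mp h).symm
        apply hM
        apply eq_top_of_card_ge
        rw [h60]
        rw [hp5] at hG
        omega
      · have h1 : p ^ 2 % 5 = 1 := by
          have hp2 : 1 ≤ p ^ 2 := Nat.one_le_pow _ _ (by omega)
          omega
        have h5 : p % 5 = 0 ∨ p % 5 = 1 ∨ p % 5 = 2 ∨ p % 5 = 3 ∨ p % 5 = 4 := by omega
        rw [Nat.pow_mod] at h1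
        rcases h5 with h | h | h | h | h <;> rw [h] at h1 <;> norm_num at h1 <;> omega
    · exact hM (eq_top_of_prime_field hpp hF M K m hm hiso)

end Cfsg.Agent.S5940
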