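import Cfsg.Statements.S5941
import Cfsg.Agent.Lib.Helper13.DkMax
import Cfsg.Agent.S0805

set_option autoImplicit false
open Cfsg
open Cfsg.Agent.Lib.Helper13.Dk

namespace Cfsg.Agent.S5941

/-- Let K and F be finite fields of odd characteristic with #F = (#K)². Then PSL_2(F) has a maximal subgroup isomorphic to PGL_2(K). -/
theorem result {F K : Type*} [Field F] [Fintype F] [Field K] [Fintype K] (q : ℕ) (hK : Fintype.card K = q) (hF : Fintype.card F = q ^ 2) (hq : Odd q) : ∃ H : Subgroup (Matrix.ProjectiveSpecialLinearGroup (Fin 2) F), IsCoatom H ∧ Nonempty (H ≃* Matrix.ProjGenLinGroup (Fin 2) K) := by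
  classical
  obtain ⟨p, hp⟩ := CharP.exists F
  have hpF : Fact p.Prime := ⟨CharP.char_is_prime F p⟩
  have hq2 : 2 ≤ q := by rw [← hK]; exact Fintype.one_lt_card
  have hq3 : 3 ≤ q := by
    obtain ⟨j, hj⟩ := hq
    omega
  have hQodd : Odd (q ^ 2) := hq.pow
  obtain ⟨H, ⟨f⟩⟩ := ((Cfsg.Agent.S0805.result (K := K) hF hQodd 2 (by norm_num)
    (by rw [hK])).2).mpr (by decide)
  refine ⟨H, ?_, ⟨f⟩⟩
  -- arithmetic set-up
  obtain ⟨a, ha⟩ : ∃ a, q ^ 2 = a + 1 := ⟨q ^ 2 - 1, by have := Nat.one_le_pow 2 q (by omega); omega⟩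
  have ha8 : 8 ≤ a := by nlinarith
  have hqq : q * q = a + 1 := by rw [← ha]; ring
  have hH : Nat.card H = q * a := by
    rw [Nat.card_congr f.toEquiv, card_PGL2, hK, ha, Nat.add_sub_cancel]
  have hG := card_PSL2_mul_gcd (K := F)
  rw [hF] at hG
  have hgcd : Nat.gcd 2 (q ^ 2 - 1) = 2 := by
    have : 2 ∣ q ^ 2 - 1 := by
      obtain ⟨j, hj⟩ := hQodd
      omega
    exact Nat.gcd_eq_left this
  have hsq : (a + 1) ^ 2 - 1 = a * (a + 2) := by
    apply Nat.sub_eq_of_eq_add; ring
  rw [hgcd, ha, hsq] at hG
  have hqa : 3 * a ≤ q * a := Nat.mul_le_mul_right a hq3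
  constructor
  · intro htop
    rw [htop, Subgroup.card_top] at hH
    rw [hH] at hG
    have h1 : (a + 1) * (a * (a + 2)) = a * ((a + 1) * (a + 2)) := by ring
    have h2 : q * a * 2 = a * (2 * q) := by ring
    rw [h1, h2] at hG
    have h3 := Nat.eq_of_mul_eq_mul_left (by omega : 0 < a) hG
    nlinarith
  · intro M hHM
    by_contra hM
    have hlt := card_lt_of_lt hHM
    have hdvd := card_dvd_of_lt hHM
    have h2le := two_mul_card_le_of_lt hHM
    rw [hH] at hlt hdvd h2le
    have hD := dickson_subgroup' p M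
    rw [hF] at hD
    unfold Concl' ConclN at hD
    rw [hgcd] at hD
    rcases hD with ⟨k, hk, hc⟩ | hN | ⟨⟨e⟩⟩ | ⟨⟨e⟩⟩ | ⟨⟨e⟩⟩ | ⟨K', hKf, hKt, m, hm, hiso⟩
    · have hkle : 2 * k ≤ a + 2 := by
        rw [ha] at hk
        rcases hk with hk | hk
        · have := Nat.le_of_dvd (by omega) hk
          omega
        · have := Nat.le_of_dvd (by omega) hk
          omega
      rcases hc with ⟨hcyc, hcard⟩ | ⟨⟨e⟩⟩
      · omega
      · have : Nat.card M = 2 * k := by
          rw [Nat.card_congr e.toEquiv, DihedralGroup.nat_card]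
        omega
    · have h1 := hN.2.1
      rw [ha, Nat.add_sub_cancel] at h1
      obtain ⟨c, hc⟩ := hdvd
      rw [hc] at h1
      have h2 : q * a * c * 2 = (q * a) * (2 * c) := by ring
      have h3 : (a + 1) * a = (q * a) * q := by rw [← hqq]; ring
      rw [h2, h3] at h1
      have h4 : 2 * c ∣ q := Nat.dvd_of_mul_dvd_mul_left (by positivity) h1
      have h5 : 2 ∣ q := (Dvd.intro c rfl).trans h4
      obtain ⟨j, hj⟩ := hq
      omega
    · have h12 : Nat.card M = 12 := by
        rw [Nat.card_congr e.toEquiv, Nat.card_eq_fintype_card]; rfl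
      omega
    · have h24 : Nat.card M = 24 := by
        rw [Nat.card_congr e.toEquiv, Nat.card_eq_fintype_card, Fintype.card_perm, Fintype.card_fin]
        rfl
      omega
    · have h60 : Nat.card M = 60 := by
        rw [Nat.card_congr e.toEquiv, Nat.card_eq_fintype_card]; rfl
      rw [h60] at hdvd h2le
      by_cases hq3' : q = 3
      · subst hq3'
        have : a = 8 := by omega
        subst this
        norm_num at hdvd
      · have hq5 : 5 ≤ q := by
          obtain ⟨j, hj⟩ := hq
          omega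
        have : 24 ≤ a := by nlinarith
        nlinarith
    · by_cases hs : Fintype.card K' = Fintype.card F
      · exact hM (eq_top_of_card_field_eq M K' hs hiso)
      · rw [hF] at hs
        have hm2 : 2 ≤ m := by
          by_contra hcon
          have : m = 0 ∨ m = 1 := by omega
          rcases this with rfl | rfl
          · rw [pow_zero] at hm
            omega
          · rw [pow_one] at hm
            exact hs hm
        have hs1 : 1 ≤ Fintype.card K' := Fintype.card_pos
        have hsle : Fintype.card K' ≤ q := by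
          have h1 : Fintype.card K' ^ 2 ≤ Fintype.card K' ^ m := Nat.pow_le_pow_right hs1 hm2
          rw [hm] at h1
          exact (Nat.pow_le_pow_iff_left (by norm_num)).mp h1
        have hMle : Nat.card M ≤ Fintype.card K' * (Fintype.card K' ^ 2 - 1) := by
          rcases hiso with ⟨⟨e⟩⟩ | ⟨⟨e⟩⟩
          · have h1 := card_PSL2_mul_gcd (K := K')
            rw [← Nat.card_congr e.toEquiv] at h1
            rw [← h1]
            exact Nat.le_mul_of_pos_right _ (Nat.gcd_pos_of_pos_left _ (by norm_num))
          · have h1 := card_PGL2 (K := K')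
            rw [← Nat.card_congr e.toEquiv] at h1
            exact h1.le
        have h3 : Fintype.card K' * (Fintype.card K' ^ 2 - 1) ≤ q * (q ^ 2 - 1) :=
          Nat.mul_le_mul hsle (Nat.sub_le_sub_right (Nat.pow_le_pow_left hsle 2) 1)
        rw [ha, Nat.add_sub_cancel] at h3
        omega

end Cfsg.Agent.S5941
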