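import Cfsg.Statements.S5942
import Cfsg.Agent.Lib.Helper13.DkMax
import Cfsg.Agent.Lib.Helper13.DkSubArith
import Cfsg.Agent.S0803
import Cfsg.Agent.S0804
import Cfsg.Agent.S0805

set_option autoImplicit false
open Cfsg
open Cfsg.Agent.Lib.Helper13.Dk

namespace Cfsg.Agent.S5942

theorem nine_pow_mod_sixteen {r : ℕ} (hr : Odd r) : 9 ^ r % 16 = 9 := by
  obtain ⟨j, rfl⟩ := hr
  rw [pow_succ, pow_mul, Nat.mul_mod, Nat.pow_mod]
  norm_num

theorem nine_pow_mod_five {r : ℕ} (hr : Odd r) : 9 ^ r % 5 = 4 := by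
  obtain ⟨j, rfl⟩ := hr
  rw [pow_succ, pow_mul, Nat.mul_mod, Nat.pow_mod]
  norm_num

/-- Let K and F be finite fields of odd characteristic with #F = (#K)^r for an odd prime r. Then PSL_2(F) has a maximal subgroup isomorphic to PSL_2(K). -/
theorem result {F K : Type*} [Field F] [Fintype F] [Field K] [Fintype K] (q r : ℕ) (hK : Fintype.card K = q) (hF : Fintype.card F = q ^ r) (hq : Odd q) (hr : r.Prime) (hr2 : r ≠ 2) : ∃ H : Subgroup (Matrix.ProjectiveSpecialLinearGroup (Fin 2) F), IsCoatom H ∧ Nonempty (H ≃* Matrix.ProjectiveSpecialLinearGroup (Fin 2) K) := by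
  classical
  obtain ⟨p, hp⟩ := CharP.exists F
  have hpF : Fact p.Prime := ⟨CharP.char_is_prime F p⟩
  have hpp : p.Prime := hpF.out
  obtain ⟨e, -, he⟩ := FiniteField.card F p
  have hQe : q ^ r = p ^ (e : ℕ) := hF.symm.trans he
  have hq2 : 2 ≤ q := by rw [← hK]; exact Fintype.one_lt_card
  have hq3 : 3 ≤ q := by
    obtain ⟨j, hj⟩ := hq
    omega
  have hrodd : Odd r := hr.odd_of_ne_two hr2
  have hr3 : 3 ≤ r := by
    have := hr.two_le
    omega
  have hQodd : Odd (q ^ r) := hq.pow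
  set Q := q ^ r with hQ
  obtain ⟨H, ⟨f⟩⟩ := (Cfsg.Agent.S0805.result (K := K) hF hQodd r (by omega) (by rw [hK])).1
  refine ⟨H, ?_, ⟨f⟩⟩
  have hgcd0 : Nat.gcd 2 (q - 1) = 2 := by
    have : 2 ∣ q - 1 := by
      obtain ⟨j, hj⟩ := hq
      omega
    exact Nat.gcd_eq_left this
  have hgcdQ : Nat.gcd 2 (Q - 1) = 2 := by
    have : 2 ∣ Q - 1 := by
      obtain ⟨j, hj⟩ := hQodd
      omega
    exact Nat.gcd_eq_left this
  have hH2 : Nat.card H * 2 = q * (q ^ 2 - 1) := by
    have h1 := card_PSL2_mul_gcd (K := K)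
    rw [hK, hgcd0] at h1
    rw [Nat.card_congr f.toEquiv, h1]
  have hG := card_PSL2_mul_gcd (K := F)
  rw [hF, hgcdQ] at hG
  have hqQ : q < Q := by
    calc q = q ^ 1 := (pow_one q).symm
      _ < q ^ r := Nat.pow_lt_pow_right (by omega) (by omega)
  have hq21 : 8 ≤ q ^ 2 - 1 := by
    have : 9 ≤ q ^ 2 := by nlinarith
    omega
  have hpQ : p ∣ Q := by rw [hQe]; exact dvd_pow_self p e.ne_zero
  have hpq : p ∣ q := hpp.dvd_of_dvd_pow (hQ ▸ hpQ)
  have hp2 : p ≠ 2 := by
    rintro rfl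
    obtain ⟨j, hj⟩ := hq
    omega
  have hpH : p ∣ Nat.card H := by
    have h1 : p ∣ Nat.card H * 2 := by rw [hH2]; exact Dvd.dvd.mul_right hpq _
    rcases (Nat.Prime.dvd_mul hpp).mp h1 with h | h
    · exact h
    · exact absurd ((Nat.prime_dvd_prime_iff_eq hpp Nat.prime_two).mp h) hp2
  constructor
  · intro htop
    rw [htop, Subgroup.card_top] at hH2
    rw [hH2] at hG
    have : q * (q ^ 2 - 1) < Q * (Q ^ 2 - 1) := by
      apply Nat.mul_lt_mul_of_lt_of_le hqQ
      · exact Nat.sub_le_sub_right (Nat.pow_le_pow_left hqQ.le 2) 1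
      · have : q ^ 2 ≤ Q ^ 2 := Nat.pow_le_pow_left hqQ.le 2
        omega
    exact this.ne hG
  · intro M hHM
    by_contra hM
    have hlt := card_lt_of_lt hHM
    have hdvd := card_dvd_of_lt hHM
    have h2le := two_mul_card_le_of_lt hHM
    have hD := dickson_subgroup' p M
    rw [hF] at hD
    unfold Concl' ConclN at hD
    rw [hgcdQ] at hD
    rcases hD with ⟨k, hk, hc⟩ | hN | ⟨⟨e'⟩⟩ | ⟨⟨e'⟩⟩ | ⟨⟨e'⟩⟩ | ⟨K', hKf, hKt, m, hm, hiso⟩
    · have hM2k : Nat.card M ∣ 2 * k := by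
        rcases hc with ⟨-, hcard⟩ | ⟨⟨e'⟩⟩
        · rw [hcard]; exact Dvd.intro_left 2 rfl
        · rw [Nat.card_congr e'.toEquiv, DihedralGroup.nat_card]
      have hpk : p ∣ k := by
        have h1 : p ∣ 2 * k := hpH.trans (hdvd.trans hM2k)
        rcases (Nat.Prime.dvd_mul hpp).mp h1 with h | h
        · exact absurd ((Nat.prime_dvd_prime_iff_eq hpp Nat.prime_two).mp h) hp2
        · exact h
      rcases hk with hk | hk
      · have h1 : p ∣ Q + 1 := hpk.trans (hk.trans (Nat.div_dvd_of_dvd (by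
          obtain ⟨j, hj⟩ := hQodd
          omega)))
        have := (Nat.dvd_add_right hpQ).mp h1
        exact hpp.one_lt.ne' (Nat.dvd_one.mp this)
      · have h1 : p ∣ Q - 1 := hpk.trans (hk.trans (Nat.div_dvd_of_dvd (by
          obtain ⟨j, hj⟩ := hQodd
          omega)))
        have h2 : p ∣ Q - (Q - 1) := Nat.dvd_sub hpQ h1
        have h3 : Q - (Q - 1) = 1 := by omega
        rw [h3] at h2
        exact hpp.one_lt.ne' (Nat.dvd_one.mp h2)
    · have h1 : Nat.card H * 2 ∣ Q * (Q - 1) := (Nat.mul_dvd_mul_right hdvd 2).trans hN.2.1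
      rw [hH2] at h1
      have h2 : q ^ 2 - 1 = (q - 1) * (q + 1) := by
        obtain ⟨a, rfl⟩ : ∃ a, q = a + 1 := ⟨q - 1, by omega⟩
        rw [Nat.add_sub_cancel]
        apply Nat.sub_eq_of_eq_add; ring
      have h3 : q + 1 ∣ Q * (Q - 1) := by
        refine Dvd.dvd.trans ?_ h1
        rw [h2]
        exact Dvd.dvd.mul_left (Dvd.intro_left _ rfl) _
      have h4 : q + 1 ∣ Q + 1 := by
        have := Odd.nat_add_dvd_pow_add_pow q 1 hrodd
        rwa [one_pow] at this
      obtain ⟨u, hu⟩ : ∃ u, Q = u + 2 := ⟨Q - 2, by omega⟩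
      have h5 : Q * (Q - 1) = (Q + 1) * u + 2 := by
        rw [hu]
        have : u + 2 - 1 = u + 1 := by omega
        rw [this]; ring
      rw [h5] at h3
      have h6 : q + 1 ∣ 2 := (Nat.dvd_add_right (Dvd.dvd.mul_right h4 u)).mp h3
      have := Nat.le_of_dvd (by norm_num) h6
      omega
    · have h12 : Nat.card M = 12 := by
        rw [Nat.card_congr e'.toEquiv, Nat.card_eq_fintype_card]; rfl
      have : 3 * 8 ≤ q * (q ^ 2 - 1) := Nat.mul_le_mul hq3 hq21
      omega
    · have h24 : Nat.card M = 24 := by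
        rw [Nat.card_congr e'.toEquiv, Nat.card_eq_fintype_card, Fintype.card_perm, Fintype.card_fin]
        rfl
      have hq3' : q = 3 := by
        by_contra hcon
        have hq5 : 5 ≤ q := by
          obtain ⟨j, hj⟩ := hq
          omega
        have : 24 ≤ q ^ 2 - 1 := by
          have : 25 ≤ q ^ 2 := by nlinarith
          omega
        have : 5 * 24 ≤ q * (q ^ 2 - 1) := Nat.mul_le_mul hq5 this
        omega
      have hsq := (Cfsg.Agent.S0803.result hF).mp ⟨M, ⟨e'⟩⟩
      rw [hQ, hq3', ← pow_mul, mul_comm, pow_mul] at hsq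
      have := nine_pow_mod_sixteen hrodd
      norm_num at hsq
      omega
    · have h60 : Nat.card M = 60 := by
        rw [Nat.card_congr e'.toEquiv, Nat.card_eq_fintype_card]; rfl
      have hq3' : q = 3 := by
        by_contra hcon
        have hq5 : 5 ≤ q := by
          obtain ⟨j, hj⟩ := hq
          omega
        have : 24 ≤ q ^ 2 - 1 := by
          have : 25 ≤ q ^ 2 := by nlinarith
          omega
        have : 5 * 24 ≤ q * (q ^ 2 - 1) := Nat.mul_le_mul hq5 this
        omega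
      have h5dvd := (Cfsg.Agent.S0804.result hF).mp ⟨M, ⟨e'⟩⟩
      rcases (Nat.Prime.dvd_mul Nat.prime_five).mp h5dvd with h | h
      · rw [hQ, hq3'] at h
        have := Nat.Prime.dvd_of_dvd_pow Nat.prime_five h
        norm_num at this
      · rw [hQ, hq3', ← pow_mul, mul_comm, pow_mul] at h
        have h9 := nine_pow_mod_five hrodd
        norm_num at h
        have h1 : 1 ≤ 9 ^ r := Nat.one_le_pow _ _ (by norm_num)
        omega
    · set s := Fintype.card K' with hs
      have hm0 : m ≠ 0 := by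
        rintro rfl
        rw [pow_zero] at hm
        omega
      have hMdvd : Nat.card M ∣ s * (s ^ 2 - 1) := by
        rcases hiso with ⟨⟨e'⟩⟩ | ⟨⟨e'⟩⟩
        · have h1 := card_PSL2_mul_gcd (K := K')
          rw [← Nat.card_congr e'.toEquiv] at h1
          exact Dvd.intro _ h1
        · have h1 := card_PGL2 (K := K')
          rw [← Nat.card_congr e'.toEquiv] at h1
          rw [h1]
      have hdiv : q ^ 2 - 1 ∣ 2 * (s * (s ^ 2 - 1)) := by
        have h1 : Nat.card H * 2 ∣ s * (s ^ 2 - 1) * 2 :=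
          Nat.mul_dvd_mul_right (hdvd.trans hMdvd) 2
        rw [hH2, mul_comm (s * (s ^ 2 - 1)) 2] at h1
        exact (Dvd.intro_left q rfl).trans h1
      rcases subfield_case hpp hq2 hr hQe (hm.trans hQe) hm0 hdiv with ⟨h1, h2⟩ | ⟨h1, h2⟩
      · rcases hiso with ⟨⟨e'⟩⟩ | ⟨⟨e'⟩⟩
        · have h3 := card_PSL2_mul_gcd (K := K')
          rw [← Nat.card_congr e'.toEquiv, ← hs, h1, hgcd0, ← hH2] at h3
          omega
        · have h3 := (Cfsg.Agent.S0805.result (K := K') hF hQodd r (by omega)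
            (by rw [← hs, h1])).2.mp ⟨M, ⟨e'⟩⟩
          exact (Nat.not_even_iff_odd.mpr hrodd) h3
      · exact hM (eq_top_of_card_field_eq M K' (by rw [← hs, h1, hF]) hiso)

end Cfsg.Agent.S5942
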