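import Cfsg.Statements.S5943
import Cfsg.Agent.Lib.Helper13.DkMax
import Cfsg.Agent.Lib.Helper13.DkSubArith
import Cfsg.Agent.Lib.Helper13.PSL2Subfield

set_option autoImplicit false
open Cfsg
open Cfsg.Agent.Lib.Helper13.Dk Cfsg.Agent.Lib.Helper13
open scoped commutatorElement

namespace Cfsg.Agent.S5943

open Matrix in
theorem comm_tSL_lSL {K : Type*} [Field K] :
    ((⁅tSL (1 : K), lSL (1 : K)⁆ : SpecialLinearGroup (Fin 2) K) : Matrix (Fin 2) (Fin 2) K) =
      !![3, -1; 1, 0] := by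
  rw [commutatorElement_def, UEmb.tSL_inv]
  have hl : (lSL (1 : K))⁻¹ = lSL (-1) := by
    rw [inv_eq_iff_mul_eq_one, Cfsg.Agent.Lib.Helper29.Dickson.lSL_mul, add_neg_cancel,
      Cfsg.Agent.Lib.Helper29.Dickson.lSL_zero]
  rw [hl, Matrix.SpecialLinearGroup.coe_mul, Matrix.SpecialLinearGroup.coe_mul,
    Matrix.SpecialLinearGroup.coe_mul, tSL_coe, tSL_coe, lSL_coe, lSL_coe]
  ext i j
  fin_cases i <;> fin_cases j <;> simp [Matrix.mul_apply, Fin.sum_univ_two] <;> ring

open Matrix in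
theorem comm_pow_three {K : Type*} [Field K] (h2 : (2 : K) = 0) :
    (⁅tSL (1 : K), lSL (1 : K)⁆ : SpecialLinearGroup (Fin 2) K) ^ 3 = 1 := by
  apply Subtype.ext
  rw [Matrix.SpecialLinearGroup.coe_pow, comm_tSL_lSL]
  have h3 : (3 : K) = 1 := by linear_combination h2
  have hneg : (-1 : K) = 1 := by linear_combination -h2
  rw [h3, hneg, pow_succ, pow_two]
  ext i j
  fin_cases i <;> fin_cases j <;> simp [Matrix.mul_apply, Fin.sum_univ_two] <;>
    linear_combination h2

/-- Let K and F be finite fields of characteristic 2 with #K = q > 2 and #F = q^r for a prime r. Then PSL_2(F) has a maximal subgroup isomorphic to PSL_2(K) (which equals PGL_2(K) in characteristic 2). -/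
theorem result {F K : Type*} [Field F] [Fintype F] [Field K] [Fintype K] (q r : ℕ) (hK : Fintype.card K = q) (hF : Fintype.card F = q ^ r) (hq : Even q) (hq2 : q ≠ 2) (hr : r.Prime) : ∃ H : Subgroup (Matrix.ProjectiveSpecialLinearGroup (Fin 2) F), IsCoatom H ∧ Nonempty (H ≃* Matrix.ProjectiveSpecialLinearGroup (Fin 2) K) := by
  classical
  obtain ⟨p, hp⟩ := CharP.exists F
  have hpF : Fact p.Prime := ⟨CharP.char_is_prime F p⟩
  have hpp : p.Prime := hpF.out
  obtain ⟨e, -, he⟩ := FiniteField.card F p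
  have hQe : q ^ r = p ^ (e : ℕ) := hF.symm.trans he
  have hq2' : 2 ≤ q := by rw [← hK]; exact Fintype.one_lt_card
  have hq4 : 4 ≤ q := by
    obtain ⟨j, hj⟩ := hq
    omega
  have hr2 : 2 ≤ r := hr.two_le
  have hQeven : Even (q ^ r) := (Nat.even_pow.mpr ⟨hq, by omega⟩)
  have hpQ : p ∣ q ^ r := by rw [hQe]; exact dvd_pow_self p e.ne_zero
  have hpq : p ∣ q := hpp.dvd_of_dvd_pow hpQ
  have hp2 : p = 2 := by
    have h1 : 2 ∣ p ^ (e : ℕ) := by rw [← hQe]; exact hQeven.two_dvd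
    exact ((Nat.prime_dvd_prime_iff_eq Nat.prime_two hpp).mp
      (Nat.prime_two.dvd_of_dvd_pow h1)).symm
  -- `q` is a power of two
  obtain ⟨a, hqa, -⟩ := exists_eq_pow_of_pow_eq hpp (by omega : r ≠ 0) hQe
  have h4q : 4 ∣ q := by
    rw [hqa, hp2]
    have ha2 : 2 ≤ a := by
      by_contra hcon
      have : a = 0 ∨ a = 1 := by omega
      rcases this with h | h <;> rw [hqa, hp2, h] at hq4 <;> norm_num at hq4
    exact (by norm_num : 4 = 2 ^ 2) ▸ pow_dvd_pow 2 ha2
  set Q := q ^ r with hQ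
  obtain ⟨ι⟩ := exists_ringHom_of_card_pow (K := K) (F := F) r (by rw [hK, hF])
  obtain ⟨H, ⟨f⟩⟩ := exists_subgroup_PSL2 ι
  refine ⟨H, ?_, ⟨f⟩⟩
  have hgcd0 : Nat.gcd 2 (q - 1) = 1 := by
    have : ¬ 2 ∣ q - 1 := by
      obtain ⟨j, hj⟩ := hq
      omega
    exact (Nat.Prime.coprime_iff_not_dvd Nat.prime_two).mpr this
  have hgcdQ : Nat.gcd 2 (Q - 1) = 1 := by
    have : ¬ 2 ∣ Q - 1 := by
      obtain ⟨j, hj⟩ := hQeven
      have : 1 ≤ Q := Nat.one_le_pow _ _ (by omega)
      omega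
    exact (Nat.Prime.coprime_iff_not_dvd Nat.prime_two).mpr this
  have hH : Nat.card H = q * (q ^ 2 - 1) := by
    have h1 := card_PSL2_mul_gcd (K := K)
    rw [hK, hgcd0, mul_one] at h1
    rw [Nat.card_congr f.toEquiv, h1]
  have hG := card_PSL2_mul_gcd (K := F)
  rw [hF, hgcdQ, mul_one] at hG
  have hqQ : q < Q := by
    calc q = q ^ 1 := (pow_one q).symm
      _ < q ^ r := Nat.pow_lt_pow_right (by omega) (by omega)
  have hq21 : 15 ≤ q ^ 2 - 1 := by
    have : 16 ≤ q ^ 2 := by nlinarith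
    omega
  have hH60 : 60 ≤ Nat.card H := by
    rw [hH]
    exact Nat.mul_le_mul hq4 hq21
  have h4H : 4 ∣ Nat.card H := by
    rw [hH]; exact Dvd.dvd.mul_right h4q _
  have h2K : (2 : K) = 0 := by
    have hQK : Fintype.card K ^ r = p ^ (e : ℕ) := by rw [hK]; exact hQe
    obtain ⟨p', hp'⟩ := CharP.exists K
    have hp'p : Fact p'.Prime := ⟨CharP.char_is_prime K p'⟩
    obtain ⟨e', -, he'⟩ := FiniteField.card K p'
    have h1 : p' ∣ 2 ^ (e : ℕ) := by
      rw [← hp2, ← hQK, he', ← pow_mul]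
      exact dvd_pow_self p' (by positivity)
    have h3 : p' = 2 := ((Nat.prime_dvd_prime_iff_eq hp'p.out Nat.prime_two).mp
      (hp'p.out.dvd_of_dvd_pow h1))
    subst h3
    exact CharTwo.two_eq_zero
  constructor
  · intro htop
    rw [htop, Subgroup.card_top] at hH
    rw [hH] at hG
    have : q * (q ^ 2 - 1) < Q * (Q ^ 2 - 1) := by
      apply Nat.mul_lt_mul_of_lt_of_le hqQ
      · exact Nat.sub_le_sub_right (Nat.pow_le_pow_left hqQ.le 2) 1
      · have : q ^ 2 ≤ Q ^ 2 := Nat.pow_le_pow_left hqQ.le 2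
        omega
    exact this.ne hG
  · intro M hHM
    by_contra hM
    have hlt := card_lt_of_lt hHM
    have hdvd := card_dvd_of_lt hHM
    have h2le := two_mul_card_le_of_lt hHM
    have hD := dickson_subgroup' p M
    rw [hF] at hD
    unfold Concl' ConclN at hD
    rw [hgcdQ, Nat.div_one, Nat.div_one] at hD
    rcases hD with ⟨k, hk, hc⟩ | hN | ⟨⟨e'⟩⟩ | ⟨⟨e'⟩⟩ | ⟨⟨e'⟩⟩ | ⟨K', hKf, hKt, m, hm, hiso⟩
    · have hM2k : Nat.card M ∣ 2 * k := by
        rcases hc with ⟨-, hcard⟩ | ⟨⟨e'⟩⟩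
        · rw [hcard]; exact Dvd.intro_left 2 rfl
        · rw [Nat.card_congr e'.toEquiv, DihedralGroup.nat_card]
      have h42k : 4 ∣ 2 * k := h4H.trans (hdvd.trans hM2k)
      have h2k : 2 ∣ k := by omega
      have hQ1 : 1 ≤ Q := Nat.one_le_pow _ _ (by omega)
      obtain ⟨j, hj⟩ := hQeven
      rcases hk with hk | hk
      · have := h2k.trans hk
        omega
      · have := h2k.trans hk
        omega
    · let x : Matrix.ProjectiveSpecialLinearGroup (Fin 2) K := QuotientGroup.mk (tSL (1 : K))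
      let y : Matrix.ProjectiveSpecialLinearGroup (Fin 2) K := QuotientGroup.mk (lSL (1 : K))
      obtain ⟨n, hn⟩ := orderOf_commutator_dvd M H hHM.le hN.2.2 f x y
      rw [hp2] at hn
      have hxy : ⁅x, y⁆ = QuotientGroup.mk (⁅tSL (1 : K), lSL (1 : K)⁆) := by
        rw [commutatorElement_def, commutatorElement_def]
        rfl
      have h3 : ⁅x, y⁆ ^ 3 = 1 := by
        rw [hxy, ← QuotientGroup.mk_pow, comm_pow_three h2K]
        rfl
      have h4 : orderOf ⁅x, y⁆ ∣ 3 := orderOf_dvd_of_pow_eq_one h3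
      have h5 : orderOf ⁅x, y⁆ = 1 := by
        have h6 : orderOf ⁅x, y⁆ ∣ Nat.gcd (2 ^ n) 3 := Nat.dvd_gcd hn h4
        have h7 : Nat.gcd (2 ^ n) 3 = 1 := by
          apply Nat.Coprime.pow_left
          norm_num
        rw [h7] at h6
        exact Nat.dvd_one.mp h6
      rw [orderOf_eq_one_iff, hxy, QuotientGroup.eq_one_iff,
        Matrix.SpecialLinearGroup.mem_center_iff] at h5
      obtain ⟨c, -, hc⟩ := h5
      have h8 := congr_fun (congr_fun hc 0) 1
      rw [comm_tSL_lSL] at h8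
      simp at h8
    · have h12 : Nat.card M = 12 := by
        rw [Nat.card_congr e'.toEquiv, Nat.card_eq_fintype_card]; rfl
      omega
    · have h24 : Nat.card M = 24 := by
        rw [Nat.card_congr e'.toEquiv, Nat.card_eq_fintype_card, Fintype.card_perm, Fintype.card_fin]
        rfl
      omega
    · have h60 : Nat.card M = 60 := by
        rw [Nat.card_congr e'.toEquiv, Nat.card_eq_fintype_card]; rfl
      omega
    · set s := Fintype.card K' with hs
      have hm0 : m ≠ 0 := by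
        rintro rfl
        rw [pow_zero] at hm
        omega
      have hMdvd : Nat.card M ∣ s * (s ^ 2 - 1) := by
        rcases hiso with ⟨⟨e'⟩⟩ | ⟨⟨e'⟩⟩
        · have h1 := card_PSL2_mul_gcd (K := K')
          rw [← Nat.card_congr e'.toEquiv] at h1
          exact Dvd.intro _ h1
        · have h1 := card_PGL2 (K := K')
          rw [← Nat.card_congr e'.toEquiv] at h1
          rw [h1]
      have hdiv : q ^ 2 - 1 ∣ 2 * (s * (s ^ 2 - 1)) := by
        have h1 : Nat.card H ∣ s * (s ^ 2 - 1) := hdvd.trans hMdvd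
        rw [hH] at h1
        exact ((Dvd.intro_left q rfl).trans h1).mul_left 2
      rcases subfield_case hpp hq2' hr hQe (hm.trans hQe) hm0 hdiv with ⟨h1, h2⟩ | ⟨h1, h2⟩
      · have hMle : Nat.card M ≤ s * (s ^ 2 - 1) :=
          Nat.le_of_dvd (by rw [h1]; exact Nat.mul_pos (by omega) (by omega)) hMdvd
        rw [h1, ← hH] at hMle
        omega
      · exact hM (eq_top_of_card_field_eq M K' (by rw [← hs, h1, hF]) hiso)

end Cfsg.Agent.S5943
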