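import Cfsg.Statements.S5944
-- import your own Cfsg.Agent.* helpers here

set_option autoImplicit false
open Cfsg

namespace Cfsg.Agent.S5944

/-- For n ≠ 4, every proper subgroup of the symmetric group S_n other than the alternating group A_n has index at least n. -/
theorem result (n : ℕ) (hn : n ≠ 4) (H : Subgroup (Equiv.Perm (Fin n))) (hH : H ≠ ⊤) (hA : H ≠ alternatingGroup (Fin n)) : n ≤ H.index := by
  classical
  by_contra hlt
  push Not at hlt
  have hk0 : H.index ≠ 0 := Subgroup.index_ne_zero_of_finite
  have hk1 : H.index ≠ 1 := fun h => hH (Subgroup.index_eq_one.mp h)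
  have hk2 : H.index ≠ 2 := fun h => hA (Equiv.Perm.eq_alternatingGroup_of_index_eq_two h)
  have hn5 : 5 ≤ n := by omega
  have hsimple : IsSimpleGroup (alternatingGroup (Fin n)) :=
    alternatingGroup.isSimpleGroup (by simpa using hn5)
  have hnt : Nontrivial (Fin n) := Fin.nontrivial_iff_two_le.mpr (by omega)
  let ψ : alternatingGroup (Fin n) →* Equiv.Perm (Equiv.Perm (Fin n) ⧸ H) :=
    (MulAction.toPermHom (Equiv.Perm (Fin n)) (Equiv.Perm (Fin n) ⧸ H)).comp (alternatingGroup (Fin n)).subtype
  rcases (inferInstance : ψ.ker.Normal).eq_bot_or_eq_top with hker | hker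
  · -- injective: compare cardinalities
    have hinj : Function.Injective ψ := (MonoidHom.ker_eq_bot_iff ψ).mp hker
    have hcard := Nat.card_le_card_of_injective ψ hinj
    rw [Nat.card_perm] at hcard
    have hidx : Nat.card (Equiv.Perm (Fin n) ⧸ H) = H.index := rfl
    rw [hidx] at hcard
    have h2 := two_mul_nat_card_alternatingGroup (α := Fin n)
    rw [Nat.card_perm, Nat.card_fin] at h2
    have h3 : H.index.factorial ≤ (n - 1).factorial := Nat.factorial_le (by omega)
    have h4 : n.factorial = n * (n - 1).factorial := by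
      obtain ⟨m, rfl⟩ : ∃ m, n = m + 1 := ⟨n - 1, by omega⟩
      simp [Nat.factorial_succ]
    have h5 : 0 < (n - 1).factorial := Nat.factorial_pos _
    nlinarith
  · -- trivial action: the alternating group lies in `H`
    have hle : alternatingGroup (Fin n) ≤ H := by
      intro g hg
      have h1 : (⟨g, hg⟩ : alternatingGroup (Fin n)) ∈ ψ.ker := by rw [hker]; trivial
      have h2 : ψ ⟨g, hg⟩ = 1 := MonoidHom.mem_ker.mp h1
      have h3 := congrArg (fun σ => σ ((1 : Equiv.Perm (Fin n)) : Equiv.Perm (Fin n) ⧸ H)) h2
      simp only [ψ, MonoidHom.coe_comp, Function.comp_apply, Subgroup.subtype_apply, MulAction.toPermHom_apply,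
        MulAction.toPerm_apply, Equiv.Perm.coe_one, id_eq] at h3
      rw [MulAction.Quotient.smul_coe, smul_eq_mul, mul_one, QuotientGroup.eq] at h3
      simpa using h3
    have hdvd := Subgroup.index_dvd_of_le hle
    rw [alternatingGroup.index_eq_two] at hdvd
    have := Nat.le_of_dvd (by norm_num) hdvd
    omega

end Cfsg.Agent.S5944
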