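import Cfsg.Statements.S5947
-- import your own Cfsg.Agent.* helpers here
import Cfsg.Agent.Lib.Helper19.Zsigmondy

set_option autoImplicit false
open Cfsg

namespace Cfsg.Agent.S5947

open Cfsg.Agent.Lib.Helper19.Zsigmondy

/-- a prime power `q` with `q + 1` a power of two is a prime -/
theorem prime_of_add_one_pow_two {p e a : ℕ} (hp : p.Prime) (he : 1 ≤ e) (h : p ^ e + 1 = 2 ^ a) :
    e = 1 := by
  by_contra he1
  have he2 : 2 ≤ e := by omega
  have hp2 : p ≠ 2 := by
    rintro rfl
    have h1 : Even (2 ^ e) := (Nat.even_pow' (by omega)).mpr even_two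
    rcases Nat.eq_zero_or_pos a with ha | ha
    · subst ha
      have : 0 < 2 ^ e := by positivity
      omega
    · have h2 : Even (2 ^ a) := (Nat.even_pow' (by omega)).mpr even_two
      rw [← h] at h2
      have := (Nat.even_add_one).mp h2
      exact this h1
  have hodd : Odd p := hp.odd_of_ne_two hp2
  obtain ⟨r, hr, hrd, hrprim⟩ := zsigmondy p (2 * e) hp.one_lt (by omega)
    (fun h => hp2 h.1) (fun h => by omega)
  have hfac : p ^ (2 * e) - 1 = (p ^ e - 1) * (p ^ e + 1) := by
    have h1 : 1 ≤ p ^ e := Nat.one_le_pow _ _ hp.pos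
    have h2 : p ^ (2 * e) = p ^ e * p ^ e := by rw [two_mul, pow_add]
    rw [h2]
    obtain ⟨t, ht⟩ : ∃ t, p ^ e = t + 1 := ⟨p ^ e - 1, by omega⟩
    rw [ht, Nat.add_sub_cancel]
    have : (t + 1) * (t + 1) - 1 = t * (t + 1 + 1) := by
      have : (t + 1) * (t + 1) = t * (t + 1 + 1) + 1 := by ring
      omega
    exact this
  rw [hfac] at hrd
  rcases (Nat.Prime.dvd_mul hr).mp hrd with h1 | h1
  · exact hrprim e (by omega) (by omega) h1
  · rw [h] at h1
    have h2 : r = 2 := (Nat.prime_dvd_prime_iff_eq hr Nat.prime_two).mp (hr.dvd_of_dvd_pow h1)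
    subst h2
    apply hrprim 1 (by omega) (by omega)
    rw [pow_one]
    obtain ⟨t, ht⟩ := hodd
    exact ⟨t, by omega⟩

/-- arithmetic of a primitive prime divisor -/
theorem arith {q n r d e : ℕ} (hq : 2 ≤ q) (hprim : IsPrim q n r) (hed : e ≤ d) (hdn : d ≤ n)
    (h : q ^ d ≡ q ^ e [MOD r]) : d = e ∨ (d = n ∧ e = 0) := by
  obtain ⟨hr, hrd, hrprim⟩ := hprim
  by_cases hde : d = e
  · exact Or.inl hde
  · right
    have hlt : e < d := by omega
    have h1 : r ∣ q ^ d - q ^ e := (Nat.modEq_iff_dvd' (Nat.pow_le_pow_right (by omega) hed)).mp h.symm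
    have h2 : q ^ d - q ^ e = q ^ e * (q ^ (d - e) - 1) := by
      have : q ^ d = q ^ e * q ^ (d - e) := by rw [← pow_add]; congr 1; omega
      rw [this, Nat.mul_sub, mul_one]
    rw [h2] at h1
    have hn0 : 0 < n := by omega
    have hrq : ¬ r ∣ q := by
      intro hrq
      have h3 : r ∣ q ^ n := dvd_pow hrq (by omega)
      have h4 : 1 ≤ q ^ n := Nat.one_le_pow _ _ (by omega)
      have h5 : r ∣ q ^ n - (q ^ n - 1) := Nat.dvd_sub h3 hrd
      have h6 : q ^ n - (q ^ n - 1) = 1 := by omega
      rw [h6] at h5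
      exact hr.one_lt.ne' (Nat.dvd_one.mp h5)
    rcases (Nat.Prime.dvd_mul hr).mp h1 with h3 | h3
    · exact absurd (hr.dvd_of_dvd_pow h3) hrq
    · by_cases h4 : d - e < n
      · exact absurd h3 (hrprim (d - e) (by omega) h4)
      · omega

section lin
variable {F K : Type*} [Field F] [Fintype F] [Field K] [Fintype K] [Algebra F K]

/-- fixed point congruence on an invariant subspace -/
theorem mod_lemma {r : ℕ} [Fact r.Prime] (T : Module.End F K) (hT : T ^ r = 1)
    (W : Submodule F K) (hW : ∀ w ∈ W, T w ∈ W) :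
    Nat.card W ≡ Nat.card ↥(W ⊓ LinearMap.ker (T - 1)) [MOD r] := by
  classical
  let f : Function.End W := fun w => ⟨T w.1, hW w.1 w.2⟩
  have hpow : ∀ (j : ℕ) (w : W), ((f ^ j) w).1 = (T ^ j) w.1 := by
    intro j
    induction j with
    | zero => intro w; rfl
    | succ j ih =>
      intro w
      rw [pow_succ', pow_succ']
      show T ((f ^ j) w).1 = _
      rw [ih]
      rfl
  have hf : f ^ r ^ 1 = 1 := by
    rw [pow_one]
    funext w
    apply Subtype.ext
    rw [hpow, hT]
    rfl
  have key := Equiv.Perm.card_fixedPoints_modEq (f := f) (p := r) (n := 1) hf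
  rw [← Nat.card_eq_fintype_card, ← Nat.card_eq_fintype_card] at key
  refine key.trans (Nat.ModEq.of_dvd (dvd_refl r) ?_)
  have hcard : Nat.card ↥(Function.fixedPoints f) = Nat.card ↥(W ⊓ LinearMap.ker (T - 1)) := ?_
  · rw [hcard]
  apply Nat.card_congr
  refine ⟨fun w => ⟨w.1.1, w.1.2, ?_⟩, fun w => ⟨⟨w.1, w.2.1⟩, ?_⟩, fun w => rfl, fun w => rfl⟩
  · have h1 : f w.1 = w.1 := w.2
    have h2 : T w.1.1 = w.1.1 := congrArg Subtype.val h1
    show w.1.1 ∈ LinearMap.ker (T - 1)
    rw [LinearMap.mem_ker, LinearMap.sub_apply, h2]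
    exact sub_self _
  · have h1 : w.1 ∈ LinearMap.ker (T - 1) := w.2.2
    rw [LinearMap.mem_ker, LinearMap.sub_apply, sub_eq_zero] at h1
    show f ⟨w.1, w.2.1⟩ = ⟨w.1, w.2.1⟩
    exact Subtype.ext h1

theorem card_sub (W : Submodule F K) : Nat.card W = Fintype.card F ^ Module.finrank F W := by
  rw [← Nat.card_eq_fintype_card (α := F)]
  exact Module.natCard_eq_pow_finrank

/-- an element of primitive prime order acts irreducibly -/
theorem irred {r : ℕ} (hprim : IsPrim (Fintype.card F) (Module.finrank F K) r)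
    (T : Module.End F K) (hT : T ^ r = 1) (hT1 : T ≠ 1)
    (W : Submodule F K) (hW : ∀ w ∈ W, T w ∈ W) : W = ⊥ ∨ W = ⊤ := by
  have : Fact r.Prime := ⟨hprim.1⟩
  have hq : 2 ≤ Fintype.card F := Fintype.one_lt_card
  -- the fixed space is trivial
  have hker : LinearMap.ker (T - 1) = ⊥ := by
    have h1 := mod_lemma T hT ⊤ (fun w _ => Submodule.mem_top)
    rw [card_sub, card_sub, top_inf_eq, finrank_top] at h1
    rcases arith hq hprim (Submodule.finrank_le _) le_rfl h1 with h2 | h2
    · exfalso
      apply hT1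
      have h3 : LinearMap.ker (T - 1) = ⊤ := Submodule.eq_top_of_finrank_eq h2.symm
      rw [LinearMap.ker_eq_top, sub_eq_zero] at h3
      exact h3
    · exact Submodule.finrank_eq_zero.mp h2.2
  have h1 := mod_lemma T hT W hW
  rw [hker, inf_bot_eq, card_sub, card_sub, finrank_bot] at h1
  rcases arith hq hprim (Nat.zero_le _) (Submodule.finrank_le _) h1 with h2 | h2
  · exact Or.inl (Submodule.finrank_eq_zero.mp h2)
  · exact Or.inr (Submodule.eq_top_of_finrank_eq h2.1)

end lin

section cent
variable {F K : Type*} [Field F] [Fintype F] [Field K] [Fintype K] [Algebra F K]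

/-- the centraliser algebra of an endomorphism -/
def Ecent (T : Module.End F K) : Subalgebra F (Module.End F K) := Subalgebra.centralizer F {T}

theorem mem_Ecent {T b : Module.End F K} : b ∈ Ecent T ↔ T * b = b * T := by
  unfold Ecent
  rw [Subalgebra.mem_centralizer_iff]
  constructor
  · intro h; exact h T rfl
  · intro h g hg
    rw [Set.mem_singleton_iff.mp hg]; exact h

theorem self_mem_Ecent (T : Module.End F K) : T ∈ Ecent T := mem_Ecent.mpr rfl

/-- evaluation at one -/
def ev (T : Module.End F K) : Ecent T →ₗ[F] K where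
  toFun b := b.1 1
  map_add' _ _ := rfl
  map_smul' _ _ := rfl

theorem ev_bijective {T : Module.End F K}
    (hirr : ∀ W : Submodule F K, (∀ w ∈ W, T w ∈ W) → W = ⊥ ∨ W = ⊤) :
    Function.Bijective (ev T) := by
  constructor
  · rw [injective_iff_map_eq_zero]
    intro b hb
    have hb1 : b.1 1 = 0 := hb
    have hc := mem_Ecent.mp b.2
    rcases hirr (LinearMap.ker b.1) (by
      intro w hw
      rw [LinearMap.mem_ker] at hw ⊢
      have : b.1 (T w) = (b.1 * T) w := rfl
      rw [this, ← hc]
      show T (b.1 w) = 0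
      rw [hw, map_zero]) with h | h
    · exfalso
      have : (1 : K) ∈ LinearMap.ker b.1 := hb1
      rw [h, Submodule.mem_bot] at this
      exact one_ne_zero this
    · apply Subtype.ext
      exact LinearMap.ker_eq_top.mp h
  · rw [← LinearMap.range_eq_top]
    rcases hirr (LinearMap.range (ev T)) (by
      rintro w ⟨b, rfl⟩
      exact ⟨⟨T * b.1, (Ecent T).mul_mem (self_mem_Ecent T) b.2⟩, rfl⟩) with h | h
    · exfalso
      have : (1 : K) ∈ LinearMap.range (ev T) := ⟨1, rfl⟩
      rw [h, Submodule.mem_bot] at this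
      exact one_ne_zero this
    · exact h

theorem card_Ecent {T : Module.End F K}
    (hirr : ∀ W : Submodule F K, (∀ w ∈ W, T w ∈ W) → W = ⊥ ∨ W = ⊤) :
    Nat.card (Ecent T) = Fintype.card K := by
  rw [← Nat.card_eq_fintype_card]
  exact Nat.card_congr (Equiv.ofBijective _ (ev_bijective hirr))

/-- every element of the centraliser is zero or in `U` -/
theorem Ecent_eq {T : Module.End F K}
    (hirr : ∀ W : Submodule F K, (∀ w ∈ W, T w ∈ W) → W = ⊥ ∨ W = ⊤)
    (U : Subgroup (Module.End F K)ˣ) (hcard : Nat.card U = Fintype.card K - 1)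
    (hU : ∀ u ∈ U, (u : Module.End F K) ∈ Ecent T) (b : Ecent T) :
    b = 0 ∨ ∃ u ∈ U, (u : Module.End F K) = b.1 := by
  classical
  let j : Option U → Ecent T := fun o => Option.rec 0 (fun u : U => ⟨u.1.1, hU u.1 u.2⟩) o
  have hj : Function.Injective j := by
    intro o o' h
    rcases o with _ | u <;> rcases o' with _ | u'
    · rfl
    · exfalso
      have h1 : (0 : Module.End F K) = u'.1.1 := congrArg Subtype.val h
      exact u'.1.ne_zero h1.symm
    · exfalso
      have h1 : u.1.1 = (0 : Module.End F K) := congrArg Subtype.val h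
      exact u.1.ne_zero h1
    · have h1 : u.1.1 = u'.1.1 := congrArg Subtype.val h
      exact congrArg some (Subtype.ext (Units.ext h1))
  have : Finite (Module.End F K) :=
    Finite.of_injective (fun f : Module.End F K => (f : K → K)) DFunLike.coe_injective
  have : Finite (Ecent T) := Finite.of_injective _ Subtype.val_injective
  have hK2 : 2 ≤ Fintype.card K := Fintype.one_lt_card
  have : Finite U := Nat.finite_of_card_ne_zero (by rw [hcard]; omega)
  have hcard' : Nat.card (Option U) = Nat.card (Ecent T) := by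
    rw [Finite.card_option, hcard, card_Ecent hirr]
    have : 1 ≤ Fintype.card K := Fintype.card_pos
    omega
  have hsurj : Function.Surjective j :=
    ((Nat.bijective_iff_injective_and_card j).mpr ⟨hj, hcard'⟩).2
  obtain ⟨o, ho⟩ := hsurj b
  rcases o with _ | u
  · left; exact ho.symm
  · right
    exact ⟨u.1, u.2, by rw [← ho]⟩

end cent

section final
variable {F K : Type*} [Field F] [Fintype F] [Field K] [Fintype K] [Algebra F K]

open scoped IsMulCommutative in
theorem exists_algHom {T : Module.End F K}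
    (hirr : ∀ W : Submodule F K, (∀ w ∈ W, T w ∈ W) → W = ⊥ ∨ W = ⊤)
    (U : Subgroup (Module.End F K)ˣ) (hUc : IsMulCommutative U)
    (hcard : Nat.card U = Fintype.card K - 1)
    (hU : ∀ u ∈ U, (u : Module.End F K) ∈ Ecent T) :
    ∃ σ : K →ₐ[F] Module.End F K, ∀ k, σ k ∈ Ecent T := by
  classical
  have hE := Ecent_eq hirr U hcard hU
  have : IsMulCommutative (Ecent T) := ⟨⟨fun a b => by
    rcases hE a with rfl | ⟨u, hu, hua⟩
    · simp
    rcases hE b with rfl | ⟨v, hv, hvb⟩
    · simp
    apply Subtype.ext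
    show a.1 * b.1 = b.1 * a.1
    rw [← hua, ← hvb, ← Units.val_mul, ← Units.val_mul]
    congr 1
    have := mul_comm (⟨u, hu⟩ : U) ⟨v, hv⟩
    exact congrArg Subtype.val this⟩⟩
  have : Nontrivial (Ecent T) := ⟨⟨0, 1, fun h => by
    have h1 : (0 : Module.End F K) = 1 := congrArg Subtype.val h
    have h2 := LinearMap.congr_fun h1 (1 : K)
    simp at h2⟩⟩
  have : NoZeroDivisors (Ecent T) := ⟨fun {a b} hab => by
    rcases hE a with rfl | ⟨u, hu, hua⟩
    · exact Or.inl rfl
    · right
      apply Subtype.ext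
      have h1 : a.1 * b.1 = 0 := congrArg Subtype.val hab
      rw [← hua] at h1
      have h2 : ((u⁻¹ : (Module.End F K)ˣ) : Module.End F K) * ((u : Module.End F K) * b.1) = 0 := by
        rw [h1, mul_zero]
      rw [← mul_assoc, ← Units.val_mul, inv_mul_cancel, Units.val_one, one_mul] at h2
      exact h2⟩
  have : IsDomain (Ecent T) := NoZeroDivisors.to_isDomain (Ecent T)
  have : Finite (Module.End F K) :=
    Finite.of_injective (fun f : Module.End F K => (f : K → K)) DFunLike.coe_injective
  have : Finite (Ecent T) := Finite.of_injective _ Subtype.val_injective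
  let _ : Fintype (Ecent T) := Fintype.ofFinite _
  let _ : Field (Ecent T) := Fintype.fieldOfDomain (Ecent T)
  have hfin : Module.finrank F (Ecent T) = Module.finrank F K :=
    LinearEquiv.finrank_eq (LinearEquiv.ofBijective (ev T) (ev_bijective hirr))
  obtain ⟨f⟩ := FiniteField.nonempty_algHom_of_finrank_dvd (F := F) (K := K) (L := Ecent T)
    (by rw [hfin])
  exact ⟨(Ecent T).val.comp f, fun k => (f k).2⟩

end final

open scoped IsMulCommutative in
theorem main {F K : Type*} [Field F] [Fintype F] [Field K] [Fintype K] [Algebra F K] (n : ℕ) (hn : 2 ≤ n) (hdim : Module.finrank F K = n)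
    (hex1 : ¬ (n = 6 ∧ Fintype.card F = 2))
    (hex2 : ¬ (n = 2 ∧ (Fintype.card F).Prime ∧ ∃ a : ℕ, Fintype.card F + 1 = 2 ^ a))
    (U : Subgroup (Module.End F K)ˣ) (hU : IsMulCommutative U) (hcard : Nat.card U = Fintype.card K - 1) :
    ∃ g : (Module.End F K)ˣ, U.map (MulAut.conj g).toMonoidHom = (Units.map ((Algebra.lmul F K : K →ₐ[F] Module.End F K) : K →* Module.End F K)).range := by
  classical
  have hq : 1 < Fintype.card F := Fintype.one_lt_card
  have hKcard : Fintype.card K = Fintype.card F ^ n := by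
    rw [← hdim]; exact Module.card_eq_pow_finrank
  have hK2 : 2 ≤ Fintype.card K := Fintype.one_lt_card
  -- the primitive prime divisor
  obtain ⟨r, hprim⟩ := zsigmondy (Fintype.card F) n hq (by omega) (fun h => hex1 ⟨h.2, h.1⟩)
    (fun h => hex2 ⟨h.1, by
      obtain ⟨p, _, e, hp, hpe⟩ := FiniteField.card' F
      obtain ⟨a, ha⟩ := h.2
      rw [hpe] at ha
      have he : (e : ℕ) = 1 := prime_of_add_one_pow_two hp e.pos ha
      rw [hpe, he, pow_one]; exact hp, h.2⟩)
  have hr : r.Prime := hprim.1
  have : Fact r.Prime := ⟨hr⟩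
  have hfinU : Finite U := Nat.finite_of_card_ne_zero (by rw [hcard]; omega)
  have hrU : r ∣ Nat.card U := by rw [hcard, hKcard]; exact hprim.2.1
  obtain ⟨x, hx⟩ := exists_prime_orderOf_dvd_card' r hrU
  let T : Module.End F K := ((x : (Module.End F K)ˣ) : Module.End F K)
  have hT : T ^ r = 1 := by
    have h1 : x ^ r = 1 := by rw [← hx]; exact pow_orderOf_eq_one x
    have h2 : ((x : (Module.End F K)ˣ) : Module.End F K) ^ r = 1 := by
      rw [← Units.val_pow_eq_pow_val, ← Subgroup.coe_pow, h1]; rfl
    exact h2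
  have hT1 : T ≠ 1 := by
    intro h
    have h1 : x = 1 := Subtype.ext (Units.ext h)
    rw [h1, orderOf_one] at hx
    exact hr.one_lt.ne hx
  have hirr := irred (hdim.symm ▸ hprim) T hT hT1
  have hUE : ∀ u ∈ U, (u : Module.End F K) ∈ Ecent T := by
    intro u hu
    rw [mem_Ecent]
    have h1 := mul_comm x (⟨u, hu⟩ : U)
    have h2 : (x : (Module.End F K)ˣ) * u = u * x := by
      have := congrArg Subtype.val h1
      simpa using this
    have h3 := congrArg Units.val h2
    rw [Units.val_mul, Units.val_mul] at h3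
    exact h3
  obtain ⟨σ, hσ⟩ := exists_algHom hirr U hU hcard hUE
  have hσinj : Function.Injective σ := σ.toRingHom.injective
  -- `U` is the image of the units of `K`
  have hUeq : U = (Units.map (σ : K →* Module.End F K)).range := by
    symm
    apply Subgroup.eq_of_le_of_card_ge
    · rintro _ ⟨k, rfl⟩
      rcases Ecent_eq hirr U hcard hUE ⟨σ k, hσ k⟩ with h | ⟨u, hu, huk⟩
      · exfalso
        have h1 : σ (k : K) = 0 := congrArg Subtype.val h
        have h2 : (k : K) = 0 := by
          apply hσinj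
          rw [h1, map_zero]
        exact k.ne_zero h2
      · have : Units.map (σ : K →* Module.End F K) k = u := Units.ext huk.symm
        rw [this]; exact hu
    · have hinj : Function.Injective (Units.map (σ : K →* Module.End F K)) := by
        intro a b hab
        apply Units.ext
        apply hσinj
        exact congrArg Units.val hab
      have h1 : Nat.card (Units.map (σ : K →* Module.End F K)).range = Fintype.card K - 1 := by
        rw [Nat.card_congr (MonoidHom.ofInjective hinj).symm.toEquiv, Nat.card_units,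
          Nat.card_eq_fintype_card]
      rw [h1, hcard]
  -- the conjugating element
  let g₀ : K →ₗ[F] K :=
    { toFun := fun k => σ k 1
      map_add' := fun a b => by rw [map_add]; rfl
      map_smul' := fun c a => by rw [map_smul]; rfl }
  have hg₀mul : ∀ k k' : K, g₀ (k * k') = σ k (g₀ k') := by
    intro k k'
    show σ (k * k') 1 = σ k (σ k' 1)
    rw [map_mul]; rfl
  have hg₀inj : Function.Injective g₀ := by
    rw [injective_iff_map_eq_zero]
    intro k hk
    by_contra hk0
    have h1 : σ k⁻¹ (σ k 1) = 1 := by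
      have : σ k⁻¹ (σ k 1) = (σ k⁻¹ * σ k) 1 := rfl
      have h3 : σ k⁻¹ * σ k = 1 := by rw [← map_mul, inv_mul_cancel₀ hk0, map_one]
      rw [this, h3]; rfl
    have h2 : σ k 1 = 0 := hk
    rw [h2, map_zero] at h1
    exact zero_ne_one h1
  have hg₀bij : Function.Bijective g₀ := ⟨hg₀inj, Finite.injective_iff_surjective.mp hg₀inj⟩
  let ge : K ≃ₗ[F] K := LinearEquiv.ofBijective g₀ hg₀bij
  let g : (Module.End F K)ˣ :=
    ⟨ge.toLinearMap, ge.symm.toLinearMap, by ext; simp, by ext; simp⟩
  have hrel : ∀ k : Kˣ, g * Units.map ((Algebra.lmul F K : K →ₐ[F] Module.End F K) : K →* Module.End F K) k =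
      Units.map (σ : K →* Module.End F K) k * g := by
    intro k
    apply Units.ext
    apply LinearMap.ext
    intro k'
    show g₀ ((k : K) * k') = σ k (g₀ k')
    exact hg₀mul _ _
  refine ⟨g⁻¹, ?_⟩
  rw [hUeq, MonoidHom.map_range]
  congr 1
  apply MonoidHom.ext
  intro k
  show g⁻¹ * Units.map (σ : K →* Module.End F K) k * g⁻¹⁻¹ = _
  rw [inv_inv, mul_assoc, ← hrel, ← mul_assoc, inv_mul_cancel, one_mul]

/-- Let F ⊆ K be finite fields with |F| = q and [K : F] = n ≥ 2, regard K as an n-dimensional F-vector space, and let M ≤ GL_F(K) be the Singer group of multiplications by non-zero elements of K (cyclic of order q^n − 1). Assume (n, q) ≠ (6, 2), and that it is not the case that n = 2 with q a prime such that q + 1 is a power of 2. Then every abelian subgroup of GL_F(K) of order q^n − 1 is conjugate to M. -/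
theorem result {F K : Type*} [Field F] [Fintype F] [Field K] [Fintype K] [Algebra F K] (n : ℕ) (hn : 2 ≤ n) (hdim : Module.finrank F K = n)
    (hex1 : ¬ (n = 6 ∧ Fintype.card F = 2))
    (hex2 : ¬ (n = 2 ∧ (Fintype.card F).Prime ∧ ∃ a : ℕ, Fintype.card F + 1 = 2 ^ a))
    (U : Subgroup (Module.End F K)ˣ) (hU : IsMulCommutative U) (hcard : Nat.card U = Fintype.card K - 1) :
    ∃ g : (Module.End F K)ˣ, U.map (MulAut.conj g).toMonoidHom = (Units.map ((Algebra.lmul F K : K →ₐ[F] Module.End F K) : K →* Module.End F K)).range := by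
  exact main n hn hdim hex1 hex2 U hU hcard

end Cfsg.Agent.S5947
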