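import Cfsg.Statements.S5952
import Mathlib

set_option autoImplicit false
open Cfsg

namespace Cfsg.Agent.S5952

section Aux
open Module Submodule

variable {F V : Type*} [Field F] [AddCommGroup V] [Module F V] [FiniteDimensional F V]

/-- subspace of prescribed dimension inside a subspace -/
lemma exists_le_finrank_eq (C : Submodule F V) (i : ℕ) (hi : i ≤ finrank F C) :
    ∃ X : Submodule F V, X ≤ C ∧ finrank F X = i := by
  obtain ⟨b, hb⟩ := exists_linearIndependent_of_le_finrank hi
  refine ⟨(span F (Set.range b)).map C.subtype, ?_, ?_⟩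
  · rintro _ ⟨x, -, rfl⟩
    exact x.2
  · have h1 := (Submodule.equivMapOfInjective C.subtype C.injective_subtype
      (span F (Set.range b))).finrank_eq
    rw [← h1, finrank_span_eq_card hb, Fintype.card_fin]

variable (f : V →ₗ[F] V)

omit [FiniteDimensional F V] in
lemma inv_sup {A B : Submodule F V} (hA : A.map f ≤ A) (hB : B.map f ≤ B) :
    (A ⊔ B).map f ≤ A ⊔ B := by
  rw [Submodule.map_sup]
  exact sup_le_sup hA hB

omit [FiniteDimensional F V] in
lemma inv_inf {A B : Submodule F V} (hA : A.map f ≤ A) (hB : B.map f ≤ B) :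
    (A ⊓ B).map f ≤ A ⊓ B := by
  rintro _ ⟨x, hx, rfl⟩
  exact ⟨hA ⟨x, hx.1, rfl⟩, hB ⟨x, hx.2, rfl⟩⟩

/-- key dimension step: if `A ⊓ D = ⊥` and `W ≤ A ⊔ D` then
`dim W = dim (W ⊓ D) + dim ((W ⊔ D) ⊓ A)`. -/
lemma finrank_split (A D W : Submodule F V) (hAD : A ⊓ D = ⊥) (hW : W ≤ A ⊔ D) :
    finrank F W = finrank F ↥(W ⊓ D) + finrank F ↥((W ⊔ D) ⊓ A) := by
  have h1 := Submodule.finrank_sup_add_finrank_inf_eq W D
  -- modular law
  have h2 : W ⊔ D = ((W ⊔ D) ⊓ A) ⊔ D := by
    apply le_antisymm
    · have : W ⊔ D ≤ (A ⊔ D) := sup_le hW le_sup_right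
      intro x hx
      obtain ⟨y, hy, z, hz, rfl⟩ := Submodule.mem_sup.mp (this hx)
      refine Submodule.mem_sup.mpr ⟨y, ⟨?_, hy⟩, z, hz, rfl⟩
      have hz' : z ∈ W ⊔ D := Submodule.mem_sup_right hz
      have := (W ⊔ D).sub_mem hx hz'
      rwa [add_sub_cancel_right] at this
    · exact sup_le inf_le_left le_sup_right
  have h3 := Submodule.finrank_sup_add_finrank_inf_eq ((W ⊔ D) ⊓ A) D
  have h4 : ((W ⊔ D) ⊓ A) ⊓ D = ⊥ := by
    rw [inf_assoc, hAD, inf_bot_eq]
  rw [h4, finrank_bot, add_zero, ← h2] at h3
  omega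


section blocks
variable {ι : Type*} [DecidableEq ι] (U : ι → Submodule F V) (a : ℕ)
  (hUinv : ∀ j, (U j).map f ≤ U j) (hUdim : ∀ j, finrank F ↥(U j) = a)
  (hUirr : ∀ j, ∀ W : Submodule F V, W ≤ U j → W.map f ≤ W → W = ⊥ ∨ W = U j)
  (hind : iSupIndep U)

include hind in
omit [FiniteDimensional F V] in
lemma disj_insert (S : Finset ι) (j : ι) (hj : j ∉ S) : U j ⊓ S.sup U = ⊥ := by
  have h1 := hind j
  have h2 : S.sup U ≤ ⨆ (j') (_ : j' ≠ j), U j' :=
    Finset.sup_le fun j' hj' => le_iSup₂_of_le j' (ne_of_mem_of_not_mem hj' hj) le_rfl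
  exact (h1.mono_right h2).eq_bot

include hUinv in
omit [FiniteDimensional F V] [DecidableEq ι] in
lemma inv_finsup (S : Finset ι) : (S.sup U).map f ≤ S.sup U := by
  classical
  induction S using Finset.induction_on with
  | empty => simp
  | insert j S hj ih =>
    rw [Finset.sup_insert]
    exact inv_sup f (hUinv j) ih

include hUdim hind in
lemma finrank_finsup (S : Finset ι) : finrank F ↥(S.sup U) = S.card * a := by
  induction S using Finset.induction_on with
  | empty => simp
  | insert j S hj ih =>
    rw [Finset.sup_insert, Finset.card_insert_of_notMem hj]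
    have h1 := Submodule.finrank_sup_add_finrank_inf_eq (U j) (S.sup U)
    rw [disj_insert U hind S j hj, finrank_bot, add_zero, hUdim, ih] at h1
    rw [h1]; ring

include hUinv hUdim hUirr hind in
lemma dvd_finrank_of_le_finsup (S : Finset ι) :
    ∀ W : Submodule F V, W ≤ S.sup U → W.map f ≤ W → a ∣ finrank F W := by
  induction S using Finset.induction_on with
  | empty =>
    intro W hW _
    rw [Finset.sup_empty, le_bot_iff] at hW
    rw [hW, finrank_bot]; exact dvd_zero a
  | insert j S hj ih =>
    intro W hW hWinv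
    rw [Finset.sup_insert] at hW
    have hsplit := finrank_split (U j) (S.sup U) W (disj_insert U hind S j hj) hW
    have hDinv := inv_finsup f U hUinv S
    have h1 := ih (W ⊓ S.sup U) inf_le_right (inv_inf f hWinv hDinv)
    have h2 := hUirr j ((W ⊔ S.sup U) ⊓ U j) inf_le_right
      (inv_inf f (inv_sup f hWinv hDinv) (hUinv j))
    rw [hsplit]
    rcases h2 with h2 | h2
    · rw [h2, finrank_bot, add_zero]; exact h1
    · rw [h2, hUdim]; exact Dvd.dvd.add h1 (dvd_refl a)

end blocks


theorem main (hf : Function.Bijective f)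
    {s a : ℕ} (ha : 1 ≤ a) (U : Fin s → Submodule F V)
    (hUinv : ∀ j, (U j).map f ≤ U j) (hUdim : ∀ j, Module.finrank F ↥(U j) = a)
    (hUirr : ∀ j, ∀ W : Submodule F V, W ≤ U j → W.map f ≤ W → W = ⊥ ∨ W = U j)
    (hdec : DirectSum.IsInternal (fun o : Option (Fin s) => o.elim (Module.End.eigenspace f 1) U))
    (m : ℕ) (hm : 0 < m) (hmV : m < Module.finrank F V) :
    (∃ W : Submodule F V, Module.finrank F ↥W = m ∧ W.map f ≤ W) ↔
    (m ≤ Module.finrank F ↥(Module.End.eigenspace f 1) ∨
      (a ≤ m ∧ m % a ≤ Module.finrank F ↥(Module.End.eigenspace f 1))) := by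
  classical
  set C := Module.End.eigenspace f 1 with hC
  set c := finrank F ↥C with hc
  have hindA := hdec.submodule_iSupIndep
  have htop := hdec.submodule_iSup_eq_top
  have hindU : iSupIndep U := hindA.comp (Option.some_injective _)
  set D := (Finset.univ : Finset (Fin s)).sup U with hD
  have hCD : C ⊓ D = ⊥ := by
    have h1 := hindA none
    have h2 : D ≤ ⨆ (o : Option (Fin s)) (_ : o ≠ none), o.elim C U :=
      Finset.sup_le fun j _ => le_iSup₂_of_le (some j) (Option.some_ne_none j) le_rfl
    exact (h1.mono_right h2).eq_bot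
  have hCDtop : C ⊔ D = ⊤ := by
    rw [iSup_option] at htop
    rw [hD, Finset.sup_univ_eq_iSup]
    exact htop
  have hDdim : finrank F ↥D = s * a := by
    rw [hD, finrank_finsup U a hUdim hindU, Finset.card_univ, Fintype.card_fin]
  have hVdim : finrank F V = c + s * a := by
    have h1 := Submodule.finrank_sup_add_finrank_inf_eq C D
    rw [hCD, hCDtop, finrank_bot, add_zero, finrank_top, hDdim] at h1
    exact h1
  have hCfix : ∀ X : Submodule F V, X ≤ C → X.map f ≤ X := by
    rintro X hX _ ⟨x, hx, rfl⟩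
    have := Module.End.mem_eigenspace_iff.mp (hX hx)
    rw [one_smul] at this
    rw [this]; exact hx
  constructor
  · rintro ⟨W, hWdim, hWinv⟩
    have hsplit := finrank_split C D W hCD (by rw [hCDtop]; exact le_top)
    have hDinv := inv_finsup f U hUinv Finset.univ
    obtain ⟨k, hk⟩ := dvd_finrank_of_le_finsup f U a hUinv hUdim hUirr hindU Finset.univ
      (W ⊓ D) inf_le_right (inv_inf f hWinv hDinv)
    have hi : finrank F ↥((W ⊔ D) ⊓ C) ≤ c := Submodule.finrank_mono inf_le_right
    rw [hWdim, hk] at hsplit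
    set i := finrank F ↥((W ⊔ D) ⊓ C) with hi'
    rcases Nat.eq_zero_or_pos k with hk0 | hk0
    · left
      rw [hsplit, hk0, mul_zero, zero_add]; exact hi
    · right
      refine ⟨?_, ?_⟩
      · rw [hsplit]
        have : a ≤ a * k := Nat.le_mul_of_pos_right a hk0
        omega
      · rw [hsplit, Nat.mul_add_mod]
        exact (Nat.mod_le i a).trans hi
  · rintro (h | ⟨ham, hmod⟩)
    · obtain ⟨X, hXC, hXdim⟩ := exists_le_finrank_eq C m h
      exact ⟨X, hXdim, hCfix X hXC⟩
    · set k := m / a with hk
      set j := min k s with hj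
      have hjs : j ≤ (Finset.univ : Finset (Fin s)).card := by
        rw [Finset.card_univ, Fintype.card_fin]; exact min_le_right _ _
      obtain ⟨S, -, hScard⟩ := Finset.exists_subset_card_eq hjs
      have hka : k * a ≤ m := Nat.div_mul_le_self m a
      have hja : j * a ≤ m := (Nat.mul_le_mul_right a (min_le_left k s)).trans hka
      have hi : m - j * a ≤ c := by
        rcases le_total k s with hks | hks
        · have : j = k := min_eq_left hks
          rw [this]
          have h1 := Nat.div_add_mod m a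
          have h2 : k * a = a * (m / a) := by rw [hk, mul_comm]
          omega
        · have : j = s := min_eq_right hks
          rw [this]
          omega
      obtain ⟨X, hXC, hXdim⟩ := exists_le_finrank_eq C (m - j * a) hi
      refine ⟨X ⊔ S.sup U, ?_, inv_sup f (hCfix X hXC) (inv_finsup f U hUinv S)⟩
      have h1 := Submodule.finrank_sup_add_finrank_inf_eq X (S.sup U)
      have h2 : X ⊓ S.sup U = ⊥ := by
        apply le_bot_iff.mp
        rw [← hCD]
        exact inf_le_inf hXC (Finset.sup_mono (Finset.subset_univ S))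
      rw [h2, finrank_bot, add_zero, hXdim, finrank_finsup U a hUdim hindU, hScard] at h1
      omega


end Aux

/-- Which dimensions of invariant subspaces a semisimple linear map has. Let `V` be a finite-dimensional vector space over a field `F` and `f` an invertible semisimple linear map of `V`. Suppose `V` is the internal direct sum of the fixed space `C_V(f)` (the eigenspace for 1) and subspaces `U_1, …, U_s`, each `f`-invariant of dimension `a ≥ 1` on which `f` acts irreducibly (no `f`-invariant subspaces other than 0 and `U_j`). Let `0 < m < dim V` and `ℓ = m mod a`. Then `f` leaves some `m`-dimensional subspace invariant if and only if `dim C_V(f) ≥ m`, or `a ≤ m` and `dim C_V(f) ≥ ℓ`. -/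
theorem result {F V : Type*} [Field F] [AddCommGroup V] [Module F V]
    [FiniteDimensional F V] (f : V →ₗ[F] V) (hf : Function.Bijective f) (hss : Module.End.IsSemisimple f)
    {s a : ℕ} (ha : 1 ≤ a) (U : Fin s → Submodule F V)
    (hUinv : ∀ j, (U j).map f ≤ U j) (hUdim : ∀ j, Module.finrank F ↥(U j) = a)
    (hUirr : ∀ j, ∀ W : Submodule F V, W ≤ U j → W.map f ≤ W → W = ⊥ ∨ W = U j)
    (hdec : DirectSum.IsInternal (fun o : Option (Fin s) => o.elim (Module.End.eigenspace f 1) U))
    (m : ℕ) (hm : 0 < m) (hmV : m < Module.finrank F V) :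
    (∃ W : Submodule F V, Module.finrank F ↥W = m ∧ W.map f ≤ W) ↔
    (m ≤ Module.finrank F ↥(Module.End.eigenspace f 1) ∨
      (a ≤ m ∧ m % a ≤ Module.finrank F ↥(Module.End.eigenspace f 1))) := by
  exact main f hf ha U hUinv hUdim hUirr hdec m hm hmV

end Cfsg.Agent.S5952
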