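import Cfsg.Statements.S5953
-- import your own Cfsg.Agent.* helpers here
import Cfsg.Agent.Lib.Helper12.UnK

set_option autoImplicit false
open scoped MatrixGroups
open Cfsg

namespace Cfsg.Agent.S5953

/-- Elements of prime order of PSU_n(q) with no fixed totally isotropic `m`-space. Here `T = PSU_n(q)` (`n ≥ 3`, `(n, q) ≠ (3, 2)`), realised through the matrices of determinant 1 over the field `F` with `q²` elements preserving the Hermitian form `h(u, v) = Σ u_i v_i^q`; an element of `T` of prime order `r` is such a matrix `x` with `x^r` scalar and `x` not scalar. For `r ≠ p` let `i` be the multiplicative order of `q` modulo `r`, `b = i/2` for `i` even and `b = i` for `i` odd, `c = i, i/2, 2i` according as `i ≡ 0, 2 (mod 4)` or `i` odd, and write `k = n mod c`, `ℓ = m mod b`, `ℓ' = m mod c`, `n' = ⌊n/b⌋`, `m' = ⌊m/b⌋`, `s = (r−1)/b`; `(a)_r` is the `r`-part of `a`. Let `1 ≤ m ≤ n/2` and let `r` be a prime dividing the number of totally isotropic `m`-spaces.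 Then every element of `T` of order `r` fixes a totally isotropic `m`-space if and only if either (i) `r = 2`, `p ≠ 2`, and (`m < n/2` or `(q+1)_2 ≤ (n)_2`); or (ii) `r ≠ p`, `r > 2`, `b ≤ m`, `k ≥ 2ℓ`, and either `i ≢ 2 (mod 4)`, or `i ≡ 2 (mod 4)`, `n' − 2m' ≥ s` and (`i > 2`, or `i = 2` and (`r ∣ m` or `(q+1)_r ≥ (n)_r`)). -/
theorem result {F : Type*} [Field F] [Fintype F] {p : ℕ} [Fact p.Prime] [CharP F p] {q : ℕ} (hq : Fintype.card F = q ^ 2)
    (n m : ℕ) (hn : 3 ≤ n) (hT : (n, q) ≠ (3, 2)) (hm : 1 ≤ m) (hmn : 2 * m ≤ n)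
    (r : ℕ) [Fact r.Prime]
    (hrΩ : r ∣ Nat.card {W : Submodule F (Fin n → F) // Module.finrank F ↥W = m ∧ (∀ u ∈ W, ∀ v ∈ W, Cfsg.hermForm n F q u v = 0)})
    (i b c : ℕ) (hi : i = orderOf (q : ZMod r)) (hb : b = if Even i then i / 2 else i)
    (hc : c = if i % 4 = 0 then i else if i % 4 = 2 then i / 2 else 2 * i) :
    (∀ x : Matrix.SpecialLinearGroup (Fin n) F, x ∈ Cfsg.SU n F q →
      (∃ z : F, ((x ^ r : Matrix.SpecialLinearGroup (Fin n) F) : Matrix (Fin n) (Fin n) F) = z • (1 : Matrix (Fin n) (Fin n) F)) →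
      (∀ z : F, (x : Matrix (Fin n) (Fin n) F) ≠ z • (1 : Matrix (Fin n) (Fin n) F)) →
      ∃ W : Submodule F (Fin n → F), Module.finrank F ↥W = m ∧ (∀ u ∈ W, ∀ v ∈ W, Cfsg.hermForm n F q u v = 0) ∧
        W.map (Matrix.toLin' (x : Matrix (Fin n) (Fin n) F)) ≤ W) ↔
    ((r = 2 ∧ p ≠ 2 ∧ (2 * m < n ∨ padicValNat 2 (q + 1) ≤ padicValNat 2 n)) ∨
     (r ≠ p ∧ 2 < r ∧ b ≤ m ∧ 2 * (m % b) ≤ n % c ∧
       (i % 4 ≠ 2 ∨ (i % 4 = 2 ∧ (r - 1) / b + 2 * (m / b) ≤ n / b ∧
         (2 < i ∨ (i = 2 ∧ (r ∣ m ∨ padicValNat r n ≤ padicValNat r (q + 1)))))))) := by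
  classical
  have hr : r.Prime := Fact.out
  have hp : p.Prime := Fact.out
  obtain ⟨e, he⟩ := Cfsg.Agent.Lib.Helper12.Un.exists_pow_eq hq p
  subst he
  rw [Cfsg.Agent.Lib.Helper12.Un.lhs_iff hq n m r]
  have hrp : r ≠ p := by
    intro h
    rw [h] at hrΩ
    exact Cfsg.Agent.Lib.Helper12.Un.not_dvd_card_tiSub hq p n m hm hmn hrΩ
  have hb₀ := Cfsg.Agent.Lib.Helper12.Un.b_eq hq r
  rw [← hi] at hb₀
  have hbb : orderOf (Fintype.card F : ZMod r) = b := hb₀.trans hb.symm
  have hcc : (if i % 4 = 2 then b else 2 * b) = c := by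
    rw [hc]
    exact Cfsg.Agent.Lib.Helper12.Un.c_eq i b hb
  by_cases hr2 : r = 2
  · subst hr2
    have hp2 : p ≠ 2 := fun h => hrp h.symm
    constructor
    · intro H
      left
      exact ⟨rfl, hp2, Cfsg.Agent.Lib.Helper12.Un.fwd_two p e hq n m hn hmn hp2 H⟩
    · rintro (⟨-, -, h⟩ | ⟨-, h, -⟩)
      · intro A hA hdet hz _
        exact Cfsg.Agent.Lib.Helper12.Un.bwd_two p e hq n m hn hmn hp2 h A hA hdet hz
      · omega
  · have h2r : 2 < r := by
      have := hr.two_le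
      omega
    constructor
    · intro H
      right
      obtain ⟨h1, h2, h3⟩ := Cfsg.Agent.Lib.Helper12.Un.fwd_odd p e hq n m hn hmn r hr2 hrp hrΩ H
      rw [← hi, hbb] at h2 h3
      rw [hbb] at h1
      rw [hcc] at h2
      refine ⟨hrp, h2r, h1, h2, ?_⟩
      by_cases hmod : i % 4 = 2
      · right
        have h4 := h3.resolve_left (not_not.2 hmod)
        refine ⟨hmod, h4.1, ?_⟩
        by_cases hi2 : i = 2
        · right
          refine ⟨hi2, ?_⟩
          rcases h4.2 with h5 | h5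
          · omega
          · exact h5
        · left
          omega
      · left
        exact hmod
    · rintro (⟨h, -⟩ | ⟨-, -, -, h2, h3⟩)
      · exact absurd h hr2
      · intro A hA hdet hz _
        refine Cfsg.Agent.Lib.Helper12.Un.bwd_odd p e hq n m hn hmn r hr2 hrp ?_ ?_ A hA hdet hz
        · rw [← hi, hbb, hcc]
          exact h2
        · rw [← hi, hbb]
          rcases h3 with h | ⟨-, h4, h5⟩
          · exact Or.inl h
          · right
            refine ⟨h4, ?_⟩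
            rcases h5 with h6 | ⟨-, h6⟩
            · exact Or.inl h6
            · exact Or.inr h6

end Cfsg.Agent.S5953
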