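import Cfsg.Statements.S5954
-- import your own Cfsg.Agent.* helpers here
import Cfsg.Agent.Lib.Helper22.NdUnJ

set_option autoImplicit false
open scoped MatrixGroups
open Cfsg

namespace Cfsg.Agent.S5954


open Module Cfsg.Agent.Lib.Helper12.Elus Cfsg.Agent.Lib.Helper12.Un Cfsg.Agent.Lib.Helper14
  Cfsg.Agent.Lib.Helper22.NdUn

/-- Elements of prime order of PSU_n(q) with no fixed nondegenerate `m`-space. Here `T = PSU_n(q)` (`n ≥ 3`, `(n, q) ≠ (3, 2)`), realised through the matrices of determinant 1 over the field `F` with `q²` elements preserving the Hermitian form `h(u, v) = Σ u_i v_i^q`; an element of `T` of prime order `r` is such a matrix `x` with `x^r` scalar and `x` not scalar. For `r ≠ p` let `i` be the multiplicative order of `q` modulo `r`, `b = i/2` for `i` even and `b = i` for `i` odd, `c = i, i/2, 2i` according as `i ≡ 0, 2 (mod 4)` or `i` odd, and write `k = n mod c`, `ℓ = m mod b`, `ℓ' = m mod c`, `n' = ⌊n/b⌋`, `m' = ⌊m/b⌋`,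 `s = (r−1)/b`; `(a)_r` is the `r`-part of `a`. Let `1 ≤ m < n/2` and let `r` be a prime dividing the number of nondegenerate `m`-spaces. Then every element of `T` of order `r` fixes a nondegenerate `m`-space if and only if one of: (i) `r = p > 2` and every partition of `n` into parts of size at most `p` contains (as a sub-multiset) a partition of `m`; (ii) `r = p = 2` and (`n` is odd or `m` is even); (iii) `r = 2 ≠ p` and (`n` is odd, or `m` is even, or `(q+1)_2 ≥ (n)_2` and `q ≡ 3 (mod 4)`); (iv) `r ≠ p`, `r > 2`, and either `i ≠ 2`, `c ≤ m` and `k ≥ ℓ'`, or `i = 2` and (`r ∣ m` or `(q+1)_r ≥ (n)_r`). -/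
theorem result {F : Type*} [Field F] [Fintype F] {p : ℕ} [Fact p.Prime] [CharP F p] {q : ℕ} (hq : Fintype.card F = q ^ 2)
    (n m : ℕ) (hn : 3 ≤ n) (hT : (n, q) ≠ (3, 2)) (hm : 1 ≤ m) (hmn : 2 * m < n)
    (r : ℕ) [Fact r.Prime]
    (hrΩ : r ∣ Nat.card {W : Submodule F (Fin n → F) // Module.finrank F ↥W = m ∧ (∀ u ∈ W, u ≠ 0 → ∃ v ∈ W, Cfsg.hermForm n F q u v ≠ 0)})
    (i b c : ℕ) (hi : i = orderOf (q : ZMod r)) (hb : b = if Even i then i / 2 else i)
    (hc : c = if i % 4 = 0 then i else if i % 4 = 2 then i / 2 else 2 * i) :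
    (∀ x : Matrix.SpecialLinearGroup (Fin n) F, x ∈ Cfsg.SU n F q →
      (∃ z : F, ((x ^ r : Matrix.SpecialLinearGroup (Fin n) F) : Matrix (Fin n) (Fin n) F) = z • (1 : Matrix (Fin n) (Fin n) F)) →
      (∀ z : F, (x : Matrix (Fin n) (Fin n) F) ≠ z • (1 : Matrix (Fin n) (Fin n) F)) →
      ∃ W : Submodule F (Fin n → F), Module.finrank F ↥W = m ∧ (∀ u ∈ W, u ≠ 0 → ∃ v ∈ W, Cfsg.hermForm n F q u v ≠ 0) ∧
        W.map (Matrix.toLin' (x : Matrix (Fin n) (Fin n) F)) ≤ W) ↔
    ((r = p ∧ 2 < p ∧ (∀ μ : Multiset ℕ, (∀ a ∈ μ, 0 < a ∧ a ≤ p) → μ.sum = n → ∃ ν : Multiset ℕ, ν ≤ μ ∧ ν.sum = m)) ∨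
     (r = p ∧ p = 2 ∧ (Odd n ∨ Even m)) ∨
     (r = 2 ∧ p ≠ 2 ∧ (Odd n ∨ Even m ∨ (padicValNat 2 n ≤ padicValNat 2 (q + 1) ∧ q % 4 = 3))) ∨
     (r ≠ p ∧ 2 < r ∧ ((i ≠ 2 ∧ c ≤ m ∧ m % c ≤ n % c) ∨ (i = 2 ∧ (r ∣ m ∨ padicValNat r n ≤ padicValNat r (q + 1)))))) := by
  classical
  have hr : r.Prime := Fact.out
  have hp : p.Prime := Fact.out
  obtain ⟨e, he⟩ := Cfsg.Agent.Lib.Helper12.Un.exists_pow_eq hq p
  subst he
  rw [lhsN_iff hq n m r]
  have hcc : c = cdim F (p ^ e) r := by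
    rw [hc, hi]
    exact (cdim_eq p e hq r).symm
  have hrΩ' : r ∣ Nat.card (NdSub F (p ^ e) n m) := hrΩ
  constructor
  · intro H
    by_cases hrp : r = p
    · have H1 : ∀ A : Matrix (Fin n) (Fin n) F, IsUni F (p ^ e) n A → A.det = 1 → A ^ p = 1 →
          (∀ z : F, A ≠ z • (1 : Matrix (Fin n) (Fin n) F)) → FixesN hq n m A := by
        intro A hA hdet hAp hns
        exact H A hA hdet ⟨1, by rw [hrp, hAp, one_smul]⟩ hns
      by_cases hp2 : p = 2
      · right; left
        refine ⟨hrp, hp2, ?_⟩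
        apply part_two_only n m
        intro μ hμ hsum
        exact fwd_unip p e hq n m (by omega) H1 μ (by rw [hp2]; exact hμ) hsum
      · left
        refine ⟨hrp, lt_of_le_of_ne hp.two_le (Ne.symm hp2), ?_⟩
        intro μ hμ hsum
        exact fwd_unip p e hq n m (by omega) H1 μ hμ hsum
    · by_cases hr2 : r = 2
      · right; right; left
        subst hr2
        have hp2 : p ≠ 2 := fun h => hrp h.symm
        exact ⟨rfl, hp2, fwd_two p e hq n m hn hp2 H⟩
      · right; right; right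
        have h2r : 2 < r := lt_of_le_of_ne hr.two_le (Ne.symm hr2)
        have h1 := fwd_odd p e hq n m hn hmn r hr2 hrp hrΩ' H
        refine ⟨hrp, h2r, ?_⟩
        rw [hcc, hi]
        exact h1
  · rintro (⟨hrp, -, hpart⟩ | ⟨hrp, hp2, hcase⟩ | ⟨hr2, hp2, hcase⟩ | ⟨hrp, h2r, hcase⟩)
    · intro A hA _ hz _
      rw [hrp] at hz
      exact bwd_unip p e hq n m (by omega) hpart A hA hz
    · intro A hA _ hz _
      rw [hrp] at hz
      apply bwd_unip p e hq n m (by omega) _ A hA hz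
      intro μ hμ hsum
      exact part_two_of n m (by omega) hcase μ (by rw [← hp2]; exact hμ) hsum
    · intro A hA hdet hz _
      subst hr2
      exact bwd_two p e hq n m (by omega) (by omega) hp2 hcase A hA hdet hz
    · intro A hA hdet hz _
      apply bwd_odd p e hq n m (by omega) (by omega) r (by omega) hrp _ A hA hdet hz
      rw [hcc, hi] at hcase
      rcases hcase with ⟨h1, -, h3⟩ | ⟨h1, h2⟩
      · exact Or.inl ⟨h1, h3⟩
      · exact Or.inr ⟨h1, h2⟩

end Cfsg.Agent.S5954
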