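import Cfsg.Statements.S5955
-- import your own Cfsg.Agent.* helpers here
import Cfsg.Agent.Lib.Helper12.SpK
import Cfsg.Agent.Lib.Helper12.SpL
import Cfsg.Agent.Lib.Helper12.SpM

set_option autoImplicit false
open scoped MatrixGroups
open Cfsg

namespace Cfsg.Agent.S5955

open Module Polynomial Cfsg.Agent.Lib.Helper12.Elus Cfsg.Agent.Lib.Helper12.Sp
  Cfsg.Agent.Lib.Helper15

section aux

universe u

variable {F : Type u} [Field F] [Fintype F] {p : ℕ} [Fact p.Prime] [CharP F p]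

/-- the matrix-level form of the left-hand side -/
def Fixes (d m : ℕ) (A : Matrix (Fin d ⊕ Fin d) (Fin d ⊕ Fin d) F) : Prop :=
  ∃ W : Submodule F (Fin d ⊕ Fin d → F), finrank F W = m ∧
    W ≤ (sympBilin d (F := F)).orthogonal W ∧ ∀ u ∈ W, Matrix.toLin' A u ∈ W

/-- odd `r`: necessity -/
theorem fwd_odd (d m : ℕ) (hd : 2 ≤ d) (hm : 1 ≤ m) (hmd : m ≤ d) (r : ℕ) [Fact r.Prime]
    (hr2 : r ≠ 2) (hrp : r ≠ p)
    (hrΩ : r ∣ Nat.card (IsoSub F d m))
    (H : ∀ A : Matrix (Fin d ⊕ Fin d) (Fin d ⊕ Fin d) F, A ∈ Matrix.symplecticGroup (Fin d) F →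
      A ^ r = 1 → (∀ z : F, A ≠ z • (1 : Matrix (Fin d ⊕ Fin d) (Fin d ⊕ Fin d) F)) →
      Fixes d m A) :
    orderOf (Fintype.card F : ZMod r) ≤ m ∧
      2 * (m % orderOf (Fintype.card F : ZMod r)) ≤ (2 * d) % blockDim (Fintype.card F) r ∧
      (Odd (orderOf (Fintype.card F : ZMod r)) ∨
        (r - 1) / orderOf (Fintype.card F : ZMod r) + 2 * (m / orderOf (Fintype.card F : ZMod r)) ≤
          (2 * d) / orderOf (Fintype.card F : ZMod r)) := by
  classical
  have hr : r.Prime := Fact.out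
  have hr0 : (r : F) ≠ 0 := by
    rw [Ne, CharP.cast_eq_zero_iff F p]
    intro hd
    exact hrp ((Nat.prime_dvd_prime_iff_eq Fact.out Fact.out).1 hd).symm
  set B := sympBilin d (F := F) with hB
  have halt : ∀ v, B v v = 0 := stdB_alt d
  have hnd : ∀ x, (∀ y, B x y = 0) → x = 0 := stdB_nd d
  have hfin : finrank F (Fin d ⊕ Fin d → F) = 2 * d := std_finrank d
  set i₀ := orderOf (Fintype.card F : ZMod r) with hi₀
  set c := blockDim (Fintype.card F) r with hc
  have hipos : 0 < i₀ := orderOf_card_pos r hrp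
  have hcpos : 0 < c := blockDim_pos (F := F) r hrp
  have hq : 0 < Fintype.card F := Fintype.card_pos
  -- counting
  obtain ⟨j, hjm, hjdvd⟩ := exists_dvd_of_dvd_card_isoSub (F := F) d r hr m hmd hrΩ
  have hidvd : i₀ ∣ 2 * (d - j) := orderOf_dvd_of_dvd_pow_sub_one r _ _ hq hjdvd
  have hcdvd : c ∣ 2 * (d - j) := blockDim_dvd_of_dvd_two_mul _ r _ hidvd
  have hc2d : c ≤ 2 * d := by
    have := Nat.le_of_dvd (by omega) hcdvd
    omega
  have hνlt : (2 * d) % c < c := Nat.mod_lt _ hcpos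
  -- (N1)
  have hN1 : 2 * (m % i₀) ≤ (2 * d) % c := by
    obtain ⟨A, hA, hAr, hfix, -⟩ := exists_sp_model (F := F) r hr2 hrp d ((2 * d) % c)
      ((2 * d) / c) (Nat.mod_add_div _ _).symm
    have hns := nonscalar_of_fix d (by omega) r hr2 A hA hAr (by rw [hfix]; omega)
    obtain ⟨W, hWdim, hWiso, hWinv⟩ := H A hA hAr hns
    have hyr : (Matrix.toLin' A) ^ r = 1 := by
      rw [← Matrix.toLin'_pow, hAr, Matrix.toLin'_one]
      rfl
    have := iso_inv_mod B (Matrix.toLin' A) r halt hnd (std_iso d A hA) hyr hr0 W hWinv hWiso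
    rw [hWdim, hfix] at this
    exact this
  -- (N2)
  have hN2 : i₀ ≤ m := by
    by_contra hlt
    push Not at hlt
    rw [Nat.mod_eq_of_lt hlt] at hN1
    obtain ⟨k, hk⟩ := hcdvd
    have h1 : 2 * d = 2 * j + c * k := by omega
    have h2 : (2 * d) % c = 2 * j := by
      rw [h1, Nat.add_mul_mod_self_left, Nat.mod_eq_of_lt (by omega)]
    omega
  refine ⟨hN2, hN1, ?_⟩
  -- (N3)
  rcases Nat.even_or_odd i₀ with hev | hodd
  · right
    by_contra hcon
    push Not at hcon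
    have hci : c = i₀ := by rw [hc, blockDim, if_pos hev]
    rw [hci] at hN1 hc2d hνlt
    have hq0 : ((Fintype.card F : ℕ) : ZMod r) ≠ 0 := by
      rw [Ne, ZMod.natCast_eq_zero_iff]
      exact card_not_dvd (F := F) r hr hrp
    have hidvd' : i₀ ∣ r - 1 := orderOf_dvd_of_pow_eq_one (ZMod.pow_card_sub_one_eq_one hq0)
    set t := (r - 1) / i₀ with ht
    have hti : t * i₀ = r - 1 := Nat.div_mul_cancel hidvd'
    have ht1 : 1 ≤ t := by
      rcases Nat.eq_zero_or_pos t with h0 | h0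
      · rw [h0, zero_mul] at hti
        have := hr.two_le
        omega
      · exact h0
    obtain ⟨h, hmon, hirr, hnone, hdeg, hprod⟩ :=
      PrimeOrderClasses.exists_factor_family (F := F) (p := p) rfl r i₀ t hr hrp hi₀ hti
    have hsq : Squarefree (∏ o, h o) := by
      rw [hprod]
      have := (separable_X_pow_sub_C (1 : F) hr0 one_ne_zero).squarefree
      rwa [map_one] at this
    have hcop := PrimeOrderClasses.family_coprime h hmon hirr hsq
    set D := (2 * d) / i₀ with hD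
    set κ := m / i₀ with hκ
    have hD1 : 1 ≤ D := (Nat.one_le_div_iff hipos).2 hc2d
    have hκ1 : 1 ≤ κ := (Nat.one_le_div_iff hipos).2 hN2
    have hdm : i₀ * D + (2 * d) % i₀ = 2 * d := Nat.div_add_mod _ _
    have hmm : i₀ * κ + m % i₀ = m := Nat.div_add_mod _ _
    -- parameters
    obtain ⟨ε, hε⟩ : ∃ ε, ε = D - t := ⟨_, rfl⟩
    obtain ⟨s, hs⟩ : ∃ s, s = D - ε := ⟨_, rfl⟩
    have hst : s ≤ t := by omega
    have hs1 : 1 ≤ s := by omega
    have hεs : ε + s = D := by omega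
    have hn : 2 * d = ((2 * d) % i₀ + i₀ * ε) + i₀ * s := by
      have : i₀ * D = i₀ * ε + i₀ * s := by rw [← hεs, mul_add]
      omega
    obtain ⟨A, hA, hAr, hfix, hker⟩ := exists_sp_model3 (F := F) r hr2 hrp hev h hmon hirr hnone hdeg
      hprod hcop d _ s hst hn
    have hispos : 0 < i₀ * s := Nat.mul_pos hipos (by omega)
    have hns := nonscalar_of_fix d (by omega) r hr2 A hA hAr (by rw [hfix]; omega)
    obtain ⟨W, hWdim, hWiso, hWinv⟩ := H A hA hAr hns
    have hyr : (Matrix.toLin' A) ^ r = 1 := by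
      rw [← Matrix.toLin'_pow, hAr, Matrix.toLin'_one]
      rfl
    have hiso := std_iso d A hA
    have hbot : W ⊓ movR (Matrix.toLin' A) = ⊥ := by
      apply no_iso_in_mov B (Matrix.toLin' A) r halt hnd hiso hrp hyr hev h hnone hprod hcop hker _
        inf_le_right (inf_invariant _ _ _ hWinv (movR_invariant _))
      intro w hw
      rw [mem_orth]
      intro n hn'
      exact (mem_orth B W w).1 (hWiso hw.1) n hn'.1
    obtain ⟨h1, h2, -⟩ := iso_inv_split B (Matrix.toLin' A) r halt hnd hiso hyr hr0 W hWinv hWiso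
    rw [hbot, finrank_bot, add_zero] at h1
    rw [← h1, hWdim, hfix] at h2
    -- arithmetic
    obtain ⟨κ', hκ'⟩ : ∃ κ', κ = κ' + 1 := ⟨κ - 1, by omega⟩
    have hε' : ε ≤ 2 * κ' + 1 := by omega
    have h3 : i₀ * ε ≤ 2 * (i₀ * κ') + i₀ := by
      calc i₀ * ε ≤ i₀ * (2 * κ' + 1) := Nat.mul_le_mul_left _ hε'
        _ = 2 * (i₀ * κ') + i₀ := by ring
    have h4 : i₀ * κ = i₀ * κ' + i₀ := by rw [hκ', mul_add, mul_one]
    omega
  · left
    exact hodd

/-- odd `r`: sufficiency -/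
theorem bwd_odd (d m : ℕ) (hd : 1 ≤ d) (hmd : m ≤ d) (r : ℕ) [Fact r.Prime]
    (hr2 : r ≠ 2) (hrp : r ≠ p)
    (h1 : 2 * (m % orderOf (Fintype.card F : ZMod r)) ≤ (2 * d) % blockDim (Fintype.card F) r)
    (h2 : Odd (orderOf (Fintype.card F : ZMod r)) ∨
      (r - 1) / orderOf (Fintype.card F : ZMod r) + 2 * (m / orderOf (Fintype.card F : ZMod r)) ≤
        (2 * d) / orderOf (Fintype.card F : ZMod r))
    (A : Matrix (Fin d ⊕ Fin d) (Fin d ⊕ Fin d) F) (hA : A ∈ Matrix.symplecticGroup (Fin d) F)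
    (z : F) (hz : A ^ r = z • (1 : Matrix (Fin d ⊕ Fin d) (Fin d ⊕ Fin d) F)) :
    Fixes d m A := by
  have hr : r.Prime := Fact.out
  set B := sympBilin d (F := F) with hB
  set y₀ := Matrix.toLin' A with hy₀
  have halt : ∀ v, B v v = 0 := stdB_alt d
  have hnd : ∀ x, (∀ y, B x y = 0) → x = 0 := stdB_nd d
  have hfin : finrank F (Fin d ⊕ Fin d → F) = 2 * d := std_finrank d
  have hiso₀ : ∀ u v, B (y₀ u) (y₀ v) = B u v := std_iso d A hA
  have hy₀r : y₀ ^ r = z • 1 := by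
    rw [hy₀, ← Matrix.toLin'_pow, hz, map_smul, Matrix.toLin'_one]
    rfl
  haveI : Nontrivial (Fin d ⊕ Fin d → F) := by
    haveI : Nonempty (Fin d ⊕ Fin d) := ⟨Sum.inl ⟨0, by omega⟩⟩
    infer_instance
  have hzz : z * z = 1 := by
    apply scalar_sq_eq_one B hnd z
    intro u v
    have := iso_pow B y₀ hiso₀ r u v
    rw [hy₀r] at this
    exact this
  obtain ⟨k, hk⟩ := hr.odd_of_ne_two hr2
  have hzr : z ^ r = z := by
    rw [hk, pow_succ, pow_mul, pow_two, hzz, one_pow, one_mul]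
  set y := z • y₀ with hy
  have hyr : y ^ r = 1 := by
    rw [hy, _root_.smul_pow, hy₀r, hzr, smul_smul, hzz, one_smul]
  have hiso : ∀ u v, B (y u) (y v) = B u v := by
    intro u v
    rw [hy, LinearMap.smul_apply, LinearMap.smul_apply, map_smul, map_smul, LinearMap.smul_apply,
      smul_eq_mul, smul_eq_mul, ← mul_assoc, hzz, one_mul, hiso₀]
  obtain ⟨W, hWdim, hWiso, hWinv⟩ :=
    sp_iso_bwd B y r halt hnd hiso hrp hr2 hyr d m hfin hmd h1 h2
  refine ⟨W, hWdim, hWiso, ?_⟩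
  intro u hu
  have h3 := hWinv u hu
  rw [hy, LinearMap.smul_apply] at h3
  have h4 := Submodule.smul_mem W z h3
  rwa [smul_smul, hzz, one_smul] at h4

/-- `r = 2`: sufficiency -/
theorem bwd_two (d m : ℕ) (hd : 1 ≤ d) (hmd : m ≤ d) (hp2 : p ≠ 2)
    (hcase : Even m ∨ Fintype.card F % 4 = 1)
    (A : Matrix (Fin d ⊕ Fin d) (Fin d ⊕ Fin d) F) (hA : A ∈ Matrix.symplecticGroup (Fin d) F)
    (z : F) (hz : A ^ 2 = z • (1 : Matrix (Fin d ⊕ Fin d) (Fin d ⊕ Fin d) F)) :
    Fixes d m A := by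
  set B := sympBilin d (F := F) with hB
  set y₀ := Matrix.toLin' A with hy₀
  have halt : ∀ v, B v v = 0 := stdB_alt d
  have hnd : ∀ x, (∀ y, B x y = 0) → x = 0 := stdB_nd d
  have hfin : finrank F (Fin d ⊕ Fin d → F) = 2 * d := std_finrank d
  have hiso₀ : ∀ u v, B (y₀ u) (y₀ v) = B u v := std_iso d A hA
  have hy₀r : y₀ ^ 2 = z • 1 := by
    rw [hy₀, ← Matrix.toLin'_pow, hz, map_smul, Matrix.toLin'_one]
    rfl
  haveI : Nontrivial (Fin d ⊕ Fin d → F) := by
    haveI : Nonempty (Fin d ⊕ Fin d) := ⟨Sum.inl ⟨0, by omega⟩⟩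
    infer_instance
  have hzz : z * z = 1 := by
    apply scalar_sq_eq_one B hnd z
    intro u v
    have := iso_pow B y₀ hiso₀ 2 u v
    rw [hy₀r] at this
    exact this
  have h2n : ((2 : ℕ) : F) ≠ 0 := by
    rw [Ne, CharP.cast_eq_zero_iff F p]
    intro hd'
    exact hp2 ((Nat.prime_dvd_prime_iff_eq Fact.out Nat.prime_two).1 hd')
  have h2 : (2 : F) ≠ 0 := by
    have := h2n
    rwa [Nat.cast_ofNat] at this
  have hz1 : z = 1 ∨ z = -1 := by
    have h3 : (z - 1) * (z + 1) = 0 := by linear_combination hzz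
    rcases mul_eq_zero.1 h3 with h | h
    · left; exact sub_eq_zero.1 h
    · right; exact eq_neg_of_add_eq_zero_left h
  rcases hz1 with rfl | rfl
  · rw [one_smul] at hy₀r
    exact invol_case B y₀ halt hnd hiso₀ h2n hy₀r d m hfin hmd
  · have hx : ∀ v, y₀ (y₀ v) = -v := by
      intro v
      have := congrArg (fun g : (Fin d ⊕ Fin d → F) →ₗ[F] (Fin d ⊕ Fin d → F) => g v) hy₀r
      simpa [pow_two] using this
    by_cases hsq : IsSquare (-1 : F)
    · obtain ⟨ι, hι⟩ := hsq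
      exact eigen_case B y₀ halt hnd hiso₀ h2 ι hι.symm hx d m hfin hmd
    · have hev : Even m := by
        rcases hcase with h | h
        · exact h
        · exfalso
          apply hsq
          rw [FiniteField.isSquare_neg_one_iff]
          omega
      obtain ⟨k, hk⟩ := hev
      have htop : NdOn B (⊤ : Submodule F (Fin d ⊕ Fin d → F)) := by
        intro u _ hu0
        by_contra hcon
        push Not at hcon
        exact hu0 (hnd u (fun y => hcon y Submodule.mem_top))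
      obtain ⟨W, -, hWdim, hWiso, hWinv⟩ := cw_case B y₀ halt hiso₀ hp2 hx hsq k ⊤
        (fun _ _ => Submodule.mem_top) htop (by rw [finrank_top, hfin]; omega)
      exact ⟨W, by rw [hWdim]; omega, hWiso, hWinv⟩

/-- `r = 2`: necessity -/
theorem fwd_two (d m : ℕ) (hd : 1 ≤ d) (hp2 : p ≠ 2)
    (H : ∀ A : Matrix (Fin d ⊕ Fin d) (Fin d ⊕ Fin d) F, A ∈ Matrix.symplecticGroup (Fin d) F →
      (∃ z : F, A ^ 2 = z • (1 : Matrix (Fin d ⊕ Fin d) (Fin d ⊕ Fin d) F)) →
      (∀ z : F, A ≠ z • (1 : Matrix (Fin d ⊕ Fin d) (Fin d ⊕ Fin d) F)) → Fixes d m A) :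
    Even m ∨ Fintype.card F % 4 = 1 := by
  by_contra hcon
  push Not at hcon
  obtain ⟨hm, hq⟩ := hcon
  have hodd : Fintype.card F % 2 = 1 := by
    apply FiniteField.odd_card_of_char_ne_two
    rw [ringChar.eq F p]
    exact hp2
  have hns : ¬ IsSquare (-1 : F) := by
    rw [FiniteField.isSquare_neg_one_iff]
    omega
  have hJ2 : (Matrix.J (Fin d) F) ^ 2 = (-1 : F) • (1 : Matrix (Fin d ⊕ Fin d) (Fin d ⊕ Fin d) F) := by
    rw [pow_two, Matrix.J_squared, neg_one_smul]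
  have hnsc : ∀ z : F, Matrix.J (Fin d) F ≠ z • (1 : Matrix (Fin d ⊕ Fin d) (Fin d ⊕ Fin d) F) := by
    intro z hz
    apply hns
    have h1 := hJ2
    rw [hz, pow_two, Matrix.smul_mul, Matrix.one_mul, smul_smul] at h1
    have h2 := congrFun (congrFun h1 (Sum.inl ⟨0, by omega⟩)) (Sum.inl ⟨0, by omega⟩)
    simp only [Matrix.smul_apply, Matrix.one_apply_eq, smul_eq_mul, mul_one] at h2
    exact ⟨z, h2.symm⟩
  obtain ⟨W, hWdim, -, hWinv⟩ := H _ (SymplecticGroup.J_mem (Fin d) F) ⟨-1, hJ2⟩ hnsc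
  have hx : ∀ v, Matrix.toLin' (Matrix.J (Fin d) F) (Matrix.toLin' (Matrix.J (Fin d) F) v) = -v := by
    intro v
    rw [← LinearMap.comp_apply, ← Matrix.toLin'_mul, Matrix.J_squared, map_neg, Matrix.toLin'_one]
    rfl
  have := even_of_invariant _ hx hns W hWinv
  rw [hWdim] at this
  exact hm this

end aux

/-- Elements of prime order of PSp_n(q) with no fixed totally isotropic `m`-space. Here `T = PSp_n(q)` with `n = 2d ≥ 4`, `(n, q) ≠ (4, 2)`, realised through the symplectic matrices over the field `F` with `q` elements (preserving the standard alternating form); an element of `T` of prime order `r` is such a matrix `x` with `x^r` scalar and `x` not scalar. For `r ≠ p` let `i` be the multiplicative order of `q` modulo `r`, `c = i` for `i` even and `c = 2i` for `i` odd, and write `k = n mod c`, `ℓ = m mod i`, `ℓ' = m mod c`, `n' = ⌊n/i⌋`, `m' = ⌊m/i⌋`, `t = (r−1)/i`. Let `1 ≤ m ≤ n/2` and let `r` be a prime dividing the number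 of totally isotropic `m`-spaces. Then every element of `T` of order `r` fixes a totally isotropic `m`-space if and only if either (i) `r = 2 ≠ p` and (`m` is even or `q ≡ 1 (mod 4)`); or (ii) `r ≠ p`, `r > 2`, `i ≤ m`, `k ≥ 2ℓ`, and (`i` is odd or `n' − 2m' ≥ t`). -/
theorem result {F : Type*} [Field F] [Fintype F] {p : ℕ} [Fact p.Prime] [CharP F p] {q : ℕ} (hq : Fintype.card F = q)
    (d m : ℕ) (hd : 2 ≤ d) (hT : (d, q) ≠ (2, 2)) (hm : 1 ≤ m) (hmd : m ≤ d)
    (r : ℕ) [Fact r.Prime]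
    (hrΩ : r ∣ Nat.card {W : Submodule F (Fin d ⊕ Fin d → F) // Module.finrank F ↥W = m ∧ (∀ u ∈ W, ∀ v ∈ W, Cfsg.sympForm d F u v = 0)})
    (i c : ℕ) (hi : i = orderOf (q : ZMod r)) (hc : c = if Even i then i else 2 * i) :
    (∀ x : ↥(Matrix.symplecticGroup (Fin d) F),
      (∃ z : F, ((x ^ r : ↥(Matrix.symplecticGroup (Fin d) F)) : Matrix (Fin d ⊕ Fin d) (Fin d ⊕ Fin d) F) = z • (1 : Matrix (Fin d ⊕ Fin d) (Fin d ⊕ Fin d) F)) →
      (∀ z : F, (x : Matrix (Fin d ⊕ Fin d) (Fin d ⊕ Fin d) F) ≠ z • (1 : Matrix (Fin d ⊕ Fin d) (Fin d ⊕ Fin d) F)) →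
      ∃ W : Submodule F (Fin d ⊕ Fin d → F), Module.finrank F ↥W = m ∧ (∀ u ∈ W, ∀ v ∈ W, Cfsg.sympForm d F u v = 0) ∧
        W.map (Matrix.toLin' (x : Matrix (Fin d ⊕ Fin d) (Fin d ⊕ Fin d) F)) ≤ W) ↔
    ((r = 2 ∧ p ≠ 2 ∧ (Even m ∨ q % 4 = 1)) ∨
     (r ≠ p ∧ 2 < r ∧ i ≤ m ∧ 2 * (m % i) ≤ (2 * d) % c ∧ (Odd i ∨ (r - 1) / i + 2 * (m / i) ≤ (2 * d) / i))) := by
  subst hq
  have hr : r.Prime := Fact.out
  have hd1 : 1 ≤ d := by omega
  have hrΩ' : r ∣ Nat.card (IsoSub F d m) := hrΩ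
  have hrp : r ≠ p := by
    rintro rfl
    exact not_dvd_card_isoSub (F := F) d m hmd hrΩ'
  subst hi
  have hcc : c = blockDim (Fintype.card F) r := by
    rw [hc, blockDim]
  subst hcc
  -- translating the statement to matrices
  have hconv : ∀ (A : Matrix (Fin d ⊕ Fin d) (Fin d ⊕ Fin d) F),
      (∃ W : Submodule F (Fin d ⊕ Fin d → F), Module.finrank F ↥W = m ∧
        (∀ u ∈ W, ∀ v ∈ W, Cfsg.sympForm d F u v = 0) ∧ W.map (Matrix.toLin' A) ≤ W) ↔
      Fixes d m A := by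
    intro A
    constructor
    · rintro ⟨W, hWdim, hWiso, hWmap⟩
      refine ⟨W, hWdim, ?_, fun u hu => hWmap (Submodule.mem_map_of_mem hu)⟩
      intro w hw
      rw [mem_orth]
      intro n hn
      rw [sympBilin_apply]
      exact hWiso n hn w hw
    · rintro ⟨W, hWdim, hWiso, hWinv⟩
      refine ⟨W, hWdim, ?_, ?_⟩
      · intro u hu v hv
        rw [← sympBilin_apply]
        exact (mem_orth _ W v).1 (hWiso hv) u hu
      · rintro _ ⟨u, hu, rfl⟩
        exact hWinv u hu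
  constructor
  · intro H
    by_cases hr2 : r = 2
    · left
      refine ⟨hr2, fun hp2 => hrp (hr2.trans hp2.symm), ?_⟩
      apply fwd_two (F := F) (p := p) d m hd1 (fun hp2 => hrp (hr2.trans hp2.symm))
      intro A hA hz hns
      rw [← hconv]
      apply H ⟨A, hA⟩ _ hns
      obtain ⟨z, hz⟩ := hz
      refine ⟨z, ?_⟩
      rw [SubmonoidClass.coe_pow, hr2]
      exact hz
    · right
      have h2r : 2 < r := lt_of_le_of_ne hr.two_le (Ne.symm hr2)
      obtain ⟨h1, h2, h3⟩ := fwd_odd (F := F) (p := p) d m hd hm hmd r hr2 hrp hrΩ' (by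
        intro A hA hAr hns
        rw [← hconv]
        apply H ⟨A, hA⟩ _ hns
        refine ⟨1, ?_⟩
        rw [SubmonoidClass.coe_pow, one_smul]
        exact hAr)
      exact ⟨hrp, h2r, h1, h2, h3⟩
  · rintro (⟨hr2, hp2, hcase⟩ | ⟨-, h2r, -, h1, h2⟩)
    · intro x hx _
      rw [hconv]
      obtain ⟨z, hz⟩ := hx
      rw [SubmonoidClass.coe_pow, hr2] at hz
      exact bwd_two (F := F) (p := p) d m hd1 hmd hp2 hcase _ x.2 z hz
    · intro x hx _
      rw [hconv]
      obtain ⟨z, hz⟩ := hx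
      rw [SubmonoidClass.coe_pow] at hz
      exact bwd_odd (F := F) (p := p) d m hd1 hmd r (by omega) hrp h1 h2 _ x.2 z hz

end Cfsg.Agent.S5955
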