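import Cfsg.Statements.S5956
-- import your own Cfsg.Agent.* helpers here
import Cfsg.Agent.Lib.Helper22.NdElusB

set_option autoImplicit false
open scoped MatrixGroups
open Cfsg

namespace Cfsg.Agent.S5956

open Module Cfsg.Agent.Lib.Helper12.Elus Cfsg.Agent.Lib.Helper12.Sp
  Cfsg.Agent.Lib.Helper15 Cfsg.Agent.Lib.Helper22.NdElus Cfsg.Agent.Lib.Helper22.NdCount

/-- Elements of prime order of PSp_n(q) with no fixed nondegenerate `m`-space. Here `T = PSp_n(q)` with `n = 2d ≥ 4`, `(n, q) ≠ (4, 2)`, realised through the symplectic matrices over the field `F` with `q` elements (preserving the standard alternating form); an element of `T` of prime order `r` is such a matrix `x` with `x^r` scalar and `x` not scalar. For `r ≠ p` let `i` be the multiplicative order of `q` modulo `r`, `c = i` for `i` even and `c = 2i` for `i` odd, and write `k = n mod c`, `ℓ = m mod i`, `ℓ' = m mod c`, `n' = ⌊n/i⌋`, `m' = ⌊m/i⌋`, `t = (r−1)/i`. Let `m` be even with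 `2 ≤ m < n/2` and let `r` be a prime dividing the number of nondegenerate `m`-spaces. Then every element of `T` of order `r` fixes a nondegenerate `m`-space if and only if one of: (i) `r = p > 2` and every partition of `n` into parts of size at most `p` in which every odd part has even multiplicity contains (as a sub-multiset) a partition of `m` in which every odd part has even multiplicity; (ii) `r = p = 2` and (`n ≡ 2 (mod 4)` or `m ≡ 0 (mod 4)`); (iii) `r = 2 ≠ p`; (iv) `r ≠ p`, `r > 2`, `c ≤ m` and `k ≥ ℓ'`. -/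
theorem result {F : Type*} [Field F] [Fintype F] {p : ℕ} [Fact p.Prime] [CharP F p] {q : ℕ} (hq : Fintype.card F = q)
    (d m : ℕ) (hd : 2 ≤ d) (hT : (d, q) ≠ (2, 2)) (hm : 2 ≤ m) (hme : Even m) (hmd : m < d)
    (r : ℕ) [Fact r.Prime]
    (hrΩ : r ∣ Nat.card {W : Submodule F (Fin d ⊕ Fin d → F) // Module.finrank F ↥W = m ∧ (∀ u ∈ W, u ≠ 0 → ∃ v ∈ W, Cfsg.sympForm d F u v ≠ 0)})
    (i c : ℕ) (hi : i = orderOf (q : ZMod r)) (hc : c = if Even i then i else 2 * i) :
    (∀ x : ↥(Matrix.symplecticGroup (Fin d) F),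
      (∃ z : F, ((x ^ r : ↥(Matrix.symplecticGroup (Fin d) F)) : Matrix (Fin d ⊕ Fin d) (Fin d ⊕ Fin d) F) = z • (1 : Matrix (Fin d ⊕ Fin d) (Fin d ⊕ Fin d) F)) →
      (∀ z : F, (x : Matrix (Fin d ⊕ Fin d) (Fin d ⊕ Fin d) F) ≠ z • (1 : Matrix (Fin d ⊕ Fin d) (Fin d ⊕ Fin d) F)) →
      ∃ W : Submodule F (Fin d ⊕ Fin d → F), Module.finrank F ↥W = m ∧ (∀ u ∈ W, u ≠ 0 → ∃ v ∈ W, Cfsg.sympForm d F u v ≠ 0) ∧
        W.map (Matrix.toLin' (x : Matrix (Fin d ⊕ Fin d) (Fin d ⊕ Fin d) F)) ≤ W) ↔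
    ((r = p ∧ 2 < p ∧ (∀ μ : Multiset ℕ, (∀ a ∈ μ, 0 < a ∧ a ≤ p) → (∀ a : ℕ, Odd a → Even (μ.count a)) → μ.sum = 2 * d →
        ∃ ν : Multiset ℕ, ν ≤ μ ∧ ν.sum = m ∧ ∀ a : ℕ, Odd a → Even (ν.count a))) ∨
     (r = p ∧ p = 2 ∧ ((2 * d) % 4 = 2 ∨ m % 4 = 0)) ∨
     (r = 2 ∧ p ≠ 2) ∨
     (r ≠ p ∧ 2 < r ∧ c ≤ m ∧ m % c ≤ (2 * d) % c)) := by
  classical
  subst hq
  have hr : r.Prime := Fact.out
  have hp : p.Prime := Fact.out
  have hd1 : 1 ≤ d := by omega
  have hmd2 : m ≤ 2 * d := by omega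
  subst hi
  have hcc : c = blockDim (Fintype.card F) r := by
    rw [hc, blockDim]
  subst hcc
  -- translating the statement to matrices
  have hconv : ∀ (A : Matrix (Fin d ⊕ Fin d) (Fin d ⊕ Fin d) F),
      (∃ W : Submodule F (Fin d ⊕ Fin d → F), Module.finrank F ↥W = m ∧
        (∀ u ∈ W, u ≠ 0 → ∃ v ∈ W, Cfsg.sympForm d F u v ≠ 0) ∧ W.map (Matrix.toLin' A) ≤ W) ↔
      Fixes d m A := by
    intro A
    constructor
    · rintro ⟨W, hWdim, hWnd, hWmap⟩
      refine ⟨W, hWdim, ?_, fun u hu => hWmap (Submodule.mem_map_of_mem hu)⟩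
      intro u hu hu0
      obtain ⟨v, hv, hne⟩ := hWnd u hu hu0
      exact ⟨v, hv, by rw [sympBilin_apply]; exact hne⟩
    · rintro ⟨W, hWdim, hWnd, hWinv⟩
      refine ⟨W, hWdim, ?_, ?_⟩
      · intro u hu hu0
        obtain ⟨v, hv, hne⟩ := hWnd u hu hu0
        exact ⟨v, hv, by rw [← sympBilin_apply]; exact hne⟩
      · rintro _ ⟨u, hu, rfl⟩
        exact hWinv u hu
  obtain ⟨k, hk⟩ := hme
  have hk2 : m = 2 * k := by omega
  have hk1 : 1 ≤ k := by omega
  have hrΩ' : r ∣ Nat.card (NY (F := F) d k) := by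
    have h := hrΩ
    rw [hk2] at h
    exact h
  have hme' : Even m := ⟨k, hk⟩
  constructor
  · intro H
    -- the order-r (rather than merely scalar r-th power) version of the hypothesis
    have H1 : ∀ A : Matrix (Fin d ⊕ Fin d) (Fin d ⊕ Fin d) F,
        A ∈ Matrix.symplecticGroup (Fin d) F → A ^ r = 1 →
        (∀ z : F, A ≠ z • (1 : Matrix (Fin d ⊕ Fin d) (Fin d ⊕ Fin d) F)) → Fixes d m A := by
      intro A hA hAr hns
      rw [← hconv]
      apply H ⟨A, hA⟩ _ hns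
      refine ⟨1, ?_⟩
      rw [SubmonoidClass.coe_pow, one_smul]
      exact hAr
    by_cases hrp : r = p
    · by_cases hp2 : p = 2
      · right; left
        refine ⟨hrp, hp2, ?_⟩
        apply fwd_char2 (F := F) (p := p) d m hd hp2
        intro A hA hA2 hns
        apply H1 A hA _ hns
        rw [hrp, hp2]
        exact hA2
      · left
        refine ⟨hrp, lt_of_le_of_ne hp.two_le (Ne.symm hp2), ?_⟩
        intro μ hμ hpar hsum
        apply fwd_unip_odd (F := F) (p := p) d m hd1 hme' hmd2 _ μ hμ hpar hsum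
        intro A hA hAp hns
        apply H1 A hA _ hns
        rw [hrp]
        exact hAp
    · by_cases hr2 : r = 2
      · right; right; left
        exact ⟨hr2, fun hp2 => hrp (hr2.trans hp2.symm)⟩
      · right; right; right
        have h2r : 2 < r := lt_of_le_of_ne hr.two_le (Ne.symm hr2)
        obtain ⟨h1, h2⟩ := fwd_odd (F := F) (p := p) d k m hd hk1 hk2 hmd r hr2 hrp hrΩ' H1
        exact ⟨hrp, h2r, h1, h2⟩
  · rintro (⟨hrp, h2p, hpart⟩ | ⟨hrp, hp2, hcase⟩ | ⟨hr2, hp2⟩ | ⟨hrp, h2r, -, h1⟩)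
    · intro x hx _
      rw [hconv]
      obtain ⟨z, hz⟩ := hx
      rw [SubmonoidClass.coe_pow, hrp] at hz
      exact bwd_unip_odd (F := F) (p := p) d m hd1 (by omega) hpart _ x.2 z hz
    · intro x hx _
      rw [hconv]
      obtain ⟨z, hz⟩ := hx
      rw [SubmonoidClass.coe_pow, hrp, hp2] at hz
      exact bwd_char2 (F := F) (p := p) d m hd1 hme' hmd2 hp2 hcase _ x.2 z hz
    · intro x hx _
      rw [hconv]
      obtain ⟨z, hz⟩ := hx
      rw [SubmonoidClass.coe_pow, hr2] at hz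
      exact bwd_two (F := F) (p := p) d m hd1 hme' hmd2 hp2 _ x.2 z hz
    · intro x hx _
      rw [hconv]
      obtain ⟨z, hz⟩ := hx
      rw [SubmonoidClass.coe_pow] at hz
      exact bwd_odd (F := F) (p := p) d m hd1 hme' hmd2 r (by omega) hrp h1 _ x.2 z hz

end Cfsg.Agent.S5956
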