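import Cfsg.Statements.S5957
import Mathlib

set_option autoImplicit false
open scoped MatrixGroups
open Cfsg

namespace Cfsg.Agent.S5957

section Aux
set_option linter.unusedSectionVars false
set_option linter.unusedVariables false
set_option linter.unusedSimpArgs false
namespace S5957aux
open Module

/-! ### combinatorial packing -/

theorem pack {P U : Type*} [DecidableEq P] [DecidableEq U] (a : ℕ) (ha : 1 ≤ a) :
    ∀ t : ℕ, ∀ (Ps : Finset P) (Us : Finset U), 2 * Ps.card + Us.card = a * t →
      ∃ (binL binR : P → ℕ) (binU : U → ℕ) (σ : ℕ → ℕ),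
        (∀ c, c < t → σ c < t ∧ σ (σ c) = c) ∧
        (∀ i ∈ Ps, binL i < t ∧ binR i = σ (binL i)) ∧
        (∀ j ∈ Us, binU j < t ∧ σ (binU j) = binU j) ∧
        (∀ c, c < t → (Ps.filter (fun i => binL i = c)).card
          + (Ps.filter (fun i => binR i = c)).card
          + (Us.filter (fun j => binU j = c)).card = a) := by
  intro t
  induction t using Nat.strong_induction_on with
  | _ t ih =>
  intro Ps Us hcard
  rcases Nat.eq_zero_or_pos t with ht0 | htpos
  · subst ht0
    have hP : Ps = ∅ := by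
      rw [← Finset.card_eq_zero]; omega
    have hU : Us = ∅ := by
      rw [← Finset.card_eq_zero]; omega
    subst hP; subst hU
    exact ⟨fun _ => 0, fun _ => 0, fun _ => 0, id, fun c hc => absurd hc (Nat.not_lt_zero c),
      fun i hi => absurd hi (Finset.notMem_empty i), fun j hj => absurd hj (Finset.notMem_empty j),
      fun c hc => absurd hc (Nat.not_lt_zero c)⟩
  by_cases hswap : a ≤ Ps.card ∧ 2 ≤ t
  · obtain ⟨hs, ht2⟩ := hswap
    obtain ⟨P₁, hP₁sub, hP₁card⟩ := Finset.exists_subset_card_eq hs
    obtain ⟨t', rfl⟩ : ∃ t', t = t' + 2 := ⟨t - 2, by omega⟩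
    have hexp : a * (t' + 2) = a * t' + 2 * a := by ring
    have hcard' : 2 * (Ps \ P₁).card + Us.card = a * t' := by
      rw [Finset.card_sdiff_of_subset hP₁sub, hP₁card]
      omega
    obtain ⟨bL, bR, bU, σ', h1, h2, h3, h4⟩ := ih t' (by omega) (Ps \ P₁) Us hcard'
    obtain ⟨binL, hbinL⟩ : ∃ f : P → ℕ, f = fun i => if i ∈ P₁ then t' else bL i := ⟨_, rfl⟩
    obtain ⟨binR, hbinR⟩ : ∃ f : P → ℕ, f = fun i => if i ∈ P₁ then t' + 1 else bR i := ⟨_, rfl⟩
    obtain ⟨σ, hσ⟩ : ∃ f : ℕ → ℕ,
      f = fun c => if c = t' then t' + 1 else if c = t' + 1 then t' else σ' c := ⟨_, rfl⟩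
    have eL1 : ∀ i, i ∈ P₁ → binL i = t' := fun i hi => by rw [hbinL]; exact if_pos hi
    have eL2 : ∀ i, i ∉ P₁ → binL i = bL i := fun i hi => by rw [hbinL]; exact if_neg hi
    have eR1 : ∀ i, i ∈ P₁ → binR i = t' + 1 := fun i hi => by rw [hbinR]; exact if_pos hi
    have eR2 : ∀ i, i ∉ P₁ → binR i = bR i := fun i hi => by rw [hbinR]; exact if_neg hi
    have eσ1 : σ t' = t' + 1 := by rw [hσ]; exact if_pos rfl
    have eσ2 : σ (t' + 1) = t' := by
      rw [hσ]
      show (if t' + 1 = t' then _ else _) = _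
      rw [if_neg (by omega), if_pos rfl]
    have eσ3 : ∀ c, c < t' → σ c = σ' c := fun c hc => by
      rw [hσ]
      show (if c = t' then _ else _) = _
      rw [if_neg (by omega), if_neg (by omega)]
    have hrem : ∀ i, i ∈ Ps → i ∉ P₁ → bL i < t' ∧ bR i = σ' (bL i) :=
      fun i hi hn => h2 i (Finset.mem_sdiff.mpr ⟨hi, hn⟩)
    refine ⟨binL, binR, bU, σ, ?_, ?_, ?_, ?_⟩
    · intro c hc
      have hcases : c = t' ∨ c = t' + 1 ∨ c < t' := by omega
      rcases hcases with hc1 | hc2 | hlt
      · rw [hc1, eσ1, eσ2]; exact ⟨by omega, rfl⟩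
      · rw [hc2, eσ2, eσ1]; exact ⟨by omega, rfl⟩
      · obtain ⟨g1, g2⟩ := h1 c hlt
        rw [eσ3 c hlt, eσ3 _ g1, g2]; exact ⟨by omega, rfl⟩
    · intro i hi
      by_cases hiP : i ∈ P₁
      · rw [eL1 i hiP, eR1 i hiP, eσ1]; exact ⟨by omega, rfl⟩
      · obtain ⟨g1, g2⟩ := hrem i hi hiP
        rw [eL2 i hiP, eR2 i hiP, eσ3 _ g1]; exact ⟨by omega, g2⟩
    · intro j hj
      obtain ⟨g1, g2⟩ := h3 j hj
      rw [eσ3 _ g1]; exact ⟨by omega, g2⟩
    · intro c hc
      have hcases : c = t' ∨ c = t' + 1 ∨ c < t' := by omega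
      rcases hcases with hc1 | hc2 | hlt
      · have f1 : Ps.filter (fun i => binL i = c) = P₁ := by
          ext i
          simp only [Finset.mem_filter]
          constructor
          · rintro ⟨hi, hb⟩
            by_contra hn
            have := (hrem i hi hn).1
            rw [eL2 i hn] at hb; omega
          · intro hi; exact ⟨hP₁sub hi, by rw [eL1 i hi, hc1]⟩
        have f2 : Ps.filter (fun i => binR i = c) = ∅ := by
          rw [Finset.filter_eq_empty_iff]
          intro i hi hb
          by_cases hiP : i ∈ P₁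
          · rw [eR1 i hiP] at hb; omega
          · obtain ⟨g1, g2⟩ := hrem i hi hiP
            rw [eR2 i hiP, g2] at hb
            have := (h1 _ g1).1; omega
        have f3 : Us.filter (fun j => bU j = c) = ∅ := by
          rw [Finset.filter_eq_empty_iff]
          intro j hj hb
          have := (h3 j hj).1; omega
        rw [f1, f2, f3, hP₁card]; simp
      · have f1 : Ps.filter (fun i => binL i = c) = ∅ := by
          rw [Finset.filter_eq_empty_iff]
          intro i hi hb
          by_cases hiP : i ∈ P₁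
          · rw [eL1 i hiP] at hb; omega
          · obtain ⟨g1, g2⟩ := hrem i hi hiP
            rw [eL2 i hiP] at hb; omega
        have f2 : Ps.filter (fun i => binR i = c) = P₁ := by
          ext i
          simp only [Finset.mem_filter]
          constructor
          · rintro ⟨hi, hb⟩
            by_contra hn
            obtain ⟨g1, g2⟩ := hrem i hi hn
            rw [eR2 i hn, g2] at hb
            have := (h1 _ g1).1; omega
          · intro hi; exact ⟨hP₁sub hi, by rw [eR1 i hi, hc2]⟩
        have f3 : Us.filter (fun j => bU j = c) = ∅ := by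
          rw [Finset.filter_eq_empty_iff]
          intro j hj hb
          have := (h3 j hj).1; omega
        rw [f1, f2, f3, hP₁card]; simp
      · have f1 : Ps.filter (fun i => binL i = c) = (Ps \ P₁).filter (fun i => bL i = c) := by
          ext i
          simp only [Finset.mem_filter, Finset.mem_sdiff]
          constructor
          · rintro ⟨hi, hb⟩
            have hn : i ∉ P₁ := by
              intro hiP; rw [eL1 i hiP] at hb; omega
            exact ⟨⟨hi, hn⟩, by rw [← eL2 i hn]; exact hb⟩
          · rintro ⟨⟨hi, hn⟩, hb⟩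
            exact ⟨hi, by rw [eL2 i hn]; exact hb⟩
        have f2 : Ps.filter (fun i => binR i = c) = (Ps \ P₁).filter (fun i => bR i = c) := by
          ext i
          simp only [Finset.mem_filter, Finset.mem_sdiff]
          constructor
          · rintro ⟨hi, hb⟩
            have hn : i ∉ P₁ := by
              intro hiP; rw [eR1 i hiP] at hb; omega
            exact ⟨⟨hi, hn⟩, by rw [← eR2 i hn]; exact hb⟩
          · rintro ⟨⟨hi, hn⟩, hb⟩
            exact ⟨hi, by rw [eR2 i hn]; exact hb⟩
        rw [f1, f2]; exact h4 c hlt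
  · obtain ⟨t', rfl⟩ : ∃ t', t = t' + 1 := ⟨t - 1, by omega⟩
    have hexp : a * (t' + 1) = a * t' + a := by ring
    have hs : Ps.card < a := by
      by_contra hge
      push Not at hge
      have ht1 : ¬ 2 ≤ t' + 1 := fun h => hswap ⟨hge, h⟩
      have h0 : t' = 0 := by omega
      subst h0
      simp at hcard
      omega
    obtain ⟨p, hp1, hp2, hp3⟩ : ∃ p, p ≤ Ps.card ∧ 2 * p ≤ a ∧
        (p = Ps.card ∨ (p = a / 2 ∧ a / 2 ≤ Ps.card)) := by
      rcases le_total Ps.card (a / 2) with hle | hle
      · exact ⟨Ps.card, le_refl _, by omega, Or.inl rfl⟩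
      · exact ⟨a / 2, hle, by omega, Or.inr ⟨rfl, hle⟩⟩
    have hu : a - 2 * p ≤ Us.card := by
      rcases Nat.eq_zero_or_pos t' with h0 | hpos
      · subst h0
        simp at hcard
        omega
      · have := Nat.le_mul_of_pos_right a hpos
        omega
    obtain ⟨P₁, hP₁sub, hP₁card⟩ := Finset.exists_subset_card_eq hp1
    obtain ⟨U₁, hU₁sub, hU₁card⟩ := Finset.exists_subset_card_eq hu
    have hcard' : 2 * (Ps \ P₁).card + (Us \ U₁).card = a * t' := by
      rw [Finset.card_sdiff_of_subset hP₁sub, Finset.card_sdiff_of_subset hU₁sub, hP₁card, hU₁card]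
      omega
    obtain ⟨bL, bR, bU, σ', h1, h2, h3, h4⟩ := ih t' (by omega) (Ps \ P₁) (Us \ U₁) hcard'
    obtain ⟨binL, hbinL⟩ : ∃ f : P → ℕ, f = fun i => if i ∈ P₁ then t' else bL i := ⟨_, rfl⟩
    obtain ⟨binR, hbinR⟩ : ∃ f : P → ℕ, f = fun i => if i ∈ P₁ then t' else bR i := ⟨_, rfl⟩
    obtain ⟨binU, hbinU⟩ : ∃ f : U → ℕ, f = fun j => if j ∈ U₁ then t' else bU j := ⟨_, rfl⟩
    obtain ⟨σ, hσ⟩ : ∃ f : ℕ → ℕ, f = fun c => if c = t' then t' else σ' c := ⟨_, rfl⟩
    have eL1 : ∀ i, i ∈ P₁ → binL i = t' := fun i hi => by rw [hbinL]; exact if_pos hi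
    have eL2 : ∀ i, i ∉ P₁ → binL i = bL i := fun i hi => by rw [hbinL]; exact if_neg hi
    have eR1 : ∀ i, i ∈ P₁ → binR i = t' := fun i hi => by rw [hbinR]; exact if_pos hi
    have eR2 : ∀ i, i ∉ P₁ → binR i = bR i := fun i hi => by rw [hbinR]; exact if_neg hi
    have eU1 : ∀ j, j ∈ U₁ → binU j = t' := fun j hj => by rw [hbinU]; exact if_pos hj
    have eU2 : ∀ j, j ∉ U₁ → binU j = bU j := fun j hj => by rw [hbinU]; exact if_neg hj
    have eσ1 : σ t' = t' := by rw [hσ]; exact if_pos rfl
    have eσ3 : ∀ c, c < t' → σ c = σ' c := fun c hc => by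
      rw [hσ]
      show (if c = t' then _ else _) = _
      rw [if_neg (by omega)]
    have hrem : ∀ i, i ∈ Ps → i ∉ P₁ → bL i < t' ∧ bR i = σ' (bL i) :=
      fun i hi hn => h2 i (Finset.mem_sdiff.mpr ⟨hi, hn⟩)
    have hremU : ∀ j, j ∈ Us → j ∉ U₁ → bU j < t' ∧ σ' (bU j) = bU j :=
      fun j hj hn => h3 j (Finset.mem_sdiff.mpr ⟨hj, hn⟩)
    refine ⟨binL, binR, binU, σ, ?_, ?_, ?_, ?_⟩
    · intro c hc
      have hcases : c = t' ∨ c < t' := by omega
      rcases hcases with hc1 | hlt
      · rw [hc1, eσ1, eσ1]; exact ⟨by omega, rfl⟩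
      · obtain ⟨g1, g2⟩ := h1 c hlt
        rw [eσ3 c hlt, eσ3 _ g1, g2]; exact ⟨by omega, rfl⟩
    · intro i hi
      by_cases hiP : i ∈ P₁
      · rw [eL1 i hiP, eR1 i hiP, eσ1]; exact ⟨by omega, rfl⟩
      · obtain ⟨g1, g2⟩ := hrem i hi hiP
        rw [eL2 i hiP, eR2 i hiP, eσ3 _ g1]; exact ⟨by omega, g2⟩
    · intro j hj
      by_cases hjU : j ∈ U₁
      · rw [eU1 j hjU, eσ1]; exact ⟨by omega, rfl⟩
      · obtain ⟨g1, g2⟩ := hremU j hj hjU
        rw [eU2 j hjU, eσ3 _ g1]; exact ⟨by omega, g2⟩
    · intro c hc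
      have hcases : c = t' ∨ c < t' := by omega
      rcases hcases with hc1 | hlt
      · have f1 : Ps.filter (fun i => binL i = c) = P₁ := by
          ext i
          simp only [Finset.mem_filter]
          constructor
          · rintro ⟨hi, hb⟩
            by_contra hn
            have := (hrem i hi hn).1
            rw [eL2 i hn] at hb; omega
          · intro hi; exact ⟨hP₁sub hi, by rw [eL1 i hi, hc1]⟩
        have f2 : Ps.filter (fun i => binR i = c) = P₁ := by
          ext i
          simp only [Finset.mem_filter]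
          constructor
          · rintro ⟨hi, hb⟩
            by_contra hn
            obtain ⟨g1, g2⟩ := hrem i hi hn
            rw [eR2 i hn, g2] at hb
            have := (h1 _ g1).1; omega
          · intro hi; exact ⟨hP₁sub hi, by rw [eR1 i hi, hc1]⟩
        have f3 : Us.filter (fun j => binU j = c) = U₁ := by
          ext j
          simp only [Finset.mem_filter]
          constructor
          · rintro ⟨hj, hb⟩
            by_contra hn
            have := (hremU j hj hn).1
            rw [eU2 j hn] at hb; omega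
          · intro hj; exact ⟨hU₁sub hj, by rw [eU1 j hj, hc1]⟩
        rw [f1, f2, f3, hP₁card, hU₁card]; omega
      · have f1 : Ps.filter (fun i => binL i = c) = (Ps \ P₁).filter (fun i => bL i = c) := by
          ext i
          simp only [Finset.mem_filter, Finset.mem_sdiff]
          constructor
          · rintro ⟨hi, hb⟩
            have hn : i ∉ P₁ := by
              intro hiP; rw [eL1 i hiP] at hb; omega
            exact ⟨⟨hi, hn⟩, by rw [← eL2 i hn]; exact hb⟩
          · rintro ⟨⟨hi, hn⟩, hb⟩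
            exact ⟨hi, by rw [eL2 i hn]; exact hb⟩
        have f2 : Ps.filter (fun i => binR i = c) = (Ps \ P₁).filter (fun i => bR i = c) := by
          ext i
          simp only [Finset.mem_filter, Finset.mem_sdiff]
          constructor
          · rintro ⟨hi, hb⟩
            have hn : i ∉ P₁ := by
              intro hiP; rw [eR1 i hiP] at hb; omega
            exact ⟨⟨hi, hn⟩, by rw [← eR2 i hn]; exact hb⟩
          · rintro ⟨⟨hi, hn⟩, hb⟩
            exact ⟨hi, by rw [eR2 i hn]; exact hb⟩
        have f3 : Us.filter (fun j => binU j = c) = (Us \ U₁).filter (fun j => bU j = c) := by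
          ext j
          simp only [Finset.mem_filter, Finset.mem_sdiff]
          constructor
          · rintro ⟨hj, hb⟩
            have hn : j ∉ U₁ := by
              intro hjU; rw [eU1 j hjU] at hb; omega
            exact ⟨⟨hj, hn⟩, by rw [← eU2 j hn]; exact hb⟩
          · rintro ⟨⟨hj, hn⟩, hb⟩
            exact ⟨hj, by rw [eU2 j hn]; exact hb⟩
        rw [f1, f2, f3]; exact h4 c hlt

/-! ### partition of a linearly independent family -/

theorem indep_of_partition {ι κ : Type*} {F V : Type*} [Field F] [AddCommGroup V] [Module F V]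
    (b : ι → V) (hb : LinearIndependent F b) (f : ι → κ) :
    iSupIndep (fun c : κ => Submodule.span F (b '' {k | f k = c})) := by
  rw [iSupIndep_def]
  intro c
  have h1 : (⨆ j, ⨆ (_ : j ≠ c), Submodule.span F (b '' {k | f k = j}))
      ≤ Submodule.span F (b '' {k | f k ≠ c}) := by
    refine iSup_le fun j => iSup_le fun hj => Submodule.span_mono (Set.image_mono ?_)
    intro k hk
    show f k ≠ c
    rw [Set.mem_ofPred_eq] at hk; rw [hk]; exact hj
  refine (hb.disjoint_span_image ?_).mono_right h1
  rw [Set.disjoint_left]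
  intro k hk hk'
  exact hk' hk

/-! ### structure of an endomorphism with scalar square -/

section vec
variable {F : Type*} [Field F] {V : Type*} [AddCommGroup V] [Module F V]

def pairfam (x : V →ₗ[F] V) {ι : Type*} (v : ι → V) : ι ⊕ ι → V :=
  Sum.elim v (fun i => x (v i))

theorem exists_proj [FiniteDimensional F V] (x : V →ₗ[F] V) (z : F) (hx : ∀ u, x (x u) = z • u)
    {ι : Type} [Fintype ι] (v : ι → V) (hv : LinearIndependent F (pairfam x v)) :
    ∃ Pr : V →ₗ[F] V, (∀ u, Pr (x u) = x (Pr u)) ∧
      (∀ u, Pr u ∈ Submodule.span F (Set.range (pairfam x v))) ∧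
      (∀ w ∈ Submodule.span F (Set.range (pairfam x v)), Pr w = w) := by
  classical
  obtain ⟨C, hC⟩ := Submodule.exists_isCompl (Submodule.span F (Set.range (pairfam x v)))
  obtain ⟨P₀, hP₀⟩ : ∃ P₀ : V →ₗ[F] ↥(Submodule.span F (Set.range (pairfam x v))),
      ∀ w : ↥(Submodule.span F (Set.range (pairfam x v))), P₀ (w : V) = w :=
    ⟨Submodule.projectionOnto _ C hC, fun w => Submodule.projectionOnto_apply_left hC w⟩
  have hrep : ∀ k : ι ⊕ ι, hv.repr (P₀ (pairfam x v k)) = Finsupp.single k 1 := by
    intro k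
    have h1 : P₀ (pairfam x v k) = ⟨pairfam x v k, Submodule.subset_span ⟨k, rfl⟩⟩ :=
      hP₀ ⟨pairfam x v k, Submodule.subset_span ⟨k, rfl⟩⟩
    rw [h1]
    exact hv.repr_eq_single k _ rfl
  obtain ⟨φ, hφ⟩ : ∃ φ : ι → (V →ₗ[F] F), ∀ i u, φ i u = hv.repr (P₀ u) (Sum.inr i) :=
    ⟨fun i => (Finsupp.lapply (Sum.inr i)).comp (hv.repr.comp P₀), fun i u => rfl⟩
  have hφ1 : ∀ i j, φ i (v j) = 0 := by
    intro i j
    have := hrep (Sum.inl j)
    rw [hφ]
    show hv.repr (P₀ (pairfam x v (Sum.inl j))) (Sum.inr i) = 0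
    rw [this, Finsupp.single_apply, if_neg (by simp)]
  have hφ2 : ∀ i j, φ i (x (v j)) = if j = i then 1 else 0 := by
    intro i j
    have := hrep (Sum.inr j)
    rw [hφ]
    show hv.repr (P₀ (pairfam x v (Sum.inr j))) (Sum.inr i) = _
    rw [this, Finsupp.single_apply]
    by_cases hji : j = i
    · rw [if_pos hji, if_pos (by rw [hji])]
    · rw [if_neg hji, if_neg (fun h => hji (Sum.inr.inj h))]
  obtain ⟨Pr, hPr⟩ : ∃ Pr : V →ₗ[F] V, ∀ u, Pr u = ∑ i, (φ i (x u) • v i + φ i u • x (v i)) := by
    refine ⟨∑ i, (((φ i).comp x).smulRight (v i) + (φ i).smulRight (x (v i))), fun u => ?_⟩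
    simp only [LinearMap.sum_apply, LinearMap.add_apply, LinearMap.smulRight_apply,
      LinearMap.comp_apply]
  have hPrv : ∀ j, Pr (v j) = v j := by
    intro j
    rw [hPr]
    simp only [hφ1, hφ2, zero_smul, add_zero, ite_smul, one_smul, Finset.sum_ite_eq,
      Finset.mem_univ, if_true]
  have hPrxv : ∀ j, Pr (x (v j)) = x (v j) := by
    intro j
    rw [hPr]
    simp only [hx, map_smul, hφ1, hφ2, smul_zero, zero_smul, zero_add, ite_smul, one_smul,
      Finset.sum_ite_eq, Finset.mem_univ, if_true]
  refine ⟨Pr, ?_, ?_, ?_⟩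
  · intro u
    rw [hPr, hPr, map_sum]
    refine Finset.sum_congr rfl fun i _ => ?_
    rw [hx, map_add, map_smul, map_smul, map_smul, hx, smul_eq_mul]
    module
  · intro u
    rw [hPr]
    refine Submodule.sum_mem _ fun i _ => ?_
    exact add_mem (Submodule.smul_mem _ _ (Submodule.subset_span ⟨Sum.inl i, rfl⟩))
      (Submodule.smul_mem _ _ (Submodule.subset_span ⟨Sum.inr i, rfl⟩))
  · intro w hw
    induction hw using Submodule.span_induction with
    | mem w hw =>
      obtain ⟨k, rfl⟩ := hw
      rcases k with j | j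
      · exact hPrv j
      · exact hPrxv j
    | zero => exact map_zero _
    | add a b _ _ ha hb => rw [map_add, ha, hb]
    | smul r a _ ha => rw [map_smul, ha]

theorem structure_aux [FiniteDimensional F V] (x : V →ₗ[F] V) (z : F)
    (hx : ∀ u, x (x u) = z • u) :
    ∀ m : ℕ, ∀ (ι : Type) [Fintype ι] (v : ι → V), LinearIndependent F (pairfam x v) →
      finrank F V - 2 * Fintype.card ι = m →
      ∃ (ι' : Type) (_ : Fintype ι') (v' : ι' → V) (u : ℕ) (g : Fin u → V) (c : Fin u → F),
        (∀ j, x (g j) = c j • g j) ∧ LinearIndependent F (Sum.elim (pairfam x v') g) ∧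
        Submodule.span F (Set.range (Sum.elim (pairfam x v') g)) = ⊤ := by
  intro m
  induction m using Nat.strong_induction_on with
  | _ m ih =>
  intro ι _ v hv hm
  obtain ⟨Pr, hPrx, hPrW, hPrid⟩ := exists_proj x z hx v hv
  have hdisj : Disjoint (Submodule.span F (Set.range (pairfam x v))) (LinearMap.ker Pr) := by
    rw [Submodule.disjoint_def]
    intro w hw hk
    rw [← hPrid w hw]; exact hk
  have hsup : Submodule.span F (Set.range (pairfam x v)) ⊔ LinearMap.ker Pr = ⊤ := by
    rw [eq_top_iff]
    intro u _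
    have h1 : u = Pr u + (u - Pr u) := by abel
    rw [h1]
    refine Submodule.add_mem_sup (hPrW u) ?_
    rw [LinearMap.mem_ker, map_sub, hPrid _ (hPrW u), sub_self]
  have hKinv : ∀ k, Pr k = 0 → Pr (x k) = 0 := fun k hk => by rw [hPrx, hk, map_zero]
  by_cases hex : ∃ k, Pr k = 0 ∧ LinearIndependent F ![k, x k]
  · obtain ⟨k, hk0, hkLI⟩ := hex
    have hB : LinearIndependent F (Sum.elim (fun _ : Fin 1 => k) (fun _ : Fin 1 => x k)) := by
      rw [Fintype.linearIndependent_iff]
      intro g hg
      rw [Fintype.sum_sum_type] at hg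
      simp only [Sum.elim_inl, Sum.elim_inr, Finset.univ_unique, Finset.sum_singleton] at hg
      have h2 := (LinearIndependent.pair_iff.mp hkLI) _ _ hg
      intro i
      rcases i with i | i
      · have : i = default := Subsingleton.elim _ _
        rw [this]; exact h2.1
      · have : i = default := Subsingleton.elim _ _
        rw [this]; exact h2.2
    have hBK : Submodule.span F (Set.range (Sum.elim (fun _ : Fin 1 => k) (fun _ : Fin 1 => x k)))
        ≤ LinearMap.ker Pr := by
      rw [Submodule.span_le]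
      rintro _ ⟨i, rfl⟩
      rcases i with i | i
      · exact hk0
      · exact hKinv k hk0
    have hAB := LinearIndependent.sum_type hv hB (hdisj.mono_right hBK)
    have hv' : LinearIndependent F (pairfam x (Sum.elim v (fun _ : Fin 1 => k))) := by
      have : pairfam x (Sum.elim v (fun _ : Fin 1 => k))
          = (Sum.elim (pairfam x v) (Sum.elim (fun _ : Fin 1 => k) (fun _ : Fin 1 => x k)))
            ∘ (Equiv.sumSumSumComm ι (Fin 1) ι (Fin 1)) := by
        funext i
        rcases i with (i | i) | (i | i) <;> rfl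
      rw [this]
      exact hAB.comp _ (Equiv.injective _)
    have hcard := hv'.fintype_card_le_finrank
    rw [Fintype.card_sum, Fintype.card_sum, Fintype.card_fin] at hcard
    exact ih (finrank F V - 2 * Fintype.card (ι ⊕ Fin 1))
      (by rw [Fintype.card_sum, Fintype.card_fin]; omega) (ι ⊕ Fin 1) _ hv' rfl
  · push Not at hex
    have hKx : ∀ k ∈ LinearMap.ker Pr, x k ∈ LinearMap.ker Pr := fun k hk => hKinv k hk
    have hsc : ∀ k : ↥(LinearMap.ker Pr), ¬ LinearIndependent F ![k, x.restrict hKx k] := by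
      intro k hLI
      have h1 := hLI.map' (LinearMap.ker Pr).subtype (Submodule.ker_subtype _)
      have h2 : ((LinearMap.ker Pr).subtype ∘ ![k, x.restrict hKx k]) = ![(k : V), x k] := by
        funext i; fin_cases i <;> rfl
      rw [h2] at h1
      exact hex k k.2 h1
    obtain ⟨lam, hlam⟩ := LinearMap.exists_eq_smul_id_of_forall_notLinearIndependent hsc
    refine ⟨ι, inferInstance, v, finrank F ↥(LinearMap.ker Pr),
      fun j => ((Module.finBasis F ↥(LinearMap.ker Pr) j : ↥(LinearMap.ker Pr)) : V),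
      fun _ => lam, ?_, ?_, ?_⟩
    · intro j
      have h1 : x.restrict hKx (Module.finBasis F ↥(LinearMap.ker Pr) j)
          = lam • (Module.finBasis F ↥(LinearMap.ker Pr) j) := by rw [hlam]; rfl
      exact congrArg Subtype.val h1
    · have hg : LinearIndependent F
          (fun j => ((Module.finBasis F ↥(LinearMap.ker Pr) j : ↥(LinearMap.ker Pr)) : V)) :=
        (Module.finBasis F ↥(LinearMap.ker Pr)).linearIndependent.map'
          (LinearMap.ker Pr).subtype (Submodule.ker_subtype _)
      refine LinearIndependent.sum_type hv hg (hdisj.mono_right ?_)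
      rw [Submodule.span_le]
      rintro _ ⟨j, rfl⟩
      exact (Module.finBasis F ↥(LinearMap.ker Pr) j).2
    · rw [Set.Sum.elim_range, Submodule.span_union]
      have : Submodule.span F (Set.range
          (fun j => ((Module.finBasis F ↥(LinearMap.ker Pr) j : ↥(LinearMap.ker Pr)) : V)))
          = LinearMap.ker Pr := by
        have h1 : Set.range
            (fun j => ((Module.finBasis F ↥(LinearMap.ker Pr) j : ↥(LinearMap.ker Pr)) : V))
            = (LinearMap.ker Pr).subtype '' (Set.range (Module.finBasis F ↥(LinearMap.ker Pr))) := by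
          rw [← Set.range_comp]; rfl
        rw [h1, ← Submodule.map_span, (Module.finBasis F ↥(LinearMap.ker Pr)).span_eq,
          Submodule.map_subtype_top]
      rw [this]; exact hsup

theorem structure_thm [FiniteDimensional F V] (x : V →ₗ[F] V) (z : F)
    (hx : ∀ u, x (x u) = z • u) :
    ∃ (ι' : Type) (_ : Fintype ι') (v' : ι' → V) (u : ℕ) (g : Fin u → V) (c : Fin u → F),
      (∀ j, x (g j) = c j • g j) ∧ LinearIndependent F (Sum.elim (pairfam x v') g) ∧
      Submodule.span F (Set.range (Sum.elim (pairfam x v') g)) = ⊤ :=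
  structure_aux x z hx _ Empty (fun e => e.elim) linearIndependent_empty_type rfl

end vec

section assembly
variable {F : Type*} [Field F] {V : Type*} [AddCommGroup V] [Module F V]

theorem decomp_main [FiniteDimensional F V] (x : V →ₗ[F] V) (z : F) (hz : z ≠ 0)
    (hx : ∀ u, x (x u) = z • u) (a t : ℕ) (ha : 1 ≤ a) (hdim : finrank F V = a * t) :
    ∃ (D : Fin t → Submodule F V) (σ : Equiv.Perm (Fin t)),
      (∀ c, finrank F (D c) = a) ∧ iSupIndep D ∧ iSup D = ⊤ ∧ ∀ c, (D c).map x = D (σ c) := by
  classical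
  obtain ⟨P, _, v, u, g, cg, hg, hLI, hspan⟩ := structure_thm x z hx
  have hcardI : 2 * Fintype.card P + u = a * t := by
    have hb := finrank_eq_card_basis (Basis.mk hLI (le_of_eq hspan.symm))
    rw [hdim, Fintype.card_sum, Fintype.card_sum, Fintype.card_fin] at hb
    omega
  obtain ⟨binL, binR, binU, σ, h1, h2, h3, h4⟩ := pack a ha t (Finset.univ : Finset P)
    (Finset.univ : Finset (Fin u))
    (by rw [Finset.card_univ, Finset.card_univ, Fintype.card_fin]; exact hcardI)
  obtain ⟨b, hb⟩ : ∃ b : (P ⊕ P) ⊕ Fin u → V, b = Sum.elim (pairfam x v) g := ⟨_, rfl⟩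
  rw [← hb] at hLI hspan
  have hbin_lt : ∀ k : (P ⊕ P) ⊕ Fin u, Sum.elim (Sum.elim binL binR) binU k < t := by
    rintro ((i | i) | j)
    · exact (h2 i (Finset.mem_univ _)).1
    · show binR i < t
      rw [(h2 i (Finset.mem_univ _)).2]
      exact (h1 _ (h2 i (Finset.mem_univ _)).1).1
    · exact (h3 j (Finset.mem_univ _)).1
  obtain ⟨binF, hbinF⟩ : ∃ binF : (P ⊕ P) ⊕ Fin u → Fin t,
      ∀ k, (binF k : ℕ) = Sum.elim (Sum.elim binL binR) binU k :=
    ⟨fun k => ⟨_, hbin_lt k⟩, fun k => rfl⟩
  have hσinv : Function.Involutive (fun c : Fin t => (⟨σ c, (h1 c c.2).1⟩ : Fin t)) := by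
    intro c; apply Fin.ext; exact (h1 c c.2).2
  have hσval : ∀ c : Fin t, ((hσinv.toPerm _ c : Fin t) : ℕ) = σ c := fun c => rfl
  refine ⟨fun c => Submodule.span F (b '' {k | binF k = c}), hσinv.toPerm _, ?_, ?_, ?_, ?_⟩
  · intro c
    have himg : b '' {k | binF k = c}
        = Set.range (b ∘ (Subtype.val : {k // binF k = c} → (P ⊕ P) ⊕ Fin u)) := by
      ext w; constructor
      · rintro ⟨k, hk, rfl⟩; exact ⟨⟨k, hk⟩, rfl⟩
      · rintro ⟨⟨k, hk⟩, rfl⟩; exact ⟨k, hk, rfl⟩
    show finrank F (Submodule.span F (b '' {k | binF k = c})) = a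
    rw [himg, finrank_span_eq_card (hLI.comp _ Subtype.val_injective)]
    rw [Fintype.card_congr Equiv.subtypeSum, Fintype.card_sum,
      Fintype.card_congr Equiv.subtypeSum, Fintype.card_sum,
      Fintype.card_subtype, Fintype.card_subtype, Fintype.card_subtype]
    have e1 : (Finset.univ.filter (fun i : P => binF (Sum.inl (Sum.inl i)) = c))
        = Finset.univ.filter (fun i => binL i = (c : ℕ)) := by
      apply Finset.filter_congr; intro i _
      rw [Fin.ext_iff, hbinF]; rfl
    have e2 : (Finset.univ.filter (fun i : P => binF (Sum.inl (Sum.inr i)) = c))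
        = Finset.univ.filter (fun i => binR i = (c : ℕ)) := by
      apply Finset.filter_congr; intro i _
      rw [Fin.ext_iff, hbinF]; rfl
    have e3 : (Finset.univ.filter (fun j : Fin u => binF (Sum.inr j) = c))
        = Finset.univ.filter (fun j => binU j = (c : ℕ)) := by
      apply Finset.filter_congr; intro j _
      rw [Fin.ext_iff, hbinF]; rfl
    rw [e1, e2, e3]
    exact h4 c c.2
  · exact indep_of_partition b hLI binF
  · rw [← Submodule.span_iUnion, ← Set.image_iUnion]
    have : (⋃ c : Fin t, {k | binF k = c}) = Set.univ := by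
      ext k; simp
    rw [this, Set.image_univ, hspan]
  · have hle : ∀ c : Fin t, (Submodule.span F (b '' {k | binF k = c})).map x
        ≤ Submodule.span F (b '' {k | binF k = hσinv.toPerm _ c}) := by
      intro c
      rw [Submodule.map_span, Submodule.span_le]
      rintro _ ⟨_, ⟨k, hk, rfl⟩, rfl⟩
      have hk' : (binF k : ℕ) = c := by rw [hk]
      rw [hbinF] at hk'
      rcases k with (i | i) | j
      · -- x (v i)
        have hbk : b (Sum.inl (Sum.inl i)) = v i := by rw [hb]; rfl
        rw [hbk]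
        have h5 : x (v i) = b (Sum.inl (Sum.inr i)) := by rw [hb]; rfl
        rw [h5]
        refine Submodule.subset_span ⟨_, ?_, rfl⟩
        show binF (Sum.inl (Sum.inr i)) = hσinv.toPerm _ c
        apply Fin.ext
        rw [hbinF, hσval]
        show binR i = σ c
        rw [(h2 i (Finset.mem_univ _)).2]
        exact congrArg σ hk'
      · have hbk : b (Sum.inl (Sum.inr i)) = x (v i) := by rw [hb]; rfl
        rw [hbk, hx]
        have h5 : v i = b (Sum.inl (Sum.inl i)) := by rw [hb]; rfl
        rw [h5]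
        refine Submodule.smul_mem _ _ (Submodule.subset_span ⟨_, ?_, rfl⟩)
        show binF (Sum.inl (Sum.inl i)) = hσinv.toPerm _ c
        apply Fin.ext
        rw [hbinF, hσval]
        show binL i = σ c
        have h6 : binR i = c := hk'
        rw [← h6, (h2 i (Finset.mem_univ _)).2]
        exact ((h1 _ (h2 i (Finset.mem_univ _)).1).2).symm
      · have hbk : b (Sum.inr j) = g j := by rw [hb]; rfl
        rw [hbk, hg]
        have h5 : g j = b (Sum.inr j) := by rw [hb]; rfl
        rw [h5]
        refine Submodule.smul_mem _ _ (Submodule.subset_span ⟨_, ?_, rfl⟩)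
        show binF (Sum.inr j) = hσinv.toPerm _ c
        apply Fin.ext
        rw [hbinF, hσval]
        show binU j = σ c
        have h6 : binU j = c := hk'
        rw [← h6]
        exact ((h3 j (Finset.mem_univ _)).2).symm
    intro c
    refine le_antisymm (hle c) ?_
    have h5 := hle (hσinv.toPerm _ c)
    have h6 : hσinv.toPerm _ (hσinv.toPerm _ c) = c := hσinv c
    rw [h6] at h5
    have h7 := Submodule.map_mono (f := x) h5
    have hxx : x.comp x = z • LinearMap.id := by
      ext w; simp [hx]
    rw [← Submodule.map_comp, hxx, Submodule.map_smul _ _ z hz, Submodule.map_id] at h7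
    exact h7

end assembly

theorem main {F : Type*} [Field F] [Fintype F] (n a t : ℕ) (hat : n = a * t) (ha : 1 ≤ a)
    (ht : 2 ≤ t) (x : Matrix.SpecialLinearGroup (Fin n) F)
    (hx1 : ∃ z : F, ((x ^ 2 : Matrix.SpecialLinearGroup (Fin n) F) : Matrix (Fin n) (Fin n) F)
      = z • (1 : Matrix (Fin n) (Fin n) F)) :
    ∃ D : Fin t → Submodule F (Fin n → F), Cfsg.Geo.IsMDecomposition a D ∧
        ∃ σ : Equiv.Perm (Fin t), ∀ j,
          (D j).map (Matrix.toLin' (x : Matrix (Fin n) (Fin n) F)) = D (σ j) := by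
  obtain ⟨z, hz⟩ := hx1
  have hxx : (x : Matrix (Fin n) (Fin n) F) * (x : Matrix (Fin n) (Fin n) F) = z • 1 := by
    rw [← hz, pow_two]; rfl
  have hnpos : 0 < n := by
    rw [hat]; exact Nat.mul_pos ha (by omega)
  have hz0 : z ≠ 0 := by
    intro h0
    have h1 := congrArg Matrix.det hxx
    have : Nonempty (Fin n) := ⟨⟨0, hnpos⟩⟩
    rw [Matrix.det_mul, x.det_coe, h0, zero_smul, Matrix.det_zero] at h1
    simp at h1
  have hX : ∀ u, Matrix.toLin' (x : Matrix (Fin n) (Fin n) F)
      (Matrix.toLin' (x : Matrix (Fin n) (Fin n) F) u) = z • u := by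
    intro u
    rw [← LinearMap.comp_apply, ← Matrix.toLin'_mul, hxx]
    simp
  obtain ⟨D, σ, h1, h2, h3, h4⟩ := decomp_main (Matrix.toLin' (x : Matrix (Fin n) (Fin n) F)) z hz0
    hX a t ha (by rw [Module.finrank_fin_fun]; exact hat)
  exact ⟨D, ⟨ht, ha, h1, h2, h3⟩, σ, h4⟩

end S5957aux
end Aux

/-- Involutions of PSL_n(q) and imprimitive subgroups. Here `T = PSL_n(F)` for a field `F` with `q = p^f` elements (`n ≥ 2`, `(n, q) ≠ (2, 2), (2, 3)`), `n = a·t` with `t ≥ 2`, and Ω is the set of direct-sum decompositions of `F^n` into `t` subspaces of dimension `a` (unordered; their number is the number of ordered ones divided by `t!`), whose stabilizers are the imprimitive subgroups of type GL_a(q) ≀ S_t (maximal except in some small cases; maximality is not assumed); an element of `T` of prime order `r` (a matrix `x` of determinant 1 with `x^r` scalar, `x` not scalar) fixes a point of Ω when it permutes the summands of some such decomposition. If the number of such decompositions is even, then every involution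 of `T` stabilizes one of them (the action is 2-elusive). -/
theorem result {F : Type*} [Field F] [Fintype F] {p : ℕ} [Fact p.Prime] [CharP F p] {q : ℕ} (hq : Fintype.card F = q)
    (n a t : ℕ) (hn : 2 ≤ n) (hT : (n, q) ≠ (2, 2) ∧ (n, q) ≠ (2, 3)) (hat : n = a * t) (ha : 1 ≤ a) (ht : 2 ≤ t)
    (hΩ : 2 ∣ Nat.card {D : Fin t → Submodule F (Fin n → F) // Cfsg.Geo.IsMDecomposition a D} / Nat.factorial t)
    (x : Matrix.SpecialLinearGroup (Fin n) F)
    (hx1 : ∃ z : F, ((x ^ 2 : Matrix.SpecialLinearGroup (Fin n) F) : Matrix (Fin n) (Fin n) F) = z • (1 : Matrix (Fin n) (Fin n) F))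
    (hx2 : ∀ z : F, (x : Matrix (Fin n) (Fin n) F) ≠ z • (1 : Matrix (Fin n) (Fin n) F)) :
    ∃ D : Fin t → Submodule F (Fin n → F), Cfsg.Geo.IsMDecomposition a D ∧
        ∃ σ : Equiv.Perm (Fin t), ∀ j, (D j).map (Matrix.toLin' (x : Matrix (Fin n) (Fin n) F)) = D (σ j) := by
  exact S5957aux.main n a t hat ha ht x hx1

end Cfsg.Agent.S5957
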