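import Cfsg.Statements.S5959
-- import your own Cfsg.Agent.* helpers here
import Cfsg.Agent.Lib.Helper15.UniDecomp

set_option autoImplicit false
open scoped MatrixGroups
open Cfsg

namespace Cfsg.Agent.S5959

open Module Cfsg.Agent.Lib.Helper15.SemisimpleConj Cfsg.Agent.Lib.Helper15.NilpotentConj
  Cfsg.Agent.Lib.Helper15.UniDecomp

universe u

theorem main {F : Type u} [Field F] [Fintype F] {p : ℕ} [Fact p.Prime] [CharP F p]
    (n a t : ℕ) (hat : n = a * t) (ha : 1 ≤ a) (ht : 2 ≤ t)
    (h : ∀ x : Matrix.SpecialLinearGroup (Fin n) F,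
      (∃ z : F, ((x ^ p : Matrix.SpecialLinearGroup (Fin n) F) : Matrix (Fin n) (Fin n) F) =
        z • (1 : Matrix (Fin n) (Fin n) F)) →
      (∀ z : F, (x : Matrix (Fin n) (Fin n) F) ≠ z • (1 : Matrix (Fin n) (Fin n) F)) →
      ∃ D : Fin t → Submodule F (Fin n → F), Cfsg.Geo.IsMDecomposition a D ∧
        ∃ σ : Equiv.Perm (Fin t), ∀ j,
          (D j).map (Matrix.toLin' (x : Matrix (Fin n) (Fin n) F)) = D (σ j)) :
    ∀ μ : Multiset ℕ, (∀ b ∈ μ, 0 < b ∧ b ≤ p) → μ.sum = n → μ.count p < a →
      ∃ ν : Multiset ℕ, ν ≤ μ ∧ ν.sum = a := by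
  classical
  intro μ hμ hsum hcount
  have hp := (Fact.out : p.Prime)
  have han : a ≤ n := by rw [hat]; nlinarith
  have hμ1 : ∀ b ∈ μ, 1 ≤ b := fun b hb => (hμ b hb).1
  by_cases hcard : Multiset.card μ = μ.sum
  · -- all parts are one
    have h1 := eq_replicate_of_card_eq_sum μ hμ1 hcard
    rw [hcard, hsum] at h1
    refine ⟨Multiset.replicate a 1, ?_, by simp⟩
    rw [h1]
    exact (Multiset.replicate_le_replicate 1).2 han
  · obtain ⟨A, hA, hkA⟩ := exists_matrix_of_type (F := F) μ hsum
    have hAp : A ^ p = 0 := by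
      rw [pow_eq_zero_iff_mkap, hkA, ← hsum, kapm_eq_sum_iff]
      intro b hb
      exact (hμ b hb).2
    have hxp : (1 + A) ^ p = 1 := by
      have := sub_one_pow_char_pow p (1 + A) 1
      rw [pow_one, add_sub_cancel_left, hAp] at this
      exact (sub_eq_zero.1 this.symm)
    have hdet : (1 + A).det = 1 := by
      have h1 : (1 + A).det ^ p = 1 := by rw [← Matrix.det_pow, hxp, Matrix.det_one]
      have h2 : ((1 + A).det - 1) ^ p = 0 := by rw [sub_pow_char, h1, one_pow, sub_self]
      exact sub_eq_zero.1 (pow_eq_zero_iff hp.ne_zero |>.1 h2)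
    let x : Matrix.SpecialLinearGroup (Fin n) F := ⟨1 + A, hdet⟩
    have hxval : (x : Matrix (Fin n) (Fin n) F) = 1 + A := rfl
    have hx1 : ∃ z : F, ((x ^ p : Matrix.SpecialLinearGroup (Fin n) F) :
        Matrix (Fin n) (Fin n) F) = z • (1 : Matrix (Fin n) (Fin n) F) := by
      refine ⟨1, ?_⟩
      rw [Matrix.SpecialLinearGroup.coe_pow, hxval, hxp, one_smul]
    have hx2 : ∀ z : F, (x : Matrix (Fin n) (Fin n) F) ≠ z • (1 : Matrix (Fin n) (Fin n) F) := by
      intro z hz
      rw [hxval] at hz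
      have hA' : A = (z - 1) • (1 : Matrix (Fin n) (Fin n) F) := by
        rw [sub_smul, ← hz, one_smul, add_sub_cancel_left]
      have hz1 : z = 1 := by
        by_contra hne
        have h1 : (z - 1) ^ p • (1 : Matrix (Fin n) (Fin n) F) = 0 := by
          rw [← hAp, hA', smul_pow, one_pow]
        have h2 := congrFun (congrFun h1 ⟨0, by omega⟩) ⟨0, by omega⟩
        rw [Matrix.smul_apply, Matrix.one_apply_eq, Matrix.zero_apply, smul_eq_mul, mul_one] at h2
        exact hne (sub_eq_zero.1 (pow_eq_zero_iff hp.ne_zero |>.1 h2))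
      have hA0 : A = 0 := by rw [hA', hz1, sub_self, zero_smul]
      apply hcard
      rw [← kapm_one μ hμ1, ← hkA, hA0, hsum]
      unfold mkap kap
      rw [map_zero, pow_one, LinearMap.ker_zero, finrank_top, Module.finrank_fin_fun]
    obtain ⟨D, hD, σ, hσ⟩ := h x hx1 hx2
    obtain ⟨T, hT⟩ : ∃ T : End F (Fin n → F), T = Matrix.toLin' (x : Matrix (Fin n) (Fin n) F) :=
      ⟨_, rfl⟩
    rw [← hT] at hσ
    have hT1 : T - 1 = Matrix.toLin' A := by
      rw [hT, hxval, map_add, Matrix.toLin'_one]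
      exact add_sub_cancel_left _ _
    have hTp : T ^ p = 1 := by
      rw [hT, hxval, ← Matrix.toLin'_pow, hxp, Matrix.toLin'_one]
      rfl
    have hk : ∀ s, kap (T - 1) s = kapm μ s := by
      intro s
      rw [hT1]
      exact hkA s
    have hfix : ∀ j, σ j = j :=
      fixes_summand p T hTp μ hμ hk D a ha hD.finrank_eq hD.indep σ hσ hcount
    have hinv : ∀ j, ∀ v ∈ D j, (T - 1) v ∈ D j := by
      intro j v hv
      rw [LinearMap.sub_apply, Module.End.one_apply]
      apply Submodule.sub_mem _ _ hv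
      have : T v ∈ (D j).map T := Submodule.mem_map_of_mem hv
      rw [hσ, hfix] at this
      exact this
    let j₀ : Fin t := ⟨0, by omega⟩
    have hc : IsCompl (D j₀) (⨆ (k) (_ : k ≠ j₀), D k) := by
      refine ⟨hD.indep j₀, codisjoint_iff.2 ?_⟩
      rw [← iSup_split_single]
      exact hD.iSup_eq_top
    have hW : D j₀ ∈ (T - 1).invtSubmodule := by
      rw [Module.End.mem_invtSubmodule]
      intro v hv
      exact hinv j₀ v hv
    have hW' : (⨆ (k) (_ : k ≠ j₀), D k) ∈ (T - 1).invtSubmodule := by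
      rw [Module.End.mem_invtSubmodule]
      apply iSup₂_le
      intro k hk v hv
      exact (le_iSup₂ (f := fun k (_ : k ≠ j₀) => D k) k hk) (hinv k v hv)
    have hnil : IsNilpotent (T - 1) := by
      rw [hT1]
      exact isNilpotent_toLin' A hA
    obtain ⟨ν, hνle, hνsum, -, -⟩ := type_le_of_isCompl (T - 1) hnil μ hμ1 hk _ _ hW hW' hc
    exact ⟨ν, hνle, by rw [hνsum, hD.finrank_eq]⟩

/-- Elements of order `p` of PSL_n(q) and imprimitive subgroups: a necessary condition. Here `T = PSL_n(F)` for a field `F` with `q = p^f` elements (`n ≥ 2`, `(n, q) ≠ (2, 2), (2, 3)`), `n = a·t` with `t ≥ 2`, and Ω is the set of direct-sum decompositions of `F^n` into `t` subspaces of dimension `a` (unordered; their number is the number of ordered ones divided by `t!`), whose stabilizers are the imprimitive subgroups of type GL_a(q) ≀ S_t (maximal except in some small cases; maximality is not assumed); an element of `T` of prime order `r` (a matrix `x` of determinant 1 with `x^r` scalar, `x` not scalar)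 fixes a point of Ω when it permutes the summands of some such decomposition. Suppose `p > 2` divides the number of such decompositions. If every element of `T` of order `p` stabilizes such a decomposition, then every partition of `n` into parts of size at most `p` in which the part `p` occurs fewer than `a` times contains (as a sub-multiset) a partition of `a`. -/
theorem result {F : Type*} [Field F] [Fintype F] {p : ℕ} [Fact p.Prime] [CharP F p] {q : ℕ} (hq : Fintype.card F = q)
    (n a t : ℕ) (hn : 2 ≤ n) (hT : (n, q) ≠ (2, 2) ∧ (n, q) ≠ (2, 3)) (hat : n = a * t) (ha : 1 ≤ a) (ht : 2 ≤ t)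
    (hp : 2 < p) (hΩ : p ∣ Nat.card {D : Fin t → Submodule F (Fin n → F) // Cfsg.Geo.IsMDecomposition a D} / Nat.factorial t)
    (h : ∀ x : Matrix.SpecialLinearGroup (Fin n) F,
      (∃ z : F, ((x ^ p : Matrix.SpecialLinearGroup (Fin n) F) : Matrix (Fin n) (Fin n) F) = z • (1 : Matrix (Fin n) (Fin n) F)) →
      (∀ z : F, (x : Matrix (Fin n) (Fin n) F) ≠ z • (1 : Matrix (Fin n) (Fin n) F)) →
      ∃ D : Fin t → Submodule F (Fin n → F), Cfsg.Geo.IsMDecomposition a D ∧
        ∃ σ : Equiv.Perm (Fin t), ∀ j, (D j).map (Matrix.toLin' (x : Matrix (Fin n) (Fin n) F)) = D (σ j)) :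
    (∀ μ : Multiset ℕ, (∀ b ∈ μ, 0 < b ∧ b ≤ p) → μ.sum = n → μ.count p < a → ∃ ν : Multiset ℕ, ν ≤ μ ∧ ν.sum = a) := by
  exact main n a t hat ha ht h

end Cfsg.Agent.S5959
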