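import Cfsg.Statements.S5960
import Mathlib
import Cfsg.Agent.S5957
import Cfsg.Agent.Lib.Helper5.Symp

set_option autoImplicit false
open scoped MatrixGroups
open Cfsg

namespace Cfsg.Agent.S5960

section Aux
set_option linter.unusedSectionVars false
set_option linter.unusedVariables false
set_option linter.unusedSimpArgs false
namespace S5960aux
open Module Cfsg.Agent.S5957.S5957aux

section hyp
variable {F : Type*} [Field F] {V : Type*} [AddCommGroup V] [Module F V]
variable (B : V →ₗ[F] V →ₗ[F] F)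

theorem skew_of_alt (halt : ∀ v, B v v = 0) (u w : V) : B u w = - B w u := by
  have h := halt (u + w)
  simp only [map_add, LinearMap.add_apply, halt, zero_add, add_zero] at h
  linear_combination h

def Hyp {J : Type*} (e f : J → V) : Prop :=
  (∀ k, B (e k) (f k) = 1) ∧ (∀ k l, k ≠ l → B (e k) (f l) = 0) ∧
  (∀ k l, B (e k) (e l) = 0) ∧ (∀ k l, B (f k) (f l) = 0)

def Perp {J : Type*} (e f : J → V) (w : V) : Prop := ∀ k, B (e k) w = 0 ∧ B (f k) w = 0

theorem perp_smul {J : Type*} {e f : J → V} {w : V} (hw : Perp B e f w) (c : F) :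
    Perp B e f (c • w) := fun k => by
  rw [map_smul, map_smul, (hw k).1, (hw k).2, smul_zero]; exact ⟨rfl, rfl⟩

theorem perp_sub {J : Type*} {e f : J → V} {w w' : V} (hw : Perp B e f w) (hw' : Perp B e f w') :
    Perp B e f (w - w') := fun k => by
  rw [map_sub, map_sub, (hw k).1, (hw k).2, (hw' k).1, (hw' k).2, sub_zero]; exact ⟨rfl, rfl⟩

theorem hyp_LI (halt : ∀ v, B v v = 0) {J : Type*} [Fintype J] [DecidableEq J] (e f : J → V)
    (h : Hyp B e f) : LinearIndependent F (Sum.elim e f) := by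
  have hskew := skew_of_alt B halt
  rw [Fintype.linearIndependent_iff]
  intro g hg
  rw [Fintype.sum_sum_type] at hg
  simp only [Sum.elim_inl, Sum.elim_inr] at hg
  intro κ
  rcases κ with k | k
  · have h1 := congrArg (B.flip (f k)) hg
    simp only [map_add, map_sum, map_smul, LinearMap.flip_apply, smul_eq_mul, map_zero] at h1
    rw [Finset.sum_eq_single k, h.1 k, mul_one] at h1
    · have h2 : ∑ l, g (Sum.inr l) * B (f l) (f k) = 0 :=
        Finset.sum_eq_zero fun l _ => by rw [h.2.2.2 l k, mul_zero]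
      rw [h2, add_zero] at h1
      exact h1
    · intro l _ hl
      rw [h.2.1 l k hl, mul_zero]
    · intro hk; exact absurd (Finset.mem_univ k) hk
  · have h1 := congrArg (B (e k)) hg
    simp only [map_add, map_sum, map_smul, smul_eq_mul, map_zero] at h1
    have h2 : ∑ l, g (Sum.inl l) * B (e k) (e l) = 0 :=
      Finset.sum_eq_zero fun l _ => by rw [h.2.2.1 k l, mul_zero]
    rw [h2, zero_add, Finset.sum_eq_single k, h.1 k, mul_one] at h1
    · exact h1
    · intro l _ hl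
      rw [h.2.1 k l (Ne.symm hl), mul_zero]
    · intro hk; exact absurd (Finset.mem_univ k) hk

theorem hyp_proj (halt : ∀ v, B v v = 0) {J : Type*} [Fintype J] [DecidableEq J] (e f : J → V)
    (h : Hyp B e f) (w : V) :
    Perp B e f (w - ∑ k, (B (e k) w • f k - B (f k) w • e k)) := by
  have hskew := skew_of_alt B halt
  intro l
  constructor
  · rw [map_sub, map_sum]
    simp only [map_sub, map_smul, smul_eq_mul]
    rw [Finset.sum_eq_single l]
    · rw [h.1 l, h.2.2.1 l l]; ring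
    · intro k _ hkl
      rw [h.2.1 l k (Ne.symm hkl), h.2.2.1 l k]; ring
    · intro hl; exact absurd (Finset.mem_univ l) hl
  · rw [map_sub, map_sum]
    simp only [map_sub, map_smul, smul_eq_mul]
    rw [Finset.sum_eq_single l]
    · rw [h.2.2.2 l l, hskew (f l) (e l), h.1 l]; ring
    · intro k _ hkl
      rw [h.2.2.2 l k, hskew (f l) (e k), h.2.1 k l hkl]; ring
    · intro hl; exact absurd (Finset.mem_univ l) hl

theorem proj_mem {J : Type*} [Fintype J] (e f : J → V) (w : V) :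
    (∑ k, (B (e k) w • f k - B (f k) w • e k)) ∈ Submodule.span F (Set.range (Sum.elim e f)) := by
  refine Submodule.sum_mem _ fun k _ => ?_
  exact sub_mem (Submodule.smul_mem _ _ (Submodule.subset_span ⟨Sum.inr k, rfl⟩))
    (Submodule.smul_mem _ _ (Submodule.subset_span ⟨Sum.inl k, rfl⟩))

theorem perp_nondeg (halt : ∀ v, B v v = 0) (hnd : ∀ u, u ≠ 0 → ∃ w, B u w ≠ 0)
    {J : Type*} [Fintype J] [DecidableEq J] (e f : J → V) (h : Hyp B e f)
    (u : V) (hu : Perp B e f u) (hu0 : u ≠ 0) : ∃ w, Perp B e f w ∧ B u w ≠ 0 := by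
  have hskew := skew_of_alt B halt
  obtain ⟨w₀, hw₀⟩ := hnd u hu0
  refine ⟨_, hyp_proj B halt e f h w₀, ?_⟩
  rw [map_sub, map_sum]
  have h2 : ∑ k, B u (B (e k) w₀ • f k - B (f k) w₀ • e k) = 0 :=
    Finset.sum_eq_zero fun k _ => by
      rw [map_sub, map_smul, map_smul, hskew u (f k), hskew u (e k), (hu k).1, (hu k).2]
      simp
  rw [h2, sub_zero]
  exact hw₀

theorem exists_perp [FiniteDimensional F V] (halt : ∀ v, B v v = 0)
    {J : Type*} [Fintype J] [DecidableEq J] (e f : J → V) (h : Hyp B e f)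
    (hlt : 2 * Fintype.card J < finrank F V) : ∃ u, u ≠ 0 ∧ Perp B e f u := by
  by_contra hno
  push Not at hno
  have htop : Submodule.span F (Set.range (Sum.elim e f)) = ⊤ := by
    rw [eq_top_iff]
    intro w _
    have h1 := hyp_proj B halt e f h w
    have h2 : w - ∑ k, (B (e k) w • f k - B (f k) w • e k) = 0 := by
      by_contra h3
      exact hno _ h3 h1
    rw [sub_eq_zero] at h2
    rw [h2]
    exact proj_mem B e f w
  have h3 := finrank_span_eq_card (hyp_LI B halt e f h)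
  rw [htop, finrank_top, Fintype.card_sum] at h3
  omega

theorem hyp_span [FiniteDimensional F V] (halt : ∀ v, B v v = 0)
    {J : Type*} [Fintype J] [DecidableEq J] (e f : J → V) (h : Hyp B e f)
    (heq : 2 * Fintype.card J = finrank F V) :
    Submodule.span F (Set.range (Sum.elim e f)) = ⊤ := by
  apply (hyp_LI B halt e f h).span_eq_top_of_card_eq_finrank'
  rw [Fintype.card_sum]; omega

theorem hyp_union (halt : ∀ v, B v v = 0) {J J' : Type*} (e f : J → V) (e' f' : J' → V)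
    (h : Hyp B e f) (h' : Hyp B e' f')
    (hc : ∀ k', Perp B e f (e' k') ∧ Perp B e f (f' k')) :
    Hyp B (Sum.elim e e') (Sum.elim f f') := by
  have hskew := skew_of_alt B halt
  refine ⟨?_, ?_, ?_, ?_⟩
  · rintro (k | k)
    · exact h.1 k
    · exact h'.1 k
  · rintro (k | k) (l | l) hkl
    · exact h.2.1 k l (fun hh => hkl (by rw [hh]))
    · exact ((hc l).2 k).1
    · show B (e' k) (f l) = 0
      rw [hskew, ((hc k).1 l).2, neg_zero]
    · exact h'.2.1 k l (fun hh => hkl (by rw [hh]))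
  · rintro (k | k) (l | l)
    · exact h.2.2.1 k l
    · exact ((hc l).1 k).1
    · show B (e' k) (e l) = 0
      rw [hskew, ((hc k).1 l).1, neg_zero]
    · exact h'.2.2.1 k l
  · rintro (k | k) (l | l)
    · exact h.2.2.2 k l
    · exact ((hc l).2 k).2
    · show B (f' k) (f l) = 0
      rw [hskew, ((hc k).2 l).2, neg_zero]
    · exact h'.2.2.2 k l

theorem hyp_reindex {J J' : Type*} (e f : J → V) (h : Hyp B e f) (ψ : J' → J)
    (hψ : Function.Injective ψ) : Hyp B (e ∘ ψ) (f ∘ ψ) :=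
  ⟨fun k => h.1 _, fun k l hkl => h.2.1 _ _ (fun hh => hkl (hψ hh)), fun k l => h.2.2.1 _ _,
    fun k l => h.2.2.2 _ _⟩

end hyp

section xsys
variable {F : Type*} [Field F] {V : Type*} [AddCommGroup V] [Module F V]
variable (B : V →ₗ[F] V →ₗ[F] F) (x : V →ₗ[F] V)

def eS {P U : Type*} (eP : P → V) (eU : U → V) : (P ⊕ P) ⊕ U → V :=
  Sum.elim (Sum.elim eP (fun i => x (eP i))) eU

def Full : Prop :=
  ∃ (P' U' : Type) (_ : Fintype P') (_ : Fintype U') (eP' fP' : P' → V) (eU' fU' : U' → V),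
    Hyp B (eS x eP' eU') (eS x fP' fU') ∧
    (∀ j, x (eU' j) ∈ Submodule.span F {eU' j, fU' j} ∧
      x (fU' j) ∈ Submodule.span F {eU' j, fU' j}) ∧
    2 * (2 * Fintype.card P' + Fintype.card U') = finrank F V

theorem B_x_right (z : F) (hz : z ≠ 0) (hxB : ∀ u w, B (x u) (x w) = B u w)
    (hx : ∀ u, x (x u) = z • u) (a w : V) : B a (x w) = z⁻¹ * B (x a) w := by
  have h1 : a = x (z⁻¹ • x a) := by
    rw [map_smul, hx, smul_smul, inv_mul_cancel₀ hz, one_smul]
  conv_lhs => rw [h1]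
  rw [hxB, map_smul, LinearMap.smul_apply, smul_eq_mul]

theorem perp_x (z : F) (hz : z ≠ 0) (hxB : ∀ u w, B (x u) (x w) = B u w)
    (hx : ∀ u, x (x u) = z • u) {P U : Type*} (eP fP : P → V) (eU fU : U → V)
    (hU : ∀ j, x (eU j) ∈ Submodule.span F {eU j, fU j} ∧
      x (fU j) ∈ Submodule.span F {eU j, fU j})
    {w : V} (hw : Perp B (eS x eP eU) (eS x fP fU) w) :
    Perp B (eS x eP eU) (eS x fP fU) (x w) := by
  rintro ((i | i) | j)
  · have h := hw (Sum.inl (Sum.inr i))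
    constructor
    · show B (eP i) (x w) = 0
      rw [B_x_right B x z hz hxB hx]
      have : B (x (eP i)) w = 0 := h.1
      rw [this, mul_zero]
    · show B (fP i) (x w) = 0
      rw [B_x_right B x z hz hxB hx]
      have : B (x (fP i)) w = 0 := h.2
      rw [this, mul_zero]
  · have h := hw (Sum.inl (Sum.inl i))
    constructor
    · show B (x (eP i)) (x w) = 0
      rw [hxB]; exact h.1
    · show B (x (fP i)) (x w) = 0
      rw [hxB]; exact h.2
  · have h := hw (Sum.inr j)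
    have he : B (eU j) w = 0 := h.1
    have hf : B (fU j) w = 0 := h.2
    constructor
    · show B (eU j) (x w) = 0
      rw [B_x_right B x z hz hxB hx]
      obtain ⟨α, β, hαβ⟩ := Submodule.mem_span_pair.mp (hU j).1
      rw [← hαβ, map_add, map_smul, map_smul, LinearMap.add_apply, LinearMap.smul_apply,
        LinearMap.smul_apply, he, hf]
      simp
    · show B (fU j) (x w) = 0
      rw [B_x_right B x z hz hxB hx]
      obtain ⟨α, β, hαβ⟩ := Submodule.mem_span_pair.mp (hU j).2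
      rw [← hαβ, map_add, map_smul, map_smul, LinearMap.add_apply, LinearMap.smul_apply,
        LinearMap.smul_apply, he, hf]
      simp

theorem add_single (halt : ∀ v, B v v = 0) (P U : Type) (eP fP : P → V) (eU fU : U → V)
    (hH : Hyp B (eS x eP eU) (eS x fP fU))
    (hU : ∀ j, x (eU j) ∈ Submodule.span F {eU j, fU j} ∧
      x (fU j) ∈ Submodule.span F {eU j, fU j})
    (v w' : V) (hv : Perp B (eS x eP eU) (eS x fP fU) v)
    (hw' : Perp B (eS x eP eU) (eS x fP fU) w')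
    (hvw : B v w' = 1) (hxv : x v ∈ Submodule.span F {v, w'})
    (hxw : x w' ∈ Submodule.span F {v, w'}) :
    Hyp B (eS x eP (Sum.elim eU (fun _ : Fin 1 => v)))
      (eS x fP (Sum.elim fU (fun _ : Fin 1 => w'))) ∧
    (∀ j, x (Sum.elim eU (fun _ : Fin 1 => v) j) ∈ Submodule.span F
        {Sum.elim eU (fun _ : Fin 1 => v) j, Sum.elim fU (fun _ : Fin 1 => w') j} ∧
      x (Sum.elim fU (fun _ : Fin 1 => w') j) ∈ Submodule.span F
        {Sum.elim eU (fun _ : Fin 1 => v) j, Sum.elim fU (fun _ : Fin 1 => w') j}) := by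
  constructor
  · have he : eS x eP (Sum.elim eU (fun _ : Fin 1 => v))
        = Sum.elim (eS x eP eU) (fun _ : Fin 1 => v)
          ∘ (Equiv.sumAssoc (P ⊕ P) U (Fin 1)).symm := by
      funext k; rcases k with k | (j | j) <;> rfl
    have hf : eS x fP (Sum.elim fU (fun _ : Fin 1 => w'))
        = Sum.elim (eS x fP fU) (fun _ : Fin 1 => w')
          ∘ (Equiv.sumAssoc (P ⊕ P) U (Fin 1)).symm := by
      funext k; rcases k with k | (j | j) <;> rfl
    rw [he, hf]
    apply hyp_reindex B _ _ _ _ (Equiv.injective _)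
    apply hyp_union B halt _ _ _ _ hH
    · exact ⟨fun _ => hvw, fun k l hkl => absurd (Subsingleton.elim k l) hkl,
        fun _ _ => halt v, fun _ _ => halt w'⟩
    · intro _; exact ⟨hv, hw'⟩
  · rintro (j | j)
    · exact hU j
    · exact ⟨hxv, hxw⟩

def psiP (P U : Type) :
    ((P ⊕ Fin 1) ⊕ (P ⊕ Fin 1)) ⊕ U → ((P ⊕ P) ⊕ U) ⊕ (Fin 1 ⊕ Fin 1)
  | Sum.inl (Sum.inl (Sum.inl i)) => Sum.inl (Sum.inl (Sum.inl i))
  | Sum.inl (Sum.inl (Sum.inr _)) => Sum.inr (Sum.inl 0)
  | Sum.inl (Sum.inr (Sum.inl i)) => Sum.inl (Sum.inl (Sum.inr i))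
  | Sum.inl (Sum.inr (Sum.inr _)) => Sum.inr (Sum.inr 0)
  | Sum.inr j => Sum.inl (Sum.inr j)

def psiPinv (P U : Type) :
    ((P ⊕ P) ⊕ U) ⊕ (Fin 1 ⊕ Fin 1) → ((P ⊕ Fin 1) ⊕ (P ⊕ Fin 1)) ⊕ U
  | Sum.inl (Sum.inl (Sum.inl i)) => Sum.inl (Sum.inl (Sum.inl i))
  | Sum.inl (Sum.inl (Sum.inr i)) => Sum.inl (Sum.inr (Sum.inl i))
  | Sum.inl (Sum.inr j) => Sum.inr j
  | Sum.inr (Sum.inl _) => Sum.inl (Sum.inl (Sum.inr 0))
  | Sum.inr (Sum.inr _) => Sum.inl (Sum.inr (Sum.inr 0))

theorem psiP_left (P U : Type) (k) : psiPinv P U (psiP P U k) = k := by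
  rcases k with ((i | i) | (i | i)) | j
  · rfl
  · show Sum.inl (Sum.inl (Sum.inr 0)) = _
    rw [Subsingleton.elim i 0]
  · rfl
  · show Sum.inl (Sum.inr (Sum.inr 0)) = _
    rw [Subsingleton.elim i 0]
  · rfl

theorem psiP_inj (P U : Type) : Function.Injective (psiP P U) :=
  Function.LeftInverse.injective (psiP_left P U)

theorem add_pair (halt : ∀ v, B v v = 0) (z : F) (hz : z ≠ 0)
    (hxB : ∀ u w, B (x u) (x w) = B u w) (hx : ∀ u, x (x u) = z • u)
    (P U : Type) (eP fP : P → V) (eU fU : U → V)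
    (hH : Hyp B (eS x eP eU) (eS x fP fU))
    (hU : ∀ j, x (eU j) ∈ Submodule.span F {eU j, fU j} ∧
      x (fU j) ∈ Submodule.span F {eU j, fU j})
    (u w' : V) (hu : Perp B (eS x eP eU) (eS x fP fU) u)
    (hw' : Perp B (eS x eP eU) (eS x fP fU) w')
    (huw : B u w' = 1) (h1 : B u (x u) = 0) (h2 : B u (x w') = 0) (h3 : B w' (x u) = 0)
    (h4 : B w' (x w') = 0) :
    Hyp B (eS x (Sum.elim eP (fun _ : Fin 1 => u)) eU)
      (eS x (Sum.elim fP (fun _ : Fin 1 => w')) fU) := by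
  have hskew := skew_of_alt B halt
  have he : eS x (Sum.elim eP (fun _ : Fin 1 => u)) eU
      = Sum.elim (eS x eP eU) (Sum.elim (fun _ : Fin 1 => u) (fun _ : Fin 1 => x u))
        ∘ psiP P U := by
    funext k; rcases k with ((i | i) | (i | i)) | j <;> rfl
  have hf : eS x (Sum.elim fP (fun _ : Fin 1 => w')) fU
      = Sum.elim (eS x fP fU) (Sum.elim (fun _ : Fin 1 => w') (fun _ : Fin 1 => x w'))
        ∘ psiP P U := by
    funext k; rcases k with ((i | i) | (i | i)) | j <;> rfl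
  rw [he, hf]
  apply hyp_reindex B _ _ _ _ (psiP_inj P U)
  apply hyp_union B halt _ _ _ _ hH
  · refine ⟨?_, ?_, ?_, ?_⟩
    · rintro (k | k)
      · exact huw
      · show B (x u) (x w') = 1
        rw [hxB]; exact huw
    · rintro (k | k) (l | l) hkl
      · exact absurd (by rw [Subsingleton.elim k l]) hkl
      · exact h2
      · show B (x u) w' = 0
        rw [hskew, h3, neg_zero]
      · exact absurd (by rw [Subsingleton.elim k l]) hkl
    · rintro (k | k) (l | l)
      · exact halt u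
      · exact h1
      · show B (x u) u = 0
        rw [hskew, h1, neg_zero]
      · exact halt (x u)
    · rintro (k | k) (l | l)
      · exact halt w'
      · exact h4
      · show B (x w') w' = 0
        rw [hskew, h4, neg_zero]
      · exact halt (x w')
  · rintro (k | k)
    · exact ⟨hu, hw'⟩
    · exact ⟨perp_x B x z hz hxB hx eP fP eU fU hU hu, perp_x B x z hz hxB hx eP fP eU fU hU hw'⟩

theorem card_bound [FiniteDimensional F V] (halt : ∀ v, B v v = 0) (P U : Type) [Fintype P]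
    [Fintype U] (eP fP : P → V) (eU fU : U → V) (hH : Hyp B (eS x eP eU) (eS x fP fU)) :
    2 * (2 * Fintype.card P + Fintype.card U) ≤ finrank F V := by
  classical
  have := (hyp_LI B halt _ _ hH).fintype_card_le_finrank
  simp only [Fintype.card_sum] at this
  omega

theorem build [FiniteDimensional F V] (halt : ∀ v, B v v = 0)
    (hnd : ∀ u, u ≠ 0 → ∃ w, B u w ≠ 0) (z : F) (hz : z ≠ 0)
    (hxB : ∀ u w, B (x u) (x w) = B u w) (hx : ∀ u, x (x u) = z • u) :
    ∀ m : ℕ, ∀ (P U : Type) [Fintype P] [Fintype U] (eP fP : P → V) (eU fU : U → V),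
      Hyp B (eS x eP eU) (eS x fP fU) →
      (∀ j, x (eU j) ∈ Submodule.span F {eU j, fU j} ∧
        x (fU j) ∈ Submodule.span F {eU j, fU j}) →
      finrank F V - 2 * (2 * Fintype.card P + Fintype.card U) = m → Full B x := by
  intro m
  induction m using Nat.strong_induction_on with
  | _ m ih =>
  intro P U _ _ eP fP eU fU hH hU hm
  classical
  have hbound := card_bound B x halt P U eP fP eU fU hH
  by_cases heq : 2 * (2 * Fintype.card P + Fintype.card U) = finrank F V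
  · exact ⟨P, U, inferInstance, inferInstance, eP, fP, eU, fU, hH, hU, heq⟩
  have hlt : 2 * Fintype.card ((P ⊕ P) ⊕ U) < finrank F V := by
    simp only [Fintype.card_sum]; omega
  obtain ⟨u₀, hu₀, hPu₀⟩ := exists_perp B halt _ _ hH hlt
  have single_step : ∀ v w' : V, Perp B (eS x eP eU) (eS x fP fU) v →
      Perp B (eS x eP eU) (eS x fP fU) w' → B v w' = 1 →
      x v ∈ Submodule.span F {v, w'} → x w' ∈ Submodule.span F {v, w'} → Full B x := by
    intro v w' hv hw' hvw hxv hxw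
    obtain ⟨hH', hU'⟩ := add_single B x halt P U eP fP eU fU hH hU v w' hv hw' hvw hxv hxw
    have hb' := card_bound B x halt P (U ⊕ Fin 1) _ _ _ _ hH'
    rw [Fintype.card_sum, Fintype.card_fin] at hb'
    exact ih (finrank F V - 2 * (2 * Fintype.card P + Fintype.card (U ⊕ Fin 1)))
      (by rw [Fintype.card_sum, Fintype.card_fin]; omega) P (U ⊕ Fin 1) _ _ _ _ hH' hU' rfl
  by_cases h1 : ∃ v, Perp B (eS x eP eU) (eS x fP fU) v ∧ B v (x v) ≠ 0
  · obtain ⟨v, hPv, hc⟩ := h1
    have hPxv := perp_x B x z hz hxB hx eP fP eU fU hU hPv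
    refine single_step v ((B v (x v))⁻¹ • x v) hPv (perp_smul B hPxv _) ?_ ?_ ?_
    · rw [map_smul, smul_eq_mul, inv_mul_cancel₀ hc]
    · rw [Submodule.mem_span_pair]
      exact ⟨0, B v (x v), by
        rw [zero_smul, zero_add, smul_smul, mul_inv_cancel₀ hc, one_smul]⟩
    · rw [Submodule.mem_span_pair]
      exact ⟨(B v (x v))⁻¹ * z, 0, by rw [zero_smul, add_zero, map_smul, hx, smul_smul]⟩
  push Not at h1
  by_cases h2 : ∃ u, Perp B (eS x eP eU) (eS x fP fU) u ∧ LinearIndependent F ![u, x u]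
  · obtain ⟨u, hPu, hLIu⟩ := h2
    have hPxu := perp_x B x z hz hxB hx eP fP eU fU hU hPu
    have hxu0 : x u ≠ 0 := by
      have := hLIu.ne_zero 1
      simpa using this
    obtain ⟨w, hPw, hw1, hw2⟩ : ∃ w, Perp B (eS x eP eU) (eS x fP fU) w ∧ B (x u) w = 0 ∧
        B u w ≠ 0 := by
      by_contra hno
      push Not at hno
      obtain ⟨w₁, hPw₁, hw₁⟩ := perp_nondeg B halt hnd _ _ hH (x u) hPxu hxu0
      have key : ∀ w, Perp B (eS x eP eU) (eS x fP fU) w →
          B (u - (B u w₁ / B (x u) w₁) • x u) w = 0 := by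
        intro w hPw
        have hPw' : Perp B (eS x eP eU) (eS x fP fU) (w - (B (x u) w / B (x u) w₁) • w₁) :=
          perp_sub B hPw (perp_smul B hPw₁ _)
        have h0 : B (x u) (w - (B (x u) w / B (x u) w₁) • w₁) = 0 := by
          rw [map_sub, map_smul, smul_eq_mul, div_mul_cancel₀ _ hw₁, sub_self]
        have h5 := hno _ hPw' h0
        rw [map_sub, map_smul, smul_eq_mul] at h5
        rw [map_sub, LinearMap.sub_apply, map_smul, LinearMap.smul_apply, smul_eq_mul]
        linear_combination h5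
      have hzero : u - (B u w₁ / B (x u) w₁) • x u = 0 := by
        by_contra hne
        obtain ⟨w, hPw, hw⟩ := perp_nondeg B halt hnd _ _ hH _
          (perp_sub B hPu (perp_smul B hPxu _)) hne
        exact hw (key w hPw)
      have := (LinearIndependent.pair_iff.mp hLIu) 1 (-(B u w₁ / B (x u) w₁)) (by
        rw [one_smul, neg_smul, ← sub_eq_add_neg]; exact hzero)
      exact one_ne_zero this.1
    have hPw' := perp_smul B hPw (B u w)⁻¹
    have huw : B u ((B u w)⁻¹ • w) = 1 := by rw [map_smul, smul_eq_mul, inv_mul_cancel₀ hw2]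
    have g1 : B u (x u) = 0 := h1 u hPu
    have g2 : B u (x ((B u w)⁻¹ • w)) = 0 := by
      rw [B_x_right B x z hz hxB hx, map_smul, smul_eq_mul, hw1, mul_zero, mul_zero]
    have g3 : B ((B u w)⁻¹ • w) (x u) = 0 := by
      rw [skew_of_alt B halt, map_smul, smul_eq_mul, hw1, mul_zero, neg_zero]
    have g4 : B ((B u w)⁻¹ • w) (x ((B u w)⁻¹ • w)) = 0 := h1 _ hPw'
    have hH' := add_pair B x halt z hz hxB hx P U eP fP eU fU hH hU u _ hPu hPw' huw g1 g2 g3 g4
    have hb' := card_bound B x halt (P ⊕ Fin 1) U _ _ _ _ hH'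
    rw [Fintype.card_sum, Fintype.card_fin] at hb'
    exact ih (finrank F V - 2 * (2 * Fintype.card (P ⊕ Fin 1) + Fintype.card U))
      (by rw [Fintype.card_sum, Fintype.card_fin]; omega) (P ⊕ Fin 1) U _ _ _ _ hH' hU rfl
  push Not at h2
  obtain ⟨w₀, hPw₀, hw₀⟩ := perp_nondeg B halt hnd _ _ hH u₀ hPu₀ hu₀
  have hPw' := perp_smul B hPw₀ (B u₀ w₀)⁻¹
  have huw : B u₀ ((B u₀ w₀)⁻¹ • w₀) = 1 := by rw [map_smul, smul_eq_mul, inv_mul_cancel₀ hw₀]
  have hw'0 : (B u₀ w₀)⁻¹ • w₀ ≠ 0 := by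
    intro h0; rw [h0, map_zero] at huw; exact zero_ne_one huw
  refine single_step u₀ _ hPu₀ hPw' huw ?_ ?_
  · have h3 := h2 u₀ hPu₀
    rw [LinearIndependent.pair_iff' hu₀] at h3
    push Not at h3
    obtain ⟨a, ha⟩ := h3
    rw [Submodule.mem_span_pair]
    exact ⟨a, 0, by rw [zero_smul, add_zero, ha]⟩
  · have h3 := h2 _ hPw'
    rw [LinearIndependent.pair_iff' hw'0] at h3
    push Not at h3
    obtain ⟨a, ha⟩ := h3
    rw [Submodule.mem_span_pair]
    exact ⟨0, a, by rw [zero_smul, zero_add, ha]⟩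

theorem build_thm [FiniteDimensional F V] (halt : ∀ v, B v v = 0)
    (hnd : ∀ u, u ≠ 0 → ∃ w, B u w ≠ 0) (z : F) (hz : z ≠ 0)
    (hxB : ∀ u w, B (x u) (x w) = B u w) (hx : ∀ u, x (x u) = z • u) : Full B x := by
  apply build B x halt hnd z hz hxB hx _ Empty Empty (fun e => e.elim) (fun e => e.elim)
    (fun e => e.elim) (fun e => e.elim) ?_ ?_ rfl
  · refine ⟨?_, ?_, ?_, ?_⟩ <;> rintro ((k | k) | k) <;> exact k.elim
  · intro j; exact j.elim

end xsys


section final
variable {F : Type*} [Field F] {V : Type*} [AddCommGroup V] [Module F V]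

theorem span_orth (B : V →ₗ[F] V →ₗ[F] F) (S T : Set V) (h : ∀ s ∈ S, ∀ t ∈ T, B s t = 0) :
    ∀ u ∈ Submodule.span F S, ∀ v ∈ Submodule.span F T, B u v = 0 := by
  intro u hu v hv
  induction hu using Submodule.span_induction with
  | mem s hs =>
    induction hv using Submodule.span_induction with
    | mem t ht => exact h s hs t ht
    | zero => simp
    | add a b _ _ ha hb => rw [map_add, ha, hb, add_zero]
    | smul c a _ ha => rw [map_smul, ha, smul_zero]
  | zero => simp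
  | add a b _ _ ha hb => rw [map_add, LinearMap.add_apply, ha, hb, add_zero]
  | smul c a _ ha => rw [map_smul, LinearMap.smul_apply, ha, smul_zero]

theorem decomp_sp [FiniteDimensional F V] (B : V →ₗ[F] V →ₗ[F] F) (x : V →ₗ[F] V)
    (halt : ∀ v, B v v = 0) (hnd : ∀ u, u ≠ 0 → ∃ w, B u w ≠ 0) (z : F) (hz : z ≠ 0)
    (hxB : ∀ u w, B (x u) (x w) = B u w) (hx : ∀ u, x (x u) = z • u)
    (a t : ℕ) (ha : 1 ≤ a) (hdim : finrank F V = 2 * (a * t)) :
    ∃ (D : Fin t → Submodule F V) (σ : Equiv.Perm (Fin t)),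
      (∀ c, finrank F (D c) = 2 * a) ∧ iSupIndep D ∧ iSup D = ⊤ ∧
      (∀ c, ∀ u ∈ D c, u ≠ 0 → ∃ w ∈ D c, B u w ≠ 0) ∧
      (∀ c c', c ≠ c' → ∀ u ∈ D c, ∀ w ∈ D c', B u w = 0) ∧
      ∀ c, (D c).map x = D (σ c) := by
  classical
  obtain ⟨P, U, _, _, eP, fP, eU, fU, hH, hU, hcard⟩ := build_thm B x halt hnd z hz hxB hx
  have hskew := skew_of_alt B halt
  have hcardI : 2 * Fintype.card P + Fintype.card U = a * t := by omega
  obtain ⟨binL, binR, binU, σ, h1, h2, h3, h4⟩ := pack a ha t (Finset.univ : Finset P)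
    (Finset.univ : Finset U)
    (by rw [Finset.card_univ, Finset.card_univ]; exact hcardI)
  obtain ⟨e, he⟩ : ∃ e : (P ⊕ P) ⊕ U → V, e = eS x eP eU := ⟨_, rfl⟩
  obtain ⟨f, hf⟩ : ∃ f : (P ⊕ P) ⊕ U → V, f = eS x fP fU := ⟨_, rfl⟩
  rw [← he, ← hf] at hH
  have hcardJ : 2 * Fintype.card ((P ⊕ P) ⊕ U) = finrank F V := by
    rw [Fintype.card_sum, Fintype.card_sum]; omega
  have hLI := hyp_LI B halt e f hH
  have hspan := hyp_span B halt e f hH hcardJ
  obtain ⟨b, hb⟩ : ∃ b : ((P ⊕ P) ⊕ U) ⊕ ((P ⊕ P) ⊕ U) → V, b = Sum.elim e f := ⟨_, rfl⟩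
  rw [← hb] at hLI hspan
  have hbin_lt : ∀ k : (P ⊕ P) ⊕ U, Sum.elim (Sum.elim binL binR) binU k < t := by
    rintro ((i | i) | j)
    · exact (h2 i (Finset.mem_univ _)).1
    · show binR i < t
      rw [(h2 i (Finset.mem_univ _)).2]
      exact (h1 _ (h2 i (Finset.mem_univ _)).1).1
    · exact (h3 j (Finset.mem_univ _)).1
  obtain ⟨binF, hbinF⟩ : ∃ binF : (P ⊕ P) ⊕ U → Fin t,
      ∀ k, (binF k : ℕ) = Sum.elim (Sum.elim binL binR) binU k :=
    ⟨fun k => ⟨_, hbin_lt k⟩, fun k => rfl⟩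
  obtain ⟨binG, hbinG⟩ : ∃ binG : ((P ⊕ P) ⊕ U) ⊕ ((P ⊕ P) ⊕ U) → Fin t,
      binG = Sum.elim binF binF := ⟨_, rfl⟩
  have hGl : ∀ k, binG (Sum.inl k) = binF k := fun k => by rw [hbinG]; rfl
  have hGr : ∀ k, binG (Sum.inr k) = binF k := fun k => by rw [hbinG]; rfl
  have hσinv : Function.Involutive (fun c : Fin t => (⟨σ c, (h1 c c.2).1⟩ : Fin t)) := by
    intro c; apply Fin.ext; exact (h1 c c.2).2
  have hσval : ∀ c : Fin t, ((hσinv.toPerm _ c : Fin t) : ℕ) = σ c := fun c => rfl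
  obtain ⟨σ', hσ'⟩ : ∃ σ' : Equiv.Perm (Fin t), σ' = hσinv.toPerm _ := ⟨_, rfl⟩
  have hσ'val : ∀ c : Fin t, ((σ' c : Fin t) : ℕ) = σ c := fun c => by rw [hσ']; rfl
  have hσ'inv : ∀ c : Fin t, σ' (σ' c) = c := fun c => by rw [hσ']; exact hσinv c
  obtain ⟨D, hD⟩ : ∃ D : Fin t → Submodule F V,
      D = fun c => Submodule.span F (b '' {κ | binG κ = c}) := ⟨_, rfl⟩
  have hDc : ∀ c, D c = Submodule.span F (b '' {κ | binG κ = c}) := fun c => by rw [hD]
  have hbl : ∀ k, b (Sum.inl k) = e k := fun k => by rw [hb]; rfl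
  have hbr : ∀ k, b (Sum.inr k) = f k := fun k => by rw [hb]; rfl
  have hmemE : ∀ k, e k ∈ D (binF k) := by
    intro k
    rw [hDc, ← hbl]
    exact Submodule.subset_span ⟨Sum.inl k, hGl k, rfl⟩
  have hmemF : ∀ k, f k ∈ D (binF k) := by
    intro k
    rw [hDc, ← hbr]
    exact Submodule.subset_span ⟨Sum.inr k, hGr k, rfl⟩
  have hDle : ∀ (c : Fin t) (W : Submodule F V),
      (∀ k, binF k = c → e k ∈ W ∧ f k ∈ W) → D c ≤ W := by
    intro c W hW
    rw [hDc, Submodule.span_le]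
    rintro _ ⟨κ, hκ, rfl⟩
    have hκ' : binG κ = c := hκ
    rcases κ with k | k
    · rw [hbl]; rw [hGl] at hκ'; exact (hW k hκ').1
    · rw [hbr]; rw [hGr] at hκ'; exact (hW k hκ').2
  -- cardinalities
  have hJc : ∀ c : Fin t, Fintype.card {k : (P ⊕ P) ⊕ U // binF k = c} = a := by
    intro c
    rw [Fintype.card_congr Equiv.subtypeSum, Fintype.card_sum,
      Fintype.card_congr Equiv.subtypeSum, Fintype.card_sum,
      Fintype.card_subtype, Fintype.card_subtype, Fintype.card_subtype]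
    have e1 : (Finset.univ.filter (fun i : P => binF (Sum.inl (Sum.inl i)) = c))
        = Finset.univ.filter (fun i => binL i = (c : ℕ)) := by
      apply Finset.filter_congr; intro i _
      rw [Fin.ext_iff, hbinF]; rfl
    have e2 : (Finset.univ.filter (fun i : P => binF (Sum.inl (Sum.inr i)) = c))
        = Finset.univ.filter (fun i => binR i = (c : ℕ)) := by
      apply Finset.filter_congr; intro i _
      rw [Fin.ext_iff, hbinF]; rfl
    have e3 : (Finset.univ.filter (fun j : U => binF (Sum.inr j) = c))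
        = Finset.univ.filter (fun j => binU j = (c : ℕ)) := by
      apply Finset.filter_congr; intro j _
      rw [Fin.ext_iff, hbinF]; rfl
    rw [e1, e2, e3]
    exact h4 c c.2
  have hGc : ∀ c : Fin t,
      Fintype.card {κ : ((P ⊕ P) ⊕ U) ⊕ ((P ⊕ P) ⊕ U) // binG κ = c} = 2 * a := by
    intro c
    rw [Fintype.card_congr Equiv.subtypeSum, Fintype.card_sum]
    have e1 : Fintype.card {k : (P ⊕ P) ⊕ U // binG (Sum.inl k) = c} = a := by
      rw [← hJc c]
      exact Fintype.card_congr (Equiv.subtypeEquivRight (fun k => by rw [hGl]))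
    have e2 : Fintype.card {k : (P ⊕ P) ⊕ U // binG (Sum.inr k) = c} = a := by
      rw [← hJc c]
      exact Fintype.card_congr (Equiv.subtypeEquivRight (fun k => by rw [hGr]))
    rw [e1, e2]; omega
  -- generator orthogonality
  have hgen : ∀ κ κ', binG κ ≠ binG κ' → B (b κ) (b κ') = 0 := by
    rintro (k | k) (l | l) hne
    · rw [hbl, hbl]; exact hH.2.2.1 k l
    · rw [hbl, hbr]
      apply hH.2.1 k l
      intro hkl; apply hne; rw [hGl, hGr, hkl]
    · rw [hbr, hbl, hskew, neg_eq_zero]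
      apply hH.2.1 l k
      intro hkl; apply hne; rw [hGl, hGr, hkl]
    · rw [hbr, hbr]; exact hH.2.2.2 k l
  have horth : ∀ c c', c ≠ c' → ∀ u ∈ D c, ∀ w ∈ D c', B u w = 0 := by
    intro c c' hcc u hu w hw
    rw [hDc] at hu hw
    refine span_orth B _ _ ?_ u hu w hw
    rintro _ ⟨κ, hκ, rfl⟩ _ ⟨κ', hκ', rfl⟩
    apply hgen
    have h5 : binG κ = c := hκ
    have h6 : binG κ' = c' := hκ'
    rw [h5, h6]; exact hcc
  have htop : iSup D = ⊤ := by
    rw [hD]
    rw [← Submodule.span_iUnion, ← Set.image_iUnion]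
    have : (⋃ c : Fin t, {κ | binG κ = c}) = Set.univ := by
      ext k; simp
    rw [this, Set.image_univ, hspan]
  -- relations between bins
  have hb1 : ∀ i, binF (Sum.inl (Sum.inr i)) = σ' (binF (Sum.inl (Sum.inl i))) := by
    intro i
    apply Fin.ext
    rw [hbinF, hσ'val, hbinF]
    exact (h2 i (Finset.mem_univ _)).2
  have hb2 : ∀ i, binF (Sum.inl (Sum.inl i)) = σ' (binF (Sum.inl (Sum.inr i))) := by
    intro i
    rw [hb1, hσ'inv]
  have hb3 : ∀ j, binF (Sum.inr j) = σ' (binF (Sum.inr j)) := by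
    intro j
    apply Fin.ext
    rw [hσ'val, hbinF]
    exact ((h3 j (Finset.mem_univ _)).2).symm
  have hle : ∀ c : Fin t, (D c).map x ≤ D (σ' c) := by
    intro c
    rw [Submodule.map_le_iff_le_comap]
    apply hDle
    intro k hk
    subst hk
    rw [Submodule.mem_comap, Submodule.mem_comap]
    rcases k with (i | i) | j
    · rw [← hb1]
      have h5 : x (e (Sum.inl (Sum.inl i))) = e (Sum.inl (Sum.inr i)) := by rw [he]; rfl
      have h6 : x (f (Sum.inl (Sum.inl i))) = f (Sum.inl (Sum.inr i)) := by rw [hf]; rfl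
      rw [h5, h6]
      exact ⟨hmemE _, hmemF _⟩
    · rw [← hb2]
      have h5 : x (e (Sum.inl (Sum.inr i))) = z • e (Sum.inl (Sum.inl i)) := by
        rw [he]; exact hx _
      have h6 : x (f (Sum.inl (Sum.inr i))) = z • f (Sum.inl (Sum.inl i)) := by
        rw [hf]; exact hx _
      rw [h5, h6]
      exact ⟨Submodule.smul_mem _ _ (hmemE _), Submodule.smul_mem _ _ (hmemF _)⟩
    · rw [← hb3]
      have h5 : e (Sum.inr j) = eU j := by rw [he]; rfl
      have h6 : f (Sum.inr j) = fU j := by rw [hf]; rfl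
      have hpair : Submodule.span F {eU j, fU j} ≤ D (binF (Sum.inr j)) := by
        rw [Submodule.span_le]
        intro w hw
        rcases Set.mem_insert_iff.mp hw with hw1 | hw2
        · rw [hw1, ← h5]; exact hmemE _
        · rw [Set.mem_singleton_iff] at hw2
          rw [hw2, ← h6]; exact hmemF _
      rw [h5, h6]
      exact ⟨hpair (hU j).1, hpair (hU j).2⟩
  refine ⟨D, σ', ?_, ?_, htop, ?_, horth, ?_⟩
  · intro c
    have himg : b '' {κ | binG κ = c}
        = Set.range (b ∘ (Subtype.val :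
          {κ // binG κ = c} → ((P ⊕ P) ⊕ U) ⊕ ((P ⊕ P) ⊕ U))) := by
      ext w; constructor
      · rintro ⟨k, hk, rfl⟩; exact ⟨⟨k, hk⟩, rfl⟩
      · rintro ⟨⟨k, hk⟩, rfl⟩; exact ⟨k, hk, rfl⟩
    rw [hDc, himg, finrank_span_eq_card (hLI.comp _ Subtype.val_injective)]
    exact hGc c
  · rw [hD]; exact indep_of_partition b hLI binG
  · intro c u hu hu0
    by_contra hcon
    push Not at hcon
    obtain ⟨w, hw⟩ := hnd u hu0
    apply hw
    have hwtop : w ∈ ⨆ i, D i := by
      have : (⨆ i, D i) = ⊤ := htop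
      rw [this]; trivial
    refine Submodule.iSup_induction D (motive := fun w => B u w = 0) hwtop ?_ ?_ ?_
    · intro c' w' hw'
      by_cases hcc : c = c'
      · subst hcc; exact hcon w' hw'
      · exact horth c c' hcc u hu w' hw'
    · simp
    · intro w1 w2 h5 h6
      rw [map_add, h5, h6, add_zero]
  · intro c
    refine le_antisymm (hle c) ?_
    have h5 := hle (σ' c)
    rw [hσ'inv] at h5
    have h7 := Submodule.map_mono (f := x) h5
    have hxx : x.comp x = z • LinearMap.id := by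
      ext w; simp [hx]
    rw [← Submodule.map_comp, hxx, Submodule.map_smul _ _ z hz, Submodule.map_id] at h7
    exact h7

end final

open Cfsg.Agent.Lib.Helper5 in
theorem main {F : Type*} [Field F] [Fintype F] (d a t : ℕ) (hat : 2 * d = a * t) (ha : 2 ≤ a)
    (hae : Even a) (ht : 2 ≤ t)
    (x : ↥(Matrix.symplecticGroup (Fin d) F))
    (hx1 : ∃ z : F, ((x ^ 2 : ↥(Matrix.symplecticGroup (Fin d) F)) :
      Matrix (Fin d ⊕ Fin d) (Fin d ⊕ Fin d) F)
        = z • (1 : Matrix (Fin d ⊕ Fin d) (Fin d ⊕ Fin d) F)) :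
    ∃ D : Fin t → Submodule F (Fin d ⊕ Fin d → F), (Cfsg.Geo.IsMDecomposition a D ∧
        (∀ j, ∀ u ∈ D j, u ≠ 0 → ∃ v ∈ D j, Cfsg.sympForm d F u v ≠ 0) ∧
          (∀ j j', j ≠ j' → ∀ u ∈ D j, ∀ v ∈ D j', Cfsg.sympForm d F u v = 0)) ∧
        ∃ σ : Equiv.Perm (Fin t), ∀ j, (D j).map (Matrix.toLin'
          (x : Matrix (Fin d ⊕ Fin d) (Fin d ⊕ Fin d) F)) = D (σ j) := by
  obtain ⟨z, hz⟩ := hx1
  obtain ⟨a', ha'⟩ := hae
  subst ha'
  have hxx : (x : Matrix (Fin d ⊕ Fin d) (Fin d ⊕ Fin d) F)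
      * (x : Matrix (Fin d ⊕ Fin d) (Fin d ⊕ Fin d) F) = z • 1 := by
    rw [← hz, pow_two]; rfl
  have hdpos : 0 < d := by
    rcases Nat.eq_zero_or_pos d with h | h
    · exfalso
      subst h
      have : 0 < (a' + a') * t := Nat.mul_pos (by omega) (by omega)
      omega
    · exact h
  have hz0 : z ≠ 0 := by
    intro h0
    have h1 := congrArg Matrix.det hxx
    have : Nonempty (Fin d ⊕ Fin d) := ⟨Sum.inl ⟨0, hdpos⟩⟩
    rw [Matrix.det_mul, h0, zero_smul, Matrix.det_zero] at h1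
    have h2 := SymplecticGroup.symplectic_det x.2
    exact (h2.mul h2).ne_zero h1
  have hX : ∀ u, Matrix.toLin' (x : Matrix (Fin d ⊕ Fin d) (Fin d ⊕ Fin d) F)
      (Matrix.toLin' (x : Matrix (Fin d ⊕ Fin d) (Fin d ⊕ Fin d) F) u) = z • u := by
    intro u
    rw [← LinearMap.comp_apply, ← Matrix.toLin'_mul, hxx]
    simp
  obtain ⟨B, hB⟩ : ∃ B : (Fin d ⊕ Fin d → F) →ₗ[F] (Fin d ⊕ Fin d → F) →ₗ[F] F,
      ∀ u w, B u w = Cfsg.sympForm d F u w :=
    ⟨LinearMap.mk₂ F (Cfsg.sympForm d F) sympForm_add_left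
      (fun c x y => by rw [sympForm_smul_left, smul_eq_mul]) sympForm_add_right
      (fun c x y => by rw [sympForm_smul_right, smul_eq_mul]), fun u w => rfl⟩
  have halt : ∀ v, B v v = 0 := fun v => by rw [hB]; exact sympForm_self d v
  have hnd : ∀ u, u ≠ 0 → ∃ w, B u w ≠ 0 := fun u hu => by
    obtain ⟨w, hw⟩ := sympForm_nondeg u hu
    exact ⟨w, by rw [hB]; exact hw⟩
  have hxB : ∀ u w, B (Matrix.toLin' (x : Matrix (Fin d ⊕ Fin d) (Fin d ⊕ Fin d) F) u)
      (Matrix.toLin' (x : Matrix (Fin d ⊕ Fin d) (Fin d ⊕ Fin d) F) w) = B u w := by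
    intro u w
    rw [hB, hB, Matrix.toLin'_apply, Matrix.toLin'_apply]
    exact sympForm_mulVec_of_mem x.2 u w
  have hfr : finrank F (Fin d ⊕ Fin d → F) = 2 * (a' * t) := by
    rw [Module.finrank_fintype_fun_eq_card, Fintype.card_sum, Fintype.card_fin]
    have : (a' + a') * t = 2 * (a' * t) := by ring
    omega
  obtain ⟨D, σ, h1, h2, h3, h4, h5, h6⟩ := decomp_sp B
    (Matrix.toLin' (x : Matrix (Fin d ⊕ Fin d) (Fin d ⊕ Fin d) F)) halt hnd z hz0 hxB hX a' t
    (by omega) hfr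
  refine ⟨D, ⟨⟨ht, by omega, fun c => by rw [h1 c]; omega, h2, h3⟩, ?_, ?_⟩, σ, h6⟩
  · intro j u hu hu0
    obtain ⟨w, hw, hw0⟩ := h4 j u hu hu0
    exact ⟨w, hw, by rw [← hB]; exact hw0⟩
  · intro j j' hjj u hu w hw
    rw [← hB]; exact h5 j j' hjj u hu w hw

end S5960aux
end Aux

/-- Involutions of PSp_n(q) and imprimitive subgroups. Here `T = PSp_n(q)`, `n = 2d ≥ 4`, `(n, q) ≠ (4, 2)`, realised through the symplectic matrices over the field `F` with `q` elements and the standard alternating form; `n = a·t` with `a` even and `t ≥ 2`, and Ω is the (nonempty) set of orthogonal decompositions of `F^n` into `t` nondegenerate subspaces of dimension `a` (unordered; counted as ordered ones divided by `t!`), whose stabilizers are the imprimitive subgroups of type Sp_a(q) ≀ S_t (maximality is not assumed); an element of `T` of prime order `r` (a symplectic matrix `x` with `x^r` scalar, `x` not scalar) fixes a point of Ω when it permutes the summands of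 some such decomposition. If the number of such decompositions is even, then every involution of `T` stabilizes one of them (the action is 2-elusive). -/
theorem result {F : Type*} [Field F] [Fintype F] {p : ℕ} [Fact p.Prime] [CharP F p] {q : ℕ} (hq : Fintype.card F = q)
    (d : ℕ) (hd : 2 ≤ d) (hT : (d, q) ≠ (2, 2))
    (a t : ℕ) (hat : 2 * d = a * t) (ha : 2 ≤ a) (hae : Even a) (ht : 2 ≤ t) (hΩ : 2 ∣ Nat.card {D : Fin t → Submodule F (Fin d ⊕ Fin d → F) // (Cfsg.Geo.IsMDecomposition a D ∧ (∀ j, ∀ u ∈ D j, u ≠ 0 → ∃ v ∈ D j, Cfsg.sympForm d F u v ≠ 0) ∧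
          (∀ j j', j ≠ j' → ∀ u ∈ D j, ∀ v ∈ D j', Cfsg.sympForm d F u v = 0))} / Nat.factorial t)
    (x : ↥(Matrix.symplecticGroup (Fin d) F))
    (hx1 : ∃ z : F, ((x ^ 2 : ↥(Matrix.symplecticGroup (Fin d) F)) : Matrix (Fin d ⊕ Fin d) (Fin d ⊕ Fin d) F) = z • (1 : Matrix (Fin d ⊕ Fin d) (Fin d ⊕ Fin d) F))
    (hx2 : ∀ z : F, (x : Matrix (Fin d ⊕ Fin d) (Fin d ⊕ Fin d) F) ≠ z • (1 : Matrix (Fin d ⊕ Fin d) (Fin d ⊕ Fin d) F)) :
    ∃ D : Fin t → Submodule F (Fin d ⊕ Fin d → F), (Cfsg.Geo.IsMDecomposition a D ∧ (∀ j, ∀ u ∈ D j, u ≠ 0 → ∃ v ∈ D j, Cfsg.sympForm d F u v ≠ 0) ∧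
          (∀ j j', j ≠ j' → ∀ u ∈ D j, ∀ v ∈ D j', Cfsg.sympForm d F u v = 0)) ∧
        ∃ σ : Equiv.Perm (Fin t), ∀ j, (D j).map (Matrix.toLin' (x : Matrix (Fin d ⊕ Fin d) (Fin d ⊕ Fin d) F)) = D (σ j) := by
  exact S5960aux.main d a t hat ha hae ht x hx1

end Cfsg.Agent.S5960
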