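import Cfsg.Statements.S5962
import Mathlib
import Cfsg.Agent.Lib.Helper5.SpMax

set_option autoImplicit false
open scoped MatrixGroups
open Cfsg

namespace Cfsg.Agent.S5962

section Aux
set_option linter.unusedSectionVars false
set_option linter.unusedVariables false
set_option linter.unusedSimpArgs false
namespace S5962aux

open Cfsg Matrix Cfsg.Agent.Lib.Helper5

section Abstract
variable {F V : Type*} [Field F] [AddCommGroup V] [Module F V]

/-- the part of `S` orthogonal to `e` and `f` -/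
def cut (B : V →ₗ[F] V →ₗ[F] F) (S : Submodule F V) (e f : V) : Submodule F V where
  carrier := {v | v ∈ S ∧ B v e = 0 ∧ B v f = 0}
  add_mem' := by
    rintro a b ⟨ha, ha1, ha2⟩ ⟨hb, hb1, hb2⟩
    refine ⟨S.add_mem ha hb, ?_, ?_⟩
    · rw [map_add, LinearMap.add_apply, ha1, hb1, add_zero]
    · rw [map_add, LinearMap.add_apply, ha2, hb2, add_zero]
  zero_mem' := ⟨S.zero_mem, by simp, by simp⟩
  smul_mem' := by
    rintro c a ⟨ha, ha1, ha2⟩
    refine ⟨S.smul_mem c ha, ?_, ?_⟩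
    · rw [map_smul, LinearMap.smul_apply, ha1, smul_zero]
    · rw [map_smul, LinearMap.smul_apply, ha2, smul_zero]

lemma cut_le (B : V →ₗ[F] V →ₗ[F] F) (S : Submodule F V) (e f : V) : cut B S e f ≤ S :=
  fun v hv => hv.1

lemma swapB {B : V →ₗ[F] V →ₗ[F] F} (hB : ∀ v, B v v = 0) (u v : V) : B u v = - B v u := by
  have h := hB (u + v)
  simp only [map_add, LinearMap.add_apply] at h
  rw [hB u, hB v, zero_add, add_zero] at h
  exact eq_neg_of_add_eq_zero_right h

lemma decomp {B : V →ₗ[F] V →ₗ[F] F} (hB : ∀ v, B v v = 0) {S : Submodule F V} {e f : V}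
    (he : e ∈ S) (hf : f ∈ S) (hef : B e f ≠ 0) {s : V} (hs : s ∈ S) :
    ∃ a b : F, s - (a • e + b • f) ∈ cut B S e f := by
  refine ⟨B s f / B e f, - (B s e / B e f),
    S.sub_mem hs (S.add_mem (S.smul_mem _ he) (S.smul_mem _ hf)), ?_, ?_⟩
  · simp only [map_sub, map_add, map_smul, LinearMap.sub_apply, LinearMap.add_apply,
      LinearMap.smul_apply, smul_eq_mul, hB e]
    rw [swapB hB f e]
    field_simp
    ring
  · simp only [map_sub, map_add, map_smul, LinearMap.sub_apply, LinearMap.add_apply,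
      LinearMap.smul_apply, smul_eq_mul, hB f]
    field_simp
    ring

lemma cut_lt {B : V →ₗ[F] V →ₗ[F] F} {S : Submodule F V} {e f : V}
    (he : e ∈ S) (hef : B e f ≠ 0) : cut B S e f < S := by
  refine lt_of_le_of_ne (cut_le B S e f) ?_
  intro h
  have : e ∈ cut B S e f := by rw [h]; exact he
  exact hef this.2.2

lemma cut_nondeg {B : V →ₗ[F] V →ₗ[F] F} (hB : ∀ v, B v v = 0) {S : Submodule F V} {e f : V}
    (he : e ∈ S) (hf : f ∈ S) (hef : B e f ≠ 0)
    (hS : ∀ v ∈ S, (∀ w ∈ S, B v w = 0) → v = 0) :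
    ∀ v ∈ cut B S e f, (∀ w ∈ cut B S e f, B v w = 0) → v = 0 := by
  intro v hv hvw
  apply hS v hv.1
  intro w hw
  obtain ⟨a, b, hab⟩ := decomp hB he hf hef hw
  have h1 := hvw _ hab
  rw [map_sub, map_add, map_smul, map_smul, hv.2.1, hv.2.2, smul_zero, smul_zero, add_zero,
    sub_zero] at h1
  exact h1

lemma cut_inv {B : V →ₗ[F] V →ₗ[F] F} {X : V →ₗ[F] V}
    (hX : ∀ u v, B (X u) (X v) = B u v) {z : F} (hXX : ∀ v, X (X v) = z • v)
    {S : Submodule F V} (hSX : ∀ v ∈ S, X v ∈ S) {e f : V}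
    (hXe : ∀ v, B v e = 0 → B v f = 0 → B v (X e) = 0)
    (hXf : ∀ v, B v e = 0 → B v f = 0 → B v (X f) = 0) :
    ∀ v ∈ cut B S e f, X v ∈ cut B S e f := by
  intro v hv
  refine ⟨hSX v hv.1, ?_, ?_⟩
  · rw [← hX (X v) e, hXX, map_smul, LinearMap.smul_apply, hXe v hv.2.1 hv.2.2, smul_zero]
  · rw [← hX (X v) f, hXX, map_smul, LinearMap.smul_apply, hXf v hv.2.1 hv.2.2, smul_zero]

lemma combine {B : V →ₗ[F] V →ₗ[F] F} (hB : ∀ v, B v v = 0) {S : Submodule F V} {e f : V}
    (he : e ∈ S) (hf : f ∈ S) (hef : B e f ≠ 0) {U' W' : Submodule F V}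
    (hsup : U' ⊔ W' = cut B S e f)
    (hU : ∀ u ∈ U', ∀ v ∈ U', B u v = 0) (hW : ∀ u ∈ W', ∀ v ∈ W', B u v = 0) :
    (Submodule.span F {e} ⊔ U') ⊔ (Submodule.span F {f} ⊔ W') = S ∧
    (∀ u ∈ Submodule.span F {e} ⊔ U', ∀ v ∈ Submodule.span F {e} ⊔ U', B u v = 0) ∧
    (∀ u ∈ Submodule.span F {f} ⊔ W', ∀ v ∈ Submodule.span F {f} ⊔ W', B u v = 0) := by
  have hU'c : U' ≤ cut B S e f := by rw [← hsup]; exact le_sup_left
  have hW'c : W' ≤ cut B S e f := by rw [← hsup]; exact le_sup_right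
  refine ⟨?_, ?_, ?_⟩
  · apply le_antisymm
    · refine sup_le (sup_le ?_ (hU'c.trans (cut_le _ _ _ _)))
        (sup_le ?_ (hW'c.trans (cut_le _ _ _ _)))
      · rw [Submodule.span_singleton_le_iff_mem]; exact he
      · rw [Submodule.span_singleton_le_iff_mem]; exact hf
    · intro s hs
      obtain ⟨a, b, hab⟩ := decomp hB he hf hef hs
      rw [← hsup] at hab
      obtain ⟨u', hu', w', hw', huw⟩ := Submodule.mem_sup.mp hab
      have hs' : s = (a • e + u') + (b • f + w') := by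
        have h : u' + w' + (a • e + b • f) = s := by rw [huw]; abel
        rw [← h]; abel
      rw [hs']
      exact Submodule.add_mem_sup
        (Submodule.add_mem_sup (Submodule.smul_mem _ _ (Submodule.mem_span_singleton_self e)) hu')
        (Submodule.add_mem_sup (Submodule.smul_mem _ _ (Submodule.mem_span_singleton_self f)) hw')
  · intro u hu v hv
    obtain ⟨u1, hu1, u2, hu2, rfl⟩ := Submodule.mem_sup.mp hu
    obtain ⟨v1, hv1, v2, hv2, rfl⟩ := Submodule.mem_sup.mp hv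
    obtain ⟨a, rfl⟩ := Submodule.mem_span_singleton.mp hu1
    obtain ⟨b, rfl⟩ := Submodule.mem_span_singleton.mp hv1
    have h1 : B u2 e = 0 := (hU'c hu2).2.1
    have h2 : B v2 e = 0 := (hU'c hv2).2.1
    have h3 : B e v2 = 0 := by rw [swapB hB, h2, neg_zero]
    simp only [map_add, map_smul, LinearMap.add_apply, LinearMap.smul_apply, smul_eq_mul, hB e,
      h1, h3, hU u2 hu2 v2 hv2, mul_zero, add_zero]
  · intro u hu v hv
    obtain ⟨u1, hu1, u2, hu2, rfl⟩ := Submodule.mem_sup.mp hu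
    obtain ⟨v1, hv1, v2, hv2, rfl⟩ := Submodule.mem_sup.mp hv
    obtain ⟨a, rfl⟩ := Submodule.mem_span_singleton.mp hu1
    obtain ⟨b, rfl⟩ := Submodule.mem_span_singleton.mp hv1
    have h1 : B u2 f = 0 := (hW'c hu2).2.2
    have h2 : B v2 f = 0 := (hW'c hv2).2.2
    have h3 : B f v2 = 0 := by rw [swapB hB, h2, neg_zero]
    simp only [map_add, map_smul, LinearMap.add_apply, LinearMap.smul_apply, smul_eq_mul, hB f,
      h1, h3, hW u2 hu2 v2 hv2, mul_zero, add_zero]

theorem fixed_case [FiniteDimensional F V] (h2 : (2:F) ≠ 0) {B : V →ₗ[F] V →ₗ[F] F}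
    (hB : ∀ v, B v v = 0)
    {X : V →ₗ[F] V} (hX : ∀ u v, B (X u) (X v) = B u v) (hXX : ∀ v, X (X v) = v) :
    ∀ n : ℕ, ∀ S : Submodule F V, Module.finrank F S = n → (∀ v ∈ S, X v ∈ S) →
      (∀ v ∈ S, (∀ w ∈ S, B v w = 0) → v = 0) →
      ∃ U W : Submodule F V, U ⊔ W = S ∧ (∀ u ∈ U, ∀ v ∈ U, B u v = 0) ∧
        (∀ u ∈ W, ∀ v ∈ W, B u v = 0) ∧ (∀ u ∈ U, X u ∈ U) ∧ (∀ w ∈ W, X w ∈ W) := by
  intro n
  induction n using Nat.strong_induction_on with
  | _ n ih =>
    intro S hn hSX hS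
    by_cases hbot : S = ⊥
    · exact ⟨⊥, ⊥, by rw [hbot, sup_bot_eq], by simp, by simp, by simp, by simp⟩
    · obtain ⟨v, hvS, hv0⟩ := Submodule.exists_mem_ne_zero_of_ne_bot hbot
      obtain ⟨e, heS, he0, ε, hε, hXe⟩ : ∃ e ∈ S, e ≠ 0 ∧ ∃ ε : F, ε * ε = 1 ∧ X e = ε • e := by
        by_cases h : v + X v = 0
        · refine ⟨v - X v, S.sub_mem hvS (hSX v hvS), ?_, -1, by ring, ?_⟩
          · intro h'
            apply hv0
            have : (2:F) • v = 0 := by
              rw [two_smul]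
              calc v + v = (v + X v) + (v - X v) := by abel
                _ = 0 := by rw [h, h', add_zero]
            exact (smul_eq_zero.mp this).resolve_left h2
          · rw [map_sub, hXX, neg_one_smul, neg_sub]
        · exact ⟨v + X v, S.add_mem hvS (hSX v hvS), h, 1, by ring,
            by rw [map_add, hXX, one_smul, add_comm]⟩
      obtain ⟨w, hwS, hw⟩ : ∃ w ∈ S, B e w ≠ 0 := by
        by_contra hcon
        push Not at hcon
        exact he0 (hS e heS hcon)
      obtain ⟨f, hf⟩ : ∃ f, f = w + ε • X w := ⟨_, rfl⟩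
      have hfS : f ∈ S := by rw [hf]; exact S.add_mem hwS (S.smul_mem _ (hSX w hwS))
      have hXf : X f = ε • f := by
        rw [hf, map_add, map_smul, hXX, smul_add, smul_smul, hε, one_smul, add_comm]
      have hef : B e f ≠ 0 := by
        have h1 : B e (X w) = ε * B e w := by
          rw [← hX e (X w), hXX, hXe, map_smul, LinearMap.smul_apply, smul_eq_mul]
        rw [hf, map_add, map_smul, h1, smul_eq_mul, ← mul_assoc, hε, one_mul, ← two_mul]
        exact mul_ne_zero h2 hw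
      have hlt := cut_lt (B := B) (S := S) (f := f) heS hef
      have hinv := cut_inv (S := S) (e := e) (f := f) hX (z := 1)
        (fun v => by rw [hXX, one_smul]) hSX
        (fun v h1 _ => by rw [hXe, map_smul, h1, smul_zero])
        (fun v _ h2' => by rw [hXf, map_smul, h2', smul_zero])
      have hnd := cut_nondeg hB heS hfS hef hS
      obtain ⟨U', W', hsup, hU', hW', hXU', hXW'⟩ := ih (Module.finrank F (cut B S e f))
        (by rw [← hn]; exact Submodule.finrank_lt_finrank_of_lt hlt) (cut B S e f) rfl hinv hnd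
      obtain ⟨h1, h2', h3⟩ := combine hB heS hfS hef hsup hU' hW'
      refine ⟨_, _, h1, h2', h3, ?_, ?_⟩
      · intro u hu
        obtain ⟨u1, hu1, u2, hu2, rfl⟩ := Submodule.mem_sup.mp hu
        obtain ⟨a, rfl⟩ := Submodule.mem_span_singleton.mp hu1
        rw [map_add, map_smul, hXe]
        exact Submodule.add_mem_sup (Submodule.smul_mem _ _ (Submodule.smul_mem _ _
          (Submodule.mem_span_singleton_self e))) (hXU' u2 hu2)
      · intro u hu
        obtain ⟨u1, hu1, u2, hu2, rfl⟩ := Submodule.mem_sup.mp hu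
        obtain ⟨a, rfl⟩ := Submodule.mem_span_singleton.mp hu1
        rw [map_add, map_smul, hXf]
        exact Submodule.add_mem_sup (Submodule.smul_mem _ _ (Submodule.smul_mem _ _
          (Submodule.mem_span_singleton_self f))) (hXW' u2 hu2)

theorem swap_case [FiniteDimensional F V] (h2 : (2:F) ≠ 0) {B : V →ₗ[F] V →ₗ[F] F}
    (hB : ∀ v, B v v = 0)
    {X : V →ₗ[F] V} (hX : ∀ u v, B (X u) (X v) = B u v) (hXX : ∀ v, X (X v) = -v) :
    ∀ n : ℕ, ∀ S : Submodule F V, Module.finrank F S = n → (∀ v ∈ S, X v ∈ S) →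
      (∀ v ∈ S, (∀ w ∈ S, B v w = 0) → v = 0) →
      ∃ U W : Submodule F V, U ⊔ W = S ∧ (∀ u ∈ U, ∀ v ∈ U, B u v = 0) ∧
        (∀ u ∈ W, ∀ v ∈ W, B u v = 0) ∧ (∀ u ∈ U, X u ∈ W) ∧ (∀ w ∈ W, X w ∈ U) := by
  intro n
  induction n using Nat.strong_induction_on with
  | _ n ih =>
    intro S hn hSX hS
    by_cases hbot : S = ⊥
    · exact ⟨⊥, ⊥, by rw [hbot, sup_bot_eq], by simp, by simp, by simp, by simp⟩
    · obtain ⟨v, hvS, hv0⟩ := Submodule.exists_mem_ne_zero_of_ne_bot hbot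
      obtain ⟨e, heS, he⟩ : ∃ e ∈ S, B e (X e) ≠ 0 := by
        by_contra hcon
        push Not at hcon
        apply hv0
        apply hS v hvS
        intro w hwS
        have key : ∀ w' ∈ S, B v (X w') = 0 := by
          intro w' hw'
          have h1 := hcon (v + w') (S.add_mem hvS hw')
          simp only [map_add, LinearMap.add_apply] at h1
          rw [hcon v hvS, hcon w' hw', zero_add, add_zero] at h1
          have h3 : B w' (X v) = B v (X w') := by
            rw [← hX w' (X v), hXX, map_neg, swapB hB (X w') v, neg_neg]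
          rw [h3, ← two_mul] at h1
          exact (mul_eq_zero.mp h1).resolve_left h2
        have := key (-(X w)) (S.neg_mem (hSX w hwS))
        rwa [map_neg, hXX, neg_neg] at this
      obtain ⟨f, hf⟩ : ∃ f, f = X e := ⟨_, rfl⟩
      have hfS : f ∈ S := by rw [hf]; exact hSX e heS
      have hXf : X f = -e := by rw [hf, hXX]
      have hef : B e f ≠ 0 := by rw [hf]; exact he
      have hlt := cut_lt (B := B) (S := S) (f := f) heS hef
      have hinv := cut_inv (S := S) (e := e) (f := f) hX (z := -1)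
        (fun v => by rw [hXX, neg_one_smul]) hSX
        (fun v _ h2' => by rw [← hf]; exact h2')
        (fun v h1 _ => by rw [hXf, map_neg, h1, neg_zero])
      have hnd := cut_nondeg hB heS hfS hef hS
      obtain ⟨U', W', hsup, hU', hW', hXU', hXW'⟩ := ih (Module.finrank F (cut B S e f))
        (by rw [← hn]; exact Submodule.finrank_lt_finrank_of_lt hlt) (cut B S e f) rfl hinv hnd
      obtain ⟨h1, h2', h3⟩ := combine hB heS hfS hef hsup hU' hW'
      refine ⟨_, _, h1, h2', h3, ?_, ?_⟩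
      · intro u hu
        obtain ⟨u1, hu1, u2, hu2, rfl⟩ := Submodule.mem_sup.mp hu
        obtain ⟨a, rfl⟩ := Submodule.mem_span_singleton.mp hu1
        rw [map_add, map_smul, ← hf]
        exact Submodule.add_mem_sup (Submodule.smul_mem _ _
          (Submodule.mem_span_singleton_self f)) (hXU' u2 hu2)
      · intro u hu
        obtain ⟨u1, hu1, u2, hu2, rfl⟩ := Submodule.mem_sup.mp hu
        obtain ⟨a, rfl⟩ := Submodule.mem_span_singleton.mp hu1
        rw [map_add, map_smul, hXf]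
        exact Submodule.add_mem_sup (Submodule.smul_mem _ _ (Submodule.neg_mem _
          (Submodule.mem_span_singleton_self e))) (hXW' u2 hu2)

end Abstract

theorem main {F : Type*} [Field F] [Fintype F] (d : ℕ) (hd : 2 ≤ d) (hodd : Odd (Fintype.card F))
    (x : ↥(Matrix.symplecticGroup (Fin d) F))
    (hx1 : ∃ z : F, ((x ^ 2 : ↥(Matrix.symplecticGroup (Fin d) F)) : Matrix (Fin d ⊕ Fin d) (Fin d ⊕ Fin d) F) = z • (1 : Matrix (Fin d ⊕ Fin d) (Fin d ⊕ Fin d) F)) :
    ∃ U W : Submodule F (Fin d ⊕ Fin d → F), IsCompl U W ∧ (∀ u ∈ U, ∀ v ∈ U, Cfsg.sympForm d F u v = 0) ∧ (∀ u ∈ W, ∀ v ∈ W, Cfsg.sympForm d F u v = 0) ∧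
        ((U.map (Matrix.toLin' (x : Matrix (Fin d ⊕ Fin d) (Fin d ⊕ Fin d) F)) = U ∧ W.map (Matrix.toLin' (x : Matrix (Fin d ⊕ Fin d) (Fin d ⊕ Fin d) F)) = W) ∨
         (U.map (Matrix.toLin' (x : Matrix (Fin d ⊕ Fin d) (Fin d ⊕ Fin d) F)) = W ∧ W.map (Matrix.toLin' (x : Matrix (Fin d ⊕ Fin d) (Fin d ⊕ Fin d) F)) = U)) := by
  classical
  obtain ⟨z, hz⟩ := hx1
  have h2 : (2:F) ≠ 0 := by
    intro h
    have h1 : ringChar F = 2 :=
      CharP.ringChar_of_prime_eq_zero Nat.prime_two (by exact_mod_cast h)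
    have h2 := FiniteField.even_card_of_char_two h1
    rcases hodd with ⟨k, hk⟩
    omega
  obtain ⟨A, hA⟩ : ∃ A : Matrix (Fin d ⊕ Fin d) (Fin d ⊕ Fin d) F, A = (x : Matrix _ _ F) :=
    ⟨_, rfl⟩
  have hAmem : A ∈ Matrix.symplecticGroup (Fin d) F := by rw [hA]; exact x.2
  have hAA : A * A = z • 1 := by
    rw [hA, ← hz, sq]; rfl
  rw [← hA]
  have hB : ∀ v, SpMax.Bform d F v v = 0 := fun v => sympForm_self d v
  have hX : ∀ u v, SpMax.Bform d F (Matrix.toLin' A u) (Matrix.toLin' A v) = SpMax.Bform d F u v :=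
    fun u v => by
      rw [Matrix.toLin'_apply, Matrix.toLin'_apply]
      exact sympForm_mulVec_of_mem hAmem u v
  have hXXz : ∀ v, Matrix.toLin' A (Matrix.toLin' A v) = z • v := fun v => by
    rw [Matrix.toLin'_apply, Matrix.toLin'_apply, Matrix.mulVec_mulVec, hAA, Matrix.smul_mulVec,
      Matrix.one_mulVec]
  have hnd : ∀ v ∈ (⊤ : Submodule F (Fin d ⊕ Fin d → F)),
      (∀ w ∈ (⊤ : Submodule F (Fin d ⊕ Fin d → F)), SpMax.Bform d F v w = 0) → v = 0 := by
    intro v _ hv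
    by_contra hv0
    obtain ⟨a, ha⟩ := sympForm_nondeg v hv0
    exact ha (hv a Submodule.mem_top)
  have hzz : z * z = 1 := by
    obtain ⟨u, hu⟩ : ∃ u : Fin d ⊕ Fin d → F, u ≠ 0 :=
      ⟨Pi.single (Sum.inl ⟨0, by omega⟩) 1, by
        intro h
        have := congrFun h (Sum.inl ⟨0, by omega⟩)
        simp at this⟩
    obtain ⟨a, ha⟩ := sympForm_nondeg u hu
    have h1 : SpMax.Bform d F (Matrix.toLin' A (Matrix.toLin' A u))
        (Matrix.toLin' A (Matrix.toLin' A a)) = SpMax.Bform d F u a := by rw [hX, hX]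
    rw [hXXz, hXXz] at h1
    simp only [map_smul, LinearMap.smul_apply, smul_eq_mul] at h1
    rw [← mul_assoc] at h1
    have h3 : (z * z - 1) * SpMax.Bform d F u a = 0 := by rw [sub_mul, one_mul, h1, sub_self]
    rcases mul_eq_zero.mp h3 with h | h
    · exact sub_eq_zero.mp h
    · exact absurd h ha
  have hfin : ∀ (U W : Submodule F (Fin d ⊕ Fin d → F)), U ⊔ W = ⊤ →
      (∀ u ∈ U, ∀ v ∈ U, SpMax.Bform d F u v = 0) → (∀ u ∈ W, ∀ v ∈ W, SpMax.Bform d F u v = 0) →
      IsCompl U W := by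
    intro U W hsup hU hW
    refine ⟨?_, codisjoint_iff.mpr hsup⟩
    rw [Submodule.disjoint_def]
    intro v hvU hvW
    apply hnd v Submodule.mem_top
    intro w _
    have hw : w ∈ U ⊔ W := by rw [hsup]; exact Submodule.mem_top
    obtain ⟨u, hu, w', hw', rfl⟩ := Submodule.mem_sup.mp hw
    rw [map_add, hU v hvU u hu, hW v hvW w' hw', add_zero]
  rcases mul_self_eq_one_iff.mp hzz with rfl | rfl
  · obtain ⟨U, W, hsup, hU, hW, hXU, hXW⟩ := fixed_case h2 hB hX
      (fun v => by rw [hXXz, one_smul]) _ ⊤ rfl (fun v _ => Submodule.mem_top) hnd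
    refine ⟨U, W, hfin U W hsup hU hW, hU, hW, Or.inl ⟨?_, ?_⟩⟩
    · apply le_antisymm
      · rintro _ ⟨u, hu, rfl⟩; exact hXU u hu
      · intro u hu
        exact ⟨Matrix.toLin' A u, hXU u hu, by rw [hXXz, one_smul]⟩
    · apply le_antisymm
      · rintro _ ⟨u, hu, rfl⟩; exact hXW u hu
      · intro u hu
        exact ⟨Matrix.toLin' A u, hXW u hu, by rw [hXXz, one_smul]⟩
  · obtain ⟨U, W, hsup, hU, hW, hXU, hXW⟩ := swap_case h2 hB hX
      (fun v => by rw [hXXz, neg_one_smul]) _ ⊤ rfl (fun v _ => Submodule.mem_top) hnd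
    refine ⟨U, W, hfin U W hsup hU hW, hU, hW, Or.inr ⟨?_, ?_⟩⟩
    · apply le_antisymm
      · rintro _ ⟨u, hu, rfl⟩; exact hXU u hu
      · intro w hw
        refine ⟨-(Matrix.toLin' A w), U.neg_mem (hXW w hw), ?_⟩
        rw [map_neg, hXXz, neg_one_smul, neg_neg]
    · apply le_antisymm
      · rintro _ ⟨u, hu, rfl⟩; exact hXW u hu
      · intro w hw
        refine ⟨-(Matrix.toLin' A w), W.neg_mem (hXU w hw), ?_⟩
        rw [map_neg, hXXz, neg_one_smul, neg_neg]

end S5962aux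
end Aux

/-- Involutions of PSp_n(q), q odd, and the subgroups GL_{n/2}(q).2. Here `T = PSp_n(q)`, `n = 2d ≥ 4`, `q` odd, realised through the symplectic matrices over the field `F` with `q` elements; Ω is the set of unordered pairs `{U, W}` of complementary totally isotropic `d`-spaces (`F^n = U ⊕ W`), whose stabilizers are the subgroups of type GL_d(q).2 (maximal except in some small cases; maximality is not assumed); an element of `T` of prime order `r` (a symplectic matrix `x` with `x^r` scalar, `x` not scalar) fixes such a pair when it fixes or interchanges `U` and `W`. If the number of such pairs is even, every involution of `T` fixes one of them (the action is 2-elusive). -/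
theorem result {F : Type*} [Field F] [Fintype F] {p : ℕ} [Fact p.Prime] [CharP F p] {q : ℕ} (hq : Fintype.card F = q)
    (d : ℕ) (hd : 2 ≤ d) (hT : (d, q) ≠ (2, 2)) (hodd : Odd q)
    (hΩ : 2 ∣ Nat.card {P : Submodule F (Fin d ⊕ Fin d → F) × Submodule F (Fin d ⊕ Fin d → F) // IsCompl P.1 P.2 ∧ (∀ u ∈ P.1, ∀ v ∈ P.1, Cfsg.sympForm d F u v = 0) ∧ (∀ u ∈ P.2, ∀ v ∈ P.2, Cfsg.sympForm d F u v = 0)} / 2)
    (x : ↥(Matrix.symplecticGroup (Fin d) F))
    (hx1 : ∃ z : F, ((x ^ 2 : ↥(Matrix.symplecticGroup (Fin d) F)) : Matrix (Fin d ⊕ Fin d) (Fin d ⊕ Fin d) F) = z • (1 : Matrix (Fin d ⊕ Fin d) (Fin d ⊕ Fin d) F))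
    (hx2 : ∀ z : F, (x : Matrix (Fin d ⊕ Fin d) (Fin d ⊕ Fin d) F) ≠ z • (1 : Matrix (Fin d ⊕ Fin d) (Fin d ⊕ Fin d) F)) :
    ∃ U W : Submodule F (Fin d ⊕ Fin d → F), IsCompl U W ∧ (∀ u ∈ U, ∀ v ∈ U, Cfsg.sympForm d F u v = 0) ∧ (∀ u ∈ W, ∀ v ∈ W, Cfsg.sympForm d F u v = 0) ∧
        ((U.map (Matrix.toLin' (x : Matrix (Fin d ⊕ Fin d) (Fin d ⊕ Fin d) F)) = U ∧ W.map (Matrix.toLin' (x : Matrix (Fin d ⊕ Fin d) (Fin d ⊕ Fin d) F)) = W) ∨
         (U.map (Matrix.toLin' (x : Matrix (Fin d ⊕ Fin d) (Fin d ⊕ Fin d) F)) = W ∧ W.map (Matrix.toLin' (x : Matrix (Fin d ⊕ Fin d) (Fin d ⊕ Fin d) F)) = U)) := by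
  exact S5962aux.main d hd (by rw [hq]; exact hodd) x hx1

end Cfsg.Agent.S5962
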