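import Cfsg.Statements.S5963
-- import your own Cfsg.Agent.* helpers here
import Cfsg.Agent.Lib.Helper15.PolarPairs

set_option autoImplicit false
open scoped MatrixGroups
open Cfsg

namespace Cfsg.Agent.S5963

open Module Polynomial Cfsg.Agent.Lib.Helper15.PolarPairs
open scoped Matrix

universe u

section

variable {F : Type u} [Field F] [Fintype F]

theorem main {p q : ℕ} [hp : Fact p.Prime] [CharP F p] (hF : Fintype.card F = q) (d : ℕ)
    (hd : 2 ≤ d) (hodd : Odd q) (r : ℕ) [Fact r.Prime] (hr2 : r ≠ 2) (hrp : r ≠ p)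
    (hΩ : r ∣ Nat.card {P : Submodule F (Fin d ⊕ Fin d → F) × Submodule F (Fin d ⊕ Fin d → F) //
      IsCompl P.1 P.2 ∧ (∀ u ∈ P.1, ∀ v ∈ P.1, Cfsg.sympForm d F u v = 0) ∧
        (∀ u ∈ P.2, ∀ v ∈ P.2, Cfsg.sympForm d F u v = 0)} / 2) :
    ∃ x : ↥(Matrix.symplecticGroup (Fin d) F),
      (∃ z : F, ((x ^ r : ↥(Matrix.symplecticGroup (Fin d) F)) :
        Matrix (Fin d ⊕ Fin d) (Fin d ⊕ Fin d) F) =
          z • (1 : Matrix (Fin d ⊕ Fin d) (Fin d ⊕ Fin d) F)) ∧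
      (∀ z : F, (x : Matrix (Fin d ⊕ Fin d) (Fin d ⊕ Fin d) F) ≠
        z • (1 : Matrix (Fin d ⊕ Fin d) (Fin d ⊕ Fin d) F)) ∧
      ¬ (∃ U W : Submodule F (Fin d ⊕ Fin d → F), IsCompl U W ∧
        (∀ u ∈ U, ∀ v ∈ U, Cfsg.sympForm d F u v = 0) ∧
        (∀ u ∈ W, ∀ v ∈ W, Cfsg.sympForm d F u v = 0) ∧
        ((U.map (Matrix.toLin' (x : Matrix (Fin d ⊕ Fin d) (Fin d ⊕ Fin d) F)) = U ∧
          W.map (Matrix.toLin' (x : Matrix (Fin d ⊕ Fin d) (Fin d ⊕ Fin d) F)) = W) ∨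
         (U.map (Matrix.toLin' (x : Matrix (Fin d ⊕ Fin d) (Fin d ⊕ Fin d) F)) = W ∧
          W.map (Matrix.toLin' (x : Matrix (Fin d ⊕ Fin d) (Fin d ⊕ Fin d) F)) = U))) := by
  classical
  have hr := (Fact.out : r.Prime)
  obtain ⟨k, -, hk⟩ := FiniteField.card F p
  have hqr : ¬ r ∣ Fintype.card F := by
    rw [hk]
    intro hd'
    exact hrp ((Nat.prime_dvd_prime_iff_eq hr hp.out).1 (hr.dvd_of_dvd_pow hd'))
  have hrF : (r : F) ≠ 0 := by
    rw [Ne, CharP.cast_eq_zero_iff F p]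
    intro hd'
    exact hrp ((Nat.prime_dvd_prime_iff_eq hp.out hr).1 hd').symm
  have h2N := even_card_pairs (F := F) (d := d) (by omega) (by rw [hF]; exact hodd)
  have hrN : r ∣ Nat.card {P : Submodule F (Fin d ⊕ Fin d → F) ×
      Submodule F (Fin d ⊕ Fin d → F) // IsCompl P.1 P.2 ∧
      (∀ u ∈ P.1, ∀ v ∈ P.1, Cfsg.sympForm d F u v = 0) ∧
      (∀ u ∈ P.2, ∀ v ∈ P.2, Cfsg.sympForm d F u v = 0)} := by
    rw [← Nat.div_mul_cancel h2N]
    exact Dvd.dvd.mul_right hΩ 2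
  obtain ⟨i, hi, hdi⟩ := exists_dvd_of_dvd_pairs r hr hqr hrN
  rw [hF] at hdi
  obtain ⟨B, hB, hBr, h, m, hirr, hcop, hcp⟩ :=
    exists_simple_factor_matrix hF d r hr hr2 hrp i hi hdi
  have hB1 : B ≠ 1 := by
    intro h1
    rw [h1, Matrix.charpoly_one] at hcp
    have h2 : h ∣ (X - 1 : F[X]) ^ Fintype.card (Fin d ⊕ Fin d) := ⟨_, hcp⟩
    have h3 := hirr.prime.dvd_of_dvd_pow h2
    exact hirr.not_isUnit (hcop.symm.isUnit_of_dvd' (dvd_refl _) h3)
  -- some polar pair exists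
  have hne : Nonempty {P : Submodule F (Fin d ⊕ Fin d → F) ×
      Submodule F (Fin d ⊕ Fin d → F) // IsCompl P.1 P.2 ∧
      (∀ u ∈ P.1, ∀ v ∈ P.1, Cfsg.sympForm d F u v = 0) ∧
      (∀ u ∈ P.2, ∀ v ∈ P.2, Cfsg.sympForm d F u v = 0)} := by
    have h1 := card_pairs_mul (F := F) (d := d)
    have h2 : Nat.card (Matrix.symplecticGroup (Fin d) F) ≠ 0 := Nat.card_pos.ne'
    rw [← h1] at h2
    have h3 := left_ne_zero_of_mul h2
    exact (Nat.card_pos_iff.1 (Nat.pos_of_ne_zero h3)).1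
  obtain ⟨⟨⟨U₀, W₀⟩, hP₀⟩⟩ := hne
  refine ⟨⟨B, hB⟩, ⟨1, ?_⟩, ?_, ?_⟩
  · rw [one_smul, SubmonoidClass.coe_pow]
    exact hBr
  · intro z hz
    apply hB1
    have hz' : B = z • (1 : Matrix (Fin d ⊕ Fin d) (Fin d ⊕ Fin d) F) := hz
    have hmap : ∀ U : Submodule F (Fin d ⊕ Fin d → F), U.map (Matrix.toLin' B) ≤ U := by
      rintro U _ ⟨u, hu, rfl⟩
      rw [hz', Matrix.toLin'_apply, Matrix.smul_mulVec, Matrix.one_mulVec]
      exact U.smul_mem z hu
    exact eq_one_of_stabilises B hB r hrF hBr h hirr m hcp U₀ W₀ hP₀ (hmap U₀) (hmap W₀)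
  · rintro ⟨U, W, hc, hU, hW, hfix⟩
    have hP : IsPolarPair U W := ⟨hc, hU, hW⟩
    have hBx : ((⟨B, hB⟩ : ↥(Matrix.symplecticGroup (Fin d) F)) :
        Matrix (Fin d ⊕ Fin d) (Fin d ⊕ Fin d) F) = B := rfl
    rw [hBx] at hfix
    rcases hfix with ⟨h1, h2⟩ | ⟨h1, h2⟩
    · exact hB1 (eq_one_of_stabilises B hB r hrF hBr h hirr m hcp U W hP (le_of_eq h1)
        (le_of_eq h2))
    · obtain ⟨T, hT⟩ : ∃ T : End F (Fin d ⊕ Fin d → F), T = Matrix.toLin' B := ⟨_, rfl⟩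
      rw [← hT] at h1 h2
      have hTr : T ^ r = 1 := by
        rw [hT, ← Matrix.toLin'_pow, hBr, Matrix.toLin'_one]
        rfl
      have hT2 : ∀ n : ℕ, U.map (T ^ (2 * n)) = U := by
        intro n
        induction n with
        | zero =>
          rw [mul_zero, pow_zero]
          exact Submodule.map_id U
        | succ n ih =>
          have e : 2 * (n + 1) = 2 * n + 1 + 1 := by ring
          rw [e, pow_succ', pow_succ', Module.End.mul_eq_comp, Module.End.mul_eq_comp,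
            Submodule.map_comp, Submodule.map_comp, ih, h1, h2]
      obtain ⟨s, hs⟩ := hr.odd_of_ne_two hr2
      have h3 : U.map (T ^ r) = W := by
        rw [hs, pow_succ', Module.End.mul_eq_comp, Submodule.map_comp, hT2 s, h1]
      rw [hTr] at h3
      have h4 : U = W := by
        rw [← h3]
        exact (Submodule.map_id U).symm
      rw [← h4] at hc
      have h5 : U = ⊥ := by
        have := hc.inf_eq_bot
        rwa [inf_idem] at this
      have h6 : U = ⊤ := by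
        have := hc.sup_eq_top
        rwa [sup_idem] at this
      rw [h5] at h6
      have hd0 : 0 < d := by omega
      have : Nontrivial (Fin d ⊕ Fin d → F) := by
        have : Nonempty (Fin d ⊕ Fin d) := ⟨Sum.inl ⟨0, hd0⟩⟩
        infer_instance
      exact bot_ne_top h6

end

/-- Derangements of odd prime order of PSp_n(q), q odd, on pairs of complementary totally isotropic subspaces. Here `T = PSp_n(q)`, `n = 2d ≥ 4`, `q` odd, realised through the symplectic matrices over the field `F` with `q` elements; Ω is the set of unordered pairs `{U, W}` of complementary totally isotropic `d`-spaces (`F^n = U ⊕ W`), whose stabilizers are the subgroups of type GL_d(q).2 (maximal except in some small cases; maximality is not assumed); an element of `T` of prime order `r` (a symplectic matrix `x` with `x^r` scalar, `x` not scalar) fixes such a pair when it fixes or interchanges `U` and `W`. For every odd prime `r ≠ p`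 dividing the number of such pairs, some element of `T` of order `r` fixes no such pair (the action is never `r`-elusive for odd `r ≠ p`). -/
theorem result {F : Type*} [Field F] [Fintype F] {p : ℕ} [Fact p.Prime] [CharP F p] {q : ℕ} (hq : Fintype.card F = q)
    (d : ℕ) (hd : 2 ≤ d) (hT : (d, q) ≠ (2, 2)) (hodd : Odd q)
    (r : ℕ) [Fact r.Prime] (hr2 : r ≠ 2) (hrp : r ≠ p) (hΩ : r ∣ Nat.card {P : Submodule F (Fin d ⊕ Fin d → F) × Submodule F (Fin d ⊕ Fin d → F) // IsCompl P.1 P.2 ∧ (∀ u ∈ P.1, ∀ v ∈ P.1, Cfsg.sympForm d F u v = 0) ∧ (∀ u ∈ P.2, ∀ v ∈ P.2, Cfsg.sympForm d F u v = 0)} / 2) :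
    ∃ x : ↥(Matrix.symplecticGroup (Fin d) F),
      (∃ z : F, ((x ^ r : ↥(Matrix.symplecticGroup (Fin d) F)) : Matrix (Fin d ⊕ Fin d) (Fin d ⊕ Fin d) F) = z • (1 : Matrix (Fin d ⊕ Fin d) (Fin d ⊕ Fin d) F)) ∧
      (∀ z : F, (x : Matrix (Fin d ⊕ Fin d) (Fin d ⊕ Fin d) F) ≠ z • (1 : Matrix (Fin d ⊕ Fin d) (Fin d ⊕ Fin d) F)) ∧
      ¬ (∃ U W : Submodule F (Fin d ⊕ Fin d → F), IsCompl U W ∧ (∀ u ∈ U, ∀ v ∈ U, Cfsg.sympForm d F u v = 0) ∧ (∀ u ∈ W, ∀ v ∈ W, Cfsg.sympForm d F u v = 0) ∧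
        ((U.map (Matrix.toLin' (x : Matrix (Fin d ⊕ Fin d) (Fin d ⊕ Fin d) F)) = U ∧ W.map (Matrix.toLin' (x : Matrix (Fin d ⊕ Fin d) (Fin d ⊕ Fin d) F)) = W) ∨
         (U.map (Matrix.toLin' (x : Matrix (Fin d ⊕ Fin d) (Fin d ⊕ Fin d) F)) = W ∧ W.map (Matrix.toLin' (x : Matrix (Fin d ⊕ Fin d) (Fin d ⊕ Fin d) F)) = U))) := by
  exact main hq d hd hodd r hr2 hrp hΩ

end Cfsg.Agent.S5963
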