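import Cfsg.Statements.S5964
import Cfsg.Agent.Lib.Helper9.SubfieldC
import Cfsg.Agent.Lib.Helper9.SubfieldD
import Cfsg.Agent.Lib.Helper9.SubfieldF
import Cfsg.Agent.Lib.Helper9.SubfieldG
import Cfsg.Agent.Lib.Helper9.SubfieldH

set_option autoImplicit false
open scoped MatrixGroups
open Cfsg

namespace Cfsg.Agent.S5964

/-- Involutions of PSL_n(q) and subfield subgroups. Here `T = PSL_n(F)` for a field `F` with `q = p^f` elements (`n ≥ 2`, `(n, q) ≠ (2, 2), (2, 3)`), `F₀` is the subfield with `q₀` elements where `q = q₀^k` for a prime `k`, and `H` is the subgroup of matrices of determinant 1 lying in the subfield group of `F₀` (invertible matrices over `F₀` times scalars) — a maximal subgroup of type GL_n(q₀) (the case `n = 2`, `q₀ = 2` is excluded); Ω is the set of `T`-conjugates of `H` (cosets of `H`), so an element of `T` of prime order `r` (a matrix `x` of determinant 1 with `x^r` scalar, `x` not scalar) fixes a point of Ω when some conjugate of `x` by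 a matrix of determinant 1 lies in `H`. Suppose the index of `H` is even. Then every involution of `T` is conjugate in `T` into `H` if and only if either `q` is even, or `k = 2` and `(n)_2 ≤ (q − 1)_2`. (For `q` odd and `k` odd the index of `H` is odd, so that case does not arise.) -/
theorem result {F : Type*} [Field F] [Fintype F] {p : ℕ} [Fact p.Prime] [CharP F p] {q : ℕ} (hq : Fintype.card F = q)
    (n : ℕ) (hn : 2 ≤ n) (hT : (n, q) ≠ (2, 2) ∧ (n, q) ≠ (2, 3))
    (F₀ : Subfield F) (k q₀ : ℕ) (hk : k.Prime) (hF₀ : Nat.card ↥F₀ = q₀) (hqk : q = q₀ ^ k) (hC5 : ¬ (n = 2 ∧ q₀ = 2)) (hΩ : 2 ∣ ((Cfsg.Geo.subfieldSubgroup F₀ 1).comap (Matrix.SpecialLinearGroup.toGL : Matrix.SpecialLinearGroup (Fin n) F →* GL (Fin n) F)).index) :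
    (∀ x : Matrix.SpecialLinearGroup (Fin n) F,
      (∃ z : F, ((x ^ 2 : Matrix.SpecialLinearGroup (Fin n) F) : Matrix (Fin n) (Fin n) F) = z • (1 : Matrix (Fin n) (Fin n) F)) →
      (∀ z : F, (x : Matrix (Fin n) (Fin n) F) ≠ z • (1 : Matrix (Fin n) (Fin n) F)) →
      ∃ P : Matrix.SpecialLinearGroup (Fin n) F, P⁻¹ * x * P ∈ ((Cfsg.Geo.subfieldSubgroup F₀ 1).comap (Matrix.SpecialLinearGroup.toGL : Matrix.SpecialLinearGroup (Fin n) F →* GL (Fin n) F))) ↔
    (Odd q → (k = 2 ∧ padicValNat 2 n ≤ padicValNat 2 (q - 1))) := by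
  classical
  subst hq
  have hp : p.Prime := Fact.out
  constructor
  · intro hall hodd
    have hk2 : k = 2 := by
      by_contra hne
      have hkodd : Odd k := hk.odd_of_ne_two hne
      have h1 := Cfsg.Agent.Lib.Helper9.SubfieldG.index_odd F₀ k q₀ hF₀ hqk hodd hkodd n (by omega)
      rw [Nat.odd_iff] at h1
      have h2 : ((Cfsg.Geo.subfieldSubgroup F₀ 1).comap
        (Matrix.SpecialLinearGroup.toGL : Matrix.SpecialLinearGroup (Fin n) F →* GL (Fin n) F)).index % 2 = 0 :=
        Nat.mod_eq_zero_of_dvd hΩ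
      have h3 : (Cfsg.Agent.Lib.Helper9.SubfieldA.HH F₀ n).index % 2 = 1 := h1
      unfold Cfsg.Agent.Lib.Helper9.SubfieldA.HH at h3
      omega
    refine ⟨hk2, ?_⟩
    subst hk2
    by_contra hv
    push Not at hv
    have hsq := Cfsg.Agent.Lib.Helper9.SubfieldD.isSquare_of_mem_subfield F₀ q₀ hF₀ hqk hodd
    have hi : IsSquare (-1 : F) := by
      have := hsq (-1)
      simpa using this
    obtain ⟨z, hz, hzpow⟩ := Cfsg.Agent.Lib.Helper9.SubfieldD.exists_nonsquare_pow hodd hi n hv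
    have hneven : Even n := by
      have h1 : 1 ≤ padicValNat 2 n := by omega
      exact even_iff_two_dvd.mpr (dvd_of_one_le_padicValNat h1)
    obtain ⟨m, rfl⟩ := hneven
    have hX2 := Cfsg.Agent.Lib.Helper9.SubfieldH.ZZ_mul_ZZ z m
    obtain ⟨m', hm', hdet⟩ := Cfsg.Agent.Lib.Helper9.SubfieldF.det_of_sq_nonsquare
      (Cfsg.Agent.Lib.Helper9.SubfieldH.ZZ z m) z hz hX2
    have hmm' : m' = m := by omega
    subst hmm'
    have hmm : (m' + m') / 2 = m' := by omega
    rw [hmm] at hzpow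
    let x : Matrix.SpecialLinearGroup (Fin (m' + m')) F :=
      ⟨Cfsg.Agent.Lib.Helper9.SubfieldH.ZZ z m', by rw [hdet, hzpow]⟩
    have hxX : (x : Matrix (Fin (m' + m')) (Fin (m' + m')) F) =
      Cfsg.Agent.Lib.Helper9.SubfieldH.ZZ z m' := rfl
    let i₀ : Fin (m' + m') := ⟨0, by omega⟩
    have hxns : ∀ c : F, (x : Matrix (Fin (m' + m')) (Fin (m' + m')) F) ≠ c • 1 := by
      intro c hc
      apply hz
      rw [hxX] at hc
      rw [hc, Matrix.smul_mul, Matrix.mul_smul, Matrix.mul_one, smul_smul] at hX2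
      have h1 := congrFun (congrFun hX2 i₀) i₀
      simp only [Matrix.smul_apply, Matrix.one_apply_eq, smul_eq_mul, mul_one] at h1
      exact ⟨c, h1.symm⟩
    obtain ⟨P, hP⟩ := hall x ⟨z, by rw [pow_two, Matrix.SpecialLinearGroup.coe_mul, hxX]; exact hX2⟩ hxns
    obtain ⟨y₀, c, hc0, hy₀, hxP⟩ := Cfsg.Agent.Lib.Helper9.SubfieldA.exists_of_conj_mem F₀ x P hP
    obtain ⟨Pm, hPm⟩ : ∃ Pm : Matrix (Fin (m' + m')) (Fin (m' + m')) F,
      Pm = (P : Matrix (Fin (m' + m')) (Fin (m' + m')) F) := ⟨_, rfl⟩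
    obtain ⟨Pi, hPi⟩ : ∃ Pi : Matrix (Fin (m' + m')) (Fin (m' + m')) F,
      Pi = ((P⁻¹ : Matrix.SpecialLinearGroup (Fin (m' + m')) F) :
        Matrix (Fin (m' + m')) (Fin (m' + m')) F) := ⟨_, rfl⟩
    have hPiP : Pi * Pm = 1 := by
      rw [hPi, hPm, ← Matrix.SpecialLinearGroup.coe_mul, inv_mul_cancel,
        Matrix.SpecialLinearGroup.coe_one]
    obtain ⟨Y, hY⟩ : ∃ Y : Matrix (Fin (m' + m')) (Fin (m' + m')) F,
      Y = c • y₀.map (F₀.subtype : F₀ →+* F) := ⟨_, rfl⟩
    rw [← hPm, ← hY, hxX] at hxP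
    have hYY : Y * Y = z • 1 := by
      have h1 : Y = Pi * Cfsg.Agent.Lib.Helper9.SubfieldH.ZZ z m' * Pm := by
        rw [Matrix.mul_assoc, hxP, ← Matrix.mul_assoc, hPiP, Matrix.one_mul]
      calc Y * Y = Pi * Cfsg.Agent.Lib.Helper9.SubfieldH.ZZ z m' * Pm * Y := by rw [← h1]
        _ = Pi * Cfsg.Agent.Lib.Helper9.SubfieldH.ZZ z m' * (Pm * Y) := by rw [Matrix.mul_assoc]
        _ = Pi * (Cfsg.Agent.Lib.Helper9.SubfieldH.ZZ z m' *
              Cfsg.Agent.Lib.Helper9.SubfieldH.ZZ z m') * Pm := by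
            rw [← hxP]; simp only [Matrix.mul_assoc]
        _ = z • 1 := by
            rw [hX2, Matrix.mul_smul, Matrix.smul_mul, Matrix.mul_one, hPiP]
    have hYY' : (c * c) • (y₀ * y₀).map (F₀.subtype : F₀ →+* F) = z • 1 := by
      rw [← hYY, hY, Matrix.smul_mul, Matrix.mul_smul, smul_smul, Matrix.map_mul]
    have h1 := congrFun (congrFun hYY' i₀) i₀
    simp only [Matrix.smul_apply, Matrix.map_apply, Matrix.one_apply_eq, smul_eq_mul, mul_one] at h1
    obtain ⟨s, hs⟩ := hsq ((y₀ * y₀) i₀ i₀)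
    apply hz
    refine ⟨c * s, ?_⟩
    rw [← h1]
    have : (F₀.subtype : F₀ →+* F) ((y₀ * y₀) i₀ i₀) = s * s := hs
    rw [this]
    ring
  · intro hcond x ⟨z, hz⟩ hns
    have hxx : (x : Matrix (Fin n) (Fin n) F) * (x : Matrix (Fin n) (Fin n) F) = z • 1 := by
      rw [← pow_two, ← Matrix.SpecialLinearGroup.coe_pow]
      exact hz
    by_cases hodd : Odd (Fintype.card F)
    · obtain ⟨hk2, hv⟩ := hcond hodd
      subst hk2
      have hsq := Cfsg.Agent.Lib.Helper9.SubfieldD.isSquare_of_mem_subfield F₀ q₀ hF₀ hqk hodd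
      have hi : IsSquare (-1 : F) := by
        have := hsq (-1)
        simpa using this
      have hzsq : IsSquare z := by
        by_contra hzns
        obtain ⟨m, hm, hdet⟩ := Cfsg.Agent.Lib.Helper9.SubfieldF.det_of_sq_nonsquare
          (x : Matrix (Fin n) (Fin n) F) z hzns hxx
        rw [x.2] at hdet
        subst hm
        exact hzns (Cfsg.Agent.Lib.Helper9.SubfieldD.isSquare_of_pow_eq_one hodd hi m (by omega) hv z
          hdet.symm)
      obtain ⟨lam, hlam⟩ := hzsq
      have hlam0 : lam ≠ 0 := by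
        rintro rfl
        rw [mul_zero] at hlam
        rw [hlam, zero_smul] at hxx
        have h1 := congrArg Matrix.det hxx
        have : Nonempty (Fin n) := ⟨⟨0, by omega⟩⟩
        rw [Matrix.det_mul, x.2, Matrix.det_zero, mul_one] at h1
        exact one_ne_zero h1
      have h2 : (2 : F) ≠ 0 :=
        Ring.two_ne_zero (Cfsg.Agent.Lib.Helper9.SubfieldD.ringChar_ne_two hodd)
      exact Cfsg.Agent.Lib.Helper9.SubfieldH.involution_conj h2 F₀ x lam hlam0
        (by rw [hxx, hlam]) (by omega)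
    · have hp2 : p = 2 := by
        obtain ⟨f, -, hf⟩ := FiniteField.card F p
        rw [hf] at hodd
        rcases hp.eq_two_or_odd' with h | h
        · exact h
        · exact absurd h.pow hodd
      subst hp2
      apply Cfsg.Agent.Lib.Helper9.SubfieldC.unipotent_conj 2 F₀ x z hz
      intro t d hd hsum δ hδ
      have ht : 0 < t := by
        rcases Nat.eq_zero_or_pos t with h0 | h0
        · subst h0
          simp at hsum
          omega
        · exact h0
      have h12 := hd ⟨0, ht⟩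
      have h12' : d ⟨0, ht⟩ = 1 ∨ d ⟨0, ht⟩ = 2 := by omega
      rcases h12' with h1 | h1
      · exact ⟨⟨0, ht⟩, δ, 1, by rw [h1, pow_one, Subfield.coe_one, mul_one]⟩
      · obtain ⟨a, ha⟩ := Finite.surjective_of_injective (frobenius_inj F 2) δ
        exact ⟨⟨0, ht⟩, a, 1, by rw [h1, Subfield.coe_one, mul_one, ← frobenius_def, ha]⟩

end Cfsg.Agent.S5964
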