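import Cfsg.Statements.S5965
-- import your own Cfsg.Agent.* helpers here
import Cfsg.Agent.Lib.Helper22.SubfRD
import Cfsg.Agent.Lib.Helper22.SubfRI
import Cfsg.Agent.Lib.Helper22.SubfRP
import Cfsg.Agent.Lib.Helper22.SubfRR

set_option autoImplicit false
open scoped MatrixGroups
open Cfsg

namespace Cfsg.Agent.S5965

/-- Elements of odd prime order r ≠ p of PSL_n(q) and subfield subgroups. Here `T = PSL_n(F)` for a field `F` with `q = p^f` elements (`n ≥ 2`, `(n, q) ≠ (2, 2), (2, 3)`), `F₀` is the subfield with `q₀` elements where `q = q₀^k` for a prime `k`, and `H` is the subgroup of matrices of determinant 1 lying in the subfield group of `F₀` (invertible matrices over `F₀` times scalars) — a maximal subgroup of type GL_n(q₀) (the case `n = 2`, `q₀ = 2` is excluded); Ω is the set of `T`-conjugates of `H` (cosets of `H`), so an element of `T` of prime order `r` (a matrix `x` of determinant 1 with `x^r` scalar, `x` not scalar) fixes a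 point of Ω when some conjugate of `x` by a matrix of determinant 1 lies in `H`. Let `r ≠ p` be an odd prime dividing the index of `H`, with `(n, r) ≠ (6, 3)` and, when `r = k` divides `q₀ − 1`, with `(n)_r ≤ (q − 1)_r`. Then every element of `T` of order `r` is conjugate in `T` into `H` if and only if `r = k`, or `k = 2`, `r = n ∈ {3, 5}` and `(q₀ + 1)_r = r`. The two excluded cases, `(n, r) = (6, 3)` and `r = k ∣ q₀ − 1` with `(n)_r > (q − 1)_r`, are ones where this criterion can fail, so they are left out. -/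
theorem result {F : Type*} [Field F] [Fintype F] {p : ℕ} [Fact p.Prime] [CharP F p] {q : ℕ} (hq : Fintype.card F = q)
    (n : ℕ) (hn : 2 ≤ n) (hT : (n, q) ≠ (2, 2) ∧ (n, q) ≠ (2, 3))
    (F₀ : Subfield F) (k q₀ : ℕ) (hk : k.Prime) (hF₀ : Nat.card ↥F₀ = q₀) (hqk : q = q₀ ^ k) (hC5 : ¬ (n = 2 ∧ q₀ = 2)) (r : ℕ) [Fact r.Prime] (hr2 : r ≠ 2) (hrp : r ≠ p) (hgap : ¬ (n = 6 ∧ r = 3)) (hgapk : r = k → r ∣ q₀ - 1 → padicValNat r n ≤ padicValNat r (q - 1)) (hΩ : r ∣ ((Cfsg.Geo.subfieldSubgroup F₀ 1).comap (Matrix.SpecialLinearGroup.toGL : Matrix.SpecialLinearGroup (Fin n) F →* GL (Fin n) F)).index) :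
    (∀ x : Matrix.SpecialLinearGroup (Fin n) F,
      (∃ z : F, ((x ^ r : Matrix.SpecialLinearGroup (Fin n) F) : Matrix (Fin n) (Fin n) F) = z • (1 : Matrix (Fin n) (Fin n) F)) →
      (∀ z : F, (x : Matrix (Fin n) (Fin n) F) ≠ z • (1 : Matrix (Fin n) (Fin n) F)) →
      ∃ P : Matrix.SpecialLinearGroup (Fin n) F, P⁻¹ * x * P ∈ ((Cfsg.Geo.subfieldSubgroup F₀ 1).comap (Matrix.SpecialLinearGroup.toGL : Matrix.SpecialLinearGroup (Fin n) F →* GL (Fin n) F))) ↔
    (r = k ∨ (k = 2 ∧ r = n ∧ (n = 3 ∨ n = 5) ∧ padicValNat r (q₀ + 1) = 1)) := by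
  classical
  subst hq
  have hp : p.Prime := Fact.out
  have hr : r.Prime := Fact.out
  have : Fintype F₀ := Fintype.ofFinite F₀
  have hcard₀ : Fintype.card F₀ = q₀ := by rw [← Nat.card_eq_fintype_card, hF₀]
  have hq₀1 : 1 < q₀ := by
    rw [← hcard₀]
    exact Fintype.one_lt_card
  have hinj : Function.Injective (F₀.subtype : F₀ →+* F) := Subtype.val_injective
  have hcharF₀ : CharP F₀ p := (RingHom.charP_iff (F₀.subtype : F₀ →+* F) hinj p).2 inferInstance
  obtain ⟨⟨e, he⟩, hp', hcard⟩ := FiniteField.card F₀ p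
  have hq₀ : q₀ = p ^ e := by
    rw [← hcard₀]
    exact hcard
  have hrq₀ : ¬ r ∣ q₀ := by
    intro h
    rw [hq₀] at h
    exact hrp ((Nat.prime_dvd_prime_iff_eq hr hp).1 (hr.dvd_of_dvd_pow h))
  constructor
  · intro hall
    by_contra hneg
    obtain ⟨hrk, hexc⟩ := not_or.1 hneg
    have hfin : ∀ x : Matrix.SpecialLinearGroup (Fin n) F,
        (∃ z : F, (x : Matrix (Fin n) (Fin n) F) ^ r = z • 1) →
        (∀ z : F, (x : Matrix (Fin n) (Fin n) F) ≠ z • 1) →
        (∀ P : Matrix.SpecialLinearGroup (Fin n) F,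
          P⁻¹ * x * P ∉ Cfsg.Agent.Lib.Helper9.SubfieldA.HH F₀ n) → False := by
      intro x hx1 hx2 hx3
      obtain ⟨z, hz⟩ := hx1
      obtain ⟨P, hP⟩ := hall x ⟨z, by rw [Matrix.SpecialLinearGroup.coe_pow]; exact hz⟩ hx2
      exact hx3 P hP
    by_cases hsame : ∀ m : ℕ, r ∣ (q₀ ^ k) ^ m - 1 → r ∣ q₀ ^ m - 1
    · exact Cfsg.Agent.Lib.Helper22.SubfR.index_not_dvd_same F₀ k q₀ hF₀ hqk hk n (by omega) r hr
        hrk hrq₀ hsame hΩ
    · push Not at hsame
      obtain ⟨m', hm1', hm2'⟩ := hsame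
      by_cases h1 : r ∣ Fintype.card F - 1
      · have h0 : ¬ r ∣ q₀ - 1 := by
          intro h
          exact hm2' (dvd_trans h (Nat.sub_one_dvd_pow_sub_one _ _))
        by_cases hn2 : n = 2 ∧ k = 2
        · obtain ⟨rfl, rfl⟩ := hn2
          have hak : (q₀ : ZMod r) ^ 2 = 1 := by
            rw [hqk] at h1
            exact (Cfsg.Agent.Lib.Helper22.SubfR.dvd_pow_sub_one_iff r q₀ 2 (by omega)).1 h1
          have ha1 : (q₀ : ZMod r) ≠ 1 := by
            intro h
            apply h0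
            have := (Cfsg.Agent.Lib.Helper22.SubfR.dvd_pow_sub_one_iff r q₀ 1 (by omega)).2
              (by rw [pow_one]; exact h)
            rwa [pow_one] at this
          have hdvd := Cfsg.Agent.Lib.Helper22.SubfR.dvd_add_one_of_sq r q₀ hak ha1
          exact Cfsg.Agent.Lib.Helper22.SubfR.index_not_dvd_two F₀ q₀ hF₀ hqk r hr hr2 hdvd hΩ
        · obtain ⟨x, hx1, hx2, hx3⟩ := Cfsg.Agent.Lib.Helper22.SubfR.exists_bad_of_dvd p F₀ q₀ e k
            hF₀ hq₀ hqk hk r hr hr2 h1 h0 n hn hgap hexc hn2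
          exact hfin x hx1 hx2 hx3
      · have hrqF : ¬ r ∣ Fintype.card F := by
          intro h
          rw [hqk] at h
          exact hrq₀ (hr.dvd_of_dvd_pow h)
        obtain ⟨m, hm1, hmn, hrm⟩ := Cfsg.Agent.Lib.Helper22.SubfR.exists_dvd_of_dvd_index F₀ n
          (by omega) r hr hrqF hΩ
        obtain ⟨x, hx1, hx2, hx3⟩ := Cfsg.Agent.Lib.Helper22.SubfR.bad_irred p F₀ q₀ e k hF₀ hq₀
          hqk r hr hr2 hrp h1 n m hm1 hmn hrm ⟨m', hm1', hm2'⟩
        exact hfin x hx1 hx2 hx3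
  · rintro (hrk | ⟨hk2, hrn, h35, hv⟩) x ⟨z, hz⟩ hns
    · subst hrk
      rw [Matrix.SpecialLinearGroup.coe_pow] at hz
      exact Cfsg.Agent.Lib.Helper22.SubfR.good_of_eq p F₀ q₀ e r hF₀ hq₀ hr hr2 hrp hqk n
        (by omega) (fun h => hgapk rfl h) x z hz
    · subst hk2
      subst hrn
      rw [Matrix.SpecialLinearGroup.coe_pow] at hz
      rcases h35 with rfl | rfl
      · exact Cfsg.Agent.Lib.Helper22.SubfR.good_of_two p F₀ q₀ e 3 hF₀ hq₀ hr hr2 hrp
          Cfsg.Agent.Lib.Helper22.SubfR.sym3 hqk hv x z hz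
      · exact Cfsg.Agent.Lib.Helper22.SubfR.good_of_two p F₀ q₀ e 5 hF₀ hq₀ hr hr2 hrp
          Cfsg.Agent.Lib.Helper22.SubfR.sym5 hqk hv x z hz

end Cfsg.Agent.S5965
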