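import Cfsg.Statements.S5966
import Cfsg.Agent.Lib.Helper9.SubfieldC
import Cfsg.Agent.Lib.Helper9.SubfieldD
import Cfsg.Agent.Lib.Helper9.SubfieldE

set_option autoImplicit false
open scoped MatrixGroups
open Cfsg

namespace Cfsg.Agent.S5966

/-- Elements of order 3 of PSL_n(q) in characteristic 3 and subfield subgroups. Here `T = PSL_n(F)` for a field `F` with `q` elements, `q` a power of 3 (`n ≥ 2`, `(n, q) ≠ (2, 2), (2, 3)`), `F₀` is the subfield with `q₀` elements where `q = q₀^k` for a prime `k`, and `H` is the subgroup of matrices of determinant 1 lying in the subfield group of `F₀` (invertible matrices over `F₀` times scalars) — a maximal subgroup of type GL_n(q₀) (the case `n = 2`, `q₀ = 2` is excluded); Ω is the set of `T`-conjugates of `H` (cosets of `H`), so an element of `T` of prime order `r` (a matrix `x` of determinant 1 with `x^r` scalar, `x` not scalar) fixes a point of Ω when some conjugate of `x` by a matrix of determinant 1 lies in `H`. Suppose 3 divides the index of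 `H`. Then every element of `T` of order 3 is conjugate in `T` into `H` if and only if `n` is odd, or `n` is even and `k > 2`. -/
theorem result {F : Type*} [Field F] [Fintype F] [CharP F 3] {q : ℕ} (hq : Fintype.card F = q)
    (n : ℕ) (hn : 2 ≤ n) (hT : (n, q) ≠ (2, 3))
    (F₀ : Subfield F) (k q₀ : ℕ) (hk : k.Prime) (hF₀ : Nat.card ↥F₀ = q₀) (hqk : q = q₀ ^ k) (hC5 : ¬ (n = 2 ∧ q₀ = 2)) (hΩ : 3 ∣ ((Cfsg.Geo.subfieldSubgroup F₀ 1).comap (Matrix.SpecialLinearGroup.toGL : Matrix.SpecialLinearGroup (Fin n) F →* GL (Fin n) F)).index) :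
    (∀ x : Matrix.SpecialLinearGroup (Fin n) F,
      (∃ z : F, ((x ^ 3 : Matrix.SpecialLinearGroup (Fin n) F) : Matrix (Fin n) (Fin n) F) = z • (1 : Matrix (Fin n) (Fin n) F)) →
      (∀ z : F, (x : Matrix (Fin n) (Fin n) F) ≠ z • (1 : Matrix (Fin n) (Fin n) F)) →
      ∃ P : Matrix.SpecialLinearGroup (Fin n) F, P⁻¹ * x * P ∈ ((Cfsg.Geo.subfieldSubgroup F₀ 1).comap (Matrix.SpecialLinearGroup.toGL : Matrix.SpecialLinearGroup (Fin n) F →* GL (Fin n) F))) ↔
    (Odd n ∨ (Even n ∧ 2 < k)) := by
  classical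
  have h3 : Fact (Nat.Prime 3) := ⟨Nat.prime_three⟩
  have hqodd : Odd (Fintype.card F) := by
    obtain ⟨f, -, hf⟩ := FiniteField.card F 3
    rw [hf]
    exact Odd.pow (by decide)
  constructor
  · intro hall
    by_contra hcon
    have hne : Even n := by
      by_contra h
      exact hcon (Or.inl (Nat.not_even_iff_odd.mp h))
    have hk2 : k = 2 := by
      by_contra h
      have := hk.two_le
      exact hcon (Or.inr ⟨hne, by omega⟩)
    subst hk2
    obtain ⟨m, rfl⟩ := hne
    have hm : 1 ≤ m := by omega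
    have hsq : ∀ a : F₀, IsSquare (a : F) :=
      Cfsg.Agent.Lib.Helper9.SubfieldD.isSquare_of_mem_subfield F₀ q₀ hF₀ (by rw [hq, hqk]) hqodd
    obtain ⟨ν, hν⟩ := FiniteField.exists_nonsquare
      (Cfsg.Agent.Lib.Helper9.SubfieldD.ringChar_ne_two hqodd)
    obtain ⟨x, hx3, hxns, hxP⟩ :=
      Cfsg.Agent.Lib.Helper9.SubfieldE.exists_not_conj 3 F₀ hsq ν hν m hm
    obtain ⟨P, hP⟩ := hall x ⟨1, by rw [hx3, one_smul]⟩ hxns
    exact hxP P hP
  · intro hcase x ⟨z, hz⟩ hns
    apply Cfsg.Agent.Lib.Helper9.SubfieldC.unipotent_conj 3 F₀ x z hz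
    intro t d hd hsum δ hδ
    by_cases hex : ∃ j, Odd (d j)
    · obtain ⟨j, hj⟩ := hex
      have h13 : d j = 1 ∨ d j = 3 := by
        have := hd j
        obtain ⟨c, hc⟩ := hj
        omega
      rcases h13 with h1 | h3'
      · exact ⟨j, δ, 1, by rw [h1, pow_one, Subfield.coe_one, mul_one]⟩
      · obtain ⟨a, ha⟩ := Finite.surjective_of_injective (frobenius_inj F 3) δ
        exact ⟨j, a, 1, by rw [h3', Subfield.coe_one, mul_one, ← frobenius_def, ha]⟩
    · push Not at hex
      have hall2 : ∀ j, d j = 2 := by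
        intro j
        have h1 := hd j
        have h2 := hex j
        rw [Nat.not_odd_iff_even] at h2
        obtain ⟨c, hc⟩ := h2
        omega
      have hn2 : n = 2 * t := by
        rw [← hsum]
        simp [hall2, mul_comm]
      have hkodd : Odd k := by
        rcases hcase with ho | ⟨_, hk2⟩
        · exfalso
          rw [hn2] at ho
          exact (Nat.not_odd_iff_even.mpr ⟨t, by ring⟩) ho
        · exact hk.odd_of_ne_two (by omega)
      have ht : 0 < t := by omega
      obtain ⟨b, a₀, hb⟩ := Cfsg.Agent.Lib.Helper9.SubfieldD.exists_sq_mul_subfield F₀ k q₀ hF₀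
        (by rw [hq, hqk]) hqodd hkodd δ hδ
      exact ⟨⟨0, ht⟩, b, a₀, by rw [hall2]; exact hb⟩

end Cfsg.Agent.S5966
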