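import Cfsg.Statements.S5967
import Cfsg.Agent.Lib.Helper9.SympC
import Cfsg.Agent.Lib.Helper9.SympD
import Cfsg.Agent.Lib.Helper9.SympE
import Cfsg.Agent.Lib.Helper9.SympF
import Cfsg.Agent.Lib.Helper15.FiniteFieldPow

set_option autoImplicit false
open scoped MatrixGroups
open Cfsg

namespace Cfsg.Agent.S5967

/-- Involutions of PSL_n(q) and the symplectic-type subgroups. Here `T = PSL_n(F)` for a field `F` with `q` elements, `n ≥ 4` even, `f` is a nondegenerate alternating form on `F^n`, and `H` is the subgroup of matrices of determinant 1 preserving `f` up to a scalar — a maximal subgroup of type Sp_n(q); Ω is the set of `T`-conjugates of `H` (cosets of `H`), so an element of `T` of prime order `r` (a matrix `x` of determinant 1 with `x^r` scalar, `x` not scalar) fixes a point of Ω when some conjugate of `x` by a matrix of determinant 1 preserves `f` up to a scalar. Suppose the index of `H` is even. Then every involution of `T` is conjugate in `T` into `H` if and only if `(q − 1)_2 ≤ (n)_2`. -/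
theorem result {F : Type*} [Field F] [Fintype F] {p : ℕ} [Fact p.Prime] [CharP F p] {q : ℕ} (hq : Fintype.card F = q)
    (n : ℕ) (hn : 4 ≤ n) (he : Even n) (f : (Fin n → F) → (Fin n → F) → F) (hf : Cfsg.Geo.IsSymplecticForm f)
    (hΩ : 2 ∣ ((Cfsg.Geo.similarityGroup f).comap (Matrix.SpecialLinearGroup.toGL : Matrix.SpecialLinearGroup (Fin n) F →* GL (Fin n) F)).index) :
    (∀ x : Matrix.SpecialLinearGroup (Fin n) F,
      (∃ z : F, ((x ^ 2 : Matrix.SpecialLinearGroup (Fin n) F) : Matrix (Fin n) (Fin n) F) = z • (1 : Matrix (Fin n) (Fin n) F)) →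
      (∀ z : F, (x : Matrix (Fin n) (Fin n) F) ≠ z • (1 : Matrix (Fin n) (Fin n) F)) →
      ∃ P : Matrix.SpecialLinearGroup (Fin n) F, P⁻¹ * x * P ∈ ((Cfsg.Geo.similarityGroup f).comap (Matrix.SpecialLinearGroup.toGL : Matrix.SpecialLinearGroup (Fin n) F →* GL (Fin n) F))) ↔
    padicValNat 2 (q - 1) ≤ padicValNat 2 n := by
  classical
  subst hq
  have hp : p.Prime := Fact.out
  have hn0 : n ≠ 0 := by omega
  constructor
  · intro hall
    by_contra hv
    push Not at hv
    have hodd : Odd (Fintype.card F) := by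
      by_contra hne
      rw [Nat.not_odd_iff_even] at hne
      have h1 : ¬ 2 ∣ Fintype.card F - 1 := by
        have := Fintype.card_pos (α := F)
        obtain ⟨c, hc⟩ := hne
        omega
      rw [padicValNat.eq_zero_of_not_dvd h1] at hv
      omega
    have h2 : (2 : F) ≠ 0 := Cfsg.Agent.Lib.Helper15.two_ne_zero_of_odd_card hodd
    obtain ⟨lam, hlam⟩ := (Cfsg.Agent.Lib.Helper15.exists_pow_eq_neg_one_iff rfl hodd n hn0).mpr hv
    obtain ⟨x, hxx, hxns, hxP⟩ :=
      Cfsg.Agent.Lib.Helper9.SympF.exists_not_conj h2 f hf (by omega) lam hlam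
    obtain ⟨P, hP⟩ := hall x
      ⟨lam * lam, by rw [pow_two, Matrix.SpecialLinearGroup.coe_mul]; exact hxx⟩ hxns
    exact hxP P hP
  · intro hv x ⟨z, hz⟩ hns
    have hxx : (x : Matrix (Fin n) (Fin n) F) * (x : Matrix (Fin n) (Fin n) F) = z • 1 := by
      rw [← pow_two, ← Matrix.SpecialLinearGroup.coe_pow]
      exact hz
    by_cases hodd : Odd (Fintype.card F)
    · have h2 : (2 : F) ≠ 0 := Cfsg.Agent.Lib.Helper15.two_ne_zero_of_odd_card hodd
      by_cases hzsq : IsSquare z
      · obtain ⟨lam, hlam⟩ := hzsq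
        have hlam0 : lam ≠ 0 := by
          rintro rfl
          rw [mul_zero] at hlam
          rw [hlam, zero_smul] at hxx
          have h1 := congrArg Matrix.det hxx
          have : Nonempty (Fin n) := ⟨⟨0, by omega⟩⟩
          rw [Matrix.det_mul, x.2, Matrix.det_zero, mul_one] at h1
          exact one_ne_zero h1
        exact Cfsg.Agent.Lib.Helper9.SympE.square_conj h2 f hf (by omega) he x lam hlam0
          (by rw [hxx, hlam]) (Cfsg.Agent.Lib.Helper15.pow_ne_neg_one rfl hodd n hn0 hv lam)
      · exact Cfsg.Agent.Lib.Helper9.SympC.nonsquare_conj hodd f hf (by omega) x z hzsq hxx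
    · have hp2 : p = 2 := by
        obtain ⟨k, -, hk⟩ := FiniteField.card F p
        rw [hk] at hodd
        rcases hp.eq_two_or_odd' with h | h
        · exact h
        · exact absurd h.pow hodd
      subst hp2
      obtain ⟨m, hm⟩ := he
      exact Cfsg.Agent.Lib.Helper9.SympD.char_two_conj f hf m (by omega) (by omega) x z hxx

end Cfsg.Agent.S5967
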