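import Cfsg.Statements.S5969
import Cfsg.Agent.Lib.Helper9.ExtB
import Cfsg.Agent.Lib.Helper9.ExtF

set_option autoImplicit false
open scoped MatrixGroups
open Cfsg

namespace Cfsg.Agent.S5969

/-- Involutions of PSL_n(q) and extension-field subgroups of degree 2. Here `T = PSL_n(F)` for a field `F` with `q = p^f` elements (`n ≥ 2`, `(n, q) ≠ (2, 2), (2, 3)`), `k` is a prime dividing `n`, `K` is a subalgebra of the `n × n` matrices that is a field of degree `k` over `F` (an extension-field structure F_{q^k} on `F^n`), and `H` is the subgroup of matrices of determinant 1 normalizing `K` — a subgroup of type GL_{n/k}(q^k) (maximal except in some small cases; maximality is not assumed); Ω is the set of cosets of `H` in `T`, so an element of `T` of prime order `r` (a matrix `x` of determinant 1 with `x^r` scalar, `x` not scalar) fixes a point of Ω when some conjugate of `x` by a matrix of determinant 1 normalizes `K`. Take `k = 2` and suppose the index of `H` is even. Then every involution of `T` is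 conjugate in `T` into `H` if and only if `n = 2`, or `q` is odd and `(q − 1)_2 ≤ (n)_2`. -/
theorem result {F : Type*} [Field F] [Fintype F] {p : ℕ} [Fact p.Prime] [CharP F p] {q : ℕ} (hq : Fintype.card F = q)
    (n : ℕ) (hn : 2 ≤ n) (hT : (n, q) ≠ (2, 2) ∧ (n, q) ≠ (2, 3))
    (k : ℕ) (hk : k.Prime) (hkn : k ∣ n) (K : Subalgebra F (Matrix (Fin n) (Fin n) F)) (hK : Cfsg.Geo.IsFieldSubalgebra k K) (hk2 : k = 2) (hΩ : 2 ∣ ((Cfsg.Geo.subalgebraNormalizer K).comap (Matrix.SpecialLinearGroup.toGL : Matrix.SpecialLinearGroup (Fin n) F →* GL (Fin n) F)).index) :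
    (∀ x : Matrix.SpecialLinearGroup (Fin n) F,
      (∃ z : F, ((x ^ 2 : Matrix.SpecialLinearGroup (Fin n) F) : Matrix (Fin n) (Fin n) F) = z • (1 : Matrix (Fin n) (Fin n) F)) →
      (∀ z : F, (x : Matrix (Fin n) (Fin n) F) ≠ z • (1 : Matrix (Fin n) (Fin n) F)) →
      ∃ P : Matrix.SpecialLinearGroup (Fin n) F, P⁻¹ * x * P ∈ ((Cfsg.Geo.subalgebraNormalizer K).comap (Matrix.SpecialLinearGroup.toGL : Matrix.SpecialLinearGroup (Fin n) F →* GL (Fin n) F))) ↔
    (n = 2 ∨ (Odd q ∧ padicValNat 2 (q - 1) ≤ padicValNat 2 n)) := by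
  classical
  subst hk2
  have hsq : ∀ x : Matrix.SpecialLinearGroup (Fin n) F,
      ((x ^ 2 : Matrix.SpecialLinearGroup (Fin n) F) : Matrix (Fin n) (Fin n) F) =
        (x : Matrix (Fin n) (Fin n) F) * (x : Matrix (Fin n) (Fin n) F) := by
    intro x
    rw [pow_two, Matrix.SpecialLinearGroup.coe_mul]
  have hchar2 : ¬ Odd q → CharP F 2 := by
    intro hodd
    have h1 : Fintype.card F % 2 = 0 := by
      rw [hq]
      exact Nat.even_iff.mp (Nat.not_odd_iff_even.mp hodd)
    exact ringChar.of_eq (FiniteField.even_card_iff_char_two.mpr h1)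
  have hz0 : ∀ (x : Matrix.SpecialLinearGroup (Fin n) F) (z : F),
      (x : Matrix (Fin n) (Fin n) F) * (x : Matrix (Fin n) (Fin n) F) = z • 1 → z ≠ 0 := by
    intro x z hx
    rintro rfl
    have : Nonempty (Fin n) := ⟨⟨0, by omega⟩⟩
    have hd := congrArg Matrix.det hx
    rw [Matrix.det_mul, x.2, zero_smul, Matrix.det_zero, mul_one] at hd
    exact one_ne_zero hd
  constructor
  · intro hall
    by_contra hcon
    push Not at hcon
    obtain ⟨hn2, hcon2⟩ := hcon
    have hn3 : 3 ≤ n := by omega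
    by_cases hodd : Odd q
    · have hlt := hcon2 hodd
      obtain ⟨lam, hlam⟩ :=
        (Cfsg.Agent.Lib.Helper15.exists_pow_eq_neg_one_iff hq hodd n (by omega)).mpr hlt
      have h2 : (2 : F) ≠ 0 := Cfsg.Agent.Lib.Helper15.two_ne_zero_of_odd_card (hq ▸ hodd)
      obtain ⟨x, hxx, hxns, hxP⟩ :=
        Cfsg.Agent.Lib.Helper9.ExtB.exists_not_conj_odd K h2 hK hn3 lam hlam
      obtain ⟨P, hP⟩ := hall x ⟨lam * lam, by rw [hsq, hxx]⟩ hxns
      exact hxP P hP
    · have := hchar2 hodd
      obtain ⟨x, hxx, hxns, hxP⟩ := Cfsg.Agent.Lib.Helper9.ExtB.exists_not_conj_two K hK hn3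
      obtain ⟨P, hP⟩ := hall x ⟨1, by rw [hsq, hxx]⟩ hxns
      exact hxP P hP
  · rintro (hn2 | ⟨hodd, hv⟩)
    · subst hn2
      intro x ⟨z, hz⟩ hxns
      rw [hsq] at hz
      by_cases hodd : Odd q
      · have hodd' : Odd (Fintype.card F) := hq ▸ hodd
        by_cases hzsq : IsSquare z
        · obtain ⟨lam, hlam⟩ := hzsq
          have hlam0 : lam ≠ 0 := by
            rintro rfl
            rw [mul_zero] at hlam
            exact hz0 x z hz hlam
          exact Cfsg.Agent.Lib.Helper9.ExtF.two_split_conj hodd' K hK x lam hlam0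
            (by rw [hz, hlam]) hxns
        · exact Cfsg.Agent.Lib.Helper9.ExtE.nonsquare_conj hodd' K hK (by norm_num) x z hzsq hz
      · have := hchar2 hodd
        exact Cfsg.Agent.Lib.Helper9.ExtF.two_char_two_conj K hK x z hz hxns
    · intro x ⟨z, hz⟩ hxns
      rw [hsq] at hz
      have hodd' : Odd (Fintype.card F) := hq ▸ hodd
      by_cases hzsq : IsSquare z
      · obtain ⟨lam, hlam⟩ := hzsq
        have hlam0 : lam ≠ 0 := by
          rintro rfl
          rw [mul_zero] at hlam
          exact hz0 x z hz hlam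
        have hne : Even n := (even_iff_two_dvd).mpr hkn
        exact Cfsg.Agent.Lib.Helper9.ExtE.square_conj hodd' K hK (by omega) hne x lam hlam0
          (by rw [hz, hlam])
          (Cfsg.Agent.Lib.Helper15.pow_ne_neg_one hq hodd n (by omega) hv lam)
      · exact Cfsg.Agent.Lib.Helper9.ExtE.nonsquare_conj hodd' K hK (by omega) x z hzsq hz

end Cfsg.Agent.S5969
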