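import Cfsg.Statements.S5970
import Cfsg.Agent.Lib.Helper9.SingerN
import Cfsg.Agent.Lib.Helper9.CycN
import Cfsg.Agent.Lib.Helper9.OrdN

set_option autoImplicit false
open scoped MatrixGroups
open Cfsg

namespace Cfsg.Agent.S5970

/-- Elements of order `n` of PSL_n(q), `n` prime, and the normalizer of a Singer cycle. Here `T = PSL_n(F)` for a field `F` with `q = p^f` elements (`n ≥ 2`, `(n, q) ≠ (2, 2), (2, 3)`), `k` is a prime dividing `n`, `K` is a subalgebra of the `n × n` matrices that is a field of degree `k` over `F` (an extension-field structure F_{q^k} on `F^n`), and `H` is the subgroup of matrices of determinant 1 normalizing `K` — a subgroup of type GL_{n/k}(q^k) (maximal except in some small cases; maximality is not assumed); Ω is the set of cosets of `H` in `T`, so an element of `T` of prime order `r` (a matrix `x` of determinant 1 with `x^r` scalar, `x` not scalar) fixes a point of Ω when some conjugate of `x` by a matrix of determinant 1 normalizes `K`. Take `k =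 n > 3` prime with `n ≠ p` (so `H` is the normalizer of a Singer cycle), and suppose `n` divides the index of `H`. Then every element of `T` of order `n` is conjugate in `T` into `H` if and only if the multiplicative order of `q` modulo `n` is `n − 1`. -/
theorem result {F : Type*} [Field F] [Fintype F] {p : ℕ} [Fact p.Prime] [CharP F p] {q : ℕ} (hq : Fintype.card F = q)
    (n : ℕ) (hn : 2 ≤ n) (hT : (n, q) ≠ (2, 2) ∧ (n, q) ≠ (2, 3))
    (k : ℕ) (hk : k.Prime) (hkn : k ∣ n) (K : Subalgebra F (Matrix (Fin n) (Fin n) F)) (hK : Cfsg.Geo.IsFieldSubalgebra k K) (hkn' : k = n) (hn3 : 3 < n) (hnp : n ≠ p) (hΩ : n ∣ ((Cfsg.Geo.subalgebraNormalizer K).comap (Matrix.SpecialLinearGroup.toGL : Matrix.SpecialLinearGroup (Fin n) F →* GL (Fin n) F)).index) :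
    (∀ x : Matrix.SpecialLinearGroup (Fin n) F,
      (∃ z : F, ((x ^ n : Matrix.SpecialLinearGroup (Fin n) F) : Matrix (Fin n) (Fin n) F) = z • (1 : Matrix (Fin n) (Fin n) F)) →
      (∀ z : F, (x : Matrix (Fin n) (Fin n) F) ≠ z • (1 : Matrix (Fin n) (Fin n) F)) →
      ∃ P : Matrix.SpecialLinearGroup (Fin n) F, P⁻¹ * x * P ∈ ((Cfsg.Geo.subalgebraNormalizer K).comap (Matrix.SpecialLinearGroup.toGL : Matrix.SpecialLinearGroup (Fin n) F →* GL (Fin n) F))) ↔
    orderOf (q : ZMod n) = n - 1 := by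
  have hkn'' := hkn'.symm
  subst hkn''
  have : NeZero n := ⟨by omega⟩
  have : Fact n.Prime := ⟨hk⟩
  have hc := hK.comm
  have hi := hK.inv
  have hr := hK.finrank_eq
  obtain ⟨s, hsn, hsk, hpn, v, hv⟩ := Cfsg.Agent.Lib.Helper9.SingerN.exists_sigma K hc hi hr
  obtain ⟨f, hpp, hcard⟩ := FiniteField.card F p
  have hcop : p.Coprime n := (Nat.coprime_primes hpp hk).mpr (Ne.symm hnp)
  have hnF : (n : F) ≠ 0 := by
    intro h0
    have := (CharP.cast_eq_zero_iff F p n).mp h0
    exact hnp ((Nat.prime_dvd_prime_iff_eq hpp hk).mp this).symm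
  have hqcast : (q : ZMod n) = ((p ^ (f : ℕ) : ℕ) : ZMod n) := by rw [← hq, hcard]
  have hordconv : orderOf (ZMod.unitOfCoprime (p ^ (f : ℕ)) (hcop.pow_left f)) = orderOf (q : ZMod n) := by
    rw [← orderOf_units, ZMod.coe_unitOfCoprime, hqcast]
  have hq2 : 2 ≤ q := by
    rw [← hq]
    exact Fintype.one_lt_card
  have hdvd_of_one : (q : ZMod n) = 1 → n ∣ Fintype.card F - 1 := by
    intro hq1
    have : ((q - 1 : ℕ) : ZMod n) = 0 := by
      rw [Nat.cast_sub (by omega), hq1]; simp
    rw [hq]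
    exact (ZMod.natCast_eq_zero_iff _ _).mp this
  have hone_of_dvd : n ∣ Fintype.card F - 1 → (q : ZMod n) = 1 := by
    intro hd
    rw [hq] at hd
    have h0 : ((q - 1 : ℕ) : ZMod n) = 0 := (ZMod.natCast_eq_zero_iff _ _).mpr hd
    rw [Nat.cast_sub (by omega)] at h0
    simpa [sub_eq_zero] using h0
  have hdegn' : (Polynomial.X ^ n - 1 : Polynomial F).natDegree = n := by
    rw [show (1 : Polynomial F) = Polynomial.C 1 from (map_one Polynomial.C).symm]
    exact Polynomial.natDegree_X_pow_sub_C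
  constructor
  · intro H
    by_contra hne
    have hq0 : (q : ZMod n) ≠ 0 := by
      intro h0
      rw [ZMod.natCast_eq_zero_iff] at h0
      rw [← hq, hcard] at h0
      have := hk.dvd_of_dvd_pow h0
      exact hnp ((Nat.prime_dvd_prime_iff_eq hk hpp).mp this)
    have hidvd : orderOf (q : ZMod n) ∣ n - 1 := ZMod.orderOf_dvd_card_sub_one hq0
    have hipos : 0 < orderOf (q : ZMod n) := Nat.pos_of_dvd_of_pos hidvd (by omega)
    have hbadx : ∃ x : Matrix.SpecialLinearGroup (Fin n) F, Cfsg.Agent.Lib.Helper9.OrdN.BadN x := by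
      by_cases h1 : orderOf (q : ZMod n) = 1
      · have hq1 : (q : ZMod n) = 1 := orderOf_eq_one_iff.mp h1
        obtain ⟨ζ, hζn, hζ1⟩ := Cfsg.Agent.Lib.Helper9.OrdN.exists_root_of_unity hk (hdvd_of_one hq1)
        exact Cfsg.Agent.Lib.Helper9.OrdN.bad_diag (by omega) ζ hζn hζ1
      · have hi2 : 2 ≤ orderOf (q : ZMod n) := by omega
        have hin : orderOf (q : ZMod n) + 2 ≤ n := by
          obtain ⟨c, hc⟩ := hidvd
          rcases c with _ | _ | c
          · omega
          · omega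
          · have h5 : orderOf (q : ZMod n) * 2 ≤ orderOf (q : ZMod n) * (c + 1 + 1) :=
              Nat.mul_le_mul_left _ (by omega)
            omega
        obtain ⟨P, hPirr, hPd⟩ := Polynomial.exists_irreducible_of_natDegree_pos
          (f := Polynomial.cyclotomic n F)
          (by rw [Polynomial.natDegree_cyclotomic, Nat.totient_prime hk]; omega)
        have hPdeg : P.natDegree = orderOf (q : ZMod n) := by
          rw [Polynomial.natDegree_of_dvd_cyclotomic_of_irreducible hcard hcop hPd hPirr, hordconv]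
        have hndvd : ¬ n ∣ Fintype.card F - 1 := by
          intro hd
          apply h1
          rw [hone_of_dvd hd, orderOf_one]
        exact Cfsg.Agent.Lib.Helper9.OrdN.bad_poly hk hnF s hsn v hv P hPirr hPd (by omega) (by omega)
          (Cfsg.Agent.Lib.Helper9.OrdN.tor hk hndvd)
    obtain ⟨x, hx3, hxns, c, w₁, w₂, hind, h₁, h₂⟩ := hbadx
    obtain ⟨P, hP⟩ := H x hx3 hxns
    exact Cfsg.Agent.Lib.Helper9.SingerN.not_conj_of_eigen K hc hi hr hk x c w₁ w₂ hind h₁ h₂ (hxns c) P hP
  · intro hord x hx3 hxns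
    have hndvd : ¬ n ∣ Fintype.card F - 1 := by
      intro hd
      rw [hone_of_dvd hd, orderOf_one] at hord
      omega
    obtain ⟨z, hz⟩ := hx3
    rw [Matrix.SpecialLinearGroup.coe_pow] at hz
    have hdet : (x : Matrix (Fin n) (Fin n) F).det = 1 := x.2
    have hzn : z ^ n = 1 := by
      have := congrArg Matrix.det hz
      rw [Matrix.det_pow, hdet, one_pow, Matrix.det_smul, Matrix.det_one, mul_one, Fintype.card_fin] at this
      exact this.symm
    have hz1 := Cfsg.Agent.Lib.Helper9.OrdN.tor hk hndvd z hzn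
    rw [hz1, one_smul] at hz
    have hx1 : (x : Matrix (Fin n) (Fin n) F) ≠ 1 := fun h => hxns 1 (by rw [h, one_smul])
    have hirr : Irreducible (Polynomial.cyclotomic n F) := by
      apply Polynomial.irreducible_of_dvd_cyclotomic_of_natDegree hcard hcop (dvd_refl _)
      rw [Polynomial.natDegree_cyclotomic, Nat.totient_prime hk, hordconv, hord]
    have hmin := Cfsg.Agent.Lib.Helper9.OrdN.minpoly_eq hk (by omega) hnF hirr _ hz hx1
    obtain ⟨vx, hvx⟩ := Cfsg.Agent.Lib.Helper9.CycN.exists_cyc (x : Matrix (Fin n) (Fin n) F)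
    rw [hmin] at hvx
    have hindx := Cfsg.Agent.Lib.Helper9.CycN.indep_pow _ vx _ hdegn' hvx
    have hinds := Cfsg.Agent.Lib.Helper9.CycN.indep_pow s v _ hdegn' hv
    obtain ⟨g, hgdet, hg⟩ := Cfsg.Agent.Lib.Helper9.CycN.conj_of_cyc hnF _ s hz hsn vx v hindx hinds
    have hodd : Odd n := hk.odd_of_ne_two (by omega)
    have hsdet : s.det = 1 := Cfsg.Agent.Lib.Helper9.OrdN.det_eq_one_of_cyc hodd s hsn v hv
    obtain ⟨σ, hσ⟩ : ∃ σ : Matrix.SpecialLinearGroup (Fin n) F,
        (σ : Matrix (Fin n) (Fin n) F) = s := ⟨⟨s, hsdet⟩, rfl⟩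
    obtain ⟨P, hP⟩ : ∃ P : Matrix.SpecialLinearGroup (Fin n) F,
        (P : Matrix (Fin n) (Fin n) F) = g := ⟨⟨g, hgdet⟩, rfl⟩
    refine ⟨P, ?_⟩
    have hxP : x * P = P * σ := by
      apply Subtype.ext
      rw [Matrix.SpecialLinearGroup.coe_mul, Matrix.SpecialLinearGroup.coe_mul, hP, hσ]
      exact hg
    have hconj : P⁻¹ * x * P = σ := by
      rw [mul_assoc, hxP, inv_mul_cancel_left]
    rw [hconj]
    show Matrix.SpecialLinearGroup.toGL σ ∈ Cfsg.Geo.subalgebraNormalizer K
    obtain ⟨γ, hγ⟩ : ∃ γ : GL (Fin n) F, γ = Matrix.SpecialLinearGroup.toGL σ := ⟨_, rfl⟩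
    rw [← hγ]
    have hγs : (γ : Matrix (Fin n) (Fin n) F) = s := by rw [hγ, ← hσ]; rfl
    have hst : s * ((γ⁻¹ : GL (Fin n) F) : Matrix (Fin n) (Fin n) F) = 1 := by
      rw [← hγs, ← Units.val_mul, mul_inv_cancel, Units.val_one]
    have hts : ((γ⁻¹ : GL (Fin n) F) : Matrix (Fin n) (Fin n) F) * s = 1 := by
      rw [← hγs, ← Units.val_mul, inv_mul_cancel, Units.val_one]
    intro k
    rw [hγs]
    exact Cfsg.Agent.Lib.Helper9.SingerN.sigma_normalizes K (by omega) s _ hst hts hsk hpn k

end Cfsg.Agent.S5970
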