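import Cfsg.Statements.S5971
import Cfsg.Agent.Lib.Helper9.Ord3A
import Cfsg.Agent.Lib.Helper9.Ord3B
import Cfsg.Agent.Lib.Helper9.Ord3C

set_option autoImplicit false
open scoped MatrixGroups
open Cfsg

namespace Cfsg.Agent.S5971

/-- Elements of order 3 of PSL_3(q) and the normalizer of a Singer cycle. Here `T = PSL_n(F)` for a field `F` with `q = p^f` elements (`n ≥ 2`, `(n, q) ≠ (2, 2), (2, 3)`), `k` is a prime dividing `n`, `K` is a subalgebra of the `n × n` matrices that is a field of degree `k` over `F` (an extension-field structure F_{q^k} on `F^n`), and `H` is the subgroup of matrices of determinant 1 normalizing `K` — a subgroup of type GL_{n/k}(q^k) (maximal except in some small cases; maximality is not assumed); Ω is the set of cosets of `H` in `T`, so an element of `T` of prime order `r` (a matrix `x` of determinant 1 with `x^r` scalar, `x` not scalar) fixes a point of Ω when some conjugate of `x` by a matrix of determinant 1 normalizes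 `K`. Take `n = k = 3` and suppose 3 divides the index of `H`. Then every element of `T` of order 3 is conjugate in `T` into `H` if and only if `q ≡ 4, 7` or `8 (mod 9)`. -/
theorem result {F : Type*} [Field F] [Fintype F] {p : ℕ} [Fact p.Prime] [CharP F p] {q : ℕ} (hq : Fintype.card F = q)
    (n : ℕ) (hn : n = 3) (k : ℕ) (hk : k.Prime) (hkn : k ∣ n) (K : Subalgebra F (Matrix (Fin n) (Fin n) F)) (hK : Cfsg.Geo.IsFieldSubalgebra k K) (hk3 : k = 3) (hΩ : 3 ∣ ((Cfsg.Geo.subalgebraNormalizer K).comap (Matrix.SpecialLinearGroup.toGL : Matrix.SpecialLinearGroup (Fin n) F →* GL (Fin n) F)).index) :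
    (∀ x : Matrix.SpecialLinearGroup (Fin n) F,
      (∃ z : F, ((x ^ 3 : Matrix.SpecialLinearGroup (Fin n) F) : Matrix (Fin n) (Fin n) F) = z • (1 : Matrix (Fin n) (Fin n) F)) →
      (∀ z : F, (x : Matrix (Fin n) (Fin n) F) ≠ z • (1 : Matrix (Fin n) (Fin n) F)) →
      ∃ P : Matrix.SpecialLinearGroup (Fin n) F, P⁻¹ * x * P ∈ ((Cfsg.Geo.subalgebraNormalizer K).comap (Matrix.SpecialLinearGroup.toGL : Matrix.SpecialLinearGroup (Fin n) F →* GL (Fin n) F))) ↔
    (q % 9 = 4 ∨ q % 9 = 7 ∨ q % 9 = 8) := by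
  subst hn
  subst hk3
  have hc := hK.comm
  have hi := hK.inv
  have hr := hK.finrank_eq
  obtain ⟨σ, hσ3, hσN, w, hw⟩ := Cfsg.Agent.Lib.Helper9.Ord3B.exists_sigma_SL K hc hi hr
  have hbad : ∀ x : Matrix.SpecialLinearGroup (Fin 3) F, Cfsg.Agent.Lib.Helper9.Ord3C.Bad x →
      ¬ (∀ x : Matrix.SpecialLinearGroup (Fin 3) F,
      (∃ z : F, ((x ^ 3 : Matrix.SpecialLinearGroup (Fin 3) F) : Matrix (Fin 3) (Fin 3) F) = z • (1 : Matrix (Fin 3) (Fin 3) F)) →
      (∀ z : F, (x : Matrix (Fin 3) (Fin 3) F) ≠ z • (1 : Matrix (Fin 3) (Fin 3) F)) →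
      ∃ P : Matrix.SpecialLinearGroup (Fin 3) F, P⁻¹ * x * P ∈ ((Cfsg.Geo.subalgebraNormalizer K).comap (Matrix.SpecialLinearGroup.toGL : Matrix.SpecialLinearGroup (Fin 3) F →* GL (Fin 3) F))) := by
    rintro x ⟨hx3, hxns, c, w₁, w₂, hind, h₁, h₂⟩ H
    obtain ⟨P, hP⟩ := H x hx3 hxns
    exact Cfsg.Agent.Lib.Helper9.Ord3B.not_conj_of_eigen K hc hi hr x c w₁ w₂ hind h₁ h₂ (hxns c) P hP
  have hchar3 : 3 ∣ q → (3 : F) = 0 := by
    intro h3
    obtain ⟨n, hp, hcard⟩ := FiniteField.card F p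
    rw [hq] at hcard
    rw [hcard] at h3
    have h3p : 3 ∣ p := Nat.Prime.dvd_of_dvd_pow Nat.prime_three h3
    have : 3 = p := (Nat.prime_dvd_prime_iff_eq Nat.prime_three hp).mp h3p
    subst this
    exact_mod_cast CharP.cast_eq_zero F 3
  constructor
  · intro H
    by_contra hcon
    have hcases : 3 ∣ q ∨ q % 9 = 1 ∨ q % 9 = 2 ∨ q % 9 = 5 := by omega
    rcases hcases with h | h | h
    · obtain ⟨x, hx⟩ := Cfsg.Agent.Lib.Helper9.Ord3C.bad_char3 (hchar3 h)
      exact hbad x hx H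
    · have h9 : 9 ∣ Fintype.card F - 1 := by rw [hq]; omega
      obtain ⟨ζ, hζ9, hζ3⟩ := Cfsg.Agent.Lib.Helper9.Ord3C.exists_order9 h9
      obtain ⟨x, hx⟩ := Cfsg.Agent.Lib.Helper9.Ord3C.bad_of_order9 ζ hζ9 hζ3
      exact hbad x hx H
    · have hq' : Fintype.card F % 9 = 2 ∨ Fintype.card F % 9 = 5 := by rw [hq]; exact h
      have hσ3' : σ ^ 3 = 1 := by
        apply Subtype.ext
        rw [Matrix.SpecialLinearGroup.coe_pow, hσ3]
        rfl
      have hσ1 : σ ≠ 1 := by
        intro h1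
        rw [h1] at hw
        have := hw.injective (a₁ := 0) (a₂ := 1) (by simp)
        exact absurd this (by decide)
      exact Cfsg.Agent.Lib.Helper9.Ord3C.order_contra hq' _ hΩ σ hσN hσ3' hσ1
  · intro hq9 x hx3 hxns
    obtain ⟨z, hz⟩ := hx3
    rw [Matrix.SpecialLinearGroup.coe_pow] at hz
    have h3 : (3 : F) ≠ 0 := by
      intro h0
      have h3p : p ∣ 3 := by
        have := (CharP.cast_eq_zero_iff F p 3).mp (by exact_mod_cast h0)
        exact this
      have hp3 : p = 3 := (Nat.prime_dvd_prime_iff_eq (Fact.out) Nat.prime_three).mp h3p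
      obtain ⟨n, hp, hcard⟩ := FiniteField.card F p
      rw [hq, hp3] at hcard
      have : 3 ∣ q := by
        rw [hcard]
        exact dvd_pow_self 3 n.ne_zero
      omega
    have hdet : (x : Matrix (Fin 3) (Fin 3) F).det = 1 := x.2
    have hz3 : z ^ 3 = 1 := Cfsg.Agent.Lib.Helper9.Ord3A.scalar_cube _ hdet z hz
    have h9 : ¬ 9 ∣ Fintype.card F - 1 := by rw [hq]; omega
    have hz1 : z = 1 := by
      by_contra hne
      exact hne (Cfsg.Agent.Lib.Helper9.Ord3A.scalar_eq_one_of_irreducible _ hdet z hz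
        (Cfsg.Agent.Lib.Helper9.Ord3A.irreducible_cube_sub z hz3 hne h9))
    rw [hz1, one_smul] at hz
    obtain ⟨v, hv⟩ := Cfsg.Agent.Lib.Helper9.Ord3A.exists_cyc3 h3 _ hz hxns hdet
    obtain ⟨g, hgdet, hg⟩ := Cfsg.Agent.Lib.Helper9.Ord3A.conj_of_cyc h3 _ _ hz hσ3 v w hv hw
    obtain ⟨P, hP⟩ : ∃ P : Matrix.SpecialLinearGroup (Fin 3) F,
        (P : Matrix (Fin 3) (Fin 3) F) = g := ⟨⟨g, hgdet⟩, rfl⟩
    refine ⟨P, ?_⟩
    have hxP : x * P = P * σ := by
      apply Subtype.ext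
      rw [Matrix.SpecialLinearGroup.coe_mul, Matrix.SpecialLinearGroup.coe_mul, hP]
      exact hg
    have : P⁻¹ * x * P = σ := by
      rw [mul_assoc, hxP, inv_mul_cancel_left]
    rw [this]
    exact hσN

end Cfsg.Agent.S5971
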