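import Cfsg.Statements.S5973
-- import your own Cfsg.Agent.* helpers here
import Cfsg.Agent.Lib.Helper24.Or73

set_option autoImplicit false
open scoped MatrixGroups
open Cfsg

namespace Cfsg.Agent.S5973

/-- Elements of prime order of PΩ⁺_n(q), n = 2d ≥ 8, with no fixed totally singular `m`-space, `m < n/2`. Here `T = PΩ⁺_n(q)` is realised through `Ω⁺_n(q)`, the commutator subgroup of the isometry group of the quadratic form `Σ xᵢyᵢ` over the field `F` with `q` elements; an element of `T` of prime order `r` is an element `x` of `Ω⁺_n(q)` with `x^r` scalar and `x` not scalar. Let `1 ≤ m < d` and let `r` be a prime dividing the number of totally singular `m`-spaces. For `r ≠ p` let `i` be the multiplicative order of `q` modulo `r`, `c = i` for `i` even and `c = 2i` for `i` odd, and write `k = n mod c`, `ℓ = m mod i`, `n' = ⌊n/i⌋`, `m' = ⌊m/i⌋`, `t = (r−1)/i`. Then every element of `T` of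 order `r` fixes some totally singular `m`-space if and only if one of: (i) `r = 2 ≠ p` and either `q ≡ 1 (mod 4)`, or `q ≡ 3 (mod 4)`, `m ≤ n/2 − 2` and (`m` even or `n ≡ 2 (mod 4)`); (ii) `r ≠ p` odd, `i` odd, `i ≤ m` and `k ≥ 2ℓ`; (iii) `r ≠ p` odd, `i` even, `i ≤ m`, `n' − 2m' ≥ t`, and one of: `i ≥ 2ℓ`, `k = 0`, `n/i` odd and `n' − 2m' > t`; or `k ≥ 2ℓ` and `n'` even; or `k > 2ℓ` and `n'` odd. -/
theorem result {F : Type*} [Field F] [Fintype F] {p : ℕ} [Fact p.Prime] [CharP F p] {q : ℕ} (hq : Fintype.card F = q)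
    (d m : ℕ) (hd : 4 ≤ d) (hm : 1 ≤ m) (hmd : m < d)
    (r : ℕ) [Fact r.Prime]
    (hrΩ : r ∣ Nat.card {W : Submodule F (Fin d ⊕ Fin d → F) // Module.finrank F ↥W = m ∧ (∀ w ∈ W, Cfsg.quadFormPlus d F w = 0)})
    (i c : ℕ) (hi : i = orderOf (q : ZMod r)) (hc : c = if Even i then i else 2 * i) :
    (∀ x : GL (Fin d ⊕ Fin d) F, x ∈ Cfsg.Geo.omegaGL (Cfsg.quadFormPlus d F) →
      (∃ z : F, ((x ^ r : GL (Fin d ⊕ Fin d) F) : Matrix (Fin d ⊕ Fin d) (Fin d ⊕ Fin d) F) = z • (1 : Matrix (Fin d ⊕ Fin d) (Fin d ⊕ Fin d) F)) →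
      (∀ z : F, (x : Matrix (Fin d ⊕ Fin d) (Fin d ⊕ Fin d) F) ≠ z • (1 : Matrix (Fin d ⊕ Fin d) (Fin d ⊕ Fin d) F)) →
      ∃ W : Submodule F (Fin d ⊕ Fin d → F), Module.finrank F ↥W = m ∧ (∀ w ∈ W, Cfsg.quadFormPlus d F w = 0) ∧
        W.map (Matrix.toLin' (x : Matrix (Fin d ⊕ Fin d) (Fin d ⊕ Fin d) F)) ≤ W) ↔
    ((r = 2 ∧ p ≠ 2 ∧ (q % 4 = 1 ∨ (q % 4 = 3 ∧ m + 2 ≤ d ∧ (Even m ∨ (2 * d) % 4 = 2)))) ∨
     (r ≠ p ∧ 2 < r ∧ Odd i ∧ i ≤ m ∧ 2 * (m % i) ≤ (2 * d) % c) ∨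
     (r ≠ p ∧ 2 < r ∧ Even i ∧ i ≤ m ∧ (r - 1) / i + 2 * (m / i) ≤ (2 * d) / i ∧
       ((2 * (m % i) ≤ i ∧ (2 * d) % c = 0 ∧ Odd ((2 * d) / i) ∧ (r - 1) / i + 2 * (m / i) < (2 * d) / i) ∨
        (2 * (m % i) ≤ (2 * d) % c ∧ Even ((2 * d) / i)) ∨
        (2 * (m % i) < (2 * d) % c ∧ Odd ((2 * d) / i))))) := by
  classical
  subst hq
  subst hi
  have hr : r.Prime := Fact.out
  constructor
  · intro h
    by_cases hr2 : r = 2
    · left
      subst hr2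
      obtain ⟨hrp, -⟩ := Cfsg.Agent.Lib.Helper24.Or.dvd_count_plus (p := p) d m (by omega) 2 hrΩ
      have hp2 : p ≠ 2 := fun h => hrp h.symm
      have hodd := Cfsg.Agent.Lib.Helper24.Or.odd_card_of_char_ne_two (F := F) (p := p) hp2
      have h2 := Cfsg.Agent.Lib.Helper24.Or.two_ne_zero_odd hodd
      exact ⟨rfl, hp2, Cfsg.Agent.Lib.Helper24.Or.fwd73_two h2 hodd d m (by omega) h⟩
    · right
      obtain ⟨hrp, hcond⟩ := Cfsg.Agent.Lib.Helper24.Or.fwd73_odd (p := p) d m (by omega) hm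
        (by omega) r hr2 hrΩ c hc h
      rw [Cfsg.Agent.Lib.Helper24.Or.evenCond_plus] at hcond
      have := hr.two_le
      rcases hcond with ⟨h1, h3, h4⟩ | ⟨h1, h3, h4, h5⟩
      · left
        exact ⟨hrp, by omega, h1, h3, h4⟩
      · right
        exact ⟨hrp, by omega, h1, h3, h4, h5⟩
  · rintro (⟨rfl, hp2, hcond⟩ | ⟨hrp, hr2, h1, h3, h4⟩ | ⟨hrp, hr2, h1, h3, h4, h5⟩) x hx hxr _
    · have hodd := Cfsg.Agent.Lib.Helper24.Or.odd_card_of_char_ne_two (F := F) (p := p) hp2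
      have h2 := Cfsg.Agent.Lib.Helper24.Or.two_ne_zero_odd hodd
      exact Cfsg.Agent.Lib.Helper24.Or.bwd73_two h2 d m (by omega) (by omega) hcond x hx hxr
    · exact Cfsg.Agent.Lib.Helper24.Or.bwd73_odd (p := p) d m (by omega) (by omega) r (by omega)
        hrp c hc ((Cfsg.Agent.Lib.Helper24.Or.evenCond_plus _ _ _ _ _).2 (Or.inl ⟨h1, h3, h4⟩))
        x hx hxr
    · exact Cfsg.Agent.Lib.Helper24.Or.bwd73_odd (p := p) d m (by omega) (by omega) r (by omega)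
        hrp c hc ((Cfsg.Agent.Lib.Helper24.Or.evenCond_plus _ _ _ _ _).2
          (Or.inr ⟨h1, h3, h4, h5⟩)) x hx hxr

end Cfsg.Agent.S5973
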