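import Cfsg.Statements.S5982
-- import your own Cfsg.Agent.* helpers here
import Cfsg.Agent.Lib.Helper22.UnitRF
import Cfsg.Agent.Lib.Helper22.UnitRH
import Cfsg.Agent.Lib.Helper22.UnitRJ

set_option autoImplicit false
open scoped MatrixGroups
open Cfsg

namespace Cfsg.Agent.S5982

/-- Elements of prime order of PSL_n(q), q = q₀², and the subgroups of unitary type. Here `T = PSL_n(F)` for a field `F` with `q = q₀²` elements (`n ≥ 3`), `f` is a non-degenerate unitary form on `F^n` for the involutory automorphism `x ↦ x^{q₀}`, and `H` is the subgroup of matrices of determinant 1 that preserve `f` up to a scalar — a subgroup of type GU_n(q₀) (maximality is not assumed); Ω is the set of cosets of `H` in `T`, so an element of `T` of prime order `r` (a matrix `x` of determinant 1 with `x^r` scalar, `x` not scalar) fixes a point of Ω exactly when some conjugate of `x` by a matrix of determinant 1 preserves `f` up to a scalar. Let `r` be a prime dividing the index of `H`, with `r =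 2` or `r` different from the characteristic `p`, and with `(n, r) ≠ (6, 3)`. Then every element of `T` of order `r` fixes a point of Ω if and only if either `r = 2` and (`p = 2` or `(n)_2 ≤ (q − 1)_2`), or `r ∈ {3, 5}`, `n = r` and `(q₀ − 1)_r = r`. (Odd `r = p` and the case `(n, r) = (6, 3)` are not covered by this statement.) -/
theorem result {F : Type*} [Field F] [Fintype F] {p : ℕ} [Fact p.Prime] [CharP F p] {q : ℕ} (hq : Fintype.card F = q)
    (q₀ : ℕ) (hq₀ : q = q₀ ^ 2) (n : ℕ) (hn : 3 ≤ n) (f : (Fin n → F) → (Fin n → F) → F) (hf : Cfsg.Geo.IsUnitaryFormPow q₀ f)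
    (r : ℕ) [Fact r.Prime] (hr : r = 2 ∨ r ≠ p) (hgap : ¬ (n = 6 ∧ r = 3))
    (hΩ : r ∣ (Cfsg.Geo.similarityGroup f).relIndex (Cfsg.Geo.specialLinear (Fin n) F)) :
    (∀ x ∈ Cfsg.Geo.specialLinear (Fin n) F, (∃ z : F, ((x ^ r : GL (Fin n) F) : Matrix (Fin n) (Fin n) F) = z • (1 : Matrix (Fin n) (Fin n) F)) →
      (∀ z : F, (x : Matrix (Fin n) (Fin n) F) ≠ z • (1 : Matrix (Fin n) (Fin n) F)) →
      ∃ g ∈ Cfsg.Geo.specialLinear (Fin n) F, g⁻¹ * x * g ∈ Cfsg.Geo.similarityGroup f) ↔
    ((r = 2 ∧ (p = 2 ∨ padicValNat 2 n ≤ padicValNat 2 (q - 1))) ∨ ((r = 3 ∨ r = 5) ∧ n = r ∧ padicValNat r (q₀ - 1) = 1)) := by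
  classical
  subst hq
  have hp : p.Prime := Fact.out
  have hr' : r.Prime := Fact.out
  have hF : Fintype.card F = q₀ ^ 2 := hq₀
  have hq2 := Cfsg.Agent.Lib.Helper14.herm_two_le hF
  obtain ⟨e, hq₀e⟩ : ∃ e, q₀ = p ^ e := by
    obtain ⟨p', j, hp', hchar, hj⟩ := Cfsg.Agent.Lib.Helper14.herm_exists_char hF
    have : p = p' := CharP.eq F (‹CharP F p›) hchar
    exact ⟨j, by rw [this]; exact hj⟩
  set σ : F →+* F := iterateFrobenius F p e with hσdef
  have hσ : ∀ c, σ c = c ^ q₀ := by
    intro c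
    rw [hσdef, iterateFrobenius_def, hq₀e]
  obtain ⟨S, hS⟩ := Cfsg.Agent.Lib.Helper22.UnitR.exists_std_basis hF n f hf
  have hmem := Cfsg.Agent.Lib.Helper22.UnitR.mem_sim_iff hF n (by omega) f S hS
  constructor
  · intro hall
    by_contra hneg
    obtain ⟨hneg1, hneg2⟩ := not_or.1 hneg
    have hbad : ∀ x : GL (Fin n) F, x ∈ Cfsg.Geo.specialLinear (Fin n) F →
        (∃ z : F, ((x ^ r : GL (Fin n) F) : Matrix (Fin n) (Fin n) F) = z • 1) →
        (∀ z : F, (x : Matrix (Fin n) (Fin n) F) ≠ z • 1) →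
        (∀ g : GL (Fin n) F, ¬ Cfsg.Agent.Lib.Helper22.UnitR.UniUpTo F q₀ n
          ((S⁻¹ * (g⁻¹ * x * g) * S : GL (Fin n) F) : Matrix (Fin n) (Fin n) F)) → False := by
      intro x hx h1 h2 h3
      obtain ⟨g, -, hg⟩ := hall x hx h1 h2
      exact h3 g ((hmem _).1 hg)
    by_cases h2 : r = 2
    · subst h2
      have hp2 : p ≠ 2 := fun h => hneg1 ⟨rfl, Or.inl h⟩
      have hv : padicValNat 2 (Fintype.card F - 1) < padicValNat 2 n := by
        by_contra h
        exact hneg1 ⟨rfl, Or.inr (not_lt.1 h)⟩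
      obtain ⟨x, hx, h1, h2, h3⟩ := Cfsg.Agent.Lib.Helper22.UnitR.bad_two hp2 hF n hv S
      exact hbad x hx h1 h2 h3
    · have hrp : r ≠ p := hr.resolve_left h2
      have hrq₀ : ¬ r ∣ q₀ := by
        intro h
        rw [hq₀e] at h
        exact hrp ((Nat.prime_dvd_prime_iff_eq hr' hp).1 (hr'.dvd_of_dvd_pow h))
      obtain ⟨j, hj1, hjn, hj⟩ := Cfsg.Agent.Lib.Helper22.UnitR.exists_pow_eq_neg_one hF n
        (by omega) S (Cfsg.Geo.similarityGroup f) hmem r hr' hrq₀ hΩ
      have hneg11 : (-1 : ZMod r) ≠ 1 := by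
        intro h
        have h11 : ((2 : ℕ) : ZMod r) = 0 := by
          have : (2 : ZMod r) = 1 - (-1) := by ring
          push_cast
          rw [this, h, sub_self]
        rw [ZMod.natCast_eq_zero_iff] at h11
        have := Nat.le_of_dvd (by norm_num) h11
        have := hr'.two_le
        omega
      by_cases h1 : r ∣ Fintype.card F - 1
      · -- r ∣ q₀ - 1
        have hsq : (q₀ : ZMod r) ^ 2 = 1 := by
          rw [hF] at h1
          exact (Cfsg.Agent.Lib.Helper22.SubfR.dvd_pow_sub_one_iff r q₀ 2 (by omega)).1 h1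
        have hq₀1 : (q₀ : ZMod r) = 1 := by
          have h3 : ((q₀ : ZMod r) - 1) * ((q₀ : ZMod r) + 1) = 0 := by
            have : ((q₀ : ZMod r) - 1) * ((q₀ : ZMod r) + 1) = (q₀ : ZMod r) ^ 2 - 1 := by ring
            rw [this, hsq, sub_self]
          rcases mul_eq_zero.1 h3 with h | h
          · exact sub_eq_zero.1 h
          · exfalso
            have h4 : -(q₀ : ZMod r) = 1 := by
              have := eq_neg_of_add_eq_zero_left h
              rw [this, neg_neg]
            rw [h4, one_pow] at hj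
            exact hneg11 hj.symm
        have hdvd0 : r ∣ q₀ - 1 := by
          have := (Cfsg.Agent.Lib.Helper22.SubfR.dvd_pow_sub_one_iff r q₀ 1 (by omega)).2
            (by rw [pow_one]; exact hq₀1)
          rwa [pow_one] at this
        obtain ⟨lam, hlam⟩ := Cfsg.Agent.Lib.Helper22.SubfR.exists_primitive_root r hr' h1
        have hlamr : lam ^ r = 1 := hlam.pow_eq_one
        have hlam0 : lam ≠ 0 := by
          rintro rfl
          rw [zero_pow hr'.ne_zero] at hlamr
          exact zero_ne_one hlamr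
        have hlamq : lam ^ q₀ = lam := by
          obtain ⟨s, hs⟩ := hdvd0
          have : q₀ = r * s + 1 := by omega
          rw [this, pow_succ, pow_mul, hlamr, one_pow, one_mul]
        have hN : q₀ ^ 2 - 1 - q₀ + q₀ = q₀ ^ 2 - 1 := by
          have : q₀ + 1 ≤ q₀ ^ 2 := by nlinarith
          omega
        have hfix : lam ^ (q₀ ^ 2 - 1 - q₀) ≠ lam := by
          intro h
          have h3 : lam ^ (q₀ ^ 2 - 1 - q₀) * lam ^ q₀ = 1 := by
            rw [← pow_add, hN, ← hF]
            exact FiniteField.pow_card_sub_one_eq_one lam hlam0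
          rw [h, hlamq, ← pow_two] at h3
          have h4 : r ∣ 2 := (hlam.pow_eq_one_iff_dvd _).1 h3
          have := Nat.le_of_dvd (by norm_num) h4
          have := hr'.two_le
          omega
        have hexc : n = r → (r = 3 ∨ r = 5) → r ^ 2 ∣ Fintype.card F - 1 := by
          intro hnr h35
          have hv1 : padicValNat r (q₀ - 1) ≠ 1 := fun hv => hneg2 ⟨h35, hnr, hv⟩
          have hv2 : 2 ≤ padicValNat r (q₀ - 1) := by
            have : 1 ≤ padicValNat r (q₀ - 1) := one_le_padicValNat_of_dvd (by omega) hdvd0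
            omega
          have hsq' : r ^ 2 ∣ q₀ - 1 := (padicValNat_dvd_iff_le (by omega)).2 hv2
          rw [Cfsg.Agent.Lib.Helper22.UnitR.card_sub_one_eq hF]
          exact Dvd.dvd.mul_right hsq' _
        obtain ⟨d, z, hprod, hpow, hne, hunst⟩ := Cfsg.Agent.Lib.Helper22.UnitR.exists_unstable
          (q₀ ^ 2 - 1 - q₀) r hr' h2 lam hlam hfix n hn hgap hexc
        obtain ⟨x, hx, hx1, hx2, hx3⟩ := Cfsg.Agent.Lib.Helper22.UnitR.bad_of_unstable hF σ hσ n r
          d z hprod hpow hne hunst S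
        exact hbad x hx hx1 hx2 hx3
      · obtain ⟨x, hx, hx1, hx2, hx3⟩ := Cfsg.Agent.Lib.Helper22.UnitR.bad_block_elt hq₀e hF σ hσ
          r hr' h2 hrp h1 n j hj1 hjn hj S
        exact hbad x hx hx1 hx2 hx3
  · intro hcond x hx hz hns
    obtain ⟨z, hz⟩ := hz
    rw [Units.val_pow_eq_pow_val] at hz
    have hfin : (∃ g : GL (Fin n) F, g ∈ Cfsg.Geo.specialLinear (Fin n) F ∧
        Cfsg.Agent.Lib.Helper22.UnitR.UniUpTo F q₀ n
          ((S⁻¹ * (g⁻¹ * x * g) * S : GL (Fin n) F) : Matrix (Fin n) (Fin n) F)) →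
        ∃ g ∈ Cfsg.Geo.specialLinear (Fin n) F, g⁻¹ * x * g ∈ Cfsg.Geo.similarityGroup f := by
      rintro ⟨g, hg1, hg2⟩
      exact ⟨g, hg1, (hmem _).2 hg2⟩
    apply hfin
    rcases hcond with ⟨h2, hcase⟩ | ⟨h35, hnr, hv⟩
    · subst h2
      have hxx : (x : Matrix (Fin n) (Fin n) F) * (x : Matrix (Fin n) (Fin n) F) = z • 1 := by
        rw [← pow_two]
        exact hz
      by_cases hp2 : p = 2
      · subst hp2
        exact Cfsg.Agent.Lib.Helper22.UnitR.good_two_even hF n S x z hxx hns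
      · have hv := hcase.resolve_left hp2
        exact Cfsg.Agent.Lib.Helper22.UnitR.good_two_odd hp2 hF n (by omega) hv S x hx z hxx
    · subst hnr
      have hr2 : n ≠ 2 := by
        rcases h35 with h | h <;> omega
      have hrp : n ≠ p := hr.resolve_left hr2
      haveI : NeZero n := ⟨hr'.ne_zero⟩
      rcases h35 with h | h
      · subst h
        exact Cfsg.Agent.Lib.Helper22.UnitR.good_of_sym hF σ hσ 3 hr' hr2 hrp
          Cfsg.Agent.Lib.Helper22.SubfR.sym3 hv S x hx z hz
      · subst h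
        exact Cfsg.Agent.Lib.Helper22.UnitR.good_of_sym hF σ hσ 5 hr' hr2 hrp
          Cfsg.Agent.Lib.Helper22.SubfR.sym5 hv S x hx z hz

end Cfsg.Agent.S5982
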