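import Cfsg.Statements.S5985
-- import your own Cfsg.Agent.* helpers here
import Cfsg.Agent.Lib.Helper15.NonsingPts
import Cfsg.Agent.Lib.Helper15.UniOmega2
import Cfsg.Agent.Lib.Helper15.F2Forms
import Cfsg.Agent.Lib.Helper25.OrthReflRk

set_option autoImplicit false
open scoped MatrixGroups
open Cfsg

namespace Cfsg.Agent.S5985

open Module QuadraticMap Cfsg.Agent.Lib.Helper15 Cfsg.Agent.Lib.Helper15.QuadType
  Cfsg.Agent.Lib.Helper15.NonsingPts
open scoped Matrix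

universe u

section

variable {F : Type u} [Field F]

/-- a nonsingular vector of the plus form -/
def v0 (d : ℕ) (i₀ : Fin d) : Fin d ⊕ Fin d → F :=
  Sum.elim (Pi.single i₀ 1) (Pi.single i₀ 1)

theorem quad_v0 (d : ℕ) (i₀ : Fin d) : Cfsg.quadFormPlus d F (v0 d i₀) = 1 := by
  classical
  unfold Cfsg.quadFormPlus v0
  simp [Pi.single_apply]

theorem v0_ne_zero (d : ℕ) (i₀ : Fin d) : (v0 d i₀ : Fin d ⊕ Fin d → F) ≠ 0 := by
  intro h0
  have := congrFun h0 (Sum.inl i₀)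
  simp [v0] at this

/-- for odd `d`, every involution of the orthogonal group of plus type fixes a nonsingular
point -/
theorem bwd [CharP F 2] (d : ℕ) (hd : Odd d)
    (x : GL (Fin d ⊕ Fin d) F) (hx : x ∈ Cfsg.isometryGroup F (Cfsg.quadFormPlus d F))
    (hx2 : ∃ z : F, ((x ^ 2 : GL (Fin d ⊕ Fin d) F) : Matrix (Fin d ⊕ Fin d) (Fin d ⊕ Fin d) F) =
      z • (1 : Matrix (Fin d ⊕ Fin d) (Fin d ⊕ Fin d) F)) :
    ∃ W : Submodule F (Fin d ⊕ Fin d → F),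
      (Module.finrank F ↥W = 1 ∧ ∃ v ∈ W, Cfsg.quadFormPlus d F v ≠ 0) ∧
      W.map (Matrix.toLin' (x : Matrix (Fin d ⊕ Fin d) (Fin d ⊕ Fin d) F)) ≤ W := by
  classical
  have hd0 : 0 < d := hd.pos
  obtain ⟨Qs, hQs⟩ : ∃ Qs : QuadraticForm F (Fin d ⊕ Fin d → F), Qs = plusQF d := ⟨_, rfl⟩
  have hQf : ∀ v, Qs v = Cfsg.quadFormPlus d F v := by
    intro v
    rw [hQs]
    exact plusQF_eq d v
  have hnd : (polarBilin Qs).Nondegenerate := by
    rw [hQs]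
    exact plusQF_nondegenerate d
  obtain ⟨T, hT⟩ : ∃ T : End F (Fin d ⊕ Fin d → F),
      T = Matrix.toLin' (x : Matrix (Fin d ⊕ Fin d) (Fin d ⊕ Fin d) F) := ⟨_, rfl⟩
  have hinv : ∀ u, Qs (T u) = Qs u := by
    intro u
    rw [hQf, hQf, hT, Matrix.toLin'_apply]
    exact hx u u
  obtain ⟨z, hz⟩ := hx2
  have hTT : T * T = z • (1 : End F (Fin d ⊕ Fin d → F)) := by
    rw [hT, Module.End.mul_eq_comp, ← Matrix.toLin'_mul, ← pow_two, ← Units.val_pow_eq_pow_val, hz,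
      map_smul, Matrix.toLin'_one]
    rfl
  have hz1 : z = 1 := by
    apply eq_one_of_mul_self
    have h1 : Qs (T (T (v0 d ⟨0, hd0⟩))) = Qs (v0 d ⟨0, hd0⟩) := by
      rw [hinv, hinv]
    have h2 : T (T (v0 d ⟨0, hd0⟩)) = z • (v0 d ⟨0, hd0⟩ : Fin d ⊕ Fin d → F) := by
      have := congrArg (fun X : End F (Fin d ⊕ Fin d → F) => X (v0 d ⟨0, hd0⟩)) hTT
      exact this
    rw [h2, QuadraticMap.map_smul, hQf, quad_v0, smul_eq_mul, mul_one] at h1
    exact h1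
  rw [hz1, one_smul] at hTT
  have hN := sq_zero_of_invol T hTT
  have hker := finrank_le_two_mul_ker (T - 1) hN
  rw [Module.finrank_fintype_fun_eq_card] at hker
  have hcard : Fintype.card (Fin d ⊕ Fin d) = 2 * d := by
    simp
    ring
  rw [hcard] at hker
  have hnts : ¬ ∀ u ∈ LinearMap.ker (T - 1), Cfsg.quadFormPlus d F u = 0 := by
    intro hts
    have h3 : finrank F (LinearMap.ker (T - 1)) ≤ d :=
      ts_plus_le d (LinearMap.ker (T - 1)) hts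
    have h4 : 2 * d ≤ 2 * finrank F (LinearMap.ker (T - 1)) := hker
    have h5 := even_rank_of_ts_ker Qs hnd T hinv hN (fun u hu => by rw [hQf]; exact hts u hu)
    have h6 := LinearMap.finrank_range_add_finrank_ker (T - 1)
    rw [Module.finrank_fintype_fun_eq_card, hcard] at h6
    have h7 : finrank F (LinearMap.range (T - 1)) = d := by omega
    rw [h7] at h5
    exact (Nat.not_even_iff_odd.2 hd) h5
  push Not at hnts
  obtain ⟨u, hu, hQu⟩ := hnts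
  have hu0 : u ≠ 0 := by
    rintro rfl
    apply hQu
    rw [← hQf, QuadraticMap.map_zero]
  have hTu : T u = u := by
    rw [LinearMap.mem_ker, LinearMap.sub_apply, Module.End.one_apply, sub_eq_zero] at hu
    exact hu
  refine ⟨Submodule.span F {u}, ⟨finrank_span_singleton hu0, u, Submodule.mem_span_singleton_self u,
    hQu⟩, ?_⟩
  rw [← hT, Submodule.map_span, Set.image_singleton, hTu]


section fin

variable {F : Type u} [Field F] [Fintype F]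

/-- for odd `r` there is a fixed-point-free element of order `r` in `Ω⁺` -/
theorem fwd1 [CharP F 2] {q : ℕ} (hF : Fintype.card F = q) (d : ℕ) (hd : 3 ≤ d)
    (r : ℕ) [Fact r.Prime]
    (hrΩ : r ∣ Nat.card {W : Submodule F (Fin d ⊕ Fin d → F) // Module.finrank F ↥W = 1 ∧
      ∃ v ∈ W, Cfsg.quadFormPlus d F v ≠ 0})
    (h : ∀ x : GL (Fin d ⊕ Fin d) F, x ∈ Cfsg.Geo.omegaGL (Cfsg.quadFormPlus d F) →
      (∃ z : F, ((x ^ r : GL (Fin d ⊕ Fin d) F) : Matrix (Fin d ⊕ Fin d) (Fin d ⊕ Fin d) F) =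
        z • (1 : Matrix (Fin d ⊕ Fin d) (Fin d ⊕ Fin d) F)) →
      (∀ z : F, (x : Matrix (Fin d ⊕ Fin d) (Fin d ⊕ Fin d) F) ≠
        z • (1 : Matrix (Fin d ⊕ Fin d) (Fin d ⊕ Fin d) F)) →
      ∃ W : Submodule F (Fin d ⊕ Fin d → F),
        (Module.finrank F ↥W = 1 ∧ ∃ v ∈ W, Cfsg.quadFormPlus d F v ≠ 0) ∧
        W.map (Matrix.toLin' (x : Matrix (Fin d ⊕ Fin d) (Fin d ⊕ Fin d) F)) ≤ W) : r = 2 := by
  classical
  by_contra hr2
  have hr := (Fact.out : r.Prime)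
  have hd0 : 0 < d := by omega
  have : Fact (Nat.Prime 2) := ⟨Nat.prime_two⟩
  obtain ⟨Qs, hQs⟩ : ∃ Qs : QuadraticForm F (Fin d ⊕ Fin d → F), Qs = plusQF d := ⟨_, rfl⟩
  have hQf : ∀ v, Qs v = Cfsg.quadFormPlus d F v := by
    intro v
    rw [hQs]
    exact plusQF_eq d v
  have hcoe : ⇑Qs = Cfsg.quadFormPlus d F := funext hQf
  have hnd : (polarBilin Qs).Nondegenerate := by
    rw [hQs]
    exact plusQF_nondegenerate d
  obtain ⟨j, -, hj⟩ := FiniteField.card F 2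
  have hqr : ¬ r ∣ Fintype.card F := by
    rw [hj]
    intro hd'
    exact hr2 ((Nat.prime_dvd_prime_iff_eq hr Nat.prime_two).1 (hr.dvd_of_dvd_pow hd'))
  have hrΩ' : r ∣ Nat.card {W : Submodule F (Fin d ⊕ Fin d → F) // finrank F W = 1 ∧
      ∃ v ∈ W, Qs v ≠ 0} := by
    simpa only [hQf] using hrΩ
  have hcard : Fintype.card (Fin d ⊕ Fin d) = 2 * d := by
    simp
    ring
  have ht : HasType 1 d (fun v => Qs v) :=
    (hasType_plus d).congr (Equiv.refl _) (fun v => hQf v)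
  have hz := zmod_of_dvd_points Qs 1 d hcard ht r hqr hrΩ'
  obtain ⟨B, hB1, hB2, hB3⟩ := exists_fpf_matrix (p := 2) hF (Cfsg.quadFormPlus d F) 1
    (Or.inl rfl) d
    (fun W _ _ _ Q hnd' hdim' ht' => univ_plus Q hnd' d hd0 hdim' ht') r hr hr2 hr2
    (by rw [← hF]; exact hz)
  obtain ⟨r', hr'⟩ : ∃ r', r = r' + 1 := ⟨r - 1, by have := hr.pos; omega⟩
  let g : GL (Fin d ⊕ Fin d) F := ⟨B, B ^ r', by rw [← pow_succ', ← hr', hB2],
    by rw [← pow_succ, ← hr', hB2]⟩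
  have hgmem : g ∈ Cfsg.isometryGroup F ⇑Qs := by
    intro u v
    show Qs (B *ᵥ u) = Qs u
    rw [hQf, hQf]
    exact hB1 u
  obtain ⟨A, hA⟩ : ∃ A : ↥(Cfsg.isometryGroup F ⇑Qs), A = ⟨g, hgmem⟩ := ⟨_, rfl⟩
  have hAB : ((A : GL (Fin d ⊕ Fin d) F) : Matrix (Fin d ⊕ Fin d) (Fin d ⊕ Fin d) F) = B := by
    rw [hA]
  have hAr : A ^ r = 1 := by
    apply Subtype.ext
    apply Units.ext
    rw [Subgroup.coe_pow, Units.val_pow_eq_pow_val, hAB, hB2]
    rfl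
  have hAΩ := Cfsg.Agent.Lib.Helper15.UniOmega2.mem_omega_of_odd_order Qs hnd
    (Or.inr (by rw [hcard]; omega)) A r (hr.odd_of_ne_two hr2) hAr
  have hxmem : (A : GL (Fin d ⊕ Fin d) F) ∈ Cfsg.Geo.omegaGL (Cfsg.quadFormPlus d F) := by
    rw [← hcoe]
    exact Subgroup.mem_map.2 ⟨A, hAΩ, rfl⟩
  have hx1 : ∃ z : F, (((A : GL (Fin d ⊕ Fin d) F) ^ r : GL (Fin d ⊕ Fin d) F) :
      Matrix (Fin d ⊕ Fin d) (Fin d ⊕ Fin d) F) =
      z • (1 : Matrix (Fin d ⊕ Fin d) (Fin d ⊕ Fin d) F) := by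
    refine ⟨1, ?_⟩
    rw [one_smul, Units.val_pow_eq_pow_val, hAB, hB2]
  have hx2 : ∀ z : F, ((A : GL (Fin d ⊕ Fin d) F) : Matrix (Fin d ⊕ Fin d) (Fin d ⊕ Fin d) F) ≠
      z • (1 : Matrix (Fin d ⊕ Fin d) (Fin d ⊕ Fin d) F) := by
    intro z hz'
    rw [hAB] at hz'
    have h1 : B *ᵥ (v0 d ⟨0, hd0⟩) = z • (v0 d ⟨0, hd0⟩ : Fin d ⊕ Fin d → F) := by
      rw [hz', Matrix.smul_mulVec, Matrix.one_mulVec]
    have h2 := hB1 (v0 d ⟨0, hd0⟩)
    rw [h1, ← hQf, QuadraticMap.map_smul, hQf, quad_v0, smul_eq_mul, mul_one] at h2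
    rw [eq_one_of_mul_self z h2, one_smul] at h1
    exact v0_ne_zero d ⟨0, hd0⟩ (hB3 _ h1)
  obtain ⟨W, ⟨hW1, v, hvW, hQv⟩, hWx⟩ := h _ hxmem hx1 hx2
  rw [hAB] at hWx
  have hfix := fixed_vector_of_fixed_point Qs (Matrix.toLin' B)
    (fun u => by rw [hQf, hQf, Matrix.toLin'_apply]; exact hB1 u) W hW1 v hvW
    (by rw [hQf]; exact hQv) hWx
  rw [Matrix.toLin'_apply] at hfix
  have hv0 := hB3 v hfix
  apply hQv
  rw [hv0, ← hQf, QuadraticMap.map_zero]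

end fin

end

section invol2

variable {F : Type u} [Field F]

/-- a fixed-point-free involution of `Fin d`, `d` even -/
def sig (d : ℕ) (hd : Even d) (i : Fin d) : Fin d :=
  if h : i.val % 2 = 0 then ⟨i.val + 1, by obtain ⟨e, he⟩ := hd; have := i.2; omega⟩
  else ⟨i.val - 1, by have := i.2; omega⟩

theorem sig_val (d : ℕ) (hd : Even d) (i : Fin d) :
    (sig d hd i).val = if i.val % 2 = 0 then i.val + 1 else i.val - 1 := by
  unfold sig
  split_ifs <;> rfl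

theorem sig_sig (d : ℕ) (hd : Even d) (i : Fin d) : sig d hd (sig d hd i) = i := by
  apply Fin.ext
  rw [sig_val, sig_val]
  split_ifs <;> omega

theorem sig_ne (d : ℕ) (hd : Even d) (i : Fin d) : sig d hd i ≠ i := by
  intro h
  have := congrArg Fin.val h
  rw [sig_val] at this
  split_ifs at this <;> omega

/-- the involution `(u, w) ↦ (u + w ∘ σ, w)` -/
def Tinv (d : ℕ) (hd : Even d) : End F (Fin d ⊕ Fin d → F) where
  toFun v := Sum.elim (fun i => v (Sum.inl i) + v (Sum.inr (sig d hd i))) (fun i => v (Sum.inr i))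
  map_add' u v := by
    ext (i | i)
    · simp only [Pi.add_apply, Sum.elim_inl]
      ring
    · simp only [Pi.add_apply, Sum.elim_inr]
  map_smul' c v := by
    ext (i | i)
    · simp only [Pi.smul_apply, Sum.elim_inl, smul_eq_mul, RingHom.id_apply]
      ring
    · simp only [Pi.smul_apply, Sum.elim_inr, smul_eq_mul, RingHom.id_apply]

theorem Tinv_inl (d : ℕ) (hd : Even d) (v : Fin d ⊕ Fin d → F) (i : Fin d) :
    Tinv d hd v (Sum.inl i) = v (Sum.inl i) + v (Sum.inr (sig d hd i)) := rfl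

theorem Tinv_inr (d : ℕ) (hd : Even d) (v : Fin d ⊕ Fin d → F) (i : Fin d) :
    Tinv d hd v (Sum.inr i) = v (Sum.inr i) := rfl

theorem Tinv_sq [CharP F 2] (d : ℕ) (hd : Even d) : (Tinv d hd : End F _) * Tinv d hd = 1 := by
  apply LinearMap.ext
  intro v
  ext (i | i)
  · rw [Module.End.mul_apply, Tinv_inl, Tinv_inl, Tinv_inr, Module.End.one_apply, add_assoc,
      CharTwo.add_self_eq_zero, add_zero]
  · rw [Module.End.mul_apply, Tinv_inr, Tinv_inr, Module.End.one_apply]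

theorem Tinv_quad [CharP F 2] (d : ℕ) (hd : Even d) (v : Fin d ⊕ Fin d → F) :
    Cfsg.quadFormPlus d F (Tinv d hd v) = Cfsg.quadFormPlus d F v := by
  unfold Cfsg.quadFormPlus
  have h1 : ∑ i : Fin d, v (Sum.inr (sig d hd i)) * v (Sum.inr i) = 0 := by
    apply Finset.sum_involution (fun i _ => sig d hd i)
    · intro i _
      rw [sig_sig, mul_comm (v (Sum.inr i)), CharTwo.add_self_eq_zero]
    · intro i _ _
      exact sig_ne d hd i
    · intro i _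
      exact Finset.mem_univ _
    · intro i _
      exact sig_sig d hd i
  have h2 : ∀ i : Fin d, Tinv d hd v (Sum.inl i) * Tinv d hd v (Sum.inr i) =
      v (Sum.inl i) * v (Sum.inr i) + v (Sum.inr (sig d hd i)) * v (Sum.inr i) := by
    intro i
    rw [Tinv_inl, Tinv_inr]
    ring
  simp only [h2]
  rw [Finset.sum_add_distrib, h1, add_zero]

theorem Tinv_fixed (d : ℕ) (hd : Even d) (v : Fin d ⊕ Fin d → F) (hv : Tinv d hd v = v)
    (i : Fin d) : v (Sum.inr i) = 0 := by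
  have := congrFun hv (Sum.inl (sig d hd i))
  rw [Tinv_inl, sig_sig] at this
  exact left_eq_add.1 this.symm

theorem Tinv_of_std (d : ℕ) (hd : Even d) (v : Fin d ⊕ Fin d → F) (hv : ∀ i, v (Sum.inr i) = 0) :
    Tinv d hd v = v := by
  ext (i | i)
  · rw [Tinv_inl, hv, add_zero]
  · rw [Tinv_inr]

end invol2

section fin2

variable {F : Type u} [Field F] [Fintype F]

open Cfsg.Agent.Lib.Helper25.OrthDet Cfsg.Agent.Lib.Helper25.MaxTS

omit [Fintype F] in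
theorem mem_stdE_iff (d : ℕ) (v : Fin d ⊕ Fin d → F) :
    v ∈ stdE d (F := F) ↔ ∀ i, v (Sum.inr i) = 0 := by
  unfold stdE
  rw [LinearMap.mem_ker]
  constructor
  · intro h i
    have := congrFun h i
    rwa [LinearMap.funLeft_apply] at this
  · intro h
    funext i
    rw [LinearMap.funLeft_apply]
    exact h i

/-- for even `d` there is an involution in `Ω⁺` whose fixed space is totally singular -/
theorem fwd2 [CharP F 2] (d : ℕ) (hd : 3 ≤ d) (hde : Even d)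
    (h : ∀ x : GL (Fin d ⊕ Fin d) F, x ∈ Cfsg.Geo.omegaGL (Cfsg.quadFormPlus d F) →
      (∃ z : F, ((x ^ 2 : GL (Fin d ⊕ Fin d) F) : Matrix (Fin d ⊕ Fin d) (Fin d ⊕ Fin d) F) =
        z • (1 : Matrix (Fin d ⊕ Fin d) (Fin d ⊕ Fin d) F)) →
      (∀ z : F, (x : Matrix (Fin d ⊕ Fin d) (Fin d ⊕ Fin d) F) ≠
        z • (1 : Matrix (Fin d ⊕ Fin d) (Fin d ⊕ Fin d) F)) →
      ∃ W : Submodule F (Fin d ⊕ Fin d → F),
        (Module.finrank F ↥W = 1 ∧ ∃ v ∈ W, Cfsg.quadFormPlus d F v ≠ 0) ∧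
        W.map (Matrix.toLin' (x : Matrix (Fin d ⊕ Fin d) (Fin d ⊕ Fin d) F)) ≤ W) : False := by
  classical
  have hd0 : 0 < d := by omega
  obtain ⟨T, hT⟩ : ∃ T : End F (Fin d ⊕ Fin d → F), T = Tinv d hde := ⟨_, rfl⟩
  obtain ⟨M, hM⟩ : ∃ M : Matrix (Fin d ⊕ Fin d) (Fin d ⊕ Fin d) F, M = LinearMap.toMatrix' T :=
    ⟨_, rfl⟩
  have hMv : ∀ v, M *ᵥ v = T v := by
    intro v
    rw [hM, ← Matrix.toLin'_apply, Matrix.toLin'_toMatrix']
  have hMM : M * M = 1 := by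
    rw [hM, ← LinearMap.toMatrix'_mul, hT, Tinv_sq, LinearMap.toMatrix'_one]
  let g : GL (Fin d ⊕ Fin d) F := ⟨M, M, hMM, hMM⟩
  have hgmem : g ∈ Cfsg.isometryGroup F (Cfsg.quadFormPlus d F) := by
    intro u v
    show Cfsg.quadFormPlus d F (M *ᵥ u) = Cfsg.quadFormPlus d F u
    rw [hMv, hT, Tinv_quad]
  obtain ⟨A, hA⟩ : ∃ A : ↥(Cfsg.isometryGroup F (Cfsg.quadFormPlus d F)), A = ⟨g, hgmem⟩ :=
    ⟨_, rfl⟩
  have hAM : ((A : GL (Fin d ⊕ Fin d) F) : Matrix (Fin d ⊕ Fin d) (Fin d ⊕ Fin d) F) = M := by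
    rw [hA]
  have hmap : (stdE d (F := F)).map M.mulVecLin = stdE d := by
    apply le_antisymm
    · rintro _ ⟨v, hv, rfl⟩
      rw [Matrix.mulVecLin_apply, hMv, hT, Tinv_of_std d hde v ((mem_stdE_iff d v).1 hv)]
      exact hv
    · intro v hv
      refine ⟨v, hv, ?_⟩
      rw [Matrix.mulVecLin_apply, hMv, hT, Tinv_of_std d hde v ((mem_stdE_iff d v).1 hv)]
  have hrk : rk M = 0 := by
    unfold rk
    rw [hmap, inf_idem, stdE_finrank, Nat.sub_self]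
  have hAΩ : A ∈ Cfsg.Omega F (Cfsg.quadFormPlus d F) :=
    mem_omega_of_even_rk (by omega) (Or.inr (by omega)) A (by rw [hAM, hrk]; exact Even.zero)
  have hxmem : (A : GL (Fin d ⊕ Fin d) F) ∈ Cfsg.Geo.omegaGL (Cfsg.quadFormPlus d F) :=
    Subgroup.mem_map.2 ⟨A, hAΩ, rfl⟩
  have hx1 : ∃ z : F, (((A : GL (Fin d ⊕ Fin d) F) ^ 2 : GL (Fin d ⊕ Fin d) F) :
      Matrix (Fin d ⊕ Fin d) (Fin d ⊕ Fin d) F) =
      z • (1 : Matrix (Fin d ⊕ Fin d) (Fin d ⊕ Fin d) F) := by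
    refine ⟨1, ?_⟩
    rw [one_smul, Units.val_pow_eq_pow_val, hAM, pow_two, hMM]
  have hx2 : ∀ z : F, ((A : GL (Fin d ⊕ Fin d) F) : Matrix (Fin d ⊕ Fin d) (Fin d ⊕ Fin d) F) ≠
      z • (1 : Matrix (Fin d ⊕ Fin d) (Fin d ⊕ Fin d) F) := by
    intro z hz'
    rw [hAM] at hz'
    obtain ⟨i₀, hi₀⟩ : ∃ i₀ : Fin d, i₀ = ⟨0, hd0⟩ := ⟨_, rfl⟩
    have h1 : M *ᵥ (Pi.single (Sum.inr i₀) 1) =
        z • (Pi.single (Sum.inr i₀) 1 : Fin d ⊕ Fin d → F) := by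
      rw [hz', Matrix.smul_mulVec, Matrix.one_mulVec]
    have h2 := congrFun h1 (Sum.inl (sig d hde i₀))
    rw [hMv, hT, Tinv_inl, sig_sig] at h2
    simp at h2
  obtain ⟨W, ⟨hW1, v, hvW, hQv⟩, hWx⟩ := h _ hxmem hx1 hx2
  rw [hAM] at hWx
  have hfix := fixed_vector_of_fixed_point (plusQF d) (Matrix.toLin' M)
    (fun u => by rw [plusQF_eq, plusQF_eq, Matrix.toLin'_apply, hMv, hT, Tinv_quad]) W hW1 v hvW
    (by rw [plusQF_eq]; exact hQv) hWx
  rw [Matrix.toLin'_apply, hMv, hT] at hfix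
  apply hQv
  unfold Cfsg.quadFormPlus
  apply Finset.sum_eq_zero
  intro i _
  rw [Tinv_fixed d hde v hfix i, mul_zero]

theorem main [CharP F 2] {q : ℕ} (hF : Fintype.card F = q) (d : ℕ) (hd : 4 ≤ d)
    (r : ℕ) [Fact r.Prime]
    (hrΩ : r ∣ Nat.card {W : Submodule F (Fin d ⊕ Fin d → F) // Module.finrank F ↥W = 1 ∧
      ∃ v ∈ W, Cfsg.quadFormPlus d F v ≠ 0}) :
    (∀ x : GL (Fin d ⊕ Fin d) F, x ∈ Cfsg.Geo.omegaGL (Cfsg.quadFormPlus d F) →
      (∃ z : F, ((x ^ r : GL (Fin d ⊕ Fin d) F) : Matrix (Fin d ⊕ Fin d) (Fin d ⊕ Fin d) F) =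
        z • (1 : Matrix (Fin d ⊕ Fin d) (Fin d ⊕ Fin d) F)) →
      (∀ z : F, (x : Matrix (Fin d ⊕ Fin d) (Fin d ⊕ Fin d) F) ≠
        z • (1 : Matrix (Fin d ⊕ Fin d) (Fin d ⊕ Fin d) F)) →
      ∃ W : Submodule F (Fin d ⊕ Fin d → F),
        (Module.finrank F ↥W = 1 ∧ ∃ v ∈ W, Cfsg.quadFormPlus d F v ≠ 0) ∧
        W.map (Matrix.toLin' (x : Matrix (Fin d ⊕ Fin d) (Fin d ⊕ Fin d) F)) ≤ W) ↔
      (r = 2 ∧ Odd d) := by
  constructor
  · intro h
    have hr2 : r = 2 := fwd1 hF d (by omega) r hrΩ h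
    refine ⟨hr2, ?_⟩
    subst hr2
    by_contra hodd
    exact fwd2 d (by omega) (Nat.not_odd_iff_even.1 hodd) h
  · rintro ⟨rfl, hodd⟩ x hx hx2 -
    obtain ⟨A, -, rfl⟩ := Subgroup.mem_map.1 hx
    exact bwd d hodd _ A.2 hx2

end fin2

/-- Elements of prime order of Ω⁺_n(q), q even, with no fixed nonsingular 1-space. Here `T = PΩ⁺_n(F)`, `n = 2d ≥ 8`, realised through `Ω⁺_n(q)`, the commutator subgroup of the isometry group of `Q = Σ xᵢyᵢ` over the field `F` with `q` elements; an element of `T` of prime order `r` is an element `x` of `Ω⁺_n(q)` with `x^r` scalar and `x` not scalar; `q` is even (so the centre is trivial). Let Ω be the set of 1-dimensional subspaces spanned by a vector `v` with `Q(v) ≠ 0`, and let `r` be a prime dividing their number. Then every element of `T` of order `r` fixes some nonsingular 1-space if and only if `r = 2` and `n ≡ 2 (mod 4)` (that is, `d` is odd). -/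
theorem result {F : Type*} [Field F] [Fintype F] {p : ℕ} [Fact p.Prime] [CharP F p] {q : ℕ} (hq : Fintype.card F = q)
    (hp : p = 2) (d : ℕ) (hd : 4 ≤ d) (r : ℕ) [Fact r.Prime]
    (hrΩ : r ∣ Nat.card {W : Submodule F (Fin d ⊕ Fin d → F) // Module.finrank F ↥W = 1 ∧ ∃ v ∈ W, Cfsg.quadFormPlus d F v ≠ 0}) :
    (∀ x : GL (Fin d ⊕ Fin d) F, x ∈ Cfsg.Geo.omegaGL (Cfsg.quadFormPlus d F) →
      (∃ z : F, ((x ^ r : GL (Fin d ⊕ Fin d) F) : Matrix (Fin d ⊕ Fin d) (Fin d ⊕ Fin d) F) = z • (1 : Matrix (Fin d ⊕ Fin d) (Fin d ⊕ Fin d) F)) →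
      (∀ z : F, (x : Matrix (Fin d ⊕ Fin d) (Fin d ⊕ Fin d) F) ≠ z • (1 : Matrix (Fin d ⊕ Fin d) (Fin d ⊕ Fin d) F)) →
      ∃ W : Submodule F (Fin d ⊕ Fin d → F), (Module.finrank F ↥W = 1 ∧ ∃ v ∈ W, Cfsg.quadFormPlus d F v ≠ 0) ∧ W.map (Matrix.toLin' (x : Matrix (Fin d ⊕ Fin d) (Fin d ⊕ Fin d) F)) ≤ W) ↔ (r = 2 ∧ Odd d) := by
  subst hp; exact main hq d hd r hrΩ

end Cfsg.Agent.S5985
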