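import Cfsg.Statements.S5983
-- import your own Cfsg.Agent.* helpers here
import Cfsg.Agent.Lib.Helper15.SpOrthIndex
import Cfsg.Agent.S5985

set_option autoImplicit false
open scoped MatrixGroups
open Cfsg

namespace Cfsg.Agent.S5983

open Module QuadraticMap Cfsg.Agent.Lib.Helper15 Cfsg.Agent.Lib.Helper15.QuadType
  Cfsg.Agent.Lib.Helper15.TraceSum Cfsg.Agent.Lib.Helper15.PolarForms
  Cfsg.Agent.Lib.Helper15.SpOrthIndex Cfsg.Agent.Lib.Helper15.NonsingPts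
  Cfsg.Agent.Lib.Helper5.SpMax Cfsg.Agent.Lib.Helper15.QuadReal
  Cfsg.Agent.Lib.Helper15.QuadClasses
open scoped Matrix

universe u

theorem z2_ne_one : ∀ a : ZMod 2, a ≠ 1 → a = 0 := by decide

theorem chi2_one : chi2 1 = -1 := by decide

section

variable {F : Type u} [Field F]

/-- the given function as a quadratic form -/
theorem exists_qf (d : ℕ) (Q : (Fin d ⊕ Fin d → F) → F)
    (hQ : Cfsg.Geo.IsNondegenerateQuadraticForm Q)
    (hQf : ∀ u v, QuadraticMap.polar Q u v = Cfsg.sympForm d F u v) :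
    ∃ Qm : QuadraticForm F (Fin d ⊕ Fin d → F), ⇑Qm = Q := by
  refine ⟨QuadraticMap.ofPolar Q ?_ ?_ ?_, rfl⟩
  · intro a x
    rw [hQ.smul, smul_eq_mul, pow_two]
  · intro x x' y
    rw [hQf, hQf, hQf, ← sympBilin_apply, ← sympBilin_apply, ← sympBilin_apply, map_add,
      LinearMap.add_apply]
  · intro a x y
    rw [hQf, hQf, ← sympBilin_apply, ← sympBilin_apply, map_smul, LinearMap.smul_apply]

theorem sympForm_smul_smul (d : ℕ) (z : F) (u v : Fin d ⊕ Fin d → F) :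
    Cfsg.sympForm d F (z • u) (z • v) = z * z * Cfsg.sympForm d F u v := by
  rw [← sympBilin_apply, ← sympBilin_apply, LinearMap.map_smul₂, map_smul, smul_eq_mul,
    smul_eq_mul, mul_assoc]

/-- the linear automorphism of an invertible matrix -/
theorem exists_equiv_of_gl {ι : Type} [Fintype ι] [DecidableEq ι] (g : GL ι F) :
    ∃ E : (ι → F) ≃ₗ[F] (ι → F), ∀ v, E v = (g : Matrix ι ι F) *ᵥ v := by
  refine ⟨LinearEquiv.ofLinear (Matrix.toLin' (g : Matrix ι ι F))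
    (Matrix.toLin' ((g⁻¹ : GL ι F) : Matrix ι ι F)) ?_ ?_, ?_⟩
  · apply LinearMap.ext
    intro v
    rw [LinearMap.comp_apply, Matrix.toLin'_apply, Matrix.toLin'_apply, mul_inv_mulVec]
    rfl
  · apply LinearMap.ext
    intro v
    rw [LinearMap.comp_apply, Matrix.toLin'_apply, Matrix.toLin'_apply, inv_mul_mulVec]
    rfl
  · intro v
    rw [LinearEquiv.ofLinear_apply, Matrix.toLin'_apply]

/-- the involution of type `a_d` shows that for even `d` the form must be of plus type -/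
theorem fwd2 [CharP F 2] (d : ℕ) (hd : 1 ≤ d) (hde : Even d)
    (Q : QuadraticForm F (Fin d ⊕ Fin d → F))
    (hpol : ∀ u v, polar Q u v = Cfsg.sympForm d F u v)
    (h : ∀ x ∈ Cfsg.spGL d F,
      (∃ z : F, ((x ^ 2 : GL (Fin d ⊕ Fin d) F) : Matrix (Fin d ⊕ Fin d) (Fin d ⊕ Fin d) F) =
        z • (1 : Matrix (Fin d ⊕ Fin d) (Fin d ⊕ Fin d) F)) →
      (∀ z : F, (x : Matrix (Fin d ⊕ Fin d) (Fin d ⊕ Fin d) F) ≠
        z • (1 : Matrix (Fin d ⊕ Fin d) (Fin d ⊕ Fin d) F)) →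
      ∃ g ∈ Cfsg.spGL d F, g⁻¹ * x * g ∈ Cfsg.Geo.quadSimilarityGroup (⇑Q)) :
    Cfsg.Geo.IsPlusTypeOn (⇑Q) ⊤ := by
  classical
  have hd0 : 0 < d := hd
  obtain ⟨T, hT⟩ : ∃ T : End F (Fin d ⊕ Fin d → F), T = Cfsg.Agent.S5985.Tinv d hde := ⟨_, rfl⟩
  obtain ⟨M, hM⟩ : ∃ M : Matrix (Fin d ⊕ Fin d) (Fin d ⊕ Fin d) F, M = LinearMap.toMatrix' T :=
    ⟨_, rfl⟩
  have hMv : ∀ v, M *ᵥ v = T v := by
    intro v
    rw [hM, ← Matrix.toLin'_apply, Matrix.toLin'_toMatrix']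
  have hMM : M * M = 1 := by
    rw [hM, ← LinearMap.toMatrix'_mul, hT, Cfsg.Agent.S5985.Tinv_sq, LinearMap.toMatrix'_one]
  obtain ⟨x, hx⟩ : ∃ x : GL (Fin d ⊕ Fin d) F, x = ⟨M, M, hMM, hMM⟩ := ⟨_, rfl⟩
  have hxM : (x : Matrix (Fin d ⊕ Fin d) (Fin d ⊕ Fin d) F) = M := by rw [hx]
  have hxT : x ∈ Cfsg.spGL d F := by
    apply mem_sp_of_isometry (plusQF d) (polar_plusQF d)
    intro v
    rw [hxM, hMv, hT, plusQF_eq, plusQF_eq, Cfsg.Agent.S5985.Tinv_quad]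
  have hx1 : ∃ z : F, ((x ^ 2 : GL (Fin d ⊕ Fin d) F) :
      Matrix (Fin d ⊕ Fin d) (Fin d ⊕ Fin d) F) =
      z • (1 : Matrix (Fin d ⊕ Fin d) (Fin d ⊕ Fin d) F) := by
    refine ⟨1, ?_⟩
    rw [one_smul, Units.val_pow_eq_pow_val, hxM, pow_two, hMM]
  have hx2 : ∀ z : F, (x : Matrix (Fin d ⊕ Fin d) (Fin d ⊕ Fin d) F) ≠
      z • (1 : Matrix (Fin d ⊕ Fin d) (Fin d ⊕ Fin d) F) := by
    intro z hz'
    rw [hxM] at hz'
    obtain ⟨i₀, hi₀⟩ : ∃ i₀ : Fin d, i₀ = ⟨0, hd0⟩ := ⟨_, rfl⟩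
    have h1 : M *ᵥ (Pi.single (Sum.inr i₀) 1) =
        z • (Pi.single (Sum.inr i₀) 1 : Fin d ⊕ Fin d → F) := by
      rw [hz', Matrix.smul_mulVec, Matrix.one_mulVec]
    have h2 := congrFun h1 (Sum.inl (Cfsg.Agent.S5985.sig d hde i₀))
    rw [hMv, hT, Cfsg.Agent.S5985.Tinv_inl, Cfsg.Agent.S5985.sig_sig] at h2
    simp at h2
  obtain ⟨g, hg, hmem⟩ := h x hxT hx1 hx2
  have hyT : g⁻¹ * x * g ∈ Cfsg.spGL d F :=
    (Cfsg.spGL d F).mul_mem ((Cfsg.spGL d F).mul_mem ((Cfsg.spGL d F).inv_mem hg) hxT) hg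
  have hiso := isometry_of_sim hd0 Q hpol _ hyT hmem
  have hyv : ∀ v, ((g⁻¹ * x * g : GL (Fin d ⊕ Fin d) F) :
      Matrix (Fin d ⊕ Fin d) (Fin d ⊕ Fin d) F) *ᵥ v =
      ((g⁻¹ : GL (Fin d ⊕ Fin d) F) : Matrix (Fin d ⊕ Fin d) (Fin d ⊕ Fin d) F) *ᵥ
        (T ((g : Matrix (Fin d ⊕ Fin d) (Fin d ⊕ Fin d) F) *ᵥ v)) := by
    intro v
    rw [Units.val_mul, Units.val_mul, ← Matrix.mulVec_mulVec, ← Matrix.mulVec_mulVec, hxM, hMv]
  -- the linear automorphism `g⁻¹`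
  obtain ⟨E, hE⟩ := exists_equiv_of_gl (g⁻¹ : GL (Fin d ⊕ Fin d) F)
  obtain ⟨h1, h2⟩ := plus_std_ts (F := F) d
  refine ⟨(LinearMap.ker (LinearMap.funLeft F F (Sum.inr : Fin d → Fin d ⊕ Fin d))).map
    (E : (Fin d ⊕ Fin d → F) →ₗ[F] (Fin d ⊕ Fin d → F)), le_top, ?_, ?_⟩
  · rintro _ ⟨w, hw, rfl⟩
    show Q (E w) = 0
    have hw0 : ∀ i, w (Sum.inr i) = 0 := by
      intro i
      have hw2 : w ∈ LinearMap.ker (LinearMap.funLeft F F (Sum.inr : Fin d → Fin d ⊕ Fin d)) := hw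
      rw [LinearMap.mem_ker] at hw2
      have := congrFun hw2 i
      rwa [LinearMap.funLeft_apply] at this
    -- `w = T w' + w'` with `w' = (0, w ∘ σ)`
    obtain ⟨w', hw'⟩ : ∃ w' : Fin d ⊕ Fin d → F, w' = Sum.elim (fun _ => (0 : F))
      (fun i => w (Sum.inl (Cfsg.Agent.S5985.sig d hde i))) := ⟨_, rfl⟩
    have hww : T w' + w' = w := by
      ext (i | i)
      · rw [Pi.add_apply, hT, Cfsg.Agent.S5985.Tinv_inl, hw']
        simp [Cfsg.Agent.S5985.sig_sig]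
      · rw [Pi.add_apply, hT, Cfsg.Agent.S5985.Tinv_inr, hw', hw0]
        simp [CharTwo.add_self_eq_zero]
    obtain ⟨v', hv'⟩ : ∃ v' : Fin d ⊕ Fin d → F, v' = E w' := ⟨_, rfl⟩
    have hgv' : (g : Matrix (Fin d ⊕ Fin d) (Fin d ⊕ Fin d) F) *ᵥ v' = w' := by
      rw [hv', hE, mul_inv_mulVec]
    have h3 : E w = ((g⁻¹ * x * g : GL (Fin d ⊕ Fin d) F) :
        Matrix (Fin d ⊕ Fin d) (Fin d ⊕ Fin d) F) *ᵥ v' + v' := by
      rw [hyv, hgv', ← hE, hv', ← map_add, hww]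
    have h4 : Q (E w) = Q (((g⁻¹ * x * g : GL (Fin d ⊕ Fin d) F) :
        Matrix (Fin d ⊕ Fin d) (Fin d ⊕ Fin d) F) *ᵥ v') + Q v' +
        polar Q (((g⁻¹ * x * g : GL (Fin d ⊕ Fin d) F) :
        Matrix (Fin d ⊕ Fin d) (Fin d ⊕ Fin d) F) *ᵥ v') v' := by
      rw [h3, polar]
      ring
    rw [h4, hiso, CharTwo.add_self_eq_zero, zero_add, hpol, hyv, hgv']
    -- `f (g⁻¹ T w') (g⁻¹ w') = f (T w') w' = 0`
    have h5 : v' = ((g⁻¹ : GL (Fin d ⊕ Fin d) F) :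
        Matrix (Fin d ⊕ Fin d) (Fin d ⊕ Fin d) F) *ᵥ w' := by rw [hv', hE]
    rw [h5, mem_spGL.1 ((Cfsg.spGL d F).inv_mem hg), ← polar_plusQF, polar, plusQF_eq, plusQF_eq,
      plusQF_eq, hT, Cfsg.Agent.S5985.Tinv_quad, ← hT, hww]
    have h6 : Cfsg.quadFormPlus d F w = 0 := h1 w hw
    rw [h6]
    have h2' : (2 : F) = 0 := CharTwo.two_eq_zero
    linear_combination (-(Cfsg.quadFormPlus d F w')) * h2'
  · rw [LinearEquiv.finrank_map_eq E, h2, finrank_top, finrank_V]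

end

section fin

variable {F : Type u} [Field F] [Fintype F]

/-- for odd `r` dividing the index there is an element of order `r` with no conjugate in the
orthogonal group -/
theorem fwd1 [CharP F 2] {q : ℕ} (hF : Fintype.card F = q) (d : ℕ) (hd : 1 ≤ d)
    (Q : QuadraticForm F (Fin d ⊕ Fin d → F))
    (hpol : ∀ u v, polar Q u v = Cfsg.sympForm d F u v) (r : ℕ) [Fact r.Prime]
    (hΩ : r ∣ (Cfsg.Geo.quadSimilarityGroup (⇑Q)).relIndex (Cfsg.spGL d F))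
    (h : ∀ x ∈ Cfsg.spGL d F,
      (∃ z : F, ((x ^ r : GL (Fin d ⊕ Fin d) F) : Matrix (Fin d ⊕ Fin d) (Fin d ⊕ Fin d) F) =
        z • (1 : Matrix (Fin d ⊕ Fin d) (Fin d ⊕ Fin d) F)) →
      (∀ z : F, (x : Matrix (Fin d ⊕ Fin d) (Fin d ⊕ Fin d) F) ≠
        z • (1 : Matrix (Fin d ⊕ Fin d) (Fin d ⊕ Fin d) F)) →
      ∃ g ∈ Cfsg.spGL d F, g⁻¹ * x * g ∈ Cfsg.Geo.quadSimilarityGroup (⇑Q)) : r = 2 := by
  classical
  by_contra hr2
  have hr := (Fact.out : r.Prime)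
  have hd0 : 0 < d := hd
  have : Fact (Nat.Prime 2) := ⟨Nat.prime_two⟩
  have hnd := nondeg_of_polar Q hpol
  obtain ⟨ε, hε, ht⟩ := hasType_of_nondeg Q hnd d (finrank_V d)
  obtain ⟨j, -, hj⟩ := FiniteField.card F 2
  have hqr : ¬ r ∣ Fintype.card F := by
    rw [hj]
    intro hd'
    exact hr2 ((Nat.prime_dvd_prime_iff_eq hr Nat.prime_two).1 (hr.dvd_of_dvd_pow hd'))
  -- the arithmetic consequence of the index formula
  rw [relIndex_eq_card hd0 Q hpol] at hΩ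
  have hN := card_tr_zero (fun v => Q v) ht (card_V d)
  have hqn : ((Fintype.card F : ℕ) : ZMod r) ^ d = ((-ε : ℤ) : ZMod r) := by
    have h1 := congrArg (Int.cast : ℤ → ZMod r) hN
    have h2 : ((Nat.card {w : Fin d ⊕ Fin d → F // tr2 (Q w) = 0} : ℕ) : ZMod r) = 0 := by
      rw [ZMod.natCast_eq_zero_iff]
      exact hΩ
    push_cast at h1
    rw [h2, mul_zero] at h1
    have hq0 : ((Fintype.card F : ℕ) : ZMod r) ≠ 0 := by
      rw [Ne, ZMod.natCast_eq_zero_iff]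
      exact hqr
    have h3 : ((Fintype.card F : ℕ) : ZMod r) ^ d *
        (((Fintype.card F : ℕ) : ZMod r) ^ d + (ε : ZMod r)) = 0 := by
      linear_combination -h1
    rcases mul_eq_zero.1 h3 with h4 | h4
    · exact absurd h4 (pow_ne_zero d hq0)
    · push_cast
      linear_combination h4
  -- a form of the opposite type
  obtain ⟨w1, hw1⟩ : ∃ w1 : Fin d ⊕ Fin d → F, tr2 (Q w1) = 1 := by
    by_contra hcon
    push Not at hcon
    have h0 : ∀ w ∈ (⊤ : Submodule F (Fin d ⊕ Fin d → F)), tr2 (Q w) = 0 := by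
      intro w _
      exact z2_ne_one _ (hcon w)
    have hts := ts_of_tr_zero Q ⊤ h0
    obtain ⟨u, v, huv⟩ := exists_symp_one (F := F) hd0
    rw [← hpol, polar, hts _ Submodule.mem_top, hts u Submodule.mem_top,
      hts v Submodule.mem_top] at huv
    simp at huv
  obtain ⟨Q', hQ'⟩ : ∃ Q' : QuadraticForm F (Fin d ⊕ Fin d → F), Q' = shiftQF Q w1 := ⟨_, rfl⟩
  have hpol' : ∀ u v, polar Q' u v = Cfsg.sympForm d F u v := by
    intro u v
    rw [hQ', polar_shiftQF, hpol]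
  have hnd' := nondeg_of_polar Q' hpol'
  have ht' : HasType (-ε) d (fun v => Q' v) := by
    have := hasType_shift hd0 Q hpol ht w1
    rw [hw1] at this
    have h1 : chi2 1 * ε = -ε := by
      rw [chi2_one]
      ring
    rw [h1] at this
    rw [hQ']
    exact this
  have hε' : -ε = 1 ∨ -ε = -1 := by
    rcases hε with rfl | rfl
    · right; rfl
    · left; norm_num
  obtain ⟨B, hB1, hB2, hB3⟩ := exists_fpf_matrix (p := 2) hF (fun v => Q' v) (-ε) hε' d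
    (fun W _ _ _ QW hndW hdimW htW => by
      obtain ⟨e, he⟩ := exists_equiv_of_same_type Q' hnd' QW hndW d hd (finrank_V d) hdimW (-ε)
        hε' ht' htW
      refine ⟨Basis.ofEquivFun e, fun v => ?_⟩
      rw [Basis.equivFun_ofEquivFun]
      exact he v) r hr hr2 hr2 (by rw [← hF]; exact hqn)
  obtain ⟨r', hr'⟩ : ∃ r', r = r' + 1 := ⟨r - 1, by have := hr.pos; omega⟩
  obtain ⟨x, hx⟩ : ∃ x : GL (Fin d ⊕ Fin d) F, x = ⟨B, B ^ r', by rw [← pow_succ', ← hr', hB2],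
    by rw [← pow_succ, ← hr', hB2]⟩ := ⟨_, rfl⟩
  have hxB : (x : Matrix (Fin d ⊕ Fin d) (Fin d ⊕ Fin d) F) = B := by rw [hx]
  have hxT : x ∈ Cfsg.spGL d F := by
    apply mem_sp_of_isometry Q' hpol'
    intro v
    rw [hxB]
    exact hB1 v
  have hx1 : ∃ z : F, ((x ^ r : GL (Fin d ⊕ Fin d) F) :
      Matrix (Fin d ⊕ Fin d) (Fin d ⊕ Fin d) F) =
      z • (1 : Matrix (Fin d ⊕ Fin d) (Fin d ⊕ Fin d) F) := by
    refine ⟨1, ?_⟩
    rw [one_smul, Units.val_pow_eq_pow_val, hxB, hB2]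
  have hxr : x ^ r = 1 := by
    apply Units.ext
    rw [Units.val_pow_eq_pow_val, hxB, hB2]
    rfl
  have hx2 : ∀ z : F, (x : Matrix (Fin d ⊕ Fin d) (Fin d ⊕ Fin d) F) ≠
      z • (1 : Matrix (Fin d ⊕ Fin d) (Fin d ⊕ Fin d) F) := by
    intro z hz'
    rw [hxB] at hz'
    obtain ⟨u, v, huv⟩ := exists_symp_one (F := F) hd0
    have h1 := mem_spGL.1 hxT u v
    rw [hxB, hz', Matrix.smul_mulVec, Matrix.one_mulVec, Matrix.smul_mulVec, Matrix.one_mulVec,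
      sympForm_smul_smul, huv, mul_one] at h1
    have hz1 := eq_one_of_mul_self z h1
    have h2 : B *ᵥ u = u := by
      rw [hz', hz1, one_smul, Matrix.one_mulVec]
    have h3 := hB3 u h2
    rw [h3] at huv
    rw [← sympBilin_apply, map_zero, LinearMap.zero_apply] at huv
    exact zero_ne_one huv
  obtain ⟨g, hg, hmem⟩ := h x hxT hx1 hx2
  have hyT : g⁻¹ * x * g ∈ Cfsg.spGL d F :=
    (Cfsg.spGL d F).mul_mem ((Cfsg.spGL d F).mul_mem ((Cfsg.spGL d F).inv_mem hg) hxT) hg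
  have hiso := isometry_of_sim hd0 Q hpol _ hyT hmem
  obtain ⟨y, hy⟩ : ∃ y : GL (Fin d ⊕ Fin d) F, y = g⁻¹ * x * g := ⟨_, rfl⟩
  rw [← hy] at hiso
  have hyr : y ^ r = 1 := by
    have h1 : y = g⁻¹ * x * (g⁻¹)⁻¹ := by rw [hy, inv_inv]
    rw [h1, conj_pow, hxr, mul_one, mul_inv_cancel]
  obtain ⟨Ty, hTy⟩ : ∃ Ty : (Fin d ⊕ Fin d → F) →ₗ[F] (Fin d ⊕ Fin d → F),
      Ty = Matrix.toLinAlgEquiv' (y : Matrix (Fin d ⊕ Fin d) (Fin d ⊕ Fin d) F) := ⟨_, rfl⟩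
  have hTyv : ∀ v, Ty v = (y : Matrix (Fin d ⊕ Fin d) (Fin d ⊕ Fin d) F) *ᵥ v := by
    intro v
    rw [hTy, Matrix.toLinAlgEquiv'_apply]
  have hTyr : Ty ^ r = 1 := by
    rw [hTy, ← map_pow, ← Units.val_pow_eq_pow_val, hyr, Units.val_one, map_one]
  have hfix : ∀ v, Ty v = v → v = 0 := by
    intro v hv
    rw [hTyv, hy, Units.val_mul, Units.val_mul, ← Matrix.mulVec_mulVec, ← Matrix.mulVec_mulVec,
      hxB] at hv
    have h1 : B *ᵥ ((g : Matrix (Fin d ⊕ Fin d) (Fin d ⊕ Fin d) F) *ᵥ v) =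
        (g : Matrix (Fin d ⊕ Fin d) (Fin d ⊕ Fin d) F) *ᵥ v := by
      have := congrArg (fun t => (g : Matrix (Fin d ⊕ Fin d) (Fin d ⊕ Fin d) F) *ᵥ t) hv
      simp only [mul_inv_mulVec] at this
      exact this
    have h2 := hB3 _ h1
    have h3 := inv_mul_mulVec g v
    rw [h2, Matrix.mulVec_zero] at h3
    exact h3.symm
  have hlev := dvd_card_level Q Ty r hr hTyr (fun u => by rw [hTyv]; exact hiso u) hfix 1
    one_ne_zero
  have hz := ht.zmod r hlev hqr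
  rw [hqn] at hz
  have h5 := eps_eq_of_zmod r hr hr2 hε' hε hz
  rcases hε with rfl | rfl <;> omega

/-- every involution of the symplectic group has a conjugate in the orthogonal group, when the
form is of plus type or `d` is odd -/
theorem bwd [CharP F 2] (d : ℕ) (hd : 1 ≤ d)
    (Q : QuadraticForm F (Fin d ⊕ Fin d → F))
    (hpol : ∀ u v, polar Q u v = Cfsg.sympForm d F u v)
    (hcase : Cfsg.Geo.IsPlusTypeOn (⇑Q) ⊤ ∨ Odd d)
    (x : GL (Fin d ⊕ Fin d) F) (hxT : x ∈ Cfsg.spGL d F)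
    (hx2 : ∃ z : F, ((x ^ 2 : GL (Fin d ⊕ Fin d) F) : Matrix (Fin d ⊕ Fin d) (Fin d ⊕ Fin d) F) =
        z • (1 : Matrix (Fin d ⊕ Fin d) (Fin d ⊕ Fin d) F)) :
    ∃ g ∈ Cfsg.spGL d F, g⁻¹ * x * g ∈ Cfsg.Geo.quadSimilarityGroup (⇑Q) := by
  classical
  have hd0 : 0 < d := hd
  have hnd := nondeg_of_polar Q hpol
  obtain ⟨ε, hε, ht⟩ := hasType_of_nondeg Q hnd d (finrank_V d)
  -- `x² = 1`
  obtain ⟨z, hz⟩ := hx2
  have hz1 : z = 1 := by
    obtain ⟨u, v, huv⟩ := exists_symp_one (F := F) hd0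
    have h1 := mem_spGL.1 ((Cfsg.spGL d F).pow_mem hxT 2) u v
    rw [hz, Matrix.smul_mulVec, Matrix.one_mulVec, Matrix.smul_mulVec, Matrix.one_mulVec,
      sympForm_smul_smul, huv, mul_one] at h1
    exact eq_one_of_mul_self z h1
  rw [hz1, one_smul, Units.val_pow_eq_pow_val, pow_two] at hz
  -- an invariant form
  obtain ⟨Q0, hpol0, hinv0⟩ := exists_invariant_form d
    (⟨(x : Matrix (Fin d ⊕ Fin d) (Fin d ⊕ Fin d) F), val_mem_symplectic hxT⟩ :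
      Matrix.symplecticGroup (Fin d) F)
  have hinv0' : ∀ v, Q0 ((x : Matrix (Fin d ⊕ Fin d) (Fin d ⊕ Fin d) F) *ᵥ v) = Q0 v := hinv0
  have hnd0 := nondeg_of_polar Q0 hpol0
  obtain ⟨ε0, hε0, ht0⟩ := hasType_of_nondeg Q0 hnd0 d (finrank_V d)
  obtain ⟨Tm, hTm⟩ : ∃ Tm : End F (Fin d ⊕ Fin d → F),
      Tm = Matrix.toLin' (x : Matrix (Fin d ⊕ Fin d) (Fin d ⊕ Fin d) F) := ⟨_, rfl⟩
  have hTmv : ∀ v, Tm v = (x : Matrix (Fin d ⊕ Fin d) (Fin d ⊕ Fin d) F) *ᵥ v := by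
    intro v
    rw [hTm, Matrix.toLin'_apply]
  have hTT : Tm * Tm = 1 := by
    rw [hTm, Module.End.mul_eq_comp, ← Matrix.toLin'_mul, hz, Matrix.toLin'_one]
    rfl
  have hinvT : ∀ u, Q0 (Tm u) = Q0 u := by
    intro u
    rw [hTmv]
    exact hinv0' u
  have hN := sq_zero_of_invol Tm hTT
  have hker := finrank_le_two_mul_ker (Tm - 1) hN
  rw [finrank_V] at hker
  -- a fixed vector adjusting the type
  obtain ⟨w, hwC, hwε⟩ : ∃ w ∈ LinearMap.ker (Tm - 1), chi2 (tr2 (Q0 w)) * ε0 = ε := by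
    by_cases hεε : ε0 = ε
    · refine ⟨0, Submodule.zero_mem _, ?_⟩
      rw [QuadraticMap.map_zero, map_zero, chi2_zero, one_mul, hεε]
    · by_contra hcon
      push Not at hcon
      have h0 : ∀ w ∈ LinearMap.ker (Tm - 1), tr2 (Q0 w) = 0 := by
        intro w hw
        apply z2_ne_one
        intro h1
        apply hcon w hw
        rw [h1, chi2_one]
        rcases hε with rfl | rfl <;> rcases hε0 with rfl | rfl <;> simp at hεε ⊢
      have hts := ts_of_tr_zero Q0 _ h0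
      have ht0' := hasType_one_of_ts Q0 hnd0 d (finrank_V d) _ hts (by omega)
      have h1 : ε0 = 1 := ht0.unique ht0'
      have hnotplus : ¬ Cfsg.Geo.IsPlusTypeOn (⇑Q) ⊤ := by
        rintro ⟨U, -, hU, hUdim⟩
        rw [finrank_top, finrank_V] at hUdim
        have ht' := hasType_one_of_ts Q hnd d (finrank_V d) U hU (by omega)
        have h2 : ε = 1 := ht.unique ht'
        exact hεε (by rw [h1, h2])
      have hodd : Odd d := hcase.resolve_left hnotplus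
      have hle := ts_le Q0 hnd0 d (finrank_V d) _ hts
      have heven := even_rank_of_ts_ker Q0 hnd0 Tm hinvT hN hts
      have h6 := LinearMap.finrank_range_add_finrank_ker (Tm - 1)
      rw [finrank_V] at h6
      have h7 : finrank F (LinearMap.range (Tm - 1)) = d := by omega
      rw [h7] at heven
      exact (Nat.not_even_iff_odd.2 hodd) heven
  have hwfix : Tm w = w := by
    rw [LinearMap.mem_ker, LinearMap.sub_apply, Module.End.one_apply, sub_eq_zero] at hwC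
    exact hwC
  obtain ⟨Q1, hQ1⟩ : ∃ Q1 : QuadraticForm F (Fin d ⊕ Fin d → F), Q1 = shiftQF Q0 w := ⟨_, rfl⟩
  have hpol1 : ∀ u v, polar Q1 u v = Cfsg.sympForm d F u v := by
    intro u v
    rw [hQ1, polar_shiftQF, hpol0]
  have hnd1 := nondeg_of_polar Q1 hpol1
  have ht1 : HasType ε d (fun v => Q1 v) := by
    have := hasType_shift hd0 Q0 hpol0 ht0 w
    rw [hwε] at this
    rw [hQ1]
    exact this
  have hinv1 : ∀ v, Q1 ((x : Matrix (Fin d ⊕ Fin d) (Fin d ⊕ Fin d) F) *ᵥ v) = Q1 v := by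
    intro v
    rw [hQ1, shiftQF_apply, shiftQF_apply, hinv0', hpol0, hpol0]
    congr 2
    conv_lhs => rw [← hwfix, hTmv]
    exact mem_spGL.1 hxT w v
  obtain ⟨e, he⟩ := exists_equiv_of_same_type Q hnd Q1 hnd1 d hd (finrank_V d) (finrank_V d) ε hε
    ht ht1
  have hmem := glOf_mem_sp Q Q1 hpol hpol1 e he
  refine ⟨(glOf e)⁻¹, (Cfsg.spGL d F).inv_mem hmem, ?_⟩
  apply mem_sim_of_isometry
  intro v
  rw [inv_inv, Units.val_mul, Units.val_mul, ← Matrix.mulVec_mulVec, ← Matrix.mulVec_mulVec,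
    glOf_mulVec, glOf_inv_mulVec, he, hinv1, ← he, LinearEquiv.apply_symm_apply]

theorem main [CharP F 2] {q : ℕ} (hq : Fintype.card F = q) (d : ℕ) (hd : 2 ≤ d)
    (Q : (Fin d ⊕ Fin d → F) → F) (hQ : Cfsg.Geo.IsNondegenerateQuadraticForm Q)
    (hQf : ∀ u v, QuadraticMap.polar Q u v = Cfsg.sympForm d F u v)
    (r : ℕ) [Fact r.Prime]
    (hΩ : r ∣ (Cfsg.Geo.quadSimilarityGroup Q).relIndex (Cfsg.spGL d F)) :
    (∀ x ∈ Cfsg.spGL d F, (∃ z : F, ((x ^ r : GL (Fin d ⊕ Fin d) F) : Matrix (Fin d ⊕ Fin d) (Fin d ⊕ Fin d) F) = z • (1 : Matrix (Fin d ⊕ Fin d) (Fin d ⊕ Fin d) F)) →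
      (∀ z : F, (x : Matrix (Fin d ⊕ Fin d) (Fin d ⊕ Fin d) F) ≠ z • (1 : Matrix (Fin d ⊕ Fin d) (Fin d ⊕ Fin d) F)) →
      ∃ g ∈ Cfsg.spGL d F, g⁻¹ * x * g ∈ Cfsg.Geo.quadSimilarityGroup Q) ↔
    (r = 2 ∧ (Cfsg.Geo.IsPlusTypeOn Q ⊤ ∨ Odd d)) := by
  obtain ⟨Qm, rfl⟩ := exists_qf d Q hQ hQf
  constructor
  · intro h
    have hr2 := fwd1 hq d (by omega) Qm hQf r hΩ h
    refine ⟨hr2, ?_⟩
    subst hr2
    by_contra hcon
    push Not at hcon
    exact hcon.1 (fwd2 d (by omega) (Nat.not_odd_iff_even.1 hcon.2) Qm hQf h)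
  · rintro ⟨rfl, hcase⟩ x hx hx2 -
    exact bwd d (by omega) Qm hQf hcase x hx hx2

end fin

/-- Elements of prime order of PSp_n(q), q even, and the subgroups of orthogonal type. Here `T = Sp_{2d}(F)` for a field `F` of characteristic 2 with `q` elements (`d ≥ 2`, `(d, q) ≠ (2, 2)`), realised as the invertible matrices preserving the standard alternating form; `Q` is a non-degenerate quadratic form on `F^{2d}` whose polar form is that alternating form, and `H` is the subgroup of `T` preserving `Q` up to a scalar (equivalently preserving `Q`) — a subgroup of type O^±_{2d}(q) (maximality is not assumed); `Q` is of plus type when `F^{2d}` contains a `d`-dimensional subspace on which `Q` vanishes, of minus type otherwise. Ω is the set of cosets of `H` in `T`, so an element of `T` of prime order `r` (`x ∈ T` with `x^r` scalar, `x` not scalar) fixes a point of Ω exactly when some `T`-conjugate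 of `x` preserves `Q`. Let `r` be a prime dividing the index of `H`. Then every element of `T` of order `r` fixes a point of Ω if and only if `r = 2` and either `Q` is of plus type or `d` is odd. -/
theorem result {F : Type*} [Field F] [Fintype F] {p : ℕ} [Fact p.Prime] [CharP F p] {q : ℕ} (hq : Fintype.card F = q)
    (hp : p = 2) (d : ℕ) (hd : 2 ≤ d) (hT : (d, q) ≠ (2, 2)) (Q : (Fin d ⊕ Fin d → F) → F) (hQ : Cfsg.Geo.IsNondegenerateQuadraticForm Q)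
    (hQf : ∀ u v, QuadraticMap.polar Q u v = Cfsg.sympForm d F u v)
    (r : ℕ) [Fact r.Prime]
    (hΩ : r ∣ (Cfsg.Geo.quadSimilarityGroup Q).relIndex (Cfsg.spGL d F)) :
    (∀ x ∈ Cfsg.spGL d F, (∃ z : F, ((x ^ r : GL (Fin d ⊕ Fin d) F) : Matrix (Fin d ⊕ Fin d) (Fin d ⊕ Fin d) F) = z • (1 : Matrix (Fin d ⊕ Fin d) (Fin d ⊕ Fin d) F)) →
      (∀ z : F, (x : Matrix (Fin d ⊕ Fin d) (Fin d ⊕ Fin d) F) ≠ z • (1 : Matrix (Fin d ⊕ Fin d) (Fin d ⊕ Fin d) F)) →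
      ∃ g ∈ Cfsg.spGL d F, g⁻¹ * x * g ∈ Cfsg.Geo.quadSimilarityGroup Q) ↔
    (r = 2 ∧ (Cfsg.Geo.IsPlusTypeOn Q ⊤ ∨ Odd d)) := by
  subst hp; exact main hq d hd Q hQ hQf r hΩ

end Cfsg.Agent.S5983
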