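import Cfsg.Statements.S5984
-- import your own Cfsg.Agent.* helpers here
import Cfsg.Agent.Lib.Helper22.PolUnK

set_option autoImplicit false
open scoped MatrixGroups
open Cfsg

namespace Cfsg.Agent.S5984

open Cfsg.Agent.Lib.Helper22.PolUn Cfsg.Agent.Lib.Helper12.Un Cfsg.Agent.Lib.Helper14

/-- Elements of prime order of PSU_n(q) and the stabilizers of pairs of complementary totally singular subspaces. Here `T = PSU_n(q)` is realised through `SU_n(q)`, the matrices of determinant 1 over the field `F` with `q²` elements preserving the hermitian form `Σ uᵢ vᵢ^q`, with `n ≥ 4` even; `D` is a pair of complementary subspaces of dimension `n/2` on each of which the form vanishes identically, and `H` is the subgroup of `SU_n(q)` fixing or interchanging the two members — a subgroup of type GL_{n/2}(q²).2 (maximality is not assumed). Ω is the set of cosets of `H`, so an element of `T` of prime order `r` (`x ∈ SU_n(q)` with `x^r` scalar, `x` not scalar) fixes a point of Ω exactly when some `SU_n(q)`-conjugate of `x` lies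 in `H`. Let `r` be a prime dividing the index of `H`. Then every element of `T` of order `r` fixes a point of Ω if and only if `r = 2`, `q` is odd and `(q + 1)_2 ≤ (n)_2` (2-parts). -/
theorem result {F : Type*} [Field F] [Fintype F] {p : ℕ} [Fact p.Prime] [CharP F p] {q : ℕ} (hq : Fintype.card F = q ^ 2)
    (n : ℕ) (hn : 4 ≤ n) (he : Even n) (D : Fin 2 → Submodule F (Fin n → F)) (hD : Cfsg.Geo.IsMDecomposition (n / 2) D)
    (hDs : ∀ i, Cfsg.Geo.IsTotallySingularFor (Cfsg.hermForm n F q) (D i))
    (r : ℕ) [Fact r.Prime]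
    (hΩ : r ∣ (Cfsg.Geo.decompositionStabilizer D).relIndex (Cfsg.GU n F q ⊓ Cfsg.Geo.specialLinear (Fin n) F)) :
    (∀ x ∈ Cfsg.GU n F q ⊓ Cfsg.Geo.specialLinear (Fin n) F, (∃ z : F, ((x ^ r : GL (Fin n) F) : Matrix (Fin n) (Fin n) F) = z • (1 : Matrix (Fin n) (Fin n) F)) →
      (∀ z : F, (x : Matrix (Fin n) (Fin n) F) ≠ z • (1 : Matrix (Fin n) (Fin n) F)) →
      ∃ g ∈ Cfsg.GU n F q ⊓ Cfsg.Geo.specialLinear (Fin n) F, g⁻¹ * x * g ∈ Cfsg.Geo.decompositionStabilizer D) ↔
    (r = 2 ∧ Odd q ∧ padicValNat 2 (q + 1) ≤ padicValNat 2 n) := by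
  classical
  obtain ⟨d, rfl⟩ := he
  have hd2 : 2 ≤ d := by omega
  have hdiv : (d + d) / 2 = d := by omega
  rw [hdiv] at hD
  have hP := polar_of_D hq D hD hDs
  rw [lhs_iff hq d (by omega) D hP r]
  obtain ⟨e, hqe⟩ := exists_pow_eq hq p
  have hr : r.Prime := Fact.out
  have hp : p.Prime := Fact.out
  have hq2 := herm_two_le hq
  constructor
  · intro H
    by_cases hrp : r = p
    · exfalso
      obtain ⟨A, h1, h2, h3, h4, h5⟩ := exists_not_stab_p hq p d hd2
      rw [← hrp] at h3
      exact h5 (H A h1 h2 h3 h4)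
    · by_cases hr2 : r = 2
      · have hp2 : p ≠ 2 := fun h => hrp (by rw [hr2, h])
        have hqodd : Odd q := by
          rw [hqe]
          exact (hp.odd_of_ne_two hp2).pow
        refine ⟨hr2, hqodd, ?_⟩
        by_contra hv
        push Not at hv
        obtain ⟨A, h1, h2, h3, h4, h5⟩ := exists_not_stab_two hq p hp2 hqodd d hd2 hv
        rw [← hr2] at h3
        exact h5 (H A h1 h2 h3 h4)
      · exfalso
        rcases index_dvd hq D hP r hΩ with h | ⟨j, hj, hjd⟩
        · rw [hqe] at h
          exact hrp ((Nat.prime_dvd_prime_iff_eq hr hp).1 (hr.dvd_of_dvd_pow h))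
        · obtain ⟨hmod, hdvd⟩ := mod_four_of_dvd q r (2 * j + 1) hr2 ⟨j, rfl⟩ hjd
          have hb := b_eq hq r
          have hev : Even (orderOf (q : ZMod r)) := by rw [Nat.even_iff]; omega
          rw [if_pos hev] at hb
          by_cases hi2 : orderOf (q : ZMod r) = 2
          · have hrq := dvd_of_orderOf_eq_two q r hi2
            obtain ⟨A, h1, h2, h3, h4, h5⟩ := exists_not_stab_odd_one hq r hr2 hrq d hd2
            exact h5 (H A h1 h2 h3 h4)
          · have hle := Nat.le_of_dvd (by omega) hdvd
            obtain ⟨A, h1, h2, h3, h4, h5⟩ := exists_not_stab_odd_big hq p e hqe r hr2 hrp hmod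
              (by rw [hb]; omega) d (by omega) (by rw [hb]; omega)
            exact h5 (H A h1 h2 h3 h4)
  · rintro ⟨hr2, hqodd, hv⟩
    subst hr2
    intro A hA hdet hz hns
    have hp2 : p ≠ 2 := by
      intro h
      rw [hqe, h] at hqodd
      rcases Nat.eq_zero_or_pos e with he0 | hepos
      · rw [hqe, he0, pow_zero] at hq2
        omega
      · exact (Nat.not_even_iff_odd.2 hqodd) ((Nat.even_pow' hepos.ne').2 even_two)
    exact bwd_two_polar hq p hp2 hqodd d (by omega) hv A hA hdet hz

end Cfsg.Agent.S5984
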