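import Cfsg.Statements.S5986
-- import your own Cfsg.Agent.* helpers here
import Cfsg.Agent.Lib.Helper15.NonsingPts
import Cfsg.Agent.Lib.Helper15.UniOmega2
import Cfsg.Agent.Lib.Helper15.UnitaryQuad

set_option autoImplicit false
open scoped MatrixGroups
open Cfsg

namespace Cfsg.Agent.S5986

open Module QuadraticMap Cfsg.Agent.Lib.Helper15 Cfsg.Agent.Lib.Helper15.QuadType
  Cfsg.Agent.Lib.Helper15.NonsingPts
open scoped Matrix

universe u

/-- the index type of the minus form -/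
abbrev Idx (k : ℕ) : Type := (Fin k ⊕ Fin k) ⊕ Fin 2

section

variable {F : Type u} [Field F] [Fintype F]

omit [Fintype F] in
theorem quad_single (k : ℕ) (a b : F) :
    Cfsg.quadFormMinus k F a b (Pi.single (Sum.inr 0) 1) = 1 := by
  classical
  unfold Cfsg.quadFormMinus
  simp

omit [Fintype F] in
/-- every involution of the orthogonal group of minus type fixes a nonsingular point -/
theorem bwd [CharP F 2] (k : ℕ) (a b : F)
    (hab : ∀ x y : F, x ^ 2 + a * x * y + b * y ^ 2 = 0 → x = 0 ∧ y = 0)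
    (x : GL (Idx k) F) (hx : x ∈ Cfsg.isometryGroup F (Cfsg.quadFormMinus k F a b))
    (hx2 : ∃ z : F, ((x ^ 2 : GL (Idx k) F) : Matrix (Idx k) (Idx k) F) =
      z • (1 : Matrix (Idx k) (Idx k) F)) :
    ∃ W : Submodule F (Idx k → F),
      (Module.finrank F ↥W = 1 ∧ ∃ v ∈ W, Cfsg.quadFormMinus k F a b v ≠ 0) ∧
      W.map (Matrix.toLin' (x : Matrix (Idx k) (Idx k) F)) ≤ W := by
  classical
  obtain ⟨Qs, hQs⟩ : ∃ Qs : QuadraticForm F (Idx k → F), Qs = minusQFab k a b := ⟨_, rfl⟩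
  have hQf : ∀ v, Qs v = Cfsg.quadFormMinus k F a b v := by
    intro v
    rw [hQs]
    exact minusQFab_eq k a b v
  obtain ⟨T, hT⟩ : ∃ T : End F (Idx k → F), T = Matrix.toLin' (x : Matrix (Idx k) (Idx k) F) :=
    ⟨_, rfl⟩
  have hinv : ∀ u, Qs (T u) = Qs u := by
    intro u
    rw [hQf, hQf, hT, Matrix.toLin'_apply]
    exact hx u u
  obtain ⟨z, hz⟩ := hx2
  have hTT : T * T = z • (1 : End F (Idx k → F)) := by
    rw [hT, Module.End.mul_eq_comp, ← Matrix.toLin'_mul, ← pow_two, ← Units.val_pow_eq_pow_val, hz,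
      map_smul, Matrix.toLin'_one]
    rfl
  have hz1 : z = 1 := by
    apply eq_one_of_mul_self
    have h1 : Qs (T (T (Pi.single (Sum.inr 0) 1))) = Qs (Pi.single (Sum.inr 0) 1) := by
      rw [hinv, hinv]
    have h2 : T (T (Pi.single (Sum.inr 0) 1)) = z • (Pi.single (Sum.inr 0) 1 : Idx k → F) := by
      have := congrArg (fun X : End F (Idx k → F) => X (Pi.single (Sum.inr 0) 1)) hTT
      exact this
    rw [h2, QuadraticMap.map_smul, hQf, quad_single, smul_eq_mul, mul_one] at h1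
    exact h1
  rw [hz1, one_smul] at hTT
  have hN := sq_zero_of_invol T hTT
  have hker := finrank_le_two_mul_ker (T - 1) hN
  rw [Module.finrank_fintype_fun_eq_card] at hker
  have hcard : Fintype.card (Idx k) = 2 * (k + 1) := by
    simp [Idx]
    ring
  rw [hcard] at hker
  have hnts : ¬ ∀ u ∈ LinearMap.ker (T - 1), Cfsg.quadFormMinus k F a b u = 0 := by
    intro hts
    have h3 : finrank F (LinearMap.ker (T - 1)) ≤ k :=
      ts_minus_le k a b hab (LinearMap.ker (T - 1)) hts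
    have h4 : 2 * (k + 1) ≤ 2 * finrank F (LinearMap.ker (T - 1)) := hker
    omega
  push Not at hnts
  obtain ⟨u, hu, hQu⟩ := hnts
  have hu0 : u ≠ 0 := by
    rintro rfl
    apply hQu
    rw [← hQf, QuadraticMap.map_zero]
  have hTu : T u = u := by
    rw [LinearMap.mem_ker, LinearMap.sub_apply, Module.End.one_apply, sub_eq_zero] at hu
    exact hu
  refine ⟨Submodule.span F {u}, ⟨finrank_span_singleton hu0, u, Submodule.mem_span_singleton_self u,
    hQu⟩, ?_⟩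
  rw [← hT, Submodule.map_span, Set.image_singleton, hTu]


/-- for odd `r` there is a fixed-point-free element of order `r` in `Ω⁻` -/
theorem fwd [CharP F 2] {q : ℕ} (hF : Fintype.card F = q) (k : ℕ) (hk : 2 ≤ k) (a b : F)
    (hab : ∀ x y : F, x ^ 2 + a * x * y + b * y ^ 2 = 0 → x = 0 ∧ y = 0)
    (r : ℕ) [Fact r.Prime]
    (hrΩ : r ∣ Nat.card {W : Submodule F (Idx k → F) // Module.finrank F ↥W = 1 ∧
      ∃ v ∈ W, Cfsg.quadFormMinus k F a b v ≠ 0})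
    (h : ∀ x : GL (Idx k) F, x ∈ Cfsg.Geo.omegaGL (Cfsg.quadFormMinus k F a b) →
      (∃ z : F, ((x ^ r : GL (Idx k) F) : Matrix (Idx k) (Idx k) F) =
        z • (1 : Matrix (Idx k) (Idx k) F)) →
      (∀ z : F, (x : Matrix (Idx k) (Idx k) F) ≠ z • (1 : Matrix (Idx k) (Idx k) F)) →
      ∃ W : Submodule F (Idx k → F),
        (Module.finrank F ↥W = 1 ∧ ∃ v ∈ W, Cfsg.quadFormMinus k F a b v ≠ 0) ∧
        W.map (Matrix.toLin' (x : Matrix (Idx k) (Idx k) F)) ≤ W) : r = 2 := by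
  classical
  by_contra hr2
  have hr := (Fact.out : r.Prime)
  have : Fact (Nat.Prime 2) := ⟨Nat.prime_two⟩
  obtain ⟨Qs, hQs⟩ : ∃ Qs : QuadraticForm F (Idx k → F), Qs = minusQFab k a b := ⟨_, rfl⟩
  have hQf : ∀ v, Qs v = Cfsg.quadFormMinus k F a b v := by
    intro v
    rw [hQs]
    exact minusQFab_eq k a b v
  have hcoe : ⇑Qs = Cfsg.quadFormMinus k F a b := funext hQf
  have hnd : (polarBilin Qs).Nondegenerate := by
    rw [hQs]
    exact minusQFab_nondegenerate k a b (Cfsg.Agent.Lib.Helper14.OrthMinus.disc_ne_zero hab)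
  obtain ⟨j, -, hj⟩ := FiniteField.card F 2
  have hqr : ¬ r ∣ Fintype.card F := by
    rw [hj]
    intro hd
    exact hr2 ((Nat.prime_dvd_prime_iff_eq hr Nat.prime_two).1 (hr.dvd_of_dvd_pow hd))
  have hrΩ' : r ∣ Nat.card {W : Submodule F (Idx k → F) // finrank F W = 1 ∧
      ∃ v ∈ W, Qs v ≠ 0} := by
    simpa only [hQf] using hrΩ
  have hcard : Fintype.card (Idx k) = 2 * (k + 1) := by
    simp [Idx]
    ring
  have ht : HasType (-1) (k + 1) (fun v => Qs v) :=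
    (hasType_minus hab k).congr (Equiv.refl _) (fun v => hQf v)
  have hz := zmod_of_dvd_points Qs (-1) (k + 1) hcard ht r hqr hrΩ'
  obtain ⟨B, hB1, hB2, hB3⟩ := exists_fpf_matrix (p := 2) hF (Cfsg.quadFormMinus k F a b) (-1)
    (Or.inr rfl) (k + 1)
    (fun W _ _ _ Q hnd' hdim' ht' => univ_minus Q hnd' k hdim' ht' hab) r hr hr2 hr2
    (by rw [← hF]; exact hz)
  obtain ⟨r', hr'⟩ : ∃ r', r = r' + 1 := ⟨r - 1, by have := hr.pos; omega⟩
  let g : GL (Idx k) F := ⟨B, B ^ r', by rw [← pow_succ', ← hr', hB2],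
    by rw [← pow_succ, ← hr', hB2]⟩
  have hgmem : g ∈ Cfsg.isometryGroup F ⇑Qs := by
    intro u v
    show Qs (B *ᵥ u) = Qs u
    rw [hQf, hQf]
    exact hB1 u
  obtain ⟨A, hA⟩ : ∃ A : ↥(Cfsg.isometryGroup F ⇑Qs), A = ⟨g, hgmem⟩ := ⟨_, rfl⟩
  have hAB : ((A : GL (Idx k) F) : Matrix (Idx k) (Idx k) F) = B := by rw [hA]
  have hAr : A ^ r = 1 := by
    apply Subtype.ext
    apply Units.ext
    rw [Subgroup.coe_pow, Units.val_pow_eq_pow_val, hAB, hB2]
    rfl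
  have hAΩ := Cfsg.Agent.Lib.Helper15.UniOmega2.mem_omega_of_odd_order Qs hnd
    (Or.inr (by rw [hcard]; omega)) A r (hr.odd_of_ne_two hr2) hAr
  have hxmem : (A : GL (Idx k) F) ∈ Cfsg.Geo.omegaGL (Cfsg.quadFormMinus k F a b) := by
    rw [← hcoe]
    exact Subgroup.mem_map.2 ⟨A, hAΩ, rfl⟩
  have hx1 : ∃ z : F, (((A : GL (Idx k) F) ^ r : GL (Idx k) F) : Matrix (Idx k) (Idx k) F) =
      z • (1 : Matrix (Idx k) (Idx k) F) := by
    refine ⟨1, ?_⟩
    rw [one_smul, Units.val_pow_eq_pow_val, hAB, hB2]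
  have hsingle : (Pi.single (Sum.inr 0) 1 : Idx k → F) ≠ 0 := by
    intro h0
    have := congrFun h0 (Sum.inr 0)
    simp at this
  have hx2 : ∀ z : F, ((A : GL (Idx k) F) : Matrix (Idx k) (Idx k) F) ≠
      z • (1 : Matrix (Idx k) (Idx k) F) := by
    intro z hz'
    rw [hAB] at hz'
    have h1 : B *ᵥ (Pi.single (Sum.inr 0) 1) = z • (Pi.single (Sum.inr 0) 1 : Idx k → F) := by
      rw [hz', Matrix.smul_mulVec, Matrix.one_mulVec]
    have h2 := hB1 (Pi.single (Sum.inr 0) 1)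
    rw [h1, ← hQf, QuadraticMap.map_smul, hQf, quad_single, smul_eq_mul, mul_one] at h2
    rw [eq_one_of_mul_self z h2, one_smul] at h1
    exact hsingle (hB3 _ h1)
  obtain ⟨W, ⟨hW1, v, hvW, hQv⟩, hWx⟩ := h _ hxmem hx1 hx2
  rw [hAB] at hWx
  have hfix := fixed_vector_of_fixed_point Qs (Matrix.toLin' B)
    (fun u => by rw [hQf, hQf, Matrix.toLin'_apply]; exact hB1 u) W hW1 v hvW
    (by rw [hQf]; exact hQv) hWx
  rw [Matrix.toLin'_apply] at hfix
  have hv0 := hB3 v hfix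
  apply hQv
  rw [hv0, ← hQf, QuadraticMap.map_zero]

theorem main [CharP F 2] {q : ℕ} (hF : Fintype.card F = q) (d : ℕ) (hd : 4 ≤ d) (a b : F)
    (hab : ∀ x y : F, x ^ 2 + a * x * y + b * y ^ 2 = 0 → x = 0 ∧ y = 0)
    (r : ℕ) [Fact r.Prime]
    (hrΩ : r ∣ Nat.card {W : Submodule F (Idx (d - 1) → F) // Module.finrank F ↥W = 1 ∧
      ∃ v ∈ W, Cfsg.quadFormMinus (d - 1) F a b v ≠ 0}) :
    (∀ x : GL (Idx (d - 1)) F, x ∈ Cfsg.Geo.omegaGL (Cfsg.quadFormMinus (d - 1) F a b) →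
      (∃ z : F, ((x ^ r : GL (Idx (d - 1)) F) : Matrix (Idx (d - 1)) (Idx (d - 1)) F) =
        z • (1 : Matrix (Idx (d - 1)) (Idx (d - 1)) F)) →
      (∀ z : F, (x : Matrix (Idx (d - 1)) (Idx (d - 1)) F) ≠
        z • (1 : Matrix (Idx (d - 1)) (Idx (d - 1)) F)) →
      ∃ W : Submodule F (Idx (d - 1) → F),
        (Module.finrank F ↥W = 1 ∧ ∃ v ∈ W, Cfsg.quadFormMinus (d - 1) F a b v ≠ 0) ∧
        W.map (Matrix.toLin' (x : Matrix (Idx (d - 1)) (Idx (d - 1)) F)) ≤ W) ↔ r = 2 := by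
  constructor
  · intro h
    exact fwd hF (d - 1) (by omega) a b hab r hrΩ h
  · rintro rfl x hx hx2 -
    obtain ⟨A, -, rfl⟩ := Subgroup.mem_map.1 hx
    exact bwd (d - 1) a b hab _ A.2 hx2

end

/-- Elements of prime order of Ω⁻_n(q), q even, with no fixed nonsingular 1-space. Here `T = PΩ⁻_n(F)`, `n = 2d ≥ 8`, realised through `Ω⁻_n(q)`, the commutator subgroup of the isometry group of `Q = Σ_{i<d−1} xᵢyᵢ + z₁² + a z₁z₂ + b z₂²` with `z₁² + a z₁z₂ + b z₂²` anisotropic, over the field `F` with `q` elements; an element of `T` of prime order `r` is an element `x` of `Ω⁻_n(q)` with `x^r` scalar and `x` not scalar; `q` is even (so the centre is trivial). Let Ω be the set of 1-dimensional subspaces spanned by a vector `v` with `Q(v) ≠ 0`, and let `r` be a prime dividing their number. Then every element of `T` of order `r` fixes some nonsingular 1-space if and only if `r = 2`. -/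
theorem result {F : Type*} [Field F] [Fintype F] {p : ℕ} [Fact p.Prime] [CharP F p] {q : ℕ} (hq : Fintype.card F = q)
    (hp : p = 2) (d : ℕ) (hd : 4 ≤ d) (a b : F) (hab : ∀ x y : F, x ^ 2 + a * x * y + b * y ^ 2 = 0 → x = 0 ∧ y = 0) (r : ℕ) [Fact r.Prime]
    (hrΩ : r ∣ Nat.card {W : Submodule F ((Fin (d - 1) ⊕ Fin (d - 1)) ⊕ Fin 2 → F) // Module.finrank F ↥W = 1 ∧ ∃ v ∈ W, Cfsg.quadFormMinus (d - 1) F a b v ≠ 0}) :
    (∀ x : GL ((Fin (d - 1) ⊕ Fin (d - 1)) ⊕ Fin 2) F, x ∈ Cfsg.Geo.omegaGL (Cfsg.quadFormMinus (d - 1) F a b) →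
      (∃ z : F, ((x ^ r : GL ((Fin (d - 1) ⊕ Fin (d - 1)) ⊕ Fin 2) F) : Matrix ((Fin (d - 1) ⊕ Fin (d - 1)) ⊕ Fin 2) ((Fin (d - 1) ⊕ Fin (d - 1)) ⊕ Fin 2) F) = z • (1 : Matrix ((Fin (d - 1) ⊕ Fin (d - 1)) ⊕ Fin 2) ((Fin (d - 1) ⊕ Fin (d - 1)) ⊕ Fin 2) F)) →
      (∀ z : F, (x : Matrix ((Fin (d - 1) ⊕ Fin (d - 1)) ⊕ Fin 2) ((Fin (d - 1) ⊕ Fin (d - 1)) ⊕ Fin 2) F) ≠ z • (1 : Matrix ((Fin (d - 1) ⊕ Fin (d - 1)) ⊕ Fin 2) ((Fin (d - 1) ⊕ Fin (d - 1)) ⊕ Fin 2) F)) →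
      ∃ W : Submodule F ((Fin (d - 1) ⊕ Fin (d - 1)) ⊕ Fin 2 → F), (Module.finrank F ↥W = 1 ∧ ∃ v ∈ W, Cfsg.quadFormMinus (d - 1) F a b v ≠ 0) ∧ W.map (Matrix.toLin' (x : Matrix ((Fin (d - 1) ⊕ Fin (d - 1)) ⊕ Fin 2) ((Fin (d - 1) ⊕ Fin (d - 1)) ⊕ Fin 2) F)) ≤ W) ↔ r = 2 := by
  subst hp; exact main hq d hd a b hab r hrΩ

end Cfsg.Agent.S5986
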