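import Cfsg.Statements.S5989
-- import your own Cfsg.Agent.* helpers here
import Cfsg.Agent.Lib.Helper12.OrPJ

set_option autoImplicit false
open scoped MatrixGroups
open Cfsg

namespace Cfsg.Agent.S5989

open Cfsg.Agent.Lib.Helper12 Cfsg.Agent.Lib.Helper12.OrN Cfsg.Agent.Lib.Helper12.OrP
  Cfsg.Agent.Lib.Helper12.Elus Cfsg.Agent.Lib.Helper25.Spin Cfsg.Agent.Lib.Helper15.QuadType

universe u

theorem main {F : Type u} [Field F] [Fintype F] {p : ℕ} [Fact p.Prime] [CharP F p] {q : ℕ} (hq : Fintype.card F = q)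
    (hodd : Odd q) (d m : ℕ) (hd : 4 ≤ d) (hm : Odd m) (hmd : m < d)
    (W₀ : Submodule F (Fin d ⊕ Fin d → F)) (hW₀ : Module.finrank F ↥W₀ = m ∧ Cfsg.Geo.IsNondegenerateOn (QuadraticMap.polar (Cfsg.quadFormPlus d F)) W₀)
    (r : ℕ) [Fact r.Prime]
    (hrΩ : r ∣ Nat.card {W : Submodule F (Fin d ⊕ Fin d → F) // Module.finrank F ↥W = m ∧ Cfsg.Geo.IsNondegenerateOn (QuadraticMap.polar (Cfsg.quadFormPlus d F)) W ∧ Cfsg.Geo.AreIsometricFor (Cfsg.quadFormPlus d F) W W₀})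
    (i c : ℕ) (hi : i = orderOf (q : ZMod r)) (hc : c = if Even i then i else 2 * i) :
    (∀ x : GL (Fin d ⊕ Fin d) F, x ∈ Cfsg.Geo.omegaGL (Cfsg.quadFormPlus d F) →
      (∃ z : F, ((x ^ r : GL (Fin d ⊕ Fin d) F) : Matrix (Fin d ⊕ Fin d) (Fin d ⊕ Fin d) F) = z • (1 : Matrix (Fin d ⊕ Fin d) (Fin d ⊕ Fin d) F)) →
      (∀ z : F, (x : Matrix (Fin d ⊕ Fin d) (Fin d ⊕ Fin d) F) ≠ z • (1 : Matrix (Fin d ⊕ Fin d) (Fin d ⊕ Fin d) F)) →
      ∃ W : Submodule F (Fin d ⊕ Fin d → F), (Module.finrank F ↥W = m ∧ Cfsg.Geo.IsNondegenerateOn (QuadraticMap.polar (Cfsg.quadFormPlus d F)) W ∧ Cfsg.Geo.AreIsometricFor (Cfsg.quadFormPlus d F) W W₀) ∧ W.map (Matrix.toLin' (x : Matrix (Fin d ⊕ Fin d) (Fin d ⊕ Fin d) F)) ≤ W) ↔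
    ((r = 2 ∧ Odd d ∧ q % 8 ≠ 1) ∨
     (r ≠ p ∧ 2 < r ∧ Odd i ∧ c ≤ m ∧ 0 < m % c ∧ m % c < (2 * d) % c) ∨
     (r ≠ p ∧ 2 < r ∧ Even i ∧ (((2 * d) % c = 0 ∧ Odd ((2 * d) / i)) ∨ (i ≤ m ∧ 0 < m % c ∧ m % c < (2 * d) % c)))) := by
  classical
  subst hq
  have h2 : (2 : F) ≠ 0 := Cfsg.Agent.Lib.Helper24.Or.two_ne_zero_odd hodd
  have hnd : (LinearMap.BilinForm.Nondegenerate (QuadraticMap.polarBilin (Qp d F))) := qfOf_nondeg _
  have hW₀nd : Nd (Qp d F) W₀ := (geo_nd_gen (Qp d F) W₀).1 hW₀.2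
  have hcardι : Fintype.card (Fin d ⊕ Fin d) = 2 * d := card_idx_pl d
  have hdimV : Module.finrank F (Fin d ⊕ Fin d → F) = 2 * d := by
    rw [Module.finrank_fintype_fun_eq_card, hcardι]
  have hVne : (⊤ : Submodule F (Fin d ⊕ Fin d → F)) ≠ ⊥ := by
    intro h
    have := finrank_top F (Fin d ⊕ Fin d → F)
    rw [h, finrank_bot, hdimV] at this
    omega
  obtain ⟨v₀, -, hv₀⟩ := exists_nonsing (Qp d F) ⊤ (nd_top (Qp d F) hnd) hVne
  have hisoΩ : ∀ x : GL (Fin d ⊕ Fin d) F, x ∈ Cfsg.Geo.omegaGL (Cfsg.quadFormPlus d F) →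
      ∀ v, Qp d F (Matrix.toLin' (x : Matrix (Fin d ⊕ Fin d) (Fin d ⊕ Fin d) F) v) = Qp d F v :=
    fun x hx => Cfsg.Agent.Lib.Helper24.Or.toLin_iso _ x
      (Cfsg.Agent.Lib.Helper24.Or.iso_of_mem_omega _ x hx)
  have hL : (∀ x : GL (Fin d ⊕ Fin d) F, x ∈ Cfsg.Geo.omegaGL (Cfsg.quadFormPlus d F) →
      (∃ z : F, ((x ^ r : GL (Fin d ⊕ Fin d) F) : Matrix (Fin d ⊕ Fin d) (Fin d ⊕ Fin d) F) = z • (1 : Matrix (Fin d ⊕ Fin d) (Fin d ⊕ Fin d) F)) →
      (∀ z : F, (x : Matrix (Fin d ⊕ Fin d) (Fin d ⊕ Fin d) F) ≠ z • (1 : Matrix (Fin d ⊕ Fin d) (Fin d ⊕ Fin d) F)) →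
      ∃ W : Submodule F (Fin d ⊕ Fin d → F), (Module.finrank F ↥W = m ∧ Cfsg.Geo.IsNondegenerateOn (QuadraticMap.polar (Cfsg.quadFormPlus d F)) W ∧ Cfsg.Geo.AreIsometricFor (Cfsg.quadFormPlus d F) W W₀) ∧ W.map (Matrix.toLin' (x : Matrix (Fin d ⊕ Fin d) (Fin d ⊕ Fin d) F)) ≤ W) ↔
      (∀ x : GL (Fin d ⊕ Fin d) F, x ∈ Cfsg.Geo.omegaGL ⇑(Qp d F) →
      (∃ z : F, ((x ^ r : GL (Fin d ⊕ Fin d) F) : Matrix (Fin d ⊕ Fin d) (Fin d ⊕ Fin d) F) = z • (1 : Matrix (Fin d ⊕ Fin d) (Fin d ⊕ Fin d) F)) →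
      (∀ z : F, (x : Matrix (Fin d ⊕ Fin d) (Fin d ⊕ Fin d) F) ≠ z • (1 : Matrix (Fin d ⊕ Fin d) (Fin d ⊕ Fin d) F)) →
      ∃ W ∈ isoSet (Qp d F) W₀, W.map (Matrix.toLin' (x : Matrix (Fin d ⊕ Fin d) (Fin d ⊕ Fin d) F)) ≤ W) := by
    constructor
    · intro H x hx h1 h3
      obtain ⟨W, hW, hinv⟩ := H x hx h1 h3
      exact ⟨W, (mem_geo_set (Qp d F) W₀ hW₀nd m hW₀.1 W).1 hW, hinv⟩
    · intro H x hx h1 h3
      obtain ⟨W, hW, hinv⟩ := H x hx h1 h3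
      exact ⟨W, (mem_geo_set (Qp d F) W₀ hW₀nd m hW₀.1 W).2 hW, hinv⟩
  have hpodd : p ≠ 2 := by
    rintro rfl
    exact h2 (CharTwo.two_eq_zero)
  by_cases hr2 : r = 2
  · subst hr2
    have hRHS : ((2 = 2 ∧ Odd d ∧ Fintype.card F % 8 ≠ 1) ∨
        (2 ≠ p ∧ 2 < 2 ∧ Odd i ∧ c ≤ m ∧ 0 < m % c ∧ m % c < (2 * d) % c) ∨
        (2 ≠ p ∧ 2 < 2 ∧ Even i ∧ (((2 * d) % c = 0 ∧ Odd ((2 * d) / i)) ∨ (i ≤ m ∧ 0 < m % c ∧ m % c < (2 * d) % c)))) ↔
        (Odd d ∧ Fintype.card F % 8 ≠ 1) := by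
      constructor
      · rintro (⟨-, h⟩ | ⟨-, h, -⟩ | ⟨-, h, -⟩)
        · exact h
        · exact absurd h (lt_irrefl 2)
        · exact absurd h (lt_irrefl 2)
      · intro h
        exact Or.inl ⟨rfl, h⟩
    rw [hRHS, hL]
    constructor
    · intro H
      by_contra hcon
      have hcase : Even d ∨ Fintype.card F % 8 = 1 := by
        by_cases hde : Even d
        · exact Or.inl hde
        · right
          by_contra h8
          exact hcon ⟨Nat.not_even_iff_odd.1 hde, h8⟩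
      obtain ⟨x, hxΩ, hneg⟩ := exists_sqneg_plus hodd d (by omega) hcase
      have hxiso := hisoΩ x hxΩ
      have hsq : ((x ^ 2 : GL (Fin d ⊕ Fin d) F) : Matrix (Fin d ⊕ Fin d) (Fin d ⊕ Fin d) F) =
          (-1 : F) • (1 : Matrix (Fin d ⊕ Fin d) (Fin d ⊕ Fin d) F) := by
        apply Matrix.toLin'.injective
        apply LinearMap.ext
        intro v
        rw [Units.val_pow_eq_pow_val, Matrix.toLin'_pow, pow_two, Module.End.mul_apply, hneg,
          map_smul, Matrix.toLin'_one]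
        simp
      have hns : ∀ z : F, (x : Matrix (Fin d ⊕ Fin d) (Fin d ⊕ Fin d) F) ≠
          z • (1 : Matrix (Fin d ⊕ Fin d) (Fin d ⊕ Fin d) F) := by
        intro z hxz
        have hlin : Matrix.toLin' (x : Matrix (Fin d ⊕ Fin d) (Fin d ⊕ Fin d) F) =
            z • (1 : Module.End F (Fin d ⊕ Fin d → F)) := by
          rw [hxz, map_smul, Matrix.toLin'_one]
          rfl
        have hz2 : z * z = 1 := by
          have h1 := hxiso v₀
          rw [hlin, LinearMap.smul_apply, Module.End.one_apply, QuadraticMap.map_smul,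
            smul_eq_mul] at h1
          exact mul_right_cancel₀ hv₀ (by rw [h1, one_mul])
        have h3 := hneg v₀
        rw [hlin] at h3
        simp only [LinearMap.smul_apply, Module.End.one_apply, smul_smul, hz2, one_smul] at h3
        have h4 : (2 : F) • v₀ = 0 := by
          rw [two_smul]
          nth_rewrite 1 [h3]
          exact neg_add_cancel v₀
        rcases smul_eq_zero.1 h4 with h | h
        · exact h2 h
        · rw [h, QuadraticMap.map_zero] at hv₀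
          exact hv₀ rfl
      obtain ⟨W, hW, hinv⟩ := H x hxΩ ⟨-1, hsq⟩ hns
      have hW' : Iso (Qp d F) W W₀ := hW
      have hev := even_of_sqneg_nd (Qp d F) _ h2 hxiso hneg W (fun u hu => hinv ⟨u, hu, rfl⟩)
        (iso_nd (Qp d F) (iso_symm (Qp d F) hW') hW₀nd)
      rw [iso_finrank (Qp d F) hW', hW₀.1] at hev
      exact (Nat.not_even_iff_odd.2 hm) hev
    · rintro ⟨hdodd, hq8⟩ x hx ⟨z, hz⟩ _
      have hxiso := hisoΩ x hx
      rcases Cfsg.Agent.Lib.Helper24.Or.scalar_sq_cases (Qp d F) v₀ hv₀ x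
        (Cfsg.Agent.Lib.Helper24.Or.iso_of_mem_omega _ x hx) z hz with hinv | hneg
      · have htt : ∀ v, Matrix.toLin' (x : Matrix (Fin d ⊕ Fin d) (Fin d ⊕ Fin d) F)
            (Matrix.toLin' (x : Matrix (Fin d ⊕ Fin d) (Fin d ⊕ Fin d) F) v) = v := by
          intro v
          have := congrArg (fun f : Module.End F (Fin d ⊕ Fin d → F) => f v) hinv
          simpa [pow_two] using this
        obtain ⟨W, hWiso, hWinv⟩ := invol_fix_iso (Qp d F) h2 hnd _ hxiso htt W₀ hW₀nd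
          (by rw [hW₀.1, hdimV]; omega)
        refine ⟨W, hWiso, ?_⟩
        rintro _ ⟨u, hu, rfl⟩
        exact hWinv u hu
      · exact absurd (no_sqneg_plus hodd d hdodd hq8 x hx hneg) id
  · have hr : r.Prime := Fact.out
    have h2r : 2 < r := lt_of_le_of_ne hr.two_le (Ne.symm hr2)
    by_cases hrp : r = p
    · subst hrp
      have hRHS : ¬ ((r = 2 ∧ Odd d ∧ Fintype.card F % 8 ≠ 1) ∨
          (r ≠ r ∧ 2 < r ∧ Odd i ∧ c ≤ m ∧ 0 < m % c ∧ m % c < (2 * d) % c) ∨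
          (r ≠ r ∧ 2 < r ∧ Even i ∧ (((2 * d) % c = 0 ∧ Odd ((2 * d) / i)) ∨ (i ≤ m ∧ 0 < m % c ∧ m % c < (2 * d) % c)))) := by
        rintro (⟨h, -⟩ | ⟨h, -⟩ | ⟨h, -⟩)
        · exact hr2 h
        · exact h rfl
        · exact h rfl
      refine iff_of_false ?_ hRHS
      intro H
      obtain ⟨x, hxΩ, hxord, hxW⟩ := exists_unip_plus (F := F) (p := r) h2 d m hd hm
      have hxr : x ^ r = 1 := by rw [← hxord]; exact pow_orderOf_eq_one x
      have hns : ∀ z : F, (x : Matrix (Fin d ⊕ Fin d) (Fin d ⊕ Fin d) F) ≠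
          z • (1 : Matrix (Fin d ⊕ Fin d) (Fin d ⊕ Fin d) F) := by
        intro z hxz
        have h1 : ((x ^ r : GL (Fin d ⊕ Fin d) F) : Matrix (Fin d ⊕ Fin d) (Fin d ⊕ Fin d) F) =
            (z ^ r) • (1 : Matrix (Fin d ⊕ Fin d) (Fin d ⊕ Fin d) F) := by
          rw [Units.val_pow_eq_pow_val, hxz, smul_pow, one_pow]
        rw [hxr, Units.val_one] at h1
        have h3 := congrFun (congrFun h1 (Sum.inl ⟨0, by omega⟩)) (Sum.inl ⟨0, by omega⟩)
        simp only [Matrix.one_apply_eq, Matrix.smul_apply, smul_eq_mul, mul_one] at h3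
        have hz1 : z = 1 := by
          apply frobenius_inj F r
          rw [frobenius_def, frobenius_def, one_pow, ← h3]
        rw [hz1, one_smul] at hxz
        have hx1 : x = 1 := Units.ext hxz
        rw [hx1, orderOf_one] at hxord
        exact hr.one_lt.ne hxord
      obtain ⟨W, hW, hinv⟩ := H x hxΩ ⟨1, by rw [hxr, one_smul]; rfl⟩ hns
      exact hxW W hinv ((geo_nd_gen (Qp d F) W).1 hW.2.1) hW.1
    · have hcardΩ : r ∣ Nat.card (isoSet (Qp d F) W₀) := by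
        rw [← Nat.card_congr (Equiv.subtypeEquivRight (mem_geo_set (Qp d F) W₀ hW₀nd m hW₀.1))]
        exact hrΩ
      have hipos : 0 < i := by
        rw [hi]
        exact orderOf_card_pos (F := F) r hrp
      rw [hL, odd_prime_iff (p := p) (Qp d F) hnd hodd 1 (Or.inl rfl) d (by omega) hcardι
        (hasType_plus d)
        (fun W _ _ _ Q hnd' hdim' ht' => univ_plus Q hnd' d (by omega) hdim' ht')
        r hr2 hrp W₀ hW₀nd (by rw [hW₀.1]; exact hm) (by rw [hW₀.1]; exact hmd) hcardΩ,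
        blockDim_eq _ r i c hi hc, hW₀.1,
        rhs_plus_par hr2 (Fintype.card F) i c m d hi hipos hc hm]
      constructor
      · rintro (h | h)
        · exact Or.inr (Or.inl ⟨hrp, h2r, h⟩)
        · exact Or.inr (Or.inr ⟨hrp, h2r, h⟩)
      · rintro (⟨h, -⟩ | ⟨-, -, h⟩ | ⟨-, -, h⟩)
        · exact absurd h hr2
        · exact Or.inl h
        · exact Or.inr h

/-- Elements of prime order of PΩ⁺_n(q), q odd, with no fixed nondegenerate `m`-space of odd dimension. Here `T = PΩ⁺_n(F)`, `n = 2d ≥ 8`, realised through `Ω⁺_n(q)`, the commutator subgroup of the isometry group of `Q = Σ xᵢyᵢ` over the field `F` with `q` elements; an element of `T` of prime order `r` is an element `x` of `Ω⁺_n(q)` with `x^r` scalar and `x` not scalar; `q` and `m` are odd, `1 ≤ m < n/2`. The nondegenerate `m`-spaces (subspaces on which the polar form is nondegenerate) fall into two isometry classes, each an orbit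 of `T`, and the two actions are equivalent; fix one such space `W₀` and let Ω be the set of nondegenerate `m`-spaces isometric to `W₀` (some linear isomorphism preserves `Q`). Let `r` be a prime dividing the size of Ω; for `r ≠ p` let `i` be the multiplicative order of `q` modulo `r`, `c = i` for `i` even and `c = 2i` for `i` odd, and write `k = n mod c`, `ℓ = m mod i`, `ℓ' = m mod c`, `n' = ⌊n/i⌋`, `m' = ⌊m/i⌋`, `t = (r−1)/i`. Then every element of `T` of order `r` fixes a member of Ω if and only if one of: (i) `r = 2`, `n ≡ 2 (mod 4)` and `q ≢ 1 (mod 8)`; (ii) `r ≠ p` odd, `i` odd, `c ≤ m` and `k > ℓ' > 0`; (iii) `r ≠ p` odd, `i` even, and either `k = 0` and `n/i` odd, or `i ≤ m` and `k > ℓ' > 0`. (For `r = p` there is always an element of order `p` fixing no member of Ω.) -/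
theorem result {F : Type*} [Field F] [Fintype F] {p : ℕ} [Fact p.Prime] [CharP F p] {q : ℕ} (hq : Fintype.card F = q)
    (hodd : Odd q) (d m : ℕ) (hd : 4 ≤ d) (hm : Odd m) (hmd : m < d)
    (W₀ : Submodule F (Fin d ⊕ Fin d → F)) (hW₀ : Module.finrank F ↥W₀ = m ∧ Cfsg.Geo.IsNondegenerateOn (QuadraticMap.polar (Cfsg.quadFormPlus d F)) W₀)
    (r : ℕ) [Fact r.Prime]
    (hrΩ : r ∣ Nat.card {W : Submodule F (Fin d ⊕ Fin d → F) // Module.finrank F ↥W = m ∧ Cfsg.Geo.IsNondegenerateOn (QuadraticMap.polar (Cfsg.quadFormPlus d F)) W ∧ Cfsg.Geo.AreIsometricFor (Cfsg.quadFormPlus d F) W W₀})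
    (i c : ℕ) (hi : i = orderOf (q : ZMod r)) (hc : c = if Even i then i else 2 * i) :
    (∀ x : GL (Fin d ⊕ Fin d) F, x ∈ Cfsg.Geo.omegaGL (Cfsg.quadFormPlus d F) →
      (∃ z : F, ((x ^ r : GL (Fin d ⊕ Fin d) F) : Matrix (Fin d ⊕ Fin d) (Fin d ⊕ Fin d) F) = z • (1 : Matrix (Fin d ⊕ Fin d) (Fin d ⊕ Fin d) F)) →
      (∀ z : F, (x : Matrix (Fin d ⊕ Fin d) (Fin d ⊕ Fin d) F) ≠ z • (1 : Matrix (Fin d ⊕ Fin d) (Fin d ⊕ Fin d) F)) →
      ∃ W : Submodule F (Fin d ⊕ Fin d → F), (Module.finrank F ↥W = m ∧ Cfsg.Geo.IsNondegenerateOn (QuadraticMap.polar (Cfsg.quadFormPlus d F)) W ∧ Cfsg.Geo.AreIsometricFor (Cfsg.quadFormPlus d F) W W₀) ∧ W.map (Matrix.toLin' (x : Matrix (Fin d ⊕ Fin d) (Fin d ⊕ Fin d) F)) ≤ W) ↔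
    ((r = 2 ∧ Odd d ∧ q % 8 ≠ 1) ∨
     (r ≠ p ∧ 2 < r ∧ Odd i ∧ c ≤ m ∧ 0 < m % c ∧ m % c < (2 * d) % c) ∨
     (r ≠ p ∧ 2 < r ∧ Even i ∧ (((2 * d) % c = 0 ∧ Odd ((2 * d) / i)) ∨ (i ≤ m ∧ 0 < m % c ∧ m % c < (2 * d) % c)))) := by
  exact main hq hodd d m hd hm hmd W₀ hW₀ r hrΩ i c hi hc

end Cfsg.Agent.S5989
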