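import Cfsg.Statements.S5991
-- import your own Cfsg.Agent.* helpers here
import Cfsg.Agent.Lib.Helper12.OrPO

set_option autoImplicit false
open scoped MatrixGroups
open Cfsg

namespace Cfsg.Agent.S5991

open Cfsg.Agent.Lib.Helper12 Cfsg.Agent.Lib.Helper12.OrN Cfsg.Agent.Lib.Helper12.OrP
  Cfsg.Agent.Lib.Helper12.Elus Cfsg.Agent.Lib.Helper25.Spin Cfsg.Agent.Lib.Helper15.QuadType
  Cfsg.Agent.Lib.Helper14.OrthMinus Cfsg.Agent.Lib.Helper14.QuadExt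

universe u

theorem main {F : Type u} [Field F] [Fintype F] {p : ℕ} [Fact p.Prime] [CharP F p] {q : ℕ} (hq : Fintype.card F = q)
    (hodd : Odd q) (k m : ℕ) (hk : 3 ≤ k) (hm : Odd m) (hmd : m < k + 1) (a b : F) (hab : ∀ x y : F, x ^ 2 + a * x * y + b * y ^ 2 = 0 → x = 0 ∧ y = 0)
    (W₀ : Submodule F ((Fin k ⊕ Fin k) ⊕ Fin 2 → F)) (hW₀ : Module.finrank F ↥W₀ = m ∧ Cfsg.Geo.IsNondegenerateOn (QuadraticMap.polar (Cfsg.quadFormMinus k F a b)) W₀)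
    (r : ℕ) [Fact r.Prime]
    (hrΩ : r ∣ Nat.card {W : Submodule F ((Fin k ⊕ Fin k) ⊕ Fin 2 → F) // Module.finrank F ↥W = m ∧ Cfsg.Geo.IsNondegenerateOn (QuadraticMap.polar (Cfsg.quadFormMinus k F a b)) W ∧ Cfsg.Geo.AreIsometricFor (Cfsg.quadFormMinus k F a b) W W₀})
    (i c : ℕ) (hi : i = orderOf (q : ZMod r)) (hc : c = if Even i then i else 2 * i) :
    (∀ x : GL ((Fin k ⊕ Fin k) ⊕ Fin 2) F, x ∈ Cfsg.Geo.omegaGL (Cfsg.quadFormMinus k F a b) →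
      (∃ z : F, ((x ^ r : GL ((Fin k ⊕ Fin k) ⊕ Fin 2) F) : Matrix ((Fin k ⊕ Fin k) ⊕ Fin 2) ((Fin k ⊕ Fin k) ⊕ Fin 2) F) = z • (1 : Matrix ((Fin k ⊕ Fin k) ⊕ Fin 2) ((Fin k ⊕ Fin k) ⊕ Fin 2) F)) →
      (∀ z : F, (x : Matrix ((Fin k ⊕ Fin k) ⊕ Fin 2) ((Fin k ⊕ Fin k) ⊕ Fin 2) F) ≠ z • (1 : Matrix ((Fin k ⊕ Fin k) ⊕ Fin 2) ((Fin k ⊕ Fin k) ⊕ Fin 2) F)) →
      ∃ W : Submodule F ((Fin k ⊕ Fin k) ⊕ Fin 2 → F), (Module.finrank F ↥W = m ∧ Cfsg.Geo.IsNondegenerateOn (QuadraticMap.polar (Cfsg.quadFormMinus k F a b)) W ∧ Cfsg.Geo.AreIsometricFor (Cfsg.quadFormMinus k F a b) W W₀) ∧ W.map (Matrix.toLin' (x : Matrix ((Fin k ⊕ Fin k) ⊕ Fin 2) ((Fin k ⊕ Fin k) ⊕ Fin 2) F)) ≤ W) ↔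
    ((r = 2 ∧ (Even (k + 1) ∨ q % 8 ≠ 7)) ∨
     (r ≠ p ∧ 2 < r ∧ Odd i ∧ ((2 * (k + 1)) % c = 0 ∨ (c ≤ m ∧ 0 < m % c ∧ m % c < (2 * (k + 1)) % c))) ∨
     (r ≠ p ∧ 2 < r ∧ Even i ∧ (((2 * (k + 1)) % c = 0 ∧ Even ((2 * (k + 1)) / i)) ∨ (0 < (2 * (k + 1)) % c ∧ i ≤ m ∧ 0 < m % c ∧ m % c < (2 * (k + 1)) % c)))) := by
  classical
  subst hq
  have hab' : Aniso a b := hab
  have hD : a ^ 2 - 4 * b ≠ 0 := disc_ne_zero hab'
  have h2 : (2 : F) ≠ 0 := Cfsg.Agent.Lib.Helper24.Or.two_ne_zero_odd hodd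
  have hnd := Qm_nondeg k a b hD
  have hW₀nd : Nd (Qm k a b hD) W₀ := (geo_nd_gen (Qm k a b hD) W₀).1 hW₀.2
  have hdimV : Module.finrank F (Idx k → F) = 2 * (k + 1) := finrank_Idx k
  have hVne : (⊤ : Submodule F (Idx k → F)) ≠ ⊥ := by
    intro h
    have := finrank_top F (Idx k → F)
    rw [h, finrank_bot, hdimV] at this
    omega
  obtain ⟨v₀, -, hv₀⟩ := exists_nonsing (Qm k a b hD) ⊤ (nd_top (Qm k a b hD) hnd) hVne
  have hisoΩ : ∀ x : GL (Idx k) F, x ∈ Cfsg.Geo.omegaGL (Cfsg.quadFormMinus k F a b) →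
      ∀ v, Qm k a b hD (Matrix.toLin' (x : Matrix (Idx k) (Idx k) F) v) = Qm k a b hD v :=
    fun x hx => Cfsg.Agent.Lib.Helper24.Or.toLin_iso _ x
      (Cfsg.Agent.Lib.Helper24.Or.iso_of_mem_omega _ x hx)
  have hL : (∀ x : GL ((Fin k ⊕ Fin k) ⊕ Fin 2) F, x ∈ Cfsg.Geo.omegaGL (Cfsg.quadFormMinus k F a b) →
      (∃ z : F, ((x ^ r : GL ((Fin k ⊕ Fin k) ⊕ Fin 2) F) : Matrix ((Fin k ⊕ Fin k) ⊕ Fin 2) ((Fin k ⊕ Fin k) ⊕ Fin 2) F) = z • (1 : Matrix ((Fin k ⊕ Fin k) ⊕ Fin 2) ((Fin k ⊕ Fin k) ⊕ Fin 2) F)) →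
      (∀ z : F, (x : Matrix ((Fin k ⊕ Fin k) ⊕ Fin 2) ((Fin k ⊕ Fin k) ⊕ Fin 2) F) ≠ z • (1 : Matrix ((Fin k ⊕ Fin k) ⊕ Fin 2) ((Fin k ⊕ Fin k) ⊕ Fin 2) F)) →
      ∃ W : Submodule F ((Fin k ⊕ Fin k) ⊕ Fin 2 → F), (Module.finrank F ↥W = m ∧ Cfsg.Geo.IsNondegenerateOn (QuadraticMap.polar (Cfsg.quadFormMinus k F a b)) W ∧ Cfsg.Geo.AreIsometricFor (Cfsg.quadFormMinus k F a b) W W₀) ∧ W.map (Matrix.toLin' (x : Matrix ((Fin k ⊕ Fin k) ⊕ Fin 2) ((Fin k ⊕ Fin k) ⊕ Fin 2) F)) ≤ W) ↔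
      (∀ x : GL (Idx k) F, x ∈ Cfsg.Geo.omegaGL ⇑(Qm k a b hD) →
      (∃ z : F, ((x ^ r : GL (Idx k) F) : Matrix (Idx k) (Idx k) F) = z • (1 : Matrix (Idx k) (Idx k) F)) →
      (∀ z : F, (x : Matrix (Idx k) (Idx k) F) ≠ z • (1 : Matrix (Idx k) (Idx k) F)) →
      ∃ W ∈ isoSet (Qm k a b hD) W₀, W.map (Matrix.toLin' (x : Matrix (Idx k) (Idx k) F)) ≤ W) := by
    constructor
    · intro H x hx h1 h3
      obtain ⟨W, hW, hinv⟩ := H x hx h1 h3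
      exact ⟨W, (mem_geo_set (Qm k a b hD) W₀ hW₀nd m hW₀.1 W).1 hW, hinv⟩
    · intro H x hx h1 h3
      obtain ⟨W, hW, hinv⟩ := H x hx h1 h3
      exact ⟨W, (mem_geo_set (Qm k a b hD) W₀ hW₀nd m hW₀.1 W).2 hW, hinv⟩
  by_cases hr2 : r = 2
  · subst hr2
    have hRHS : ((2 = 2 ∧ (Even (k + 1) ∨ Fintype.card F % 8 ≠ 7)) ∨
        (2 ≠ p ∧ 2 < 2 ∧ Odd i ∧ ((2 * (k + 1)) % c = 0 ∨ (c ≤ m ∧ 0 < m % c ∧ m % c < (2 * (k + 1)) % c))) ∨
        (2 ≠ p ∧ 2 < 2 ∧ Even i ∧ (((2 * (k + 1)) % c = 0 ∧ Even ((2 * (k + 1)) / i)) ∨ (0 < (2 * (k + 1)) % c ∧ i ≤ m ∧ 0 < m % c ∧ m % c < (2 * (k + 1)) % c)))) ↔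
        (Even (k + 1) ∨ Fintype.card F % 8 ≠ 7) := by
      constructor
      · rintro (⟨-, h⟩ | ⟨-, h, -⟩ | ⟨-, h, -⟩)
        · exact h
        · exact absurd h (lt_irrefl 2)
        · exact absurd h (lt_irrefl 2)
      · intro h
        exact Or.inl ⟨rfl, h⟩
    rw [hRHS, hL]
    constructor
    · intro H
      by_contra hcon
      push Not at hcon
      obtain ⟨hdodd, hq8⟩ := hcon
      obtain ⟨x, hxΩ, hneg⟩ := exists_sqneg_minus k a b hab' (Nat.not_even_iff_odd.1 hdodd) hq8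
      have hxiso := hisoΩ x hxΩ
      have hsq : ((x ^ 2 : GL (Idx k) F) : Matrix (Idx k) (Idx k) F) =
          (-1 : F) • (1 : Matrix (Idx k) (Idx k) F) := by
        apply Matrix.toLin'.injective
        apply LinearMap.ext
        intro v
        rw [Units.val_pow_eq_pow_val, Matrix.toLin'_pow, pow_two, Module.End.mul_apply, hneg,
          map_smul, Matrix.toLin'_one]
        simp
      have hns : ∀ z : F, (x : Matrix (Idx k) (Idx k) F) ≠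
          z • (1 : Matrix (Idx k) (Idx k) F) := by
        intro z hxz
        have hlin : Matrix.toLin' (x : Matrix (Idx k) (Idx k) F) =
            z • (1 : Module.End F (Idx k → F)) := by
          rw [hxz, map_smul, Matrix.toLin'_one]
          rfl
        have hz2 : z * z = 1 := by
          have h1 := hxiso v₀
          rw [hlin, LinearMap.smul_apply, Module.End.one_apply, QuadraticMap.map_smul,
            smul_eq_mul] at h1
          exact mul_right_cancel₀ hv₀ (by rw [h1, one_mul])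
        have h3 := hneg v₀
        rw [hlin] at h3
        simp only [LinearMap.smul_apply, Module.End.one_apply, smul_smul, hz2, one_smul] at h3
        have h4 : (2 : F) • v₀ = 0 := by
          rw [two_smul]
          nth_rewrite 1 [h3]
          exact neg_add_cancel v₀
        rcases smul_eq_zero.1 h4 with h | h
        · exact h2 h
        · rw [h, QuadraticMap.map_zero] at hv₀
          exact hv₀ rfl
      obtain ⟨W, hW, hinv⟩ := H x hxΩ ⟨-1, hsq⟩ hns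
      have hW' : Iso (Qm k a b hD) W W₀ := hW
      have hev := even_of_sqneg_nd (Qm k a b hD) _ h2 hxiso hneg W (fun u hu => hinv ⟨u, hu, rfl⟩)
        (iso_nd (Qm k a b hD) (iso_symm (Qm k a b hD) hW') hW₀nd)
      rw [iso_finrank (Qm k a b hD) hW', hW₀.1] at hev
      exact (Nat.not_even_iff_odd.2 hm) hev
    · rintro hcond x hx ⟨z, hz⟩ _
      have hxiso := hisoΩ x hx
      rcases Cfsg.Agent.Lib.Helper24.Or.scalar_sq_cases (Qm k a b hD) v₀ hv₀ x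
        (Cfsg.Agent.Lib.Helper24.Or.iso_of_mem_omega _ x hx) z hz with hinv | hneg
      · have htt : ∀ v, Matrix.toLin' (x : Matrix (Idx k) (Idx k) F)
            (Matrix.toLin' (x : Matrix (Idx k) (Idx k) F) v) = v := by
          intro v
          have := congrArg (fun f : Module.End F (Idx k → F) => f v) hinv
          simpa [pow_two] using this
        obtain ⟨W, hWiso, hWinv⟩ := invol_fix_iso (Qm k a b hD) h2 hnd _ hxiso htt W₀ hW₀nd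
          (by rw [hW₀.1, hdimV]; omega)
        refine ⟨W, hWiso, ?_⟩
        rintro _ ⟨u, hu, rfl⟩
        exact hWinv u hu
      · exact absurd (no_sqneg_minus hodd k a b hab' hcond x hx hneg) id
  · have hr : r.Prime := Fact.out
    have h2r : 2 < r := lt_of_le_of_ne hr.two_le (Ne.symm hr2)
    by_cases hrp : r = p
    · subst hrp
      have hRHS : ¬ ((r = 2 ∧ (Even (k + 1) ∨ Fintype.card F % 8 ≠ 7)) ∨
          (r ≠ r ∧ 2 < r ∧ Odd i ∧ ((2 * (k + 1)) % c = 0 ∨ (c ≤ m ∧ 0 < m % c ∧ m % c < (2 * (k + 1)) % c))) ∨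
          (r ≠ r ∧ 2 < r ∧ Even i ∧ (((2 * (k + 1)) % c = 0 ∧ Even ((2 * (k + 1)) / i)) ∨ (0 < (2 * (k + 1)) % c ∧ i ≤ m ∧ 0 < m % c ∧ m % c < (2 * (k + 1)) % c)))) := by
        rintro (⟨h, -⟩ | ⟨h, -⟩ | ⟨h, -⟩)
        · exact hr2 h
        · exact h rfl
        · exact h rfl
      refine iff_of_false ?_ hRHS
      intro H
      obtain ⟨x, hxΩ, hxord, hxW⟩ := exists_unip_minus (F := F) (p := r) h2 k hk a b hab' hD W₀
        hW₀nd (by rw [hW₀.1]; exact hm) (by rw [hW₀.1]; exact hmd)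
      have hxr : x ^ r = 1 := by rw [← hxord]; exact pow_orderOf_eq_one x
      have hns : ∀ z : F, (x : Matrix (Idx k) (Idx k) F) ≠
          z • (1 : Matrix (Idx k) (Idx k) F) := by
        intro z hxz
        have h1 : ((x ^ r : GL (Idx k) F) : Matrix (Idx k) (Idx k) F) =
            (z ^ r) • (1 : Matrix (Idx k) (Idx k) F) := by
          rw [Units.val_pow_eq_pow_val, hxz, smul_pow, one_pow]
        rw [hxr, Units.val_one] at h1
        have h3 := congrFun (congrFun h1 (Sum.inr 0)) (Sum.inr 0)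
        simp only [Matrix.one_apply_eq, Matrix.smul_apply, smul_eq_mul, mul_one] at h3
        have hz1 : z = 1 := by
          apply frobenius_inj F r
          rw [frobenius_def, frobenius_def, one_pow, ← h3]
        rw [hz1, one_smul] at hxz
        have hx1 : x = 1 := Units.ext hxz
        rw [hx1, orderOf_one] at hxord
        exact hr.one_lt.ne hxord
      obtain ⟨W, hW, hinv⟩ := H x hxΩ ⟨1, by rw [hxr, one_smul]; rfl⟩ hns
      exact hxW W hinv hW.2.2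
    · have hcardΩ : r ∣ Nat.card (isoSet (Qm k a b hD) W₀) := by
        rw [← Nat.card_congr (Equiv.subtypeEquivRight (mem_geo_set (Qm k a b hD) W₀ hW₀nd m hW₀.1))]
        exact hrΩ
      have hipos : 0 < i := by
        rw [hi]
        exact orderOf_card_pos (F := F) r hrp
      rw [hL, odd_prime_iff (p := p) (Qm k a b hD) hnd hodd (-1) (Or.inr rfl) (k + 1) (by omega)
        (card_Idx k) (hasType_Qm k a b hab' hD)
        (fun W _ _ _ Q hnd' hdim' ht' => univ_Qm k a b hab' hD W Q hnd' hdim' ht')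
        r hr2 hrp W₀ hW₀nd (by rw [hW₀.1]; exact hm) (by rw [hW₀.1]; exact hmd) hcardΩ,
        blockDim_eq _ r i c hi hc, hW₀.1,
        rhs_minus_par hr2 (Fintype.card F) i c m (k + 1) hi hipos hc hm]
      constructor
      · rintro (h | h)
        · exact Or.inr (Or.inl ⟨hrp, h2r, h⟩)
        · exact Or.inr (Or.inr ⟨hrp, h2r, h⟩)
      · rintro (⟨h, -⟩ | ⟨-, -, h⟩ | ⟨-, -, h⟩)
        · exact absurd h hr2
        · exact Or.inl h
        · exact Or.inr h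

/-- Elements of prime order of PΩ⁻_n(q), q odd, with no fixed nondegenerate `m`-space of odd dimension. Here `T = PΩ⁻_n(F)`, `n = 2d ≥ 8`, realised through `Ω⁻_n(q)`, the commutator subgroup of the isometry group of `Q = Σ_{i<d−1} xᵢyᵢ + z₁² + a z₁z₂ + b z₂²` with `z₁² + a z₁z₂ + b z₂²` anisotropic, over the field `F` with `q` elements; an element of `T` of prime order `r` is an element `x` of `Ω⁻_n(q)` with `x^r` scalar and `x` not scalar; `q` and `m` are odd, `1 ≤ m < n/2`. The nondegenerate `m`-spaces fall into two isometry classes, each an orbit of `T`, with equivalent actions; fix one such space `W₀` and let Ω be the set of nondegenerate `m`-spaces isometric to `W₀`. Let `r` be a prime dividing the size of Ω; for `r ≠ p` let `i` be the multiplicative order of `q` modulo `r`, `c = i` for `i` even and `c = 2i` for `i` odd, and write `k = n mod c`, `ℓ = m mod i`, `ℓ' =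 m mod c`, `n' = ⌊n/i⌋`, `m' = ⌊m/i⌋`, `t = (r−1)/i`. Then every element of `T` of order `r` fixes a member of Ω if and only if one of: (i) `r = 2` and (`n ≡ 0 (mod 4)` or `q ≢ 7 (mod 8)`); (ii) `r ≠ p` odd, `i` odd, and `k = 0` or (`c ≤ m` and `k > ℓ' > 0`); (iii) `r ≠ p` odd, `i` even, and either `k = 0` and `n/i` even, or `k > 0`, `i ≤ m` and `k > ℓ' > 0`. (For `r = p` there is always an element of order `p` fixing no member of Ω.) -/
theorem result {F : Type*} [Field F] [Fintype F] {p : ℕ} [Fact p.Prime] [CharP F p] {q : ℕ} (hq : Fintype.card F = q)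
    (hodd : Odd q) (d m : ℕ) (hd : 4 ≤ d) (hm : Odd m) (hmd : m < d) (a b : F) (hab : ∀ x y : F, x ^ 2 + a * x * y + b * y ^ 2 = 0 → x = 0 ∧ y = 0)
    (W₀ : Submodule F ((Fin (d - 1) ⊕ Fin (d - 1)) ⊕ Fin 2 → F)) (hW₀ : Module.finrank F ↥W₀ = m ∧ Cfsg.Geo.IsNondegenerateOn (QuadraticMap.polar (Cfsg.quadFormMinus (d - 1) F a b)) W₀)
    (r : ℕ) [Fact r.Prime]
    (hrΩ : r ∣ Nat.card {W : Submodule F ((Fin (d - 1) ⊕ Fin (d - 1)) ⊕ Fin 2 → F) // Module.finrank F ↥W = m ∧ Cfsg.Geo.IsNondegenerateOn (QuadraticMap.polar (Cfsg.quadFormMinus (d - 1) F a b)) W ∧ Cfsg.Geo.AreIsometricFor (Cfsg.quadFormMinus (d - 1) F a b) W W₀})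
    (i c : ℕ) (hi : i = orderOf (q : ZMod r)) (hc : c = if Even i then i else 2 * i) :
    (∀ x : GL ((Fin (d - 1) ⊕ Fin (d - 1)) ⊕ Fin 2) F, x ∈ Cfsg.Geo.omegaGL (Cfsg.quadFormMinus (d - 1) F a b) →
      (∃ z : F, ((x ^ r : GL ((Fin (d - 1) ⊕ Fin (d - 1)) ⊕ Fin 2) F) : Matrix ((Fin (d - 1) ⊕ Fin (d - 1)) ⊕ Fin 2) ((Fin (d - 1) ⊕ Fin (d - 1)) ⊕ Fin 2) F) = z • (1 : Matrix ((Fin (d - 1) ⊕ Fin (d - 1)) ⊕ Fin 2) ((Fin (d - 1) ⊕ Fin (d - 1)) ⊕ Fin 2) F)) →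
      (∀ z : F, (x : Matrix ((Fin (d - 1) ⊕ Fin (d - 1)) ⊕ Fin 2) ((Fin (d - 1) ⊕ Fin (d - 1)) ⊕ Fin 2) F) ≠ z • (1 : Matrix ((Fin (d - 1) ⊕ Fin (d - 1)) ⊕ Fin 2) ((Fin (d - 1) ⊕ Fin (d - 1)) ⊕ Fin 2) F)) →
      ∃ W : Submodule F ((Fin (d - 1) ⊕ Fin (d - 1)) ⊕ Fin 2 → F), (Module.finrank F ↥W = m ∧ Cfsg.Geo.IsNondegenerateOn (QuadraticMap.polar (Cfsg.quadFormMinus (d - 1) F a b)) W ∧ Cfsg.Geo.AreIsometricFor (Cfsg.quadFormMinus (d - 1) F a b) W W₀) ∧ W.map (Matrix.toLin' (x : Matrix ((Fin (d - 1) ⊕ Fin (d - 1)) ⊕ Fin 2) ((Fin (d - 1) ⊕ Fin (d - 1)) ⊕ Fin 2) F)) ≤ W) ↔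
    ((r = 2 ∧ (Even d ∨ q % 8 ≠ 7)) ∨
     (r ≠ p ∧ 2 < r ∧ Odd i ∧ ((2 * d) % c = 0 ∨ (c ≤ m ∧ 0 < m % c ∧ m % c < (2 * d) % c))) ∨
     (r ≠ p ∧ 2 < r ∧ Even i ∧ (((2 * d) % c = 0 ∧ Even ((2 * d) / i)) ∨ (0 < (2 * d) % c ∧ i ≤ m ∧ 0 < m % c ∧ m % c < (2 * d) % c)))) := by
  obtain ⟨k, rfl⟩ : ∃ k, d = k + 1 := ⟨d - 1, by omega⟩
  exact main hq hodd k m (by omega) hm hmd a b hab W₀ hW₀ r hrΩ i c hi hc

end Cfsg.Agent.S5991
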