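import Cfsg.Statements.S5993
-- import your own Cfsg.Agent.* helpers here
import Cfsg.Agent.Lib.Helper12.OrNJ
import Cfsg.Agent.Lib.Helper12.OrNK

set_option autoImplicit false
open scoped MatrixGroups
open Cfsg

namespace Cfsg.Agent.S5993

open Cfsg.Agent.Lib.Helper12 Cfsg.Agent.Lib.Helper12.OrN Cfsg.Agent.Lib.Helper12.Elus

universe u

theorem main {F : Type u} [Field F] [Fintype F] {p : ℕ} [Fact p.Prime] [CharP F p] {q : ℕ}
    (hq : Fintype.card F = q) (hqodd : Odd q)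
    (d m : ℕ) (hd : 3 ≤ d) (hm : 2 ≤ m) (hme : Even m) (hmn : m ≤ 2 * d)
    (r : ℕ) [Fact r.Prime]
    (hrΩ : r ∣ Nat.card {W : Submodule F (Unit ⊕ (Fin d ⊕ Fin d) → F) // Module.finrank F ↥W = m ∧ Cfsg.Geo.IsNondegenerateOn (QuadraticMap.polar (Cfsg.quadFormOdd d F)) W ∧ ¬ Cfsg.Geo.IsPlusTypeOn (Cfsg.quadFormOdd d F) W})
    (i c : ℕ) (hi : i = orderOf (q : ZMod r)) (hc : c = if Even i then i else 2 * i) :
    (∀ x : GL (Unit ⊕ (Fin d ⊕ Fin d)) F, x ∈ Cfsg.Geo.omegaGL (Cfsg.quadFormOdd d F) → orderOf x = r →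
      ∃ W : Submodule F (Unit ⊕ (Fin d ⊕ Fin d) → F), (Module.finrank F ↥W = m ∧ Cfsg.Geo.IsNondegenerateOn (QuadraticMap.polar (Cfsg.quadFormOdd d F)) W ∧ ¬ Cfsg.Geo.IsPlusTypeOn (Cfsg.quadFormOdd d F) W) ∧ W.map (Matrix.toLin' (x : Matrix (Unit ⊕ (Fin d ⊕ Fin d)) (Unit ⊕ (Fin d ⊕ Fin d)) F)) ≤ W) ↔
    (r = 2 ∨
     (r ≠ p ∧ 2 < r ∧ Odd i ∧ c ≤ m ∧ 0 < m % c ∧ m % c < (2 * d + 1) % c) ∨
     (r ≠ p ∧ 2 < r ∧ Even i ∧ i ≤ m ∧ m % c < (2 * d + 1) % c ∧ (0 < m % c ∨ Odd (m / i)))) := by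
  have h2 : (2 : F) ≠ 0 :=
    Cfsg.Agent.Lib.Helper25.Spin.two_ne_zero_of_odd_card (by rw [hq]; exact hqodd)
  subst hq
  have hr : r.Prime := Fact.out
  have hL : (∀ x : GL (Unit ⊕ (Fin d ⊕ Fin d)) F, x ∈ Cfsg.Geo.omegaGL (Cfsg.quadFormOdd d F) → orderOf x = r →
      ∃ W : Submodule F (Unit ⊕ (Fin d ⊕ Fin d) → F), (Module.finrank F ↥W = m ∧ Cfsg.Geo.IsNondegenerateOn (QuadraticMap.polar (Cfsg.quadFormOdd d F)) W ∧ ¬ Cfsg.Geo.IsPlusTypeOn (Cfsg.quadFormOdd d F) W) ∧ W.map (Matrix.toLin' (x : Matrix (Unit ⊕ (Fin d ⊕ Fin d)) (Unit ⊕ (Fin d ⊕ Fin d)) F)) ≤ W) ↔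
      (∀ x : GL (Unit ⊕ (Fin d ⊕ Fin d)) F, x ∈ Cfsg.Geo.omegaGL (Cfsg.quadFormOdd d F) →
        orderOf x = r → ∃ W ∈ typedSet (Qd d h2) m (-1),
          W.map (Matrix.toLin' (x : Matrix (Unit ⊕ (Fin d ⊕ Fin d)) (Unit ⊕ (Fin d ⊕ Fin d)) F)) ≤
            W) := by
    constructor
    · intro H x hx hord
      obtain ⟨W, hW, hinv⟩ := H x hx hord
      exact ⟨W, (mem_typed_minus d h2 m hme W).1 hW, hinv⟩
    · intro H x hx hord
      obtain ⟨W, hW, hinv⟩ := H x hx hord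
      exact ⟨W, (mem_typed_minus d h2 m hme W).2 hW, hinv⟩
  rw [hL]
  by_cases hr2 : r = 2
  · constructor
    · intro _
      left
      exact hr2
    · intro _ x hx hord
      rw [hr2] at hord
      exact core_two h2 d m hm hme hmn (-1) (Or.inr rfl) x hx hord
  by_cases hrp : r = p
  · constructor
    · intro H
      exfalso
      obtain ⟨x, hxΩ, hxord, hxplus⟩ := exists_unip_omega (F := F) (p := p) h2 d hd
      obtain ⟨W, ⟨hWdim, hWnd, hWt⟩, hWinv⟩ := H x hxΩ (by rw [hxord, hrp])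
      have hev : Even (Module.finrank F W) := by rw [hWdim]; exact hme
      have h5 := (typeOn_one_iff _ W hWnd hev).2 (hxplus W hWinv hWnd hev)
      have := typeOn_unique _ W hWt h5
      omega
    · rintro (h | ⟨h, -⟩ | ⟨h, -⟩)
      · exact absurd h hr2
      · exact absurd hrp h
      · exact absurd hrp h
  · have h2r : 2 < r := lt_of_le_of_ne hr.two_le (Ne.symm hr2)
    have hcard : r ∣ Nat.card (typedSet (Qd d h2) m (-1)) := by
      rw [← Nat.card_congr (Equiv.subtypeEquivRight (mem_typed_minus d h2 m hme))]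
      exact hrΩ
    have hipos : 0 < i := by
      rw [hi]
      exact orderOf_card_pos (F := F) r hrp
    rw [core_ss h2 d m hm hme hmn r hr2 hrp (-1) (Or.inr rfl) hcard,
      blockDim_eq _ r i c hi hc,
      rhs_minus hr2 (Fintype.card F) i c m (2 * d + 1) hi hipos hc hme]
    constructor
    · rintro (⟨h3, h4, h5, h6⟩ | ⟨h3, h4, h5, h6⟩)
      · right
        left
        exact ⟨hrp, h2r, h3, h4, h5, h6⟩
      · right
        right
        exact ⟨hrp, h2r, h3, h4, h5, h6⟩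
    · rintro (h | ⟨-, -, h3, h4, h5, h6⟩ | ⟨-, -, h3, h4, h5, h6⟩)
      · exact absurd h hr2
      · left
        exact ⟨h3, h4, h5, h6⟩
      · right
        exact ⟨h3, h4, h5, h6⟩

/-- Elements of prime order of Ω_n(q), nq odd, with no fixed elliptic `m`-space. Here `T = Ω_n(F)`, `n = 2d+1 ≥ 7`, `q` odd, realised as the commutator subgroup of the isometry group of `Q = x₀² + Σ xᵢyᵢ` over the field `F` with `q` elements (trivial centre, so its elements of prime order `r` are used directly); a nondegenerate `m`-space (even `m`) is a subspace on which the polar form of `Q` is nondegenerate; it is hyperbolic if it contains an `m/2`-dimensional subspace on which `Q` vanishes, elliptic otherwise. Let `m` be even with `2 ≤ m ≤ n − 1` (no restriction `m < n/2`) and let `r` be a prime dividing the number of elliptic `m`-spaces; for `r ≠ p` let `i` be the multiplicative order of `q` modulo `r`, `c = i` for `i`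 even and `c = 2i` for `i` odd, and write `k = n mod c`, `ℓ' = m mod c`. Then every element of `T` of order `r` fixes some elliptic `m`-space if and only if `r = 2`, or `r ≠ p` is odd and one of: (i) `i` odd, `c ≤ m` and `k > ℓ' > 0`; (ii) `i` even, `i ≤ m`, `k > ℓ'`, and `m/i` odd whenever `ℓ' = 0`. (For `r = p` there is always an element of order `p` fixing no elliptic `m`-space.) -/
theorem result {F : Type*} [Field F] [Fintype F] {p : ℕ} [Fact p.Prime] [CharP F p] {q : ℕ} (hq : Fintype.card F = q) (hqodd : Odd q)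
    (d m : ℕ) (hd : 3 ≤ d) (hm : 2 ≤ m) (hme : Even m) (hmn : m ≤ 2 * d)
    (r : ℕ) [Fact r.Prime]
    (hrΩ : r ∣ Nat.card {W : Submodule F (Unit ⊕ (Fin d ⊕ Fin d) → F) // Module.finrank F ↥W = m ∧ Cfsg.Geo.IsNondegenerateOn (QuadraticMap.polar (Cfsg.quadFormOdd d F)) W ∧ ¬ Cfsg.Geo.IsPlusTypeOn (Cfsg.quadFormOdd d F) W})
    (i c : ℕ) (hi : i = orderOf (q : ZMod r)) (hc : c = if Even i then i else 2 * i) :
    (∀ x : GL (Unit ⊕ (Fin d ⊕ Fin d)) F, x ∈ Cfsg.Geo.omegaGL (Cfsg.quadFormOdd d F) → orderOf x = r →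
      ∃ W : Submodule F (Unit ⊕ (Fin d ⊕ Fin d) → F), (Module.finrank F ↥W = m ∧ Cfsg.Geo.IsNondegenerateOn (QuadraticMap.polar (Cfsg.quadFormOdd d F)) W ∧ ¬ Cfsg.Geo.IsPlusTypeOn (Cfsg.quadFormOdd d F) W) ∧ W.map (Matrix.toLin' (x : Matrix (Unit ⊕ (Fin d ⊕ Fin d)) (Unit ⊕ (Fin d ⊕ Fin d)) F)) ≤ W) ↔
    (r = 2 ∨
     (r ≠ p ∧ 2 < r ∧ Odd i ∧ c ≤ m ∧ 0 < m % c ∧ m % c < (2 * d + 1) % c) ∨
     (r ≠ p ∧ 2 < r ∧ Even i ∧ i ≤ m ∧ m % c < (2 * d + 1) % c ∧ (0 < m % c ∨ Odd (m / i)))) := by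
  exact main hq hqodd d m hd hm hme hmn r hrΩ i c hi hc

end Cfsg.Agent.S5993
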