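import Cfsg.Statements.S5994
-- import your own Cfsg.Agent.* helpers here
import Cfsg.Agent.Lib.Helper15.UniOmega4
import Cfsg.Agent.Lib.Helper25.SpinForms

set_option autoImplicit false
open scoped MatrixGroups
open Cfsg

namespace Cfsg.Agent.S5994

open Module QuadraticMap Cfsg.Agent.Lib.Helper15.SemisimpleConj
  Cfsg.Agent.Lib.Helper15.NilpotentConj Cfsg.Agent.Lib.Helper15.UniForm
  Cfsg.Agent.Lib.Helper15.UniModels Cfsg.Agent.Lib.Helper15.UniJordan
  Cfsg.Agent.Lib.Helper15.UniOmega Cfsg.Agent.Lib.Helper15.UniOmega2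
  Cfsg.Agent.Lib.Helper15.UniOmega3 Cfsg.Agent.Lib.Helper15.UniDisc
  Cfsg.Agent.Lib.Helper15.UniOmega4
open scoped Matrix

universe u

section

variable {F : Type u} [Field F] [Fintype F] {p : ℕ} [Fact p.Prime] [CharP F p]

/-- the index type of the minus form -/
abbrev Idx (k : ℕ) : Type := (Fin k ⊕ Fin k) ⊕ Fin 2

/-- the hypothesis: every element of order `p` fixes an elliptic `m`-space -/
def Hyp (p : ℕ) (k m : ℕ) (a b : F) : Prop :=
  ∀ x : GL (Idx k) F, x ∈ Cfsg.Geo.omegaGL (Cfsg.quadFormMinus k F a b) →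
    (∃ z : F, ((x ^ p : GL (Idx k) F) : Matrix (Idx k) (Idx k) F) =
      z • (1 : Matrix (Idx k) (Idx k) F)) →
    (∀ z : F, (x : Matrix (Idx k) (Idx k) F) ≠ z • (1 : Matrix (Idx k) (Idx k) F)) →
    ∃ W : Submodule F (Idx k → F),
      (Module.finrank F ↥W = m ∧
        Cfsg.Geo.IsNondegenerateOn (QuadraticMap.polar (Cfsg.quadFormMinus k F a b)) W ∧
        ¬ Cfsg.Geo.IsPlusTypeOn (Cfsg.quadFormMinus k F a b) W) ∧
      W.map (Matrix.toLin' (x : Matrix (Idx k) (Idx k) F)) ≤ W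

theorem core (h2 : (2 : F) ≠ 0) (hp2 : p ≠ 2) (k m : ℕ) (a b : F)
    (hab : ∀ x y : F, x ^ 2 + a * x * y + b * y ^ 2 = 0 → x = 0 ∧ y = 0)
    (h : Hyp p k m a b) (μ : Multiset ℕ) (hμ : ∀ e ∈ μ, 0 < e ∧ e ≤ p)
    (hpar : ∀ e : ℕ, Even e → Even (μ.count e)) (hsum : μ.sum = 2 * (k + 1))
    (hodd : ∃ j ∈ μ, Odd j) (hcard : Multiset.card μ ≠ μ.sum) :
    ∃ (T : End F (Idx k → F)) (W : Submodule F (Idx k → F)),
      (∀ x, Cfsg.quadFormMinus k F a b (T x) = Cfsg.quadFormMinus k F a b x) ∧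
      (∀ s, kap (T - 1) s = kapm μ s) ∧ finrank F W = m ∧
      ¬ Cfsg.Geo.IsPlusTypeOn (Cfsg.quadFormMinus k F a b) W ∧
      ∃ ν : Multiset ℕ, ν ≤ μ ∧ ν.sum = m ∧ (∀ e, Even e → Even (ν.count e)) ∧
        (∀ b ∈ ν, 1 ≤ b) ∧ ∃ hW1 : W ∈ (T - 1).invtSubmodule,
          ∀ s, kap ((T - 1).restrict hW1) s = kapm ν s := by
  classical
  have hp := (Fact.out : p.Prime)
  have hμ1 : ∀ b ∈ μ, 1 ≤ b := fun b hb => (hμ b hb).1
  have hD : a ^ 2 - 4 * b ≠ 0 := Cfsg.Agent.Lib.Helper14.OrthMinus.disc_ne_zero hab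
  obtain ⟨W₀, _, _, _, T₀, QW, hinv, hnil, hk, g, hg⟩ :=
    exists_minus_model h2 k a b hD μ hμ1 hpar hsum hodd
  obtain ⟨Q₀, hQ₀⟩ : ∃ Q₀ : QuadraticForm F (Idx k → F),
      Q₀ = Cfsg.Agent.Lib.Helper15.minusQFab k a b := ⟨_, rfl⟩
  have hcoe : ⇑Q₀ = Cfsg.quadFormMinus k F a b := by
    rw [hQ₀]
    funext v
    exact Cfsg.Agent.Lib.Helper15.minusQFab_eq k a b v
  have hnd₀ : (polarBilin Q₀).Nondegenerate := by
    rw [hQ₀]
    exact Cfsg.Agent.Lib.Helper15.QuadType.minusQFab_nondegenerate k a b hD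
  obtain ⟨A, hAΩ, hord, hnilA, hkA⟩ := exists_omega_element p hp2 Q₀ hnd₀ μ hμ hcard T₀ hnil hk
    QW hinv 1 one_ne_zero g (fun x => by rw [one_mul, hQ₀]; exact hg x)
  have hxmem : (A : GL (Idx k) F) ∈ Cfsg.Geo.omegaGL (Cfsg.quadFormMinus k F a b) := by
    rw [← hcoe]
    exact Subgroup.mem_map.2 ⟨A, hAΩ, rfl⟩
  have hx1 : ∃ z : F, (((A : GL (Idx k) F) ^ p : GL (Idx k) F) : Matrix (Idx k) (Idx k) F) =
      z • (1 : Matrix (Idx k) (Idx k) F) := by
    refine ⟨1, ?_⟩
    rw [← hord, pow_orderOf_eq_one, one_smul, Units.val_one]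
  have hx2 : ∀ z : F, ((A : GL (Idx k) F) : Matrix (Idx k) (Idx k) F) ≠
      z • (1 : Matrix (Idx k) (Idx k) F) := by
    intro z hz
    obtain ⟨n, hn0⟩ := hnilA
    have h3 : Matrix.toLin' ((A : GL (Idx k) F) : Matrix (Idx k) (Idx k) F) - 1 =
        (z - 1) • (1 : End F (Idx k → F)) := by
      rw [hz, map_smul, Matrix.toLin'_one]
      apply LinearMap.ext
      intro v
      simp only [LinearMap.sub_apply, LinearMap.smul_apply, LinearMap.id_apply,
        Module.End.one_apply]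
      rw [sub_smul, one_smul]
    rw [h3, smul_pow, one_pow] at hn0
    have hz1 : z = 1 := by
      by_contra hne
      have h4 : (z - 1) ^ n ≠ 0 := pow_ne_zero _ (sub_ne_zero.2 hne)
      have h5 := congrArg (fun X : End F (Idx k → F) =>
        X (Pi.single (Sum.inr 0) 1) (Sum.inr 0)) hn0
      simp only [LinearMap.smul_apply, Module.End.one_apply, Pi.smul_apply, Pi.single_eq_same,
        smul_eq_mul, mul_one, LinearMap.zero_apply, Pi.zero_apply] at h5
      exact h4 h5
    have h6 : (A : GL (Idx k) F) = 1 := by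
      apply Units.ext
      rw [hz, hz1, one_smul, Units.val_one]
    rw [h6, orderOf_one] at hord
    exact hp.one_lt.ne hord
  obtain ⟨W, ⟨hWfr, hWnd, hWnp⟩, hWinv⟩ := h _ hxmem hx1 hx2
  obtain ⟨hinvQ, hinvB⟩ := isometry_facts' Q₀ A
  obtain ⟨ν, hle, hsum', hpar', hν1, hW1, hνk⟩ := sub_type_of_invariant' h2 (polarBilin Q₀)
    (fun x y => by rw [polarBilin_apply_apply, polarBilin_apply_apply, polar_comm])
    (Matrix.toLin' ((A : GL (Idx k) F) : Matrix (Idx k) (Idx k) F))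
    hinvB hnilA μ hμ1 hkA W hWinv
    (fun w hw hw0 => by
      obtain ⟨x, hx, hxw⟩ := (hWnd w hw hw0).1
      refine ⟨x, hx, ?_⟩
      rw [polarBilin_apply_apply, hcoe]
      exact hxw)
  refine ⟨Matrix.toLin' ((A : GL (Idx k) F) : Matrix (Idx k) (Idx k) F), W, ?_, hkA, hWfr, hWnp,
    ν, hle, by rw [hsum', hWfr], hpar', hν1, hW1, hνk⟩
  intro x
  rw [← hcoe]
  exact hinvQ x


theorem key (h2 : (2 : F) ≠ 0) (hp2 : p ≠ 2) (k m : ℕ) (hme : Even m) (hmle : m ≤ 2 * (k + 1))
    (a b : F)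
    (hab : ∀ x y : F, x ^ 2 + a * x * y + b * y ^ 2 = 0 → x = 0 ∧ y = 0)
    (h : Hyp p k m a b) (μ : Multiset ℕ) (hμ : ∀ e ∈ μ, 0 < e ∧ e ≤ p)
    (hpar : ∀ e : ℕ, Even e → Even (μ.count e)) (hsum : μ.sum = 2 * (k + 1)) :
    ∃ ν : Multiset ℕ, ν ≤ μ ∧ ν.sum = m ∧ ∀ e : ℕ, Even e → Even (ν.count e) := by
  classical
  have hp := (Fact.out : p.Prime)
  have hμ1 : ∀ b ∈ μ, 1 ≤ b := fun b hb => (hμ b hb).1
  by_cases hcard : Multiset.card μ = μ.sum
  · have h1 := eq_replicate_of_card_eq_sum μ hμ1 hcard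
    rw [hcard, hsum] at h1
    refine ⟨Multiset.replicate m 1, ?_, by simp, ?_⟩
    · rw [h1]
      exact (Multiset.replicate_le_replicate 1).2 hmle
    · intro e he
      rw [Multiset.count_replicate, if_neg]
      · exact Even.zero
      · rintro rfl
        exact absurd he (by decide)
  · by_cases hodd : ∃ j ∈ μ, Odd j
    · obtain ⟨T, W, -, -, -, -, ν, hle, hs, hpar', -, -⟩ :=
        core h2 hp2 k m a b hab h μ hμ hpar hsum hodd hcard
      exact ⟨ν, hle, hs, hpar'⟩
    · have hev : ∀ j ∈ μ, Even j := fun j hj =>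
        Nat.not_odd_iff_even.1 (fun ho => hodd ⟨j, hj, ho⟩)
      have hne : μ ≠ 0 := by
        rintro rfl
        simp at hsum
      obtain ⟨j, hj⟩ := Multiset.exists_mem_of_ne_zero hne
      have hjev := hev j hj
      have hc : Even (μ.count j) := hpar j hjev
      have hc1 : 1 ≤ μ.count j := Multiset.one_le_count_iff_mem.2 hj
      have hc2 : 2 ≤ μ.count j := by
        obtain ⟨c, hc⟩ := hc
        omega
      obtain ⟨ρ', hρ'⟩ := Multiset.exists_cons_of_mem hj
      have hj' : j ∈ ρ' := by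
        have : 1 ≤ ρ'.count j := by
          rw [hρ', Multiset.count_cons_self] at hc2
          omega
        exact Multiset.one_le_count_iff_mem.1 this
      obtain ⟨ρ, hρ⟩ := Multiset.exists_cons_of_mem hj'
      have hμeq : μ = j ::ₘ j ::ₘ ρ := by rw [hρ', hρ]
      have hj0 : 0 < j := (hμ j hj).1
      have hj2 : 2 ≤ j := by
        obtain ⟨c, hc⟩ := hjev
        omega
      have hpodd : Odd p := hp.odd_of_ne_two hp2
      have hjp : j + 1 ≤ p := by
        have := (hμ j hj).2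
        rcases this.lt_or_eq with h' | h'
        · omega
        · exfalso
          rw [h'] at hjev
          exact (Nat.not_even_iff_odd.2 hpodd) hjev
      have hj1o : Odd (j + 1) := hjev.add_one
      have hj2o : Odd (j - 1) := by
        obtain ⟨c, hc⟩ := hjev
        exact ⟨c - 1, by omega⟩
      have hρμ : ∀ x ∈ ρ, x ∈ μ := by
        intro x hx
        rw [hμeq]
        exact Multiset.mem_cons_of_mem (Multiset.mem_cons_of_mem hx)
      obtain ⟨μ', hμ'⟩ : ∃ μ' : Multiset ℕ, μ' = (j + 1) ::ₘ (j - 1) ::ₘ ρ := ⟨_, rfl⟩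
      have hμ'b : ∀ e ∈ μ', 0 < e ∧ e ≤ p := by
        intro e he
        rw [hμ', Multiset.mem_cons, Multiset.mem_cons] at he
        rcases he with rfl | rfl | he
        · exact ⟨by omega, hjp⟩
        · exact ⟨by omega, by omega⟩
        · exact hμ e (hρμ e he)
      have hpar'' : ∀ e : ℕ, Even e → Even (μ'.count e) := by
        intro e he
        have hne1 : e ≠ j + 1 := by
          rintro rfl
          exact (Nat.not_even_iff_odd.2 hj1o) he
        have hne2 : e ≠ j - 1 := by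
          rintro rfl
          exact (Nat.not_even_iff_odd.2 hj2o) he
        rw [hμ', Multiset.count_cons_of_ne hne1, Multiset.count_cons_of_ne hne2]
        have h3 := hpar e he
        rw [hμeq, Multiset.count_cons, Multiset.count_cons] at h3
        split_ifs at h3
        · rw [Nat.even_iff] at h3 ⊢
          omega
        · simpa using h3
      have hsum'' : μ'.sum = 2 * (k + 1) := by
        rw [← hsum, hμ', hμeq]
        simp only [Multiset.sum_cons]
        omega
      have hodd'' : ∃ i ∈ μ', Odd i := ⟨j + 1, by rw [hμ']; exact Multiset.mem_cons_self _ _, hj1o⟩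
      have hcard'' : Multiset.card μ' ≠ μ'.sum := by
        intro h3
        apply hcard
        rw [hsum'', hμ'] at h3
        rw [hsum, hμeq]
        simpa using h3
      obtain ⟨T, W, -, -, -, -, ν', hle, hs, hparν, -, -⟩ :=
        core h2 hp2 k m a b hab h μ' hμ'b hpar'' hsum'' hodd'' hcard''
      rw [hμ'] at hle
      obtain ⟨ν, hν, hνs, hνp⟩ := pull_back j hjev hj0 ρ ν'
        (fun x hx => hev x (hρμ x hx)) hle m hme hs hparν
      exact ⟨ν, by rw [hμeq]; exact hν, hνs, hνp⟩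


theorem congr_even (h2 : (2 : F) ≠ 0) (hp2 : p ≠ 2) (k m : ℕ) (hk : Odd k) (hme : Even m)
    (hmle : m ≤ 2 * (k + 1)) (a b : F)
    (hab : ∀ x y : F, x ^ 2 + a * x * y + b * y ^ 2 = 0 → x = 0 ∧ y = 0)
    (h : Hyp p k m a b) : m % 4 = 0 := by
  classical
  have hp := (Fact.out : p.Prime)
  have hp3 : 3 ≤ p := by
    have := hp.two_le
    omega
  obtain ⟨μ, hμdef⟩ : ∃ μ : Multiset ℕ, μ = Multiset.replicate (k - 1) 2 + {3, 1} := ⟨_, rfl⟩
  have hmem : ∀ e ∈ μ, e = 2 ∨ e = 3 ∨ e = 1 := by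
    intro e he
    rw [hμdef, Multiset.mem_add] at he
    rcases he with he | he
    · exact Or.inl (Multiset.eq_of_mem_replicate he)
    · rw [Multiset.insert_eq_cons, Multiset.mem_cons, Multiset.mem_singleton] at he
      exact Or.inr he
  have hμb : ∀ e ∈ μ, 0 < e ∧ e ≤ p := by
    intro e he
    rcases hmem e he with rfl | rfl | rfl <;> omega
  have hk1 : Even (k - 1) := by
    obtain ⟨c, hc⟩ := hk
    exact ⟨c, by omega⟩
  have hpar : ∀ e, Even e → Even (μ.count e) := by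
    intro e he
    have hne3 : e ≠ 3 := by
      rintro rfl
      exact absurd he (by decide)
    have hne1 : e ≠ 1 := by
      rintro rfl
      exact absurd he (by decide)
    rw [hμdef, Multiset.count_add, Multiset.count_replicate, Multiset.insert_eq_cons,
      Multiset.count_cons_of_ne hne3, Multiset.count_singleton, if_neg hne1, add_zero]
    split_ifs
    · exact hk1
    · exact Even.zero
  have hsum : μ.sum = 2 * (k + 1) := by
    rw [hμdef, Multiset.sum_add, Multiset.sum_replicate, Multiset.insert_eq_cons,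
      Multiset.sum_cons, Multiset.sum_singleton, smul_eq_mul]
    obtain ⟨c, hc⟩ := hk
    omega
  obtain ⟨ν, hle, hs, hparν⟩ := key h2 hp2 k m hme hmle a b hab h μ hμb hpar hsum
  have hνsum : ν.sum = ν.count 2 * 2 + (ν.count 3 * 3 + ν.count 1 * 1) := by
    rw [sum_eq_of_support ν {2, 3, 1}, Finset.sum_insert (by decide), Finset.sum_pair (by decide)]
    intro x hx
    have := hmem x (Multiset.mem_of_le hle hx)
    rw [Finset.mem_insert, Finset.mem_insert, Finset.mem_singleton]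
    exact this
  have hc3 : ν.count 3 ≤ 1 := by
    have := Multiset.count_le_of_le 3 hle
    rw [hμdef, Multiset.count_add, Multiset.count_replicate, if_neg (by decide),
      Multiset.insert_eq_cons, Multiset.count_cons_self, Multiset.count_singleton,
      if_neg (by decide)] at this
    exact this
  have hc1 : ν.count 1 ≤ 1 := by
    have := Multiset.count_le_of_le 1 hle
    rw [hμdef, Multiset.count_add, Multiset.count_replicate, if_neg (by decide),
      Multiset.insert_eq_cons, Multiset.count_cons_of_ne (by decide),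
      Multiset.count_singleton_self] at this
    exact this
  obtain ⟨t, ht⟩ := hparν 2 (by decide)
  obtain ⟨m', hm'⟩ := hme
  have h3 : ν.count 3 = 0 ∨ ν.count 3 = 1 := by omega
  have h1 : ν.count 1 = 0 ∨ ν.count 1 = 1 := by omega
  rcases h3 with h3 | h3 <;> rcases h1 with h1 | h1 <;> rw [h3, h1, ht] at hνsum <;> omega

theorem congr_odd (h2 : (2 : F) ≠ 0) (hp2 : p ≠ 2) (k m : ℕ) (hk : Even k) (hk1 : 1 ≤ k)
    (hme : Even m) (a b : F)
    (hab : ∀ x y : F, x ^ 2 + a * x * y + b * y ^ 2 = 0 → x = 0 ∧ y = 0)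
    (h : Hyp p k m a b) : m % 4 = 2 := by
  classical
  have hp := (Fact.out : p.Prime)
  have hp3 : 3 ≤ p := by
    have := hp.two_le
    omega
  obtain ⟨μ, hμdef⟩ : ∃ μ : Multiset ℕ, μ = Multiset.replicate k 2 + {1, 1} := ⟨_, rfl⟩
  have hmem : ∀ e ∈ μ, e = 2 ∨ e = 1 := by
    intro e he
    rw [hμdef, Multiset.mem_add] at he
    rcases he with he | he
    · exact Or.inl (Multiset.eq_of_mem_replicate he)
    · rw [Multiset.insert_eq_cons, Multiset.mem_cons, Multiset.mem_singleton] at he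
      exact Or.inr (by tauto)
  have hμb : ∀ e ∈ μ, 0 < e ∧ e ≤ p := by
    intro e he
    rcases hmem e he with rfl | rfl <;> omega
  have hpar : ∀ e, Even e → Even (μ.count e) := by
    intro e he
    have hne1 : e ≠ 1 := by
      rintro rfl
      exact absurd he (by decide)
    rw [hμdef, Multiset.count_add, Multiset.count_replicate, Multiset.insert_eq_cons,
      Multiset.count_cons_of_ne hne1, Multiset.count_singleton, if_neg hne1, add_zero]
    split_ifs
    · exact hk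
    · exact Even.zero
  have hsum : μ.sum = 2 * (k + 1) := by
    rw [hμdef, Multiset.sum_add, Multiset.sum_replicate, Multiset.insert_eq_cons,
      Multiset.sum_cons, Multiset.sum_singleton, smul_eq_mul]
    omega
  have hodd : ∃ j ∈ μ, Odd j := by
    refine ⟨1, ?_, by decide⟩
    rw [hμdef, Multiset.mem_add]
    exact Or.inr (by simp)
  have hcard : Multiset.card μ ≠ μ.sum := by
    rw [hsum, hμdef, Multiset.card_add, Multiset.card_replicate]
    simp
    omega
  obtain ⟨T, W, hinvQ, hkT, hWfr, hWnp, ν, hle, hs, hparν, hν1, hW1, hνk⟩ :=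
    core h2 hp2 k m a b hab h μ hμb hpar hsum hodd hcard
  have hνsum : ν.sum = ν.count 2 * 2 + ν.count 1 * 1 := by
    rw [sum_eq_of_support ν {2, 1}, Finset.sum_pair (by decide)]
    intro x hx
    have := hmem x (Multiset.mem_of_le hle hx)
    rw [Finset.mem_insert, Finset.mem_singleton]
    exact this
  have hc1 : ν.count 1 ≤ 2 := by
    have := Multiset.count_le_of_le 1 hle
    rw [hμdef, Multiset.count_add, Multiset.count_replicate, if_neg (by decide),
      Multiset.insert_eq_cons, Multiset.count_cons_self,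
      Multiset.count_singleton_self] at this
    exact this
  obtain ⟨t, ht⟩ := hparν 2 (by decide)
  obtain ⟨m', hm'⟩ := hme
  by_cases hc0 : ν.count 1 = 0
  · exfalso
    apply hWnp
    have hall : ∀ x ∈ ν, x = 2 := by
      intro x hx
      rcases hmem x (Multiset.mem_of_le hle hx) with rfl | rfl
      · rfl
      · exact absurd (Multiset.count_eq_zero.1 hc0) (not_not.2 hx)
    have hνrep : ν = Multiset.replicate (Multiset.card ν) 2 := Multiset.eq_replicate_card.2 hall
    have hm2 : m = 2 * Multiset.card ν := by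
      rw [← hs, hνrep, Multiset.sum_replicate, Multiset.card_replicate, smul_eq_mul, mul_comm]
    have hN2 : (T - 1) * (T - 1) = 0 := by
      rw [← pow_two, pow_eq_zero_iff_kap, hkT, Module.finrank_fintype_fun_eq_card,
        (kapm_eq_sum_iff μ 2).2 (fun e he => by rcases hmem e he with rfl | rfl <;> omega), hsum]
      simp
      ring
    obtain ⟨U, hUW, hU0, hUfr⟩ := plus_of_all_two h2 (Cfsg.Agent.Lib.Helper15.minusQFab k a b) T
      (fun x => by
        rw [Cfsg.Agent.Lib.Helper15.minusQFab_eq, Cfsg.Agent.Lib.Helper15.minusQFab_eq]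
        exact hinvQ x) hN2 W hW1 (Multiset.card ν)
      (by rw [hνk 1, kapm_one ν hν1]) (by rw [hWfr, hm2])
    refine ⟨U, hUW, ?_, hUfr⟩
    intro u hu
    rw [← Cfsg.Agent.Lib.Helper15.minusQFab_eq]
    exact hU0 u hu
  · omega


theorem main (hqodd : Odd (Fintype.card F)) (d m : ℕ) (hd : 4 ≤ d) (hme : Even m)
    (hmn : m + 2 ≤ 2 * d) (a b : F)
    (hab : ∀ x y : F, x ^ 2 + a * x * y + b * y ^ 2 = 0 → x = 0 ∧ y = 0)
    (h : Hyp p (d - 1) m a b) :
    ((2 * d) % 4 = m % 4 ∧ (∀ μ : Multiset ℕ, (∀ e ∈ μ, 0 < e ∧ e ≤ p) →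
      (∀ e : ℕ, Even e → Even (μ.count e)) → μ.sum = 2 * d →
        ∃ ν : Multiset ℕ, ν ≤ μ ∧ ν.sum = m ∧ ∀ e : ℕ, Even e → Even (ν.count e))) := by
  classical
  have hp := (Fact.out : p.Prime)
  have h2 : (2 : F) ≠ 0 := Cfsg.Agent.Lib.Helper25.Spin.two_ne_zero_of_odd_card hqodd
  have hp2 : p ≠ 2 := by
    rintro rfl
    exact h2 (CharTwo.two_eq_zero)
  have hdk : 2 * d = 2 * ((d - 1) + 1) := by omega
  refine ⟨?_, ?_⟩
  · rcases Nat.even_or_odd d with hde | hdo
    · have hk : Odd (d - 1) := by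
        obtain ⟨c, hc⟩ := hde
        exact ⟨c - 1, by omega⟩
      have := congr_even h2 hp2 (d - 1) m hk hme (by omega) a b hab h
      obtain ⟨c, hc⟩ := hde
      omega
    · have hk : Even (d - 1) := by
        obtain ⟨c, hc⟩ := hdo
        exact ⟨c, by omega⟩
      have := congr_odd h2 hp2 (d - 1) m hk (by omega) hme a b hab h
      obtain ⟨c, hc⟩ := hdo
      omega
  · intro μ hμ hpar hsum
    exact key h2 hp2 (d - 1) m hme (by omega) a b hab h μ hμ hpar (by rw [hsum, hdk])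

end

/-- A necessary condition for every element of order p of PΩ⁻_n(q), q odd, to fix an elliptic `m`-space. Here `T = PΩ⁻_n(F)`, `n = 2d ≥ 8`, realised through `Ω⁻_n(q)`, the commutator subgroup of the isometry group of `Q = Σ_{i<d−1} xᵢyᵢ + z₁² + a z₁z₂ + b z₂²` with `z₁² + a z₁z₂ + b z₂²` anisotropic, over the field `F` with `q` elements; an element of `T` of prime order `r` is an element `x` of `Ω⁻_n(q)` with `x^r` scalar and `x` not scalar; `q` is odd; a nondegenerate `m`-space (even `m`) is a subspace on which the polar form of `Q` is nondegenerate; it is hyperbolic if it contains an `m/2`-dimensional subspace on which `Q` vanishes, elliptic otherwise. Let `m` be even with `2 ≤ m ≤ n − 2` and suppose `p` divides the number of elliptic `m`-spaces. If every element of `T` of order `p` fixes some elliptic `m`-space, then `n ≡ m (mod 4)` and every partition of `n` into parts of size at most `p` in which every even part has even multiplicity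 contains (as a sub-multiset) a partition of `m` in which every even part has even multiplicity. -/
theorem result {F : Type*} [Field F] [Fintype F] {p : ℕ} [Fact p.Prime] [CharP F p] {q : ℕ} (hq : Fintype.card F = q) (hqodd : Odd q)
    (d m : ℕ) (hd : 4 ≤ d) (hm : 2 ≤ m) (hme : Even m) (hmn : m + 2 ≤ 2 * d) (a b : F) (hab : ∀ x y : F, x ^ 2 + a * x * y + b * y ^ 2 = 0 → x = 0 ∧ y = 0)
    (hpΩ : p ∣ Nat.card {W : Submodule F ((Fin (d - 1) ⊕ Fin (d - 1)) ⊕ Fin 2 → F) // Module.finrank F ↥W = m ∧ Cfsg.Geo.IsNondegenerateOn (QuadraticMap.polar (Cfsg.quadFormMinus (d - 1) F a b)) W ∧ ¬ Cfsg.Geo.IsPlusTypeOn (Cfsg.quadFormMinus (d - 1) F a b) W}) :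
    (∀ x : GL ((Fin (d - 1) ⊕ Fin (d - 1)) ⊕ Fin 2) F, x ∈ Cfsg.Geo.omegaGL (Cfsg.quadFormMinus (d - 1) F a b) →
      (∃ z : F, ((x ^ p : GL ((Fin (d - 1) ⊕ Fin (d - 1)) ⊕ Fin 2) F) : Matrix ((Fin (d - 1) ⊕ Fin (d - 1)) ⊕ Fin 2) ((Fin (d - 1) ⊕ Fin (d - 1)) ⊕ Fin 2) F) = z • (1 : Matrix ((Fin (d - 1) ⊕ Fin (d - 1)) ⊕ Fin 2) ((Fin (d - 1) ⊕ Fin (d - 1)) ⊕ Fin 2) F)) →
      (∀ z : F, (x : Matrix ((Fin (d - 1) ⊕ Fin (d - 1)) ⊕ Fin 2) ((Fin (d - 1) ⊕ Fin (d - 1)) ⊕ Fin 2) F) ≠ z • (1 : Matrix ((Fin (d - 1) ⊕ Fin (d - 1)) ⊕ Fin 2) ((Fin (d - 1) ⊕ Fin (d - 1)) ⊕ Fin 2) F)) →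
      ∃ W : Submodule F ((Fin (d - 1) ⊕ Fin (d - 1)) ⊕ Fin 2 → F), (Module.finrank F ↥W = m ∧ Cfsg.Geo.IsNondegenerateOn (QuadraticMap.polar (Cfsg.quadFormMinus (d - 1) F a b)) W ∧ ¬ Cfsg.Geo.IsPlusTypeOn (Cfsg.quadFormMinus (d - 1) F a b) W) ∧ W.map (Matrix.toLin' (x : Matrix ((Fin (d - 1) ⊕ Fin (d - 1)) ⊕ Fin 2) ((Fin (d - 1) ⊕ Fin (d - 1)) ⊕ Fin 2) F)) ≤ W) →
    ((2 * d) % 4 = m % 4 ∧ (∀ μ : Multiset ℕ, (∀ e ∈ μ, 0 < e ∧ e ≤ p) → (∀ e : ℕ, Even e → Even (μ.count e)) → μ.sum = 2 * d →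
        ∃ ν : Multiset ℕ, ν ≤ μ ∧ ν.sum = m ∧ ∀ e : ℕ, Even e → Even (ν.count e))) := by
  exact main (by rw [hq]; exact hqodd) d m hd hme hmn a b hab

end Cfsg.Agent.S5994
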