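import Cfsg.Statements.S5995
-- import your own Cfsg.Agent.* helpers here
import Cfsg.Agent.Lib.Helper15.UniOmega3
import Cfsg.Agent.Lib.Helper25.SpinForms

set_option autoImplicit false
open scoped MatrixGroups
open Cfsg

namespace Cfsg.Agent.S5995

open Module QuadraticMap Cfsg.Agent.Lib.Helper15.SemisimpleConj
  Cfsg.Agent.Lib.Helper15.NilpotentConj Cfsg.Agent.Lib.Helper15.UniForm
  Cfsg.Agent.Lib.Helper15.UniModels Cfsg.Agent.Lib.Helper15.UniJordan
  Cfsg.Agent.Lib.Helper15.UniOmega Cfsg.Agent.Lib.Helper15.UniOmega2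
  Cfsg.Agent.Lib.Helper15.UniOmega3
open scoped Matrix

universe u

theorem main {F : Type u} [Field F] [Fintype F] {p : ℕ} [Fact p.Prime] [CharP F p]
    (hqodd : Odd (Fintype.card F)) (d m : ℕ) (hd : 3 ≤ d) (hme : Even m) (hmn : m ≤ 2 * d)
    (h : ∀ x : GL (Unit ⊕ (Fin d ⊕ Fin d)) F, x ∈ Cfsg.Geo.omegaGL (Cfsg.quadFormOdd d F) →
      orderOf x = p →
      ∃ W : Submodule F (Unit ⊕ (Fin d ⊕ Fin d) → F),
        (Module.finrank F ↥W = m ∧
          Cfsg.Geo.IsNondegenerateOn (QuadraticMap.polar (Cfsg.quadFormOdd d F)) W ∧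
          Cfsg.Geo.IsPlusTypeOn (Cfsg.quadFormOdd d F) W) ∧
        W.map (Matrix.toLin' (x : Matrix (Unit ⊕ (Fin d ⊕ Fin d)) (Unit ⊕ (Fin d ⊕ Fin d)) F)) ≤
          W) :
    (m % 4 = 0 ∧ (∀ μ : Multiset ℕ, (∀ e ∈ μ, 0 < e ∧ e ≤ p) →
      (∀ e : ℕ, Even e → Even (μ.count e)) → μ.sum = 2 * d + 1 →
        ∃ ν : Multiset ℕ, ν ≤ μ ∧ ν.sum = m ∧ ∀ e : ℕ, Even e → Even (ν.count e))) := by
  classical
  have hp := (Fact.out : p.Prime)
  have h2 : (2 : F) ≠ 0 := Cfsg.Agent.Lib.Helper25.Spin.two_ne_zero_of_odd_card hqodd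
  have hp2 : p ≠ 2 := by
    rintro rfl
    exact h2 (CharTwo.two_eq_zero)
  have hp3 : 3 ≤ p := by
    have := hp.two_le
    omega
  have key : ∀ μ : Multiset ℕ, (∀ e ∈ μ, 0 < e ∧ e ≤ p) →
      (∀ e : ℕ, Even e → Even (μ.count e)) → μ.sum = 2 * d + 1 →
        ∃ ν : Multiset ℕ, ν ≤ μ ∧ ν.sum = m ∧ ∀ e : ℕ, Even e → Even (ν.count e) := by
    intro μ hμ hpar hsum
    have hμ1 : ∀ b ∈ μ, 1 ≤ b := fun b hb => (hμ b hb).1
    by_cases hcard : Multiset.card μ = μ.sum
    · have h1 := eq_replicate_of_card_eq_sum μ hμ1 hcard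
      rw [hcard, hsum] at h1
      refine ⟨Multiset.replicate m 1, ?_, by simp, ?_⟩
      · rw [h1]
        exact (Multiset.replicate_le_replicate 1).2 (by omega)
      · intro e he
        rw [Multiset.count_replicate, if_neg]
        · exact Even.zero
        · rintro rfl
          exact absurd he (by decide)
    · obtain ⟨W₀, _, _, _, T₀, QW, hnd, hinv, hnil, hk⟩ := oU_of_parity h2 μ hμ1 hpar
      have hfr : finrank F W₀ = 2 * d + 1 := by
        rw [finrank_of_kap (T₀ - 1) μ hk hnil, hsum]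
      obtain ⟨Q₀, hQ₀⟩ : ∃ Q₀ : QuadraticForm F (Unit ⊕ (Fin d ⊕ Fin d) → F),
          Q₀ = Cfsg.Agent.Lib.Helper25.Spin.qfOf (Cfsg.Agent.Lib.Helper14.isQF_odd (m := d) h2) :=
        ⟨_, rfl⟩
      have hcoe : ⇑Q₀ = Cfsg.quadFormOdd d F := by rw [hQ₀]; rfl
      have hnd₀ : (polarBilin Q₀).Nondegenerate := by
        rw [hQ₀]
        exact Cfsg.Agent.Lib.Helper25.Spin.qfOf_nondeg _
      have hfr₀ : finrank F (Unit ⊕ (Fin d ⊕ Fin d) → F) = 2 * d + 1 := by
        rw [Module.finrank_fintype_fun_eq_card]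
        simp
        ring
      obtain ⟨c, hc, g, hg⟩ := exists_isometry_scalar h2 QW hnd Q₀ hnd₀ (by rw [hfr, hfr₀])
        (by rw [hfr]; exact ⟨d, rfl⟩)
      obtain ⟨A, hAΩ, hord, hnilA, hkA⟩ := exists_omega_element p hp2 Q₀ hnd₀ μ hμ hcard T₀ hnil hk
        QW hinv c hc g hg
      have hxmem : (A : GL (Unit ⊕ (Fin d ⊕ Fin d)) F) ∈
          Cfsg.Geo.omegaGL (Cfsg.quadFormOdd d F) := by
        rw [← hcoe]
        exact Subgroup.mem_map.2 ⟨A, hAΩ, rfl⟩
      obtain ⟨W, ⟨hWfr, hWnd, -⟩, hWinv⟩ := h _ hxmem hord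
      obtain ⟨-, hinvB⟩ := isometry_facts' Q₀ A
      obtain ⟨ν, hle, hsum', hpar'⟩ := sub_type_of_invariant h2 (polarBilin Q₀)
        (fun x y => by rw [polarBilin_apply_apply, polarBilin_apply_apply, polar_comm])
        (Matrix.toLin' ((A : GL (Unit ⊕ (Fin d ⊕ Fin d)) F) :
          Matrix (Unit ⊕ (Fin d ⊕ Fin d)) (Unit ⊕ (Fin d ⊕ Fin d)) F))
        hinvB hnilA μ hμ1 hkA W hWinv
        (fun w hw hw0 => by
          obtain ⟨x, hx, hxw⟩ := (hWnd w hw hw0).1
          refine ⟨x, hx, ?_⟩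
          rw [polarBilin_apply_apply, hcoe]
          exact hxw)
      exact ⟨ν, hle, by rw [hsum', hWfr], hpar'⟩
  refine ⟨?_, key⟩
  rcases Nat.even_or_odd d with hde | hdo
  · -- n ≡ 1 mod 4
    obtain ⟨ν, hle, hsum, hpar⟩ := key (Multiset.replicate d 2 + {1})
      (by
        intro e he
        rw [Multiset.mem_add, Multiset.mem_replicate, Multiset.mem_singleton] at he
        rcases he with ⟨_, rfl⟩ | rfl <;> omega)
      (by
        intro e he
        rw [Multiset.count_add, Multiset.count_replicate, Multiset.count_singleton]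
        have he1 : e ≠ 1 := by
          rintro rfl
          exact absurd he (by decide)
        rw [if_neg he1, add_zero]
        split_ifs
        · exact hde
        · exact Even.zero)
      (by
        rw [Multiset.sum_add, Multiset.sum_replicate, Multiset.sum_singleton, smul_eq_mul]
        ring)
    exact four_dvd_of_sub ν d 1 m (by decide) hle hsum hme (hpar 2 (by decide))
  · -- n ≡ 3 mod 4
    obtain ⟨k, hk⟩ := hdo
    obtain ⟨ν, hle, hsum, hpar⟩ := key (Multiset.replicate (d - 1) 2 + {3})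
      (by
        intro e he
        rw [Multiset.mem_add, Multiset.mem_replicate, Multiset.mem_singleton] at he
        rcases he with ⟨_, rfl⟩ | rfl <;> omega)
      (by
        intro e he
        rw [Multiset.count_add, Multiset.count_replicate, Multiset.count_singleton]
        have he1 : e ≠ 3 := by
          rintro rfl
          exact absurd he (by decide)
        rw [if_neg he1, add_zero]
        split_ifs
        · exact ⟨k, by omega⟩
        · exact Even.zero)
      (by
        rw [Multiset.sum_add, Multiset.sum_replicate, Multiset.sum_singleton, smul_eq_mul]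
        omega)
    exact four_dvd_of_sub ν (d - 1) 3 m (by decide) hle hsum hme (hpar 2 (by decide))

/-- A necessary condition for every element of order p of Ω_n(q), nq odd, to fix a hyperbolic `m`-space. Here `T = Ω_n(F)`, `n = 2d+1 ≥ 7`, `q` odd, realised as the commutator subgroup of the isometry group of `Q = x₀² + Σ xᵢyᵢ` over the field `F` with `q` elements (trivial centre, so its elements of prime order `r` are used directly); a nondegenerate `m`-space (even `m`) is a subspace on which the polar form of `Q` is nondegenerate; it is hyperbolic if it contains an `m/2`-dimensional subspace on which `Q` vanishes, elliptic otherwise. Let `m` be even with `2 ≤ m ≤ n − 1` and suppose `p` divides the number of hyperbolic `m`-spaces. If every element of `T` of order `p` fixes some hyperbolic `m`-space, then `m ≡ 0 (mod 4)` and every partition of `n` into parts of size at most `p` in which every even part has even multiplicity contains (as a sub-multiset) a partition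 of `m` in which every even part has even multiplicity. -/
theorem result {F : Type*} [Field F] [Fintype F] {p : ℕ} [Fact p.Prime] [CharP F p] {q : ℕ} (hq : Fintype.card F = q) (hqodd : Odd q)
    (d m : ℕ) (hd : 3 ≤ d) (hm : 2 ≤ m) (hme : Even m) (hmn : m ≤ 2 * d)
    (hpΩ : p ∣ Nat.card {W : Submodule F (Unit ⊕ (Fin d ⊕ Fin d) → F) // Module.finrank F ↥W = m ∧ Cfsg.Geo.IsNondegenerateOn (QuadraticMap.polar (Cfsg.quadFormOdd d F)) W ∧ Cfsg.Geo.IsPlusTypeOn (Cfsg.quadFormOdd d F) W}) :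
    (∀ x : GL (Unit ⊕ (Fin d ⊕ Fin d)) F, x ∈ Cfsg.Geo.omegaGL (Cfsg.quadFormOdd d F) → orderOf x = p →
      ∃ W : Submodule F (Unit ⊕ (Fin d ⊕ Fin d) → F), (Module.finrank F ↥W = m ∧ Cfsg.Geo.IsNondegenerateOn (QuadraticMap.polar (Cfsg.quadFormOdd d F)) W ∧ Cfsg.Geo.IsPlusTypeOn (Cfsg.quadFormOdd d F) W) ∧ W.map (Matrix.toLin' (x : Matrix (Unit ⊕ (Fin d ⊕ Fin d)) (Unit ⊕ (Fin d ⊕ Fin d)) F)) ≤ W) →
    (m % 4 = 0 ∧ (∀ μ : Multiset ℕ, (∀ e ∈ μ, 0 < e ∧ e ≤ p) → (∀ e : ℕ, Even e → Even (μ.count e)) → μ.sum = 2 * d + 1 →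
        ∃ ν : Multiset ℕ, ν ≤ μ ∧ ν.sum = m ∧ ∀ e : ℕ, Even e → Even (ν.count e))) := by
  exact main (by rw [hq]; exact hqodd) d m hd hme hmn

end Cfsg.Agent.S5995
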