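import Cfsg.Statements.S5996
-- import your own Cfsg.Agent.* helpers here
import Cfsg.Agent.Lib.Helper15.UniDisc
import Cfsg.Agent.Lib.Helper25.SpinForms

set_option autoImplicit false
open scoped MatrixGroups
open Cfsg

namespace Cfsg.Agent.S5996

open Module QuadraticMap Cfsg.Agent.Lib.Helper15.SemisimpleConj
  Cfsg.Agent.Lib.Helper15.NilpotentConj Cfsg.Agent.Lib.Helper15.UniForm
  Cfsg.Agent.Lib.Helper15.UniModels Cfsg.Agent.Lib.Helper15.UniJordan
  Cfsg.Agent.Lib.Helper15.UniOmega Cfsg.Agent.Lib.Helper15.UniOmega2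
  Cfsg.Agent.Lib.Helper15.UniOmega3 Cfsg.Agent.Lib.Helper15.UniDisc
open scoped Matrix

universe u

theorem main {F : Type u} [Field F] [Fintype F] {p : ℕ} [Fact p.Prime] [CharP F p]
    (hqodd : Odd (Fintype.card F)) (d m : ℕ) (hmd : m < d)
    (h : ∀ x : GL (Fin d ⊕ Fin d) F, x ∈ Cfsg.Geo.omegaGL (Cfsg.quadFormPlus d F) →
      (∃ z : F, ((x ^ p : GL (Fin d ⊕ Fin d) F) : Matrix (Fin d ⊕ Fin d) (Fin d ⊕ Fin d) F) =
        z • (1 : Matrix (Fin d ⊕ Fin d) (Fin d ⊕ Fin d) F)) →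
      (∀ z : F, (x : Matrix (Fin d ⊕ Fin d) (Fin d ⊕ Fin d) F) ≠
        z • (1 : Matrix (Fin d ⊕ Fin d) (Fin d ⊕ Fin d) F)) →
      ∃ W : Submodule F (Fin d ⊕ Fin d → F),
        (Module.finrank F ↥W = m ∧
          Cfsg.Geo.IsNondegenerateOn (QuadraticMap.polar (Cfsg.quadFormPlus d F)) W ∧
          Cfsg.Geo.IsPlusTypeOn (Cfsg.quadFormPlus d F) W) ∧
        W.map (Matrix.toLin' (x : Matrix (Fin d ⊕ Fin d) (Fin d ⊕ Fin d) F)) ≤ W) :
    (∀ μ : Multiset ℕ, (∀ e ∈ μ, 0 < e ∧ e ≤ p) → (∀ e : ℕ, Even e → Even (μ.count e)) →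
      μ.sum = 2 * d →
        ∃ ν : Multiset ℕ, ν ≤ μ ∧ ν.sum = m ∧ ∀ e : ℕ, Even e → Even (ν.count e)) := by
  classical
  have hp := (Fact.out : p.Prime)
  have h2 : (2 : F) ≠ 0 := Cfsg.Agent.Lib.Helper25.Spin.two_ne_zero_of_odd_card hqodd
  have hp2 : p ≠ 2 := by
    rintro rfl
    exact h2 (CharTwo.two_eq_zero)
  intro μ hμ hpar hsum
  have hμ1 : ∀ b ∈ μ, 1 ≤ b := fun b hb => (hμ b hb).1
  by_cases hcard : Multiset.card μ = μ.sum
  · have h1 := eq_replicate_of_card_eq_sum μ hμ1 hcard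
    rw [hcard, hsum] at h1
    refine ⟨Multiset.replicate m 1, ?_, by simp, ?_⟩
    · rw [h1]
      exact (Multiset.replicate_le_replicate 1).2 (by omega)
    · intro e he
      rw [Multiset.count_replicate, if_neg]
      · exact Even.zero
      · rintro rfl
        exact absurd he (by decide)
  · obtain ⟨W₀, _, _, _, T₀, QW, hinv, hnil, hk, g, hg⟩ := exists_plus_model h2 d μ hμ1 hpar hsum
    obtain ⟨Q₀, hQ₀⟩ : ∃ Q₀ : QuadraticForm F (Fin d ⊕ Fin d → F),
        Q₀ = Cfsg.Agent.Lib.Helper15.plusQF d := ⟨_, rfl⟩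
    have hcoe : ⇑Q₀ = Cfsg.quadFormPlus d F := by
      rw [hQ₀]
      funext v
      exact Cfsg.Agent.Lib.Helper15.plusQF_eq d v
    have hnd₀ : (polarBilin Q₀).Nondegenerate := by
      rw [hQ₀]
      exact Cfsg.Agent.Lib.Helper15.QuadType.plusQF_nondegenerate d
    obtain ⟨A, hAΩ, hord, hnilA, hkA⟩ := exists_omega_element p hp2 Q₀ hnd₀ μ hμ hcard T₀ hnil hk
      QW hinv 1 one_ne_zero g (fun x => by rw [one_mul, hQ₀]; exact hg x)
    have hxmem : (A : GL (Fin d ⊕ Fin d) F) ∈ Cfsg.Geo.omegaGL (Cfsg.quadFormPlus d F) := by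
      rw [← hcoe]
      exact Subgroup.mem_map.2 ⟨A, hAΩ, rfl⟩
    have hx1 : ∃ z : F, (((A : GL (Fin d ⊕ Fin d) F) ^ p : GL (Fin d ⊕ Fin d) F) :
        Matrix (Fin d ⊕ Fin d) (Fin d ⊕ Fin d) F) =
        z • (1 : Matrix (Fin d ⊕ Fin d) (Fin d ⊕ Fin d) F) := by
      refine ⟨1, ?_⟩
      rw [← hord, pow_orderOf_eq_one, one_smul, Units.val_one]
    have hx2 : ∀ z : F, ((A : GL (Fin d ⊕ Fin d) F) : Matrix (Fin d ⊕ Fin d) (Fin d ⊕ Fin d) F) ≠
        z • (1 : Matrix (Fin d ⊕ Fin d) (Fin d ⊕ Fin d) F) := by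
      intro z hz
      -- a unipotent scalar is the identity
      obtain ⟨k, hk0⟩ := hnilA
      have h3 : Matrix.toLin' ((A : GL (Fin d ⊕ Fin d) F) :
          Matrix (Fin d ⊕ Fin d) (Fin d ⊕ Fin d) F) - 1 =
          (z - 1) • (1 : End F (Fin d ⊕ Fin d → F)) := by
        rw [hz, map_smul, Matrix.toLin'_one]
        apply LinearMap.ext
        intro v
        simp only [LinearMap.sub_apply, LinearMap.smul_apply, LinearMap.id_apply,
          Module.End.one_apply]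
        rw [sub_smul, one_smul]
      rw [h3, smul_pow, one_pow] at hk0
      have hz1 : z = 1 := by
        by_contra hne
        have h4 : (z - 1) ^ k ≠ 0 := pow_ne_zero _ (sub_ne_zero.2 hne)
        have hd0 : 0 < d := by omega
        have h5 := congrArg (fun X : End F (Fin d ⊕ Fin d → F) =>
          X (Pi.single (Sum.inl ⟨0, hd0⟩) 1) (Sum.inl ⟨0, hd0⟩)) hk0
        simp only [LinearMap.smul_apply, Module.End.one_apply, Pi.smul_apply, Pi.single_eq_same,
          smul_eq_mul, mul_one, LinearMap.zero_apply, Pi.zero_apply] at h5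
        exact h4 h5
      have h6 : (A : GL (Fin d ⊕ Fin d) F) = 1 := by
        apply Units.ext
        rw [hz, hz1, one_smul, Units.val_one]
      rw [h6, orderOf_one] at hord
      exact hp.one_lt.ne hord
    obtain ⟨W, ⟨hWfr, hWnd, -⟩, hWinv⟩ := h _ hxmem hx1 hx2
    obtain ⟨-, hinvB⟩ := isometry_facts' Q₀ A
    obtain ⟨ν, hle, hsum', hpar'⟩ := sub_type_of_invariant h2 (polarBilin Q₀)
      (fun x y => by rw [polarBilin_apply_apply, polarBilin_apply_apply, polar_comm])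
      (Matrix.toLin' ((A : GL (Fin d ⊕ Fin d) F) : Matrix (Fin d ⊕ Fin d) (Fin d ⊕ Fin d) F))
      hinvB hnilA μ hμ1 hkA W hWinv
      (fun w hw hw0 => by
        obtain ⟨x, hx, hxw⟩ := (hWnd w hw hw0).1
        refine ⟨x, hx, ?_⟩
        rw [polarBilin_apply_apply, hcoe]
        exact hxw)
    exact ⟨ν, hle, by rw [hsum', hWfr], hpar'⟩

/-- A necessary condition for every element of order p of PΩ⁺_n(q), q odd, to fix a hyperbolic `m`-space. Here `T = PΩ⁺_n(F)`, `n = 2d ≥ 8`, realised through `Ω⁺_n(q)`, the commutator subgroup of the isometry group of `Q = Σ xᵢyᵢ` over the field `F` with `q` elements; an element of `T` of prime order `r` is an element `x` of `Ω⁺_n(q)` with `x^r` scalar and `x` not scalar; `q` is odd; a nondegenerate `m`-space (even `m`) is a subspace on which the polar form of `Q` is nondegenerate; it is hyperbolic if it contains an `m/2`-dimensional subspace on which `Q` vanishes, elliptic otherwise. Let `m`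 be even with `2 ≤ m < n/2` and suppose `p` divides the number of hyperbolic `m`-spaces. If every element of `T` of order `p` fixes some hyperbolic `m`-space, then every partition of `n` into parts of size at most `p` in which every even part has even multiplicity contains (as a sub-multiset) a partition of `m` in which every even part has even multiplicity. -/
theorem result {F : Type*} [Field F] [Fintype F] {p : ℕ} [Fact p.Prime] [CharP F p] {q : ℕ} (hq : Fintype.card F = q) (hqodd : Odd q)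
    (d m : ℕ) (hd : 4 ≤ d) (hm : 2 ≤ m) (hme : Even m) (hmd : m < d)
    (hpΩ : p ∣ Nat.card {W : Submodule F (Fin d ⊕ Fin d → F) // Module.finrank F ↥W = m ∧ Cfsg.Geo.IsNondegenerateOn (QuadraticMap.polar (Cfsg.quadFormPlus d F)) W ∧ Cfsg.Geo.IsPlusTypeOn (Cfsg.quadFormPlus d F) W}) :
    (∀ x : GL (Fin d ⊕ Fin d) F, x ∈ Cfsg.Geo.omegaGL (Cfsg.quadFormPlus d F) →
      (∃ z : F, ((x ^ p : GL (Fin d ⊕ Fin d) F) : Matrix (Fin d ⊕ Fin d) (Fin d ⊕ Fin d) F) = z • (1 : Matrix (Fin d ⊕ Fin d) (Fin d ⊕ Fin d) F)) →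
      (∀ z : F, (x : Matrix (Fin d ⊕ Fin d) (Fin d ⊕ Fin d) F) ≠ z • (1 : Matrix (Fin d ⊕ Fin d) (Fin d ⊕ Fin d) F)) →
      ∃ W : Submodule F (Fin d ⊕ Fin d → F), (Module.finrank F ↥W = m ∧ Cfsg.Geo.IsNondegenerateOn (QuadraticMap.polar (Cfsg.quadFormPlus d F)) W ∧ Cfsg.Geo.IsPlusTypeOn (Cfsg.quadFormPlus d F) W) ∧ W.map (Matrix.toLin' (x : Matrix (Fin d ⊕ Fin d) (Fin d ⊕ Fin d) F)) ≤ W) →
    (∀ μ : Multiset ℕ, (∀ e ∈ μ, 0 < e ∧ e ≤ p) → (∀ e : ℕ, Even e → Even (μ.count e)) → μ.sum = 2 * d →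
        ∃ ν : Multiset ℕ, ν ≤ μ ∧ ν.sum = m ∧ ∀ e : ℕ, Even e → Even (ν.count e)) := by
  exact main (by rw [hq]; exact hqodd) d m hmd

end Cfsg.Agent.S5996
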