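import Cfsg.Statements.S5998
import Cfsg.Agent.Lib.Helper9.Ext27G

set_option autoImplicit false
open scoped MatrixGroups
open Cfsg

namespace Cfsg.Agent.S5998

open Cfsg.Agent.Lib.Helper9 Cfsg.Agent.Lib.Helper9.Ext27B Cfsg.Agent.Lib.Helper9.Ext27C
  Cfsg.Agent.Lib.Helper9.Ext27D Cfsg.Agent.Lib.Helper9.Ext27E Cfsg.Agent.Lib.Helper9.Ext27F
  Cfsg.Agent.Lib.Helper9.Ext27G

/-- Elements of prime order of PSL_3(p), p ≡ 1 (mod 3), and the normalizer of an extraspecial subgroup of order 27. Here `T = PSL_3(F)` for the field `F` with `p` elements, `p` a prime with `p ≡ 1 (mod 3)`; `R` is a non-abelian subgroup of GL_3(F) of order 27 and exponent 3 (an extraspecial group 3^{1+2}, acting absolutely irreducibly), and `H` is the subgroup of matrices of determinant 1 normalizing `R` — a subgroup of type 3^{1+2}.Sp₂(3) (maximality is not assumed). Ω is the set of cosets of `H` in `T`, so an element of `T` of prime order `r` (a matrix `x` of determinant 1 with `x^r` scalar, `x` not scalar)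 fixes a point of Ω exactly when some conjugate of `x` by a matrix of determinant 1 normalizes `R`. Let `r` be a prime dividing the index of `H`. Then every element of `T` of order `r` fixes a point of Ω if and only if `r = 2`, or `r = 3` and `p ≡ 1 (mod 9)`. -/
theorem result {F : Type*} [Field F] [Fintype F] {p : ℕ} [Fact p.Prime] [CharP F p] (hF : Fintype.card F = p) (hp3 : p % 3 = 1)
    (R : Subgroup (GL (Fin 3) F)) (hR : Nat.card R = 27) (hRe : Monoid.exponent R = 3) (hRna : ¬ IsMulCommutative R)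
    (r : ℕ) [Fact r.Prime]
    (hΩ : r ∣ (Cfsg.Geo.subgroupNormalizer R).relIndex (Cfsg.Geo.specialLinear (Fin 3) F)) :
    (∀ x ∈ Cfsg.Geo.specialLinear (Fin 3) F, (∃ z : F, ((x ^ r : GL (Fin 3) F) : Matrix (Fin 3) (Fin 3) F) = z • (1 : Matrix (Fin 3) (Fin 3) F)) →
      (∀ z : F, (x : Matrix (Fin 3) (Fin 3) F) ≠ z • (1 : Matrix (Fin 3) (Fin 3) F)) →
      ∃ g ∈ Cfsg.Geo.specialLinear (Fin 3) F, g⁻¹ * x * g ∈ Cfsg.Geo.subgroupNormalizer R) ↔ (r = 2 ∨ (r = 3 ∧ p % 9 = 1)) := by
  classical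
  have hpp : p.Prime := Fact.out
  have hrp : r.Prime := Fact.out
  have hp7 : 7 ≤ p := by
    have h2 := hpp.two_le
    by_contra hlt
    push Not at hlt
    interval_cases p <;> first | omega | (exact absurd hpp (by norm_num))
  have h3 : (3 : F) ≠ 0 := by
    intro h
    have h' : ((3 : ℕ) : F) = 0 := by exact_mod_cast h
    rw [CharP.cast_eq_zero_iff F p] at h'
    have := Nat.le_of_dvd (by norm_num) h'
    omega
  have h2 : (2 : F) ≠ 0 := by
    intro h
    have h' : ((2 : ℕ) : F) = 0 := by exact_mod_cast h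
    rw [CharP.cast_eq_zero_iff F p] at h'
    have := Nat.le_of_dvd (by norm_num) h'
    omega
  have h3dvd : 3 ∣ Fintype.card F - 1 := by rw [hF]; omega
  obtain ⟨ω₀, hω₀⟩ := exists_omega h3dvd
  obtain ⟨ω, xg, cg, mg, wg, hω, hxg, hcg, hwg, hwgR, hRcl⟩ :=
    structure_thm h3 ω₀ hω₀ R hR hRe hRna
  have hω3 : ω ^ 3 = 1 := by linear_combination (ω - 1) * hω
  constructor
  · intro H
    by_cases hr2 : r = 2
    · exact Or.inl hr2
    by_cases hr3 : r = 3
    · right
      refine ⟨hr3, ?_⟩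
      by_contra hp9
      have hq : Fintype.card F % 9 = 4 ∨ Fintype.card F % 9 = 7 := by rw [hF]; omega
      have h81 := not_81_dvd hq
      have hRN : R ≤ Cfsg.Geo.subgroupNormalizer R := Subgroup.le_normalizer
      have hRS : R ≤ Cfsg.Geo.specialLinear (Fin 3) F := by
        have hconjdet : ∀ u : GL (Fin 3) F, (u : Matrix (Fin 3) (Fin 3) F).det = 1 →
            mg * u * mg⁻¹ ∈ Cfsg.Geo.specialLinear (Fin 3) F := by
          intro u hu
          have hn : (Cfsg.Geo.specialLinear (Fin 3) F).Normal := by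
            unfold Cfsg.Geo.specialLinear
            infer_instance
          exact hn.conj_mem u ((mem_SL_iff u).mpr hu) mg
        rw [hRcl, Subgroup.closure_le]
        intro g hg
        rcases hg with rfl | rfl
        · exact hconjdet xg (by rw [hxg]; exact det_Xm ω hω3)
        · exact hconjdet cg (by rw [hcg]; exact det_Cm)
      have hΩ' : 3 ∣ (Cfsg.Geo.subgroupNormalizer R).relIndex (Cfsg.Geo.specialLinear (Fin 3) F) := by
        have := hΩ
        rwa [hr3] at this
      exact not_dvd_relIndex R _ _ hR hRN hRS h81 hΩ'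
    · exfalso
      have hr5 : 5 ≤ r := by
        have h2' := hrp.two_le
        by_contra hlt
        push Not at hlt
        interval_cases r
        · exact hr2 rfl
        · exact hr3 rfl
        · exact absurd hrp (by norm_num)
      have hdvd : r ∣ Nat.card (Cfsg.Geo.specialLinear (Fin 3) F) :=
        dvd_trans hΩ (Subgroup.relIndex_dvd_card _ _)
      obtain ⟨x, hxS, hxr, hxns⟩ := cauchy_nonscalar r hr5 hdvd
      obtain ⟨g, hgS, hgN⟩ := H x hxS ⟨1, by rw [hxr, Units.val_one, one_smul]⟩ hxns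
      have hyr : (g⁻¹ * x * g) ^ r = 1 := by
        have : (g⁻¹ * x * g) ^ r = g⁻¹ * x ^ r * g := by
          have := conj_pow (a := g⁻¹) (b := x) (i := r)
          rw [inv_inv] at this
          exact this
        rw [this, hxr, mul_one, inv_mul_cancel]
      obtain ⟨t, ht⟩ := forward_big h3 ω hω R hR xg cg mg wg hxg hcg hwg hwgR hRcl r hr5 _ hgN hyr
      apply hxns t
      have e : g * (g⁻¹ * x * g) = x * g := by group
      have m : ((g * (g⁻¹ * x * g) : GL (Fin 3) F) : Matrix (Fin 3) (Fin 3) F) =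
          ((x * g : GL (Fin 3) F) : Matrix (Fin 3) (Fin 3) F) := by rw [e]
      rw [Units.val_mul, ht, Units.val_mul] at m
      apply cancel_right_unit g
      rw [← m, Matrix.mul_smul, Matrix.smul_mul, mul_one, one_mul]
  · rintro (hr2 | ⟨hr3, hp9⟩)
    · intro x hxS hz hns
      obtain ⟨z, hz⟩ := hz
      have hdet := (mem_SL_iff x).mp hxS
      have hx2 : (x : Matrix (Fin 3) (Fin 3) F) ^ 2 = z • (1 : Matrix (Fin 3) (Fin 3) F) := by
        rw [← hz, hr2, Units.val_pow_eq_pow_val]
      obtain ⟨h, s, hdeth, hxh, hs0⟩ := exists_conj_sq h2 (x : Matrix (Fin 3) (Fin 3) F) hdet z hx2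
        hns (mg : Matrix (Fin 3) (Fin 3) F).det
      obtain ⟨g, hgS, ng, hng, hconj⟩ := transfer x mg h (s • Tm F) hdeth hxh
      refine ⟨g, hgS, ?_⟩
      rw [hconj, hRcl]
      obtain ⟨n1, n2⟩ := norm_T ω hω3 xg cg ng hxg hcg s hng
      exact conj_mem_normalizer xg cg ng mg n1 n2
    · intro x hxS hz hns
      obtain ⟨z, hz⟩ := hz
      have hdet := (mem_SL_iff x).mp hxS
      have hx3 : (x : Matrix (Fin 3) (Fin 3) F) ^ 3 = z • (1 : Matrix (Fin 3) (Fin 3) F) := by
        rw [← hz, hr3, Units.val_pow_eq_pow_val]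
      have h9 : 9 ∣ Fintype.card F - 1 := by rw [hF]; omega
      have hz3 : z ^ 3 = 1 := Ord3A.scalar_cube (x : Matrix (Fin 3) (Fin 3) F) hdet z hx3
      obtain ⟨c₀, hc₀⟩ := exists_cube_root h9 z hz3
      obtain ⟨h, d, s, hdeth, hxh, hs0, hd⟩ := exists_conj_cube h3 ω hω
        (x : Matrix (Fin 3) (Fin 3) F) z c₀ hx3 hc₀ (mg : Matrix (Fin 3) (Fin 3) F).det
      obtain ⟨g, hgS, ng, hng, hconj⟩ := transfer x mg h (s • Matrix.diagonal d) hdeth hxh
      refine ⟨g, hgS, ?_⟩
      rw [hconj, hRcl]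
      obtain ⟨n1, n2⟩ := norm_diag ω hω xg cg ng hxg hcg s d hd hng
      exact conj_mem_normalizer xg cg ng mg n1 n2

end Cfsg.Agent.S5998
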