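import Cfsg.Statements.S5999
import Cfsg.Agent.Lib.Helper9.Uni27E

set_option autoImplicit false
open scoped MatrixGroups
open Cfsg

namespace Cfsg.Agent.S5999

open Cfsg.Agent.Lib.Helper14 Cfsg.Agent.Lib.Helper9.SU3Local Cfsg.Agent.Lib.Helper9.SU3Invol
open Cfsg.Agent.Lib.Helper9 Cfsg.Agent.Lib.Helper9.Uni27A Cfsg.Agent.Lib.Helper9.Uni27B
  Cfsg.Agent.Lib.Helper9.Uni27C Cfsg.Agent.Lib.Helper9.Uni27D Cfsg.Agent.Lib.Helper9.Uni27E
open Cfsg.Agent.Lib.Helper9.Ext27B Cfsg.Agent.Lib.Helper9.Ext27C Cfsg.Agent.Lib.Helper9.Ext27D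
  Cfsg.Agent.Lib.Helper9.Ext27E Cfsg.Agent.Lib.Helper9.Ext27F Cfsg.Agent.Lib.Helper9.Ext27G
  Cfsg.Agent.Lib.Helper9.Ext27H

/-- Elements of prime order of PSU_3(p), p ≡ 2 (mod 3), and the normalizer of an extraspecial subgroup of order 27. Here `T = PSU_3(p)` for a prime `p ≥ 5` with `p ≡ 2 (mod 3)`, realised through `SU_3(p)`, the matrices of determinant 1 over the field `F` with `p²` elements preserving the hermitian form `Σ uᵢvᵢ^p`; `R` is a non-abelian subgroup of order 27 and exponent 3 of the full unitary group of that form (an extraspecial group 3^{1+2}, acting absolutely irreducibly), and `H` is the subgroup of `SU_3(p)` normalizing `R` — a subgroup of type 3^{1+2}.Sp₂(3) (maximality is not assumed). Ω is the set of cosets of `H`, so an element of `T` of prime order `r` (`x ∈ SU_3(p)` with `x^r` scalar, `x` not scalar) fixes a point of Ω exactly when some `SU_3(p)`-conjugate of `x` normalizes `R`. Let `r` be a prime dividing the index of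 `H`. Then every element of `T` of order `r` fixes a point of Ω if and only if `r = 2`, or `r = 3` and `p ≡ 8 (mod 9)`. -/
theorem result {F : Type*} [Field F] [Fintype F] {p : ℕ} [Fact p.Prime] [CharP F p] (hF : Fintype.card F = p ^ 2) (hp : 5 ≤ p) (hp3 : p % 3 = 2)
    (R : Subgroup (GL (Fin 3) F)) (hRU : R ≤ Cfsg.GU 3 F p) (hR : Nat.card R = 27) (hRe : Monoid.exponent R = 3) (hRna : ¬ IsMulCommutative R)
    (r : ℕ) [Fact r.Prime]
    (hΩ : r ∣ (Cfsg.Geo.subgroupNormalizer R).relIndex (Cfsg.GU 3 F p ⊓ Cfsg.Geo.specialLinear (Fin 3) F)) :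
    (∀ x ∈ Cfsg.GU 3 F p ⊓ Cfsg.Geo.specialLinear (Fin 3) F, (∃ z : F, ((x ^ r : GL (Fin 3) F) : Matrix (Fin 3) (Fin 3) F) = z • (1 : Matrix (Fin 3) (Fin 3) F)) →
      (∀ z : F, (x : Matrix (Fin 3) (Fin 3) F) ≠ z • (1 : Matrix (Fin 3) (Fin 3) F)) →
      ∃ g ∈ Cfsg.GU 3 F p ⊓ Cfsg.Geo.specialLinear (Fin 3) F, g⁻¹ * x * g ∈ Cfsg.Geo.subgroupNormalizer R) ↔ (r = 2 ∨ (r = 3 ∧ p % 9 = 8)) := by
  classical
  have hpp : p.Prime := Fact.out
  have hrp : r.Prime := Fact.out
  have hq : Odd p := hpp.odd_of_ne_two (by omega)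
  have h3 : (3 : F) ≠ 0 := by
    intro h
    have h' : ((3 : ℕ) : F) = 0 := by exact_mod_cast h
    rw [CharP.cast_eq_zero_iff F p] at h'
    have := Nat.le_of_dvd (by norm_num) h'
    omega
  have h2 : (2 : F) ≠ 0 := by
    intro h
    have h' : ((2 : ℕ) : F) = 0 := by exact_mod_cast h
    rw [CharP.cast_eq_zero_iff F p] at h'
    have := Nat.le_of_dvd (by norm_num) h'
    omega
  have h3dvd : 3 ∣ Fintype.card F - 1 := by
    rw [hF]
    obtain ⟨k, hk⟩ : ∃ k, p = 3 * k + 2 := ⟨p / 3, by omega⟩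
    have e : p ^ 2 = 3 * (3 * k ^ 2 + 4 * k + 1) + 1 := by rw [hk]; ring
    rw [e, Nat.add_sub_cancel]
    exact Dvd.intro _ rfl
  obtain ⟨ω₀, hω₀⟩ := exists_omega h3dvd
  obtain ⟨ω, xg, cg, mg, wg, hω, hxg, hcg, hwg, hwgR, hmgU, hRcl⟩ :=
    structure_thm_uni hF hp3 h3 ω₀ hω₀ R hRU hR hRe hRna
  have hω3 : ω ^ 3 = 1 := by linear_combination (ω - 1) * hω
  have hSn : (Cfsg.Geo.specialLinear (Fin 3) F).Normal := by
    unfold Cfsg.Geo.specialLinear
    infer_instance
  have hconjSU : ∀ u : GL (Fin 3) F, u ∈ Cfsg.GU 3 F p ⊓ Cfsg.Geo.specialLinear (Fin 3) F →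
      mg * u * mg⁻¹ ∈ Cfsg.GU 3 F p ⊓ Cfsg.Geo.specialLinear (Fin 3) F := by
    intro u hu
    obtain ⟨hu1, hu2⟩ := Subgroup.mem_inf.mp hu
    exact Subgroup.mem_inf.mpr ⟨Subgroup.mul_mem _ (Subgroup.mul_mem _ hmgU hu1)
      (Subgroup.inv_mem _ hmgU), hSn.conj_mem u hu2 mg⟩
  constructor
  · intro H
    by_cases hr2 : r = 2
    · exact Or.inl hr2
    by_cases hr3 : r = 3
    · right
      refine ⟨hr3, ?_⟩
      by_contra hp9
      have hq9 : p % 9 = 2 ∨ p % 9 = 5 := by omega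
      have h81 := not_81_dvd_SU hF hq9
      have hRN : R ≤ Cfsg.Geo.subgroupNormalizer R := Subgroup.le_normalizer
      have hRS : R ≤ Cfsg.Geo.specialLinear (Fin 3) F := by
        have hconjdet : ∀ u : GL (Fin 3) F, (u : Matrix (Fin 3) (Fin 3) F).det = 1 →
            mg * u * mg⁻¹ ∈ Cfsg.Geo.specialLinear (Fin 3) F := by
          intro u hu
          exact hSn.conj_mem u ((mem_SL_iff u).mpr hu) mg
        rw [hRcl, Subgroup.closure_le]
        intro g hg
        rcases hg with rfl | rfl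
        · exact hconjdet xg (by rw [hxg]; exact det_Xm ω hω3)
        · exact hconjdet cg (by rw [hcg]; exact det_Cm)
      have hΩ' : 3 ∣ (Cfsg.Geo.subgroupNormalizer R).relIndex
          (Cfsg.GU 3 F p ⊓ Cfsg.Geo.specialLinear (Fin 3) F) := by
        have := hΩ
        rwa [hr3] at this
      exact not_dvd_relIndex R _ _ hR hRN (le_inf hRU hRS) h81 hΩ'
    · exfalso
      have hr5 : 5 ≤ r := by
        have h2' := hrp.two_le
        by_contra hlt
        push Not at hlt
        interval_cases r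
        · exact hr2 rfl
        · exact hr3 rfl
        · exact absurd hrp (by norm_num)
      have hdvd : r ∣ Nat.card (Cfsg.GU 3 F p ⊓ Cfsg.Geo.specialLinear (Fin 3) F : Subgroup (GL (Fin 3) F)) :=
        dvd_trans hΩ (Subgroup.relIndex_dvd_card _ _)
      obtain ⟨x, hxS, hxr, hxns⟩ := cauchy_nonscalar' _ inf_le_right r hr5 hdvd
      obtain ⟨g, hgS, hgN⟩ := H x hxS ⟨1, by rw [hxr, Units.val_one, one_smul]⟩ hxns
      have hyr : (g⁻¹ * x * g) ^ r = 1 := by
        have : (g⁻¹ * x * g) ^ r = g⁻¹ * x ^ r * g := by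
          have := conj_pow (a := g⁻¹) (b := x) (i := r)
          rw [inv_inv] at this
          exact this
        rw [this, hxr, mul_one, inv_mul_cancel]
      obtain ⟨t, ht⟩ := forward_big h3 ω hω R hR xg cg mg wg hxg hcg hwg hwgR hRcl r hr5 _ hgN hyr
      apply hxns t
      have e : g * (g⁻¹ * x * g) = x * g := by group
      have m : ((g * (g⁻¹ * x * g) : GL (Fin 3) F) : Matrix (Fin 3) (Fin 3) F) =
          ((x * g : GL (Fin 3) F) : Matrix (Fin 3) (Fin 3) F) := by rw [e]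
      rw [Units.val_mul, ht, Units.val_mul] at m
      apply cancel_right_unit g
      rw [← m, Matrix.mul_smul, Matrix.smul_mul, mul_one, one_mul]
  · rintro (hr2 | ⟨hr3, hp9⟩)
    · intro x hxS hz hns
      obtain ⟨z, hz⟩ := hz
      obtain ⟨hxU, hxSL⟩ := Subgroup.mem_inf.mp hxS
      have hdet := (mem_SL_iff x).mp hxSL
      have hx2 : (x : Matrix (Fin 3) (Fin 3) F) ^ 2 = z • (1 : Matrix (Fin 3) (Fin 3) F) := by
        rw [← hz, hr2, Units.val_pow_eq_pow_val]
      have hz3 : z ^ 3 = 1 := by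
        have := congrArg Matrix.det hx2
        rw [Matrix.det_pow, hdet, one_pow, Matrix.det_smul, Matrix.det_one, mul_one,
          Fintype.card_fin] at this
        exact this.symm
      have hz0 : z ≠ 0 := by
        intro h
        rw [h] at hz3
        norm_num at hz3
      have hzi3 : z⁻¹ ^ 3 = 1 := by rw [inv_pow, hz3, inv_one]
      obtain ⟨zg, hzg⟩ : ∃ zg : GL (Fin 3) F,
          (zg : Matrix (Fin 3) (Fin 3) F) = z • (1 : Matrix (Fin 3) (Fin 3) F) :=
        ⟨Matrix.GeneralLinearGroup.mkOfDetNeZero (z • (1 : Matrix (Fin 3) (Fin 3) F)) (by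
          rw [Matrix.det_smul, Matrix.det_one, Fintype.card_fin, hz3, mul_one]
          exact one_ne_zero), rfl⟩
      obtain ⟨zig, hzig⟩ : ∃ zig : GL (Fin 3) F,
          (zig : Matrix (Fin 3) (Fin 3) F) = z⁻¹ • (1 : Matrix (Fin 3) (Fin 3) F) :=
        ⟨Matrix.GeneralLinearGroup.mkOfDetNeZero (z⁻¹ • (1 : Matrix (Fin 3) (Fin 3) F)) (by
          rw [Matrix.det_smul, Matrix.det_one, Fintype.card_fin, hzi3, mul_one]
          exact one_ne_zero), rfl⟩
      have hzz : zig * zg = 1 := by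
        apply Units.ext
        rw [Units.val_mul, hzig, hzg, Matrix.smul_mul, one_mul, smul_smul, inv_mul_cancel₀ hz0,
          one_smul, Units.val_one]
      have hzgSU : zg ∈ Cfsg.GU 3 F p ⊓ Cfsg.Geo.specialLinear (Fin 3) F := by
        refine Subgroup.mem_inf.mpr ⟨?_, ?_⟩
        · rw [mem_GU_iff', hzg]
          exact isUni_smul z (mu3_norm hp3 z hz3) isUni_one
        · rw [mem_SL_iff, hzg, Matrix.det_smul, Matrix.det_one, Fintype.card_fin, hz3, mul_one]
      obtain ⟨tg, htg⟩ : ∃ tg : GL (Fin 3) F, (tg : Matrix (Fin 3) (Fin 3) F) = Tm F :=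
        ⟨Matrix.GeneralLinearGroup.mkOfDetNeZero (Tm F) (by rw [det_Tm]; exact one_ne_zero), rfl⟩
      have htgSU : tg ∈ Cfsg.GU 3 F p ⊓ Cfsg.Geo.specialLinear (Fin 3) F := by
        refine Subgroup.mem_inf.mpr ⟨?_, ?_⟩
        · rw [mem_GU_iff', htg]
          exact isUni_Tm hq
        · rw [mem_SL_iff, htg, det_Tm]
      have haSU : zg * x ∈ Cfsg.GU 3 F p ⊓ Cfsg.Geo.specialLinear (Fin 3) F :=
        Subgroup.mul_mem _ hzgSU hxS
      have hbSU := hconjSU tg htgSU
      have ha2 : (zg * x) * (zg * x) = 1 := by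
        apply Units.ext
        rw [Units.val_mul, Units.val_mul, hzg, Matrix.smul_mul, one_mul, Matrix.smul_mul,
          Matrix.mul_smul, ← pow_two, hx2, smul_smul, smul_smul, Units.val_one]
        rw [show z * z * z = z ^ 3 by ring, hz3, one_smul]
      have ha1 : zg * x ≠ 1 := by
        intro h
        apply hns z⁻¹
        have h' : x = zig := by
          calc x = (zig * zg) * x := by rw [hzz, one_mul]
            _ = zig * (zg * x) := by rw [mul_assoc]
            _ = zig := by rw [h, mul_one]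
        rw [h', hzig]
      have htt : tg * tg = 1 := by
        apply Units.ext
        rw [Units.val_mul, htg, Tm_mul_self, Units.val_one]
      have hb2 : (mg * tg * mg⁻¹) * (mg * tg * mg⁻¹) = 1 := by
        have : (mg * tg * mg⁻¹) * (mg * tg * mg⁻¹) = mg * (tg * tg) * mg⁻¹ := by group
        rw [this, htt, mul_one, mul_inv_cancel]
      have hb1 : mg * tg * mg⁻¹ ≠ 1 := by
        intro h
        have h' : tg = 1 := by
          have : tg = mg⁻¹ * (mg * tg * mg⁻¹) * mg := by group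
          rw [this, h, mul_one, inv_mul_cancel]
        have := congrArg (fun u : GL (Fin 3) F => (u : Matrix (Fin 3) (Fin 3) F) 0 0) h'
        simp only [htg, Units.val_one, Matrix.one_apply_eq] at this
        have h00 : (Tm F) 0 0 = -1 := by
          simp [Tm]
        rw [h00] at this
        apply h2
        linear_combination -this
      obtain ⟨g, hgS, hg⟩ := invol_conj_GL hq hF _ _ haSU hbSU ha2 ha1 hb2 hb1
      refine ⟨g, hgS, ?_⟩
      have hcz := scalar_central zig z⁻¹ hzig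
      have hconj : g⁻¹ * x * g = mg * (zig * tg) * mg⁻¹ := by
        have e1 : x = zig * (zg * x) := by rw [← mul_assoc, hzz, one_mul]
        have e2 : g⁻¹ * x * g = zig * (g⁻¹ * (zg * x) * g) := by
          conv_lhs => rw [e1]
          rw [← mul_assoc g⁻¹, ← hcz g⁻¹]
          simp only [mul_assoc]
        rw [e2, hg, ← mul_assoc, ← mul_assoc, hcz mg]
        simp only [mul_assoc]
      rw [hconj, hRcl]
      have hng : ((zig * tg : GL (Fin 3) F) : Matrix (Fin 3) (Fin 3) F) = z⁻¹ • Tm F := by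
        rw [Units.val_mul, hzig, htg, Matrix.smul_mul, one_mul]
      obtain ⟨n1, n2⟩ := norm_T ω hω3 xg cg (zig * tg) hxg hcg z⁻¹ hng
      exact conj_mem_normalizer xg cg (zig * tg) mg n1 n2
    · intro x hxS hz hns
      obtain ⟨z, hz⟩ := hz
      obtain ⟨hxU, hxSL⟩ := Subgroup.mem_inf.mp hxS
      have hdet := (mem_SL_iff x).mp hxSL
      have hx3 : (x : Matrix (Fin 3) (Fin 3) F) ^ 3 = z • (1 : Matrix (Fin 3) (Fin 3) F) := by
        rw [← hz, hr3, Units.val_pow_eq_pow_val]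
      have h9 : 9 ∣ p + 1 := by omega
      have hz3 : z ^ 3 = 1 := Ord3A.scalar_cube (x : Matrix (Fin 3) (Fin 3) F) hdet z hx3
      obtain ⟨c₀, hc₀, hc₀n⟩ := exists_cube_root_uni hF h9 z hz3
      have hc0 : c₀ ≠ 0 := by
        intro h
        rw [h] at hc₀
        norm_num at hc₀
      have hYU : IsUni F p 3 (c₀ • (x : Matrix (Fin 3) (Fin 3) F)) :=
        isUni_smul c₀ hc₀n ((mem_GU_iff' x).mp hxU)
      have hY3 : (c₀ • (x : Matrix (Fin 3) (Fin 3) F)) ^ 3 = 1 := by
        rw [smul_pow, hx3, smul_smul, hc₀, one_smul]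
      have hδ : (mg : Matrix (Fin 3) (Fin 3) F).det * (mg : Matrix (Fin 3) (Fin 3) F).det ^ p = 1 :=
        det_mul_det_pow_of_orthoN hF _ (orthoN_cols_of_mem_GU hF mg hmgU)
      obtain ⟨H₀, d, hHU, hHdet, hYH, hd⟩ := unitary_diag hF hp3 h3 ω hω hYU hY3 _ hδ
      have hXH : (x : Matrix (Fin 3) (Fin 3) F) * H₀ = H₀ * (c₀⁻¹ • Matrix.diagonal d) := by
        rw [Matrix.mul_smul, ← hYH, Matrix.smul_mul, smul_smul, inv_mul_cancel₀ hc0, one_smul]
      obtain ⟨hg, hhg, hgSL, ng, hng, hconj⟩ :=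
        transfer' x mg H₀ (c₀⁻¹ • Matrix.diagonal d) hHdet hXH
      have hhgU : hg ∈ Cfsg.GU 3 F p := by
        rw [mem_GU_iff', hhg]
        exact hHU
      refine ⟨hg * mg⁻¹, Subgroup.mem_inf.mpr ⟨Subgroup.mul_mem _ hhgU (Subgroup.inv_mem _ hmgU),
        hgSL⟩, ?_⟩
      rw [hconj, hRcl]
      obtain ⟨n1, n2⟩ := norm_diag ω hω xg cg ng hxg hcg c₀⁻¹ d hd hng
      exact conj_mem_normalizer xg cg ng mg n1 n2

end Cfsg.Agent.S5999
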