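import Cfsg.Statements.S6001
import Cfsg.Agent.Lib.Helper12.SU64F
import Cfsg.Agent.Lib.Helper12.SU64I
import Cfsg.Agent.Lib.Helper6.Leaf6001U1
import Cfsg.Agent.Lib.Helper6.Leaf6001U3
import Cfsg.Agent.Lib.Helper6.Leaf6001U4
import Cfsg.Agent.Lib.Helper13.Leaf6001U2
import Cfsg.Agent.Lib.Helper13.Leaf6001U5
import Cfsg.Agent.Lib.Helper13.Leaf6001U6

set_option autoImplicit false
open scoped MatrixGroups
open Cfsg

namespace Cfsg.Agent.S6001

/-- Elements of prime order of PSU_4(p), p ≡ 3 (mod 4), and the normalizer of a 2-group of symplectic type of order 2⁶. Here `T = PSU_4(p)` for a prime `p ≡ 3 (mod 4)`, realised through `SU_4(p)`, the matrices of determinant 1 over the field `F` with `p²` elements preserving the hermitian form `f = Σ uᵢvᵢ^p`; `R` is an absolutely irreducible subgroup of the full unitary group of `f` of order 2⁶ that is a 2-group of symplectic type of exponent 4 with centre of order 4, and `H` is the subgroup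 of `SU_4(p)` normalizing `R` — a subgroup of type 2⁴.Sp₄(2) (maximality is not assumed). Ω is the set of cosets of `H`, so an element of `T` of prime order `r` (`x ∈ SU_4(p)` with `x^r` scalar, `x` not scalar) fixes a point of Ω exactly when some `SU_4(p)`-conjugate of `x` normalizes `R`. Let `r` be a prime dividing the index of `H`. Then every element of `T` of order `r` fixes a point of Ω if and only if `r = 2`, or `r = 3` and `p ≡ 1 (mod 3)`, or `r = 5` and `p ≡ ±2 (mod 5)` (`p` has multiplicative order 4 modulo 5). -/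
theorem result {F : Type*} [Field F] [Fintype F] {p : ℕ} [Fact p.Prime] [CharP F p] (hF : Fintype.card F = p ^ 2) (hp4 : p % 4 = 3)
    (R : Subgroup (GL (Fin 4) F)) (hRs : Cfsg.Geo.IsSymplecticTypeGroup 2 R) (hRi : Cfsg.Geo.ActsAbsolutelyIrreducibly (Cfsg.Geo.matrixSet R))
    (hRU : R ≤ Cfsg.GU 4 F p) (hR6 : Nat.card R = 2 ^ 6) (hRZ : Nat.card (Subgroup.center R) = 4)
    (r : ℕ) [Fact r.Prime]
    (hΩ : r ∣ (Cfsg.Geo.subgroupNormalizer R).relIndex (Cfsg.GU 4 F p ⊓ Cfsg.Geo.specialLinear (Fin 4) F)) :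
    (∀ x ∈ Cfsg.GU 4 F p ⊓ Cfsg.Geo.specialLinear (Fin 4) F, (∃ z : F, ((x ^ r : GL (Fin 4) F) : Matrix (Fin 4) (Fin 4) F) = z • (1 : Matrix (Fin 4) (Fin 4) F)) →
      (∀ z : F, (x : Matrix (Fin 4) (Fin 4) F) ≠ z • (1 : Matrix (Fin 4) (Fin 4) F)) →
      ∃ g ∈ Cfsg.GU 4 F p ⊓ Cfsg.Geo.specialLinear (Fin 4) F, g⁻¹ * x * g ∈ Cfsg.Geo.subgroupNormalizer R) ↔ (r = 2 ∨ (r = 3 ∧ p % 3 = 1) ∨ (r = 5 ∧ orderOf (p : ZMod 5) = 4)) := by
  classical
  have hpp : p.Prime := Fact.out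
  have h2 : (2 : F) ≠ 0 := by
    intro h2
    have h2' : ((2 : ℕ) : F) = 0 := by exact_mod_cast h2
    have hd := (CharP.cast_eq_zero_iff F p 2).1 h2'
    have := (Nat.prime_dvd_prime_iff_eq hpp Nat.prime_two).1 hd
    omega
  have h5 : (5 : F) ≠ 0 := by
    intro h5
    have h5' : ((5 : ℕ) : F) = 0 := by exact_mod_cast h5
    have hd := (CharP.cast_eq_zero_iff F p 5).1 h5'
    have := (Nat.prime_dvd_prime_iff_eq hpp (by norm_num : Nat.Prime 5)).1 hd
    omega
  obtain ⟨i, ζ, h⟩ := Cfsg.Agent.Lib.Helper12.SU64.exists_H64_of_parts h2 R hRs hRi hR6 hRZ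
  letI : Fintype R := Fintype.ofFinite R
  obtain ⟨a1, b1, a2, b2, hs⟩ := h.exists_sym4
  constructor
  · intro H
    exact Cfsg.Agent.Lib.Helper12.SU64.fwd_main_U h hF hp4 r
      (hΩ.trans (Subgroup.relIndex_dvd_card _ _))
      (fun hq => Cfsg.Agent.Lib.Helper13.Leaf6001.U2 hq)
      (fun τ hτ hτp => Cfsg.Agent.Lib.Helper6.Leaf6001.U3 hF h2 h5 τ hτ hτp)
      (fun hp3 => Cfsg.Agent.Lib.Helper6.Leaf6001.U4 hF hp3) H
  · intro hr x hxS hxr _
    exact Cfsg.Agent.Lib.Helper12.SU64.bwd_main_U hF h hs hRU hp4 r hr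
      (fun y lam hu hy hdet => Cfsg.Agent.Lib.Helper6.Leaf6001.U1 hF hp4 y lam hu hy hdet)
      (fun hord y hu hy5 hy1 => Cfsg.Agent.Lib.Helper13.Leaf6001.U5 hF hord y hu hy5 hy1)
      (fun hp3 y hu hy3 => Cfsg.Agent.Lib.Helper13.Leaf6001.U6 hF hp3 y hu hy3)
      x hxS hxr

end Cfsg.Agent.S6001
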