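import Cfsg.Statements.S6002
import Cfsg.Agent.Lib.Helper12.Ex32M
import Cfsg.Agent.Lib.Helper12.Ex32N
import Cfsg.Agent.Lib.Helper12.Ex32R

set_option autoImplicit false
open scoped MatrixGroups
open Cfsg

namespace Cfsg.Agent.S6002

/-- Elements of prime order of PSp_4(p), p odd, and the normalizer of an extraspecial 2-group of order 2⁵ of minus type. Here `T = PSp_4(F)` for the field `F` with `p` elements, `p` an odd prime, realised through the matrices preserving the standard alternating form `f`; `R` is an absolutely irreducible subgroup of `T` (it preserves `f`) that is a 2-group of symplectic type of exponent 4, order 2⁵ and centre of order 2, of minus type (no elementary abelian subgroup of order 2³), and `H` is the subgroup of `T` normalizing `R` — a subgroup of type 2^{1+4}.O₄⁻(2) (maximality is not assumed). Ω is the set of cosets of `H` in `T`, so an element of `T` of prime order `r` (`x ∈ T` with `x^r` scalar, `x` not scalar) fixes a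 point of Ω exactly when some `T`-conjugate of `x` normalizes `R`. Let `r` be a prime dividing the index of `H`. Then every element of `T` of order `r` fixes a point of Ω if and only if `r = 2`, or `r = 5` and `p` has multiplicative order 4 modulo 5. -/
theorem result {F : Type*} [Field F] [Fintype F] {p : ℕ} [Fact p.Prime] [CharP F p] (hF : Fintype.card F = p) (hodd : Odd p)
    (R : Subgroup (GL (Fin 2 ⊕ Fin 2) F)) (hRs : Cfsg.Geo.IsSymplecticTypeGroup 2 R) (hRi : Cfsg.Geo.ActsAbsolutelyIrreducibly (Cfsg.Geo.matrixSet R))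
    (hRf : R ≤ Cfsg.spGL 2 F) (hR5 : Nat.card R = 2 ^ 5) (hRZ : Nat.card (Subgroup.center R) = 2) (hRm : Cfsg.Geo.IsOfMinusType 2 R)
    (r : ℕ) [Fact r.Prime]
    (hΩ : r ∣ (Cfsg.Geo.subgroupNormalizer R).relIndex (Cfsg.spGL 2 F)) :
    (∀ x ∈ Cfsg.spGL 2 F, (∃ z : F, ((x ^ r : GL (Fin 2 ⊕ Fin 2) F) : Matrix (Fin 2 ⊕ Fin 2) (Fin 2 ⊕ Fin 2) F) = z • (1 : Matrix (Fin 2 ⊕ Fin 2) (Fin 2 ⊕ Fin 2) F)) →
      (∀ z : F, (x : Matrix (Fin 2 ⊕ Fin 2) (Fin 2 ⊕ Fin 2) F) ≠ z • (1 : Matrix (Fin 2 ⊕ Fin 2) (Fin 2 ⊕ Fin 2) F)) →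
      ∃ g ∈ Cfsg.spGL 2 F, g⁻¹ * x * g ∈ Cfsg.Geo.subgroupNormalizer R) ↔ (r = 2 ∨ (r = 5 ∧ orderOf (p : ZMod 5) = 4)) := by
  classical
  have hp2 : p ≠ 2 := by
    rintro rfl
    exact absurd hodd (by decide)
  have h2 : (2 : F) ≠ 0 := by
    intro h
    have h3 : ((2 : ℕ) : F) = 0 := by exact_mod_cast h
    rw [CharP.cast_eq_zero_iff F p] at h3
    exact hp2 ((Nat.prime_dvd_prime_iff_eq (Fact.out : p.Prime) Nat.prime_two).1 h3)
  obtain ⟨z, T, hz, h5, hex⟩ :=
    Cfsg.Agent.Lib.Helper12.Ex32.exists_fiveIn R hodd hRs hRi hRf hR5 hRZ hRm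
  constructor
  · intro H
    obtain ⟨n, hn⟩ := Cfsg.Agent.Lib.Helper12.Ex32.card_normalizer_dvd R hRi z T h5
    have hΩ' : r ∣ Nat.card ↥(Cfsg.spGL 2 F) := hΩ.trans (Subgroup.relIndex_dvd_card _ _)
    exact Cfsg.Agent.Lib.Helper12.Ex32.fwd_main R n hn hF r hΩ' H
  · rintro (rfl | ⟨rfl, hq⟩)
    · intro x hx hsq hns
      have hodd' : Odd (Fintype.card F) := by rw [hF]; exact hodd
      exact Cfsg.Agent.Lib.Helper12.Ex32.bwd_two R hodd' hRf z T hz h5 hex x hx hsq hns
    · intro x hx hpow hns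
      have hq' : orderOf ((Fintype.card F : ℕ) : ZMod 5) = 4 := by rw [hF]; exact hq
      exact Cfsg.Agent.Lib.Helper12.Ex32.bwd_five R h2 hq' hRf z T hz h5 x hx hpow hns

end Cfsg.Agent.S6002
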